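import Groth.Statements.S1877
import Mathlib
import Groth.Agent.R2.H53GrpdFF
import Groth.Agent.R2.H33GrpdQuotSch
import Groth.Agent.R2.H33GrpdOrbit
import Groth.Agent.R2.H33GrpdPatch
import Groth.Agent.S7487

set_option autoImplicit false
universe u
open CategoryTheory CategoryTheory.Limits AlgebraicGeometry
open Grpd

namespace Groth.Agent.S1877

section Dev
open Groth.Agent.R2.H53.GrpdRing TensorProduct

theorem main (S : Scheme.{u}) (G : Grpd.GroupoidScheme S) [IsAffine G.U] [IsAffine G.R]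
    [IsFinite G.s] [Flat G.s] [LocallyOfFinitePresentation G.s] [IsFinite G.t] [Flat G.t]
    [LocallyOfFinitePresentation G.t] [Mono G.j] :
    (IsFinite G.toQuot ∧ Flat G.toQuot ∧ LocallyOfFinitePresentation G.toQuot) ∧
      ∃ φ : G.R ≅ pullback G.toQuot G.toQuot,
        φ.hom ≫ pullback.fst G.toQuot G.toQuot = G.t ∧
          φ.hom ≫ pullback.snd G.toQuot G.toQuot = G.s := by
  have hfp := Groth.Agent.S7487.finite_projective S G
  have hsurj := Groth.Agent.R2.H33.GrpdPatch.span_range_t_eq_top G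
  have horb : ∀ p₀ p₁ : Ideal Γ(G.U, ⊤), p₀.IsPrime → p₁.IsPrime →
      p₀.comap G.invariants.subtype = p₁.comap G.invariants.subtype →
      ∃ P : Ideal Γ(G.R, ⊤), P.IsPrime ∧ P.comap G.t.appTop.hom = p₀ ∧
        P.comap G.s.appTop.hom = p₁ := by
    intro p₀ p₁ h0 h1 h
    exact Groth.Agent.R2.H33.GrpdOrbit.exists_prime G p₀ p₁ h
  have hloc := (RGrpd.ofScheme G).local_quasi hfp.1 hfp.2 hsurj horb
  have hA1 : (algebraMap G.invariants Γ(G.U, ⊤)).Finite ∧ (algebraMap G.invariants Γ(G.U, ⊤)).Flat ∧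
      (algebraMap G.invariants Γ(G.U, ⊤)).FinitePresentation := by
    refine Groth.Agent.R2.H33.GrpdPatch.finite_flat_fp_of_local_quasi_basis fun q hq => ?_
    obtain ⟨f, hf, h1, -⟩ := hloc q hq
    exact ⟨f, hf, h1⟩
  let _ : Algebra G.invariants Γ(G.R, ⊤) := (G.s.appTop.hom.comp G.invariants.subtype).toAlgebra
  let τ' : Γ(G.U, ⊤) →ₐ[G.invariants] Γ(G.R, ⊤) := ⟨G.t.appTop.hom, fun c => c.2.symm⟩
  let σ' : Γ(G.U, ⊤) →ₐ[G.invariants] Γ(G.R, ⊤) := ⟨G.s.appTop.hom, fun c => rfl⟩
  let μ := Algebra.TensorProduct.productMap τ' σ'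
  have hμ : ∀ a a', μ (a ⊗ₜ a') = G.t.appTop.hom a * G.s.appTop.hom a' :=
    fun a a' => Algebra.TensorProduct.productMap_apply_tmul _ _ _ _
  have hbij : Function.Bijective μ := by
    refine Groth.Agent.R2.H33.GrpdPatch.bijective_of_local_quasi μ.toLinearMap fun q hq => ?_
    obtain ⟨f, hf, -, h2⟩ := hloc q hq
    let μa : Γ(G.U, ⊤) ⊗[(RGrpd.ofScheme G).inv] Γ(G.U, ⊤) →+ Γ(G.R, ⊤) :=
      μ.toRingHom.toAddMonoidHom
    obtain ⟨k, h3, h4⟩ := h2 μa hμ
    refine ⟨f, hf, k, h3, fun b => ?_⟩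
    obtain ⟨z, hz⟩ := h4 b
    refine ⟨z, ?_⟩
    rw [Algebra.smul_def]
    exact hz
  have hpo := Groth.Agent.R2.H33.GrpdQuotSch.isPushout_of_bijective G μ.toRingHom hμ hbij
  exact Groth.Agent.R2.H33.GrpdQuotSch.finite_flat_quotient_of_isPushout G hA1.1 hA1.2.1 hA1.2.2 hpo

end Dev


/-- Let (U, R, s, t, c) be a groupoid scheme over S with U and R affine, s and t finite locally free,
and j = (t, s) : R → U ×_S U a monomorphism (so an equivalence relation). Then U → M = Spec C is
finite locally free and (t, s) identifies R with U ×_M U. (The source's final clause, that M is the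
fppf quotient sheaf U/R, is not restated.) (A groupoid scheme carries U, R, s, t, c, e, i over S
with the groupoid axioms on T-points; 'finite locally free' is finite, flat and locally of finite
presentation; C ⊂ Γ(U) is the ring of functions a with s♯(a) = t♯(a) and M = Spec C.) -/
theorem result (S : Scheme.{u}) (G : Grpd.GroupoidScheme S) [IsAffine G.U] [IsAffine G.R] [IsFinite G.s] [Flat G.s] [LocallyOfFinitePresentation G.s] [IsFinite G.t] [Flat G.t] [LocallyOfFinitePresentation G.t] [Mono G.j] : (IsFinite G.toQuot ∧ Flat G.toQuot ∧ LocallyOfFinitePresentation G.toQuot) ∧ ∃ φ : G.R ≅ pullback G.toQuot G.toQuot, φ.hom ≫ pullback.fst G.toQuot G.toQuot = G.t ∧ φ.hom ≫ pullback.snd G.toQuot G.toQuot = G.s := by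
  exact main S G

end Groth.Agent.S1877
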