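import Groth.Statements.S7488
import Mathlib
import Groth.Agent.S1877
import Groth.Agent.R2.H33GrpdOrbit
import Groth.Agent.Lib.Helper9QuotSh

set_option autoImplicit false
universe u
open CategoryTheory CategoryTheory.Limits AlgebraicGeometry
open Grpd

namespace Groth.Agent.S7488

section Dev

theorem main (S : Scheme.{u}) (G : Grpd.GroupoidScheme S) [IsAffine G.U] [IsAffine G.R]
    [IsFinite G.s] [Flat G.s] [LocallyOfFinitePresentation G.s] [IsFinite G.t] [Flat G.t]
    [LocallyOfFinitePresentation G.t] [Mono G.j] :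
    ∃! m : Spec (CommRingCat.of G.invariants) ⟶ S, ∃ h : G.toQuot ≫ m = G.pU,
      QuotSh.IsQuotient Scheme.fppfPrecoverage
        (Over.homMk G.s G.s_over : Over.mk G.pR ⟶ Over.mk G.pU)
        (Over.homMk G.t G.t_over : Over.mk G.pR ⟶ Over.mk G.pU)
        (Over.homMk G.toQuot h : Over.mk G.pU ⟶ Over.mk m) := by
  obtain ⟨⟨hfin, hflat, hlfp⟩, φ, hφ1, hφ2⟩ := Groth.Agent.S1877.result S G
  have hsurj : Surjective G.toQuot := ⟨Groth.Agent.R2.H33.GrpdOrbit.toQuot_surjective G⟩
  have hee : EffectiveEpi G.toQuot := inferInstance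
  have hcoeq : G.t ≫ G.toQuot = G.s ≫ G.toQuot := Groth.Agent.R2.H33.GrpdOrbit.t_toQuot G
  have hdesc : ∀ {Z : Scheme.{u}} (g₁ g₂ : Z ⟶ G.U), g₁ ≫ G.toQuot = g₂ ≫ G.toQuot →
      g₁ ≫ G.pU = g₂ ≫ G.pU := by
    intro Z g₁ g₂ h
    obtain ⟨r, h1, h2⟩ : ∃ r : Z ⟶ G.R, r ≫ G.t = g₁ ∧ r ≫ G.s = g₂ := by
      refine ⟨pullback.lift g₁ g₂ h ≫ φ.inv, ?_, ?_⟩
      · rw [Category.assoc, ← hφ1, Iso.inv_hom_id_assoc, pullback.lift_fst]
      · rw [Category.assoc, ← hφ2, Iso.inv_hom_id_assoc, pullback.lift_snd]
    rw [← h1, ← h2, Category.assoc, Category.assoc, G.t_over, G.s_over]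
  let m : Spec (CommRingCat.of G.invariants) ⟶ S := EffectiveEpi.desc G.toQuot G.pU hdesc
  have hm : G.toQuot ≫ m = G.pU := EffectiveEpi.fac G.toQuot G.pU hdesc
  have hepi : Epi G.toQuot := inferInstance
  refine ⟨m, ⟨hm, ?_⟩, ?_⟩
  · let q' : Over.mk G.pU ⟶ Over.mk m := Over.homMk G.toQuot hm
    let s' : Over.mk G.pR ⟶ Over.mk G.pU := Over.homMk G.s G.s_over
    let t' : Over.mk G.pR ⟶ Over.mk G.pU := Over.homMk G.t G.t_over
    have w : s' ≫ q' = t' ≫ q' := by
      apply Over.OverMorphism.ext
      simp only [Over.comp_left, s', t', q', Over.homMk_left]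
      exact hcoeq.symm
    have w' : t'.left ≫ q'.left = s'.left ≫ q'.left := hcoeq
    have : Flat q'.left := hflat
    have : Surjective q'.left := hsurj
    have : LocallyOfFinitePresentation q'.left := hlfp
    have h₂ : Epi (QuotSh.repMap Scheme.fppfPrecoverage q') :=
      Groth.Agent.Lib.Helper9.epi_repMap_fppf q'
    refine Groth.Agent.Lib.Helper9.isQuotient_of_epi_repMap Scheme.fppfPrecoverage s' t' q' w w' h₂ ?_
    have hlift : pullback.lift t'.left s'.left w' = φ.hom := by
      apply pullback.hom_ext
      · rw [pullback.lift_fst]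
        exact hφ1.symm
      · rw [pullback.lift_snd]
        exact hφ2.symm
    have hiso : IsIso (pullback.lift t'.left s'.left w') := by
      rw [hlift]
      infer_instance
    have hiso' : IsIso (Over.homMk (pullback.lift t'.left s'.left w')
      (((Category.assoc _ _ _).symm.trans (congrArg (fun k => k ≫ (Over.mk G.pU).hom)
        (pullback.lift_fst t'.left s'.left w'))).trans (Over.w t')) :
      Over.mk G.pR ⟶ Over.mk (pullback.fst q'.left q'.left ≫ (Over.mk G.pU).hom)) :=
      @isIso_of_reflects_iso _ _ _ _ _ _ _ (Over.forget S) hiso _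
    infer_instance
  · rintro m' ⟨hm', -⟩
    rw [← cancel_epi G.toQuot, hm', hm]

end Dev


/-- Let (U, R, s, t, c) be a groupoid scheme over S with U and R affine, s and t finite locally free,
and j = (t, s) : R -> U x_S U a monomorphism. Let C be the ring of R-invariant functions on U and M
= Spec C. Then the structure morphism U -> S factors uniquely through U -> M, and for the resulting
structure of scheme over S on M, the morphism U -> M represents the quotient sheaf U/R in the fppf
topology: it coequalizes s and t and the induced map from the coequalizer of h_R => h_U (sheaves of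
sets on the big fppf site of S) to h_M is an isomorphism. (The published statement also asserts that
U -> M is finite locally free and that R = U x_M U; this row states only the quotient-sheaf clause.)
(A groupoid scheme carries U, R, s, t, c, e, i over S with the groupoid axioms on T-points; c is
defined on the fibre product of s and t and sends a pair (a, b) with s(a) = t(b) to a composed with
b.) -/
theorem result (S : Scheme.{u}) (G : Grpd.GroupoidScheme S) [IsAffine G.U] [IsAffine G.R] [IsFinite G.s] [Flat G.s] [LocallyOfFinitePresentation G.s] [IsFinite G.t] [Flat G.t] [LocallyOfFinitePresentation G.t] [Mono G.j] : ∃! m : Spec (CommRingCat.of G.invariants) ⟶ S, ∃ h : G.toQuot ≫ m = G.pU, QuotSh.IsQuotient Scheme.fppfPrecoverage (Over.homMk G.s G.s_over : Over.mk G.pR ⟶ Over.mk G.pU) (Over.homMk G.t G.t_over : Over.mk G.pR ⟶ Over.mk G.pU) (Over.homMk G.toQuot h : Over.mk G.pU ⟶ Over.mk m) := by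
  exact main S G

end Groth.Agent.S7488
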