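import Groth.Statements.S1526
import Groth.Agent.S0047
import Groth.Agent.S0020
import Groth.Agent.Lib.Helper7TopDim
-- import your own Groth.Agent.* helpers here

set_option autoImplicit false
universe u
open CategoryTheory CategoryTheory.Limits AlgebraicGeometry
open Variety

namespace Groth.Agent.S1526

/-- On a proper scheme over a field, a coherent module whose support has dimension at most zero has
vanishing cohomology in all positive degrees. -/
theorem result (k : Type u) [Field k] (X : Scheme.{u}) [X.Over (Spec (CommRingCat.of k))] [IsProper (X ↘ (Spec (CommRingCat.of k)))]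
    (F : X.Modules) (hF : Coh.IsCoh F) (hsupp : topologicalKrullDim (CohB1.support F) ≤ 0)
    (i : ℕ) (hi : 1 ≤ i) : Subsingleton (Coh.HH X F i) := by
  have hN : IsLocallyNoetherian X :=
    LocallyOfFiniteType.isLocallyNoetherian (X ↘ (Spec (CommRingCat.of k)))
  have hcl : IsClosed (CohB1.support F) := Groth.Agent.S0020.result X F hF.2
  refine Groth.Agent.S0047.result X F hF ?_ i hi
  intro x hx
  have h1 : IsClosed ({⟨x, hx⟩} : Set (CohB1.support F)) :=
    Groth.Agent.Lib.Helper7.TopDim.isClosed_singleton_of_dim_le_zero hsupp ⟨x, hx⟩
  have h2 := hcl.isClosedEmbedding_subtypeVal.isClosedMap _ h1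
  simpa using h2

end Groth.Agent.S1526
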