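import Groth.Statements.S19779
import Groth.Agent.R2.H18LApproxJ
import Groth.Agent.R2.H18HensLaurent

set_option autoImplicit false
universe u
open Polynomial TensorProduct
open CAlg

namespace Groth.Agent.S19779

/-- For general linear groups, in the case R{t}[1/t] → R((t)), let R be a commutative ring, B = R{t} a
henselization of R[t] along (t), ψ : B → R[[t]] the R[t]-algebra map, L = B[1/t], and L' an
L-algebra identified with R((t)) compatibly with ψ. Then base change along L → L' is a bijection on
isomorphism classes of finitely generated projective modules: two finitely generated projective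
L-modules isomorphic over L' are isomorphic, and every finitely generated projective L'-module is
extended from one over L. (The published statement is the bijection H¹(R{t}[1/t], G) ≅ H¹(R((t)), G)
for every quasi-affine smooth group G; this row is the case of the general linear groups, stated for
finitely generated projective modules of arbitrary rank.) -/
theorem result (R : Type u) [CommRing R]
    (B : Type u) [CommRing B] [Algebra R[X] B] (hB : Hens2.IsPairHenselization R[X] (Ideal.span {(X : R[X])}) B)
    (ψ : B →ₐ[R[X]] PowerSeries R)
    (L' : Type u) [CommRing L'] [Algebra (Localization.Away (algebraMap R[X] B X)) L'] (e : L' ≃+* LaurentSeries R)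
    (he : ∀ b : B, e (algebraMap (Localization.Away (algebraMap R[X] B X)) L' (algebraMap B (Localization.Away (algebraMap R[X] B X)) b)) =
      HahnSeries.ofPowerSeries ℤ R (ψ b)) :
    (∀ (M N : Type u) [AddCommGroup M] [Module (Localization.Away (algebraMap R[X] B X)) M] [Module.Finite (Localization.Away (algebraMap R[X] B X)) M] [Module.Projective (Localization.Away (algebraMap R[X] B X)) M]
        [AddCommGroup N] [Module (Localization.Away (algebraMap R[X] B X)) N] [Module.Finite (Localization.Away (algebraMap R[X] B X)) N] [Module.Projective (Localization.Away (algebraMap R[X] B X)) N],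
        Nonempty (L' ⊗[Localization.Away (algebraMap R[X] B X)] M ≃ₗ[L'] L' ⊗[Localization.Away (algebraMap R[X] B X)] N) → Nonempty (M ≃ₗ[Localization.Away (algebraMap R[X] B X)] N)) ∧
    (∀ (M' : Type u) [AddCommGroup M'] [Module L' M'] [Module.Finite L' M'] [Module.Projective L' M'],
        ∃ (M : Type u) (_ : AddCommGroup M) (_ : Module (Localization.Away (algebraMap R[X] B X)) M),
          Module.Finite (Localization.Away (algebraMap R[X] B X)) M ∧ Module.Projective (Localization.Away (algebraMap R[X] B X)) M ∧
          Nonempty (L' ⊗[Localization.Away (algebraMap R[X] B X)] M ≃ₗ[L'] M')) := by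
  classical
  -- `e ∘ algebraMap = toLaurent ψ`
  have hcomp : ∀ x : Localization.Away (algebraMap R[X] B X),
      e (algebraMap (Localization.Away (algebraMap R[X] B X)) L' x) =
        Groth.Agent.R2.H18.HensLaurent.toLaurent ψ x := by
    intro x
    have h := IsLocalization.ringHom_ext (Submonoid.powers (algebraMap R[X] B X))
      (j := (e.toRingHom).comp (algebraMap (Localization.Away (algebraMap R[X] B X)) L'))
      (k := Groth.Agent.R2.H18.HensLaurent.toLaurent ψ) (by
        ext b
        simp only [RingHom.coe_comp, Function.comp_apply, RingEquiv.toRingHom_eq_coe, RingHom.coe_coe]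
        rw [he b, Groth.Agent.R2.H18.HensLaurent.toLaurent_algebraMap])
    exact congrArg (fun k => k x) h
  have he' : ∀ p : R[X], e (algebraMap (Localization.Away (algebraMap R[X] B X)) L'
      (algebraMap R[X] (Localization.Away (algebraMap R[X] B X)) p)) =
      HahnSeries.ofPowerSeries ℤ R (Polynomial.coeToPowerSeries.ringHom p) := by
    intro p
    rw [IsScalarTower.algebraMap_apply R[X] B _ p, he, Groth.Agent.R2.H18.HensLaurent.psi_algebraMap]
    rfl
  have hunit : ∀ x : Localization.Away (algebraMap R[X] B X),
      algebraMap (Localization.Away (algebraMap R[X] B X)) L' x ∈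
        Groth.Agent.R2.H18.LApprox.intSubring L' e →
      IsUnit (1 + algebraMap R[X] (Localization.Away (algebraMap R[X] B X)) X * x) := by
    intro x hx
    obtain ⟨f, hf⟩ := hx
    rw [Groth.Agent.R2.H18.HensLaurent.algebraMap_X_eq]
    exact Groth.Agent.R2.H18.HensLaurent.isUnit_one_add_mul hB ψ x f ((hcomp x).symm.trans hf.symm)
  set D := Groth.Agent.R2.H18.LApprox.approxDataG (Localization.Away (algebraMap R[X] B X)) L' e he'
    (IsLocalization.Away.invSelf (algebraMap R[X] B X))
    (by rw [Groth.Agent.R2.H18.HensLaurent.algebraMap_X_eq]; exact IsLocalization.Away.mul_invSelf _)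
    hunit with hD
  haveI : HenselianRing B (Ideal.span {algebraMap R[X] B X}) := by
    have := hB.1
    rwa [Ideal.map_span, Set.image_singleton] at this
  have hens : Groth.Agent.R2.H18.LApprox.HensM D :=
    Groth.Agent.R2.H18.LApprox.hensM_of_henselian (algebraMap R[X] B X) D
      Groth.Agent.R2.H18.HensLaurent.algebraMap_X_eq
      (fun x hx => by
        obtain ⟨f, hf⟩ := hx
        exact Groth.Agent.R2.H18.HensLaurent.exists_eq_algebraMap_of_integral hB ψ x f
          ((hcomp x).symm.trans hf.symm))
      (fun b => ⟨ψ b, (he b).symm⟩)
  refine ⟨?_, ?_⟩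
  · intro M N _ _ _ _ _ _ _ _ hMN
    obtain ⟨φ⟩ := hMN
    exact Groth.Agent.R2.H18.LApprox.nonempty_equiv_of_baseChange D φ
  · intro M' _ _ _ _
    exact Groth.Agent.R2.H18.LApprox.exists_projective_lift D hens M'

end Groth.Agent.S19779
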