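import Groth.Statements.S14482
import Groth.Agent.Lib.Helper4DimFormulaAR
import Groth.Agent.Lib.Helper4FibDimK
import Groth.Agent.Lib.Helper4VarDim8

set_option autoImplicit false
set_option linter.style.haveILetI false
universe u
open CategoryTheory AlgebraicGeometry
open CharCyc

namespace Groth.Agent.S14482

open Groth.Agent.Lib.Helper4.VarDim Groth.Agent.Lib.Helper4.FibDim
  Groth.Agent.Lib.Helper4.DimFormula Topology

/-- `dim T + a ≤ n` from the pointwise bound, for a locally closed subset of a scheme locally of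
finite type over a field. -/
theorem dim_add_le (k : Type u) [Field k] (X : Scheme.{u}) [X.Over (Spec (CommRingCat.of k))]
    [LocallyOfFiniteType (X ↘ Spec (CommRingCat.of k))] (T : Set X) (hT : IsLocallyClosed T)
    (a n : ℕ) (h : ∀ t ∈ T, trdegNat k X t + a ≤ n) :
    topologicalKrullDim T + (a : WithBot ℕ∞) ≤ n := by
  by_cases hne : T = ∅
  · rw [hne, topologicalKrullDim_eq_bot_of_isEmpty]
    simp
  · obtain ⟨t₀, ht₀⟩ := Set.nonempty_iff_ne_empty.mpr hne
    have han : a ≤ n := by have := h t₀ ht₀; omega
    haveI := quasiSober_of_isLocallyClosed T hT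
    have h1 : topologicalKrullDim T ≤ ((n - a : ℕ) : WithBot ℕ∞) := by
      refine topologicalKrullDim_le_of_forall_trdegNat_le k X T _ fun t ht => ?_
      have := h t ht
      have h2 : trdegNat k X t ≤ n - a := by omega
      exact_mod_cast h2
    calc topologicalKrullDim T + (a : WithBot ℕ∞)
        ≤ ((n - a : ℕ) : WithBot ℕ∞) + (a : WithBot ℕ∞) := by gcongr
      _ = (n : WithBot ℕ∞) := by
        have : n - a + a = n := by omega
        exact_mod_cast this

/-- pointwise bound from `dim T + a ≤ n`. -/
theorem trdegNat_add_le (k : Type u) [Field k] (X : Scheme.{u}) [X.Over (Spec (CommRingCat.of k))]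
    [LocallyOfFiniteType (X ↘ Spec (CommRingCat.of k))] (T : Set X) (hT : IsLocallyClosed T)
    (a n : ℕ) (h : topologicalKrullDim T + (a : WithBot ℕ∞) ≤ n) (t : X) (ht : t ∈ T) :
    trdegNat k X t + a ≤ n := by
  have h1 := trdegNat_le_topologicalKrullDim_of_isLocallyClosed k X T hT t ht
  have h3 : ((trdegNat k X t : ℕ) : WithBot ℕ∞) + (a : WithBot ℕ∞) ≤ n :=
    le_trans (by gcongr) h
  exact_mod_cast h3

/-- Second assertion: let k be a field, let π : C → X be a morphism between k-schemes of finite type
such that every irreducible component of C has dimension n, let ι : W → X be a regular immersion of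
codimension c, and for j ≥ 0 let B_j ⊆ X be the set of points whose fibre under π has dimension at
least j. Assume that every B_j is closed in X. Then dim B_j + j ≤ n for every j, and the condition
dim π⁻¹(ι(W)) + c ≤ n (that is, dim C ×_X W ≤ n − c) holds if and only if dim ι⁻¹(B_j) + c + j ≤ n
for every j (that is, ι meets the sequence (B_j) n-semi-properly). Dimensions are topological Krull
dimensions of subspaces, the empty space having dimension ⊥. (Stated for each of the four kinds of
regular immersion of codimension c — regular, Koszul-regular, H₁-regular, quasi-regular; the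
published statement does not distinguish kinds.) -/
theorem result (k : Type u) [Field k] (C X W : Scheme.{u})
    (q : X ⟶ Spec (CommRingCat.of k)) (π : C ⟶ X) (ι : W ⟶ X)
    [LocallyOfFiniteType q] [CompactSpace X] [LocallyOfFiniteType π] [CompactSpace C]
    (κ : RegImm.Kind) (n c : ℕ) (hι : RegImm.IsRegularImmersionOfCodim κ c ι)
    (hC : ∀ P ∈ irreducibleComponents (C : Type u), topologicalKrullDim P = n)
    (hB : ∀ j : ℕ, IsClosed {x : X | (j : WithBot ℕ∞) ≤ topologicalKrullDim (π.fiber x)}) :
    (∀ j : ℕ, topologicalKrullDim {x : X | (j : WithBot ℕ∞) ≤ topologicalKrullDim (π.fiber x)} + (j : WithBot ℕ∞) ≤ n) ∧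
      (topologicalKrullDim (π ⁻¹' Set.range ι : Set C) + (c : WithBot ℕ∞) ≤ n ↔
        ∀ j : ℕ, topologicalKrullDim (ι ⁻¹' {x : X | (j : WithBot ℕ∞) ≤ topologicalKrullDim (π.fiber x)} : Set W) + (c : WithBot ℕ∞) + (j : WithBot ℕ∞) ≤ n) := by
  letI : X.Over (Spec (CommRingCat.of k)) := ⟨q⟩
  haveI : LocallyOfFiniteType (X ↘ Spec (CommRingCat.of k)) := ‹LocallyOfFiniteType q›
  letI : C.Over (Spec (CommRingCat.of k)) := ⟨π ≫ q⟩
  haveI : LocallyOfFiniteType (C ↘ Spec (CommRingCat.of k)) :=
    inferInstanceAs (LocallyOfFiniteType (π ≫ q))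
  haveI : IsImmersion ι := hι.1
  letI : W.Over (Spec (CommRingCat.of k)) := ⟨ι ≫ q⟩
  haveI : LocallyOfFiniteType (W ↘ Spec (CommRingCat.of k)) :=
    inferInstanceAs (LocallyOfFiniteType (ι ≫ q))
  have hπ : π ≫ (X ↘ Spec (CommRingCat.of k)) = (C ↘ Spec (CommRingCat.of k)) := rfl
  have hιq : ι ≫ (X ↘ Spec (CommRingCat.of k)) = (W ↘ Spec (CommRingCat.of k)) := rfl
  set B : ℕ → Set X := fun j => {x : X | (j : WithBot ℕ∞) ≤ topologicalKrullDim (π.fiber x)}
    with hBdef
  set R : Set C := π ⁻¹' Set.range ι with hRdef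
  have hRlc : IsLocallyClosed R := ι.isLocallyClosed_range.preimage π.continuous
  -- (i) additivity
  have hadd : ∀ t : C, trdegNat k C t = trdegNat k X (π t) + ptTrdeg π t :=
    fun t => trdegNat_eq_add_ptTrdeg k π hπ t
  have haddW : ∀ w : W, trdegNat k W w = trdegNat k X (ι w) := fun w => by
    have := trdegNat_eq_add_ptTrdeg k ι hιq w
    rw [ptTrdeg_eq_zero_of_isPreimmersion ι w, add_zero] at this
    exact this
  -- (ii) points of large fibre dimension
  have hex : ∀ (j : ℕ) (x : X), x ∈ B j → ∃ t : C, π t = x ∧ j ≤ ptTrdeg π t := by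
    intro j x hx
    obtain ⟨z, hz⟩ := exists_fiber_point_trdegNat_ge π x j hx
    refine ⟨π.fiberι x z, (π.fiberHomeo x z).2, ?_⟩
    rwa [trdegNat_eq_ptTrdeg π x z] at hz
  -- (iii)
  have hmemB : ∀ t : C, π t ∈ B (ptTrdeg π t) := by
    intro t
    show ((ptTrdeg π t : ℕ) : WithBot ℕ∞) ≤ topologicalKrullDim (π.fiber (π t))
    exact (natCast_le_topologicalKrullDim_fiber_iff π (π t) (ptTrdeg π t)).mpr
      ⟨t, rfl, ptTrdeg_le_fibreDimAt π t⟩
  -- (iv)
  have hle : ∀ t : C, trdegNat k C t ≤ n := by
    intro t
    obtain ⟨P, hP, htP⟩ := exists_mem_irreducibleComponents_subset_of_isIrreducible ({t} : Set C)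
      isIrreducible_singleton
    have h1 := trdegNat_le_topologicalKrullDim_of_isLocallyClosed k C P
      (isClosed_of_mem_irreducibleComponents P hP).isLocallyClosed t (htP rfl)
    rw [hC P hP] at h1
    exact_mod_cast h1
  refine ⟨?_, ?_⟩
  · intro j
    refine dim_add_le k X (B j) (hB j).isLocallyClosed j n ?_
    intro x hx
    obtain ⟨t, rfl, hj⟩ := hex j x hx
    have := hadd t
    have := hle t
    omega
  · constructor
    · intro h j
      have hcl : IsClosed (ι ⁻¹' B j : Set W) := (hB j).preimage ι.continuous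
      have hpt : ∀ w ∈ (ι ⁻¹' B j : Set W), trdegNat k W w + (c + j) ≤ n := by
        intro w hw
        obtain ⟨t, ht, hj⟩ := hex j (ι w) hw
        have htR : t ∈ R := ⟨w, ht.symm⟩
        have h1 := trdegNat_add_le k C R hRlc c n h t htR
        have h2 := hadd t
        rw [ht] at h2
        have h3 := haddW w
        omega
      have := dim_add_le k W (ι ⁻¹' B j) hcl.isLocallyClosed (c + j) n hpt
      rw [add_assoc]
      exact_mod_cast this
    · intro h
      refine dim_add_le k C R hRlc c n ?_
      rintro t ⟨w, hw⟩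
      set j := ptTrdeg π t with hj
      have hwB : w ∈ (ι ⁻¹' B j : Set W) := by
        show ι w ∈ B j
        rw [hw]
        exact hmemB t
      have hcl : IsClosed (ι ⁻¹' B j : Set W) := (hB j).preimage ι.continuous
      have hj' : topologicalKrullDim (ι ⁻¹' B j : Set W) + ((c + j : ℕ) : WithBot ℕ∞) ≤ n := by
        have := h j
        rw [add_assoc] at this
        exact_mod_cast this
      have h1 := trdegNat_add_le k W (ι ⁻¹' B j) hcl.isLocallyClosed (c + j) n hj' w hwB
      have h2 := hadd t
      rw [← hw] at h2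
      have h3 := haddW w
      omega

end Groth.Agent.S14482
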