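import Groth.Statements.S0026
import Mathlib
import Groth.Agent.R2.H12DevH
import Groth.Agent.S0046
-- import your own Groth.Agent.* helpers here

set_option autoImplicit false
universe u
open Coherent

namespace Groth.Agent.S0026

open AlgebraicGeometry CategoryTheory CategoryTheory.Limits in
/-- On a Noetherian scheme X, every coherent module M admits a finite chain 0 = F_0 → F_1 → … → F_m ≅ M
of monomorphisms between coherent modules such that each quotient F_{j+1}/F_j is isomorphic to the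
direct image of a nonzero quasi-coherent ideal sheaf of some integral closed subscheme Z_j → X.
(Filtration written as a chain of monomorphisms up to isomorphism.) -/
theorem result (X : Scheme.{u}) [IsNoetherian X]
    (M : X.Modules) (hM : Coh.IsCoh M) :
    ∃ (m : ℕ) (F : ℕ → X.Modules) (φ : (j : ℕ) → (F j ⟶ F (j + 1))),
      IsZero (F 0) ∧ Nonempty (F m ≅ M) ∧ (∀ j ≤ m, Coh.IsCoh (F j)) ∧ ∀ j < m, Mono (φ j) ∧
        ∃ (Z : Scheme.{u}) (i : Z ⟶ X), IsClosedImmersion i ∧ IsIntegral Z ∧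
          ∃ (I : Z.Modules) (ι : I ⟶ Coh.structureModule Z), Mono ι ∧ Coh.IsQCoh I ∧ ¬ IsZero I ∧
            Nonempty (cokernel (φ j) ≅ (Coh.push i).obj I) := by
  classical
  have hex := Groth.Agent.R2.H12.Dev.exists_chain_eq_top hM
  have hm : Groth.Agent.R2.H12.Dev.chain hM (Nat.find hex) = ⊤ := Nat.find_spec hex
  have hlt : ∀ j < Nat.find hex, Groth.Agent.R2.H12.Dev.chain hM j ≠ ⊤ := fun j hj => Nat.find_min hex hj
  refine ⟨Nat.find hex, fun j => (Groth.Agent.R2.H12.Dev.chain hM j : X.Modules),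
    fun j => (Groth.Agent.R2.H12.Dev.chain hM j).ofLE _ (Groth.Agent.R2.H12.Dev.chain_le_succ hM j),
    Groth.Agent.R2.H12.Dev.isZero_bot M, ?_, ?_, ?_⟩
  · have : IsIso (Groth.Agent.R2.H12.Dev.chain hM (Nat.find hex)).arrow :=
      (Subobject.isIso_arrow_iff_eq_top _).2 hm
    exact ⟨asIso (Groth.Agent.R2.H12.Dev.chain hM (Nat.find hex)).arrow⟩
  · intro j _
    exact Groth.Agent.S0046.result X M _ (Groth.Agent.R2.H12.Dev.chain hM j).arrow hM
      (Groth.Agent.R2.H12.Dev.qcoh_chain hM j)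
  · intro j hj
    obtain ⟨hle, -, Z, i, hi, hZ, I, ι, hι, hIq, hI0, ⟨e⟩⟩ :=
      Groth.Agent.R2.H12.Dev.chain_isStep hM j (hlt j hj)
    exact ⟨inferInstance, Z, i, hi, hZ, I, ι, hι, hIq, hI0, ⟨e⟩⟩

end Groth.Agent.S0026
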