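import Groth.Statements.S0027
import Mathlib
import Groth.Agent.S0026
import Groth.Agent.R2.H5CohThick
-- import your own Groth.Agent.* helpers here

set_option autoImplicit false
universe u
open Coherent

namespace Groth.Agent.S0027

open AlgebraicGeometry CategoryTheory CategoryTheory.Limits in
/-- Let X be a nonempty Noetherian scheme and P an isomorphism-invariant property of O_X-modules such
that (1) in a short exact sequence of coherent modules, P for the two outer terms implies P for the
middle term, and (2) P holds for the direct image of every quasi-coherent ideal sheaf of every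
integral closed subscheme of X. Then P holds for every coherent O_X-module. (Nonemptiness of X is
needed for the zero module; the published statement leaves it implicit.) -/
theorem result (X : Scheme.{u}) [IsNoetherian X] [Nonempty X]
    (P : X.Modules → Prop) (hP : ∀ M N : X.Modules, Nonempty (M ≅ N) → P M → P N)
    (h₁ : ∀ S : ShortComplex X.Modules, S.ShortExact → Coh.IsCoh S.X₁ → Coh.IsCoh S.X₂ →
      Coh.IsCoh S.X₃ → P S.X₁ → P S.X₃ → P S.X₂)
    (h₂ : ∀ (Z : Scheme.{u}) (i : Z ⟶ X), IsClosedImmersion i → IsIntegral Z →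
      ∀ (I : Z.Modules) (ι : I ⟶ Coh.structureModule Z), Mono ι → Coh.IsQCoh I →
        P ((Coh.push i).obj I))
    (M : X.Modules) (hM : Coh.IsCoh M) : P M := by
  -- `P` holds for zero objects
  have hP0 : ∀ A : X.Modules, IsZero A → P A := by
    intro A hA
    have hO : Coh.IsCoh (Coh.structureModule X) := Groth.Agent.R2.H5.CohThick.isCoh_structureModule X
    have hO0 : ¬ IsZero (Coh.structureModule X) := by
      intro hz
      have hne : Nonempty ((⊤ : X.Opens) : Set X) := ⟨⟨Classical.arbitrary X, trivial⟩⟩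
      have hne' : Nonempty (⊤ : X.Opens) := hne
      have hnt : Nontrivial Γ(X, ⊤) := inferInstance
      have h0 : (1 : Γ(X, ⊤)) = 0 :=
        Groth.Agent.Lib.Helper23.ModLocal.eq_zero_of_isZero hz ⊤ (1 : Γ(X, ⊤))
      exact one_ne_zero h0
    obtain ⟨Z, i, hi, hZ, -⟩ := Groth.Agent.R2.H12.Dev.key_lemma X _ hO hO0
    have hOZq : (Coh.structureModule Z).IsQuasicoherent :=
      Groth.Agent.R2.H5.CohThick.isQuasicoherent_structureModule Z
    have hIq : (kernel (𝟙 (Coh.structureModule Z))).IsQuasicoherent :=
      Groth.Agent.Lib.Helper23.QCohLocal.isQuasicoherent_kernel _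
    have hI0 : IsZero (kernel (𝟙 (Coh.structureModule Z))) := isZero_kernel_of_mono _
    have h := h₂ Z i hi hZ (kernel (𝟙 (Coh.structureModule Z))) (kernel.ι _) inferInstance hIq
    exact hP _ _ ⟨((Coh.push i).map_isZero hI0).iso hA⟩ h
  obtain ⟨m, F, φ, hF0, ⟨e⟩, hFc, hstep⟩ := Groth.Agent.S0026.result X M hM
  have key : ∀ j, j ≤ m → P (F j) := by
    intro j
    induction j with
    | zero => intro _; exact hP0 _ hF0
    | succ j ih =>
      intro hj
      have hjm : j < m := hj
      obtain ⟨hmono, Z, i, hi, hZ, I, ι, hι, hIq, hI0, ⟨ec⟩⟩ := hstep j hjm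
      have hc1 : Coh.IsCoh (F j) := hFc j (le_of_lt hjm)
      have hc2 : Coh.IsCoh (F (j + 1)) := hFc (j + 1) hj
      have hq1 : (F j).IsQuasicoherent := hc1.1
      have hq2 : (F (j + 1)).IsQuasicoherent := hc2.1
      have hf2 : SheafOfModules.IsFiniteType (R := X.ringCatSheaf) (F (j + 1)) := hc2.2
      have hq3 : (cokernel (φ j)).IsQuasicoherent :=
        Groth.Agent.Lib.Helper23.QCohLocal.isQuasicoherent_cokernel (φ j)
      have hc3 : Coh.IsCoh (cokernel (φ j)) :=
        ⟨hq3, Groth.Agent.Lib.Helper23.FinType.isFiniteType_of_epi (cokernel.π (φ j))⟩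
      have hS : (ShortComplex.mk (φ j) (cokernel.π (φ j)) (cokernel.condition _)).ShortExact :=
        ShortComplex.ShortExact.mk' (ShortComplex.exact_cokernel (φ j)) hmono inferInstance
      exact h₁ _ hS hc1 hc2 hc3 (ih (le_of_lt hjm)) (hP _ _ ⟨ec.symm⟩ (h₂ Z i hi hZ I ι hι hIq))
  exact hP _ _ ⟨e⟩ (key m le_rfl)

end Groth.Agent.S0027
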