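import Groth.Statements.S1663
import Groth.Agent.S1607
import Groth.Agent.S0028
import Groth.Agent.Lib.Helper23ModAbBridge

set_option autoImplicit false
set_option linter.style.haveILetI false
universe u
open CategoryTheory CategoryTheory.Limits AlgebraicGeometry
open Variety

namespace Groth.Agent.S1663

/-- a faithful functor preserving zero morphisms reflects zero objects -/
theorem isZero_of_faithful_obj {C D : Type*} [Category C] [Category D] [HasZeroMorphisms C]
    [HasZeroMorphisms D] (G : C ⥤ D) [G.Faithful] [G.PreservesZeroMorphisms] (Z : C)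
    (h : IsZero (G.obj Z)) : IsZero Z := by
  rw [IsZero.iff_id_eq_zero]
  apply G.map_injective
  rw [G.map_id, G.map_zero]
  exact (IsZero.iff_id_eq_zero _).mp h

/-- an open subscheme of a scheme with Noetherian local rings of dimension at most one, intersected
with an affine open, is affine, provided the inclusion is quasi-compact -/
theorem isAffineOpen_inf (X : Scheme.{u})
    (hX : ∀ x : X, IsNoetherianRing (X.presheaf.stalk x) ∧ ringKrullDim (X.presheaf.stalk x) ≤ 1)
    (U : X.Opens) [QuasiCompact U.ι] (V : X.Opens) (hV : IsAffineOpen V) : IsAffineOpen (V ⊓ U) := by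
  haveI : IsAffine (V : Scheme.{u}) := hV
  have hstalk : ∀ y : (V : Scheme.{u}), IsNoetherianRing ((V : Scheme.{u}).presheaf.stalk y) ∧
      ringKrullDim ((V : Scheme.{u}).presheaf.stalk y) ≤ 1 := by
    intro y
    let e : X.presheaf.stalk (V.ι y) ≃+* (V : Scheme.{u}).presheaf.stalk y :=
      (asIso (V.ι.stalkMap y)).commRingCatIsoToRingEquiv
    haveI := (hX (V.ι y)).1
    exact ⟨isNoetherianRing_of_ringEquiv _ e, (ringKrullDim_eq_of_ringEquiv e).symm ▸ (hX (V.ι y)).2⟩
  have hc : IsCompact ((V.ι ⁻¹ᵁ U : (V : Scheme.{u}).Opens) : Set (V : Scheme.{u})) := by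
    have h1 : IsCompact ((U.ι ⁻¹ᵁ V : (U : Scheme.{u}).Opens) : Set (U : Scheme.{u})) :=
      QuasiCompact.isCompact_preimage (f := U.ι) _ V.isOpen hV.isCompact
    have h2 : IsCompact ((U.ι ''ᵁ (U.ι ⁻¹ᵁ V) : X.Opens) : Set X) := h1.image U.ι.continuous
    rw [Scheme.Hom.image_preimage_eq_opensRange_inf, Scheme.Opens.opensRange_ι] at h2
    have h3 : ((U ⊓ V : X.Opens) : Set X) ⊆ Set.range V.ι := by
      rintro x ⟨-, hxV⟩
      exact ⟨⟨x, hxV⟩, rfl⟩
    have := (V.ι.isOpenEmbedding.isInducing.isCompact_preimage_iff h3).mpr h2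
    convert this using 1
    ext y
    simp only [Scheme.Hom.coe_preimage, Set.mem_preimage, SetLike.mem_coe, TopologicalSpace.Opens.coe_inf, Set.mem_inter_iff]
    constructor
    · intro h; exact ⟨h, y.2⟩
    · intro h; exact h.1
  have h4 := Groth.Agent.S1607.result (V : Scheme.{u}) hstalk (V.ι ⁻¹ᵁ U) hc
  rw [← V.ι.isAffineOpen_iff_of_isOpenImmersion, Scheme.Hom.image_preimage_eq_opensRange_inf,
    Scheme.Opens.opensRange_ι] at h4
  exact h4

/-- Let X be a scheme whose local rings are Noetherian of Krull dimension at most one, j : U → X the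
inclusion of a retrocompact open (j quasi-compact) and F a quasi-coherent O_U-module. Then R^p j_* F
vanishes for all p > 0. -/
theorem result (X : Scheme.{u})
    (hX : ∀ x : X, IsNoetherianRing (X.presheaf.stalk x) ∧ ringKrullDim (X.presheaf.stalk x) ≤ 1)
    (U : X.Opens) [QuasiCompact U.ι] [HasInjectiveResolutions (U : Scheme.{u}).Modules]
    (F : (U : Scheme.{u}).Modules) (hF : Coh.IsQCoh F) (p : ℕ) (hp : 0 < p) :
    IsZero ((Coh.Rpush U.ι p).obj F) := by
  haveI : IsAffineHom U.ι := by
    refine ⟨fun V hV => ?_⟩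
    rw [← U.ι.isAffineOpen_iff_of_isOpenImmersion, Scheme.Hom.image_preimage_eq_opensRange_inf,
      Scheme.Opens.opensRange_ι, inf_comm]
    exact isAffineOpen_inf X hX U V hV
  haveI : Coh.IsQCoh F := hF
  have h0 := Groth.Agent.S0028.result U.ι F p hp
  obtain ⟨e⟩ := Groth.Agent.Lib.Helper23.ModAbBridge.nonempty_toAb_Rpush_iso U.ι F p
  have h1 : IsZero (Coh.toAb ((Coh.Rpush U.ι p).obj F)) := h0.of_iso e
  exact isZero_of_faithful_obj (SheafOfModules.toSheaf _) _ h1

end Groth.Agent.S1663
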