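import Groth.Statements.S1558
-- import your own Groth.Agent.* helpers here
import Groth.Agent.R2.H20TorsTensor
import Groth.Agent.Lib.Helper23TensorQCoh
import Groth.Agent.Lib.Helper2LocFree
import Groth.Agent.Lib.Helper18Strict6

set_option autoImplicit false
universe u
open CategoryTheory CategoryTheory.Limits AlgebraicGeometry
open Variety

namespace Groth.Agent.S1558

/-- On a proper scheme over a field, if F is coherent with support of dimension at most zero and E is
finite locally free of rank n, then χ(X, F ⊗ E) = n · χ(X, F). -/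
theorem result (k : Type u) [Field k] (X : Scheme.{u}) [X.Over (Spec (CommRingCat.of k))] [IsProper (X ↘ (Spec (CommRingCat.of k)))]
    (F : X.Modules) (hF : Coh.IsCoh F) (hsupp : topologicalKrullDim (CohB1.support F) ≤ 0)
    (n : ℕ) (E : X.Modules) (hE : FlatMod.IsFinLocFreeOfRank n E) :
    Curv2.euler k X (CohB1.tensorMod F E) = n * Curv2.euler k X F := by
  have hEfl : FlatMod.IsFinLocFree E := fun x => by
    obtain ⟨U, hx, h⟩ := hE x
    exact ⟨U, n, hx, h⟩
  have hEcoh : Coh.IsCoh E := by
    have hfp := Groth.Agent.Lib.Helper2.LocFree.isFP_of_isFinLocFree E hEfl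
    haveI : SheafOfModules.IsFinitePresentation (R := X.ringCatSheaf) E := hfp
    exact ⟨Groth.Agent.Helper18Strict.isQCoh_of_isFP E hfp, inferInstance⟩
  have hFE : Coh.IsCoh (CohB1.tensorMod F E) := by
    haveI : F.IsQuasicoherent := hF.1
    haveI : E.IsQuasicoherent := hEcoh.1
    haveI : SheafOfModules.IsFiniteType (R := X.ringCatSheaf) F := hF.2
    haveI : SheafOfModules.IsFiniteType (R := X.ringCatSheaf) E := hEcoh.2
    exact ⟨Groth.Agent.Lib.Helper23.TensorQCoh.isQuasicoherent_tensorMod F E,
      Groth.Agent.Lib.Helper23.TensorQCoh.isFiniteType_tensorMod F E⟩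
  have hsupp' : topologicalKrullDim (CohB1.support (CohB1.tensorMod F E)) ≤ 0 :=
    (Groth.Agent.R2.H20.TorsTensor.topologicalKrullDim_mono
      (Groth.Agent.R2.H20.TorsTensor.support_tensorMod_subset F E)).trans hsupp
  rw [Groth.Agent.R2.H62.CurveCore.euler_eq_finrank_of_dim_zero (k := k) _ hFE hsupp',
    Groth.Agent.R2.H62.CurveCore.euler_eq_finrank_of_dim_zero (k := k) F hF hsupp,
    Groth.Agent.R2.H20.TorsTensor.finrank_HH_zero_tensor F hF hsupp n E hE]
  push_cast
  rfl

end Groth.Agent.S1558
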