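import Groth.Statements.S6508
import Groth.Agent.R2.H28DerBase
import Groth.Agent.R2.H28OpenBC

set_option autoImplicit false
universe u
open CategoryTheory
attribute [local instance] HasDerivedCategory.standard
open DCoh

namespace Groth.Agent.S6508

open AlgebraicGeometry CategoryTheory.Limits in
/-- Let f : X → Y be a morphism of schemes, V ⊆ Y open, U = f⁻¹(V) and g : U → V the induced morphism.
Then (Rf_* E)|_V ≅ Rg_*(E|_U) naturally in E ∈ D(O_X); asserted here as the existence of an
isomorphism between the two composite functors D(O_X) → D(O_V), the derived functors being assumed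
to exist. (The published statement is for ringed spaces; this row is for schemes.) -/
theorem result {X Y : Scheme.{u}} (f : X ⟶ Y) (V : Y.Opens)
    [DCoh.HasRpush f] [DCoh.HasRpush (f ∣_ V)]
    [PreservesFiniteLimits (Scheme.Modules.restrictFunctor V.ι)]
    [PreservesFiniteLimits (Scheme.Modules.restrictFunctor (f ⁻¹ᵁ V).ι)] :
    Nonempty (DCoh.Rpush f ⋙ DCoh.restrictD V.ι ≅ DCoh.restrictD (f ⁻¹ᵁ V).ι ⋙ DCoh.Rpush (f ∣_ V)) := by
  open Groth.Agent.R2.H28.DerBase Groth.Agent.R2.H28.OpenBC Groth.Agent.Lib.Helper17.KInj in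
  classical
  -- the left hand side as a right derived functor
  have h1 : (DCoh.Rpush f ⋙ DCoh.restrictD V.ι).IsRightDerivedFunctor
      (compUnit (Scheme.Modules.pushforward f) (DCoh.Rpush f) (unitC f)
        (Scheme.Modules.restrictFunctor V.ι) (DCoh.restrictD V.ι)
        (Scheme.Modules.restrictFunctor V.ι).mapDerivedCategoryFactors.inv)
      (HomologicalComplex.quasiIso X.Modules (ComplexShape.up ℤ)) :=
    isRightDerivedFunctor_comp _ _ _ _ _ _ (fun I _ => inferInstance)
  -- the right hand side as a right derived functor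
  have h0 : (DCoh.restrictD (f ⁻¹ᵁ V).ι).IsRightDerivedFunctor
      (Scheme.Modules.restrictFunctor (f ⁻¹ᵁ V).ι).mapDerivedCategoryFactors.inv
      (HomologicalComplex.quasiIso X.Modules (ComplexShape.up ℤ)) :=
    Functor.isRightDerivedFunctor_of_inverts _ _ _
  have h2 : (DCoh.restrictD (f ⁻¹ᵁ V).ι ⋙ DCoh.Rpush (f ∣_ V)).IsRightDerivedFunctor
      (compUnit (Scheme.Modules.restrictFunctor (f ⁻¹ᵁ V).ι) (DCoh.restrictD (f ⁻¹ᵁ V).ι)
        (Scheme.Modules.restrictFunctor (f ⁻¹ᵁ V).ι).mapDerivedCategoryFactors.inv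
        (Scheme.Modules.pushforward (f ∣_ V)) (DCoh.Rpush (f ∣_ V)) (unitC (f ∣_ V)))
      (HomologicalComplex.quasiIso X.Modules (ComplexShape.up ℤ)) := by
    refine isRightDerivedFunctor_comp _ _ _ _ _ _ (fun I hI => ?_)
    have := hI
    have := isKInjective_restrict (f ⁻¹ᵁ V) I
    exact isIso_app_of_isKInjective (Scheme.Modules.pushforward (f ∣_ V)) (DCoh.Rpush (f ∣_ V))
      (unitC (f ∣_ V)) _
  exact ⟨Functor.rightDerivedNatIso (DCoh.Rpush f ⋙ DCoh.restrictD V.ι)
    (DCoh.restrictD (f ⁻¹ᵁ V).ι ⋙ DCoh.Rpush (f ∣_ V))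
    (compUnit (Scheme.Modules.pushforward f) (DCoh.Rpush f) (unitC f)
        (Scheme.Modules.restrictFunctor V.ι) (DCoh.restrictD V.ι)
        (Scheme.Modules.restrictFunctor V.ι).mapDerivedCategoryFactors.inv)
    (compUnit (Scheme.Modules.restrictFunctor (f ⁻¹ᵁ V).ι) (DCoh.restrictD (f ⁻¹ᵁ V).ι)
        (Scheme.Modules.restrictFunctor (f ⁻¹ᵁ V).ι).mapDerivedCategoryFactors.inv
        (Scheme.Modules.pushforward (f ∣_ V)) (DCoh.Rpush (f ∣_ V)) (unitC (f ∣_ V)))
    (HomologicalComplex.quasiIso X.Modules (ComplexShape.up ℤ))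
    (Functor.isoWhiskerRight (NatIso.mapHomologicalComplex (baseChangeIso f V) (ComplexShape.up ℤ))
      DerivedCategory.Q)⟩

end Groth.Agent.S6508
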