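import Groth.Statements.S6833
import Groth.Agent.R2.H30RSCoker

set_option autoImplicit false
universe u
open CategoryTheory CategoryTheory.Limits TopologicalSpace
open ModSite

namespace Groth.Agent.S6833

/-- On a ringed space (X, O), if φ : G → F is a map of O-modules with G of finite type and F of finite
presentation, then Coker(φ) is of finite presentation. -/
theorem result {X : TopCat.{u}} (O : TopCat.Sheaf CommRingCat.{u} X)
    {G F : ModSite.Mod O} (φ : G ⟶ F) [SheafOfModules.IsFiniteType (R := ModSite.ringSh O) G] [SheafOfModules.IsFinitePresentation (R := ModSite.ringSh O) F] :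
    SheafOfModules.IsFinitePresentation (R := ModSite.ringSh O) (cokernel φ) := by
  open Groth.Agent.R2.H30.RSDict Groth.Agent.R2.H30.GenSite Groth.Agent.R2.H30.RSFree
    Groth.Agent.R2.H30.RSKer Groth.Agent.R2.H30.RSCoker Opposite in
  classical
  apply isFinitePresentation_of_locPres (O := O)
  intro x
  obtain ⟨U₁, hx₁, I₀, I₁, _, _, ⟨P⟩⟩ := (isFinitePresentation_iff (O := O) F).1 inferInstance x
  obtain ⟨U₂, hx₂, J, _, g, hg⟩ := exists_locSpan_of_isFiniteType (O := O) G x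
  -- the images of the generators of `G`
  have h2 : ∀ j : J, ∃ (W' : Opens X) (hW'₁ : W' ≤ U₁) (hW'₂ : W' ≤ U₂) (_ : x ∈ W')
      (A : I₀ → Γr O W'), (φ.val.app (op W')).hom (res G hW'₂ (g j)) = ∑ i, A i • res F hW'₁ (P.s i) := by
    intro j
    obtain ⟨W', hW', hxW', hmem⟩ := P.span (U₁ ⊓ U₂) inf_le_left
      ((φ.val.app (op (U₁ ⊓ U₂))).hom (res G inf_le_right (g j))) x ⟨hx₁, hx₂⟩
    obtain ⟨A, hA⟩ := (Submodule.mem_span_range_iff_exists_fun _).1 hmem
    refine ⟨W', hW'.trans inf_le_left, hW'.trans inf_le_right, hxW', A, ?_⟩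
    rw [hA, ← app_res, res_res]
  choose W' hW'₁ hW'₂ hxW' A hA using h2
  obtain ⟨V₂, hxV₂, hV₂⟩ := exists_nbhd_le x W' hxW'
  let U : Opens X := V₂ ⊓ (U₁ ⊓ U₂)
  have hxU : x ∈ U := ⟨hxV₂, ⟨hx₁, hx₂⟩⟩
  have hU₁ : U ≤ U₁ := inf_le_right.trans inf_le_left
  have hU₂ : U ≤ U₂ := inf_le_right.trans inf_le_right
  have hUW' : ∀ j, U ≤ W' j := fun j => inf_le_left.trans (hV₂ j)
  let g' : J → G.val.obj (op U) := fun j => res G hU₂ (g j)
  let A' : J → I₀ → Γr O U := fun j i => resR O (hUW' j) (A j i)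
  have hA' : ∀ j, (φ.val.app (op U)).hom (g' j) = ∑ i, A' j i • (P.restrict hU₁).s i := by
    intro j
    have h3 := congrArg (res F (hUW' j)) (hA j)
    rw [← app_res, res_res, res_sum] at h3
    refine h3.trans (Finset.sum_congr rfl fun i _ => ?_)
    rw [res_smul, res_res]
    rfl
  exact ⟨U, hxU, I₀, I₁ ⊕ J, inferInstance, inferInstance,
    ⟨cokerLocPres φ (P.restrict hU₁) g' (hg.res hU₂) A' hA'⟩⟩

end Groth.Agent.S6833
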