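import Groth.Statements.S2107
import Groth.Agent.R2.H22Coker
import Groth.Agent.R2.H22EssFP

set_option autoImplicit false
set_option linter.style.haveILetI false
universe u
open CAlg

namespace Groth.Agent.S2107

open TensorProduct

/-- `I M` as an `A`-submodule and `(I B) M` as a `B`-submodule have the same elements. -/
theorem mem_map_smul_top_iff {A B M : Type*} [CommRing A] [CommRing B] [Algebra A B]
    [AddCommGroup M] [Module A M] [Module B M] [IsScalarTower A B M] (I : Ideal A) (x : M) :
    x ∈ (I.map (algebraMap A B) • (⊤ : Submodule B M)) ↔ x ∈ (I • ⊤ : Submodule A M) := by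
  constructor
  · intro hx
    have key : ∀ b ∈ I.map (algebraMap A B), ∀ m : M, b • m ∈ (I • ⊤ : Submodule A M) := by
      intro b hb
      refine Submodule.span_induction ?_ ?_ ?_ ?_ hb
      · rintro _ ⟨a, ha, rfl⟩ m
        rw [algebraMap_smul]
        exact Submodule.smul_mem_smul ha Submodule.mem_top
      · intro m
        rw [zero_smul]
        exact zero_mem _
      · intro b₁ b₂ _ _ h₁ h₂ m
        rw [add_smul]
        exact add_mem (h₁ m) (h₂ m)
      · intro c b _ h m
        rw [smul_eq_mul, mul_comm, mul_smul]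
        exact h (c • m)
    refine Submodule.smul_induction_on hx ?_ (fun _ _ h₁ h₂ => add_mem h₁ h₂)
    intro b hb m _
    exact key b hb m
  · intro hx
    refine Submodule.smul_induction_on hx ?_ (fun _ _ h₁ h₂ => add_mem h₁ h₂)
    intro a ha m _
    rw [← algebraMap_smul B a m]
    exact Submodule.smul_mem_smul (Ideal.mem_map_of_mem _ ha) Submodule.mem_top

/-- membership in `I • ⊤` after localization. -/
theorem exists_smul_mem_of_map_mem {B : Type*} [CommRing B] (S : Submonoid B) {X Y : Type*}
    [AddCommGroup X] [AddCommGroup Y] [Module B X] [Module B Y] (j : X →ₗ[B] Y)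
    [IsLocalizedModule S j] (I : Ideal B) (x : X) (h : j x ∈ (I • ⊤ : Submodule B Y)) :
    ∃ t ∈ S, t • x ∈ (I • ⊤ : Submodule B X) := by
  rw [← Submodule.localized₀_top S j, ← Submodule.localized₀_smul, Submodule.mem_localized₀] at h
  obtain ⟨m, hm, s, hms⟩ := h
  rw [IsLocalizedModule.mk'_eq_iff, Submonoid.smul_def, ← map_smul] at hms
  obtain ⟨c, hc⟩ := IsLocalizedModule.exists_of_eq (S := S) hms
  rw [Submonoid.smul_def, Submonoid.smul_def] at hc
  refine ⟨(c : B) * (s : B), S.mul_mem c.2 s.2, ?_⟩
  rw [mul_smul, ← hc]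
  exact Submodule.smul_mem _ _ hm

theorem isUnit_algebraMap_end {S₀ S N : Type*} [CommRing S₀] [CommRing S] [Algebra S₀ S]
    [AddCommGroup N] [Module S N] [Module S₀ N] [IsScalarTower S₀ S N] (t : S₀)
    (ht : IsUnit (algebraMap S₀ S t)) : IsUnit (algebraMap S₀ (Module.End S₀ N) t) := by
  obtain ⟨v, hv⟩ := ht
  rw [Module.End.isUnit_iff]
  constructor
  · intro x y hxy
    simp only [Module.algebraMap_end_apply] at hxy
    have : (↑v⁻¹ : S) • (t • x) = (↑v⁻¹ : S) • (t • y) := by rw [hxy]
    rw [← algebraMap_smul S t x, ← algebraMap_smul S t y, ← hv, smul_smul,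
      smul_smul, Units.inv_mul, one_smul, one_smul] at this
    exact this
  · intro y
    refine ⟨(↑v⁻¹ : S) • y, ?_⟩
    simp only [Module.algebraMap_end_apply]
    rw [← algebraMap_smul S t, ← hv, smul_smul, Units.mul_inv, one_smul]

theorem exists_tmul_one {R X : Type*} [CommRing R] [AddCommGroup X] [Module R X] (I : Ideal R)
    (z : X ⊗[R] (R ⧸ I)) : ∃ x : X, z = x ⊗ₜ[R] (1 : R ⧸ I) := by
  obtain ⟨x, hx⟩ := Submodule.Quotient.mk_surjective _ (tensorQuotEquivQuotSMul X I z)
  refine ⟨x, ?_⟩
  apply (tensorQuotEquivQuotSMul X I).injective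
  rw [← hx, ← map_one (Ideal.Quotient.mk I), tensorQuotEquivQuotSMul_tmul_mk, one_smul]

open IsLocalRing Groth.Agent.R2.H22.EssFP Groth.Agent.R2.H22.Coker in
set_option maxHeartbeats 1600000 in
/-- Let `R → S` be a local homomorphism of local rings with `S` essentially of finite presentation over
`R`, `M`, `N` finitely presented `S`-modules with `N` flat over `R`, and `u : M → N` an `S`-linear
map which is injective modulo `𝔪_R`. Then `u` is injective and its cokernel is flat over `R`. -/
theorem result {R S M N : Type u} [CommRing R] [CommRing S] [IsLocalRing R]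
    [IsLocalRing S] [Algebra R S] [IsLocalHom (algebraMap R S)] (hS : CAlgX.IsEssFinitePresentation R S)
    [AddCommGroup M] [Module S M] [Module R M] [IsScalarTower R S M] [Module.FinitePresentation S M]
    [AddCommGroup N] [Module S N] [Module R N] [IsScalarTower R S N] [Module.FinitePresentation S N] [Module.Flat R N]
    (u : M →ₗ[S] N)
    (hu : ∀ x : M, u x ∈ (IsLocalRing.maximalIdeal R).map (algebraMap R S) • (⊤ : Submodule S N) →
      x ∈ (IsLocalRing.maximalIdeal R).map (algebraMap R S) • (⊤ : Submodule S M)) :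
    Function.Injective u ∧ Module.Flat R (N ⧸ LinearMap.range u) := by
  classical
  obtain ⟨S₀, _, _, _, _, M₀s, hfp, hloc⟩ := hS
  -- `S₀`-module structures
  letI : Module S₀ M := Module.compHom M (algebraMap S₀ S)
  haveI : IsScalarTower S₀ S M := ⟨fun a b n => by
    change (a • b) • n = algebraMap S₀ S a • (b • n)
    rw [Algebra.smul_def, mul_smul]⟩
  haveI : IsScalarTower R S₀ M := ⟨fun r a n => by
    change algebraMap S₀ S (r • a) • n = r • (algebraMap S₀ S a • n)
    rw [Algebra.smul_def, map_mul, ← IsScalarTower.algebraMap_apply, mul_smul, algebraMap_smul]⟩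
  letI : Module S₀ N := Module.compHom N (algebraMap S₀ S)
  haveI : IsScalarTower S₀ S N := ⟨fun a b n => by
    change (a • b) • n = algebraMap S₀ S a • (b • n)
    rw [Algebra.smul_def, mul_smul]⟩
  haveI : IsScalarTower R S₀ N := ⟨fun r a n => by
    change algebraMap S₀ S (r • a) • n = r • (algebraMap S₀ S a • n)
    rw [Algebra.smul_def, map_mul, ← IsScalarTower.algebraMap_apply, mul_smul, algebraMap_smul]⟩
  obtain ⟨M₀, _, _, hM₀fp, jM, hjM⟩ := exists_fp_model S M₀s M
  obtain ⟨N₀, _, _, hN₀fp, jN, hjN⟩ := exists_fp_model S M₀s N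
  letI : Module R M₀ := Module.compHom M₀ (algebraMap R S₀)
  haveI : IsScalarTower R S₀ M₀ := ⟨fun r a n => by
    change (r • a) • n = algebraMap R S₀ r • (a • n)
    rw [Algebra.smul_def, mul_smul]⟩
  letI : Module R N₀ := Module.compHom N₀ (algebraMap R S₀)
  haveI : IsScalarTower R S₀ N₀ := ⟨fun r a n => by
    change (r • a) • n = algebraMap R S₀ r • (a • n)
    rw [Algebra.smul_def, mul_smul]⟩
  set q : Ideal S₀ := (maximalIdeal S).comap (algebraMap S₀ S) with hq
  haveI : q.IsPrime := Ideal.comap_isPrime _ _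
  have hunit : ∀ t : S₀, t ∉ q → IsUnit (algebraMap S₀ S t) := fun t ht => by
    rw [← IsLocalRing.notMem_maximalIdeal]
    exact ht
  have hM₀q : M₀s ≤ q.primeCompl := by
    intro m hm hmq
    exact (IsLocalRing.notMem_maximalIdeal.mpr (IsLocalization.map_units S ⟨m, hm⟩)) hmq
  haveI : IsLocalizedModule q.primeCompl jM := isLocalizedModule_of_le M₀s q.primeCompl hM₀q jM
    (fun t => isUnit_algebraMap_end (S := S) t.1 (hunit t.1 t.2))
  haveI : IsLocalizedModule q.primeCompl jN := isLocalizedModule_of_le M₀s q.primeCompl hM₀q jN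
    (fun t => isUnit_algebraMap_end (S := S) t.1 (hunit t.1 t.2))
  have hflat : Module.Flat R (LocalizedModule q.primeCompl N₀) :=
    Module.Flat.of_linearEquiv ((IsLocalizedModule.iso q.primeCompl jN).restrictScalars R)
  letI : Field (R ⧸ maximalIdeal R) := Ideal.Quotient.field (maximalIdeal R)
  have hK : RingHom.ker (algebraMap R (R ⧸ maximalIdeal R)) = q.comap (algebraMap R S₀) := by
    rw [Ideal.Quotient.algebraMap_eq, Ideal.mk_ker, hq, Ideal.comap_comap,
      ← IsScalarTower.algebraMap_eq, IsLocalRing.maximalIdeal_comap]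
  -- descend the map
  obtain ⟨u₀, s, hu₀⟩ := Module.FinitePresentation.exists_lift_of_isLocalizedModule q.primeCompl jN
    ((u.restrictScalars S₀) ∘ₗ jM)
  have hu₀' : ∀ m : M₀, jN (u₀ m) = (s : S₀) • u (jM m) := by
    intro m
    have := LinearMap.congr_fun hu₀ m
    rw [Submonoid.smul_def] at this
    simpa using this
  have hsu : ∀ y : M, (s : S₀) • u y = u ((s : S₀) • y) := by
    intro y
    rw [← algebraMap_smul S (s : S₀) y, map_smul, algebraMap_smul]
  have hV : ∀ a ∈ maximalIdeal R, ∀ v : R ⧸ maximalIdeal R, a • v = 0 := by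
    intro a ha v
    rw [Algebra.smul_def, Ideal.Quotient.algebraMap_eq, Ideal.Quotient.eq_zero_iff_mem.mpr ha,
      zero_mul]
  -- injectivity on the fibre at `q`
  have HF : ∀ z : M₀ ⊗[R] (R ⧸ maximalIdeal R),
      AlgebraTensorModule.rTensor R (R ⧸ maximalIdeal R) u₀ z = 0 →
        ∃ t : S₀, t ∉ q ∧ t • z = 0 := by
    intro z hz
    obtain ⟨m₀, rfl⟩ := exists_tmul_one (maximalIdeal R) z
    rw [AlgebraTensorModule.rTensor_tmul] at hz
    have h1 : u₀ m₀ ∈ (maximalIdeal R • ⊤ : Submodule R N₀) := by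
      have := congrArg (tensorQuotEquivQuotSMul N₀ (maximalIdeal R)) hz
      rwa [map_zero, ← map_one (Ideal.Quotient.mk (maximalIdeal R)),
        tensorQuotEquivQuotSMul_tmul_mk, one_smul, Submodule.Quotient.mk_eq_zero] at this
    have h2 : jN (u₀ m₀) ∈ (maximalIdeal R • ⊤ : Submodule R N) := by
      refine Submodule.smul_induction_on h1 ?_ ?_
      · intro a ha n _
        rw [LinearMap.map_smul_of_tower]
        exact Submodule.smul_mem_smul ha Submodule.mem_top
      · intro x y hx hy
        rw [map_add]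
        exact add_mem hx hy
    rw [hu₀', hsu, ← mem_map_smul_top_iff (B := S)] at h2
    have h3 := hu _ h2
    rw [mem_map_smul_top_iff (B := S), ← mem_map_smul_top_iff (B := S₀), ← map_smul] at h3
    obtain ⟨t, ht, htm⟩ := exists_smul_mem_of_map_mem q.primeCompl jM _ _ h3
    rw [mem_map_smul_top_iff (B := S₀)] at htm
    refine ⟨t * (s : S₀), q.primeCompl.mul_mem ht s.2, ?_⟩
    rw [TensorProduct.smul_tmul', mul_smul]
    exact Groth.Agent.Lib.Helper3.FlatLoc.tmul_eq_zero_of_mem_smul_top (maximalIdeal R) hV htm 1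
  constructor
  · -- injectivity
    rw [injective_iff_map_eq_zero]
    intro x hx
    obtain ⟨⟨x₀, t⟩, hxt⟩ := IsLocalizedModule.surj q.primeCompl jM x
    simp only at hxt
    have h1 : jN (u₀ x₀) = 0 := by
      rw [hu₀', ← hxt, Submonoid.smul_def, ← algebraMap_smul S (t : S₀) x, map_smul, hx,
        smul_zero, smul_zero]
    obtain ⟨c, hc⟩ := (IsLocalizedModule.eq_zero_iff q.primeCompl jN).mp h1
    obtain ⟨t', ht', ht'x⟩ := ker_torsion_of_fibre u₀ q (R ⧸ maximalIdeal R) hK hflat HF x₀
      ⟨c, c.2, hc⟩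
    have h2 : jM x₀ = 0 := (IsLocalizedModule.eq_zero_iff q.primeCompl jM).mpr ⟨⟨t', ht'⟩, ht'x⟩
    rw [h2] at hxt
    exact IsLocalizedModule.smul_injective jM t (by
      show t • x = t • 0
      rw [hxt, smul_zero])
  · -- flatness of the cokernel
    set P₀ : Submodule S₀ N₀ := LinearMap.range u₀ with hP₀
    haveI : Module.FinitePresentation S₀ (N₀ ⧸ P₀) := by
      refine Module.finitePresentation_of_surjective P₀.mkQ (Submodule.mkQ_surjective _) ?_
      rw [Submodule.ker_mkQ, hP₀, LinearMap.range_eq_map]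
      exact Module.Finite.fg_top.map _
    have hflatC : Module.Flat R (LocalizedModule q.primeCompl (N₀ ⧸ P₀)) := by
      refine flat_localizedModule_coker_of_fibre u₀ q (R ⧸ maximalIdeal R) hK hflat HF P₀.mkQ
        (Submodule.mkQ_surjective _) ?_ ?_
      · intro n hn
        have : n ∈ P₀ := (Submodule.Quotient.mk_eq_zero P₀).mp hn
        obtain ⟨m, hm⟩ := this
        exact ⟨m, hm⟩
      · intro m
        exact (Submodule.Quotient.mk_eq_zero P₀).mpr ⟨m, rfl⟩
    let π' : N →ₗ[S₀] LocalizedModule q.primeCompl (N₀ ⧸ P₀) :=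
      IsLocalizedModule.map q.primeCompl jN (LocalizedModule.mkLinearMap q.primeCompl (N₀ ⧸ P₀))
        P₀.mkQ
    have hmap : IsLocalizedModule.map q.primeCompl jM jN u₀ =
        (s : S₀) • (u.restrictScalars S₀) := by
      apply IsLocalizedModule.linearMap_ext q.primeCompl jM jN
      rw [IsLocalizedModule.map_comp]
      ext m
      simpa using hu₀' m
    have hex : Function.Exact ((s : S₀) • (u.restrictScalars S₀)) π' := by
      have := IsLocalizedModule.map_exact q.primeCompl jM jN
        (LocalizedModule.mkLinearMap q.primeCompl (N₀ ⧸ P₀)) u₀ P₀.mkQ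
        (LinearMap.exact_map_mkQ_range _)
      rw [hmap] at this
      exact this
    have hπ' : Function.Surjective (π'.restrictScalars R) :=
      IsLocalizedModule.map_surjective q.primeCompl jN _ P₀.mkQ (Submodule.mkQ_surjective _)
    have hkereq : (LinearMap.range u).restrictScalars R = LinearMap.ker (π'.restrictScalars R) := by
      ext n
      rw [Submodule.restrictScalars_mem, LinearMap.mem_ker, LinearMap.coe_restrictScalars, hex n]
      obtain ⟨v, hv⟩ := hunit s.1 s.2
      constructor
      · rintro ⟨m, rfl⟩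
        refine ⟨(↑v⁻¹ : S) • m, ?_⟩
        show (s : S₀) • u ((↑v⁻¹ : S) • m) = u m
        rw [← algebraMap_smul S (s : S₀), ← hv, map_smul, smul_smul, Units.mul_inv, one_smul]
      · rintro ⟨m, rfl⟩
        exact ⟨(s : S₀) • m, (hsu m).symm⟩
    let e : (N ⧸ LinearMap.range u) ≃ₗ[R] LocalizedModule q.primeCompl (N₀ ⧸ P₀) :=
      (Submodule.Quotient.restrictScalarsEquiv R (LinearMap.range u)).symm ≪≫ₗ
        Submodule.quotEquivOfEq _ _ hkereq ≪≫ₗ
        (π'.restrictScalars R).quotKerEquivOfSurjective hπ'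
    exact Module.Flat.of_linearEquiv e

end Groth.Agent.S2107
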