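import Groth.Statements.S4850
import Groth.Agent.S2107
import Groth.Agent.S1393
import Groth.Agent.R2.H22EssStalk
import Groth.Agent.R2.H22FibCrit
import Groth.Agent.R2.H76StalkExact
import Groth.Agent.Lib.Helper3FlatLocA

set_option autoImplicit false
set_option linter.style.haveILetI false
universe u
open EGA43

namespace Groth.Agent.S4850

open AlgebraicGeometry CategoryTheory Limits in
/-- Equivalence of a: and b)): let f : X ⟶ Y be locally of finite presentation, F and F' quasi-coherent
O_X-modules of finite presentation, u : F' ⟶ F a homomorphism and x a point with y = f x, such that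
F is f-flat at x. Then the stalk map u_x is injective and Coker u is f-flat at x, if and only if u_x
induces an injective map F'_x / m_y F'_x → F_x / m_y F_x. The second condition is written out: an
element of F'_x whose image under u_x lies in m_y F_x already lies in m_y F'_x. (The vanishing of
the stalk (Ker u)_x is expressed as injectivity of u_x.) -/
theorem result {X Y : Scheme.{u}} (f : X ⟶ Y)
    [LocallyOfFinitePresentation f] (F F' : X.Modules) [Coh.IsQCoh F] [Coh.IsQCoh F']
    (hF : CohB1.IsFP F) (hF' : CohB1.IsFP F') (u : F' ⟶ F) (x : X) (hflat : FlatMod.IsFlatOverAt f F x) :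
    letI J : Ideal ↑(X.presheaf.stalk x) :=
      Ideal.map (f.stalkMap x).hom (IsLocalRing.maximalIdeal ↑(Y.presheaf.stalk (f x)))
    letI ux := (TopCat.Presheaf.stalkFunctor Ab x).map (Scheme.Modules.Hom.mapPresheaf u)
    (Function.Injective ux ∧ FlatMod.IsFlatOverAt f (cokernel u) x) ↔
      ∀ m : ↑(F'.presheaf.stalk x),
        ux m ∈ (J • (⊤ : Submodule ↑(X.presheaf.stalk x) ↑(F.presheaf.stalk x))) →
          m ∈ (J • (⊤ : Submodule ↑(X.presheaf.stalk x) ↑(F'.presheaf.stalk x))) := by
  classical
  haveI : SheafOfModules.IsFinitePresentation (R := X.ringCatSheaf) F := hF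
  haveI : SheafOfModules.IsFinitePresentation (R := X.ringCatSheaf) F' := hF'
  haveI := Groth.Agent.S1393.finitePresentation_stalk F x
  haveI := Groth.Agent.S1393.finitePresentation_stalk F' x
  letI algRS : Algebra (Y.presheaf.stalk (f x)) (X.presheaf.stalk x) := (f.stalkMap x).hom.toAlgebra
  letI modN : Module (Y.presheaf.stalk (f x)) (F.presheaf.stalk x) := FlatMod.moduleStalkOver f F x
  letI modM : Module (Y.presheaf.stalk (f x)) (F'.presheaf.stalk x) := FlatMod.moduleStalkOver f F' x
  letI modC : Module (Y.presheaf.stalk (f x)) ((cokernel u).presheaf.stalk x) :=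
    FlatMod.moduleStalkOver f (cokernel u) x
  haveI : IsScalarTower (Y.presheaf.stalk (f x)) (X.presheaf.stalk x) (F.presheaf.stalk x) :=
    ⟨fun r s y => by
      change ((f.stalkMap x).hom r * s) • y = (f.stalkMap x).hom r • (s • y)
      rw [mul_smul]⟩
  haveI : IsScalarTower (Y.presheaf.stalk (f x)) (X.presheaf.stalk x) (F'.presheaf.stalk x) :=
    ⟨fun r s y => by
      change ((f.stalkMap x).hom r * s) • y = (f.stalkMap x).hom r • (s • y)
      rw [mul_smul]⟩
  haveI : IsScalarTower (Y.presheaf.stalk (f x)) (X.presheaf.stalk x)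
      ((cokernel u).presheaf.stalk x) :=
    ⟨fun r s y => by
      change ((f.stalkMap x).hom r * s) • y = (f.stalkMap x).hom r • (s • y)
      rw [mul_smul]⟩
  haveI : IsLocalHom (algebraMap (Y.presheaf.stalk (f x)) (X.presheaf.stalk x)) :=
    inferInstanceAs (IsLocalHom (f.stalkMap x).hom)
  have hess : CAlgX.IsEssFinitePresentation (Y.presheaf.stalk (f x)) (X.presheaf.stalk x) :=
    Groth.Agent.R2.H22.EssStalk.essFP_stalkMap f x
  haveI : Module.Flat (Y.presheaf.stalk (f x)) (F.presheaf.stalk x) := hflat
  set ux := Groth.Agent.Lib.Helper4.NormDelta.stalkLin u x with hux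
  set π := Groth.Agent.Lib.Helper4.NormDelta.stalkLin (cokernel.π u) x with hπdef
  have hex : Function.Exact ux π :=
    Groth.Agent.R2.H76.StalkExact.stalkLin_exact_of_exact
      (ShortComplex.mk u (cokernel.π u) (cokernel.condition u)) (ShortComplex.exact_cokernel u) x
  have hπ : Function.Surjective π :=
    Groth.Agent.Lib.Helper4.NormDelta.stalkLin_surjective (cokernel.π u) x
  have hker : LinearMap.range ux = LinearMap.ker π := (LinearMap.exact_iff.mp hex).symm
  let e : ((F.presheaf.stalk x) ⧸ LinearMap.range ux) ≃ₗ[Y.presheaf.stalk (f x)]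
      (cokernel u).presheaf.stalk x :=
    ((Submodule.quotEquivOfEq _ _ hker) ≪≫ₗ π.quotKerEquivOfSurjective hπ).restrictScalars
      (Y.presheaf.stalk (f x))
  show (Function.Injective ux ∧ Module.Flat (Y.presheaf.stalk (f x))
      ((cokernel u).presheaf.stalk x)) ↔
    ∀ m : ↑(F'.presheaf.stalk x),
      ux m ∈ (Ideal.map (algebraMap (Y.presheaf.stalk (f x)) (X.presheaf.stalk x))
          (IsLocalRing.maximalIdeal ↑(Y.presheaf.stalk (f x))) •
        (⊤ : Submodule ↑(X.presheaf.stalk x) ↑(F.presheaf.stalk x))) →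
      m ∈ (Ideal.map (algebraMap (Y.presheaf.stalk (f x)) (X.presheaf.stalk x))
          (IsLocalRing.maximalIdeal ↑(Y.presheaf.stalk (f x))) •
        (⊤ : Submodule ↑(X.presheaf.stalk x) ↑(F'.presheaf.stalk x)))
  constructor
  · rintro ⟨hinj, hCflat⟩ m hm
    haveI : Module.Flat (Y.presheaf.stalk (f x)) ((F.presheaf.stalk x) ⧸ LinearMap.range ux) :=
      Module.Flat.of_linearEquiv e
    have hF : Function.Injective
        ((IsLocalRing.maximalIdeal (Y.presheaf.stalk (f x))).subtype.lTensor (F.presheaf.stalk x)) :=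
      Module.Flat.lTensor_preserves_injective_linearMap _ Subtype.val_injective
    have hQ : Function.Injective
        ((IsLocalRing.maximalIdeal (Y.presheaf.stalk (f x))).subtype.lTensor
          ((F.presheaf.stalk x) ⧸ LinearMap.range ux)) :=
      Module.Flat.lTensor_preserves_injective_linearMap _ Subtype.val_injective
    have key := (Groth.Agent.Lib.Helper3.FlatLoc.kernel_torsion_iff (LinearMap.range ux)
      (IsLocalRing.maximalIdeal (Y.presheaf.stalk (f x))) (⊥ : Submonoid (X.presheaf.stalk x)) hF).mp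
      (fun z hz => ⟨1, Submonoid.one_mem _, by
        rw [one_smul]
        exact hQ (hz.trans (map_zero _).symm)⟩)
    rw [Groth.Agent.R2.H22.FibCrit.mem_map_smul_top_iff'] at hm ⊢
    obtain ⟨s, hs, hsy⟩ := key (ux m) ⟨m, rfl⟩ hm
    rw [Submonoid.mem_bot] at hs
    rw [hs, one_smul] at hsy
    have hrep : ∀ y ∈ (IsLocalRing.maximalIdeal (Y.presheaf.stalk (f x))) •
        (LinearMap.range ux).restrictScalars (Y.presheaf.stalk (f x)),
        ∃ m' ∈ ((IsLocalRing.maximalIdeal (Y.presheaf.stalk (f x))) •
          (⊤ : Submodule (Y.presheaf.stalk (f x)) (F'.presheaf.stalk x))), ux m' = y := by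
      intro y hy
      refine Submodule.smul_induction_on hy ?_ ?_
      · rintro a ha _ ⟨m₀, rfl⟩
        exact ⟨a • m₀, Submodule.smul_mem_smul ha Submodule.mem_top,
          LinearMap.map_smul_of_tower ux a m₀⟩
      · rintro y₁ y₂ ⟨m₁, hm₁, rfl⟩ ⟨m₂, hm₂, rfl⟩
        exact ⟨m₁ + m₂, add_mem hm₁ hm₂, map_add _ _ _⟩
    obtain ⟨m', hm', hmm'⟩ := hrep _ hsy
    have : m = m' := hinj hmm'.symm
    rw [this]
    exact hm'
  · intro h
    have h2107 := Groth.Agent.S2107.result hess ux (fun m hm => h m hm)
    refine ⟨h2107.1, ?_⟩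
    haveI := h2107.2
    exact Module.Flat.of_linearEquiv e.symm

end Groth.Agent.S4850
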