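import Groth.Statements.S4851
import Groth.Agent.R2.H22KerFG

set_option autoImplicit false
set_option linter.style.haveILetI false
universe u
open EGA43

namespace Groth.Agent.S4851

open AlgebraicGeometry CategoryTheory Limits in
/-- Let f : X ⟶ Y be locally of finite presentation, F and F' quasi-coherent O_X-modules of finite
presentation and u : F' ⟶ F a homomorphism. Then the set of points x of X at which the stalk map u_x
is injective and Coker u is f-flat at x is open in X. (No flatness hypothesis on F is made; the form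
of this openness statement in which F is moreover assumed f-flat is a special case.) -/
theorem result {X Y : Scheme.{u}} (f : X ⟶ Y)
    [LocallyOfFinitePresentation f] (F F' : X.Modules) [Coh.IsQCoh F] [Coh.IsQCoh F']
    (hF : CohB1.IsFP F) (hF' : CohB1.IsFP F') (u : F' ⟶ F) :
    IsOpen {x : X | Function.Injective ((TopCat.Presheaf.stalkFunctor Ab x).map (Scheme.Modules.Hom.mapPresheaf u)) ∧
      FlatMod.IsFlatOverAt f (cokernel u) x} := by
  haveI : F.IsQuasicoherent := ‹Coh.IsQCoh F›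
  haveI : F'.IsQuasicoherent := ‹Coh.IsQCoh F'›
  haveI : (Limits.cokernel u).IsQuasicoherent :=
    Groth.Agent.Lib.Helper23.QCohLocal.isQuasicoherent_cokernel u
  have hCfp : SheafOfModules.IsFinitePresentation (R := X.ringCatSheaf) (Limits.cokernel u) :=
    Groth.Agent.R2.H22.KerFG.isFP_cokernel hF hF' u
  have hΩ : IsOpen {x : X | FlatMod.IsFlatOverAt f (Limits.cokernel u) x} :=
    @Groth.Agent.Lib.Helper2.FinPres.isOpen_setOf_isFlatOverAt _ _ f _ (Limits.cokernel u) _ hCfp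
  rw [isOpen_iff_forall_mem_open]
  rintro x ⟨hinj, hfl⟩
  obtain ⟨V, hV, hxV⟩ : ∃ V : Y.Opens, AlgebraicGeometry.IsAffineOpen V ∧ f.base x ∈ V := by
    obtain ⟨_, ⟨V, hV, rfl⟩, hxV, -⟩ :=
      Y.isBasis_affineOpens.exists_subset_of_mem_open (Set.mem_univ (f.base x)) isOpen_univ
    exact ⟨V, hV, hxV⟩
  let Ω : X.Opens := ⟨_, hΩ⟩
  obtain ⟨U, hU, hxU, hUle⟩ : ∃ U : X.Opens, AlgebraicGeometry.IsAffineOpen U ∧ x ∈ U ∧
      U ≤ f ⁻¹ᵁ V ⊓ Ω := by
    obtain ⟨_, ⟨U, hU, rfl⟩, hxU, hUV⟩ := X.isBasis_affineOpens.exists_subset_of_mem_open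
      (show x ∈ ((f ⁻¹ᵁ V ⊓ Ω : X.Opens) : Set X) from ⟨hxV, hfl⟩) (f ⁻¹ᵁ V ⊓ Ω).isOpen
    exact ⟨U, hU, hxU, hUV⟩
  have hK := Groth.Agent.R2.H22.KerFG.fg_ker_app f hF hF' u hU hV (hUle.trans inf_le_left)
    (fun x' hx' => (hUle hx').2)
  obtain ⟨s, hxs, hs⟩ := Groth.Agent.R2.H22.KerFG.exists_basicOpen_injective u hU hK x hxU hinj
  refine ⟨X.basicOpen s, ?_, (X.basicOpen s).isOpen, hxs⟩
  intro x' hx'
  exact ⟨hs x' hx', (hUle (X.basicOpen_le s hx')).2⟩

end Groth.Agent.S4851
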