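import Groth.Statements.S10190
import Groth.Agent.R2.H45HasAt

set_option autoImplicit false
universe u
open CategoryTheory CategoryTheory.Limits AlgebraicGeometry Topology TopologicalSpace
open AlgSp

namespace Groth.Agent.S10190

/-- at the generic point of an irreducible component of a scheme, the local ring has dimension 0. -/
theorem ringKrullDim_stalk_eq_zero_of_mem_genericPoints {U : Scheme.{u}} (x : ↥U)
    (hx : x ∈ genericPoints ↥U) : ringKrullDim ↥(U.presheaf.stalk x) = 0 := by
  rw [ringKrullDim_stalk_eq_coheight]
  have hmax : IsMax x := by
    intro y hxy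
    -- `x ≤ y` means `y ⤳ x`
    have h1 : y ⤳ x := hxy
    have h2 : closure ({x} : Set ↥U) ⊆ closure {y} := h1.closure_subset
    have h3 : closure ({y} : Set ↥U) ⊆ closure {x} :=
      hx.2 (isIrreducible_singleton.closure) h2
    exact (specializes_iff_closure_subset.2 h3 : x ⤳ y)
  have := (Order.coheight_eq_zero (x := x)).2 hmax
  rw [this]
  rfl

/-- For an algebraic space X over a scheme S, the set of codimension 0 points of X (points x of |X| such
that, for some representable etale h_U ⟶ X from a scheme U and some point u of U mapping to x, the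
local ring of U at u has dimension 0) is dense in |X|. -/
theorem result {S : Scheme.{u}} (X : AlgSp.Space S) :
    Dense {x : AlgSp.Points X.obj |
      AlgSp.HasAt (fun U u => ringKrullDim ↥(U.presheaf.stalk u) = 0) X.obj x} := by
  obtain ⟨U, p, hp, hs⟩ := X.property.atlas
  have hd : Dense (genericPoints ↥U.left) := by
    rw [dense_iff_closure_eq]
    exact genericPoints.closure
  have hsurj := Groth.Agent.S10177.surjective_ofPt p hs
  have himg : Dense (AlgSp.Points.ofPt p '' genericPoints ↥U.left) :=
    hsurj.denseRange.dense_image (AlgSp.Points.continuous_ofPt p) hd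
  refine himg.mono ?_
  rintro _ ⟨u, hu, rfl⟩
  exact ⟨U, p, u, hp, rfl, ringKrullDim_stalk_eq_zero_of_mem_genericPoints u hu⟩

end Groth.Agent.S10190
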