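import Groth.Statements.S10364
import Groth.Agent.R2.H25DecentQc
import Groth.Agent.S10338
import Groth.Agent.S10177

set_option autoImplicit false
universe u
open CategoryTheory CategoryTheory.Limits AlgebraicGeometry Topology TopologicalSpace
open AlgSp

namespace Groth.Agent.S10364

/-- Let X be an algebraic space over a scheme S with a Zariski covering by open subspaces X_i ⟶ X. If
each X_i is decent then X is decent. -/
theorem result {S : Scheme.{u}} (X : AlgSp.Space S) {ι : Type u} (Xi : ι → AlgSp.Space S)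
    (j : ∀ i, Xi i ⟶ X) (hj : AlgSp.IsZarCover (fun i => (Xi i).obj) (fun i => (j i).hom))
    (hd : ∀ i, AlgSp.IsDecent (Xi i).obj) : AlgSp.IsDecent X.obj := by
  intro x
  obtain ⟨i₀, xi, hxi⟩ := hj.2 x
  obtain ⟨pi, hpi, hmi, -⟩ := hd i₀ xi
  have hopen : ∀ i, AlgSp.RepWith @IsOpenImmersion (j i).hom := hj.1
  have hinj : ∀ i, Function.Injective (AlgSp.Points.map (j i).hom) := fun i =>
    Groth.Agent.Lib.Helper12.LargestOpen.injective_map_of_open _ (hopen i)
  have hetale : ∀ i, AlgSp.RepWith @Etale (j i).hom := fun i =>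
    ⟨(hopen i).1, fun _ _ g fst snd BC => by
      haveI : IsOpenImmersion snd.left := (hopen i).2 g fst snd BC
      show Etale snd.left
      infer_instance⟩
  have hmk : AlgSp.Points.mk (pi.map (j i₀).hom) = x := by
    rw [← AlgSp.Points.map_mk, hpi, hxi]
  have hm : Mono (pi.map (j i₀).hom).toHom := by
    rw [AlgSp.FieldPt.toHom_map]
    exact @mono_comp _ _ _ _ _ _ hmi _
      (Groth.Agent.Lib.Helper12.LargestOpen.mono_of_open _ (hopen i₀))
  refine ⟨pi.map (j i₀).hom, hmk, hm, ?_⟩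
  refine Groth.Agent.R2.H25.DecentQc.repWith_quasiCompact_of_finite_fibres X _ hm ?_
  rw [hmk]
  -- atlases of the `X_i`
  have hat : ∀ i, ∃ (U : Over S) (a : (AlgSp.yon S).obj U ⟶ (Xi i).obj),
      AlgSp.RepWith @Etale a ∧ AlgSp.RepWith @Surjective a := fun i => (Xi i).property.atlas
  choose U a hae has using hat
  -- the family of affine opens of the atlases
  let κ : Type u := Σ i, ↥((U i).left.affineOpens)
  let Uk : κ → Over S := fun k => Over.mk ((k.2 : (U k.1).left.Opens).ι ≫ (U k.1).hom)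
  let jk : ∀ k : κ, Uk k ⟶ U k.1 := fun k => Over.homMk (k.2 : (U k.1).left.Opens).ι rfl
  let ψ : ∀ k : κ, (AlgSp.yon S).obj (Uk k) ⟶ (Xi k.1).obj := fun k =>
    (AlgSp.yon S).map (jk k) ≫ a k.1
  have hψ : ∀ k, AlgSp.RepWith @Etale (ψ k) := fun k =>
    (AlgSp.RepWith @Etale).comp_mem _ _
      ((AlgSp.repWith_yon_map_iff _ _).2 (inferInstance : Etale (k.2 : (U k.1).left.Opens).ι))
      (hae k.1)
  have hφ : ∀ k, AlgSp.RepWith @Etale (ψ k ≫ (j k.1).hom) := fun k =>
    (AlgSp.RepWith @Etale).comp_mem _ _ (hψ k) (hetale k.1)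
  have haff : ∀ k : κ, IsAffine (Uk k).left := fun k => k.2.2
  intro V b hV hb
  haveI : IsAffine V.left := hV
  refine Groth.Agent.S10363.result X x Uk (fun k => ψ k ≫ (j k.1).hom) hφ ?_ ?_ b hb
  · intro y
    obtain ⟨i, yi, hyi⟩ := hj.2 y
    obtain ⟨u, hu⟩ := Groth.Agent.S10177.surjective_ofPt (a i) (has i) yi
    obtain ⟨O, hO, huO, -⟩ : ∃ O : (U i).left.Opens, O ∈ (U i).left.affineOpens ∧ u ∈ O ∧ O ≤ ⊤ :=
      TopologicalSpace.Opens.isBasis_iff_nbhd.1 (U i).left.isBasis_affineOpens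
        (TopologicalSpace.Opens.mem_top u)
    refine ⟨⟨i, ⟨O, hO⟩⟩, ⟨u, huO⟩, ?_⟩
    rw [← AlgSp.Points.map_ofPt]
    show AlgSp.Points.map (j i).hom (AlgSp.Points.ofPt ((AlgSp.yon S).map (jk ⟨i, ⟨O, hO⟩⟩) ≫ a i) ⟨u, huO⟩) = y
    rw [Groth.Agent.S10176.ofPt_map_comp]
    show AlgSp.Points.map (j i).hom (AlgSp.Points.ofPt (a i) u) = y
    rw [hu, hyi]
  · intro k
    by_cases hne : ∃ y : AlgSp.Points (Xi k.1).obj, AlgSp.Points.map (j k.1).hom y = x
    · obtain ⟨y, hy⟩ := hne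
      have hfin := Groth.Agent.S10338.finite_fibre_of_isDecent (hd k.1) y (Uk k) (ψ k) (haff k) (hψ k)
      refine hfin.subset ?_
      intro v hv
      have hv' : AlgSp.Points.map (j k.1).hom (AlgSp.Points.ofPt (ψ k) v) = x := by
        rw [AlgSp.Points.map_ofPt]; exact hv
      exact hinj k.1 (hv'.trans hy.symm)
    · refine Set.Finite.subset Set.finite_empty ?_
      intro v hv
      exact (hne ⟨AlgSp.Points.ofPt (ψ k) v, by rw [AlgSp.Points.map_ofPt]; exact hv⟩).elim

end Groth.Agent.S10364
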