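import Groth.Statements.S6645
import Groth.Agent.R2.H29EtExtAb

set_option autoImplicit false
open CategoryTheory CategoryTheory.Limits AlgebraicGeometry Opposite
universe u
open EtCore

namespace Groth.Agent.S6645

/-- On the small etale site of a scheme, kernels and cokernels of maps between finite locally constant
abelian sheaves are finite locally constant, and the property of being finite locally constant is
closed under extensions (a weak Serre subcategory). -/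
theorem result (X : Scheme.{u}) :
    (∀ (F G : EtCoh.Ab X) (φ : F ⟶ G), EtCoh.IsFiniteLocallyConstant F → EtCoh.IsFiniteLocallyConstant G →
      EtCoh.IsFiniteLocallyConstant (kernel φ) ∧ EtCoh.IsFiniteLocallyConstant (cokernel φ)) ∧
    ObjectProperty.IsClosedUnderExtensions (fun F : EtCoh.Ab X => EtCoh.IsFiniteLocallyConstant F) := by
  refine ⟨?_, ⟨?_⟩⟩
  · intro F G φ hF hG
    obtain ⟨ι₁, U₁, hU₁, h₁⟩ := hF
    obtain ⟨ι₂, U₂, hU₂, h₂⟩ := hG
    have key : ∀ x : X, ∃ (W : X.Etale) (w : W.left), W.hom.base w = x ∧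
        (∃ (M : Type) (_ : AddCommGroup M) (_ : Finite M),
          Nonempty (EtCoh.restr (kernel φ) W ≅
            (constantSheaf (X.smallEtaleTopology.over W) AddCommGrpCat.{u + 1}).obj
              (AddCommGrpCat.of (ULift.{u + 1} M)))) ∧
        (∃ (M : Type) (_ : AddCommGroup M) (_ : Finite M),
          Nonempty (EtCoh.restr (cokernel φ) W ≅
            (constantSheaf (X.smallEtaleTopology.over W) AddCommGrpCat.{u + 1}).obj
              (AddCommGrpCat.of (ULift.{u + 1} M)))) := by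
      intro x
      obtain ⟨i, y₁, hy₁⟩ := hU₁ x
      obtain ⟨j, y₂, hy₂⟩ := hU₂ x
      obtain ⟨M, _, _, ⟨α₁⟩⟩ := h₁ i
      obtain ⟨N, _, _, ⟨β₁⟩⟩ := h₂ j
      obtain ⟨W, w, hw, h, α, β, e⟩ := Groth.Agent.R2.H29.EtLocConst.exists_local_ab φ α₁ β₁ y₁ y₂
        (hy₁.trans hy₂.symm)
      refine ⟨W, w, hw.trans hy₁, ?_, ?_⟩
      · obtain ⟨γ⟩ := Groth.Agent.R2.H29.ConstSheaf.nonempty_kernel_iso X.smallEtaleTopology W φ
          (AddCommGrpCat.ofHom h) α β e
        obtain ⟨K, _, _, ⟨δ⟩⟩ := Groth.Agent.R2.H29.EtExtAb.exists_small_model.{u}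
          (AddCommGrpCat.ofHom h).hom.ker
        exact ⟨K, inferInstance, inferInstance,
          ⟨γ ≪≫ (constantSheaf (X.smallEtaleTopology.over W) AddCommGrpCat.{u + 1}).mapIso
            (AddCommGrpCat.kernelIsoKer (AddCommGrpCat.ofHom h) ≪≫ δ)⟩⟩
      · obtain ⟨γ⟩ := Groth.Agent.R2.H29.ConstSheaf.nonempty_cokernel_iso X.smallEtaleTopology W φ
          (AddCommGrpCat.ofHom h) α β e
        obtain ⟨K, _, _, ⟨δ⟩⟩ := Groth.Agent.R2.H29.EtExtAb.exists_small_model.{u}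
          (ULift.{u + 1} N ⧸ AddMonoidHom.range (AddCommGrpCat.ofHom h).hom)
        exact ⟨K, inferInstance, inferInstance,
          ⟨γ ≪≫ (constantSheaf (X.smallEtaleTopology.over W) AddCommGrpCat.{u + 1}).mapIso
            (AddCommGrpCat.cokernelIsoQuotient (AddCommGrpCat.ofHom h) ≪≫ δ)⟩⟩
    choose W w hw hK hQ using key
    exact ⟨⟨X, W, fun x => ⟨x, w x, hw x⟩, hK⟩, ⟨X, W, fun x => ⟨x, w x, hw x⟩, hQ⟩⟩
  · intro S hS hF hG
    obtain ⟨ι₁, U₁, hU₁, h₁⟩ := hF
    obtain ⟨ι₂, U₂, hU₂, h₂⟩ := hG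
    have key : ∀ x : X, ∃ (W : X.Etale) (w : W.left), W.hom.base w = x ∧
        ∃ (M : Type) (_ : AddCommGroup M) (_ : Finite M),
          Nonempty (EtCoh.restr S.X₂ W ≅
            (constantSheaf (X.smallEtaleTopology.over W) AddCommGrpCat.{u + 1}).obj
              (AddCommGrpCat.of (ULift.{u + 1} M))) := by
      intro x
      obtain ⟨i, y₁, hy₁⟩ := hU₁ x
      obtain ⟨j, y₂, hy₂⟩ := hU₂ x
      obtain ⟨M, _, _, ⟨α₁⟩⟩ := h₁ i
      obtain ⟨N, _, _, ⟨β₁⟩⟩ := h₂ j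
      obtain ⟨W, w, hw, E, _, _, ⟨ε⟩⟩ := Groth.Agent.R2.H29.EtExtAb.exists_local_ext_ab hS α₁ β₁ y₁ y₂
        (hy₁.trans hy₂.symm)
      obtain ⟨K, _, _, ⟨δ⟩⟩ := Groth.Agent.R2.H29.EtExtAb.exists_small_model.{u} E
      exact ⟨W, w, hw.trans hy₁, K, inferInstance, inferInstance,
        ⟨ε ≪≫ (constantSheaf (X.smallEtaleTopology.over W) AddCommGrpCat.{u + 1}).mapIso δ⟩⟩
    choose W w hw hE using key
    exact ⟨X, W, fun x => ⟨x, w x, hw x⟩, hE⟩

end Groth.Agent.S6645
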