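import Groth.Statements.S7662
import Groth.Agent.R2.H29AffOpenD
import Groth.Agent.Lib.Helper22ThickAffine
import Groth.Agent.Lib.Helper10RedInd

set_option autoImplicit false
universe u
open CategoryTheory CategoryTheory.Limits AlgebraicGeometry
open Variety

namespace Groth.Agent.S7662

/-- Let X be a scheme with finitely many irreducible components Z_1, …, Z_t and T ⊆ X a finite set of
points such that, for each i, some affine open of Z_i with its reduced closed subscheme structure
contains the points of T on Z_i. Then some affine open of X contains every point of T. -/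
theorem result (X : Scheme.{u})
    (hX : (irreducibleComponents (X : Type u)).Finite) (T : Finset X)
    (h : ∀ (Z : Set X) (hZ : Z ∈ irreducibleComponents (X : Type u)),
      ∃ V : (Scheme.IdealSheafData.vanishingIdeal
          (⟨Z, isClosed_of_mem_irreducibleComponents Z hZ⟩ : TopologicalSpace.Closeds X)).subscheme.Opens,
        IsAffineOpen V ∧ ∀ t ∈ T, t ∈ Z → t ∈ (Scheme.IdealSheafData.vanishingIdeal
          (⟨Z, isClosed_of_mem_irreducibleComponents Z hZ⟩ : TopologicalSpace.Closeds X)).subschemeι.base '' (V : Set _)) :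
    ∃ U : X.Opens, IsAffineOpen U ∧ ∀ t ∈ T, t ∈ U := by
  classical
  -- the inductive predicate on closed subsets
  let Good : TopologicalSpace.Closeds X → Prop := fun Z =>
    ∃ V : (Scheme.IdealSheafData.vanishingIdeal Z).subscheme.Opens, IsAffineOpen V ∧
      ∀ t ∈ T, t ∈ Z → t ∈ (Scheme.IdealSheafData.vanishingIdeal Z).subschemeι.base '' (V : Set _)
  have hrange : ∀ Z : TopologicalSpace.Closeds X,
      Set.range (Scheme.IdealSheafData.vanishingIdeal Z).subschemeι = (Z : Set X) := by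
    intro Z
    rw [Scheme.IdealSheafData.range_subschemeι, Scheme.IdealSheafData.coe_support_vanishingIdeal]
  have hbot : Good ⊥ := ⟨⊥, isAffineOpen_bot _, fun t _ ht => (ht : t ∈ (∅ : Set X)).elim⟩
  have hsup : ∀ Z₁, Good Z₁ → ∀ Z₂, Good Z₂ → Good (Z₁ ⊔ Z₂) := by
    rintro Z₁ ⟨V₁, hV₁, hV₁T⟩ Z₂ ⟨V₂, hV₂, hV₂T⟩
    have hred : IsReduced (Scheme.IdealSheafData.vanishingIdeal (Z₁ ⊔ Z₂)).subscheme :=
      Groth.Agent.Lib.Helper10.RedInd.isReduced_subscheme_vanishingIdeal _
    let ιY := (Scheme.IdealSheafData.vanishingIdeal (Z₁ ⊔ Z₂)).subschemeι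
    let ι₁ := (Scheme.IdealSheafData.vanishingIdeal Z₁).subschemeι
    let ι₂ := (Scheme.IdealSheafData.vanishingIdeal Z₂).subschemeι
    let i₁ := Scheme.IdealSheafData.inclusion
      (Scheme.IdealSheafData.vanishingIdeal_antimono (le_sup_left : Z₁ ≤ Z₁ ⊔ Z₂))
    let i₂ := Scheme.IdealSheafData.inclusion
      (Scheme.IdealSheafData.vanishingIdeal_antimono (le_sup_right : Z₂ ≤ Z₁ ⊔ Z₂))
    have hi₁ : ∀ y₁, ιY (i₁ y₁) = ι₁ y₁ := by
      intro y₁
      rw [← Scheme.Hom.comp_apply]
      exact congr($(Scheme.IdealSheafData.inclusion_subschemeι _) y₁)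
    have hi₂ : ∀ y₂, ιY (i₂ y₂) = ι₂ y₂ := by
      intro y₂
      rw [← Scheme.Hom.comp_apply]
      exact congr($(Scheme.IdealSheafData.inclusion_subschemeι _) y₂)
    have hinjY : Function.Injective ιY := ιY.isEmbedding.injective
    have hinj₁ : Function.Injective ι₁ := ι₁.isEmbedding.injective
    have hinj₂ : Function.Injective ι₂ := ι₂.isEmbedding.injective
    have hsurj : ∀ y, y ∈ Set.range i₁ ∨ y ∈ Set.range i₂ := by
      intro y
      have hy : ιY y ∈ ((Z₁ ⊔ Z₂ : TopologicalSpace.Closeds X) : Set X) := by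
        rw [← hrange]; exact ⟨y, rfl⟩
      rcases hy with hy | hy
      · left
        rw [← hrange] at hy
        obtain ⟨y₁, hy₁⟩ := hy
        exact ⟨y₁, hinjY ((hi₁ y₁).trans hy₁)⟩
      · right
        rw [← hrange] at hy
        obtain ⟨y₂, hy₂⟩ := hy
        exact ⟨y₂, hinjY ((hi₂ y₂).trans hy₂)⟩
    obtain ⟨U, hU, hUT⟩ :=
      Groth.Agent.R2.H29.AffOpenD.exists_isAffineOpen_of_closedCover_of_affineOpens i₁ i₂ hsurj
        (ιY ⁻¹' (T : Set X)) (T.finite_toSet.preimage hinjY.injOn) V₁ hV₁ V₂ hV₂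
        (by
          intro y₁ hy₁
          have h1 : ι₁ y₁ ∈ (T : Set X) := by rw [← hi₁]; exact hy₁
          have h2 : ι₁ y₁ ∈ Z₁ := by
            show ι₁ y₁ ∈ (Z₁ : Set X)
            rw [← hrange]; exact ⟨y₁, rfl⟩
          obtain ⟨y₁', hy₁', he⟩ := hV₁T _ h1 h2
          rw [← hinj₁ he]
          exact hy₁')
        (by
          intro y₂ hy₂
          have h1 : ι₂ y₂ ∈ (T : Set X) := by rw [← hi₂]; exact hy₂
          have h2 : ι₂ y₂ ∈ Z₂ := by
            show ι₂ y₂ ∈ (Z₂ : Set X)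
            rw [← hrange]; exact ⟨y₂, rfl⟩
          obtain ⟨y₂', hy₂', he⟩ := hV₂T _ h1 h2
          rw [← hinj₂ he]
          exact hy₂')
    refine ⟨U, hU, fun t ht htZ => ?_⟩
    have htZ' : t ∈ ((Z₁ ⊔ Z₂ : TopologicalSpace.Closeds X) : Set X) := htZ
    rw [← hrange] at htZ'
    obtain ⟨y, rfl⟩ := htZ'
    exact ⟨y, hUT y ht, rfl⟩
  -- all irreducible components
  let s := hX.toFinset.attach
  let f : {Z // Z ∈ hX.toFinset} → TopologicalSpace.Closeds X := fun Z =>
    ⟨Z.1, isClosed_of_mem_irreducibleComponents Z.1 (hX.mem_toFinset.mp Z.2)⟩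
  have hall : Good (s.sup f) := by
    refine Finset.sup_induction hbot hsup ?_
    intro Z _
    obtain ⟨V, hV, hVT⟩ := h Z.1 (hX.mem_toFinset.mp Z.2)
    exact ⟨V, hV, hVT⟩
  have htop : s.sup f = ⊤ := by
    rw [eq_top_iff]
    intro x _
    have hx : irreducibleComponent x ∈ irreducibleComponents (X : Type u) :=
      irreducibleComponent_mem_irreducibleComponents x
    have hle : f ⟨irreducibleComponent x, hX.mem_toFinset.mpr hx⟩ ≤ s.sup f :=
      Finset.le_sup (f := f) (Finset.mem_attach _ _)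
    exact hle (mem_irreducibleComponent : x ∈ irreducibleComponent x)
  rw [htop] at hall
  obtain ⟨V, hV, hVT⟩ := hall
  -- pass from the reduction to X
  set ι := (Scheme.IdealSheafData.vanishingIdeal (⊤ : TopologicalSpace.Closeds X)).subschemeι
    with hι
  have hsurjι : Function.Surjective ι := by
    intro x
    have : x ∈ Set.range ι := by
      rw [hrange]; trivial
    exact this
  have hhomeo : IsHomeomorph ι :=
    Groth.Agent.Lib.Helper22.ThickAffine.isHomeomorph_of_surjective ι hsurjι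
  let U : X.Opens := ⟨ι '' (V : Set _), hhomeo.isOpenMap _ V.2⟩
  have hUV : ι ⁻¹ᵁ U = V := by
    ext y
    change ι y ∈ ι '' (V : Set _) ↔ _
    exact hhomeo.injective.mem_set_image
  have hA : IsAffine (ι ⁻¹ᵁ U).toScheme := by
    have : IsAffineOpen (ι ⁻¹ᵁ U) := hUV ▸ hV
    exact this
  have hc : IsClosedImmersion (ι ∣_ U) := IsZariskiLocalAtTarget.restrict (inferInstance : IsClosedImmersion ι) U
  have hsurjU : Function.Surjective (ι ∣_ U) := by
    intro u
    obtain ⟨y, hy⟩ := hsurjι u.1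
    refine ⟨⟨y, show ι y ∈ U from hy ▸ u.2⟩, Subtype.ext ?_⟩
    rw [morphismRestrict_base_coe]
    exact hy
  refine ⟨U, ?_, fun t ht => hVT t ht trivial⟩
  exact Groth.Agent.Lib.Helper22.ThickAffine.isAffine_of_thickening (ι ∣_ U) hsurjU

end Groth.Agent.S7662
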