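import Groth.Statements.S7660
import Groth.Agent.R2.H29FTApproxC
import Groth.Agent.S7662

set_option autoImplicit false
universe u
open CategoryTheory CategoryTheory.Limits AlgebraicGeometry
open Variety

namespace Groth.Agent.S7660

/-- For a morphism of schemes f : T → X with T affine and X quasi-separated with finitely many
irreducible components, assume f sends the generic point of each irreducible component of T to the
generic point of an irreducible component of X, and distinct such points to distinct points, and let
t_1, …, t_m ∈ T be points at which O_{X, f(t_j)} → O_{T, t_j} is an isomorphism. Then there is an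
affine open of X containing f(t_1), …, f(t_m). -/
theorem result {T X : Scheme.{u}} (f : T ⟶ X)
    [IsAffine T] [QuasiSeparatedSpace X] (hX : (irreducibleComponents (X : Type u)).Finite)
    (hgen : ∀ η : T, closure ({η} : Set T) ∈ irreducibleComponents (T : Type u) → closure ({(f.base η)} : Set X) ∈ irreducibleComponents (X : Type u))
    (hinj : ∀ η η' : T, closure ({η} : Set T) ∈ irreducibleComponents (T : Type u) → closure ({η'} : Set T) ∈ irreducibleComponents (T : Type u) → f.base η = f.base η' → η = η')
    (s : Finset T) (hs : ∀ t ∈ s, IsIso (f.stalkMap t)) :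
    ∃ U : X.Opens, IsAffineOpen U ∧ ∀ t ∈ s, f.base t ∈ U := by
  classical
  obtain ⟨U, hU, hUs⟩ := Groth.Agent.S7662.result X hX (s.image f.base) (fun Z hZ => by
    obtain ⟨V, hV, hVs⟩ := Groth.Agent.R2.H29.FTApprox.component_case f hgen hinj s hs
      ⟨Z, isClosed_of_mem_irreducibleComponents Z hZ⟩ hZ
    refine ⟨V, hV, fun x hx hxZ => ?_⟩
    obtain ⟨t, ht, rfl⟩ := Finset.mem_image.mp hx
    exact hVs t ht hxZ)
  exact ⟨U, hU, fun t ht => hUs _ (Finset.mem_image_of_mem _ ht)⟩

end Groth.Agent.S7660
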