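import Groth.Statements.S6646
import Groth.Agent.R2.H29EtExt

set_option autoImplicit false
open CategoryTheory CategoryTheory.Limits AlgebraicGeometry Opposite
universe u
open EtModW

namespace Groth.Agent.S6646

/-- For a Noetherian coefficient ring Λ, on the small etale site of a scheme, kernels and cokernels of
maps between finite type locally constant sheaves of Λ-modules are finite type locally constant, and
that property is closed under extensions (a weak Serre subcategory). -/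
theorem result (Λ : Type (u + 1)) [CommRing Λ] [IsNoetherianRing Λ] (X : Scheme.{u}) :
    (∀ (F G : EtModW.Mod Λ X) (φ : F ⟶ G), EtModW.IsFTLocConst Λ F → EtModW.IsFTLocConst Λ G →
      EtModW.IsFTLocConst Λ (kernel φ) ∧ EtModW.IsFTLocConst Λ (cokernel φ)) ∧
    ObjectProperty.IsClosedUnderExtensions (fun F : EtModW.Mod Λ X => EtModW.IsFTLocConst Λ F) := by
  refine ⟨?_, ⟨?_⟩⟩
  · intro F G φ hF hG
    obtain ⟨ι₁, U₁, hU₁, h₁⟩ := hF
    obtain ⟨ι₂, U₂, hU₂, h₂⟩ := hG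
    have key : ∀ x : X, ∃ (W : X.Etale) (w : W.left), W.hom.base w = x ∧
        (∃ (M : Type (u + 1)) (_ : AddCommGroup M) (_ : Module Λ M) (_ : Module.Finite Λ M),
          Nonempty (EtModW.restr Λ (kernel φ) W ≅
            (constantSheaf (X.smallEtaleTopology.over W) (ModuleCat.{u + 1} Λ)).obj (ModuleCat.of Λ M))) ∧
        (∃ (M : Type (u + 1)) (_ : AddCommGroup M) (_ : Module Λ M) (_ : Module.Finite Λ M),
          Nonempty (EtModW.restr Λ (cokernel φ) W ≅
            (constantSheaf (X.smallEtaleTopology.over W) (ModuleCat.{u + 1} Λ)).obj (ModuleCat.of Λ M))) := by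
      intro x
      obtain ⟨i, y₁, hy₁⟩ := hU₁ x
      obtain ⟨j, y₂, hy₂⟩ := hU₂ x
      obtain ⟨M, _, _, _, ⟨α₁⟩⟩ := h₁ i
      obtain ⟨N, _, _, _, ⟨β₁⟩⟩ := h₂ j
      obtain ⟨W, w, hw, h, α, β, e⟩ := Groth.Agent.R2.H29.EtLocConst.exists_local_mod φ α₁ β₁ y₁ y₂
        (hy₁.trans hy₂.symm)
      refine ⟨W, w, hw.trans hy₁, ?_, ?_⟩
      · obtain ⟨γ⟩ := Groth.Agent.R2.H29.ConstSheaf.nonempty_kernel_iso X.smallEtaleTopology W φ
          (ModuleCat.ofHom h) α β e
        exact ⟨LinearMap.ker h, inferInstance, inferInstance, inferInstance,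
          ⟨γ ≪≫ (constantSheaf (X.smallEtaleTopology.over W) (ModuleCat.{u + 1} Λ)).mapIso
            (ModuleCat.kernelIsoKer (ModuleCat.ofHom h))⟩⟩
      · obtain ⟨γ⟩ := Groth.Agent.R2.H29.ConstSheaf.nonempty_cokernel_iso X.smallEtaleTopology W φ
          (ModuleCat.ofHom h) α β e
        exact ⟨N ⧸ LinearMap.range h, inferInstance, inferInstance, inferInstance,
          ⟨γ ≪≫ (constantSheaf (X.smallEtaleTopology.over W) (ModuleCat.{u + 1} Λ)).mapIso
            (ModuleCat.cokernelIsoRangeQuotient (ModuleCat.ofHom h))⟩⟩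
    choose W w hw hK hQ using key
    exact ⟨⟨X, W, fun x => ⟨x, w x, hw x⟩, hK⟩, ⟨X, W, fun x => ⟨x, w x, hw x⟩, hQ⟩⟩
  · intro S hS hF hG
    obtain ⟨ι₁, U₁, hU₁, h₁⟩ := hF
    obtain ⟨ι₂, U₂, hU₂, h₂⟩ := hG
    have key : ∀ x : X, ∃ (W : X.Etale) (w : W.left), W.hom.base w = x ∧
        ∃ (M : Type (u + 1)) (_ : AddCommGroup M) (_ : Module Λ M) (_ : Module.Finite Λ M),
          Nonempty (EtModW.restr Λ S.X₂ W ≅
            (constantSheaf (X.smallEtaleTopology.over W) (ModuleCat.{u + 1} Λ)).obj (ModuleCat.of Λ M)) := by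
      intro x
      obtain ⟨i, y₁, hy₁⟩ := hU₁ x
      obtain ⟨j, y₂, hy₂⟩ := hU₂ x
      obtain ⟨M, _, _, _, ⟨α₁⟩⟩ := h₁ i
      obtain ⟨N, _, _, _, ⟨β₁⟩⟩ := h₂ j
      obtain ⟨W, w, hw, hE⟩ := Groth.Agent.R2.H29.EtExt.exists_local_ext_mod hS α₁ β₁ y₁ y₂
        (hy₁.trans hy₂.symm)
      exact ⟨W, w, hw.trans hy₁, hE⟩
    choose W w hw hE using key
    exact ⟨X, W, fun x => ⟨x, w x, hw x⟩, hE⟩

end Groth.Agent.S6646
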