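import Groth.Statements.S18939
import Groth.Agent.R2.H93KoszulLow

set_option autoImplicit false
universe u
open LCI

namespace Groth.Agent.S18939

open Groth.Agent.R2.H93.KoszulLow in
/-- relations among the members of a Koszul-regular generating family have coefficients in `I` -/
lemma relation_mem {R : Type u} [CommRing R] {I : Ideal R}
    (r : ℕ) (f : Fin r → I) (hf : LCI.IsKoszulRegularSeq R (List.ofFn (fun i => (f i : R))))
    (hfI : Ideal.span (Set.range (fun i => (f i : R))) = I)
    (a : Fin r → R) (ha : ∑ i, a i * (f i : R) = 0) (i : Fin r) : a i ∈ I := by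
  set l : List R := List.ofFn (fun i => (f i : R)) with hl
  have hlen : l.length = r := List.length_ofFn
  have hlI : Ideal.ofList l = I := by
    rw [← hfI]
    change Ideal.span {x | x ∈ l} = _
    congr 1
    ext x
    simp [hl, List.mem_ofFn]
  have hget : ∀ j : Fin l.length, l.get j = (f (Fin.cast hlen j) : R) := by
    intro j
    simp only [hl, List.get_eq_getElem, List.getElem_ofFn]
    rfl
  have hsum : ∑ j : Fin l.length, a (Fin.cast hlen j) * l.get j = 0 := by
    rw [← ha]
    refine Fintype.sum_equiv (finCongr hlen) _ _ fun j => ?_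
    rw [hget]
    rfl
  have := mem_of_relation R l (hf (-1) (by norm_num)) (fun j => a (Fin.cast hlen j)) hsum
    (Fin.cast hlen.symm i)
  rw [hlI] at this
  simpa using this

/-- Let R be a commutative ring, I a proper ideal of R and f_1, …, f_r a Koszul-regular sequence of
elements of I generating I. Then I/I² is a free R/I-module of rank r, with basis the classes of f_1,
…, f_r. -/
theorem result {R : Type u} [CommRing R] {I : Ideal R} (hI : I ≠ ⊤)
    (r : ℕ) (f : Fin r → I) (hf : LCI.IsKoszulRegularSeq R (List.ofFn (fun i => (f i : R))))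
    (hfI : Ideal.span (Set.range (fun i => (f i : R))) = I) :
    ∃ b : Module.Basis (Fin r) (R ⧸ I) I.Cotangent, ∀ i, b i = I.toCotangent (f i) := by
  classical
  let v : Fin r → I.Cotangent := fun i => I.toCotangent (f i)
  have htower : ∀ (c : R) (m : I.Cotangent), (Ideal.Quotient.mk I c) • m = c • m := fun c m =>
    algebraMap_smul (R ⧸ I) c m
  have hli : LinearIndependent (R ⧸ I) v := by
    rw [Fintype.linearIndependent_iff]
    intro g hg i
    choose a ha using fun i => Ideal.Quotient.mk_surjective (g i)
    have h1 : I.toCotangent (∑ i, a i • f i) = 0 := by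
      rw [map_sum, ← hg]
      refine Finset.sum_congr rfl fun i _ => ?_
      rw [map_smul, ← ha i, htower]
    rw [Ideal.toCotangent_eq_zero, pow_two] at h1
    have h2 : ((∑ i, a i • f i : I) : R) ∈ I • Submodule.span R (Set.range (fun i => (f i : R))) := by
      have hspan : Submodule.span R (Set.range (fun i => (f i : R))) = I := hfI
      rw [hspan, smul_eq_mul]
      exact h1
    rw [Submodule.mem_ideal_smul_span_iff_exists_sum] at h2
    obtain ⟨b, hb, hbsum⟩ := h2
    have hbsum' : ∑ i, b i * (f i : R) = ((∑ i, a i • f i : I) : R) := by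
      rw [← hbsum, Finsupp.sum_fintype b (fun i c => c • (f i : R)) (fun i => zero_smul R _)]
      rfl
    have h3 : ∑ i, (a i - b i) * (f i : R) = 0 := by
      simp only [sub_mul, Finset.sum_sub_distrib]
      rw [hbsum', sub_eq_zero]
      simp
    have h4 := relation_mem r f hf hfI (fun i => a i - b i) h3 i
    have h5 : a i ∈ I := by
      have := I.add_mem h4 (hb i)
      simpa using this
    rw [← ha i]
    exact Ideal.Quotient.eq_zero_iff_mem.2 h5
  have hsp : ⊤ ≤ Submodule.span (R ⧸ I) (Set.range v) := by
    rintro y -
    obtain ⟨x, rfl⟩ := I.toCotangent_surjective y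
    have hx : (x : R) ∈ Submodule.span R (Set.range (fun i => (f i : R))) := by
      have hspan : Submodule.span R (Set.range (fun i => (f i : R))) = I := hfI
      rw [hspan]
      exact x.2
    rw [Submodule.mem_span_range_iff_exists_fun] at hx
    obtain ⟨c, hc⟩ := hx
    have hx' : x = ∑ i, c i • f i := by
      apply Subtype.ext
      rw [← hc]
      simp
    rw [hx', map_sum]
    refine Submodule.sum_mem _ fun i _ => ?_
    rw [map_smul, ← htower]
    exact Submodule.smul_mem _ _ (Submodule.subset_span ⟨i, rfl⟩)
  exact ⟨Module.Basis.mk hli hsp, fun i => Module.Basis.mk_apply hli hsp i⟩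

end Groth.Agent.S18939
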