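import Groth.Statements.S7493
import Mathlib
import Groth.Agent.R2.H33FieldAut

set_option autoImplicit false
universe u
open CategoryTheory CategoryTheory.Limits AlgebraicGeometry
open Grpd

namespace Groth.Agent.S7493

/-- If a field-valued point `x` composed with `f` is an isomorphism, then `f` induces an
isomorphism of residue fields at the image of the closed point. -/
lemma isIso_residueFieldMap_of_isIso_comp {X Y : Scheme.{u}} {K : Type u} [Field K]
    (x : Spec (CommRingCat.of K) ⟶ X) (f : X ⟶ Y) [IsIso (x ≫ f)] :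
    IsIso (f.residueFieldMap (x (IsLocalRing.closedPoint K))) := by
  have hcomp : (x ≫ f).residueFieldMap (IsLocalRing.closedPoint K) =
      f.residueFieldMap (x (IsLocalRing.closedPoint K)) ≫
        x.residueFieldMap (IsLocalRing.closedPoint K) :=
    Scheme.residueFieldMap_comp x f _
  have hiso : IsIso (f.residueFieldMap (x (IsLocalRing.closedPoint K)) ≫
      x.residueFieldMap (IsLocalRing.closedPoint K)) := by
    have h0 : IsIso ((x ≫ f).residueFieldMap (IsLocalRing.closedPoint K)) := by
      have : IsOpenImmersion (x ≫ f) := inferInstance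
      infer_instance
    rw [hcomp] at h0
    exact h0
  have hbij := ConcreteCategory.bijective_of_isIso
    (f.residueFieldMap (x (IsLocalRing.closedPoint K)) ≫
      x.residueFieldMap (IsLocalRing.closedPoint K))
  have hB : IsIso (x.residueFieldMap (IsLocalRing.closedPoint K)) := by
    rw [ConcreteCategory.isIso_iff_bijective]
    refine ⟨(x.residueFieldMap (IsLocalRing.closedPoint K)).hom.injective, fun z => ?_⟩
    obtain ⟨w, hw⟩ := hbij.2 z
    exact ⟨_, hw⟩
  exact IsIso.of_isIso_comp_right _ (x.residueFieldMap (IsLocalRing.closedPoint K))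

/-- Let (U, R, s, t, c) be a groupoid scheme over S with U = Spec k for a field k, and let r be a point
of R. Then there exist a field extension k -> k' with k' algebraically closed and a point r' of the
restriction R' of R along g : U' = Spec k' -> U, that is R' = (U' x_(g,U,t) R) x_(s pr, U, g) U'
with t' the projection to the first factor U' and s' the projection to the last factor U', such that
r' maps to r under R' -> R and both s' and t' induce isomorphisms on residue fields at r' (k' ->
κ(r') bijective). (A groupoid scheme carries U, R, s, t, c, e, i over S with the groupoid axioms on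
T-points; c is defined on the fibre product of s and t and sends a pair (a, b) with s(a) = t(b) to a
composed with b.) -/
theorem result (S : Scheme.{u}) (G : Grpd.GroupoidScheme S) (k : Type u) [Field k] (eU : G.U ≅ Spec (CommRingCat.of k)) (r : G.R) : ∃ (k' : Type u) (_ : Field k') (_ : IsAlgClosed k') (_ : Algebra k k'), ∃ r' : ↑(pullback (pullback.snd (Spec.map (CommRingCat.ofHom (algebraMap k k')) ≫ eU.inv) G.t ≫ G.s) (Spec.map (CommRingCat.ofHom (algebraMap k k')) ≫ eU.inv)), (pullback.fst (pullback.snd (Spec.map (CommRingCat.ofHom (algebraMap k k')) ≫ eU.inv) G.t ≫ G.s) (Spec.map (CommRingCat.ofHom (algebraMap k k')) ≫ eU.inv) ≫ pullback.snd (Spec.map (CommRingCat.ofHom (algebraMap k k')) ≫ eU.inv) G.t) r' = r ∧ IsIso ((pullback.snd (pullback.snd (Spec.map (CommRingCat.ofHom (algebraMap k k')) ≫ eU.inv) G.t ≫ G.s) (Spec.map (CommRingCat.ofHom (algebraMap k k')) ≫ eU.inv)).residueFieldMap r') ∧ IsIso ((pullback.fst (pullback.snd (Spec.map (CommRingCat.ofHom (algebraMap k k')) ≫ eU.inv) G.t ≫ G.s)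 (Spec.map (CommRingCat.ofHom (algebraMap k k')) ≫ eU.inv) ≫ pullback.fst (Spec.map (CommRingCat.ofHom (algebraMap k k')) ≫ eU.inv) G.t).residueFieldMap r') := by
  classical
  let κ := G.R.residueField r
  let ρ₀ : Spec κ ⟶ G.R := G.R.fromSpecResidueField r
  let τc : CommRingCat.of k ⟶ κ := Spec.preimage (ρ₀ ≫ G.t ≫ eU.hom)
  let σc : CommRingCat.of k ⟶ κ := Spec.preimage (ρ₀ ≫ G.s ≫ eU.hom)
  have hτc : Spec.map τc = ρ₀ ≫ G.t ≫ eU.hom := Spec.map_preimage _
  have hσc : Spec.map σc = ρ₀ ≫ G.s ≫ eU.hom := Spec.map_preimage _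
  obtain ⟨k', hk'F, hk'A, ι, φ, hφ⟩ :=
    Groth.Agent.R2.H33.FieldAut.exists_algClosed_extension_aut (k := k) (κ := κ) τc.hom σc.hom
  let algk : Algebra k k' := (ι.comp τc.hom).toAlgebra
  refine ⟨k', hk'F, hk'A, algk, ?_⟩
  have halg : CommRingCat.ofHom (algebraMap k k') = τc ≫ CommRingCat.ofHom ι := rfl
  have hφ' : CommRingCat.ofHom (algebraMap k k') ≫ CommRingCat.ofHom (φ : k' →+* k') =
      σc ≫ CommRingCat.ofHom ι := by
    ext a
    exact hφ a
  set g : Spec (CommRingCat.of k') ⟶ G.U :=
    Spec.map (CommRingCat.ofHom (algebraMap k k')) ≫ eU.inv with hg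
  let ρ : Spec (CommRingCat.of k') ⟶ G.R := Spec.map (CommRingCat.ofHom ι) ≫ ρ₀
  let u₂ : Spec (CommRingCat.of k') ⟶ Spec (CommRingCat.of k') :=
    Spec.map (CommRingCat.ofHom (φ : k' →+* k'))
  have h₁ : 𝟙 (Spec (CommRingCat.of k')) ≫ g = ρ ≫ G.t := by
    rw [Category.id_comp, hg, halg, Spec.map_comp, hτc]
    simp only [Category.assoc, Iso.hom_inv_id, Category.comp_id]
    rfl
  have h₂' : u₂ ≫ g = ρ ≫ G.s := by
    rw [hg, ← Category.assoc]
    change (Spec.map (CommRingCat.ofHom (φ : k' →+* k')) ≫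
      Spec.map (CommRingCat.ofHom (algebraMap k k'))) ≫ eU.inv = _
    rw [← Spec.map_comp, hφ', Spec.map_comp, hσc]
    simp only [Category.assoc, Iso.hom_inv_id, Category.comp_id]
    rfl
  have h₂ : pullback.lift (𝟙 (Spec (CommRingCat.of k'))) ρ h₁ ≫ (pullback.snd g G.t ≫ G.s) =
      u₂ ≫ g := by
    rw [pullback.lift_snd_assoc, h₂']
  let x : Spec (CommRingCat.of k') ⟶ pullback (pullback.snd g G.t ≫ G.s) g :=
    pullback.lift (pullback.lift (𝟙 _) ρ h₁) u₂ h₂
  have hx1 : x ≫ pullback.fst (pullback.snd g G.t ≫ G.s) g ≫ pullback.snd g G.t = ρ := by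
    rw [pullback.lift_fst_assoc, pullback.lift_snd]
  have hx2 : x ≫ pullback.snd (pullback.snd g G.t ≫ G.s) g = u₂ := pullback.lift_snd _ _ _
  have hx3 : x ≫ pullback.fst (pullback.snd g G.t ≫ G.s) g ≫ pullback.fst g G.t = 𝟙 _ := by
    rw [pullback.lift_fst_assoc, pullback.lift_fst]
  have hu₂ : IsIso u₂ := by
    have : IsIso (CommRingCat.ofHom (φ : k' →+* k')) :=
      (ConcreteCategory.isIso_iff_bijective _).mpr φ.bijective
    infer_instance
  refine ⟨x (IsLocalRing.closedPoint k'), ?_, ?_, ?_⟩
  · rw [← Scheme.Hom.comp_apply, hx1]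
    simp only [ρ, Scheme.Hom.comp_apply]
    exact Scheme.fromSpecResidueField_apply _ _
  · haveI : IsIso (x ≫ pullback.snd (pullback.snd g G.t ≫ G.s) g) := by
      rw [hx2]; exact hu₂
    exact isIso_residueFieldMap_of_isIso_comp x _
  · haveI : IsIso (x ≫ pullback.fst (pullback.snd g G.t ≫ G.s) g ≫ pullback.fst g G.t) := by
      rw [hx3]; infer_instance
    exact isIso_residueFieldMap_of_isIso_comp x _

end Groth.Agent.S7493
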