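import Groth.Statements.S0696
import Groth.Agent.R2.H3WLocalization
import Groth.Agent.S0704

set_option autoImplicit false
open CategoryTheory CategoryTheory.Limits AlgebraicGeometry Opposite Topology
universe u
open ProEtW

namespace Groth.Agent.S0696

/-- A discrete copy of a type. -/
structure Disc (α : Type u) : Type u where
  /-- the underlying element -/
  out : α

instance (α : Type u) : TopologicalSpace (Disc α) := ⊥

instance (α : Type u) : DiscreteTopology (Disc α) := ⟨rfl⟩

/-- Every ring A admits a faithfully flat ind-Zariski extension B whose spectrum is w-local with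
extremally disconnected space of connected components. -/
theorem result (A : Type u) [CommRing A] :
    ∃ (B : Type u) (_ : CommRing B) (_ : Algebra A B),
      Module.FaithfullyFlat A B ∧ EtPBC.IsIndZariski A B ∧ ProEtW.IsWLocal (PrimeSpectrum B) ∧
        ExtremallyDisconnected (_root_.ConnectedComponents (PrimeSpectrum B)) := by
  obtain ⟨Aw, i1, i2, hF, hff, hW, -⟩ := Groth.Agent.R2.H3.WLocalization.exists_wLocalization A
  let D := Disc (_root_.ConnectedComponents (PrimeSpectrum Aw))
  have : ExtremallyDisconnected (StoneCech D) :=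
    CompactT2.Projective.extremallyDisconnected StoneCech.projective
  have : T2Space (_root_.ConnectedComponents (PrimeSpectrum Aw)) :=
    Groth.Agent.Lib.Helper10.Pi0.t2Space_connectedComponents
  have hcont : Continuous (Disc.out : D → _root_.ConnectedComponents (PrimeSpectrum Aw)) :=
    continuous_of_discreteTopology
  let g : C(StoneCech D, _root_.ConnectedComponents (PrimeSpectrum Aw)) :=
    ⟨stoneCechExtend hcont, continuous_stoneCechExtend hcont⟩
  have hg : Function.Surjective g := fun c =>
    ⟨stoneCechUnit (⟨c⟩ : D), stoneCechExtend_stoneCechUnit hcont ⟨c⟩⟩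
  obtain ⟨B, j1, j2, j3, j4, Ψ, hF₀, hF₁, hΨ⟩ :=
    Groth.Agent.R2.H3.ProfReal.exists_indZariski_realizing' Aw (StoneCech D) g hF
  obtain ⟨hY, -, -⟩ := Groth.Agent.S0704.result (PrimeSpectrum Aw) (StoneCech D) hW g
  obtain ⟨-, eY, heY⟩ := Groth.Agent.S0703.result (PrimeSpectrum Aw) (StoneCech D) g
  have : Module.Flat A B := Groth.Agent.R2.H3.IndZarFactor.flat_of_factor hF₀
  refine ⟨B, j1, j3, ?_, Groth.Agent.R2.H3.IndZarFactor.isIndZariski_of_factor hF₀,
    Groth.Agent.R2.H3.RhoLoc.isWLocal_of_homeomorph Ψ hY.2.1 hY.2.2,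
    extremallyDisconnected_of_homeo ((Groth.Agent.R2.H3.ProfReal.pi0Homeo Ψ).trans eY).symm⟩
  apply Module.FaithfullyFlat.of_comap_surjective
  intro x
  obtain ⟨x', hx'⟩ := PrimeSpectrum.comap_surjective_of_faithfullyFlat (A := A) (B := Aw) x
  obtain ⟨t, ht⟩ := hg (_root_.ConnectedComponents.mk x')
  refine ⟨Ψ.symm ⟨(x', t), ht.symm⟩, ?_⟩
  rw [IsScalarTower.algebraMap_eq A Aw B, PrimeSpectrum.comap_comp_apply, ← hΨ,
    Ψ.apply_symm_apply]
  exact hx'

end Groth.Agent.S0696
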