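import Groth.Statements.S0698
import Groth.Agent.R2.H3IndZarQuot

set_option autoImplicit false
open CategoryTheory CategoryTheory.Limits AlgebraicGeometry Opposite Topology
universe u
open ProEtW

namespace Groth.Agent.S0698

/-- Let A be a ring, X = Spec A and T a closed subset of pi_0(X). Then A has an ind-Zariski quotient
ring B (the map A -> B is surjective) whose spectrum maps homeomorphically onto the preimage of T in
X. -/
theorem result (A : Type u) [CommRing A]
    (T : Set (_root_.ConnectedComponents (PrimeSpectrum A))) (hT : IsClosed T) :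
    ∃ (B : Type u) (_ : CommRing B) (_ : Algebra A B),
      EtPBC.IsIndZariski A B ∧ Function.Surjective (algebraMap A B) ∧
      Topology.IsEmbedding (PrimeSpectrum.comap (algebraMap A B)) ∧
      Set.range (PrimeSpectrum.comap (algebraMap A B)) = _root_.ConnectedComponents.mk ⁻¹' T := by
  refine ⟨A ⧸ Ideal.span {e : A | IsIdempotentElem e ∧
      _root_.ConnectedComponents.mk ⁻¹' T ⊆ PrimeSpectrum.zeroLocus {e}}, inferInstance, inferInstance,
    Groth.Agent.R2.H3.IndZarQuot.isIndZariski_quot_span_idem _ (fun e he => he.1),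
    Ideal.Quotient.mk_surjective, ?_, ?_⟩
  · exact (PrimeSpectrum.isClosedEmbedding_comap_of_surjective _ _
      Ideal.Quotient.mk_surjective).isEmbedding
  · have hs : Function.Surjective (algebraMap A (A ⧸ Ideal.span {e : A | IsIdempotentElem e ∧
        _root_.ConnectedComponents.mk ⁻¹' T ⊆ PrimeSpectrum.zeroLocus {e}})) :=
      Ideal.Quotient.mk_surjective
    rw [_root_.range_comap_of_surjective _ _ hs]
    have : RingHom.ker (algebraMap A (A ⧸ Ideal.span {e : A | IsIdempotentElem e ∧
      _root_.ConnectedComponents.mk ⁻¹' T ⊆ PrimeSpectrum.zeroLocus {e}})) = Ideal.span {e : A | IsIdempotentElem e ∧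
      _root_.ConnectedComponents.mk ⁻¹' T ⊆ PrimeSpectrum.zeroLocus {e}} := Ideal.mk_ker
    rw [this]
    exact Groth.Agent.R2.H3.IndZarQuot.zeroLocus_span_idem_eq_preimage A T hT

end Groth.Agent.S0698
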