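import Groth.Statements.S0705
import Groth.Agent.R2.H3RhoLoc
import Groth.Agent.R2.H3IdLoc
import Groth.Agent.R2.H3LocIso

set_option autoImplicit false
open CategoryTheory CategoryTheory.Limits AlgebraicGeometry Opposite Topology
universe u
open ProEtW

namespace Groth.Agent.S0705

/-- Let I be an ideal of A such that V(I) is a profinite space. Then some ind-Zariski A-algebra B has
w-local spectrum whose closed points are exactly V(IB), with A/I -> B/IB bijective. -/
theorem result (A : Type u) [CommRing A] (I : Ideal A)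
    (hI : ProEtW.IsProfinite (PrimeSpectrum.zeroLocus (R := A) I)) :
    ∃ (B : Type u) (_ : CommRing B) (_ : Algebra A B),
      EtPBC.IsIndZariski A B ∧ ProEtW.IsWLocal (PrimeSpectrum B) ∧
      ProEtW.closedPoints (PrimeSpectrum B) = PrimeSpectrum.zeroLocus (I.map (algebraMap A B)) ∧
      Function.Bijective (Ideal.quotientMap (I.map (algebraMap A B)) (algebraMap A B)
        Ideal.le_comap_map) := by
  classical
  obtain ⟨hc, ht2, htd⟩ := hI
  let T : Type u := ↥(PrimeSpectrum.zeroLocus (R := A) I)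
  let ρ : T → PrimeSpectrum A := Subtype.val
  have : CompactSpace T := hc
  have : T2Space T := ht2
  have : TotallyDisconnectedSpace T := htd
  have hρ : ∀ a : A, IsOpen (ρ ⁻¹' (PrimeSpectrum.basicOpen a : Set (PrimeSpectrum A))) :=
    fun a => (PrimeSpectrum.basicOpen a).isOpen.preimage continuous_subtype_val
  have hρ' : ∀ a : A, IsOpen (ρ ⁻¹' (PrimeSpectrum.zeroLocus {a} : Set (PrimeSpectrum A))) := by
    intro a
    have hcpt : IsCompact (ρ ⁻¹' (PrimeSpectrum.basicOpen a : Set (PrimeSpectrum A))) :=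
      (PrimeSpectrum.isClosed_zeroLocus (I : Set A)).isClosedEmbedding_subtypeVal.isCompact_preimage
        (PrimeSpectrum.isCompact_basicOpen a)
    have : ρ ⁻¹' (PrimeSpectrum.zeroLocus {a} : Set (PrimeSpectrum A)) =
        (ρ ⁻¹' (PrimeSpectrum.basicOpen a : Set (PrimeSpectrum A)))ᶜ := by
      rw [PrimeSpectrum.basicOpen_eq_zeroLocus_compl, Set.preimage_compl, compl_compl]
    rw [this]
    exact hcpt.isClosed.isOpen_compl
  obtain ⟨B, _, _, Ψ, hF, hΨ, hW, hcl⟩ :=
    Groth.Agent.R2.H3.RhoLoc.exists_rhoLocalization (A := A) (T := T) ρ hρ hρ'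
  have hclosed : ProEtW.closedPoints (PrimeSpectrum B) =
      PrimeSpectrum.zeroLocus (I.map (algebraMap A B)) := by
    ext y
    show IsClosed ({y} : Set (PrimeSpectrum B)) ↔ _
    rw [hcl y, PrimeSpectrum.mem_zeroLocus, SetLike.coe_subset_coe, Ideal.map_le_iff_le_comap]
    constructor
    · intro h
      have h2 : (Ψ y).1.1 ∈ PrimeSpectrum.zeroLocus (R := A) I := by
        rw [h]; exact (Ψ y).1.2.2
      rw [hΨ y, PrimeSpectrum.mem_zeroLocus] at h2
      exact h2
    · intro h
      have hmem : (Ψ y).1.1 ∈ PrimeSpectrum.zeroLocus (R := A) I := by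
        rw [hΨ y, PrimeSpectrum.mem_zeroLocus]
        exact h
      have hle : (Ψ y).1.1 ≤ ρ (Ψ y).1.2 := (Ψ y).2
      have hspec : (⟨(Ψ y).1.1, hmem⟩ : T) ⤳ (Ψ y).1.2 := by
        rw [← Topology.IsInducing.subtypeVal.specializes_iff]
        exact (PrimeSpectrum.le_iff_specializes _ _).mp hle
      have := hspec.eq
      exact congrArg Subtype.val this
  have hex : ∀ z ∈ PrimeSpectrum.zeroLocus (R := A) I, ∃ y ∈ PrimeSpectrum.zeroLocus
      (I.map (algebraMap A B) : Set B), PrimeSpectrum.comap (algebraMap A B) y = z := by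
    intro z hz
    let w : Groth.Agent.R2.H3.RhoLoc.W A T ρ := ⟨(z, ⟨z, hz⟩), le_refl _⟩
    refine ⟨Ψ.symm w, ?_, ?_⟩
    · rw [← hclosed]
      show IsClosed _
      rw [hcl, Ψ.apply_symm_apply]
    · rw [← hΨ, Ψ.apply_symm_apply]
  have huniq : ∀ y ∈ PrimeSpectrum.zeroLocus (I.map (algebraMap A B) : Set B),
      ∀ y' ∈ PrimeSpectrum.zeroLocus (I.map (algebraMap A B) : Set B),
      PrimeSpectrum.comap (algebraMap A B) y = PrimeSpectrum.comap (algebraMap A B) y' → y = y' := by
    intro y hy y' hy' h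
    rw [← hclosed] at hy hy'
    have h1 : (Ψ y).1.1 = ρ (Ψ y).1.2 := (hcl y).mp hy
    have h2 : (Ψ y').1.1 = ρ (Ψ y').1.2 := (hcl y').mp hy'
    have h3 : (Ψ y).1.1 = (Ψ y').1.1 := by rw [hΨ, hΨ, h]
    have h4 : (Ψ y).1.2 = (Ψ y').1.2 := Subtype.ext (h1.symm.trans (h3.trans h2))
    apply Ψ.injective
    exact Subtype.ext (Prod.ext h3 h4)
  refine ⟨B, inferInstance, inferInstance,
    Groth.Agent.R2.H3.IndZarFactor.isIndZariski_of_factor hF, hW, hclosed, ?_⟩
  have hid := Groth.Agent.R2.H3.IdLoc.identifies_quotient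
    (Groth.Agent.R2.H3.IdLoc.identifies_of_factor hF) I
  have hcomm : ∀ ybar : PrimeSpectrum (B ⧸ I.map (algebraMap A B)),
      PrimeSpectrum.comap (algebraMap A B)
        (PrimeSpectrum.comap (Ideal.Quotient.mk (I.map (algebraMap A B))) ybar) =
      PrimeSpectrum.comap (Ideal.Quotient.mk I)
        (PrimeSpectrum.comap (algebraMap (A ⧸ I) (B ⧸ I.map (algebraMap A B))) ybar) := by
    intro ybar
    rw [← PrimeSpectrum.comap_comp_apply, ← PrimeSpectrum.comap_comp_apply]
    rfl
  have hmemJ : ∀ ybar : PrimeSpectrum (B ⧸ I.map (algebraMap A B)),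
      PrimeSpectrum.comap (Ideal.Quotient.mk (I.map (algebraMap A B))) ybar ∈
        PrimeSpectrum.zeroLocus (I.map (algebraMap A B) : Set B) := by
    intro ybar
    rw [PrimeSpectrum.mem_zeroLocus]
    intro b hb
    show Ideal.Quotient.mk (I.map (algebraMap A B)) b ∈ ybar.asIdeal
    rw [Ideal.Quotient.eq_zero_iff_mem.mpr hb]
    exact ybar.asIdeal.zero_mem
  have hbij : Function.Bijective
      (PrimeSpectrum.comap (algebraMap (A ⧸ I) (B ⧸ I.map (algebraMap A B)))) := by
    constructor
    · intro y y' h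
      apply PrimeSpectrum.comap_injective_of_surjective _
        (Ideal.Quotient.mk_surjective (I := I.map (algebraMap A B)))
      apply huniq _ (hmemJ y) _ (hmemJ y')
      rw [hcomm, hcomm, h]
    · intro zbar
      have hz : PrimeSpectrum.comap (Ideal.Quotient.mk I) zbar ∈
          PrimeSpectrum.zeroLocus (R := A) I := by
        rw [PrimeSpectrum.mem_zeroLocus]
        intro a ha
        show Ideal.Quotient.mk I a ∈ zbar.asIdeal
        rw [Ideal.Quotient.eq_zero_iff_mem.mpr ha]
        exact zbar.asIdeal.zero_mem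
      obtain ⟨y, hy, hyz⟩ := hex _ hz
      have hrange : y ∈ Set.range
          (PrimeSpectrum.comap (Ideal.Quotient.mk (I.map (algebraMap A B)))) := by
        rw [range_comap_of_surjective _ _ Ideal.Quotient.mk_surjective,
          Ideal.mk_ker]
        exact hy
      obtain ⟨ybar, rfl⟩ := hrange
      refine ⟨ybar, ?_⟩
      apply PrimeSpectrum.comap_injective_of_surjective _ (Ideal.Quotient.mk_surjective (I := I))
      rw [← hcomm, hyz]
  exact Groth.Agent.R2.H3.LocIso.bijective_of_bijective_comap hid hbij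

end Groth.Agent.S0705
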