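import Groth.Statements.S0737
import Groth.Agent.S0705
import Groth.Agent.S0702
import Groth.Agent.Lib.Helper10ProCons

set_option autoImplicit false
open CategoryTheory CategoryTheory.Limits AlgebraicGeometry Opposite Topology
universe u
open ProEtW

namespace Groth.Agent.S0737

/-- Let Spec A be w-local with radical ideal I cutting out its closed points, and A -> B inducing
algebraic residue field extensions. Then (1) every point of V(IB) is closed in Spec B, and (2) there
is an ind-Zariski B-algebra C with B/IB -> C/IC bijective, Spec C w-local, Spec C -> Spec A w-local,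
and closed points of Spec C exactly the points over closed points of Spec A. -/
theorem result (A B : Type u) [CommRing A]
    [CommRing B] [Algebra A B] (hA : ProEtW.IsWLocal (PrimeSpectrum A)) (I : Ideal A) (hI : I.IsRadical)
    (hI0 : PrimeSpectrum.zeroLocus (R := A) I = ProEtW.closedPoints (PrimeSpectrum A))
    (h : ProEtW.AlgebraicResidueExtensions A B) :
    PrimeSpectrum.zeroLocus (R := B) (I.map (algebraMap A B)) ⊆ ProEtW.closedPoints (PrimeSpectrum B) ∧
    ∃ (C : Type u) (_ : CommRing C) (_ : Algebra B C) (_ : Algebra A C) (_ : IsScalarTower A B C),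
      EtPBC.IsIndZariski B C ∧
      Function.Bijective (Ideal.quotientMap ((I.map (algebraMap A B)).map (algebraMap B C))
        (algebraMap B C) Ideal.le_comap_map) ∧
      ProEtW.IsWLocal (PrimeSpectrum C) ∧
      ProEtW.IsWLocalMap (PrimeSpectrum.comap (algebraMap A C)) ∧
      ProEtW.closedPoints (PrimeSpectrum C) =
        PrimeSpectrum.comap (algebraMap A C) ⁻¹' ProEtW.closedPoints (PrimeSpectrum A) := by
  classical
  -- (1) points of `V(IB)` are maximal
  have hmax : ∀ y : PrimeSpectrum B, y ∈ PrimeSpectrum.zeroLocus (R := B) (I.map (algebraMap A B)) →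
      y.asIdeal.IsMaximal := by
    intro y hy
    rw [PrimeSpectrum.mem_zeroLocus, SetLike.coe_subset_coe, Ideal.map_le_iff_le_comap] at hy
    have hp : PrimeSpectrum.comap (algebraMap A B) y ∈ ProEtW.closedPoints (PrimeSpectrum A) := by
      rw [← hI0, PrimeSpectrum.mem_zeroLocus]
      exact hy
    have hpmax : (y.asIdeal.comap (algebraMap A B)).IsMaximal :=
      (PrimeSpectrum.isClosed_singleton_iff_isMaximal _).mp hp
    obtain ⟨M, hM, hyM⟩ := Ideal.exists_le_maximal y.asIdeal y.2.ne_top
    have hMp : M.IsPrime := hM.isPrime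
    have hc : y.asIdeal.comap (algebraMap A B) = M.comap (algebraMap A B) :=
      hpmax.eq_of_le (Ideal.comap_ne_top _ hM.ne_top) (Ideal.comap_mono hyM)
    have := Groth.Agent.S0702.eq_of_le_of_comap_eq y.asIdeal M (h y.asIdeal) hc hyM
    rw [this]
    exact hM
  refine ⟨fun y hy => (PrimeSpectrum.isClosed_singleton_iff_isMaximal y).mpr (hmax y hy), ?_⟩
  -- (2) `V(IB)` is profinite
  have hprof : ProEtW.IsProfinite
      (PrimeSpectrum.zeroLocus (R := B) (I.map (algebraMap A B))) := by
    have hB : ∀ K : Ideal (B ⧸ I.map (algebraMap A B)), K.IsPrime → K.IsMaximal := by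
      intro K hK
      have hcomap : (K.comap (Ideal.Quotient.mk (I.map (algebraMap A B)))).IsMaximal := by
        apply hmax ⟨K.comap (Ideal.Quotient.mk (I.map (algebraMap A B))), inferInstance⟩
        rw [PrimeSpectrum.mem_zeroLocus]
        intro b hb
        show Ideal.Quotient.mk (I.map (algebraMap A B)) b ∈ K
        rw [Ideal.Quotient.eq_zero_iff_mem.mpr hb]
        exact K.zero_mem
      have := Ideal.map_eq_top_or_isMaximal_of_surjective
        (Ideal.Quotient.mk (I.map (algebraMap A B))) Ideal.Quotient.mk_surjective hcomap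
      rw [Ideal.map_comap_of_surjective _ Ideal.Quotient.mk_surjective] at this
      exact this.resolve_left hK.ne_top
    have : T2Space (PrimeSpectrum (B ⧸ I.map (algebraMap A B))) :=
      Groth.Agent.S0701.t2Space_of_forall_isMaximal hB
    have hemb := PrimeSpectrum.isClosedEmbedding_comap_of_surjective _
      (Ideal.Quotient.mk (I.map (algebraMap A B))) Ideal.Quotient.mk_surjective
    have hrange : Set.range (PrimeSpectrum.comap (Ideal.Quotient.mk (I.map (algebraMap A B)))) =
        PrimeSpectrum.zeroLocus (R := B) (I.map (algebraMap A B)) := by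
      rw [range_comap_of_surjective _ _ Ideal.Quotient.mk_surjective, Ideal.mk_ker]
    let e : PrimeSpectrum (B ⧸ I.map (algebraMap A B)) ≃ₜ
        ↥(PrimeSpectrum.zeroLocus (R := B) (I.map (algebraMap A B))) :=
      hemb.isEmbedding.toHomeomorph.trans (Homeomorph.setCongr hrange)
    exact ⟨e.compactSpace, e.t2Space, e.totallyDisconnectedSpace⟩
  obtain ⟨C, _, _, hind, hW, hcl, hbij⟩ :=
    Groth.Agent.S0705.result B (I.map (algebraMap A B)) hprof
  letI : Algebra A C := ((algebraMap B C).comp (algebraMap A B)).toAlgebra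
  haveI : IsScalarTower A B C := IsScalarTower.of_algebraMap_eq (fun _ => rfl)
  have hcl' : ProEtW.closedPoints (PrimeSpectrum C) =
      PrimeSpectrum.comap (algebraMap A C) ⁻¹' ProEtW.closedPoints (PrimeSpectrum A) := by
    rw [hcl, ← hI0]
    ext y
    rw [Set.mem_preimage, PrimeSpectrum.mem_zeroLocus, PrimeSpectrum.mem_zeroLocus,
      SetLike.coe_subset_coe, SetLike.coe_subset_coe, Ideal.map_le_iff_le_comap,
      Ideal.map_le_iff_le_comap]
    rfl
  refine ⟨C, inferInstance, inferInstance, inferInstance, inferInstance, hind, hbij, hW,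
    ⟨Groth.Agent.Lib.Helper10.ProCons.isSpectralMap_comap _, fun y hy => ?_⟩, hcl'⟩
  have : y ∈ ProEtW.closedPoints (PrimeSpectrum C) := hy
  rw [hcl'] at this
  exact this

end Groth.Agent.S0737
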