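import Groth.Statements.S9272
import Mathlib

set_option autoImplicit false
set_option linter.unusedSectionVars false
universe u
open CAlgX

namespace Groth.Agent.S9272


open TensorProduct

section Generic

variable {R : Type u} [CommRing R] {r : ℕ} (f : Fin r → R)

/-- exponent vectors of degree `n` -/
abbrev Idx (r n : ℕ) : Type := ↥(Finset.finsuppAntidiag (Finset.univ : Finset (Fin r)) n)

lemma idx_degree {n : ℕ} (d : Idx r n) : d.1.degree = n := by
  have := (Finset.mem_finsuppAntidiag.mp d.2).1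
  rw [Finsupp.degree_eq_sum]
  exact this

lemma mem_idx_of_degree {n : ℕ} (d : Fin r →₀ ℕ) (h : d.degree = n) :
    d ∈ Finset.finsuppAntidiag (Finset.univ : Finset (Fin r)) n := by
  rw [Finset.mem_finsuppAntidiag]
  refine ⟨?_, Finset.subset_univ _⟩
  rw [← h, Finsupp.degree_eq_sum]

/-- the monomial in `f` with exponent `d` -/
def mono (d : Fin r →₀ ℕ) : R := ∏ i, f i ^ d i

/-- evaluation of a homogeneous form of degree `n` given by its coefficient vector -/
def ev (n : ℕ) : (Idx r n → R) →ₗ[R] R :=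
  Fintype.linearCombination R (fun d : Idx r n => mono f d.1)

lemma ev_apply (n : ℕ) (c : Idx r n → R) : ev f n c = ∑ d, c d * mono f d.1 := by
  simp [ev, Fintype.linearCombination_apply]

/-- the homogeneous polynomial with the given coefficient vector -/
noncomputable def toPoly (n : ℕ) (c : Idx r n → R) : MvPolynomial (Fin r) R :=
  ∑ d, MvPolynomial.monomial d.1 (c d)

lemma toPoly_isHomogeneous (n : ℕ) (c : Idx r n → R) : (toPoly n c).IsHomogeneous n := by
  unfold toPoly
  exact MvPolynomial.IsHomogeneous.sum _ _ _ fun d _ =>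
    MvPolynomial.isHomogeneous_monomial _ (idx_degree d)

lemma coeff_toPoly (n : ℕ) (c : Idx r n → R) (d : Idx r n) :
    MvPolynomial.coeff d.1 (toPoly n c) = c d := by
  classical
  unfold toPoly
  rw [MvPolynomial.coeff_sum]
  simp only [MvPolynomial.coeff_monomial]
  rw [Finset.sum_eq_single d]
  · simp
  · intro b _ hb
    rw [if_neg]
    exact fun h => hb (Subtype.ext h)
  · intro h; exact absurd (Finset.mem_univ d) h

lemma eval_toPoly (n : ℕ) (c : Idx r n → R) :
    MvPolynomial.eval f (toPoly n c) = ev f n c := by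
  unfold toPoly
  rw [map_sum, ev_apply]
  refine Finset.sum_congr rfl fun d _ => ?_
  rw [MvPolynomial.eval_monomial, mono, Finsupp.prod_fintype _ _ (fun i => by simp)]

lemma toPoly_coeff (n : ℕ) (P : MvPolynomial (Fin r) R) (hP : P.IsHomogeneous n) :
    toPoly n (fun d => MvPolynomial.coeff d.1 P) = P := by
  classical
  ext e
  by_cases he : e.degree = n
  · have := coeff_toPoly n (fun d => MvPolynomial.coeff d.1 P) ⟨e, mem_idx_of_degree e he⟩
    exact this
  · rw [(toPoly_isHomogeneous n _).coeff_eq_zero he, hP.coeff_eq_zero he]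

lemma mem_pow_iff (n : ℕ) (x : R) :
    x ∈ Ideal.span (Set.range f) ^ n ↔ ∃ c : Idx r n → R, ev f n c = x := by
  rw [Ideal.mem_span_pow_iff_exists_isHomogeneous]
  constructor
  · rintro ⟨P, hP, rfl⟩
    refine ⟨fun d => MvPolynomial.coeff d.1 P, ?_⟩
    rw [← eval_toPoly, toPoly_coeff n P hP]
  · rintro ⟨c, rfl⟩
    exact ⟨toPoly n c, toPoly_isHomogeneous n c, eval_toPoly f n c⟩

lemma qr_iff : CAlgX.IsQuasiRegular f ↔
    ∀ (n : ℕ) (c : Idx r n → R), ev f n c ∈ Ideal.span (Set.range f) ^ (n + 1) →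
      ∀ d, c d ∈ Ideal.span (Set.range f) := by
  constructor
  · intro h n c hc d
    have := h n (toPoly n c) (toPoly_isHomogeneous n c) (by rwa [eval_toPoly]) d.1
    rwa [coeff_toPoly] at this
  · intro h n P hP hev d
    by_cases hd : d.degree = n
    · have h1 := h n (fun d => MvPolynomial.coeff d.1 P)
        (by rwa [← eval_toPoly, toPoly_coeff n P hP]) ⟨d, mem_idx_of_degree d hd⟩
      exact h1
    · rw [hP.coeff_eq_zero hd]; exact Ideal.zero_mem _

end Generic


section Flat

variable {R : Type*} [CommRing R]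

/-- Extension of flat by flat is flat. -/
theorem flat_of_exact' {M' M M'' : Type*} [AddCommGroup M'] [AddCommGroup M] [AddCommGroup M'']
    [Module R M'] [Module R M] [Module R M''] [Module.Flat R M'] [Module.Flat R M'']
    (ι : M' →ₗ[R] M) (δ : M →ₗ[R] M'') (hι : Function.Injective ι) (hδ : Function.Surjective δ)
    (hex : Function.Exact ι δ) : Module.Flat R M := by
  rw [Module.Flat.iff_rTensor_injective']
  intro I
  have hex2 : Function.Exact (ι.lTensor I) (δ.lTensor I) := lTensor_exact I hex hδ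
  have h1 : Function.Injective (LinearMap.rTensor M' (Submodule.subtype I)) :=
    Module.Flat.rTensor_preserves_injective_linearMap _ (Submodule.subtype_injective I)
  have h2 : Function.Injective (LinearMap.rTensor M'' (Submodule.subtype I)) :=
    Module.Flat.rTensor_preserves_injective_linearMap _ (Submodule.subtype_injective I)
  have hιR : Function.Injective (ι.lTensor R) :=
    Module.Flat.lTensor_preserves_injective_linearMap _ hι
  rw [injective_iff_map_eq_zero]
  intro x hx
  have e1 : (LinearMap.rTensor M'' (Submodule.subtype I)) ((δ.lTensor I) x) = 0 := by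
    rw [← LinearMap.comp_apply, LinearMap.rTensor_comp_lTensor, ← LinearMap.lTensor_comp_rTensor,
      LinearMap.comp_apply, hx, map_zero]
  have e2 : (δ.lTensor I) x = 0 := h2 (by rw [e1, map_zero])
  obtain ⟨y, rfl⟩ := (hex2 x).mp e2
  have e3 : (ι.lTensor R) ((LinearMap.rTensor M' (Submodule.subtype I)) y) = 0 := by
    rw [← LinearMap.comp_apply, LinearMap.lTensor_comp_rTensor, ← LinearMap.rTensor_comp_lTensor,
      LinearMap.comp_apply, hx]
  have e4 : y = 0 := h1 (by rw [map_zero]; exact hιR (by rw [e3, map_zero]))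
  rw [e4, map_zero]

end Flat

section Step1

variable {A B : Type u} [CommRing A] [CommRing B] [Algebra A B] {r : ℕ} (f : Fin r → B)

/-- `φ_n : (Idx → B) → B/J^(n+1)`, `A`-linear -/
noncomputable def phiN (n : ℕ) : (Idx r n → B) →ₗ[A] B ⧸ (Ideal.span (Set.range f) ^ (n + 1)) :=
  ((Ideal.span (Set.range f) ^ (n + 1)).mkQ.restrictScalars A) ∘ₗ ((ev f n).restrictScalars A)

lemma phiN_apply (n : ℕ) (c : Idx r n → B) :
    phiN (A := A) f n c = Ideal.Quotient.mk _ (ev f n c) := rfl

/-- `ψ_n : (Idx → B) → (Idx → B/J)`, `A`-linear -/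
noncomputable def psiN (n : ℕ) : (Idx r n → B) →ₗ[A] (Idx r n → B ⧸ Ideal.span (Set.range f)) :=
  ((Ideal.span (Set.range f)).mkQ.restrictScalars A).compLeft (Idx r n)

lemma psiN_apply (n : ℕ) (c : Idx r n → B) (d : Idx r n) :
    psiN (A := A) f n c d = Ideal.Quotient.mk _ (c d) := rfl

lemma psiN_surjective (n : ℕ) : Function.Surjective (psiN (A := A) f n) := by
  intro y
  choose c hc using fun d => Ideal.Quotient.mk_surjective (y d)
  exact ⟨c, funext hc⟩

lemma mem_ker_psiN (n : ℕ) (c : Idx r n → B) :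
    c ∈ LinearMap.ker (psiN (A := A) f n) ↔ ∀ d, c d ∈ Ideal.span (Set.range f) := by
  rw [LinearMap.mem_ker, funext_iff]
  refine forall_congr' fun d => ?_
  rw [psiN_apply, Pi.zero_apply, Ideal.Quotient.eq_zero_iff_mem]

lemma ev_mem_of_forall_mem (n : ℕ) (c : Idx r n → B)
    (hc : ∀ d, c d ∈ Ideal.span (Set.range f)) :
    ev f n c ∈ Ideal.span (Set.range f) ^ (n + 1) := by
  rw [ev_apply]
  refine Ideal.sum_mem _ fun d _ => ?_
  rw [pow_succ']
  refine Ideal.mul_mem_mul (hc d) ?_
  rw [mem_pow_iff]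
  classical
  refine ⟨Pi.single d 1, ?_⟩
  rw [ev_apply, Finset.sum_eq_single d]
  · simp
  · intro b _ hb; simp [hb]
  · intro h; exact absurd (Finset.mem_univ d) h

lemma ker_phiN_eq (hq : CAlgX.IsQuasiRegular f) (n : ℕ) :
    LinearMap.ker (phiN (A := A) f n) = LinearMap.ker (psiN (A := A) f n) := by
  ext c
  rw [mem_ker_psiN, LinearMap.mem_ker, phiN_apply, Ideal.Quotient.eq_zero_iff_mem]
  exact ⟨fun h => (qr_iff f).mp hq n c h, ev_mem_of_forall_mem f n c⟩

/-- the range of `φ_n` is flat -/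
theorem flat_range_phiN (hflat : Module.Flat A (B ⧸ Ideal.span (Set.range f)))
    (hq : CAlgX.IsQuasiRegular f) (n : ℕ) :
    Module.Flat A (LinearMap.range (phiN (A := A) f n)) := by
  have e1 : ((Idx r n → B) ⧸ LinearMap.ker (phiN (A := A) f n)) ≃ₗ[A]
      LinearMap.range (phiN (A := A) f n) := LinearMap.quotKerEquivRange _
  have e2 : ((Idx r n → B) ⧸ LinearMap.ker (phiN (A := A) f n)) ≃ₗ[A]
      ((Idx r n → B) ⧸ LinearMap.ker (psiN (A := A) f n)) :=
    Submodule.quotEquivOfEq _ _ (ker_phiN_eq f hq n)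
  have e3 : ((Idx r n → B) ⧸ LinearMap.ker (psiN (A := A) f n)) ≃ₗ[A]
      (Idx r n → B ⧸ Ideal.span (Set.range f)) :=
    LinearMap.quotKerEquivOfSurjective _ (psiN_surjective f n)
  have : Module.Flat A (Idx r n → B ⧸ Ideal.span (Set.range f)) :=
    Module.Flat.of_linearEquiv (DirectSum.linearEquivFunOnFintype A (Idx r n)
      (fun _ => B ⧸ Ideal.span (Set.range f))).symm
  exact Module.Flat.of_linearEquiv (e1.symm ≪≫ₗ e2 ≪≫ₗ e3)

end Step1


section Step1b

variable {A B : Type u} [CommRing A] [CommRing B] [Algebra A B] {r : ℕ} (f : Fin r → B)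

/-- `B/J^(n+1) → B/J^n`, `A`-linear -/
noncomputable def deltaN (n : ℕ) :
    (B ⧸ (Ideal.span (Set.range f) ^ (n + 1))) →ₗ[A] (B ⧸ (Ideal.span (Set.range f) ^ n)) :=
  (Ideal.Quotient.factorₐ A (Ideal.pow_le_pow_right n.le_succ)).toLinearMap

lemma deltaN_mk (n : ℕ) (b : B) :
    deltaN (A := A) f n (Ideal.Quotient.mk _ b) = Ideal.Quotient.mk _ b := rfl

lemma deltaN_surjective (n : ℕ) : Function.Surjective (deltaN (A := A) f n) := by
  intro y
  obtain ⟨b, rfl⟩ := Ideal.Quotient.mk_surjective y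
  exact ⟨Ideal.Quotient.mk _ b, rfl⟩

lemma exact_range_phiN_deltaN (n : ℕ) :
    Function.Exact (LinearMap.range (phiN (A := A) f n)).subtype (deltaN (A := A) f n) := by
  intro y
  obtain ⟨b, rfl⟩ := Ideal.Quotient.mk_surjective y
  rw [deltaN_mk, Ideal.Quotient.eq_zero_iff_mem, mem_pow_iff]
  constructor
  · rintro ⟨c, rfl⟩
    exact ⟨⟨_, ⟨c, rfl⟩⟩, rfl⟩
  · rintro ⟨⟨_, ⟨c, rfl⟩⟩, hc⟩
    have hc' : Ideal.Quotient.mk (Ideal.span (Set.range f) ^ (n + 1)) (ev f n c) =
        Ideal.Quotient.mk _ b := hc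
    rw [Ideal.Quotient.eq] at hc'
    -- b = ev c - (ev c - b), with ev c - b ∈ J^(n+1) ⊆ J^n
    have h1 : ev f n c - b ∈ Ideal.span (Set.range f) ^ n :=
      Ideal.pow_le_pow_right n.le_succ hc'
    have h2 : ev f n c ∈ Ideal.span (Set.range f) ^ n := (mem_pow_iff f n _).mpr ⟨c, rfl⟩
    have h3 : b ∈ Ideal.span (Set.range f) ^ n := by
      have := Ideal.sub_mem _ h2 h1
      simpa using this
    exact (mem_pow_iff f n b).mp h3

theorem flat_quot_pow (hflat : Module.Flat A (B ⧸ Ideal.span (Set.range f)))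
    (hq : CAlgX.IsQuasiRegular f) :
    ∀ n : ℕ, Module.Flat A (B ⧸ (Ideal.span (Set.range f) ^ n)) := by
  intro n
  induction n with
  | zero =>
    have : Subsingleton (B ⧸ (Ideal.span (Set.range f) ^ 0)) := by
      rw [pow_zero, Ideal.one_eq_top]
      exact Ideal.Quotient.subsingleton_iff.mpr rfl
    infer_instance
  | succ n ih =>
    have := flat_range_phiN f hflat hq n
    exact flat_of_exact' (LinearMap.range (phiN (A := A) f n)).subtype (deltaN (A := A) f n)
      (Submodule.subtype_injective _) (deltaN_surjective f n) (exact_range_phiN_deltaN f n)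

end Step1b


section Step2

variable {A B A' : Type u} [CommRing A] [CommRing B] [CommRing A'] [Algebra A B] [Algebra A A']
  {r : ℕ} (f : Fin r → B)

/-- the comparison map -/
noncomputable def Phi (n : ℕ) : A' ⊗[A] (Idx r n → B) ≃ₗ[A] (Idx r n → A' ⊗[A] B) :=
  TensorProduct.piRight A A A' (fun _ : Idx r n => B)

lemma Phi_tmul (n : ℕ) (x : A') (c : Idx r n → B) :
    Phi (A := A) n (x ⊗ₜ[A] c) = fun d => x ⊗ₜ[A] c d := by
  simp [Phi]

lemma mono_tmul (d : Fin r →₀ ℕ) :
    mono (fun i => ((1 : A') ⊗ₜ[A] f i : A' ⊗[A] B)) d = (1 : A') ⊗ₜ[A] mono f d := by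
  unfold mono
  have h : ∀ i, ((1 : A') ⊗ₜ[A] f i : A' ⊗[A] B) ^ d i = (1 : A') ⊗ₜ[A] (f i ^ d i) := by
    intro i
    rw [Algebra.TensorProduct.tmul_pow, one_pow]
  simp_rw [h]
  have : ∀ s : Finset (Fin r), ∏ i ∈ s, ((1 : A') ⊗ₜ[A] (f i ^ d i) : A' ⊗[A] B) =
      (1 : A') ⊗ₜ[A] ∏ i ∈ s, f i ^ d i := by
    intro s
    induction s using Finset.induction_on with
    | empty => simp [Algebra.TensorProduct.one_def]
    | insert a s ha ih =>
      rw [Finset.prod_insert ha, Finset.prod_insert ha, ih, Algebra.TensorProduct.tmul_mul_tmul,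
        one_mul]
  exact this _

lemma ev_Phi (n : ℕ) (z : A' ⊗[A] (Idx r n → B)) :
    ev (fun i => ((1 : A') ⊗ₜ[A] f i : A' ⊗[A] B)) n (Phi (A := A) n z) =
      ((ev f n).restrictScalars A).lTensor A' z := by
  induction z using TensorProduct.induction_on with
  | zero => simp
  | tmul x c =>
    rw [Phi_tmul, LinearMap.lTensor_tmul, ev_apply, LinearMap.restrictScalars_apply, ev_apply,
      tmul_sum]
    refine Finset.sum_congr rfl fun d _ => ?_
    rw [mono_tmul, Algebra.TensorProduct.tmul_mul_tmul, mul_one]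
  | add z w hz hw =>
    rw [map_add, map_add, map_add, hz, hw]

/-- elements of `J'^(n+1)` die in `A' ⊗ B/J^(n+1)` -/
lemma lTensor_mkQ_eq_zero (n : ℕ) (y : A' ⊗[A] B)
    (hy : y ∈ Ideal.span (Set.range (fun i => ((1 : A') ⊗ₜ[A] f i : A' ⊗[A] B))) ^ (n + 1)) :
    ((Ideal.span (Set.range f) ^ (n + 1)).mkQ.restrictScalars A).lTensor A' y = 0 := by
  obtain ⟨c, rfl⟩ := (mem_pow_iff _ (n + 1) y).mp hy
  rw [ev_apply, map_sum]
  refine Finset.sum_eq_zero fun d _ => ?_
  rw [mono_tmul]
  have hmono : mono f d.1 ∈ Ideal.span (Set.range f) ^ (n + 1) := by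
    classical
    rw [mem_pow_iff]
    refine ⟨Pi.single d 1, ?_⟩
    rw [ev_apply, Finset.sum_eq_single d]
    · simp
    · intro b _ hb; simp [hb]
    · intro h; exact absurd (Finset.mem_univ d) h
  generalize c d = b'
  induction b' using TensorProduct.induction_on with
  | zero => simp
  | tmul x b =>
    rw [Algebra.TensorProduct.tmul_mul_tmul, mul_one, LinearMap.lTensor_tmul]
    have : ((Ideal.span (Set.range f) ^ (n + 1)).mkQ.restrictScalars A) (b * mono f d.1) = 0 := by
      simp only [LinearMap.coe_restrictScalars, Submodule.mkQ_apply, Submodule.Quotient.mk_eq_zero]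
      exact Ideal.mul_mem_left _ _ hmono
    rw [this, tmul_zero]
  | add z w hz hw =>
    rw [add_mul, map_add, hz, hw, add_zero]

lemma tmul_mem_span (x : A') (j : B) (hj : j ∈ Ideal.span (Set.range f)) :
    (x ⊗ₜ[A] j : A' ⊗[A] B) ∈
      Ideal.span (Set.range (fun i => ((1 : A') ⊗ₜ[A] f i : A' ⊗[A] B))) := by
  have h1 : (x ⊗ₜ[A] j : A' ⊗[A] B) = (x ⊗ₜ[A] (1 : B)) * ((1 : A') ⊗ₜ[A] j) := by
    rw [Algebra.TensorProduct.tmul_mul_tmul, mul_one, one_mul]
  rw [h1]
  refine Ideal.mul_mem_left _ _ ?_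
  have h2 : ((1 : A') ⊗ₜ[A] j : A' ⊗[A] B) ∈
      Ideal.map (Algebra.TensorProduct.includeRight : B →ₐ[A] A' ⊗[A] B) (Ideal.span (Set.range f)) :=
    Ideal.mem_map_of_mem _ hj
  rw [Ideal.map_span, ← Set.range_comp] at h2
  exact h2

theorem main (hflat : Module.Flat A (B ⧸ Ideal.span (Set.range f))) (hq : CAlgX.IsQuasiRegular f) :
    CAlgX.IsQuasiRegular (fun i => ((1 : A') ⊗ₜ[A] f i : TensorProduct A A' B)) := by
  rw [qr_iff]
  intro n c' hc' d
  have hfl := flat_quot_pow f hflat hq n
  obtain ⟨z, rfl⟩ := (Phi (A := A) (A' := A') (B := B) n).surjective c'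
  rw [ev_Phi] at hc'
  -- φ_n ⊗ A' kills z
  have h1 : (phiN (A := A) f n).lTensor A' z = 0 := by
    have := lTensor_mkQ_eq_zero f n _ hc'
    rw [← LinearMap.comp_apply, ← LinearMap.lTensor_comp] at this
    exact this
  set p := (phiN (A := A) f n).rangeRestrict with hp
  have hfac : phiN (A := A) f n = (LinearMap.range (phiN (A := A) f n)).subtype ∘ₗ p :=
    LinearMap.ext fun _ => rfl
  have hinj : Function.Injective ((LinearMap.range (phiN (A := A) f n)).subtype.lTensor A') :=
    LinearMap.lTensor_injective_of_exact_of_flat (deltaN (A := A) f n) (deltaN_surjective f n) _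
      (Submodule.subtype_injective _) (exact_range_phiN_deltaN f n) A'
  have h2 : p.lTensor A' z = 0 := by
    apply hinj
    rw [map_zero, ← LinearMap.comp_apply, ← LinearMap.lTensor_comp, ← hfac]
    exact h1
  have hex : Function.Exact ((LinearMap.ker p).subtype.lTensor A') (p.lTensor A') :=
    lTensor_exact A' (LinearMap.exact_subtype_ker_map p) (LinearMap.surjective_rangeRestrict _)
  obtain ⟨w, rfl⟩ := (hex z).mp h2
  clear h1 h2 hc'
  induction w using TensorProduct.induction_on with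
  | zero => simp
  | tmul x t =>
    rw [LinearMap.lTensor_tmul, Phi_tmul]
    apply tmul_mem_span
    have ht : t.1 ∈ LinearMap.ker (phiN (A := A) f n) := by
      have := t.2
      rw [LinearMap.mem_ker] at this ⊢
      have h3 := congrArg Subtype.val this
      exact h3
    rw [ker_phiN_eq f hq n, mem_ker_psiN] at ht
    exact ht d
  | add w₁ w₂ h₁ h₂ =>
    rw [map_add, map_add]
    exact Ideal.add_mem _ h₁ h₂

end Step2

/-- Let A → B and A → A' be ring maps and B' = A' ⊗_A B. If f_1, ..., f_r is a quasi-regular sequence in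
B with B/(f_1, ..., f_r) flat over A, then the images of the f_i in B' form a quasi-regular
sequence. -/
theorem result (A B A' : Type u) [CommRing A] [CommRing B]
    [CommRing A'] [Algebra A B] [Algebra A A'] (r : ℕ) (f : Fin r → B)
    (hflat : Module.Flat A (B ⧸ Ideal.span (Set.range f))) (hq : CAlgX.IsQuasiRegular f) :
    CAlgX.IsQuasiRegular (fun i => ((1 : A') ⊗ₜ[A] f i : TensorProduct A A' B)) := by
  exact main f hflat hq

end Groth.Agent.S9272
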