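import Groth.Statements.S7468
import Groth.Agent.R2.H33ValLiftPh

set_option autoImplicit false
universe w u
open HTop

namespace Groth.Agent.S7468

open CategoryTheory CategoryTheory.Limits AlgebraicGeometry in
/-- If T is affine and a finite family is obtained by restricting one proper surjective morphism U -> T
to the pieces of a finite affine open cover of U, then the family is a standard V covering. -/
theorem result {T : Scheme.{u}} (E : PreZeroHypercover.{w} T) (hE : HTop.IsStandardPh E) : HTop.IsStandardV E := by
  obtain ⟨U, f, ι, hf, hs, hι, hιf, hcov⟩ := hE.exists_proper
  haveI := hf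
  haveI := hs
  exact ⟨hE.isAffine, hE.finite_index, hE.isAffine_obj,
    Groth.Agent.R2.H33.ValLiftPh.hasValLift_of_proper_surjective E f ι hι hιf hcov⟩

end Groth.Agent.S7468
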