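import Groth.Statements.S9366
import Mathlib
import Groth.Agent.Lib.Helper3SmDim

set_option linter.style.haveILetI false

set_option autoImplicit false
universe u
open Synt

namespace Groth.Agent.S9366

open TensorProduct
open Groth.Agent.Lib.Helper14.FTDim Groth.Agent.Lib.Helper14.LocalDim Groth.Agent.Lib.Helper7.TopDim
open Groth.Agent.Lib.Helper4.FibDim

theorem fibre_presentation (R κ : Type u) [CommRing R] [CommRing κ] [Algebra R κ] (n c : ℕ)
    (F : Fin c → MvPolynomial (Fin n) R) :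
    ∃ π : MvPolynomial (Fin n) κ →ₐ[κ] κ ⊗[R] (MvPolynomial (Fin n) R ⧸ Ideal.span (Set.range F)),
      Function.Surjective π ∧
      RingHom.ker π =
        Ideal.span (Set.range fun j => MvPolynomial.map (algebraMap R κ) (F j)) := by
  set I := Ideal.span (Set.range F) with hI
  let e : κ ⊗[R] MvPolynomial (Fin n) R ≃ₐ[κ] MvPolynomial (Fin n) κ :=
    MvPolynomial.algebraTensorAlgEquiv R κ
  let m : κ ⊗[R] MvPolynomial (Fin n) R →ₐ[κ] κ ⊗[R] (MvPolynomial (Fin n) R ⧸ I) :=
    Algebra.TensorProduct.map (AlgHom.id κ κ) (Ideal.Quotient.mkₐ R I)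
  have hm : Function.Surjective m :=
    Algebra.TensorProduct.map_surjective _ _ Function.surjective_id
      (Ideal.Quotient.mkₐ_surjective R I)
  have hker : RingHom.ker m = I.map (Algebra.TensorProduct.includeRight :
      MvPolynomial (Fin n) R →ₐ[R] κ ⊗[R] MvPolynomial (Fin n) R) := by
    have := Algebra.TensorProduct.lTensor_ker (A := κ) (Ideal.Quotient.mkₐ R I)
      (Ideal.Quotient.mkₐ_surjective R I)
    have h0 : RingHom.ker (Ideal.Quotient.mkₐ R I) = I := Ideal.Quotient.mkₐ_ker R I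
    rw [h0] at this
    rw [← this]
    rfl
  refine ⟨m.comp e.symm.toAlgHom, hm.comp e.symm.surjective, ?_⟩
  have h1 : RingHom.ker (m.comp e.symm.toAlgHom) =
      (RingHom.ker m).comap (e.toRingEquiv.symm : MvPolynomial (Fin n) κ →+* _) := rfl
  rw [h1, hker, hI, Ideal.map_span]
  have h2 : ∀ J : Ideal (κ ⊗[R] MvPolynomial (Fin n) R),
      J.comap (e.toRingEquiv.symm : MvPolynomial (Fin n) κ →+* _) = J.map e.toRingEquiv :=
    fun J => Ideal.comap_symm e.toRingEquiv
  rw [h2, Ideal.map_span]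
  congr 1
  ext y
  constructor
  · rintro ⟨_, ⟨_, ⟨j, rfl⟩, rfl⟩, rfl⟩
    exact ⟨j, by simp [e]⟩
  · rintro ⟨j, rfl⟩
    exact ⟨_, ⟨_, ⟨j, rfl⟩, rfl⟩, by simp [e]⟩

theorem le_dim_quotient_minimalPrimes (κ : Type u) [Field κ] (n c : ℕ)
    (G : Fin c → MvPolynomial (Fin n) κ) (B : Type u) [CommRing B] [Algebra κ B]
    (π : MvPolynomial (Fin n) κ →ₐ[κ] B) (hπ : Function.Surjective π)
    (hker : RingHom.ker π = Ideal.span (Set.range G))
    (𝔮 : Ideal B) (h𝔮 : 𝔮 ∈ minimalPrimes B) :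
    ((n - c : ℕ) : WithBot ℕ∞) ≤ ringKrullDim (B ⧸ 𝔮) := by
  haveI : 𝔮.IsPrime := h𝔮.1.1
  set 𝔔 := 𝔮.comap (π : MvPolynomial (Fin n) κ →+* B) with h𝔔
  haveI : 𝔔.IsPrime := Ideal.comap_isPrime _ _
  have hmin : 𝔔 ∈ (Ideal.span (Set.range G)).minimalPrimes := by
    rw [← hker, RingHom.ker_eq_comap_bot]
    exact Ideal.minimalPrimes_comap_of_surjective (f := (π : MvPolynomial (Fin n) κ →+* B)) hπ h𝔮
  have hht : 𝔔.height ≤ (c : ℕ∞) := by
    refine (Ideal.height_le_card_of_mem_minimalPrimes_span (Set.finite_range G) hmin).trans ?_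
    have : (Set.range G).ncard ≤ c := by
      have := Set.ncard_image_le (f := G) (s := Set.univ) (Set.finite_univ)
      rw [Set.image_univ, Set.ncard_univ, Nat.card_eq_fintype_card, Fintype.card_fin] at this
      exact this
    exact_mod_cast this
  obtain ⟨m, c', hc'm, hm, hc', hq⟩ := exists_dim_height (k := κ) (MvPolynomial (Fin n) κ) 𝔔
  have hmn : m = n := by
    rw [MvPolynomial.ringKrullDim_of_isNoetherianRing, ringKrullDim_eq_zero_of_field] at hm
    simp only [zero_add, Nat.card_eq_fintype_card, Fintype.card_fin] at hm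
    exact_mod_cast hm.symm
  have hc'c : c' ≤ c := by
    rw [hc'] at hht
    exact_mod_cast hht
  -- B/𝔮 ≅ κ[x]/𝔔
  have heq : ringKrullDim (B ⧸ 𝔮) = ringKrullDim (MvPolynomial (Fin n) κ ⧸ 𝔔) := by
    let φ : MvPolynomial (Fin n) κ ⧸ 𝔔 →+* B ⧸ 𝔮 :=
      Ideal.quotientMap 𝔮 (π : MvPolynomial (Fin n) κ →+* B) le_rfl
    have hinj : Function.Injective φ := Ideal.quotientMap_injective
    have hsurj : Function.Surjective φ := Ideal.quotientMap_surjective hπ
    exact (ringKrullDim_eq_of_ringEquiv (RingEquiv.ofBijective φ ⟨hinj, hsurj⟩)).symm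
  rw [heq, hq, hmn]
  have : n - c ≤ n - c' := by omega
  exact_mod_cast this

theorem localDim_eq_of_presentation (κ : Type u) [Field κ] (n c : ℕ)
    (G : Fin c → MvPolynomial (Fin n) κ) (B : Type u) [CommRing B] [Algebra κ B]
    (π : MvPolynomial (Fin n) κ →ₐ[κ] B) (hπ : Function.Surjective π)
    (hker : RingHom.ker π = Ideal.span (Set.range G))
    (hdim : ringKrullDim B = ((n - c : ℕ) : WithBot ℕ∞))
    (z : PrimeSpectrum B) :
    FlatMor.localDim (PrimeSpectrum B) z = ((n - c : ℕ) : WithBot ℕ∞) := by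
  haveI : Algebra.FiniteType κ B := Algebra.FiniteType.of_surjective π hπ
  haveI : z.asIdeal.IsPrime := z.2
  apply le_antisymm
  · refine (localDim_le_dim z).trans ?_
    rw [PrimeSpectrum.topologicalKrullDim_eq_ringKrullDim, hdim]
  · obtain ⟨n', e, hn', he, -, he'⟩ := exists_dims (k := κ) z.asIdeal
    have h1 := localDim_eq (k := κ) z.asIdeal n' e hn' he he'
    have hz : (⟨z.asIdeal, inferInstance⟩ : PrimeSpectrum B) = z := rfl
    rw [hz] at h1
    rw [h1]
    obtain ⟨𝔮, h𝔮, h𝔮z⟩ := Ideal.exists_minimalPrimes_le (bot_le : (⊥ : Ideal B) ≤ z.asIdeal)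
    have h2 := dim_quotient_minimalPrimes_le (k := κ) z.asIdeal n' e hn' he 𝔮 h𝔮 h𝔮z
    exact (le_dim_quotient_minimalPrimes κ n c G B π hπ hker 𝔮 h𝔮).trans h2


open AlgebraicGeometry CategoryTheory in
/-- For a relative global complete intersection R → A = R[x_1, …, x_n]/(F_1, …, F_c) and f : Spec A →
Spec R, the function x ↦ dim_x(X_{f x}) is constant with value n − c. -/
theorem result (R : Type u) [CommRing R] (n c : ℕ) (F : Fin c → MvPolynomial (Fin n) R)
    (hF : Synt.IsRelGCI R n c F) (x : ↑(Spec (CommRingCat.of (Synt.RelGCIRing R n c F)))) :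
    FlatMor.fibreDimAt (Spec.map (CommRingCat.ofHom (algebraMap R (Synt.RelGCIRing R n c F)))) x =
      ((n - c : ℕ) : WithBot ℕ∞) := by
  rw [fibreDimAt_eq_fibLD]
  change fibLD (PrimeSpectrum.comap (algebraMap R (Synt.RelGCIRing R n c F))) x = _
  rw [fibLD_comap_eq]
  set p := PrimeSpectrum.comap (algebraMap R (Synt.RelGCIRing R n c F)) x with hp
  obtain ⟨π, hπ, hker⟩ := fibre_presentation R p.asIdeal.ResidueField n c F
  set z := (PrimeSpectrum.preimageHomeomorphFiber R (Synt.RelGCIRing R n c F) p ⟨x, rfl⟩) with hz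
  have hnt : Nontrivial (p.asIdeal.Fiber (Synt.RelGCIRing R n c F)) := z.nontrivial
  obtain ⟨hcn, hdim⟩ := hF p hnt
  exact localDim_eq_of_presentation p.asIdeal.ResidueField n c _
    (p.asIdeal.Fiber (Synt.RelGCIRing R n c F)) π hπ hker hdim z

end Groth.Agent.S9366
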