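import Groth.Statements.S10053
import Groth.Agent.R2.H43UCCore
import Groth.Agent.S9923
import Groth.Agent.S9924
import Groth.Agent.S9947
import Groth.Agent.S9874
import Groth.Agent.S10180

set_option autoImplicit false
universe u
open CategoryTheory CategoryTheory.Limits AlgebraicGeometry
open AlgSp

set_option backward.isDefEq.respectTransparency false
set_option linter.style.haveILetI false

namespace Groth.Agent.S10053

variable {S : Scheme.{u}}

open Groth.Agent.R2.H43.UCCore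

/-- a pullback along a composite factors through the pullback along the second map. -/
lemma exists_isPullback_of_comp {C : Type*} [Category C] {X Y Z W P Q : C} {f : X ⟶ Y} {g : Z ⟶ Y}
    {k : W ⟶ Z} {fst : P ⟶ X} {snd : P ⟶ Z} (sq : IsPullback fst snd f g)
    {fstQ : Q ⟶ X} {sndQ : Q ⟶ W} (sqQ : IsPullback fstQ sndQ f (k ≫ g)) :
    ∃ pr : Q ⟶ P, pr ≫ fst = fstQ ∧ IsPullback pr sndQ snd k := by
  have hw : fstQ ≫ f = (sndQ ≫ k) ≫ g := by rw [sqQ.w, Category.assoc]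
  refine ⟨sq.lift fstQ (sndQ ≫ k) hw, sq.lift_fst _ _ _, ?_⟩
  refine IsPullback.of_right ?_ (sq.lift_snd _ _ hw) sq
  rw [sq.lift_fst]
  exact sqQ

/-- over the chart `V`, every base change of `f` to a scheme mapping to `V` is closed on points. -/
lemma isClosedMap_of_affineSpace_chart {X Y : AlgSp.Space S} (f : X ⟶ Y)
    (hqc : AlgSp.IsQuasiCompactMor f.hom) (V : Over S) (p : (AlgSp.yon S).obj V ⟶ Y.obj)
    (H3 : ∀ (n : ℕ) (P : AlgSp.Sp S) (fst : P ⟶ X.obj)
      (snd : P ⟶ (AlgSp.yon S).obj (Over.mk ((𝔸(ULift.{u} (Fin n); V.left) ↘ V.left) ≫ V.hom))),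
      IsPullback fst snd f.hom
        ((AlgSp.yon S).map (Over.homMk (𝔸(ULift.{u} (Fin n); V.left) ↘ V.left)) ≫ p) →
        IsClosedMap (AlgSp.Points.map snd))
    (T : Over S) (t : T ⟶ V) {PT : AlgSp.Sp S} (fstT : PT ⟶ X.obj)
    (sndT : PT ⟶ (AlgSp.yon S).obj T)
    (sqT : IsPullback fstT sndT f.hom ((AlgSp.yon S).map t ≫ p)) :
    IsClosedMap (AlgSp.Points.map sndT) := by
  refine isClosedMap_of_local sndT fun z => ?_
  -- affine neighbourhoods
  obtain ⟨V₀, hV₀, hzV₀, -⟩ := exists_isAffineOpen_mem_and_subset (x := t.left z)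
    (U := (⊤ : V.left.Opens)) trivial
  obtain ⟨T₀, hT₀, hzT₀, hT₀V⟩ := exists_isAffineOpen_mem_and_subset (x := z)
    (U := t.left ⁻¹ᵁ V₀) hzV₀
  let R : CommRingCat.{u} := Γ(V.left, V₀)
  let A : CommRingCat.{u} := Γ(T.left, T₀)
  let ιV : Spec R ⟶ V.left := hV₀.fromSpec
  let ιT : Spec A ⟶ T.left := hT₀.fromSpec
  have hrange : Set.range (ιT ≫ t.left) ⊆ Set.range ιV := by
    rintro _ ⟨x, rfl⟩
    rw [hV₀.range_fromSpec]
    have hx : ιT x ∈ (T₀ : Set T.left) := by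
      rw [← hT₀.range_fromSpec]
      exact ⟨x, rfl⟩
    exact hT₀V hx
  let t₀ : Spec A ⟶ Spec R := IsOpenImmersion.lift ιV (ιT ≫ t.left) hrange
  have ht₀ : t₀ ≫ ιV = ιT ≫ t.left := IsOpenImmersion.lift_fac _ _ _
  let ρA : R ⟶ A := Spec.preimage t₀
  have hρA : Spec.map ρA = t₀ := Spec.map_preimage _
  let sR : Spec R ⟶ S := ιV ≫ V.hom
  let jV : Over.mk sR ⟶ V := Over.homMk ιV rfl
  let ι : ov sR ρA ⟶ T := Over.homMk ιT (by
    change ιT ≫ T.hom = Spec.map ρA ≫ ιV ≫ V.hom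
    rw [hρA, ← Category.assoc, ht₀, Category.assoc, Over.w t])
  have hιt : ι ≫ t = ovHom sR ρA ≫ jV := by
    apply Over.OverMorphism.ext
    change ιT ≫ t.left = Spec.map ρA ≫ ιV
    rw [hρA, ht₀]
  -- the base change of `f` to `Spec R`
  have sqX' := IsPullback.of_hasPullback f.hom ((AlgSp.yon S).map jV ≫ p)
  set X' := pullback f.hom ((AlgSp.yon S).map jV ≫ p) with hX'
  set fst' : X' ⟶ X.obj := pullback.fst _ _ with hfst'
  set φ' : X' ⟶ (AlgSp.yon S).obj (Over.mk sR) := pullback.snd _ _ with hφ'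
  have hX'qc : AlgSp.IsQuasiCompactSp X' :=
    hqc (AlgSp.IsAlgSpace.yon_obj (Over.mk sR))
      ⟨Over.mk sR, 𝟙 _, AlgSp.repWith_id _ _, AlgSp.repWith_id _ _,
        (inferInstance : CompactSpace (Spec R))⟩ _ fst' φ' sqX'
  obtain ⟨U, a₀, hUaff, ha₀e, ha₀s⟩ := Groth.Agent.S10180.exists_affine_chart hX'qc
  haveI : IsAffine U.left := hUaff
  let h₀ : U ⟶ Over.mk sR := (AlgSp.yon S).preimage (a₀ ≫ φ')
  have hh₀ : (AlgSp.yon S).map h₀ = a₀ ≫ φ' := (AlgSp.yon S).map_preimage _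
  let B : CommRingCat.{u} := Γ(U.left, ⊤)
  let e : Spec B ⟶ U.left := U.left.isoSpec.inv
  let ρB : R ⟶ B := Spec.preimage (e ≫ h₀.left)
  have hρB : Spec.map ρB = e ≫ h₀.left := Spec.map_preimage _
  let eU : ov sR ρB ⟶ U := Over.homMk e (by
    change e ≫ U.hom = Spec.map ρB ≫ sR
    rw [hρB, Category.assoc]
    congr 1
    exact (Over.w h₀).symm)
  let a : (AlgSp.yon S).obj (ov sR ρB) ⟶ X' := (AlgSp.yon S).map eU ≫ a₀
  have hae : AlgSp.RepWith @Etale a :=
    (AlgSp.RepWith @Etale).comp_mem _ _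
      ((AlgSp.repWith_yon_map_iff _ _).2 (show Etale e from inferInstance)) ha₀e
  have has : AlgSp.RepWith @Surjective a :=
    (AlgSp.RepWith @Surjective).comp_mem _ _
      ((AlgSp.repWith_yon_map_iff _ _).2 (show Surjective e from inferInstance)) ha₀s
  have comm : a ≫ φ' = (AlgSp.yon S).map (ovHom sR ρB) := by
    rw [Category.assoc, ← hh₀, ← Functor.map_comp]
    congr 1
    apply Over.OverMorphism.ext
    exact hρB.symm
  -- closedness over the polynomial rings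
  have H : ∀ (n : ℕ) (P : AlgSp.Sp S) (fst : P ⟶ X')
      (snd : P ⟶ (AlgSp.yon S).obj
        (ov sR (CommRingCat.ofHom (MvPolynomial.C : R →+* MvPolynomial (ULift.{u} (Fin n)) R)))),
      IsPullback fst snd φ' ((AlgSp.yon S).map (ovHom sR _)) →
        IsClosedMap (AlgSp.Points.map snd) := by
    intro n P fst snd sq
    let πn : Over.mk ((𝔸(ULift.{u} (Fin n); V.left) ↘ V.left) ≫ V.hom) ⟶ V :=
      Over.homMk (𝔸(ULift.{u} (Fin n); V.left) ↘ V.left)
    let jn₀ : Spec (CommRingCat.of (MvPolynomial (ULift.{u} (Fin n)) R)) ⟶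
        𝔸(ULift.{u} (Fin n); V.left) :=
      (AffineSpace.SpecIso (ULift.{u} (Fin n)) R).inv ≫ AffineSpace.map (ULift.{u} (Fin n)) ιV
    have hjn₀ : jn₀ ≫ (𝔸(ULift.{u} (Fin n); V.left) ↘ V.left) =
        Spec.map (CommRingCat.ofHom (MvPolynomial.C : R →+* MvPolynomial (ULift.{u} (Fin n)) R)) ≫
          ιV := by
      rw [Category.assoc, AffineSpace.map_over, ← Category.assoc, AffineSpace.SpecIso_inv_over]
    haveI : IsOpenImmersion (AffineSpace.map (ULift.{u} (Fin n)) ιV) :=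
      MorphismProperty.of_isPullback (P := @IsOpenImmersion)
        (AffineSpace.isPullback_map (n := ULift.{u} (Fin n)) ιV).flip inferInstance
    haveI : IsOpenImmersion jn₀ := inferInstance
    let jn : ov sR (CommRingCat.ofHom
        (MvPolynomial.C : R →+* MvPolynomial (ULift.{u} (Fin n)) R)) ⟶
        Over.mk ((𝔸(ULift.{u} (Fin n); V.left) ↘ V.left) ≫ V.hom) :=
      Over.homMk jn₀ (by
        change jn₀ ≫ (𝔸(ULift.{u} (Fin n); V.left) ↘ V.left) ≫ V.hom = _ ≫ ιV ≫ V.hom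
        rw [← Category.assoc, hjn₀, Category.assoc])
    have hjn : ovHom sR (CommRingCat.ofHom
        (MvPolynomial.C : R →+* MvPolynomial (ULift.{u} (Fin n)) R)) ≫ jV = jn ≫ πn := by
      apply Over.OverMorphism.ext
      exact hjn₀.symm
    have sq3 := IsPullback.of_hasPullback f.hom ((AlgSp.yon S).map πn ≫ p)
    have hcl3 := H3 n _ _ _ sq3
    have big := sq.paste_horiz sqX'
    rw [← Category.assoc, ← Functor.map_comp, hjn, Functor.map_comp, Category.assoc] at big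
    obtain ⟨pr, -, sqpr⟩ := exists_isPullback_of_comp sq3 big
    exact isClosedMap_of_isPullback_open sqpr
      ((AlgSp.repWith_yon_map_iff _ _).2 (show IsOpenImmersion jn₀ from inferInstance)) hcl3
  -- conclusion
  have sq' := IsPullback.of_hasPullback sndT ((AlgSp.yon S).map ι)
  have bigT := sq'.paste_horiz sqT
  rw [← Category.assoc, ← Functor.map_comp, hιt, Functor.map_comp, Category.assoc] at bigT
  obtain ⟨fst'', -, sq''⟩ := exists_isPullback_of_comp sqX' bigT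
  refine ⟨ov sR ρA, ι, (inferInstance : IsOpenImmersion ιT), ?_, _, _, _, sq',
    isClosedMap_of_affineSpace sR ρB φ' a hae has comm H ρA fst'' _ sq''⟩
  change z ∈ Set.range ιT
  rw [hT₀.range_fromSpec]
  exact hzT₀


/-- For a quasi-compact morphism `f : X ⟶ Y` of algebraic spaces over `S` these conditions are
equivalent: (1) `f` is universally closed; (2) for every `Z ⟶ Y` locally of finite presentation,
with `Z` an algebraic space, the map `|X ×_Y Z| → |Z|` is closed; (3) for some scheme `V` with a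
surjective etale morphism `V ⟶ Y`, the maps `|X ×_Y 𝐀^n_V| → |𝐀^n_V|` are closed for all `n`. Stated
as (1) ↔ (2) and (1) ↔ (3). -/
theorem result (S : Scheme.{u}) {X Y : AlgSp.Space S} (f : X ⟶ Y)
    (hqc : AlgSp.IsQuasiCompactMor f.hom) :
    (AlgSp.IsUnivClosedMor f.hom ↔
      ∀ (Z : AlgSp.Space S) (g : Z ⟶ Y), AlgSp.LocP @LocallyOfFinitePresentation g.hom →
        ∀ (P : AlgSp.Sp S) (fst : P ⟶ X.obj) (snd : P ⟶ Z.obj), IsPullback fst snd f.hom g.hom →
          IsClosedMap (AlgSp.Points.map snd)) ∧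
    (AlgSp.IsUnivClosedMor f.hom ↔
      ∃ (V : Over S) (p : (AlgSp.yon S).obj V ⟶ Y.obj), AlgSp.RepWith @Etale p ∧ AlgSp.RepWith @Surjective p ∧
        ∀ (n : ℕ) (P : AlgSp.Sp S) (fst : P ⟶ X.obj)
          (snd : P ⟶ (AlgSp.yon S).obj (Over.mk ((𝔸(ULift.{u} (Fin n); V.left) ↘ V.left) ≫ V.hom))),
          IsPullback fst snd f.hom ((AlgSp.yon S).map (Over.homMk (𝔸(ULift.{u} (Fin n); V.left) ↘ V.left)) ≫ p) →
            IsClosedMap (AlgSp.Points.map snd)) := by
  -- (3) ⟹ (1)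
  have h31 : (∃ (V : Over S) (p : (AlgSp.yon S).obj V ⟶ Y.obj), AlgSp.RepWith @Etale p ∧
      AlgSp.RepWith @Surjective p ∧
        ∀ (n : ℕ) (P : AlgSp.Sp S) (fst : P ⟶ X.obj)
          (snd : P ⟶ (AlgSp.yon S).obj (Over.mk ((𝔸(ULift.{u} (Fin n); V.left) ↘ V.left) ≫ V.hom))),
          IsPullback fst snd f.hom ((AlgSp.yon S).map (Over.homMk (𝔸(ULift.{u} (Fin n); V.left) ↘ V.left)) ≫ p) →
            IsClosedMap (AlgSp.Points.map snd)) → AlgSp.IsUnivClosedMor f.hom := by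
    rintro ⟨V, p, hpe, hps, H3⟩
    refine Groth.Agent.S9924.isUnivClosedMor_of_chart f.hom p hpe hps (pullback.fst f.hom p)
      (pullback.snd f.hom p) (IsPullback.of_hasPullback _ _) ?_
    intro Z Z' hZ g fstZ sndZ sqZ
    refine Groth.Agent.S9923.isClosedMap_map_of_affine sndZ ?_
    intro T hT c PT pr sndT sqT
    obtain ⟨t, ht⟩ := (AlgSp.yon S).map_surjective (c ≫ g)
    have big := (sqT.paste_horiz sqZ).paste_horiz (IsPullback.of_hasPullback f.hom p)
    rw [← ht] at big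
    exact isClosedMap_of_affineSpace_chart f hqc V p H3 T t _ sndT big
  -- (1) ⟹ (3)
  have h13 : AlgSp.IsUnivClosedMor f.hom →
      ∃ (V : Over S) (p : (AlgSp.yon S).obj V ⟶ Y.obj), AlgSp.RepWith @Etale p ∧
      AlgSp.RepWith @Surjective p ∧
        ∀ (n : ℕ) (P : AlgSp.Sp S) (fst : P ⟶ X.obj)
          (snd : P ⟶ (AlgSp.yon S).obj (Over.mk ((𝔸(ULift.{u} (Fin n); V.left) ↘ V.left) ≫ V.hom))),
          IsPullback fst snd f.hom ((AlgSp.yon S).map (Over.homMk (𝔸(ULift.{u} (Fin n); V.left) ↘ V.left)) ≫ p) →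
            IsClosedMap (AlgSp.Points.map snd) := by
    intro h
    obtain ⟨V, p, hpe, hps⟩ := Y.property.atlas
    exact ⟨V, p, hpe, hps, fun n P fst snd sq => h (AlgSp.IsAlgSpace.yon_obj _) _ fst snd sq⟩
  -- (2) ⟹ (3)
  have h23 : (∀ (Z : AlgSp.Space S) (g : Z ⟶ Y), AlgSp.LocP @LocallyOfFinitePresentation g.hom →
        ∀ (P : AlgSp.Sp S) (fst : P ⟶ X.obj) (snd : P ⟶ Z.obj), IsPullback fst snd f.hom g.hom →
          IsClosedMap (AlgSp.Points.map snd)) →
      ∃ (V : Over S) (p : (AlgSp.yon S).obj V ⟶ Y.obj), AlgSp.RepWith @Etale p ∧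
      AlgSp.RepWith @Surjective p ∧
        ∀ (n : ℕ) (P : AlgSp.Sp S) (fst : P ⟶ X.obj)
          (snd : P ⟶ (AlgSp.yon S).obj (Over.mk ((𝔸(ULift.{u} (Fin n); V.left) ↘ V.left) ≫ V.hom))),
          IsPullback fst snd f.hom ((AlgSp.yon S).map (Over.homMk (𝔸(ULift.{u} (Fin n); V.left) ↘ V.left)) ≫ p) →
            IsClosedMap (AlgSp.Points.map snd) := by
    intro h2
    obtain ⟨V, p, hpe, hps⟩ := Y.property.atlas
    refine ⟨V, p, hpe, hps, fun n P fst snd sq => ?_⟩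
    let An : Over S := Over.mk ((𝔸(ULift.{u} (Fin n); V.left) ↘ V.left) ≫ V.hom)
    let πn : An ⟶ V := Over.homMk (𝔸(ULift.{u} (Fin n); V.left) ↘ V.left)
    let Z : AlgSp.Space S := ⟨(AlgSp.yon S).obj An, AlgSp.IsAlgSpace.yon_obj An⟩
    let g : Z ⟶ Y := ObjectProperty.homMk ((AlgSp.yon S).map πn ≫ p)
    have hg : AlgSp.LocP @LocallyOfFinitePresentation g.hom := by
      refine Groth.Agent.S9947.result _ (Or.inr (Or.inl rfl)) g (𝟙 _) p πn
        (AlgSp.repWith_id _ _) (AlgSp.repWith_id _ _) hpe (Category.id_comp _) ?_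
      change LocallyOfFinitePresentation (𝔸(ULift.{u} (Fin n); V.left) ↘ V.left)
      infer_instance
    exact h2 Z g hg P fst snd sq
  exact ⟨⟨fun h Z g _ P fst snd sq => h Z.property g.hom fst snd sq, fun h2 => h31 (h23 h2)⟩,
    ⟨h13, h31⟩⟩

end Groth.Agent.S10053
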