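import Groth.Statements.S10054
import Groth.Agent.R2.H43DvrSpec
import Groth.Agent.R2.H43ValSpec
import Groth.Agent.S10175
import Groth.Agent.S10176
import Groth.Agent.S10177
import Groth.Agent.S9906

set_option autoImplicit false
universe u
open CategoryTheory CategoryTheory.Limits AlgebraicGeometry
open AlgSp

set_option backward.isDefEq.respectTransparency false
set_option linter.style.haveILetI false

namespace Groth.Agent.S10054

/-- Let `f : X ⟶ Y` be a morphism of finite type of algebraic spaces over `S` with `Y` locally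
Noetherian, and `y ∈ |Y|` a point lying in the closure of `f`'s image on points. Then one can find a
discrete valuation ring `A` with fraction field `K` and a commutative square `Spec K ⟶ X`, `Spec A ⟶
Y` (over `f` and `Spec K ⟶ Spec A`) sending the closed point of `Spec A` to `y`. (The refinement
that the `K`-point may be taken at a codimension-0 point with `K` a residue field of an etale chart
is not included.) -/
theorem result (S : Scheme.{u}) {X Y : AlgSp.Space S} (f : X ⟶ Y)
    (hft : AlgSp.IsFiniteTypeMor f.hom) (hY : AlgSp.IsLocNoethSp Y.obj) (y : AlgSp.Points Y.obj)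
    (hy : y ∈ closure (Set.range (AlgSp.Points.map f.hom))) :
    ∃ (A : Type u) (_ : CommRing A) (_ : IsDomain A) (_ : IsDiscreteValuationRing A)
      (a : Spec (CommRingCat.of A) ⟶ S)
      (α : (AlgSp.yon S).obj (Over.mk a) ⟶ Y.obj)
      (κ : (AlgSp.yon S).obj (Over.mk (Spec.map (CommRingCat.ofHom (algebraMap A (FractionRing A))) ≫ a)) ⟶ X.obj),
      κ ≫ f.hom = (AlgSp.yon S).map (Over.homMk (Spec.map (CommRingCat.ofHom (algebraMap A (FractionRing A))))) ≫ α ∧
      AlgSp.Points.map α (AlgSp.Points.schemeEquiv (Over.mk a) (IsLocalRing.closedPoint A)) = y := by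
  obtain ⟨hlft, hqc⟩ := hft
  obtain ⟨V₀, p₀, hp₀e, hp₀s, hV₀N⟩ := hY
  haveI : IsLocallyNoetherian V₀.left := hV₀N
  obtain ⟨v₀, hv₀⟩ := Groth.Agent.S10177.surjective_ofPt p₀ hp₀s y
  -- an affine open neighbourhood in the chart
  obtain ⟨V', hV', hvV', -⟩ := exists_isAffineOpen_mem_and_subset (x := v₀) (U := ⊤) trivial
  let V : Over S := Over.mk (V'.ι ≫ V₀.hom)
  let j : V ⟶ V₀ := Over.homMk V'.ι rfl
  haveI : IsAffine V.left := hV'
  haveI : IsLocallyNoetherian V.left := inferInstanceAs (IsLocallyNoetherian V'.toScheme)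
  let p : (AlgSp.yon S).obj V ⟶ Y.obj := (AlgSp.yon S).map j ≫ p₀
  have hpe : AlgSp.RepWith @Etale p :=
    (AlgSp.RepWith @Etale).comp_mem _ _
      ((AlgSp.repWith_yon_map_iff _ _).2 (show Etale V'.ι from inferInstance)) hp₀e
  let v : V.left := ⟨v₀, hvV'⟩
  have hv : AlgSp.Points.ofPt p v = y := by
    rw [Groth.Agent.S10176.ofPt_map_comp]
    exact hv₀
  -- a quasi-compact chart of the fibre product
  obtain ⟨W, c, hce, hcs, hWc⟩ := hqc (AlgSp.IsAlgSpace.yon_obj V)
    ⟨V, 𝟙 _, AlgSp.repWith_id _ _, AlgSp.repWith_id _ _, (inferInstance : CompactSpace V.left)⟩ p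
    (pullback.fst f.hom p) (pullback.snd f.hom p) (IsPullback.of_hasPullback f.hom p)
  haveI : CompactSpace W.left := hWc
  let h : W ⟶ V := (AlgSp.yon S).preimage (c ≫ pullback.snd f.hom p)
  have hh : (AlgSp.yon S).map h = c ≫ pullback.snd f.hom p := (AlgSp.yon S).map_preimage _
  let a : (AlgSp.yon S).obj W ⟶ X.obj := c ≫ pullback.fst f.hom p
  have hae : AlgSp.RepWith @Etale a :=
    (AlgSp.RepWith @Etale).comp_mem _ _ hce
      (MorphismProperty.of_isPullback (P := AlgSp.RepWith @Etale)
        (IsPullback.of_hasPullback f.hom p).flip hpe)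
  have comm : a ≫ f.hom = (AlgSp.yon S).map h ≫ p := by
    rw [hh, Category.assoc, Category.assoc, pullback.condition]
  haveI : LocallyOfFiniteType h.left := hlft a p h hae hpe comm
  haveI : QuasiCompact h.left := (HasAffineProperty.iff_of_isAffine (P := @QuasiCompact)).2 hWc
  -- the point of the chart lies in the closure of the image
  have hcl : v ∈ closure (Set.range h.left) := by
    have hopen := Groth.Agent.S10176.isOpenMap_ofPt p hpe
    have h1 : v ∈ AlgSp.Points.ofPt p ⁻¹' closure (Set.range (AlgSp.Points.map f.hom)) := by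
      change AlgSp.Points.ofPt p v ∈ closure (Set.range (AlgSp.Points.map f.hom))
      rw [hv]; exact hy
    have h2 := hopen.preimage_closure_subset_closure_preimage h1
    refine closure_mono ?_ h2
    rintro v' ⟨x', hx'⟩
    change AlgSp.Points.map f.hom x' = AlgSp.Points.ofPt p v' at hx'
    rw [AlgSp.Points.ofPt_eq_map_ofScheme] at hx'
    obtain ⟨q, -, hq2⟩ := Groth.Agent.S10175.exists_point_of_isPullback
      (IsPullback.of_hasPullback f.hom p) x' _ hx'
    obtain ⟨w', rfl⟩ := Groth.Agent.S9906.surjective_map_of_repWith c hcs q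
    obtain ⟨w, rfl⟩ := (AlgSp.Points.schemeHomeo W).surjective w'
    refine ⟨w, ?_⟩
    apply (AlgSp.Points.schemeHomeo V).injective
    rw [← AlgSp.Points.map_yon_map_apply, hh, AlgSp.Points.map_comp]
    exact hq2
  obtain ⟨w, hs⟩ :=
    Groth.Agent.R2.H43.ValSpec.exists_specializes_of_mem_closure_range h.left v hcl
  obtain ⟨A, iA, iD, iV, g, gK, hg1, hg2⟩ :=
    Groth.Agent.R2.H43.DvrSpec.exists_dvr_of_specializes h.left w v hs
  let b : Over.mk (g ≫ V.hom) ⟶ V := Over.homMk g rfl
  let m : Over.mk (Spec.map (CommRingCat.ofHom (algebraMap A (FractionRing A))) ≫ g ≫ V.hom) ⟶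
      W := Over.homMk gK (by
    change gK ≫ W.hom = _
    rw [← Over.w h, ← Category.assoc, hg2, Category.assoc]
    rfl)
  refine ⟨A, iA, iD, iV, g ≫ V.hom, (AlgSp.yon S).map b ≫ p, (AlgSp.yon S).map m ≫ a, ?_, ?_⟩
  · have hmb : m ≫ h = (Over.homMk (Spec.map (CommRingCat.ofHom (algebraMap A (FractionRing A))))
        rfl : Over.mk (Spec.map (CommRingCat.ofHom (algebraMap A (FractionRing A))) ≫ g ≫ V.hom) ⟶
          Over.mk (g ≫ V.hom)) ≫ b := Over.OverMorphism.ext hg2
    rw [Category.assoc, comm, ← Functor.map_comp_assoc, hmb, Functor.map_comp, Category.assoc]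
  · change AlgSp.Points.map _ (AlgSp.Points.ofScheme _ _) = y
    rw [← AlgSp.Points.ofPt_eq_map_ofScheme, Groth.Agent.S10176.ofPt_map_comp, ← hv]
    congr 1

end Groth.Agent.S10054
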