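import Groth.Statements.S9960
import Groth.Agent.S9959
import Groth.Agent.S9961
import Groth.Agent.S9984
import Groth.Agent.S9912
import Groth.Agent.S9937
import Groth.Agent.S9874

set_option autoImplicit false
universe u
open CategoryTheory CategoryTheory.Limits AlgebraicGeometry
open AlgSp

namespace Groth.Agent.S9960

/-- The diagonal of a morphism locally of finite type is locally of finite presentation, and of finite
presentation when the morphism is also quasi-separated. -/
theorem result {S : Scheme.{u}} {X Y : AlgSp.Space S} (f : X ⟶ Y)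
    (hf : AlgSp.LocP @LocallyOfFiniteType f.hom) :
    AlgSp.LocP @LocallyOfFinitePresentation (pullback.diagonal f.hom) ∧
    (AlgSp.IsQuasiSeparatedMor f.hom → AlgSp.IsFinitePresentationMor (pullback.diagonal f.hom)) := by
  have hP : AlgSp.IsAlgSpace (pullback f.hom f.hom) :=
    Groth.Agent.S9874.isAlgSpace_of_isPullback Y.property.diag X.property X.property
      (IsPullback.of_hasPullback f.hom f.hom)
  let P : AlgSp.Space S := ⟨pullback f.hom f.hom, hP⟩
  let fst' : P ⟶ X := ObjectProperty.homMk (pullback.fst f.hom f.hom)
  let snd' : P ⟶ X := ObjectProperty.homMk (pullback.snd f.hom f.hom)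
  have hsnd : AlgSp.LocP @LocallyOfFiniteType (pullback.snd f.hom f.hom) :=
    Groth.Agent.S9984.result @LocallyOfFiniteType (Or.inl rfl) f f fst' snd'
      (IsPullback.of_hasPullback f.hom f.hom) hf
  have hid : AlgSp.LocP @LocallyOfFinitePresentation (𝟙 X.obj) :=
    Groth.Agent.S9961.result (𝟙 X) (MorphismProperty.id_mem _ _)
  have h1 : AlgSp.LocP @LocallyOfFinitePresentation (pullback.diagonal f.hom) := by
    refine Groth.Agent.S9959.locP_of_comp' @LocallyOfFinitePresentation @LocallyOfFiniteType
      (fun u k hk huk => ?_) X.property (pullback.diagonal f.hom) (pullback.snd f.hom f.hom) ?_ hsnd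
    · exact Groth.Agent.Lib.Helper6.locallyOfFinitePresentation_of_comp hk huk
    · rw [pullback.diagonal_snd]
      exact hid
  refine ⟨h1, fun hqs => ⟨h1, ?_, ?_⟩⟩
  · exact Groth.Agent.S9912.isQuasiCompactMor_of_repWith X.property hP.diag _ hqs
  · haveI : Mono (pullback.diagonal f.hom) :=
      mono_of_mono_fac (pullback.diagonal_fst f.hom)
    haveI : IsIso (pullback.diagonal (pullback.diagonal f.hom)) :=
      (pullback.isIso_diagonal_iff _).2 inferInstance
    exact Groth.Agent.S9937.repWith_of_isIso @QuasiCompact _

end Groth.Agent.S9960
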