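import Groth.Statements.S10015
import Groth.Agent.R2.H44LimDesc3

set_option backward.isDefEq.respectTransparency false

set_option autoImplicit false
universe u
open CategoryTheory CategoryTheory.Limits AlgebraicGeometry
open AlgSp
open Groth.Agent.R2.H44.LimDesc

namespace Groth.Agent.S10015

/-- Let `S` be a quasi-separated scheme and `B` the limit, in fppf sheaves over `S`, of a cofiltered
system `(B_i)` of algebraic spaces over `S` whose transition maps are affine; fix an index `i₀` such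
that `B_{i₀}` is quasi-compact and quasi-separated over `S`, and a morphism `f₀ : X₀ ⟶ Y₀` of
algebraic spaces over `B_{i₀}` whose source and target are quasi-compact and quasi-separated over
`S`. Write `f_i` (for `i` mapping to `i₀`) and `f` for the base changes of `f₀` to `B_i` and to `B`,
given by pullback squares. If `f` is surjective and `f₀` locally of finite presentation, then for
some `i` mapping to `i₀` every such base change `f_i` is surjective. (The published statement allows
any base scheme and uses absolute quasi-separatedness; this row assumes the base quasi-separated,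
over which quasi-separatedness relative to the base is the absolute notion.) -/
theorem result (S : Scheme.{u}) [QuasiSeparatedSpace S] {I : Type u} [SmallCategory I] [IsCofiltered I]
    (D : I ⥤ AlgSp.Sp S) (hD : ∀ i, AlgSp.IsAlgSpace (D.obj i))
    (hDa : ∀ (i j : I) (φ : i ⟶ j), AlgSp.IsAffineMor (D.map φ))
    (c : Cone D) (hc : IsLimit c) (i₀ : I)
    (hBqc : AlgSp.IsQuasiCompactSp (D.obj i₀)) (hBqs : AlgSp.IsQuasiSeparatedSp (D.obj i₀))
    (X₀ Y₀ : AlgSp.Space S) (f₀ : X₀.obj ⟶ Y₀.obj) (b₀ : Y₀.obj ⟶ D.obj i₀)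
    (hXqc : AlgSp.IsQuasiCompactSp X₀.obj) (hXqs : AlgSp.IsQuasiSeparatedSp X₀.obj)
    (hYqc : AlgSp.IsQuasiCompactSp Y₀.obj) (hYqs : AlgSp.IsQuasiSeparatedSp Y₀.obj)
    (X Y : AlgSp.Sp S) (f : X ⟶ Y) (pY : Y ⟶ Y₀.obj) (qY : Y ⟶ c.pt)
    (hY : IsPullback pY qY b₀ (c.π.app i₀)) (pX : X ⟶ X₀.obj) (hX : IsPullback pX f f₀ pY)
    (hf : AlgSp.IsSurjectiveMor f) (hf₀ : AlgSp.LocP @LocallyOfFinitePresentation f₀) :
    ∃ (i : I) (φ : i ⟶ i₀), ∀ (Xi Yi : AlgSp.Sp S) (fi : Xi ⟶ Yi) (pYi : Yi ⟶ Y₀.obj) (qYi : Yi ⟶ D.obj i)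
      (_ : IsPullback pYi qYi b₀ (D.map φ)) (pXi : Xi ⟶ X₀.obj) (_ : IsPullback pXi fi f₀ pYi),
      AlgSp.IsSurjectiveMor fi := by
  obtain ⟨hYsp, hXsp⟩ := isAlgSpace_tower X₀.property Y₀.property
    (Groth.Agent.R2.H44.LimSp.isAffineMor_π D hDa c hc i₀) hY hX
  obtain ⟨i, φ, hi⟩ := descend_chart @Surjective affDescends_surjective D hDa c hc i₀ X₀ Y₀ f₀ b₀
    hXqc hXqs hYqc hYqs X Y f pY qY hY pX hX hf₀ (by
      intro U V b r h hbe hbs hre hrs hr
      -- the projection to `h_V` is surjective on points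
      have h1 : AlgSp.IsSurjectiveMor (pullback.snd f b) :=
        Groth.Agent.S9907.result (X := ⟨X, hXsp⟩) (Y := ⟨Y, hYsp⟩)
          (Y' := ⟨(AlgSp.yon S).obj V, AlgSp.IsAlgSpace.yon_obj V⟩) (ObjectProperty.homMk f)
          (ObjectProperty.homMk b) (pullback.fst f b) (pullback.snd f b)
          (IsPullback.of_hasPullback f b) hf
      have hPsp : AlgSp.IsAlgSpace (pullback f b) :=
        Groth.Agent.R2.H44.LimSp.isAlgSpace_of_representable (pullback.fst f b)
          (MorphismProperty.pullback_fst _ _ hbe.rep) hXsp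
      have h2 : AlgSp.IsSurjectiveMor r := isSurjectiveMor_of_repWith hPsp r hrs
      have h3 : AlgSp.IsSurjectiveMor ((AlgSp.yon S).map h) := by
        rw [← hr]
        exact isSurjectiveMor_comp _ _ h2 h1
      exact (isSurjectiveMor_yon_map_iff h).1 h3)
  refine ⟨i, φ, fun Xi Yi fi pYi qYi hYi pXi hXi => ?_⟩
  obtain ⟨U, V, b, r, h, hbe, hbs, hre, hrs, hr, hPh⟩ := hi Xi Yi fi pYi qYi hYi pXi hXi
  obtain ⟨hYisp, hXisp⟩ := isAlgSpace_tower X₀.property Y₀.property (hDa _ _ φ) hYi hXi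
  have h1 : AlgSp.IsSurjectiveMor ((AlgSp.yon S).map h) := (isSurjectiveMor_yon_map_iff h).2 hPh
  have h2 : AlgSp.IsSurjectiveMor b := isSurjectiveMor_of_repWith hYisp b hbs
  have h3 : AlgSp.IsSurjectiveMor ((r ≫ pullback.fst fi b) ≫ fi) := by
    rw [Category.assoc, pullback.condition, ← Category.assoc, hr]
    exact isSurjectiveMor_comp _ _ h1 h2
  exact isSurjectiveMor_of_comp _ _ h3

end Groth.Agent.S10015
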