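import Groth.Statements.S10021
import Groth.Agent.S10022
import Groth.Agent.S10013
import Groth.Agent.S10015
import Groth.Agent.S10209
import Groth.Agent.S9907
import Groth.Agent.S9906
import Groth.Agent.R2.H44LimMono
import Groth.Agent.R2.H44LimIso
import Groth.Agent.R2.H44LimDesc3

set_option backward.isDefEq.respectTransparency false

set_option autoImplicit false
universe u
open CategoryTheory CategoryTheory.Limits AlgebraicGeometry
open AlgSp

namespace Groth.Agent.S10021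

/-- Let `S` be a quasi-separated scheme and `B` the limit, in fppf sheaves over `S`, of a cofiltered
system `(B_i)` of algebraic spaces over `S` whose transition maps are affine; fix an index `i₀` such
that `B_{i₀}` is quasi-compact and quasi-separated over `S`, and a morphism `f₀ : X₀ ⟶ Y₀` of
algebraic spaces over `B_{i₀}` whose source and target are quasi-compact and quasi-separated over
`S`. Write `f_i` (for `i` mapping to `i₀`) and `f` for the base changes of `f₀` to `B_i` and to `B`,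
given by pullback squares. If `f` is an isomorphism and `f₀` locally of finite presentation, then
for some `i` mapping to `i₀` every such base change `f_i` is an isomorphism. (The published
statement allows any base scheme and uses absolute quasi-separatedness; this row assumes the base
quasi-separated, over which quasi-separatedness relative to the base is the absolute notion.) -/
theorem result (S : Scheme.{u}) [QuasiSeparatedSpace S] {I : Type u} [SmallCategory I] [IsCofiltered I]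
    (D : I ⥤ AlgSp.Sp S) (hD : ∀ i, AlgSp.IsAlgSpace (D.obj i))
    (hDa : ∀ (i j : I) (φ : i ⟶ j), AlgSp.IsAffineMor (D.map φ))
    (c : Cone D) (hc : IsLimit c) (i₀ : I)
    (hBqc : AlgSp.IsQuasiCompactSp (D.obj i₀)) (hBqs : AlgSp.IsQuasiSeparatedSp (D.obj i₀))
    (X₀ Y₀ : AlgSp.Space S) (f₀ : X₀.obj ⟶ Y₀.obj) (b₀ : Y₀.obj ⟶ D.obj i₀)
    (hXqc : AlgSp.IsQuasiCompactSp X₀.obj) (hXqs : AlgSp.IsQuasiSeparatedSp X₀.obj)
    (hYqc : AlgSp.IsQuasiCompactSp Y₀.obj) (hYqs : AlgSp.IsQuasiSeparatedSp Y₀.obj)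
    (X Y : AlgSp.Sp S) (f : X ⟶ Y) (pY : Y ⟶ Y₀.obj) (qY : Y ⟶ c.pt)
    (hY : IsPullback pY qY b₀ (c.π.app i₀)) (pX : X ⟶ X₀.obj) (hX : IsPullback pX f f₀ pY)
    [IsIso f] (hf₀ : AlgSp.LocP @LocallyOfFinitePresentation f₀) :
    ∃ (i : I) (φ : i ⟶ i₀), ∀ (Xi Yi : AlgSp.Sp S) (fi : Xi ⟶ Yi) (pYi : Yi ⟶ Y₀.obj) (qYi : Yi ⟶ D.obj i)
      (_ : IsPullback pYi qYi b₀ (D.map φ)) (pXi : Xi ⟶ X₀.obj) (_ : IsPullback pXi fi f₀ pYi),
      IsIso fi := by
  classical
  have hπ := Groth.Agent.R2.H44.LimSp.isAffineMor_π D hDa c hc i₀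
  obtain ⟨hYsp, hXsp⟩ := Groth.Agent.R2.H44.LimDesc.isAlgSpace_tower X₀.property Y₀.property hπ hY hX
  -- `f` is etale, surjective and a monomorphism
  have hfe : AlgSp.IsEtaleMor f := by
    intro U φ hφ
    exact MorphismProperty.RespectsIso.postcomp _ f φ hφ
  have hfs : AlgSp.IsSurjectiveMor f := by
    intro z
    refine ⟨AlgSp.Points.map (inv f) z, ?_⟩
    rw [← AlgSp.Points.map_comp, IsIso.inv_hom_id, AlgSp.Points.map_id]
  have hf₀' : AlgSp.LocP @LocallyOfFiniteType f₀ := by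
    intro U V a b h ha hb e
    have : LocallyOfFinitePresentation h.left := hf₀ a b h ha hb e
    exact (inferInstance : LocallyOfFiniteType h.left)
  obtain ⟨i1, φ1, h1⟩ := Groth.Agent.S10022.result S D hD hDa c hc i₀ hBqc hBqs X₀ Y₀ f₀ b₀ hXqc hXqs
    hYqc hYqs X Y f pY qY hY pX hX hf₀'
  obtain ⟨i2, φ2, h2⟩ := Groth.Agent.S10013.result S D hD hDa c hc i₀ hBqc hBqs X₀ Y₀ f₀ b₀ hXqc hXqs
    hYqc hYqs X Y f pY qY hY pX hX hfe hf₀
  obtain ⟨i3, φ3, h3⟩ := Groth.Agent.S10015.result S D hD hDa c hc i₀ hBqc hBqs X₀ Y₀ f₀ b₀ hXqc hXqs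
    hYqc hYqs X Y f pY qY hY pX hX hfs hf₀
  obtain ⟨j, ψ1, ψ2, ψ3, e12, e13⟩ := Groth.Agent.R2.H44.LimMono.exists_common φ1 φ2 φ3
  refine ⟨j, ψ1 ≫ φ1, fun Xj Yj fj pYj qYj hYj pXj hXj => ?_⟩
  obtain ⟨hYjsp, hXjsp⟩ := Groth.Agent.R2.H44.LimDesc.isAlgSpace_tower X₀.property Y₀.property
    (hDa _ _ (ψ1 ≫ φ1)) hYj hXj
  -- mono
  have hmono : Mono fj := by
    have hYj' : IsPullback pYj qYj b₀ (D.map ψ1 ≫ D.map φ1) := by rw [← D.map_comp]; exact hYj
    obtain ⟨g, g', sq, -⟩ := Groth.Agent.R2.H44.LimMono.isPullback_transfer f₀ b₀ (D.map φ1) (D.map ψ1)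
      fj pYj qYj hYj' pXj hXj
    have : Mono (pullback.snd f₀ (pullback.fst b₀ (D.map φ1))) :=
      h1 _ _ _ _ _ (IsPullback.of_hasPullback b₀ (D.map φ1)) _ (IsPullback.of_hasPullback f₀ _)
    exact sq.mono_snd_of_mono
  -- etale
  have hetale : AlgSp.IsEtaleMor fj := by
    have hYj' : IsPullback pYj qYj b₀ (D.map ψ2 ≫ D.map φ2) := by rw [← D.map_comp, ← e12]; exact hYj
    obtain ⟨g, g', sq, -⟩ := Groth.Agent.R2.H44.LimMono.isPullback_transfer f₀ b₀ (D.map φ2) (D.map ψ2)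
      fj pYj qYj hYj' pXj hXj
    obtain ⟨hYisp, hXisp⟩ := Groth.Agent.R2.H44.LimDesc.isAlgSpace_tower X₀.property Y₀.property
      (hDa _ _ φ2) (IsPullback.of_hasPullback b₀ (D.map φ2)) (IsPullback.of_hasPullback f₀ _)
    have := h2 _ _ _ _ _ (IsPullback.of_hasPullback b₀ (D.map φ2)) _ (IsPullback.of_hasPullback f₀ _)
    exact Groth.Agent.S10209.result (X := ⟨_, hXisp⟩) (Y := ⟨_, hYisp⟩) (Z := ⟨Yj, hYjsp⟩)
      (P := ⟨Xj, hXjsp⟩) (ObjectProperty.homMk (pullback.snd f₀ (pullback.fst b₀ (D.map φ2))))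
      (ObjectProperty.homMk g) (ObjectProperty.homMk fj) (ObjectProperty.homMk g') sq.flip this
  -- surjective
  have hsurj : AlgSp.IsSurjectiveMor fj := by
    have hYj' : IsPullback pYj qYj b₀ (D.map ψ3 ≫ D.map φ3) := by rw [← D.map_comp, ← e13]; exact hYj
    obtain ⟨g, g', sq, -⟩ := Groth.Agent.R2.H44.LimMono.isPullback_transfer f₀ b₀ (D.map φ3) (D.map ψ3)
      fj pYj qYj hYj' pXj hXj
    obtain ⟨hYisp, hXisp⟩ := Groth.Agent.R2.H44.LimDesc.isAlgSpace_tower X₀.property Y₀.property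
      (hDa _ _ φ3) (IsPullback.of_hasPullback b₀ (D.map φ3)) (IsPullback.of_hasPullback f₀ _)
    have := h3 _ _ _ _ _ (IsPullback.of_hasPullback b₀ (D.map φ3)) _ (IsPullback.of_hasPullback f₀ _)
    exact Groth.Agent.S9907.result (X := ⟨_, hXisp⟩) (Y := ⟨_, hYisp⟩) (Y' := ⟨Yj, hYjsp⟩)
      (ObjectProperty.homMk (pullback.snd f₀ (pullback.fst b₀ (D.map φ3))))
      (ObjectProperty.homMk g) g' fj sq this
  -- conclusion: etale + surjective gives locally surjective; with mono, an isomorphism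
  obtain ⟨U, u, hu1, hu2⟩ := hXjsp.atlas
  have hue : AlgSp.RepWith @Etale (u ≫ fj) := hetale u hu1
  have hus : AlgSp.RepWith @Surjective (u ≫ fj) :=
    (Groth.Agent.S9906.result (X := ⟨_, AlgSp.IsAlgSpace.yon_obj U⟩) (Y := ⟨Yj, hYjsp⟩)
      (ObjectProperty.homMk (u ≫ fj)) hue.rep).2
      (Groth.Agent.R2.H44.LimDesc.isSurjectiveMor_comp u fj
        (Groth.Agent.R2.H44.LimDesc.isSurjectiveMor_of_repWith hXjsp u hu2) hsurj)
  have hls : Sheaf.IsLocallySurjective (u ≫ fj) :=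
    Groth.Agent.R2.H44.LimIso.isLocallySurjective_of_etale_surjective (u ≫ fj) hue hus
  have h2 : Sheaf.IsLocallySurjective fj := by
    have : Presheaf.IsLocallySurjective _ (u.hom ≫ fj.hom) := hls
    exact Presheaf.isLocallySurjective_of_isLocallySurjective _ u.hom fj.hom
  have h1 : Sheaf.IsLocallyInjective fj := by
    rw [Sheaf.isLocallyInjective_iff_injective]
    intro T
    have : Mono ((sheafToPresheaf _ (Type (u + 1))).map fj) := inferInstance
    have : Mono (((sheafToPresheaf _ (Type (u + 1))).map fj).app T) := inferInstance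
    exact (mono_iff_injective _).1 this
  exact (Sheaf.isLocallyBijective_iff_isIso fj).1 ⟨h1, h2⟩

end Groth.Agent.S10021
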