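import Groth.Statements.S10009
import Groth.Agent.R2.H44LimCI2
import Groth.Agent.S9952
import Groth.Agent.S10180

set_option backward.isDefEq.respectTransparency false

set_option autoImplicit false
universe u
open CategoryTheory CategoryTheory.Limits AlgebraicGeometry
open AlgSp
open Groth.Agent.R2.H44.LimSp Groth.Agent.R2.H44.LimIso Groth.Agent.R2.H44.LimCI2

namespace Groth.Agent.S10009

/-- Let `B` be an algebraic space over the scheme `S` and `X` the limit, in fppf sheaves, of a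
cofiltered system `(X_i)` of quasi-compact algebraic spaces over `B` whose transition maps are
affine; let `y : Y ⟶ X` be a closed immersion from an algebraic space `Y` whose structure map to `B`
is locally of finite type. Then, for all `i` mapping to some `i₀`, the composite `Y ⟶ X ⟶ X_i` is a
closed immersion. -/
theorem result (S : Scheme.{u}) {I : Type u} [SmallCategory I] [IsCofiltered I]
    (B : AlgSp.Space S) (D : I ⥤ AlgSp.Sp S) (hD : ∀ i, AlgSp.IsAlgSpace (D.obj i))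
    (t : D ⟶ (Functor.const I).obj B.obj)
    (hDa : ∀ (i j : I) (φ : i ⟶ j), AlgSp.IsAffineMor (D.map φ))
    (c : Cone D) (hc : IsLimit c)
    (hqc : ∀ i, AlgSp.IsQuasiCompactSp (D.obj i))
    (Y : AlgSp.Space S) (y : Y.obj ⟶ c.pt) (hy : AlgSp.RepWith @IsClosedImmersion y) (i₁ : I)
    (hYB : AlgSp.LocP @LocallyOfFiniteType (y ≫ c.π.app i₁ ≫ t.app i₁)) :
    ∃ i₀ : I, ∀ (i : I) (_ : i ⟶ i₀), AlgSp.RepWith @IsClosedImmersion (y ≫ c.π.app i) := by
  classical
  have hXsp : AlgSp.IsAlgSpace c.pt := isAlgSpace_limit D hD hDa c hc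
  have hlft : AlgSp.LocP @LocallyOfFiniteType (y ≫ c.π.app i₁) :=
    Groth.Agent.S9952.result (X := Y) (Y := ⟨D.obj i₁, hD i₁⟩) (Z := B)
      (ObjectProperty.homMk (y ≫ c.π.app i₁)) (ObjectProperty.homMk (t.app i₁))
      (by simpa using hYB)
  -- affine chart of `D i₁`
  obtain ⟨U₁, p₁, hU₁, hp₁e, hp₁s⟩ := (Groth.Agent.S10180.result ⟨D.obj i₁, hD i₁⟩).1 (hqc i₁)
  change (AlgSp.yon S).obj U₁ ⟶ D.obj i₁ at p₁
  -- the diagram `F_j = h_{U₁} ×_{D i₁} D j`
  have haff : ∀ j : Over i₁, IsAffRep ((pbFunctor D i₁ p₁).obj j) := by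
    intro j
    obtain ⟨W, iW, fst, sq, hW⟩ := hDa j.left i₁ j.hom hU₁ p₁
    exact ⟨W, hW, ⟨sq.flip.isoPullback⟩⟩
  obtain ⟨K, eK, cK, e, ⟨hcK⟩, ⟨hcK'⟩, hKaff, hcKaff, hcomp⟩ :=
    exists_affine_model (pbFunctor D i₁ p₁) haff _ (isLimitPbCone D c hc i₁ p₁)
  have : ∀ j, IsAffine ((K ⋙ Over.forget S).obj j) := hKaff
  let j₁ : Over i₁ := Over.mk (𝟙 i₁)
  have hsndc : AlgSp.RepWith @Etale (pullback.snd p₁ (c.π.app i₁)) :=
    MorphismProperty.pullback_snd _ _ hp₁e
  have hsnd : ∀ j : Over i₁, AlgSp.RepWith @Etale (pullback.snd p₁ (D.map j.hom)) :=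
    fun j => MorphismProperty.pullback_snd _ _ hp₁e
  have hsnds : ∀ j : Over i₁, AlgSp.RepWith @Surjective (pullback.snd p₁ (D.map j.hom)) :=
    fun j => MorphismProperty.pullback_snd _ _ hp₁s
  -- the chart of the limit
  let a₀ : (AlgSp.yon S).obj cK.pt ⟶ c.pt := e.hom ≫ pullback.snd p₁ (c.π.app i₁)
  have ha₀ : AlgSp.RepWith @Etale a₀ := ((AlgSp.RepWith @Etale).cancel_left_of_respectsIso _ _).2 hsndc
  -- the closed subscheme `V = Y ×_X cK.pt`
  obtain ⟨V, snd, fst, sq⟩ := hy.rep a₀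
  have hci : IsClosedImmersion snd.left := hy.property a₀ fst snd sq
  have hfst : AlgSp.RepWith @Etale fst := MorphismProperty.of_isPullback sq.flip ha₀
  -- compatibility of the charts
  have hchart : ∀ j : Over i₁, a₀ ≫ c.π.app j.left =
      ((AlgSp.yon S).map (cK.π.app j) ≫ eK.hom.app j) ≫ pullback.snd p₁ (D.map j.hom) := by
    intro j
    have h1 := hcomp j
    have h2 := (isPullback_pbCone_π D c i₁ p₁ j).w
    calc (e.hom ≫ pullback.snd p₁ (c.π.app i₁)) ≫ c.π.app j.left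
        = e.hom ≫ (pullback.snd p₁ (c.π.app i₁) ≫ c.π.app j.left) := by rw [Category.assoc]
      _ = e.hom ≫ ((pbCone D c i₁ p₁).π.app j ≫ pullback.snd p₁ (D.map j.hom)) := by rw [h2]
      _ = (e.hom ≫ (pbCone D c i₁ p₁).π.app j) ≫ pullback.snd p₁ (D.map j.hom) := by
        rw [Category.assoc]
      _ = _ := by rw [h1]
  have hlft' : LocallyOfFiniteType (snd.left ≫ ((Over.forget S).mapCone cK).π.app j₁) := by
    refine hlft (U := V) (V := K.obj j₁) fst
      (eK.hom.app j₁ ≫ pullback.snd p₁ (D.map j₁.hom)) (snd ≫ cK.π.app j₁) hfst ?_ ?_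
    · exact ((AlgSp.RepWith @Etale).cancel_left_of_respectsIso _ _).2 (hsnd j₁)
    · have h3 := hchart j₁
      rw [← Category.assoc, sq.w, Category.assoc, Functor.map_comp, Category.assoc]
      rw [Category.assoc] at h3
      exact congrArg (fun z => (AlgSp.yon S).map snd ≫ z) h3
  obtain ⟨j₀, f₀, hj₀⟩ := eventually_isClosedImmersion (K ⋙ Over.forget S)
    ((Over.forget S).mapCone cK) hcK' snd.left j₁
  refine ⟨j₀.left, fun i ψ => ?_⟩
  let j : Over i₁ := Over.mk (ψ ≫ j₀.hom)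
  let ψ' : j ⟶ j₀ := Over.homMk ψ rfl
  have h1 : IsClosedImmersion (snd ≫ cK.π.app j).left := hj₀ j ψ'
  have hls : Sheaf.IsLocallySurjective (pullback.snd p₁ (D.map j.hom)) :=
    isLocallySurjective_of_etale_surjective _ (hsnd j) (hsnds j)
  have hrep : AlgSp.Representable (y ≫ c.π.app i) :=
    MorphismProperty.comp_mem _ _ _ hy.rep
      (representable_of_isAffineMor _ (isAffineMor_π D hDa c hc i))
  -- the cartesian square
  have sqR : IsPullback (e.hom ≫ (pbCone D c i₁ p₁).π.app j) a₀ (pullback.snd p₁ (D.map j.hom))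
      (c.π.app i) :=
    (isPullback_pbCone_π D c i₁ p₁ j).of_iso e.symm (Iso.refl _) (Iso.refl _) (Iso.refl _)
      (by simp) (by simp [a₀]) (by simp) (by simp; rfl)
  have sqB := (sq.flip.paste_horiz sqR).flip
  refine repWith_closedImmersion_descend (y ≫ c.π.app i) hrep (pullback.snd p₁ (D.map j.hom))
    fst _ sqB ?_
  have h4 : (AlgSp.yon S).map snd ≫ e.hom ≫ (pbCone D c i₁ p₁).π.app j =
      (AlgSp.yon S).map (snd ≫ cK.π.app j) ≫ eK.hom.app j := by
    rw [hcomp j, Functor.map_comp, Category.assoc]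
  rw [h4]
  exact ((AlgSp.RepWith @IsClosedImmersion).cancel_right_of_respectsIso _ _).2
    ((AlgSp.repWith_yon_map_iff _ _).2 h1)

end Groth.Agent.S10009
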