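import Groth.Statements.S10412
import Mathlib
import Groth.Agent.S9928
import Groth.Agent.S10177
import Groth.Agent.S10195
import Groth.Agent.S10196
import Groth.Agent.R2.H46QC

set_option autoImplicit false
set_option linter.style.haveILetI false
universe u
open CategoryTheory CategoryTheory.Limits AlgebraicGeometry Topology TopologicalSpace
open AlgSp

namespace Groth.Agent.S10412

variable {S : Scheme.{u}}

lemma repWith_mono' {P P' : MorphismProperty Scheme.{u}} (h : P ≤ P') {F G : AlgSp.Sp S}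
    {f : F ⟶ G} (hf : AlgSp.RepWith P f) : AlgSp.RepWith P' f :=
  ⟨hf.1, fun _ _ g fst snd BC => h _ (hf.2 g fst snd BC)⟩

lemma mono_of_open {A Y : AlgSp.Sp S} (j : A ⟶ Y)
    (hj : AlgSp.RepWith @IsOpenImmersion j) : Mono j :=
  Groth.Agent.S9928.mono_of_repWith @IsOpenImmersion
    (fun X Y g hg => by haveI : IsOpenImmersion g := hg; infer_instance) j hj

/-- cancelling a monomorphism in a pullback square. -/
lemma isPullback_of_comp_mono {C : Type*} [Category C] {P A B X Y : C} {fst : P ⟶ A}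
    {snd : P ⟶ B} {f : A ⟶ X} {g : B ⟶ X} (m : X ⟶ Y) [Mono m]
    (sq : IsPullback fst snd (f ≫ m) (g ≫ m)) : IsPullback fst snd f g := by
  have hw : fst ≫ f = snd ≫ g := by
    rw [← cancel_mono m, Category.assoc, Category.assoc]; exact sq.w
  refine IsPullback.of_isLimit' ⟨hw⟩ (PullbackCone.IsLimit.mk _
    (fun s => sq.lift s.fst s.snd (by rw [← Category.assoc, s.condition, Category.assoc]))
    (fun s => sq.lift_fst _ _ _) (fun s => sq.lift_snd _ _ _)
    (fun s l h1 h2 => sq.hom_ext (by rw [h1, sq.lift_fst]) (by rw [h2, sq.lift_snd])))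

/-- the key step of (2) ⇒ (1): if both projections of `R = U ×_{X'} U` are quasi-compact and
`a : U ⟶ X'` is etale and surjective, then `a` is quasi-compact. -/
lemma repWith_quasiCompact_of_proj {X' : AlgSp.Sp S} {U R : Over S}
    (a : (AlgSp.yon S).obj U ⟶ X') (hae : AlgSp.RepWith @Etale a)
    (has : AlgSp.RepWith @Surjective a) (s t : R ⟶ U)
    (sqR : IsPullback ((AlgSp.yon S).map t) ((AlgSp.yon S).map s) a a)
    (ht : QuasiCompact t.left) : AlgSp.RepWith @QuasiCompact a := by
  refine ⟨hae.1, fun T W g fst' w sq => ?_⟩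
  obtain ⟨f₀, rfl⟩ := (AlgSp.yon S).map_surjective fst'
  haveI : Etale w.left := hae.2 g _ w sq
  haveI : Surjective w.left := has.2 g _ w sq
  -- the self fibre product of `w`
  have sqW := IsPullback.of_hasPullback w w
  have sqWy := sqW.map (AlgSp.yon S)
  have sqWs : IsPullback (pullback.fst w w).left (pullback.snd w w).left w.left w.left :=
    sqW.map (Over.forget S)
  have hcomm : ((AlgSp.yon S).map (pullback.fst w w) ≫ (AlgSp.yon S).map f₀) ≫ a =
      ((AlgSp.yon S).map (pullback.snd w w) ≫ (AlgSp.yon S).map f₀) ≫ a := by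
    rw [Category.assoc, Category.assoc, sq.w, ← Category.assoc, ← Category.assoc, sqWy.w]
  obtain ⟨r₀, hr₀⟩ := (AlgSp.yon S).map_surjective (sqR.lift _ _ hcomm)
  have hr1 : (AlgSp.yon S).map r₀ ≫ (AlgSp.yon S).map t =
      (AlgSp.yon S).map (pullback.fst w w) ≫ (AlgSp.yon S).map f₀ := by
    rw [hr₀]; exact sqR.lift_fst _ _ _
  have hr2 : (AlgSp.yon S).map r₀ ≫ (AlgSp.yon S).map s =
      (AlgSp.yon S).map (pullback.snd w w) ≫ (AlgSp.yon S).map f₀ := by
    rw [hr₀]; exact sqR.lift_snd _ _ _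
  have bigA : IsPullback ((AlgSp.yon S).map (pullback.snd w w) ≫ (AlgSp.yon S).map f₀)
      ((AlgSp.yon S).map (pullback.fst w w)) a ((AlgSp.yon S).map w ≫ g) :=
    sqWy.flip.paste_horiz sq
  have bigA' : IsPullback ((AlgSp.yon S).map r₀ ≫ (AlgSp.yon S).map s)
      ((AlgSp.yon S).map (pullback.fst w w)) a ((AlgSp.yon S).map f₀ ≫ a) := by
    rw [hr2, sq.w]; exact bigA
  have left : IsPullback ((AlgSp.yon S).map r₀) ((AlgSp.yon S).map (pullback.fst w w))
      ((AlgSp.yon S).map t) ((AlgSp.yon S).map f₀) :=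
    IsPullback.of_right bigA' hr1 sqR.flip
  have leftS : IsPullback r₀.left (pullback.fst w w).left t.left f₀.left :=
    (IsPullback.of_map (AlgSp.yon S) ((AlgSp.yon S).map_injective (by
      simp only [Functor.map_comp]; exact left.w)) left).map (Over.forget S)
  haveI : QuasiCompact (pullback.fst w w).left :=
    MorphismProperty.of_isPullback (P := @QuasiCompact) leftS ht
  exact Groth.Agent.R2.H46.QC.quasiCompact_of_isPullback_of_surjective_of_isOpenMap sqWs.flip
    w.left.surjective w.left.isOpenMap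

/-- For an algebraic space X over a scheme S the following are equivalent: (1) X has a Zariski covering
by open subspaces X_i, each X_i admitting a surjective, etale and quasi-compact morphism U_i ⟶ X_i
with U_i a scheme; (2) there are etale morphisms U_i ⟶ X from schemes, jointly surjective, such that
for each i both projection morphisms from U_i ×_X U_i to U_i are quasi-compact. -/
theorem result {S : Scheme.{u}} (X : AlgSp.Space S) :
    (∃ (ι : Type u) (Xi : ι → AlgSp.Space S) (j : ∀ i, Xi i ⟶ X) (U : ι → Over S)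
        (a : ∀ i, (AlgSp.yon S).obj (U i) ⟶ (Xi i).obj),
        AlgSp.IsZarCover (fun i => (Xi i).obj) (fun i => (j i).hom) ∧
          ∀ i, AlgSp.RepWith @Etale (a i) ∧ AlgSp.RepWith @Surjective (a i) ∧ AlgSp.RepWith @QuasiCompact (a i)) ↔
      ∃ (ι : Type u) (U : ι → Over S) (φ : ∀ i, (AlgSp.yon S).obj (U i) ⟶ X.obj),
        (∀ i, AlgSp.RepWith @Etale (φ i)) ∧
          (∀ x : AlgSp.Points X.obj, ∃ (i : ι) (v : ↥(U i).left), AlgSp.Points.ofPt (φ i) v = x) ∧
          ∀ (i : ι) (R : Over S) (s t : R ⟶ U i), IsPullback ((AlgSp.yon S).map t) ((AlgSp.yon S).map s) (φ i) (φ i) →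
            QuasiCompact s.left ∧ QuasiCompact t.left := by
  constructor
  · rintro ⟨ι, Xi, j, U, a, ⟨hjo, hjs⟩, ha⟩
    refine ⟨ι, U, fun i => a i ≫ (j i).hom, fun i => ?_, fun x => ?_, fun i R s t sq => ?_⟩
    · exact (AlgSp.RepWith @Etale).comp_mem _ _ (ha i).1
        (repWith_mono' (fun _ _ g hg => by haveI : IsOpenImmersion g := hg; infer_instance)
          (hjo i))
    · obtain ⟨i, xi, rfl⟩ := hjs x
      obtain ⟨v, rfl⟩ := Groth.Agent.S10177.surjective_ofPt (a i) (ha i).2.1 xi
      exact ⟨i, v, (AlgSp.Points.map_ofPt _ _ _).symm⟩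
    · haveI := mono_of_open (j i).hom (hjo i)
      have sq' := isPullback_of_comp_mono (j i).hom sq
      exact ⟨(ha i).2.2.2 (a i) _ s sq', (ha i).2.2.2 (a i) _ t sq'.flip⟩
  · rintro ⟨ι, U, φ, hφ, hsurj, hqc⟩
    have hopen : ∀ i, IsOpen (Set.range (AlgSp.Points.ofPt (φ i))) := fun i =>
      (Groth.Agent.S10176.isOpenMap_ofPt (φ i) (hφ i)).isOpen_range
    choose Xi j hjo hrange using fun i => Groth.Agent.S10195.result X _ (hopen i)
    choose a ha1 ha2 ha3 _ using fun i =>
      Groth.Agent.S10196.result (φ i) (hφ i) (j i) (hjo i) (hrange i)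
    refine ⟨ι, Xi, j, U, a, ⟨hjo, fun x => ?_⟩, fun i => ⟨ha2 i, ha3 i, ?_⟩⟩
    · obtain ⟨i, v, rfl⟩ := hsurj x
      exact ⟨i, by rw [hrange i]; exact ⟨v, rfl⟩⟩
    · obtain ⟨R, s, t', sqR⟩ := (hφ i).1 (φ i)
      obtain ⟨t, rfl⟩ := (AlgSp.yon S).map_surjective t'
      haveI := mono_of_open (j i).hom (hjo i)
      have sqR' : IsPullback ((AlgSp.yon S).map t) ((AlgSp.yon S).map s) (a i) (a i) := by
        refine isPullback_of_comp_mono (j i).hom ?_
        rw [ha1 i]; exact sqR
      exact repWith_quasiCompact_of_proj (a i) (ha2 i) (ha3 i) s t sqR' (hqc i R s t sqR).2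

end Groth.Agent.S10412
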