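import Mathlib
import Groth.Statements.S10198
import Groth.Agent.S10214
import Groth.Agent.S10182
import Groth.Agent.S10412
import Groth.Agent.S9920

set_option autoImplicit false
set_option linter.style.haveILetI false
universe u
open CategoryTheory CategoryTheory.Limits AlgebraicGeometry Topology TopologicalSpace
open AlgSp

namespace Groth.Agent.S10198

variable {S : Scheme.{u}}

/-- composing the legs of a pullback square with a monomorphism. -/
lemma isPullback_comp_mono {C : Type*} [Category C] {P A B X Y : C} {fst : P ⟶ A}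
    {snd : P ⟶ B} {f : A ⟶ X} {g : B ⟶ X} (m : X ⟶ Y) [Mono m]
    (sq : IsPullback fst snd f g) : IsPullback fst snd (f ≫ m) (g ≫ m) := by
  have hw : fst ≫ f ≫ m = snd ≫ g ≫ m := by
    rw [← Category.assoc, sq.w, Category.assoc]
  refine IsPullback.of_isLimit' ⟨hw⟩ (PullbackCone.IsLimit.mk _
    (fun s => sq.lift s.fst s.snd (by
      rw [← cancel_mono m, Category.assoc, Category.assoc]; exact s.condition))
    (fun s => sq.lift_fst _ _ _) (fun s => sq.lift_snd _ _ _)
    (fun s l h1 h2 => sq.hom_ext (by rw [h1, sq.lift_fst]) (by rw [h2, sq.lift_snd])))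

/-- the fibre square over `S` of an affine scheme mapping into an affine open of `S` is compact. -/
lemma compactSpace_prod_of_affine (U : Over S) [IsAffine U.left] (W : S.Opens) (hW : IsAffineOpen W)
    (hUW : ∀ v : ↥U.left, U.hom v ∈ W) : CompactSpace ↥(U ⨯ U : Over S).left := by
  haveI : IsAffine (W : Scheme.{u}) := hW
  have hrange : Set.range U.hom ⊆ Set.range W.ι := by
    rintro _ ⟨v, rfl⟩
    rw [Scheme.Opens.range_ι]
    exact hUW v
  let l : U.left ⟶ (W : Scheme.{u}) := IsOpenImmersion.lift W.ι U.hom hrange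
  have hl : l ≫ W.ι = U.hom := IsOpenImmersion.lift_fac _ _ _
  have sq0 : IsPullback (pullback.fst U.hom U.hom) (pullback.snd U.hom U.hom) (l ≫ W.ι)
      (l ≫ W.ι) := by
    rw [hl]
    exact IsPullback.of_hasPullback _ _
  have sq1 := Groth.Agent.S10412.isPullback_of_comp_mono W.ι sq0
  haveI : IsAffine (pullback U.hom U.hom) :=
    IsAffine.of_isIso sq1.isoPullback.hom
  haveI : IsAffine (U ⨯ U : Over S).left :=
    IsAffine.of_isIso (Over.prodLeftIsoPullback U U).hom
  infer_instance

end Groth.Agent.S10198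

namespace Groth.Agent.S10198

/-- (1) if and only if (3): for an algebraic space X over a scheme S, X is Zariski locally
quasi-separated over S (it has a Zariski covering by open subspaces whose diagonals over S are
quasi-compact) if and only if X has a Zariski covering by open subspaces each of which admits a
quasi-compact, etale, surjective map from an affine scheme. Since the second condition does not
mention S, being Zariski locally quasi-separated does not depend on the base. -/
theorem result {S : Scheme.{u}} (X : AlgSp.Space S) :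
    (∃ (ι : Type u) (Xi : ι → AlgSp.Space S) (j : ∀ i, Xi i ⟶ X),
        AlgSp.IsZarCover (fun i => (Xi i).obj) (fun i => (j i).hom) ∧ ∀ i, AlgSp.IsQuasiSeparatedSp (Xi i).obj) ↔
      (∃ (ι : Type u) (Xi : ι → AlgSp.Space S) (j : ∀ i, Xi i ⟶ X),
        AlgSp.IsZarCover (fun i => (Xi i).obj) (fun i => (j i).hom) ∧
          ∀ i, ∃ (U : Over S) (p : (AlgSp.yon S).obj U ⟶ (Xi i).obj), IsAffine U.left ∧
            AlgSp.RepWith @QuasiCompact p ∧ AlgSp.RepWith @Etale p ∧ AlgSp.RepWith @Surjective p) := by
  constructor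
  · rintro ⟨ι, Xi, j, ⟨hjo, hjs⟩, hqs⟩
    choose ι' X' j' hcov H using fun i => Groth.Agent.S10214.result (Xi i)
    refine ⟨Σ i, ι' i, fun k => X' k.1 k.2, fun k => j' k.1 k.2 ≫ j k.1, ⟨fun k => ?_, fun x => ?_⟩,
      fun k => ?_⟩
    · exact (AlgSp.RepWith @IsOpenImmersion).comp_mem _ _ ((hcov k.1).1 k.2) (hjo k.1)
    · obtain ⟨i, xi, rfl⟩ := hjs x
      obtain ⟨α, xα, rfl⟩ := (hcov i).2 xi
      exact ⟨⟨i, α⟩, xα, AlgSp.Points.map_comp _ _ _⟩
    · obtain ⟨U, p, hUaff, hpe, hps, W, hW, hUW⟩ := H k.1 k.2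
      refine ⟨U, p, hUaff, ?_, hpe, hps⟩
      haveI := hUaff
      obtain ⟨R, s, t', sqR⟩ := hpe.1 p
      obtain ⟨t, rfl⟩ := (AlgSp.yon S).map_surjective t'
      haveI : Mono (j' k.1 k.2 ≫ j k.1).hom :=
        Groth.Agent.S10412.mono_of_open _
          ((AlgSp.RepWith @IsOpenImmersion).comp_mem _ _ ((hcov k.1).1 k.2) (hjo k.1))
      haveI : Mono (j' k.1 k.2).hom := Groth.Agent.S10412.mono_of_open _ ((hcov k.1).1 k.2)
      have sq' := isPullback_comp_mono (j' k.1 k.2).hom sqR
      haveI : QuasiCompact (prod.lift t s).left :=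
        Groth.Agent.S9920.property_of_repWith_diag (hqs k.1) sq'
      haveI : CompactSpace ↥(U ⨯ U : Over S).left := compactSpace_prod_of_affine U W hW hUW
      haveI : CompactSpace ↥R.left :=
        QuasiCompact.compactSpace_of_compactSpace (prod.lift t s).left
      have ht : QuasiCompact t.left := inferInstance
      exact Groth.Agent.S10412.repWith_quasiCompact_of_proj p hpe hps s t sqR ht
  · rintro ⟨ι, Xi, j, hcov, H⟩
    refine ⟨ι, Xi, j, hcov, fun i => ?_⟩
    obtain ⟨U, p, hUaff, hpq, hpe, hps⟩ := H i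
    haveI := hUaff
    obtain ⟨R, s, t', sqR⟩ := hpe.1 p
    obtain ⟨t, rfl⟩ := (AlgSp.yon S).map_surjective t'
    haveI : QuasiCompact t.left := hpq.2 p _ t sqR.flip
    exact Groth.Agent.S10182.result (Xi i) p hpe hps s t sqR

end Groth.Agent.S10198
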