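import Groth.Statements.S10390
import Mathlib
import Groth.Agent.R2.H46Embed
import Groth.Agent.Lib.Helper12ResidualFactor2
import Groth.Agent.Lib.Helper12QcPoint
import Groth.Agent.S9938
import Groth.Agent.S9908
import Groth.Agent.S10211

set_option autoImplicit false
set_option linter.style.haveILetI false
universe u
open CategoryTheory CategoryTheory.Limits AlgebraicGeometry Topology TopologicalSpace
open AlgSp

namespace Groth.Agent.S10390

/-- Let S be a scheme, X and Y algebraic spaces over S, and f : X ⟶ Y a morphism, and let y ∈ |Y| be a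
point represented by a monomorphism Spec k ⟶ Y which is representable quasi-compact. Then for the
fibre X_k = Spec k ×_Y X the map |X_k| → |X| is a homeomorphism of |X_k| onto f⁻¹({y}) with its
induced topology. -/
theorem result {S : Scheme.{u}} {X Y : AlgSp.Space S} (f : X ⟶ Y)
    (r : AlgSp.FieldPt Y.obj) (hm : Mono r.toHom) (hq : AlgSp.RepWith @QuasiCompact r.toHom)
    (Xk : AlgSp.Space S) (fst : Xk ⟶ X) (snd : Xk.obj ⟶ (AlgSp.yon S).obj r.pt) (hsq : IsPullback fst.hom snd f.hom r.toHom) :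
    IsEmbedding (AlgSp.Points.map fst.hom) ∧
      Set.range (AlgSp.Points.map fst.hom) = AlgSp.Points.map f.hom ⁻¹' {AlgSp.Points.mk r} := by
  haveI hsub : Subsingleton (AlgSp.Points ((AlgSp.yon S).obj r.pt)) := by
    haveI : Subsingleton ↥r.pt.left := inferInstanceAs (Subsingleton (PrimeSpectrum r.K))
    exact (AlgSp.Points.schemeHomeo r.pt).symm.injective.subsingleton
  have hrpt : ∀ t : AlgSp.Points ((AlgSp.yon S).obj r.pt),
      AlgSp.Points.map r.toHom t = AlgSp.Points.mk r := by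
    intro t
    obtain ⟨t', rfl⟩ := (AlgSp.Points.schemeHomeo r.pt).surjective t
    change AlgSp.Points.map r.toHom (AlgSp.Points.ofScheme r.pt t') = _
    rw [← AlgSp.Points.ofPt_eq_map_ofScheme, AlgSp.Points.ofPt_toHom]
  -- the range
  have hrange : Set.range (AlgSp.Points.map fst.hom) =
      AlgSp.Points.map f.hom ⁻¹' {AlgSp.Points.mk r} := by
    ext x
    constructor
    · rintro ⟨z, rfl⟩
      change AlgSp.Points.map f.hom (AlgSp.Points.map fst.hom z) = AlgSp.Points.mk r
      rw [← AlgSp.Points.map_comp, hsq.w, AlgSp.Points.map_comp]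
      exact hrpt _
    · intro hx
      have e : AlgSp.Points.map f.hom x = AlgSp.Points.map r.toHom
          (AlgSp.Points.ofScheme r.pt (IsLocalRing.closedPoint r.K)) := by
        rw [hrpt]; exact hx
      obtain ⟨p, hp1, -⟩ := Groth.Agent.S10175.exists_point_of_isPullback hsq x _ e
      exact ⟨p, hp1⟩
  -- injectivity
  have hinjK : Groth.Agent.S9938.InjK r.toHom := fun K _ str a b hab => (cancel_mono r.toHom).1 hab
  have hinj : Function.Injective (AlgSp.Points.map fst.hom) :=
    Groth.Agent.S9938.injective_map_of_injK _ (Groth.Agent.S9938.injK_of_isPullback hsq.flip hinjK)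
  refine ⟨⟨?_, hinj⟩, hrange⟩
  -- Step 1: an etale neighbourhood `V` of `y` with a unique point over `y`
  obtain ⟨V₀, b₀, hb₀e, hb₀s⟩ := Y.property.atlas
  obtain ⟨v, hv⟩ := Groth.Agent.S10177.surjective_ofPt b₀ hb₀s (AlgSp.Points.mk r)
  have hfin : ∀ (V : Over S) (b : (AlgSp.yon S).obj V ⟶ Y.obj), IsAffine V.left →
      AlgSp.RepWith @Etale b → (AlgSp.Points.ofPt b ⁻¹' {AlgSp.Points.mk r}).Finite := by
    intro V b hV hb
    haveI : CompactSpace ↥V.left := inferInstance
    exact Groth.Agent.Lib.Helper12.QcPoint.finite_fibre_of_quasiCompact r hq b hb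
  obtain ⟨O', hvO', hO'⟩ := Groth.Agent.Lib.Helper12.ResidualFactor.exists_open_of_finite_fibre Y
    b₀ hb₀e (AlgSp.Points.mk r) hfin v hv
  let V : Over S := Over.mk (O'.ι ≫ V₀.hom)
  let jV : V ⟶ V₀ := Over.homMk O'.ι rfl
  obtain ⟨b, hbdef⟩ : ∃ b : (AlgSp.yon S).obj V ⟶ Y.obj, b = (AlgSp.yon S).map jV ≫ b₀ := ⟨_, rfl⟩
  have hbe : AlgSp.RepWith @Etale b := by
    rw [hbdef]
    exact (AlgSp.RepWith @Etale).comp_mem _ _
      ((AlgSp.repWith_yon_map_iff _ _).2 (inferInstance : Etale O'.ι)) hb₀e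
  let v₀ : ↥V.left := ⟨v, hvO'⟩
  have hv₀ : AlgSp.Points.ofPt b v₀ = AlgSp.Points.mk r := by
    rw [hbdef, Groth.Agent.S10176.ofPt_map_comp]; exact hv
  have huniq : ∀ v' : ↥V.left, AlgSp.Points.ofPt b v' = AlgSp.Points.mk r → v' = v₀ := by
    intro v' hv'
    rw [hbdef, Groth.Agent.S10176.ofPt_map_comp] at hv'
    exact Subtype.ext (hO' _ v'.2 hv')
  -- Step 2: the residue field point of `v₀` factors through `r`
  obtain ⟨pκ, hpκdef⟩ : ∃ pκ : AlgSp.FieldPt Y.obj, pκ = AlgSp.FieldPt.ofPt b v₀ := ⟨_, rfl⟩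
  have hpκmk : AlgSp.Points.mk pκ = AlgSp.Points.mk r := by rw [hpκdef]; exact hv₀
  let Zr : AlgSp.Space S := ⟨(AlgSp.yon S).obj r.pt, AlgSp.IsAlgSpace.yon_obj _⟩
  let i : Zr ⟶ Y := ObjectProperty.homMk r.toHom
  haveI : Mono i.hom := hm
  obtain ⟨d, hd⟩ := Groth.Agent.Lib.Helper12.ResidualFactor.exists_factor_fieldPoint i pκ.K
    pκ.str pκ.toHom (by
      rw [AlgSp.Points.ofPt_toHom, hpκmk]
      exact ⟨AlgSp.Points.ofScheme r.pt (IsLocalRing.closedPoint r.K), hrpt _⟩)
  change d ≫ r.toHom = pκ.toHom at hd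
  subst hpκdef
  let ικ : (AlgSp.FieldPt.ofPt b v₀).pt ⟶ V := Over.homMk (V.left.fromSpecResidueField v₀) rfl
  have hικ : (AlgSp.FieldPt.ofPt b v₀).toHom = (AlgSp.yon S).map ικ ≫ b :=
    AlgSp.FieldPt.toHom_ofPt b v₀
  -- Step 3: the pullbacks
  have sqV := IsPullback.of_hasPullback f.hom b
  have hXV : AlgSp.IsAlgSpace (pullback f.hom b) :=
    Groth.Agent.S9874.isAlgSpace_of_isPullback Y.property.diag X.property
      (AlgSp.IsAlgSpace.yon_obj V) sqV
  have sqκ := IsPullback.of_hasPullback (pullback.snd f.hom b) ((AlgSp.yon S).map ικ)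
  have hpre : AlgSp.RepWith @IsPreimmersion ((AlgSp.yon S).map ικ) :=
    (AlgSp.repWith_yon_map_iff _ _).2
      (inferInstance : IsPreimmersion (V.left.fromSpecResidueField v₀))
  have hi' : AlgSp.RepWith @IsPreimmersion
      (pullback.fst (pullback.snd f.hom b) ((AlgSp.yon S).map ικ)) :=
    MorphismProperty.of_isPullback (P := AlgSp.RepWith @IsPreimmersion) sqκ.flip hpre
  have hind' := Groth.Agent.R2.H46.Embed.isInducing_map_of_repWith_isPreimmersion hXV _ hi'
  have big := sqκ.paste_horiz sqV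
  rw [← hικ, ← hd] at big
  obtain ⟨π', hπ'⟩ : ∃ π' : pullback (pullback.snd f.hom b) ((AlgSp.yon S).map ικ) ⟶ Xk.obj,
      π' = hsq.lift (pullback.fst (pullback.snd f.hom b) ((AlgSp.yon S).map ικ) ≫
          pullback.fst f.hom b)
        (pullback.snd (pullback.snd f.hom b) ((AlgSp.yon S).map ικ) ≫ d)
        (by rw [Category.assoc]; exact big.w) := ⟨_, rfl⟩
  have hπ'1 : π' ≫ fst.hom = pullback.fst (pullback.snd f.hom b) ((AlgSp.yon S).map ικ) ≫
      pullback.fst f.hom b := by rw [hπ', hsq.lift_fst]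
  have hπ'2 : π' ≫ snd = pullback.snd (pullback.snd f.hom b) ((AlgSp.yon S).map ικ) ≫ d := by
    rw [hπ', hsq.lift_snd]
  have sqL : IsPullback π' (pullback.snd (pullback.snd f.hom b) ((AlgSp.yon S).map ικ)) snd d := by
    refine IsPullback.of_right ?_ hπ'2 hsq
    rw [hπ'1]; exact big
  have hπ's : Function.Surjective (AlgSp.Points.map π') := by
    intro w
    obtain ⟨p, hp1, -⟩ := Groth.Agent.S10175.exists_point_of_isPullback sqL w
      (AlgSp.Points.ofScheme _ (IsLocalRing.closedPoint (AlgSp.FieldPt.ofPt b v₀).K))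
      (Subsingleton.elim _ _)
    exact ⟨p, hp1⟩
  have hpVo : IsOpenMap (AlgSp.Points.map (pullback.fst f.hom b)) := by
    have h1 : AlgSp.RepWith @Etale (pullback.fst f.hom b) :=
      MorphismProperty.of_isPullback (P := AlgSp.RepWith @Etale) sqV.flip hbe
    exact Groth.Agent.S9908.isOpenMap_map_of_repWith _
      (Groth.Agent.S10211.repWith_universallyOpen_of_etale h1)
  refine Groth.Agent.R2.H46.Embed.isInducing_of_square
    (AlgSp.Points.map (pullback.fst (pullback.snd f.hom b) ((AlgSp.yon S).map ικ)))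
    (AlgSp.Points.map π') (AlgSp.Points.map (pullback.fst f.hom b)) (AlgSp.Points.map fst.hom)
    ?_ hind' hπ's (AlgSp.Points.continuous_map π') hpVo hinj (AlgSp.Points.continuous_map _) ?_
  · intro a'
    rw [← AlgSp.Points.map_comp, ← AlgSp.Points.map_comp, hπ'1]
  · rintro a ⟨x, hx⟩
    obtain ⟨v', hv'⟩ := (AlgSp.Points.schemeHomeo V).surjective
      (AlgSp.Points.map (pullback.snd f.hom b) a)
    have h1 : AlgSp.Points.ofPt b v' = AlgSp.Points.mk r := by
      rw [AlgSp.Points.ofPt_eq_map_ofScheme]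
      change AlgSp.Points.map b (AlgSp.Points.schemeHomeo V v') = _
      rw [hv', ← AlgSp.Points.map_comp, ← sqV.w, AlgSp.Points.map_comp, ← hx,
        ← AlgSp.Points.map_comp, hsq.w, AlgSp.Points.map_comp]
      exact hrpt _
    have h2 := huniq v' h1
    obtain ⟨p, hp1, -⟩ := Groth.Agent.S10175.exists_point_of_isPullback sqκ a
      (AlgSp.Points.ofScheme _ (IsLocalRing.closedPoint (AlgSp.FieldPt.ofPt b v₀).K)) (by
        rw [← hv', h2]
        have := AlgSp.Points.map_yon_map_apply ικ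
          (IsLocalRing.closedPoint (AlgSp.FieldPt.ofPt b v₀).K)
        refine Eq.trans ?_ this.symm
        congr 1
        exact (Scheme.fromSpecResidueField_apply _ _).symm)
    exact ⟨p, hp1⟩

end Groth.Agent.S10390
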