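import Groth.Statements.S16833
import Groth.Agent.R2.H93ProperLqf
import Groth.Agent.R2.H59AffDesc3
import Groth.Agent.S10260
import Groth.Agent.S10279
import Groth.Agent.S9925
import Groth.Agent.S9950
import Groth.Agent.S9906
import Groth.Agent.S10177

set_option autoImplicit false
universe u
open AlgSp

namespace Groth.Agent.S16833

open CategoryTheory AlgebraicGeometry in
/-- Let p : U → X and f : X → Y be morphisms of algebraic spaces over a scheme S with p etale and
surjective and f separated. If the composite U → Y is finite, then f is finite. -/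
theorem result {S : Scheme.{u}}
    {U X Y : AlgSp.Space S} (p : U ⟶ X) (f : X ⟶ Y)
    (hp : AlgSp.IsEtaleMor p.hom) (hps : AlgSp.IsSurjectiveMor p.hom)
    (hf : AlgSp.IsSeparatedMor f.hom) (h : AlgSp.IsFiniteMor (p ≫ f).hom) :
    AlgSp.IsFiniteMor f.hom := by
  open Groth.Agent.R2.H45.GrpLocus Groth.Agent.R2.H45.RelDim in
  -- the composite is representable by finite morphisms
  have hfin : AlgSp.RepWith @IsFinite (p ≫ f).hom :=
    Groth.Agent.R2.H59.AffDesc.repWith_isFinite_of_isFiniteMor _ h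
  have hrepc : AlgSp.Representable (p ≫ f).hom := hfin.1
  -- universally closed
  have hUCc : AlgSp.IsUnivClosedMor (p ≫ f).hom :=
    (Groth.Agent.S9922.result (p ≫ f) hrepc).1 ⟨hrepc, fun T W c' c κ sq => by
      have : IsFinite κ.left := hfin.2 c' c κ sq
      exact (inferInstance : UniversallyClosed κ.left)⟩
  have hUC : AlgSp.IsUnivClosedMor f.hom :=
    Groth.Agent.S10279.result p (p ≫ f) f rfl hUCc hps
  have hqc : AlgSp.IsQuasiCompactMor f.hom := Groth.Agent.S9925.result f hUC
  -- lqf + lft of the composite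
  have hlqfc : AlgSp.LocP (@LocallyQuasiFinite ⊓ @LocallyOfFiniteType) (p ≫ f).hom :=
    (Groth.Agent.S9948.result (@LocallyQuasiFinite ⊓ @LocallyOfFiniteType)
      (Or.inr (Or.inr (Or.inr (Or.inr (Or.inr (Or.inl (fun _ _ _ => Iff.rfl))))))) (p ≫ f)
        hrepc).2 ⟨hrepc, fun T W c' c κ sq => by
      have : IsFinite κ.left := hfin.2 c' c κ sq
      have h1 : LocallyQuasiFinite κ.left := inferInstance
      have h2 : LocallyOfFiniteType κ.left := inferInstance
      exact ⟨h1, h2⟩⟩
  have hlftc : AlgSp.LocP @LocallyOfFiniteType (p ≫ f).hom :=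
    fun U V a b k ha hb e => (hlqfc a b k ha hb e).2
  -- an atlas of U gives a surjective etale chart of X
  obtain ⟨U0, c, hce, hcs⟩ := U.property.atlas
  have hφe : AlgSp.RepWith @Etale (c ≫ p.hom) := hp c hce
  have hφsurj : AlgSp.IsSurjectiveMor (c ≫ p.hom) := by
    intro x
    obtain ⟨u, rfl⟩ := hps x
    obtain ⟨u0, rfl⟩ := Groth.Agent.S10177.surjective_ofPt c hcs u
    refine ⟨AlgSp.Points.ofScheme U0 u0, ?_⟩
    rw [AlgSp.Points.map_comp, ← AlgSp.Points.ofPt_eq_map_ofScheme]
  let U0' : AlgSp.Space S := ⟨(AlgSp.yon S).obj U0, AlgSp.IsAlgSpace.yon_obj U0⟩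
  let φ : U0' ⟶ X := ObjectProperty.homMk (c ≫ p.hom)
  have hφs : AlgSp.RepWith @Surjective (c ≫ p.hom) :=
    (Groth.Agent.S9906.result φ hφe.1).2 hφsurj
  have hlft : AlgSp.LocP @LocallyOfFiniteType f.hom := by
    refine Groth.Agent.S9950.result f U0 (c ≫ p.hom) hφe hφs ?_
    rw [Category.assoc]
    exact Groth.Agent.Lib.Helper12.LargestOpen.locP_precomp_repEtale @LocallyOfFiniteType c (p ≫ f).hom hce hlftc
  -- lqf of f, pointwise
  have hlqf : AlgSp.LocP (@LocallyQuasiFinite ⊓ @LocallyOfFiniteType) f.hom := by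
    rw [locP_iff_forall_hasAtMor etSqInvOn_qlqf detects_qlqf X.property Y.property f.hom hlft]
    intro x
    obtain ⟨u, rfl⟩ := hps x
    obtain ⟨U1, V1, a, b, k, u1, ha, hb, comm, hu, hQ⟩ :=
      (locP_iff_forall_hasAtMor etSqInvOn_qlqf detects_qlqf U.property Y.property (p ≫ f).hom
        hlftc).1 hlqfc u
    refine ⟨U1, V1, a ≫ p.hom, b, k, u1, hp a ha, hb, ?_, ?_, hQ⟩
    · rw [Category.assoc]
      exact comm
    · rw [← AlgSp.Points.map_ofPt, hu]
  have hrep : AlgSp.Representable f.hom := Groth.Agent.S10260.result f hlqf hf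
  exact Groth.Agent.R2.H93.ProperLqf.isFiniteMor_of_proper_lqf f hrep ⟨hf, ⟨hlft, hqc⟩, hUC⟩ hlqf

end Groth.Agent.S16833
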