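import Groth.Statements.S10622
import Groth.Agent.R2.H47FormalDescent

set_option autoImplicit false
universe u
open CategoryTheory CategoryTheory.Limits AlgebraicGeometry
open AlgSp

namespace Groth.Agent.S10622

/-- For a morphism f : X ⟶ Y of algebraic spaces over S, these conditions are equivalent: f is formally
etale (lifting along square-zero thickenings of affine schemes); for every scheme U with a
representable etale U ⟶ X, every scheme V with a representable etale V ⟶ Y and every compatible U ⟶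
V, the morphism of schemes U ⟶ V is formally etale; and this holds as soon as it holds for one such
diagram in which both charts are moreover surjective. -/
theorem result {S : Scheme.{u}} {X Y : AlgSp.Space S} (f : X ⟶ Y) :
    (AlgSp.IsFormallyEtaleMor f.hom ↔ AlgSp.LocP @MoreMor.IsFormallyEtaleHom f.hom) ∧
    (∀ (U V : Over S) (a : (AlgSp.yon S).obj U ⟶ X.obj) (b : (AlgSp.yon S).obj V ⟶ Y.obj) (h : U ⟶ V),
      AlgSp.RepWith @Etale a → AlgSp.RepWith @Surjective a → AlgSp.RepWith @Etale b → AlgSp.RepWith @Surjective b →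
      a ≫ f.hom = (AlgSp.yon S).map h ≫ b → MoreMor.IsFormallyEtaleHom h.left → AlgSp.IsFormallyEtaleMor f.hom) := by
  have part2 : ∀ (U V : Over S) (a : (AlgSp.yon S).obj U ⟶ X.obj) (b : (AlgSp.yon S).obj V ⟶ Y.obj)
      (h : U ⟶ V), AlgSp.RepWith @Etale a → AlgSp.RepWith @Surjective a → AlgSp.RepWith @Etale b →
      a ≫ f.hom = (AlgSp.yon S).map h ≫ b → MoreMor.IsFormallyEtaleHom h.left →
      AlgSp.IsFormallyEtaleMor f.hom := by
    intro U V a b h ha has hb comm hh
    have hbe := Groth.Agent.R2.H47.InfSq.isFormallyEtaleMor_of_repWith_etale hb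
    have hcomp : AlgSp.IsFormallyEtaleMor (a ≫ f.hom) := by
      rw [comm]
      exact Groth.Agent.Lib.Helper15.isFormallyEtaleMor_comp _ _
        ((Groth.Agent.R2.H47.InfSq.isFormallyEtaleMor_yon_map_iff h).2 hh) hbe
    exact Groth.Agent.R2.H47.InfSq.isFormallyEtaleMor_of_comp_etale_surj a f.hom ha has hcomp
  refine ⟨⟨?_, ?_⟩, fun U V a b h ha has hb _ comm hh => part2 U V a b h ha has hb comm hh⟩
  · intro H U V a b h ha hb comm
    have hae := Groth.Agent.R2.H47.InfSq.isFormallyEtaleMor_of_repWith_etale ha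
    have hbu := ((Groth.Agent.Lib.Helper15.isFormallyEtaleMor_iff b).1
      (Groth.Agent.R2.H47.InfSq.isFormallyEtaleMor_of_repWith_etale hb)).2
    have h1 : AlgSp.IsFormallyEtaleMor ((AlgSp.yon S).map h ≫ b) := by
      rw [← comm]
      exact Groth.Agent.Lib.Helper15.isFormallyEtaleMor_comp _ _ hae H
    rw [Groth.Agent.Lib.Helper15.isFormallyEtaleMor_iff] at h1
    exact (Groth.Agent.R2.H47.InfSq.isFormallyEtaleMor_yon_map_iff h).1
      ((Groth.Agent.Lib.Helper15.isFormallyEtaleMor_iff _).2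
        ⟨Groth.Agent.Lib.Helper15.isFormallySmoothMor_of_comp _ b hbu h1.1,
          Groth.Agent.Lib.Helper15.isFormallyUnramifiedMor_of_comp _ b h1.2⟩)
  · intro H
    obtain ⟨U, p, hp, hps⟩ := X.property.atlas
    obtain ⟨V, q, hq, hqs⟩ := Y.property.atlas
    obtain ⟨U1, u1, ψ', sq⟩ := hq.1 (p ≫ f.hom)
    obtain ⟨ψ, rfl⟩ := (AlgSp.yon S).map_surjective ψ'
    have : Etale u1.left := hq.2 _ _ u1 sq
    have : Surjective u1.left := hqs.2 _ _ u1 sq
    have ha : AlgSp.RepWith @Etale ((AlgSp.yon S).map u1 ≫ p) :=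
      (AlgSp.RepWith @Etale).comp_mem _ _ ((AlgSp.repWith_yon_map_iff _ _).2 inferInstance) hp
    have has : AlgSp.RepWith @Surjective ((AlgSp.yon S).map u1 ≫ p) :=
      (AlgSp.RepWith @Surjective).comp_mem _ _ ((AlgSp.repWith_yon_map_iff _ _).2 inferInstance) hps
    have hw : ((AlgSp.yon S).map u1 ≫ p) ≫ f.hom = (AlgSp.yon S).map ψ ≫ q := by
      rw [Category.assoc, sq.w]
    exact part2 _ _ _ q ψ ha has hq hw (H _ _ ψ ha hq hw)

end Groth.Agent.S10622
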