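import Groth.Statements.S10627
import Groth.Agent.S10626
import Groth.Agent.S10265
import Groth.Agent.S10208
import Groth.Agent.S1489

set_option autoImplicit false
universe u
open CategoryTheory CategoryTheory.Limits AlgebraicGeometry
open AlgSp

namespace Groth.Agent.S10627

/-- A morphism f : X ⟶ Y of algebraic spaces over S is etale if and only if it is locally of finite
presentation and formally etale (lifting sense). -/
theorem result {S : Scheme.{u}} {X Y : AlgSp.Space S} (f : X ⟶ Y) :
    AlgSp.IsEtaleMor f.hom ↔ AlgSp.LocP @LocallyOfFinitePresentation f.hom ∧ AlgSp.IsFormallyEtaleMor f.hom := by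
  constructor
  · intro hf
    obtain ⟨-, -, hfl, hfp, -, hun⟩ := Groth.Agent.S10265.result f hf
    exact ⟨hfp, Groth.Agent.S10626.result f hun hfl⟩
  · rintro ⟨hfp, hfe⟩
    obtain ⟨U, p, hp, hps⟩ := X.property.atlas
    obtain ⟨V, q, hq, hqs⟩ := Y.property.atlas
    obtain ⟨U1, u1, ψ', sq⟩ := hq.1 (p ≫ f.hom)
    obtain ⟨ψ, rfl⟩ := (AlgSp.yon S).map_surjective ψ'
    have : Etale u1.left := hq.2 _ _ u1 sq
    have : Surjective u1.left := hqs.2 _ _ u1 sq
    have ha : AlgSp.RepWith @Etale ((AlgSp.yon S).map u1 ≫ p) :=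
      (AlgSp.RepWith @Etale).comp_mem _ _ ((AlgSp.repWith_yon_map_iff _ _).2 inferInstance) hp
    have has : AlgSp.RepWith @Surjective ((AlgSp.yon S).map u1 ≫ p) :=
      (AlgSp.RepWith @Surjective).comp_mem _ _ ((AlgSp.repWith_yon_map_iff _ _).2 inferInstance) hps
    have hw : ((AlgSp.yon S).map u1 ≫ p) ≫ f.hom = (AlgSp.yon S).map ψ ≫ q := by
      rw [Category.assoc, sq.w]
    have h1 : LocallyOfFinitePresentation ψ.left := hfp _ _ ψ ha hq hw
    have h2 : MoreMor.IsFormallyEtaleHom ψ.left := ((Groth.Agent.S10622.result f).1.1 hfe) _ _ ψ ha hq hw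
    have : Etale ψ.left := (Groth.Agent.S1489.result ψ.left).2 ⟨h1, h2⟩
    exact Groth.Agent.S10208.isEtaleMor_of_chart_square Y.property f.hom _ ha has q hq ψ hw

end Groth.Agent.S10627
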