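import Groth.Statements.S10630
import Groth.Agent.R2.H47ThickBC

set_option autoImplicit false
universe u
open CategoryTheory CategoryTheory.Limits AlgebraicGeometry
open AlgSp

namespace Groth.Agent.S10630

/-- (1) ⇔ (3): let h : Z ⟶ X be a morphism of algebraic spaces over S and let i : Z ⟶ Z', h' : Z' ⟶ X be
a first order thickening of Z over X (i ≫ h' = h). Then (i, h') is a universal first order
thickening of Z over X if and only if for every first order thickening j : T ⟶ T' of schemes over S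
with T' affine, every a : T ⟶ Z and b : T' ⟶ X with j ≫ b = a ≫ h, there is exactly one a' : T' ⟶ Z'
with j ≫ a' = a ≫ i and a' ≫ h' = b. -/
theorem result {S : Scheme.{u}} {Z Z' X : AlgSp.Space S} (h : Z ⟶ X) (i : Z ⟶ Z')
    (h' : Z' ⟶ X) (hi : AlgSp.IsFOThickMor i.hom) (w : i ≫ h' = h) :
    AlgSp.IsUnivFOThick h.hom i.hom h'.hom ↔
      ∀ (T T' : Over S) (j : T ⟶ T'), IsAffine T'.left → AlgSp.IsFOThickMor ((AlgSp.yon S).map j) →
        ∀ (a : (AlgSp.yon S).obj T ⟶ Z.obj) (b : (AlgSp.yon S).obj T' ⟶ X.obj),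
          (AlgSp.yon S).map j ≫ b = a ≫ h.hom →
          ∃! a' : (AlgSp.yon S).obj T' ⟶ Z'.obj, (AlgSp.yon S).map j ≫ a' = a ≫ i.hom ∧ a' ≫ h'.hom = b := by
  have w' : i.hom ≫ h'.hom = h.hom := congrArg (fun m => m.hom) w
  constructor
  · intro HU T T' j _ hj a b hab
    exact HU.2.2 (AlgSp.IsAlgSpace.yon_obj T) (AlgSp.IsAlgSpace.yon_obj T') _ a b hj hab
  · intro H
    refine ⟨hi, w', ?_⟩
    intro T T' _ hT' j a b hj hab
    refine Groth.Agent.R2.H47.SpThick.exists_unique_lift_of_affine (f := h'.hom)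
      (Adm := fun W₀ top => ∃ a₀ : (AlgSp.yon S).obj W₀ ⟶ Z.obj, top = a₀ ≫ i.hom)
      ?_ ?_ hT' j hj (a ≫ i.hom) (fun W₀ t => ⟨t ≫ a, (Category.assoc _ _ _).symm⟩) b
      (by rw [Category.assoc, w', hab])
    · intro W₀ W k hW hk1 hk2 hk3 top bot hadm comm
      obtain ⟨a₀, rfl⟩ := hadm
      have hkb : (AlgSp.yon S).map k ≫ bot = a₀ ≫ h.hom := by
        rw [← comm, Category.assoc, w']
      obtain ⟨a', ha', -⟩ := H W₀ W k hW
        (Groth.Agent.R2.H47.ThickBC.isFOThickMor_yon_map k hk1 hk2 hk3) a₀ bot hkb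
      exact ⟨a', ha'⟩
    · intro W₀ W k hW hk1 hk2 hk3 l l' hadm e1 e2
      obtain ⟨a₀, ha₀⟩ := hadm
      have hkb : (AlgSp.yon S).map k ≫ (l ≫ h'.hom) = a₀ ≫ h.hom := by
        rw [← Category.assoc, ha₀, Category.assoc, w']
      exact (H W₀ W k hW (Groth.Agent.R2.H47.ThickBC.isFOThickMor_yon_map k hk1 hk2 hk3) a₀
        (l ≫ h'.hom) hkb).unique ⟨ha₀, rfl⟩ ⟨e1.symm.trans ha₀, e2.symm⟩

end Groth.Agent.S10630
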