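import Groth.Statements.S10631
import Groth.Agent.R2.H47SpThick

set_option autoImplicit false
universe u
open CategoryTheory CategoryTheory.Limits AlgebraicGeometry
open AlgSp

namespace Groth.Agent.S10631

/-- Consider morphisms Z ⟶ Y ⟶ X of algebraic spaces over S. If (i : Z ⟶ Z', h' : Z' ⟶ Y) is, over Y, a
universal first order thickening of Z and g : Y ⟶ X is formally etale, then (i, h' ≫ g) is, over X,
a universal first order thickening of Z. -/
theorem result {S : Scheme.{u}} {Z Z' Y X : AlgSp.Space S} (hZ : Z ⟶ Y) (g : Y ⟶ X)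
    (i : Z ⟶ Z') (h' : Z' ⟶ Y) (HU : AlgSp.IsUnivFOThick hZ.hom i.hom h'.hom) (hg : AlgSp.IsFormallyEtaleMor g.hom) :
    AlgSp.IsUnivFOThick (hZ ≫ g).hom i.hom (h' ≫ g).hom := by
  refine ⟨HU.1, ?_, ?_⟩
  · change i.hom ≫ h'.hom ≫ g.hom = hZ.hom ≫ g.hom
    rw [← Category.assoc, HU.2.1]
  · intro T T' hT hT' j a b hj hjb
    have hjb' : j ≫ b = a ≫ hZ.hom ≫ g.hom := hjb
    obtain ⟨c, ⟨hc1, hc2⟩, hc3⟩ := Groth.Agent.R2.H47.SpThick.exists_unique_lift_of_etale hg hT' j hj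
      (a ≫ hZ.hom) b (by rw [Category.assoc]; exact hjb'.symm)
    obtain ⟨a', ⟨ha1, ha2⟩, ha3⟩ := HU.2.2 hT hT' j a c hj hc1
    refine ⟨a', ⟨ha1, ?_⟩, ?_⟩
    · change a' ≫ h'.hom ≫ g.hom = b
      rw [← Category.assoc, ha2, hc2]
    · rintro a'' ⟨h1, h2⟩
      have h2' : a'' ≫ h'.hom ≫ g.hom = b := h2
      have h3 : a'' ≫ h'.hom = c := hc3 _ ⟨by rw [← Category.assoc, h1, Category.assoc, HU.2.1],
        by rw [Category.assoc]; exact h2'⟩
      exact ha3 a'' ⟨h1, h3⟩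

end Groth.Agent.S10631
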