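import Groth.Statements.S11254
import Groth.Agent.R2.H50PlUnion
import Groth.Agent.S11268
-- import your own Groth.Agent.* helpers here

set_option autoImplicit false
universe u
open W4bk4grassmannian

namespace Groth.Agent.S11254

open W4bk4grassmannian in
/-- Let K be an algebraically closed field, 0 < d < n, and I(d,n) the strictly increasing maps Fin d →
Fin n ordered entrywise; S = K[X_θ : θ ∈ I(d,n)] is the Plücker polynomial ring and, for τ ∈ I(d,n),
J(τ) ⊆ S is the ideal of polynomials vanishing at the d × d row-minors of every n × d matrix over K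
whose minors on rows φ ≰ τ are zero (the homogeneous ideal of the Schubert variety X(τ) ⊆ G(d,n)).
Let τ ∈ I(d,n) admit some φ < τ (X(τ) has positive dimension). Then J(τ) + (X_τ) = ⋂_φ J(φ), the
intersection over the Schubert divisors φ of τ, i.e. the φ < τ with Σ_t (φ_t - t) + 1 = Σ_t (τ_t -
t). (For the zero-dimensional Schubert variety there is no divisor and the left side is the
irrelevant ideal, so positive dimension is required at the level of ideals.) -/
theorem result (K : Type u) [Field K] [IsAlgClosed K]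
    (d n : ℕ) (hd : 0 < d) (hdn : d < n) (τ : Idx d n) (hτ : ∃ φ : Idx d n, φ < τ) :
    schubertVanishing K d n τ ⊔ Ideal.span {MvPolynomial.X τ} =
      ⨅ φ ∈ divisors τ, schubertVanishing K d n φ := by
  obtain ⟨φ₀, hφ₀⟩ := hτ
  obtain ⟨ψ₀, hψ₀, _⟩ := Groth.Agent.S11268.result d n φ₀ τ hφ₀
  apply le_antisymm
  · refine le_iInf fun φ => le_iInf fun hφ => ?_
    refine sup_le (Groth.Agent.R2.H50.PlMain.schubertVanishing_mono K (le_of_lt hφ.1)) ?_
    rw [Ideal.span_le, Set.singleton_subset_iff]
    exact Groth.Agent.R2.H50.PlMain.X_mem_schubertVanishing K φ τ (not_le_of_gt hφ.1)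
  · rw [iInf_subtype' (p := fun φ => φ ∈ divisors τ) (f := fun φ _ => schubertVanishing K d n φ)]
    refine Groth.Agent.R2.H50.PlUnion.iInf_le_of_stdMon_mem K
      (fun φ : {φ // φ ∈ divisors τ} => φ.1) hd _
      (le_trans (Groth.Agent.R2.H50.PlMain.plIdealTop_le_schubertVanishing K τ) le_sup_left) ?_
    intro c hc
    by_cases hcτ : c ∈ Groth.Agent.R2.H50.PlMain.onSet τ
    · -- c lies on X(τ) but on no divisor
      obtain ⟨m, c, hanti⟩ := c
      cases m with
      | zero =>
        exact absurd ⟨⟨ψ₀, hψ₀⟩, fun k => k.elim0⟩ hc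
      | succ m =>
        have h0 : c 0 ≤ τ := hcτ 0
        rcases eq_or_lt_of_le h0 with h0 | h0
        · refine (le_sup_right : Ideal.span {MvPolynomial.X τ} ≤ _) ?_
          refine Groth.Agent.R2.H50.PlMain.chainMon_mem_of_X_mem K _ c 0 ?_
          rw [h0]
          exact Ideal.subset_span rfl
        · obtain ⟨ψ, hψ, hle⟩ := Groth.Agent.S11268.result d n (c 0) τ h0
          exact absurd ⟨⟨ψ, hψ⟩, fun k => le_trans (hanti (Fin.zero_le k)) hle⟩ hc
    · exact (le_sup_left : schubertVanishing K d n τ ≤ _)
        (Groth.Agent.R2.H50.PlMain.stdMon_mem_schubertVanishing K τ c hcτ)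

end Groth.Agent.S11254
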