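import Groth.Statements.S11260
import Groth.Agent.R2.H50PlCell
import Groth.Agent.R2.H50PlRadical
import Groth.Agent.R2.H50PlDivisors
import Groth.Agent.R2.H50Nagata
import Groth.Agent.S11254
-- import your own Groth.Agent.* helpers here

set_option autoImplicit false
universe u
open W4bk4grassmannian

namespace Groth.Agent.S11260

open W4bk4grassmannian MvPolynomial
open Groth.Agent.R2.H50.PlCell Groth.Agent.R2.H50.PlMain Groth.Agent.R2.H50.PlRadical
  Groth.Agent.R2.H50.PlDivisors Groth.Agent.R2.H50.PlUnion

/-- primality of the class of `x` in `R ⧸ J` in terms of the ideal `J + (x)`. -/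
theorem prime_mk_iff {R : Type*} [CommRing R] (J : Ideal R) (x : R) (hx : x ∉ J) :
    Prime (Ideal.Quotient.mk J x) ↔ (J ⊔ Ideal.span {x}).IsPrime := by
  have hx0 : Ideal.Quotient.mk J x ≠ 0 := fun h => hx (Ideal.Quotient.eq_zero_iff_mem.1 h)
  rw [← Ideal.span_singleton_prime hx0]
  have hmap : Ideal.span {Ideal.Quotient.mk J x} = Ideal.map (Ideal.Quotient.mk J) (J ⊔ Ideal.span {x}) := by
    rw [Ideal.map_sup, Ideal.map_quotient_self, bot_sup_eq, Ideal.map_span, Set.image_singleton]
  have hcomap : Ideal.comap (Ideal.Quotient.mk J) (Ideal.span {Ideal.Quotient.mk J x}) = J ⊔ Ideal.span {x} := by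
    rw [hmap, Ideal.comap_map_of_surjective _ Ideal.Quotient.mk_surjective, ← RingHom.ker_eq_comap_bot,
      Ideal.mk_ker, sup_eq_left]
    exact le_sup_left
  constructor
  · intro h
    rw [← hcomap]
    exact Ideal.comap_isPrime _ _
  · intro h
    rw [hmap]
    refine Ideal.map_isPrime_of_surjective Ideal.Quotient.mk_surjective ?_
    rw [Ideal.mk_ker]
    exact le_sup_left

theorem isPrime_sup_iff (K : Type u) [Field K] [IsAlgClosed K] (d n : ℕ)
    (hd : 0 < d) (hdn : d < n) (τ : Idx d n) :
    (schubertVanishing K d n τ ⊔ Ideal.span {X τ}).IsPrime ↔ (divisors τ).Subsingleton := by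
  constructor
  · intro hprime φ₁ hφ₁ φ₂ hφ₂
    by_contra hne
    have hI := Groth.Agent.S11254.result K d n hd hdn τ ⟨φ₁, hφ₁.1⟩
    have hcodeg : codeg φ₁ = codeg φ₂ := by
      have := hφ₁.2
      have := hφ₂.2
      omega
    have hprod : X φ₁ * X φ₂ ∈ schubertVanishing K d n τ ⊔ Ideal.span {X τ} := by
      rw [hI, Ideal.mem_iInf]
      intro φ
      rw [Ideal.mem_iInf]
      intro hφ
      by_cases h1 : φ₁ ≤ φ
      · have e1 : φ₁ = φ := eq_of_le_of_codeg_eq φ₁ φ h1 (by have := hφ₁.2; have := hφ.2; omega)
        have h2 : ¬ φ₂ ≤ φ := by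
          intro h2
          have e2 : φ₂ = φ := eq_of_le_of_codeg_eq φ₂ φ h2 (by have := hφ₂.2; have := hφ.2; omega)
          exact hne (e1.trans e2.symm)
        exact Ideal.mul_mem_left _ _ (X_mem_schubertVanishing K φ φ₂ h2)
      · exact Ideal.mul_mem_right _ _ (X_mem_schubertVanishing K φ φ₁ h1)
    have hle : ∀ φ ∈ divisors τ, schubertVanishing K d n τ ⊔ Ideal.span {X τ} ≤ schubertVanishing K d n φ := by
      intro φ hφ
      rw [hI]
      exact iInf_le_of_le φ (iInf_le _ hφ)
    rcases hprime.mem_or_mem hprod with h | h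
    · exact X_notMem_schubertVanishing K φ₁ φ₁ hd le_rfl (hle φ₁ hφ₁ h)
    · exact X_notMem_schubertVanishing K φ₂ φ₂ hd le_rfl (hle φ₂ hφ₂ h)
  · intro hsub
    by_cases hex : ∃ φ : Idx d n, φ < τ
    · obtain ⟨φ₀, hφ₀⟩ := hex
      obtain ⟨ψ, hψ, _⟩ := Groth.Agent.S11268.result d n φ₀ τ hφ₀
      rw [Groth.Agent.S11254.result K d n hd hdn τ ⟨φ₀, hφ₀⟩]
      have : (⨅ φ ∈ divisors τ, schubertVanishing K d n φ) = schubertVanishing K d n ψ := by
        apply le_antisymm
        · exact iInf_le_of_le ψ (iInf_le _ hψ)
        · refine le_iInf fun φ => le_iInf fun hφ => ?_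
          rw [hsub hφ hψ]
      rw [this]
      exact schubertVanishing_isPrime K ψ hd
    · have hempty : IsEmpty {φ : Idx d n // φ < τ} := ⟨fun φ => hex ⟨φ.1, φ.2⟩⟩
      rw [sup_span_X_eq K τ hd, iInf_of_empty, inf_top_eq]
      unfold irr
      exact RingHom.ker_isPrime _

open W4bk4grassmannian in
/-- (2) ⇔ (3) ⇔ (4): let K be an algebraically closed field, 0 < d < n, and I(d,n) the strictly
increasing maps Fin d → Fin n ordered entrywise; S = K[X_θ : θ ∈ I(d,n)] is the Plücker polynomial
ring and, for τ ∈ I(d,n), J(τ) ⊆ S is the ideal of polynomials vanishing at the d × d row-minors of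
every n × d matrix over K whose minors on rows φ ≰ τ are zero (the homogeneous ideal of the Schubert
variety X(τ) ⊆ G(d,n)). Let R = S/J(τ). The following are equivalent: (1) R is a unique
factorization domain; (2) the class of X_τ is a prime element of R; (3) τ has at most one Schubert
divisor (φ < τ with Σ_t (φ_t - t) + 1 = Σ_t (τ_t - t)); (4) for some s, τ_t = t for all t < s and
the entries τ_t with t ≥ s are consecutive (0-indexed; τ is a single run of consecutive values, or
begins with 0, 1, …, s - 1 followed by a single run). (The published (3) reads: exactly one Schubert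
divisor; for the zero-dimensional Schubert variety there is none while (1), (2), (4) hold, so (3) is
stated as: at most one.) -/
theorem result (K : Type u) [Field K] [IsAlgClosed K] (d n : ℕ)
    (hd : 0 < d) (hdn : d < n) (τ : Idx d n) :
    (UniqueFactorizationMonoid (PlRing K d n ⧸ schubertVanishing K d n τ) ↔
        Prime (Ideal.Quotient.mk (schubertVanishing K d n τ) (MvPolynomial.X τ))) ∧
      (Prime (Ideal.Quotient.mk (schubertVanishing K d n τ) (MvPolynomial.X τ)) ↔
        (divisors τ).Subsingleton) ∧
      ((divisors τ).Subsingleton ↔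
        ∃ s : ℕ, (∀ t : Fin d, t.val < s → (τ.1 t).val = t.val) ∧
          ∀ t t' : Fin d, s ≤ t.val → t.val + 1 = t'.val → (τ.1 t).val + 1 = (τ.1 t').val) := by
  have hdom := isDomain_schubertRing K τ hd
  have hXτ : MvPolynomial.X τ ∉ schubertVanishing K d n τ := X_notMem_schubertVanishing K τ τ hd le_rfl
  have hs : cellQuot K τ hd (Ideal.Quotient.mk (schubertVanishing K d n τ) (MvPolynomial.X τ)) =
      MvPolynomial.X none := by
    rw [cellQuot_mk, cellMap_X_self]
  have hinj := cellQuot_injective K τ hd
  refine ⟨⟨?_, ?_⟩, ?_, divisors_subsingleton_iff τ⟩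
  · -- UFD ⇒ prime: the class of `X τ` is irreducible
    intro hufd
    rw [← UniqueFactorizationMonoid.irreducible_iff_prime]
    have hirr : Irreducible (MvPolynomial.X none : CellQ K τ) := (MvPolynomial.X_prime (R := K) (i := (none : Option (YIdx τ)))).irreducible
    have hunit : ∀ a : SchubertRing K τ, IsUnit (cellQuot K τ hd a) → IsUnit a := by
      intro a ha
      obtain ⟨c, hc, hca⟩ := (MvPolynomial.isUnit_iff_eq_C_of_isReduced).1 ha
      have h1 : a = algebraMap K (SchubertRing K τ) c := by
        apply hinj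
        rw [hca, AlgHom.commutes]
        rfl
      rw [h1]
      exact hc.map _
    constructor
    · intro hu
      apply hirr.not_isUnit
      rw [← hs]
      exact hu.map _
    · intro a b hab
      have h1 : (MvPolynomial.X none : CellQ K τ) = cellQuot K τ hd a * cellQuot K τ hd b := by
        rw [← hs, hab, map_mul]
      rcases hirr.isUnit_or_isUnit h1 with h | h
      · exact Or.inl (hunit a h)
      · exact Or.inr (hunit b h)
  · -- prime ⇒ UFD: Nagata's criterion and the cell
    intro hprime
    letI : Algebra (SchubertRing K τ) (Localization.Away (MvPolynomial.X none : CellQ K τ)) :=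
      ((algebraMap (CellQ K τ) (Localization.Away (MvPolynomial.X none : CellQ K τ))).comp
        (cellQuot K τ hd).toRingHom).toAlgebra
    have hloc : IsLocalization.Away (Ideal.Quotient.mk (schubertVanishing K d n τ) (MvPolynomial.X τ))
        (Localization.Away (MvPolynomial.X none : CellQ K τ)) := isLocalization_cell K τ hd
    have hufm : UniqueFactorizationMonoid (Localization.Away (MvPolynomial.X none : CellQ K τ)) :=
      UniqueFactorizationMonoid.of_isLocalization
        (Submonoid.powers (MvPolynomial.X none : CellQ K τ)) _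
    exact Groth.Agent.R2.H50.Nagata.ufm_of_prime_of_ufm_away
      (Ideal.Quotient.mk (schubertVanishing K d n τ) (MvPolynomial.X τ)) hprime
      (Localization.Away (MvPolynomial.X none : CellQ K τ))
  · rw [prime_mk_iff _ _ hXτ]
    exact isPrime_sup_iff K d n hd hdn τ

end Groth.Agent.S11260
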