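import Groth.Statements.S11270
import Groth.Agent.R2.H50PlRich
import Groth.Agent.R2.H50PlCell
import Groth.Agent.R2.H50PlDivisors
import Groth.Agent.S11260
-- import your own Groth.Agent.* helpers here

set_option autoImplicit false
universe u
open W4bk4grassmannian

namespace Groth.Agent.S11270

open W4bk4grassmannian MvPolynomial

/-- gaps of a strictly increasing tuple -/
theorem val_add_le {d n : ℕ} (a : Idx d n) (s : Fin d) :
    ∀ (k : ℕ) (hk : s.val + k < d), (a.1 s).val + k ≤ (a.1 ⟨s.val + k, hk⟩).val := by
  intro k
  induction k with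
  | zero => intro _; exact le_rfl
  | succ k ih =>
    intro hk
    have h1 := ih (by omega)
    have h2 : a.1 ⟨s.val + k, by omega⟩ < a.1 ⟨s.val + (k + 1), hk⟩ :=
      a.2 (by simp [Fin.lt_def])
    rw [Fin.lt_def] at h2
    omega

/-- the least element of `I(d,n)` -/
def iota (d n : ℕ) (hdn : d < n) : Idx d n := ⟨fun t => ⟨t.val, lt_trans t.isLt hdn⟩, fun _ _ h => h⟩

/-- the unique cover of the least element -/
def iota' (d n : ℕ) (hdn : d < n) : Idx d n :=
  ⟨fun t => if t.val + 1 = d then ⟨d, hdn⟩ else ⟨t.val, lt_trans t.isLt hdn⟩, by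
    intro s t hst
    have hst' := Fin.lt_def.1 hst
    have := t.2
    by_cases hs : s.val + 1 = d
    · omega
    · by_cases ht : t.val + 1 = d
      · simp only [hs, ht, if_false, if_true, Fin.lt_def]
        omega
      · simp only [hs, ht, if_false, Fin.lt_def]
        exact hst'⟩

theorem not_iota'_le_iff (d n : ℕ) (hd : 0 < d) (hdn : d < n) (θ : Idx d n) :
    ¬ iota' d n hdn ≤ θ ↔ θ = iota d n hdn := by
  constructor
  · intro h
    have h' : ∃ t, θ.1 t < (iota' d n hdn).1 t := by
      by_contra hcon
      push Not at hcon
      exact h hcon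
    obtain ⟨t, ht⟩ := h'
    have hge := Groth.Agent.R2.H50.PlDivisors.le_val θ t
    have htd : t.val + 1 = d := by
      by_contra hne
      simp only [iota', hne, if_false, Fin.lt_def] at ht
      omega
    simp only [iota', htd, if_true, Fin.lt_def] at ht
    -- the last entry of `θ` is `d - 1`
    apply Subtype.ext
    funext s
    apply Fin.ext
    show (θ.1 s).val = s.val
    have h1 := Groth.Agent.R2.H50.PlDivisors.le_val θ s
    have hs := s.2
    have h2 := val_add_le θ s (d - 1 - s.val) (by omega)
    have h3 : (⟨s.val + (d - 1 - s.val), by omega⟩ : Fin d) = t := Fin.ext (by simp only; omega)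
    rw [h3] at h2
    omega
  · rintro rfl h
    have := h ⟨d - 1, by omega⟩
    simp only [iota', iota] at this
    rw [if_pos (by omega), Fin.le_def] at this
    simp only at this
    omega

open W4bk4grassmannian in
/-- The least Plücker coordinate is a prime element on every Schubert variety: let K be an algebraically
closed field, 0 < d < n, and I(d,n) the strictly increasing maps Fin d → Fin n ordered entrywise; S
= K[X_θ : θ ∈ I(d,n)] is the Plücker polynomial ring and, for τ ∈ I(d,n), J(τ) ⊆ S is the ideal of
polynomials vanishing at the d × d row-minors of every n × d matrix over K whose minors on rows φ ≰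
τ are zero (the homogeneous ideal of the Schubert variety X(τ) ⊆ G(d,n)). Let w ∈ I(d,n) and let ι =
(0, 1, …, d - 1) be the least element of I(d,n), written (1, …, d) in 1-based indexing. Then the
class of X_ι in S/J(w) is a prime element; it generates the kernel of the restriction to the section
of X(w) by the opposite Schubert divisor. -/
theorem result (K : Type u) [Field K] [IsAlgClosed K] (d n : ℕ)
    (hd : 0 < d) (hdn : d < n) (w : Idx d n) :
    Prime (Ideal.Quotient.mk (schubertVanishing K d n w)
      (MvPolynomial.X (⟨fun t => ⟨t.val, lt_trans t.isLt hdn⟩, fun a b h => h⟩ : Idx d n))) := by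
  show Prime (Ideal.Quotient.mk (schubertVanishing K d n w) (MvPolynomial.X (iota d n hdn)))
  have hle : iota d n hdn ≤ w := fun t => Fin.le_def.2 (Groth.Agent.R2.H50.PlDivisors.le_val w t)
  rw [Groth.Agent.S11260.prime_mk_iff _ _
    (Groth.Agent.R2.H50.PlCell.X_notMem_schubertVanishing K w (iota d n hdn) hd hle)]
  have key : schubertVanishing K d n w ⊔ Ideal.span {MvPolynomial.X (iota d n hdn)} =
      Groth.Agent.R2.H50.PlRich.richIdeal K (iota' d n hdn) w := by
    unfold Groth.Agent.R2.H50.PlRich.richIdeal
    congr 2
    ext f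
    simp only [Set.mem_singleton_iff, Set.mem_ofPred_eq]
    constructor
    · rintro rfl
      exact ⟨iota d n hdn, (not_iota'_le_iff d n hd hdn _).2 rfl, rfl⟩
    · rintro ⟨θ, hθ, rfl⟩
      rw [(not_iota'_le_iff d n hd hdn θ).1 hθ]
  rw [key]
  exact Groth.Agent.R2.H50.PlRich.richIdeal_isPrime K _ w hd

end Groth.Agent.S11270
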