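import Groth.Statements.S9168
import Mathlib

set_option autoImplicit false
set_option linter.style.haveILetI false
universe u
open CAlg

namespace Groth.Agent.S9168

section LocClosure
variable {P T : Type*} [CommRing P] [CommRing T] [IsLocalRing T] (g : P →+* T)

/-- the prime of `P` under the maximal ideal of the local ring `T`. -/
abbrev pr : Ideal P := (IsLocalRing.maximalIdeal T).comap g

instance : (pr g).IsPrime := Ideal.comap_isPrime g _

theorem isUnit_of_notMem (y : (pr g).primeCompl) : IsUnit (g y) := by
  by_contra h
  exact y.2 (show g y ∈ IsLocalRing.maximalIdeal T from h)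

/-- the canonical map `P_p → T`. -/
noncomputable def psi : Localization.AtPrime (pr g) →+* T :=
  IsLocalization.lift (M := (pr g).primeCompl) (isUnit_of_notMem g)

theorem psi_algebraMap (x : P) : psi g (algebraMap P (Localization.AtPrime (pr g)) x) = g x :=
  IsLocalization.lift_eq _ x

instance isLocalHom_psi : IsLocalHom (psi g) := by
  constructor
  intro z hz
  obtain ⟨a, s, rfl⟩ := IsLocalization.exists_mk'_eq (pr g).primeCompl z
  have h1 : IsLocalization.mk' (Localization.AtPrime (pr g)) a s *
      algebraMap P (Localization.AtPrime (pr g)) s = algebraMap P _ a := IsLocalization.mk'_spec _ a s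
  have h2 : psi g (IsLocalization.mk' (Localization.AtPrime (pr g)) a s) * g s = g a := by
    rw [← psi_algebraMap g s, ← map_mul, h1, psi_algebraMap]
  have h3 : IsUnit (g a) := h2 ▸ hz.mul (isUnit_of_notMem g s)
  have ha : a ∈ (pr g).primeCompl := fun hmem => hmem h3
  have h4 : IsUnit (algebraMap P (Localization.AtPrime (pr g)) a) :=
    IsLocalization.map_units _ (⟨a, ha⟩ : (pr g).primeCompl)
  rw [← h1] at h4
  exact isUnit_of_mul_isUnit_left h4

/-- the local closure of the image of `g` in `T`. -/
noncomputable def locClosure : Subring T := (psi g).range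

theorem range_le_locClosure : g.range ≤ locClosure g := by
  rintro _ ⟨x, rfl⟩
  exact ⟨algebraMap P _ x, psi_algebraMap g x⟩

instance : IsLocalRing (locClosure g) :=
  IsLocalRing.of_surjective' (psi g).rangeRestrict (psi g).rangeRestrict_surjective

instance isLocalHom_subtype : IsLocalHom (locClosure g).subtype := by
  constructor
  rintro ⟨x, z, rfl⟩ hx
  have hz : IsUnit z := IsLocalHom.map_nonunit (f := psi g) z hx
  exact hz.map (psi g).rangeRestrict

end LocClosure

/-- For a local homomorphism of local rings R → S and finite subsets E ⊆ R, F ⊆ S there are local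
subrings R₀ ⊆ R and S₀ ⊆ S containing E and F, with R → S mapping R₀ into S₀, such that the
inclusions and the induced map R₀ → S₀ are local homomorphisms, R₀ is essentially of finite type
over ℤ and S₀ is essentially of finite type over R₀. (So R → S is the directed colimit of such R₀ →
S₀.) -/
theorem result (R S : Type u) [CommRing R] [CommRing S] [IsLocalRing R]
    [IsLocalRing S] [Algebra R S] [IsLocalHom (algebraMap R S)] (E : Finset R) (F : Finset S) :
    ∃ (R₀ : Subring R) (S₀ : Subring S) (h : ∀ x ∈ R₀, algebraMap R S x ∈ S₀),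
      (E : Set R) ⊆ R₀ ∧ (F : Set S) ⊆ S₀ ∧ ∃ (_ : IsLocalRing R₀) (_ : IsLocalRing S₀),
        IsLocalHom R₀.subtype ∧ IsLocalHom S₀.subtype ∧
          IsLocalHom ((algebraMap R S).restrict R₀ S₀ h) ∧
          (algebraMap ℤ R₀).EssFiniteType ∧ ((algebraMap R S).restrict R₀ S₀ h).EssFiniteType := by
  classical
  -- the ring `R₀`
  let g₁ : MvPolynomial E ℤ →+* R := MvPolynomial.eval₂Hom (Int.castRingHom R) (fun e => e.1)
  let R₀ : Subring R := locClosure g₁
  have hE : (E : Set R) ⊆ R₀ := by
    intro e he
    refine range_le_locClosure g₁ ⟨MvPolynomial.X ⟨e, he⟩, ?_⟩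
    simp [g₁]
  -- the ring `S₀`
  let g₂ : MvPolynomial F R₀ →+* S :=
    MvPolynomial.eval₂Hom ((algebraMap R S).comp R₀.subtype) (fun f => f.1)
  let S₀ : Subring S := locClosure g₂
  have hF : (F : Set S) ⊆ S₀ := by
    intro f hf
    refine range_le_locClosure g₂ ⟨MvPolynomial.X ⟨f, hf⟩, ?_⟩
    simp [g₂]
  have h : ∀ x ∈ R₀, algebraMap R S x ∈ S₀ := by
    intro x hx
    refine range_le_locClosure g₂ ⟨MvPolynomial.C ⟨x, hx⟩, ?_⟩
    simp [g₂]
  refine ⟨R₀, S₀, h, hE, hF, inferInstance, inferInstance, inferInstance, inferInstance, ?_, ?_, ?_⟩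
  · -- the restricted map is local
    constructor
    intro r hr
    have h1 : IsUnit (algebraMap R S r.1) := hr.map S₀.subtype
    have h2 : IsUnit r.1 := IsLocalHom.map_nonunit (f := algebraMap R S) r.1 h1
    exact IsLocalHom.map_nonunit (f := R₀.subtype) r h2
  · -- `R₀` is essentially of finite type over `ℤ`
    rw [RingHom.essFiniteType_algebraMap]
    let ρ : Localization.AtPrime (pr g₁) →ₐ[ℤ] R₀ :=
      { (psi g₁).rangeRestrict with
        commutes' := fun n => by
          rw [eq_intCast (algebraMap ℤ (Localization.AtPrime (pr g₁))) n, eq_intCast (algebraMap ℤ R₀) n]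
          exact map_intCast (psi g₁).rangeRestrict n }
    exact Algebra.EssFiniteType.of_surjective ρ (psi g₁).rangeRestrict_surjective
  · -- `S₀` is essentially of finite type over `R₀`
    letI : Algebra R₀ S₀ := ((algebraMap R S).restrict R₀ S₀ h).toAlgebra
    change Algebra.EssFiniteType R₀ S₀
    let ρ : Localization.AtPrime (pr g₂) →ₐ[R₀] S₀ :=
      { (psi g₂).rangeRestrict with
        commutes' := fun r => by
          apply Subtype.ext
          change psi g₂ (algebraMap R₀ (Localization.AtPrime (pr g₂)) r) = algebraMap R S r.1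
          rw [IsScalarTower.algebraMap_apply R₀ (MvPolynomial F R₀) (Localization.AtPrime (pr g₂)),
            psi_algebraMap]
          simp [g₂] }
    exact Algebra.EssFiniteType.of_surjective ρ (psi g₂).rangeRestrict_surjective

end Groth.Agent.S9168
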