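import Groth.Statements.S10298
import Mathlib
import Groth.Agent.Lib.Helper12ZarGlue

set_option autoImplicit false
universe u
open CategoryTheory CategoryTheory.Limits AlgebraicGeometry
open AlgSp

namespace Groth.Agent.S10298

set_option backward.isDefEq.respectTransparency false in
theorem zlat : IsZariskiLocalAtTarget @IsIntegralHom := inferInstance

/-- For a quasi-compact quasi-separated morphism of schemes, the relative normalization of schemes is
the normalization in the sense of algebraic spaces. -/
theorem result {S : Scheme.{u}} {V U N : Over S} (g : V ⟶ U)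
    [QuasiCompact g.left] [QuasiSeparated g.left] (f' : V ⟶ N) (ν : N ⟶ U)
    (e : N.left ≅ g.left.normalization) (he1 : f'.left ≫ e.hom = g.left.toNormalization)
    (he2 : e.hom ≫ g.left.fromNormalization = ν.left) :
    AlgSp.IsRelNormalization ((AlgSp.yon S).map g) ((AlgSp.yon S).map ν) ((AlgSp.yon S).map f') := by
  have hfac : f' ≫ ν = g := by
    ext
    show f'.left ≫ ν.left = g.left
    rw [← he2, ← Category.assoc, he1, Scheme.Hom.toNormalization_fromNormalization]
  have hν : IsIntegralHom ν.left := by
    rw [← he2]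
    infer_instance
  have he1' : g.left.toNormalization ≫ e.inv = f'.left := by
    rw [← he1, Category.assoc, Iso.hom_inv_id, Category.comp_id]
  have he2' : e.inv ≫ ν.left = g.left.fromNormalization := by
    rw [← he2, Iso.inv_hom_id_assoc]
  refine ⟨?_, ?_, ?_⟩
  · rw [← Functor.map_comp, hfac]
  · -- integrality of `h_ν`
    intro Z hZ γ
    have hrep : AlgSp.RepWith @IsIntegralHom ((AlgSp.yon S).map ν) :=
      (AlgSp.repWith_yon_map_iff _ ν).mpr hν
    obtain ⟨W, snd, fst, sq⟩ := hrep.1 γ
    have : IsIntegralHom snd.left := hrep.2 γ fst snd sq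
    have := hZ
    exact ⟨W, snd, fst, sq, isAffine_of_isAffineHom snd.left, inferInstance⟩
  · -- the universal property
    intro Z hZ π γ hπ hγ
    have := zlat
    have hrep : AlgSp.RepWith @IsIntegralHom π :=
      Groth.Agent.Lib.Helper12.ZarGlue.repWith_of_affine @IsIntegralHom π (fun Z hZ g => by
        obtain ⟨W, i, fst, sq, -, hW⟩ := hπ hZ g
        exact ⟨W, i, fst, sq, hW⟩)
    obtain ⟨T, snd, fst, sq⟩ := hrep.1 (𝟙 ((AlgSp.yon S).obj U))
    have : IsIntegralHom snd.left := hrep.2 _ fst snd sq
    have : IsIso fst := sq.isIso_fst_of_isIso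
    have hfst : fst ≫ π = (AlgSp.yon S).map snd := by
      rw [sq.w, Category.comp_id]
    -- `γ` as a morphism of schemes `V ⟶ T`
    obtain ⟨γ₀, hγ₀⟩ := (AlgSp.yon S).map_surjective (γ ≫ inv fst)
    have hγ₀' : (AlgSp.yon S).map γ₀ ≫ fst = γ := by
      rw [hγ₀, Category.assoc, IsIso.inv_hom_id, Category.comp_id]
    have hγ₀snd : γ₀ ≫ snd = g := by
      apply (AlgSp.yon S).map_injective
      rw [Functor.map_comp, ← hfst, ← Category.assoc, hγ₀', hγ]
    have H : g.left = γ₀.left ≫ snd.left := by
      rw [← hγ₀snd]; rfl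
    -- the morphism `N ⟶ T`
    let d := g.left.normalizationDesc γ₀.left snd.left H
    have hd1 : g.left.toNormalization ≫ d = γ₀.left :=
      Scheme.Hom.toNormalization_normalizationDesc _ _ _ H
    have hd2 : d ≫ snd.left = g.left.fromNormalization :=
      Scheme.Hom.normalizationDesc_comp _ _ _ H
    have hw : (e.hom ≫ d) ≫ T.hom = N.hom := by
      rw [← Over.w snd, Category.assoc, reassoc_of% hd2, reassoc_of% he2, Over.w ν]
    let h₀ : N ⟶ T := Over.homMk (e.hom ≫ d) hw
    have hh₀1 : f' ≫ h₀ = γ₀ := by
      ext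
      show f'.left ≫ e.hom ≫ d = γ₀.left
      rw [reassoc_of% he1, hd1]
    have hh₀2 : h₀ ≫ snd = ν := by
      ext
      show (e.hom ≫ d) ≫ snd.left = ν.left
      rw [Category.assoc, hd2, he2]
    refine ⟨(AlgSp.yon S).map h₀ ≫ fst, ⟨?_, ?_⟩, ?_⟩
    · rw [← Category.assoc, ← Functor.map_comp, hh₀1, hγ₀']
    · rw [Category.assoc, hfst, ← Functor.map_comp, hh₀2]
    · rintro h' ⟨h'1, h'2⟩
      obtain ⟨k, hk⟩ := (AlgSp.yon S).map_surjective (h' ≫ inv fst)
      have hk' : (AlgSp.yon S).map k ≫ fst = h' := by
        rw [hk, Category.assoc, IsIso.inv_hom_id, Category.comp_id]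
      have hk1 : f' ≫ k = γ₀ := by
        apply (AlgSp.yon S).map_injective
        rw [Functor.map_comp, hk, ← Category.assoc, h'1, hγ₀]
      have hk2 : k ≫ snd = ν := by
        apply (AlgSp.yon S).map_injective
        rw [Functor.map_comp, ← hfst, ← Category.assoc, hk', h'2]
      have hkd : e.inv ≫ k.left = d := by
        refine Scheme.Hom.normalization.hom_ext g.left _ _ snd.left ?_ ?_ hd2
        · rw [← Category.assoc, he1', hd1, ← hk1]
          rfl
        · rw [Category.assoc]
          have : k.left ≫ snd.left = ν.left := by rw [← hk2]; rfl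
          rw [this, he2']
      have hkh : k = h₀ := by
        ext
        show k.left = e.hom ≫ d
        rw [← hkd, Iso.hom_inv_id_assoc]
      rw [← hk', hkh]

end Groth.Agent.S10298
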