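import Groth.Statements.S0818
import Mathlib
import Groth.Agent.R2.H12Dev4B
-- import your own Groth.Agent.* helpers here

set_option autoImplicit false
universe u
open Coherent

namespace Groth.Agent.S0818

/-- the residue field of a local ring is a simple module -/
theorem isSimpleModule_residueField (R : Type u) [CommRing R] [IsLocalRing R] :
    IsSimpleModule R (IsLocalRing.ResidueField R) :=
  isSimpleModule_iff_quot_maximal.2 ⟨IsLocalRing.maximalIdeal R, inferInstance, ⟨LinearEquiv.refl _ _⟩⟩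

open CategoryTheory CategoryTheory.Limits AlgebraicGeometry in
/-- a nonempty Noetherian scheme has an integral closed subscheme -/
theorem exists_integral_closed (X : Scheme.{u}) [IsNoetherian X] [Nonempty X] :
    ∃ (Z : Scheme.{u}) (i : Z ⟶ X), IsClosedImmersion i ∧ IsIntegral Z := by
  obtain ⟨x⟩ := (inferInstance : Nonempty X)
  have hqc : QuasiCompact (X.fromSpecResidueField x) := inferInstance
  exact ⟨(X.fromSpecResidueField x).image, (X.fromSpecResidueField x).imageι, inferInstance,
    Groth.Agent.R2.H12.Dev.isIntegral_image _⟩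

open CategoryTheory CategoryTheory.Limits AlgebraicGeometry in
theorem aux (X : Scheme.{u}) [IsNoetherian X] [Nonempty X]
    (P : X.Modules → Prop) (hP : ∀ M N : X.Modules, Nonempty (M ≅ N) → P M → P N)
    (h₁ : ∀ S : ShortComplex X.Modules, S.ShortExact → Coh.IsCoh S.X₁ → Coh.IsCoh S.X₂ → Coh.IsCoh S.X₃ →
      (P S.X₁ → P S.X₂ → P S.X₃) ∧ (P S.X₁ → P S.X₃ → P S.X₂) ∧ (P S.X₂ → P S.X₃ → P S.X₁))
    (h₂ : ∀ (Z : Scheme.{u}) (i : Z ⟶ X) [IsClosedImmersion i] [IsIntegral Z],
      ∃ G : X.Modules, Coh.IsCoh G ∧ CohB1.support G = Set.range ⇑i ∧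
        Nonempty (↑(G.presheaf.stalk (i (genericPoint Z))) ≃ₗ[X.presheaf.stalk (i (genericPoint Z))]
          IsLocalRing.ResidueField (X.presheaf.stalk (i (genericPoint Z)))) ∧ P G)
    (M : X.Modules) (hM : Coh.IsCoh M) : P M := by
  have hex : ∀ S : ShortComplex X.Modules, S.ShortExact → Coh.IsCoh S.X₁ → Coh.IsCoh S.X₂ → Coh.IsCoh S.X₃ →
      (P S.X₁ → P S.X₃ → P S.X₂) ∧ (P S.X₁ → P S.X₂ → P S.X₃) ∧ (P S.X₂ → P S.X₃ → P S.X₁) :=
    fun S hS a b c => ⟨(h₁ S hS a b c).2.1, (h₁ S hS a b c).1, (h₁ S hS a b c).2.2⟩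
  have h0 : ∀ M : X.Modules, IsZero M → P M := by
    intro M hM0
    obtain ⟨Z, i, hi, hZ⟩ := exists_integral_closed X
    obtain ⟨G, hG, -, -, hPG⟩ := h₂ Z i
    have hS : (ShortComplex.mk (𝟙 G) (cokernel.π (𝟙 G)) (cokernel.condition _)).ShortExact :=
      ShortComplex.ShortExact.mk' (ShortComplex.exact_cokernel _) inferInstance inferInstance
    have hc : Coh.IsCoh (cokernel (𝟙 G)) := Groth.Agent.R2.H12.Dev.isCoh_cokernel hG hG _
    have hP0 : P (cokernel (𝟙 G)) := (h₁ _ hS hG hG hc).1 hPG hPG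
    exact hP _ _ ⟨(isZero_cokernel_of_epi (𝟙 G)).iso hM0⟩ hP0
  refine Groth.Agent.R2.H12.Dev.devissage_core_simple P hP hex h0 ⊥ ?_ M hM ?_
  · intro Z i _ _ _
    obtain ⟨G, hG, hsupp, ⟨e⟩, hPG⟩ := h₂ Z i
    have hs := isSimpleModule_residueField (X.presheaf.stalk (i (genericPoint Z)))
    exact ⟨G, hG, hsupp.le, IsSimpleModule.congr e, hPG⟩
  · intro W' hW' s
    have hbot : W' = ⊥ := le_bot_iff.1 hW'
    subst hbot
    exact Groth.Agent.R2.H12.Dev.eq_zero_of_bot M s


open CategoryTheory AlgebraicGeometry in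
/-- Let X be a nonempty Noetherian scheme and P an isomorphism-invariant property of O_X-modules such
that (1) in every short exact sequence of coherent O_X-modules, if two of the three terms satisfy P
then so does the third, and (2) for every integral scheme Z and closed immersion i : Z → X, with ξ
the generic point of Z, there is a coherent O_X-module G satisfying P whose support is exactly i(Z)
and whose stalk at i(ξ) is isomorphic, as a module over the local ring O_{X,i(ξ)}, to the residue
field of that local ring. Then every coherent O_X-module satisfies P. (The published statement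
leaves the nonemptiness of X implicit; it is needed to handle the zero module and is assumed
explicitly here.) -/
theorem result (X : Scheme.{u}) [IsNoetherian X] [Nonempty X]
    (P : X.Modules → Prop) (hP : ∀ M N : X.Modules, Nonempty (M ≅ N) → P M → P N)
    (h₁ : ∀ S : ShortComplex X.Modules, S.ShortExact → Coh.IsCoh S.X₁ → Coh.IsCoh S.X₂ → Coh.IsCoh S.X₃ →
      (P S.X₁ → P S.X₂ → P S.X₃) ∧ (P S.X₁ → P S.X₃ → P S.X₂) ∧ (P S.X₂ → P S.X₃ → P S.X₁))
    (h₂ : ∀ (Z : Scheme.{u}) (i : Z ⟶ X) [IsClosedImmersion i] [IsIntegral Z],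
      ∃ G : X.Modules, Coh.IsCoh G ∧ CohB1.support G = Set.range ⇑i ∧
        Nonempty (↑(G.presheaf.stalk (i (genericPoint Z))) ≃ₗ[X.presheaf.stalk (i (genericPoint Z))]
          IsLocalRing.ResidueField (X.presheaf.stalk (i (genericPoint Z)))) ∧ P G)
    (M : X.Modules) (hM : Coh.IsCoh M) : P M := by
  exact aux X P hP h₁ h₂ M hM

end Groth.Agent.S0818
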