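import Groth.Statements.S0819
import Mathlib
import Groth.Agent.R2.H12Dev4B
import Groth.Agent.S0818
-- import your own Groth.Agent.* helpers here

set_option autoImplicit false
universe u
open Coherent

namespace Groth.Agent.S0819

open CategoryTheory CategoryTheory.Limits AlgebraicGeometry TopologicalSpace in
/-- a module vanishing on the open `W` has support in the complement -/
theorem support_disjoint_of_vanOn {X : Scheme.{u}} (M : X.Modules) (W : X.Opens)
    (h : Groth.Agent.R2.H12.Dev.VanOn M W) : ∀ x ∈ W, x ∉ CohB1.support M := by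
  intro x hx hxs
  apply hxs
  refine Groth.Agent.Lib.Helper23.Support.subsingleton_stalk_of_forall_res_eq_zero M _ fun W' hW' s => ?_
  exact ⟨W' ⊓ W, inf_le_left, ⟨hW', hx⟩, h _ inf_le_right _⟩

open CategoryTheory CategoryTheory.Limits AlgebraicGeometry TopologicalSpace in
/-- in a short exact sequence, if the outer terms vanish on `W` so does the middle term -/
theorem vanOn_X₂ {X : Scheme.{u}} (S : ShortComplex X.Modules) (hS : S.ShortExact) (W : X.Opens)
    (h1 : Groth.Agent.R2.H12.Dev.VanOn S.X₁ W) (h3 : Groth.Agent.R2.H12.Dev.VanOn S.X₃ W) :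
    Groth.Agent.R2.H12.Dev.VanOn S.X₂ W := by
  have hr : (Scheme.Modules.restrictFunctor W.ι).IsRightAdjoint :=
    Groth.Agent.Lib.Helper23.QCohLocal.restrictFunctor_isRightAdjoint W.ι
  have hl : (Scheme.Modules.restrictFunctor W.ι).IsLeftAdjoint :=
    ⟨_, ⟨Scheme.Modules.restrictAdjunction W.ι⟩⟩
  have z1 : IsZero ((Scheme.Modules.restrictFunctor W.ι).obj S.X₁) :=
    Groth.Agent.R2.H12.Dev.isZero_restrict_of_vanOn W.ι _ (by rwa [Scheme.Opens.opensRange_ι])
  have z3 : IsZero ((Scheme.Modules.restrictFunctor W.ι).obj S.X₃) :=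
    Groth.Agent.R2.H12.Dev.isZero_restrict_of_vanOn W.ι _ (by rwa [Scheme.Opens.opensRange_ι])
  have hS' : (S.map (Scheme.Modules.restrictFunctor W.ι)).ShortExact :=
    hS.map_of_exact (Scheme.Modules.restrictFunctor W.ι)
  have hm : Mono (S.map (Scheme.Modules.restrictFunctor W.ι)).g :=
    hS'.exact.mono_g (z1.eq_of_src _ _)
  have z2 : IsZero ((Scheme.Modules.restrictFunctor W.ι).obj S.X₂) :=
    @IsZero.of_mono _ _ _ _ _ (S.map (Scheme.Modules.restrictFunctor W.ι)).g hm z3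
  have := Groth.Agent.R2.H12.Dev.vanOn_of_isZero_restrict W.ι _ z2
  rwa [Scheme.Opens.opensRange_ι] at this

open CategoryTheory CategoryTheory.Limits AlgebraicGeometry TopologicalSpace in
theorem aux (X : Scheme.{u}) [IsNoetherian X]
    (Z₀ : Set X) (hZ₀ : IsClosed Z₀) (_hirr : IsIrreducible Z₀) (ξ : X) (hξ : ξ ∈ Z₀ ∧ closure {ξ} = Z₀)
    (P : X.Modules → Prop) (hP : ∀ M N : X.Modules, Nonempty (M ≅ N) → P M → P N)
    (h₁ : ∀ S : ShortComplex X.Modules, S.ShortExact → Coh.IsCoh S.X₁ → Coh.IsCoh S.X₂ → Coh.IsCoh S.X₃ →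
      CohB1.support S.X₂ ⊆ Z₀ →
      (P S.X₁ → P S.X₂ → P S.X₃) ∧ (P S.X₁ → P S.X₃ → P S.X₂) ∧ (P S.X₂ → P S.X₃ → P S.X₁))
    (h₂ : ∀ (Z : Scheme.{u}) (i : Z ⟶ X), IsClosedImmersion i → IsIntegral Z →
      Set.range ⇑i ⊆ Z₀ → Set.range ⇑i ≠ Z₀ →
      ∀ (I : Z.Modules) (ι : I ⟶ Coh.structureModule Z), Mono ι → Coh.IsQCoh I →
        P ((Coh.push i).obj I))
    (h₃ : ∃ G : X.Modules, Coh.IsCoh G ∧ CohB1.support G = Z₀ ∧
      Nonempty (↑(G.presheaf.stalk ξ) ≃ₗ[X.presheaf.stalk ξ] IsLocalRing.ResidueField (X.presheaf.stalk ξ)) ∧ P G)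
    (M : X.Modules) (hM : Coh.IsCoh M) (hsupp : CohB1.support M ⊆ Z₀) : P M := by
  let W₀ : X.Opens := ⟨Z₀ᶜ, hZ₀.isOpen_compl⟩
  have hsub_of_van : ∀ N : X.Modules, Groth.Agent.R2.H12.Dev.VanOn N W₀ → CohB1.support N ⊆ Z₀ := by
    intro N hN x hx
    by_contra hxZ
    exact support_disjoint_of_vanOn N W₀ hN x hxZ hx
  have hvan_of_sub : ∀ N : X.Modules, CohB1.support N ⊆ Z₀ → Groth.Agent.R2.H12.Dev.VanOn N W₀ :=
    fun N hN => Groth.Agent.R2.H12.Dev.vanOn_of_support_disjoint N W₀ (fun x hx hxs => hx (hN hxs))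
  obtain ⟨G, hG, hGsupp, ⟨eG⟩, hPG⟩ := h₃
  have hGW₀ : Groth.Agent.R2.H12.Dev.VanOn G W₀ := hvan_of_sub G hGsupp.le
  let P' : X.Modules → Prop := fun N => Groth.Agent.R2.H12.Dev.VanOn N W₀ ∧ P N
  have hiso' : ∀ M N : X.Modules, Nonempty (M ≅ N) → P' M → P' N :=
    fun M N ⟨e⟩ h => ⟨h.1.of_iso e, hP M N ⟨e⟩ h.2⟩
  have hex' : ∀ S : ShortComplex X.Modules, S.ShortExact → Coh.IsCoh S.X₁ → Coh.IsCoh S.X₂ → Coh.IsCoh S.X₃ →
      (P' S.X₁ → P' S.X₃ → P' S.X₂) ∧ (P' S.X₁ → P' S.X₂ → P' S.X₃) ∧ (P' S.X₂ → P' S.X₃ → P' S.X₁) := by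
    intro S hS a b c
    have hm : Mono S.f := hS.mono_f
    have he : Epi S.g := hS.epi_g
    refine ⟨fun h1 h3 => ?_, fun h1 h2 => ?_, fun h2 h3 => ?_⟩
    · have hv := vanOn_X₂ S hS W₀ h1.1 h3.1
      exact ⟨hv, (h₁ S hS a b c (hsub_of_van _ hv)).2.1 h1.2 h3.2⟩
    · exact ⟨h2.1.of_epi S.g, (h₁ S hS a b c (hsub_of_van _ h2.1)).1 h1.2 h2.2⟩
    · exact ⟨h2.1.of_mono S.f, (h₁ S hS a b c (hsub_of_van _ h2.1)).2.2 h2.2 h3.2⟩
  have h0' : ∀ M : X.Modules, IsZero M → P' M := by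
    intro M hM0
    refine ⟨Groth.Agent.R2.H12.Dev.vanOn_of_isZero hM0 _, ?_⟩
    have hS : (ShortComplex.mk (𝟙 G) (cokernel.π (𝟙 G)) (cokernel.condition _)).ShortExact :=
      ShortComplex.ShortExact.mk' (ShortComplex.exact_cokernel _) inferInstance inferInstance
    have hc : Coh.IsCoh (cokernel (𝟙 G)) := Groth.Agent.R2.H12.Dev.isCoh_cokernel hG hG _
    have hP0 : P (cokernel (𝟙 G)) := (h₁ _ hS hG hG hc hGsupp.le).1 hPG hPG
    exact hP _ _ ⟨(isZero_cokernel_of_epi (𝟙 G)).iso hM0⟩ hP0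
  have hres : P' M := by
    refine Groth.Agent.R2.H12.Dev.devissage_core_gen P' hiso' hex' h0' W₀ ?_ M hM (hvan_of_sub M hsupp)
    intro W hW₀ IH Z i hi hZ hiW I ι hι hIq hI0
    have hiW₀ : i ⁻¹ᵁ W₀ = ⊥ := le_bot_iff.1 (hiW ▸ Scheme.Hom.preimage_mono i hW₀)
    have hsub : Set.range i ⊆ Z₀ := by
      rintro _ ⟨z, rfl⟩
      by_contra h
      have hz : z ∈ i ⁻¹ᵁ W₀ := h
      rw [hiW₀] at hz
      exact absurd hz (by simp)
    by_cases hne : Set.range i = Z₀
    · have hy : closure {i (genericPoint Z)} = Set.range i := by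
        have h1 : closure ({genericPoint Z} : Set Z) = Set.univ := (genericPoint_spec Z).def
        rw [← Set.image_singleton, i.isClosedEmbedding.closure_image_eq, h1, Set.image_univ]
      have hξeq : i (genericPoint Z) = ξ :=
        (inseparable_iff_closure_eq.2 (hy.trans (hne.trans hξ.2.symm))).eq
      subst hξeq
      have hs : IsSimpleModule (X.presheaf.stalk (i (genericPoint Z)))
          (G.presheaf.stalk (i (genericPoint Z))) :=
        have := Groth.Agent.S0818.isSimpleModule_residueField (X.presheaf.stalk (i (genericPoint Z)))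
        IsSimpleModule.congr eG
      have hGW : Groth.Agent.R2.H12.Dev.VanOn G W := by
        refine Groth.Agent.R2.H12.Dev.vanOn_of_support_disjoint G W fun x hx hxs => ?_
        have hx' : x ∈ Set.range i := hne ▸ (hGsupp.le hxs)
        obtain ⟨z, rfl⟩ := hx'
        have hz : z ∈ i ⁻¹ᵁ W := hx
        rw [hiW] at hz
        exact absurd hz (by simp)
      exact Groth.Agent.R2.H12.Dev.push_ideal_of_simple P' hiso' hex' i W hiW IH G hG hGW hs ⟨hGW₀, hPG⟩
        I ι hIq hI0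
    · exact ⟨Groth.Agent.R2.H12.Dev.vanOn_push_of_preimage_eq_bot i I W₀ hiW₀,
        h₂ Z i hi hZ hsub hne I ι hι hIq⟩
  exact hres.2

open CategoryTheory AlgebraicGeometry in
/-- Let X be a Noetherian scheme, Z₀ ⊆ X an irreducible closed subset with generic point ξ, and P an
isomorphism-invariant property of O_X-modules such that: (1) in every short exact sequence of
coherent modules supported in Z₀, P for two of the terms implies P for the third; (2) P holds for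
i_* I whenever i : Z → X is an integral closed subscheme with i(Z) a proper subset of Z₀ and I ⊆ O_Z
is a quasi-coherent ideal sheaf; (3) there is a coherent G with support exactly Z₀, stalk at ξ
isomorphic to the residue field over the local ring, and P(G). Then P holds for every coherent
module whose support is contained in Z₀. -/
theorem result (X : Scheme.{u}) [IsNoetherian X]
    (Z₀ : Set X) (hZ₀ : IsClosed Z₀) (hirr : IsIrreducible Z₀) (ξ : X) (hξ : ξ ∈ Z₀ ∧ closure {ξ} = Z₀)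
    (P : X.Modules → Prop) (hP : ∀ M N : X.Modules, Nonempty (M ≅ N) → P M → P N)
    (h₁ : ∀ S : ShortComplex X.Modules, S.ShortExact → Coh.IsCoh S.X₁ → Coh.IsCoh S.X₂ → Coh.IsCoh S.X₃ →
      CohB1.support S.X₂ ⊆ Z₀ →
      (P S.X₁ → P S.X₂ → P S.X₃) ∧ (P S.X₁ → P S.X₃ → P S.X₂) ∧ (P S.X₂ → P S.X₃ → P S.X₁))
    (h₂ : ∀ (Z : Scheme.{u}) (i : Z ⟶ X), IsClosedImmersion i → IsIntegral Z →
      Set.range ⇑i ⊆ Z₀ → Set.range ⇑i ≠ Z₀ →
      ∀ (I : Z.Modules) (ι : I ⟶ Coh.structureModule Z), Mono ι → Coh.IsQCoh I →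
        P ((Coh.push i).obj I))
    (h₃ : ∃ G : X.Modules, Coh.IsCoh G ∧ CohB1.support G = Z₀ ∧
      Nonempty (↑(G.presheaf.stalk ξ) ≃ₗ[X.presheaf.stalk ξ] IsLocalRing.ResidueField (X.presheaf.stalk ξ)) ∧ P G)
    (M : X.Modules) (hM : Coh.IsCoh M) (hsupp : CohB1.support M ⊆ Z₀) : P M := by
  exact aux X Z₀ hZ₀ hirr ξ hξ P hP h₁ h₂ h₃ M hM hsupp

end Groth.Agent.S0819
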