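import Groth.Statements.S1646
import Groth.Agent.Lib.Helper13QcqsBC
import Groth.Agent.Lib.Helper23CounitEpi
import Groth.Agent.Lib.Helper26FpqcMod
import Groth.Agent.Lib.Helper23PB

set_option autoImplicit false
set_option linter.style.haveILetI false
universe u
open CategoryTheory CategoryTheory.Limits AlgebraicGeometry
open Variety

namespace Groth.Agent.S1646

open Groth.Agent.Lib.Helper23.SecTw Groth.Agent.Lib.Helper23.GenLocus Groth.Agent.Lib.Helper23.PB
  Groth.Agent.Lib.Helper6 Groth.Agent.Lib.Helper23.Extend Groth.Agent.Helper13QcqsBC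
  Groth.Agent.Helper13PullbackUnit Groth.Agent.Helper13FlatMV

section forward
variable {X' X : Scheme.{u}} (g' : X' ⟶ X)

set_option backward.isDefEq.respectTransparency.types false in
/-- pullbacks of globally generated modules are globally generated -/
theorem isGloballyGenerated_pullback (F : X.Modules) (h : Curv2.IsGloballyGenerated F) :
    Curv2.IsGloballyGenerated ((Scheme.Modules.pullback g').obj F) := by
  obtain ⟨ι, p, hp⟩ := h
  have hp' : @Epi X.Modules _ _ _ p := hp
  let e : (Scheme.Modules.pullback g').obj (SheafOfModules.free ι : X.Modules) ≅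
      (SheafOfModules.free ι : X'.Modules) :=
    SheafOfModules.pullbackObjFreeIso.{u} g'.toRingCatSheafHom ι
  haveI : (Scheme.Modules.pullback g').PreservesEpimorphisms :=
    Functor.preservesEpimorphisms_of_adjunction (Scheme.Modules.pullbackPushforwardAdjunction g')
  have h1 : @Epi X'.Modules _ _ _ ((Scheme.Modules.pullback g').map p) :=
    @Functor.map_epi X.Modules _ X'.Modules _ (Scheme.Modules.pullback g') _ _ _ p hp'
  have h2 : @Epi X'.Modules _ _ _ e.inv := inferInstance
  exact ⟨ι, e.inv ≫ (Scheme.Modules.pullback g').map p,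
    @epi_comp X'.Modules _ _ _ _ e.inv h2 _ h1⟩

end forward

section canP
variable {X : Scheme.{u}}

/-- the canonical map from the free module on the global sections -/
noncomputable def canP (F : X.Modules) :
    (SheafOfModules.free (Coh.structureModule X ⟶ F) : X.Modules) ⟶ F :=
  Sigma.desc (C := SheafOfModules X.ringCatSheaf) (fun s : (Coh.structureModule X ⟶ F) => s)

theorem ιFree_canP (F : X.Modules) (s : Coh.structureModule X ⟶ F) :
    (show Coh.structureModule X ⟶ (SheafOfModules.free (Coh.structureModule X ⟶ F) : X.Modules) from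
        SheafOfModules.ιFree (R := X.ringCatSheaf) s) ≫ canP F = s :=
  Sigma.ι_desc (C := SheafOfModules X.ringCatSheaf) (fun s : (Coh.structureModule X ⟶ F) => s) s

/-- every global section is in the image of `canP` on global sections -/
theorem exists_canP_app (F : X.Modules) (σ : Γ(F, ⊤)) :
    ∃ a, Scheme.Modules.Hom.app (canP F) ⊤ a = σ := by
  refine ⟨(show Coh.structureModule X ⟶ (SheafOfModules.free (Coh.structureModule X ⟶ F) : X.Modules) from
        SheafOfModules.ιFree (R := X.ringCatSheaf) (secHom F σ)).app ⊤ (toS ⊤ 1), ?_⟩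
  have h1 := congrArg (fun φ : Coh.structureModule X ⟶ F => φ.app ⊤ (toS ⊤ 1)) (ιFree_canP F (secHom F σ))
  refine h1.trans ?_
  change sv (secHom F σ) ⊤ = σ
  rw [sv_secHom]
  exact Groth.Agent.Lib.Helper23.SecTw.res_self F σ

theorem eq_of_res_eq_of_eq_top (M : X.Modules) (W : X.Opens) (hW : W = ⊤) (a b : Γ(M, ⊤))
    (h : res M (le_top : W ≤ ⊤) a = res M (le_top : W ≤ ⊤) b) : a = b := by
  subst hW
  have h1 := Groth.Agent.Lib.Helper23.SecTw.res_self M a
  have h2 := Groth.Agent.Lib.Helper23.SecTw.res_self M b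
  exact h1.symm.trans (h.trans h2)

end canP

section backward
variable {X S X' S' : Scheme.{u}} (f : X ⟶ S) (g : S' ⟶ S) (g' : X' ⟶ X) (f' : X' ⟶ S')
  (h : IsPullback g' f' f g) (F : X.Modules) [F.IsQuasicoherent]

include h in
theorem epi_pullback_canP [QuasiCompact f] [QuasiSeparated f] [IsAffine S] [IsAffine S'] [Flat g]
    (hG : Curv2.IsGloballyGenerated ((Scheme.Modules.pullback g').obj F)) :
    Epi ((Scheme.Modules.pullback g').map (canP F)) := by
  constructor
  intro Q φ ψ hφψ
  apply Groth.Agent.Lib.Helper23.CounitEpi.eq_of_isGloballyGenerated hG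
  have hle : (⊤ : S'.Opens) ≤ g ⁻¹ᵁ (⊤ : S.Opens) := fun _ _ => trivial
  have hW : (⊤ : X.Opens) ≤ f ⁻¹ᵁ (⊤ : S.Opens) := fun _ _ => trivial
  have hU : IsAffineOpen (⊤ : S.Opens) := isAffineOpen_top S
  have hU' : IsAffineOpen (⊤ : S'.Opens) := isAffineOpen_top S'
  have hflat : (g.appLE ⊤ ⊤ hle).hom.Flat :=
    HasRingHomProperty.appLE (P := @Flat) g inferInstance ⟨⊤, hU⟩ ⟨⊤, hU'⟩ hle
  haveI : QuasiSeparatedSpace X := quasiSeparatedSpace_of_quasiSeparated f
  haveI : CompactSpace X := QuasiCompact.compactSpace_of_compactSpace f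
  have hqs : IsQuasiSeparated ((f ⁻¹ᵁ (⊤ : S.Opens) : X.Opens) : Set X) := by
    have : ((f ⁻¹ᵁ (⊤ : S.Opens) : X.Opens) : Set X) = Set.univ := rfl
    rw [this]
    exact isQuasiSeparated_univ
  have hK := KBij_of_qcqs f g g' f' h F hle hU hU' hflat hqs ⊤ isCompact_univ hW
  unfold KBij at hK
  have hV0 : Vp g' f' (⊤ : S'.Opens) (⊤ : X.Opens) = ⊤ := by
    ext x
    simp
  -- the two maps agree on the sections coming from `X`
  have hunit : ∀ a : Γ(F, ⊤),
      φ.app (Vp g' f' (⊤ : S'.Opens) (⊤ : X.Opens)) (unitSec g' F inf_le_left a) =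
      ψ.app (Vp g' f' (⊤ : S'.Opens) (⊤ : X.Opens)) (unitSec g' F inf_le_left a) := by
    intro a
    obtain ⟨b, rfl⟩ := exists_canP_app F a
    rw [← map_unitSec g' (canP F) inf_le_left b]
    exact congrArg (fun m => (Scheme.Modules.Hom.app m (Vp g' f' (⊤ : S'.Opens) (⊤ : X.Opens)))
      (unitSec g' _ inf_le_left b)) hφψ
  letI : Algebra Γ(S, ⊤) Γ(S', ⊤) := (g.appLE ⊤ ⊤ hle).hom.toAlgebra
  have key : ∀ z : TensorProduct Γ(S, ⊤) Γ(S', ⊤) (SecR f F ⊤ ⊤ hW),
      φ.app (Vp g' f' (⊤ : S'.Opens) (⊤ : X.Opens))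
        (kap (R := Γ(S, ⊤)) (R' := Γ(S', ⊤))
          (uW f g' f' F hW (inf_le_left : Vp g' f' ⊤ ⊤ ≤ g' ⁻¹ᵁ ⊤) inf_le_right)
          (uW_smul f g g' f' h F hle hW inf_le_left inf_le_right) z) =
      ψ.app (Vp g' f' (⊤ : S'.Opens) (⊤ : X.Opens))
        (kap (R := Γ(S, ⊤)) (R' := Γ(S', ⊤))
          (uW f g' f' F hW (inf_le_left : Vp g' f' ⊤ ⊤ ≤ g' ⁻¹ᵁ ⊤) inf_le_right)
          (uW_smul f g g' f' h F hle hW inf_le_left inf_le_right) z) := by
    intro z
    induction z using TensorProduct.induction_on with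
    | zero => rw [map_zero]; exact (map_zero _).trans (map_zero _).symm
    | tmul r' a =>
      rw [kap_tmul]
      change φ.app (Vp g' f' ⊤ ⊤) ((f'.appLE ⊤ (Vp g' f' ⊤ ⊤) inf_le_right r' : Γ(X', Vp g' f' ⊤ ⊤)) •
        unitSec g' F (inf_le_left : Vp g' f' ⊤ ⊤ ≤ g' ⁻¹ᵁ ⊤) a) =
        ψ.app (Vp g' f' ⊤ ⊤) ((f'.appLE ⊤ (Vp g' f' ⊤ ⊤) inf_le_right r' :
          Γ(X', Vp g' f' ⊤ ⊤)) • unitSec g' F (inf_le_left : Vp g' f' ⊤ ⊤ ≤ g' ⁻¹ᵁ ⊤) a)
      rw [Scheme.Modules.Hom.app_smul, Scheme.Modules.Hom.app_smul, hunit a]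
    | add x y hx hy =>
      rw [map_add]
      exact (map_add _ _ _).trans ((congrArg₂ (· + ·) hx hy).trans (map_add _ _ _).symm)
  ext τ
  apply eq_of_res_eq_of_eq_top Q _ hV0
  have e1 := app_map φ (homOfLE (le_top : Vp g' f' (⊤ : S'.Opens) (⊤ : X.Opens) ≤ ⊤)) τ
  have e2 := app_map ψ (homOfLE (le_top : Vp g' f' (⊤ : S'.Opens) (⊤ : X.Opens) ≤ ⊤)) τ
  obtain ⟨z, hz⟩ := hK.2 (res ((Scheme.Modules.pullback g').obj F)
    (le_top : Vp g' f' (⊤ : S'.Opens) (⊤ : X.Opens) ≤ ⊤) τ)
  have e3 := key z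
  rw [hz] at e3
  exact e1.symm.trans (e3.trans e2)

end backward

/-- Let A → A' be a faithfully flat ring map, f : X → Spec A a quasi-compact and quasi-separated
morphism, and F a quasi-coherent O_X-module. F is generated by its global sections exactly when its
pullback to X ×_{Spec A} Spec A' is generated by its global sections. (Quasi-compactness and
quasi-separatedness of f are assumed here on top of the published hypotheses.) -/
theorem result (A A' : Type u) [CommRing A] [CommRing A'] [Algebra A A']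
    [Module.FaithfullyFlat A A'] (X : Scheme.{u}) (f : X ⟶ Spec (CommRingCat.of A)) [QuasiCompact f] [QuasiSeparated f]
    (F : X.Modules) (hF : Coh.IsQCoh F) :
    Curv2.IsGloballyGenerated F ↔ Curv2.IsGloballyGenerated
      ((Scheme.Modules.pullback (pullback.fst f (Spec.map (CommRingCat.ofHom (algebraMap A A'))))).obj F) := by
  haveI : F.IsQuasicoherent := hF
  have hff : (CommRingCat.ofHom (algebraMap A A')).hom.FaithfullyFlat :=
    RingHom.faithfullyFlat_algebraMap_iff.mpr inferInstance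
  obtain ⟨hflat, hsurj⟩ := (flat_and_surjective_SpecMap_iff _).mpr hff
  haveI := hflat
  haveI := hsurj
  constructor
  · exact isGloballyGenerated_pullback _ F
  · intro hG
    have hepi : Epi (canP F) := by
      refine Groth.Agent.Lib.Helper26.FpqcMod.epi_of_family
        (fun _ : Unit => pullback.fst f (Spec.map (CommRingCat.ofHom (algebraMap A A')))) ?_ (canP F) ?_
      · intro y
        obtain ⟨x, hx⟩ := (inferInstance : Surjective
          (pullback.fst f (Spec.map (CommRingCat.ofHom (algebraMap A A'))))).surj y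
        exact ⟨(), x, hx⟩
      · intro _
        exact epi_pullback_canP f _ _ _ (IsPullback.of_hasPullback f _) F hG
    exact ⟨_, canP F, hepi⟩

end Groth.Agent.S1646
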