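import Groth.Statements.S12726
import Mathlib.Algebra.Module.MinimalAxioms
import Mathlib.Algebra.Group.MinimalAxioms
-- import your own Groth.Agent.* helpers here

set_option autoImplicit false
universe u v
open CategoryTheory
open ArtFun

namespace Groth.Agent.S12726

namespace Aux

open ArtFun ArtFun.Art

section Objects

variable (Λ : Type u) (k : Type u) [CommRing Λ] [Field k] [Algebra Λ k]

/-- `k[ε₁, ε₂, ε₃]` with all products of the `εᵢ` zero. -/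
def dual3 : Art Λ k :=
  { carrier := TrivSqZeroExt k (k × k × k)
    isLocalRing := isLocalRing_tsze k (k × k × k)
    isArtinianRing := isArtinianRing_tsze k (k × k × k)
    res := TrivSqZeroExt.fstHom Λ k (k × k × k)
    res_surjective := fun a => ⟨TrivSqZeroExt.inl a, rfl⟩ }

variable {Λ k}

def m11 (f : k →ₗ[k] k) : dual Λ k ⟶ dual Λ k := ⟨tszeMap f, AlgHom.ext fun _ => rfl⟩
def m12 (f : k →ₗ[k] k × k) : dual Λ k ⟶ dual2 Λ k := ⟨tszeMap f, AlgHom.ext fun _ => rfl⟩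
def m21 (f : k × k →ₗ[k] k) : dual2 Λ k ⟶ dual Λ k := ⟨tszeMap f, AlgHom.ext fun _ => rfl⟩
def m22 (f : k × k →ₗ[k] k × k) : dual2 Λ k ⟶ dual2 Λ k := ⟨tszeMap f, AlgHom.ext fun _ => rfl⟩
def m31 (f : k × k × k →ₗ[k] k) : dual3 Λ k ⟶ dual Λ k := ⟨tszeMap f, AlgHom.ext fun _ => rfl⟩
def m32 (f : k × k × k →ₗ[k] k × k) : dual3 Λ k ⟶ dual2 Λ k :=
  ⟨tszeMap f, AlgHom.ext fun _ => rfl⟩

lemma m11_m11 (f g : k →ₗ[k] k) : (m11 f : dual Λ k ⟶ _) ≫ m11 g = m11 (g ∘ₗ f) :=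
  Art.hom_ext (AlgHom.ext fun _ => rfl)
lemma m12_m21 (f : k →ₗ[k] k × k) (g : k × k →ₗ[k] k) :
    (m12 f : dual Λ k ⟶ _) ≫ m21 g = m11 (g ∘ₗ f) :=
  Art.hom_ext (AlgHom.ext fun _ => rfl)
lemma m21_m11 (f : k × k →ₗ[k] k) (g : k →ₗ[k] k) :
    (m21 f : dual2 Λ k ⟶ _) ≫ m11 g = m21 (g ∘ₗ f) :=
  Art.hom_ext (AlgHom.ext fun _ => rfl)
lemma m22_m21 (f : k × k →ₗ[k] k × k) (g : k × k →ₗ[k] k) :
    (m22 f : dual2 Λ k ⟶ _) ≫ m21 g = m21 (g ∘ₗ f) :=
  Art.hom_ext (AlgHom.ext fun _ => rfl)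
lemma m32_m21 (f : k × k × k →ₗ[k] k × k) (g : k × k →ₗ[k] k) :
    (m32 f : dual3 Λ k ⟶ _) ≫ m21 g = m31 (g ∘ₗ f) :=
  Art.hom_ext (AlgHom.ext fun _ => rfl)

lemma scale_eq (c : k) : (scale c : dual Λ k ⟶ _) = m11 (c • LinearMap.id) := rfl
lemma pr₁_eq : (pr₁ : dual2 Λ k ⟶ _) = m21 (LinearMap.fst k k k) := rfl
lemma pr₂_eq : (pr₂ : dual2 Λ k ⟶ _) = m21 (LinearMap.snd k k k) := rfl
lemma plus_eq : (plus : dual2 Λ k ⟶ _) = m21 (LinearMap.fst k k k + LinearMap.snd k k k) := rfl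

lemma m11_id : (m11 (LinearMap.id) : dual Λ k ⟶ _) = 𝟙 _ :=
  Art.hom_ext (AlgHom.ext fun _ => rfl)

lemma m11_zero : (m11 (0 : k →ₗ[k] k) : dual Λ k ⟶ _) = toBase _ ≫ baseToDual :=
  Art.hom_ext (AlgHom.ext fun x => TrivSqZeroExt.ext rfl rfl)

lemma baseToDual_m11 (f : k →ₗ[k] k) : (baseToDual : base Λ k ⟶ _) ≫ m11 f = baseToDual :=
  Art.hom_ext (AlgHom.ext fun x => TrivSqZeroExt.ext rfl (by
    change f (0 : k) = 0
    exact map_zero f))

/-- `(b₁, b₂, b₃) ↦ (b₁, b₂)` -/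
def p12 : k × k × k →ₗ[k] k × k :=
  LinearMap.prod (LinearMap.fst k k (k × k)) (LinearMap.fst k k k ∘ₗ LinearMap.snd k k (k × k))
/-- `(b₁, b₂, b₃) ↦ b₃` -/
def p3 : k × k × k →ₗ[k] k := LinearMap.snd k k k ∘ₗ LinearMap.snd k k (k × k)
/-- `(b₁, b₂, b₃) ↦ (b₂, b₃)` -/
def p23 : k × k × k →ₗ[k] k × k := LinearMap.snd k k (k × k)
/-- `(b₁, b₂, b₃) ↦ (b₁ + b₂, b₃)` -/
def s12 : k × k × k →ₗ[k] k × k :=
  LinearMap.prod (LinearMap.fst k k (k × k) + LinearMap.fst k k k ∘ₗ LinearMap.snd k k (k × k))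
    (LinearMap.snd k k k ∘ₗ LinearMap.snd k k (k × k))
/-- `(b₁, b₂, b₃) ↦ (b₁, b₂ + b₃)` -/
def s23 : k × k × k →ₗ[k] k × k :=
  LinearMap.prod (LinearMap.fst k k (k × k))
    ((LinearMap.fst k k k + LinearMap.snd k k k) ∘ₗ LinearMap.snd k k (k × k))
/-- `(b₁, b₂, b₃) ↦ b₁ + b₂ + b₃` -/
def sum3 : k × k × k →ₗ[k] k :=
  LinearMap.fst k k (k × k) + (LinearMap.fst k k k + LinearMap.snd k k k) ∘ₗ LinearMap.snd k k (k × k)

theorem isFibreProd_dual3 :
    IsFibreProd (m32 p12 : dual3 Λ k ⟶ _) (m31 p3) (toBase (dual2 Λ k)) (toBase (dual Λ k)) where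
  w := by rw [eq_toBase (m32 p12 ≫ toBase _), eq_toBase (m31 p3 ≫ toBase _)]
  inj b₁ b₂ h₁ h₂ := by
    have e₁ : b₁.fst = b₂.fst := by have e := congrArg TrivSqZeroExt.fst h₁; exact e
    have e₂ : b₁.snd.1 = b₂.snd.1 := by
      have e := congrArg (fun t => (TrivSqZeroExt.snd t).1) h₁; exact e
    have e₃ : b₁.snd.2.1 = b₂.snd.2.1 := by
      have e := congrArg (fun t => (TrivSqZeroExt.snd t).2) h₁; exact e
    have e₄ : b₁.snd.2.2 = b₂.snd.2.2 := by have e := congrArg TrivSqZeroExt.snd h₂; exact e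
    exact TrivSqZeroExt.ext e₁ (Prod.ext e₂ (Prod.ext e₃ e₄))
  surj a' a'' h := by
    have h' : a'.fst = a''.fst := h
    exact ⟨(a'.fst, (a'.snd.1, (a'.snd.2, a''.snd))), TrivSqZeroExt.ext rfl rfl,
      TrivSqZeroExt.ext h' rfl⟩

end Objects

section Tangent

variable {Λ : Type u} {k : Type u} [CommRing Λ] [Field k] [Algebra Λ k]
  (F : Art Λ k ⥤ Type v) (h0 : H0 F) (h2 : Heps F)

include h0 in
lemma map_toBase_eq' {A A' : Art Λ k} (f : A ⟶ base Λ k) (f' : A' ⟶ base Λ k) (x : F.obj A)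
    (x' : F.obj A') : F.map f x = F.map f' x' :=
  @Subsingleton.elim _ h0.2 _ _

include h0 h2 in
lemma exists_pair (x y : F.obj (dual Λ k)) :
    ∃ z : F.obj (dual2 Λ k), F.map pr₁ z = x ∧ F.map pr₂ z = y := by
  obtain ⟨z, hz⟩ := (h2 pr₁ pr₂ isFibreProd_dual2).2
    ⟨(x, y), map_toBase_eq' F h0 _ _ x y⟩
  exact ⟨z, congrArg (fun t => t.1.1) hz, congrArg (fun t => t.1.2) hz⟩

include h2 in
lemma pair_unique (z z' : F.obj (dual2 Λ k)) (h₁ : F.map pr₁ z = F.map pr₁ z')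
    (h₂ : F.map pr₂ z = F.map pr₂ z') : z = z' :=
  (h2 pr₁ pr₂ isFibreProd_dual2).1 (FibProd.ext h₁ h₂)

include h0 h2 in
lemma exists_triple (z : F.obj (dual2 Λ k)) (w : F.obj (dual Λ k)) :
    ∃ t : F.obj (dual3 Λ k), F.map (m32 p12) t = z ∧ F.map (m31 p3) t = w := by
  obtain ⟨t, ht⟩ := (h2 (m32 p12) (m31 p3) isFibreProd_dual3).2
    ⟨(z, w), map_toBase_eq' F h0 _ _ z w⟩
  exact ⟨t, congrArg (fun t => t.1.1) ht, congrArg (fun t => t.1.2) ht⟩

/-- the pairing `F(k[ε]) × F(k[ε]) → F(k[ε₁, ε₂])` -/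
noncomputable def pair (x y : F.obj (dual Λ k)) : F.obj (dual2 Λ k) :=
  Classical.choose (exists_pair F h0 h2 x y)

lemma pair_fst (x y : F.obj (dual Λ k)) : F.map pr₁ (pair F h0 h2 x y) = x :=
  (Classical.choose_spec (exists_pair F h0 h2 x y)).1

lemma pair_snd (x y : F.obj (dual Λ k)) : F.map pr₂ (pair F h0 h2 x y) = y :=
  (Classical.choose_spec (exists_pair F h0 h2 x y)).2

/-- addition on the tangent space -/
noncomputable def tadd (x y : F.obj (dual Λ k)) : F.obj (dual Λ k) :=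
  F.map plus (pair F h0 h2 x y)

lemma map_comp_apply {A B C : Art Λ k} (f : A ⟶ B) (g : B ⟶ C) (t : F.obj A) :
    F.map (f ≫ g) t = F.map g (F.map f t) := by
  rw [F.map_comp]; rfl

/-- The basic computation rule for the addition. -/
lemma tadd_key {A : Art Λ k} (φ : A ⟶ dual2 Λ k) (t : F.obj A) :
    tadd F h0 h2 (F.map (φ ≫ pr₁) t) (F.map (φ ≫ pr₂) t) = F.map (φ ≫ plus) t := by
  have hz : pair F h0 h2 (F.map (φ ≫ pr₁) t) (F.map (φ ≫ pr₂) t) = F.map φ t := by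
    apply pair_unique F h2
    · rw [pair_fst, map_comp_apply]
    · rw [pair_snd, map_comp_apply]
  rw [tadd, hz, map_comp_apply]

lemma tadd_key' {A : Art Λ k} (φ : A ⟶ dual2 Λ k) (a b c : A ⟶ dual Λ k) (ha : φ ≫ pr₁ = a)
    (hb : φ ≫ pr₂ = b) (hc : φ ≫ plus = c) (t : F.obj A) :
    tadd F h0 h2 (F.map a t) (F.map b t) = F.map c t := by
  subst ha hb hc
  exact tadd_key F h0 h2 φ t

/-- the zero tangent vector -/
noncomputable def tzero : F.obj (dual Λ k) := F.map baseToDual (Classical.choice h0.1)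

include h0 in
lemma map_scale_zero (x : F.obj (dual Λ k)) : F.map (scale 0) x = tzero F h0 := by
  have h : (scale (0 : k) : dual Λ k ⟶ _) = toBase _ ≫ baseToDual := by
    rw [scale_eq, zero_smul, m11_zero]
  rw [h, map_comp_apply, tzero]
  congr 1
  exact @Subsingleton.elim _ h0.2 _ _

lemma map_scale_one (x : F.obj (dual Λ k)) : F.map (scale 1) x = x := by
  have h : (scale (1 : k) : dual Λ k ⟶ _) = 𝟙 _ := by
    rw [scale_eq, one_smul, m11_id]
  rw [h, F.map_id]; rfl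

lemma gamma_pr₁ (c d : k) : (m12 (LinearMap.prod (c • LinearMap.id) (d • LinearMap.id)) :
    dual Λ k ⟶ _) ≫ pr₁ = scale c := by
  rw [pr₁_eq, m12_m21, scale_eq]
  congr 1

lemma gamma_pr₂ (c d : k) : (m12 (LinearMap.prod (c • LinearMap.id) (d • LinearMap.id)) :
    dual Λ k ⟶ _) ≫ pr₂ = scale d := by
  rw [pr₂_eq, m12_m21, scale_eq]
  congr 1

lemma gamma_plus (c d : k) : (m12 (LinearMap.prod (c • LinearMap.id) (d • LinearMap.id)) :
    dual Λ k ⟶ _) ≫ plus = scale (c + d) := by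
  rw [plus_eq, m12_m21, scale_eq]
  congr 1
  ext
  simp

lemma tadd_scale (c d : k) (x : F.obj (dual Λ k)) :
    tadd F h0 h2 (F.map (scale c) x) (F.map (scale d) x) = F.map (scale (c + d)) x :=
  tadd_key' F h0 h2 _ _ _ _ (gamma_pr₁ c d) (gamma_pr₂ c d) (gamma_plus c d) x

lemma tadd_zero (x : F.obj (dual Λ k)) : tadd F h0 h2 x (tzero F h0) = x := by
  have := tadd_scale F h0 h2 1 0 x
  rwa [map_scale_one, map_scale_zero F h0, add_zero, map_scale_one] at this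

lemma tadd_neg (x : F.obj (dual Λ k)) : tadd F h0 h2 x (F.map (scale (-1)) x) = tzero F h0 := by
  have := tadd_scale F h0 h2 1 (-1) x
  rwa [map_scale_one, add_neg_cancel, map_scale_zero F h0] at this

lemma tadd_comm (x y : F.obj (dual Λ k)) : tadd F h0 h2 x y = tadd F h0 h2 y x := by
  have h1 : (m22 (LinearMap.prod (LinearMap.snd k k k) (LinearMap.fst k k k)) : dual2 Λ k ⟶ _) ≫ pr₁
      = pr₂ := by
    rw [pr₁_eq, m22_m21, pr₂_eq]; congr 1
  have h2' : (m22 (LinearMap.prod (LinearMap.snd k k k) (LinearMap.fst k k k)) : dual2 Λ k ⟶ _) ≫ pr₂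
      = pr₁ := by
    rw [pr₂_eq, m22_m21, pr₁_eq]; congr 1
  have h3 : (m22 (LinearMap.prod (LinearMap.snd k k k) (LinearMap.fst k k k)) : dual2 Λ k ⟶ _) ≫ plus
      = plus := by
    rw [plus_eq, m22_m21]; congr 1
    ext <;> simp
  have := tadd_key' F h0 h2 _ _ _ _ h1 h2' h3 (pair F h0 h2 x y)
  rw [pair_fst, pair_snd] at this
  rw [this]; rfl

lemma tadd_assoc (x y w : F.obj (dual Λ k)) :
    tadd F h0 h2 (tadd F h0 h2 x y) w = tadd F h0 h2 x (tadd F h0 h2 y w) := by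
  obtain ⟨t, ht₁, ht₂⟩ := exists_triple F h0 h2 (pair F h0 h2 x y) w
  have hx : F.map (m32 p12 ≫ pr₁) t = x := by rw [map_comp_apply, ht₁, pair_fst]
  have hy : F.map (m32 p12 ≫ pr₂) t = y := by rw [map_comp_apply, ht₁, pair_snd]
  have hxy : F.map (m32 p12 ≫ plus) t = tadd F h0 h2 x y := by rw [map_comp_apply, ht₁]; rfl
  -- (x + y) + w
  have a1 : (m32 s12 : dual3 Λ k ⟶ _) ≫ pr₁ = m32 p12 ≫ plus := by
    rw [pr₁_eq, plus_eq, m32_m21, m32_m21]; congr 1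
  have a2 : (m32 s12 : dual3 Λ k ⟶ _) ≫ pr₂ = m31 p3 := by
    rw [pr₂_eq, m32_m21]; congr 1
  have a3 : (m32 s12 : dual3 Λ k ⟶ _) ≫ plus = m31 sum3 := by
    rw [plus_eq, m32_m21]; congr 1
    ext <;> simp [s12, sum3]
  have e1 := tadd_key' F h0 h2 _ _ _ _ a1 a2 a3 t
  rw [hxy, ht₂] at e1
  -- y + w
  have b1 : (m32 p23 : dual3 Λ k ⟶ _) ≫ pr₁ = m32 p12 ≫ pr₂ := by
    rw [pr₁_eq, pr₂_eq, m32_m21, m32_m21]; congr 1
  have b2 : (m32 p23 : dual3 Λ k ⟶ _) ≫ pr₂ = m31 p3 := by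
    rw [pr₂_eq, m32_m21]; congr 1
  have e2 := tadd_key' F h0 h2 _ _ _ _ b1 b2 rfl t
  rw [hy, ht₂] at e2
  -- x + (y + w)
  have c1 : (m32 s23 : dual3 Λ k ⟶ _) ≫ pr₁ = m32 p12 ≫ pr₁ := by
    rw [pr₁_eq, m32_m21, m32_m21]; congr 1
  have c2 : (m32 s23 : dual3 Λ k ⟶ _) ≫ pr₂ = m32 p23 ≫ plus := by
    rw [pr₂_eq, plus_eq, m32_m21, m32_m21]; congr 1
  have c3 : (m32 s23 : dual3 Λ k ⟶ _) ≫ plus = m31 sum3 := by
    rw [plus_eq, m32_m21]; congr 1
  have e3 := tadd_key' F h0 h2 _ _ _ _ c1 c2 c3 t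
  rw [hx, ← e2] at e3
  rw [e1, e3]

lemma smul_tadd (c : k) (x y : F.obj (dual Λ k)) :
    F.map (scale c) (tadd F h0 h2 x y) =
      tadd F h0 h2 (F.map (scale c) x) (F.map (scale c) y) := by
  have h1 : (m22 (c • LinearMap.id) : dual2 Λ k ⟶ _) ≫ pr₁ = pr₁ ≫ scale c := by
    rw [pr₁_eq, scale_eq, m22_m21, m21_m11]; congr 1
  have h2' : (m22 (c • LinearMap.id) : dual2 Λ k ⟶ _) ≫ pr₂ = pr₂ ≫ scale c := by
    rw [pr₂_eq, scale_eq, m22_m21, m21_m11]; congr 1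
  have h3 : (m22 (c • LinearMap.id) : dual2 Λ k ⟶ _) ≫ plus = plus ≫ scale c := by
    rw [plus_eq, scale_eq, m22_m21, m21_m11]; congr 1
    ext <;> simp
  have := tadd_key' F h0 h2 _ _ _ _ h1 h2' h3 (pair F h0 h2 x y)
  rw [map_comp_apply, map_comp_apply, map_comp_apply, pair_fst, pair_snd] at this
  rw [this]; rfl

lemma mul_scale (c d : k) (x : F.obj (dual Λ k)) :
    F.map (scale (c * d)) x = F.map (scale c) (F.map (scale d) x) := by
  have h : (scale (c * d) : dual Λ k ⟶ _) = scale d ≫ scale c := by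
    rw [scale_eq, scale_eq, scale_eq, m11_m11]; congr 1
    ext
    simp
  rw [h, map_comp_apply]

set_option warn.classDefReducibility false in
/-- The tangent space structure. -/
noncomputable def tangentStr : TangentStr F := by
  letI iadd : Add (F.obj (dual Λ k)) := ⟨tadd F h0 h2⟩
  letI izero : Zero (F.obj (dual Λ k)) := ⟨tzero F h0⟩
  letI ineg : Neg (F.obj (dual Λ k)) := ⟨fun x => F.map (scale (-1)) x⟩
  letI ismul : SMul k (F.obj (dual Λ k)) := ⟨fun c x => F.map (scale c) x⟩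
  have hzero_add : ∀ x : F.obj (dual Λ k), 0 + x = x := fun x =>
    (tadd_comm F h0 h2 _ _).trans (tadd_zero F h0 h2 x)
  have hneg_add : ∀ x : F.obj (dual Λ k), -x + x = 0 := fun x =>
    (tadd_comm F h0 h2 _ _).trans (tadd_neg F h0 h2 x)
  letI G : AddGroup (F.obj (dual Λ k)) :=
    AddGroup.ofLeftAxioms (fun a b c => tadd_assoc F h0 h2 a b c) hzero_add hneg_add
  letI AG : AddCommGroup (F.obj (dual Λ k)) :=
    { G with add_comm := fun a b => tadd_comm F h0 h2 a b }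
  letI M : Module k (F.obj (dual Λ k)) :=
    Module.ofMinimalAxioms (fun c x y => smul_tadd F h0 h2 c x y)
      (fun c d x => (tadd_scale F h0 h2 c d x).symm)
      (fun c d x => mul_scale F c d x) (fun x => map_scale_one F x)
  exact
    { addCommGroup := AG
      module := M
      smul_eq := fun _ _ => rfl
      add_eq := fun z => by
        have := tadd_key F h0 h2 (𝟙 _) z
        rw [Category.id_comp, Category.id_comp, Category.id_comp] at this
        exact this }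

end Tangent

end Aux

/-- For functors, if F is a functor on Artinian local Λ-algebras with residue field k with F(k) a point
and satisfying (S2), then its tangent space F(k[ε]) admits the natural k-vector space structure:
scalar multiplication by c is F(ε ↦ cε) and the sum of the two projections of an element of F(k[ε₁,
ε₂]) is its image under εᵢ ↦ ε. -/
theorem result {Λ : Type u} {k : Type u} [CommRing Λ] [Field k] [Algebra Λ k]
    [IsNoetherianRing Λ] [Module.Finite Λ k]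
    (F : ArtFun.Art Λ k ⥤ Type v) (h0 : ArtFun.H0 F) (h2 : ArtFun.Heps F) :
    Nonempty (ArtFun.TangentStr F) := by
  exact ⟨Aux.tangentStr F h0 h2⟩

end Groth.Agent.S12726
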