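import Groth.Statements.S7381
import Mathlib
import Groth.Agent.S7380
import Groth.Agent.S2154

set_option autoImplicit false
universe u
open CategoryTheory AlgebraicGeometry
open Lim

namespace Groth.Agent.S7381

/-- Let `f : X → S` be finite with `S` quasi-compact and quasi-separated. Then, in the category of
schemes over `S`, `X` is the limit of a nonempty directed inverse system of schemes `X_i → S` that
are finite and locally of finite presentation, with closed immersions as transition morphisms. -/
theorem result {X S : Scheme.{u}} (f : X ⟶ S) [IsFinite f]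
    [CompactSpace S] [QuasiSeparatedSpace S] :
    ∃ (I : Type u) (_ : Preorder I) (_ : IsDirected I (fun a b => a ≤ b)) (_ : Nonempty I)
      (D : Iᵒᵖ ⥤ Over S) (c : Limits.Cone D) (_ : Limits.IsLimit c),
      (∀ i, IsFinite (D.obj i).hom ∧ LocallyOfFinitePresentation (D.obj i).hom) ∧
      (∀ (i j : Iᵒᵖ) (a : i ⟶ j), IsClosedImmersion (D.map a).left) ∧
      Nonempty (c.pt ≅ Over.mk f) := by
  have hXc : CompactSpace X := QuasiCompact.compactSpace_of_compactSpace f
  have hXqs : QuasiSeparatedSpace X := quasiSeparatedSpace_of_quasiSeparated f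
  obtain ⟨I, _, _, _, D, c, hc, hD, htrans, ⟨e⟩⟩ := Groth.Agent.S7380.result f
  -- instances on the stages
  have hcpt : ∀ i, CompactSpace (D.obj i).left := fun i => (hD i).2.2.2.1
  have hqs : ∀ i, QuasiSeparatedSpace (D.obj i).left := fun i => (hD i).2.2.2.2
  have hlftD : ∀ i, LocallyOfFiniteType (D.obj i).hom := fun i => by
    have := (hD i).1; infer_instance
  have hfin : ∀ (i j : Iᵒᵖ) (a : i ⟶ j), IsFinite (D.map a).left := fun i j a => by
    have := htrans i j a; infer_instance
  -- the structure map of the limit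
  have hiso : IsIso e.hom.left := (Over.forget S).map_isIso e.hom
  have hw' : c.pt.hom = (e.hom.left : c.pt.left ⟶ X) ≫ f := (Over.w e.hom).symm
  -- eventually finite
  have hint : IsIntegralHom c.pt.hom := by
    rw [hw']
    exact (@MorphismProperty.cancel_left_of_respectsIso _ _ @IsIntegralHom _ _ _ _ _ f hiso).mpr inferInstance
  obtain ⟨i₁, hi₁⟩ := Groth.Agent.S2154.result S D c hc
  -- the cofinal subsystem
  let I' : Type u := {i : I // i₁.unop ≤ i}
  have hdir : IsDirected I' (fun a b => a ≤ b) :=
    ⟨fun a b => by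
      obtain ⟨k, hk0, hk1⟩ := exists_ge_ge a.1 b.1
      exact ⟨⟨k, a.2.trans hk0⟩, hk0, hk1⟩⟩
  have hne : Nonempty I' := ⟨⟨i₁.unop, le_refl _⟩⟩
  have hmono : Monotone (Subtype.val : I' → I) := fun _ _ h => h
  have hfinal : hmono.functor.Final := by
    rw [Monotone.final_functor_iff]
    intro j
    obtain ⟨k, hk0, hk1⟩ := exists_ge_ge j i₁.unop
    exact ⟨⟨k, hk1⟩, hk0⟩
  refine ⟨I', inferInstance, hdir, hne, hmono.functor.op ⋙ D, c.whisker hmono.functor.op,
    (Functor.Initial.isLimitWhiskerEquiv hmono.functor.op c).symm hc, fun i => ⟨?_, (hD _).1⟩,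
    fun i j a => htrans _ _ _, ⟨e⟩⟩
  exact hi₁ _ (homOfLE i.unop.2).op

end Groth.Agent.S7381
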