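import Groth.Statements.S13487
import Groth.Agent.R2.H61DC6

set_option autoImplicit false
universe u
open CategoryTheory CategoryTheory.Limits Opposite
attribute [local instance] HasDerivedCategory.standard
open DerComp

namespace Groth.Agent.S13487

/-- On a ringed site (C, O), for K in D(O) the rule sending an object U to the set of sections f of O
over U with T(K|_U, f) = 0 is a sheaf of ideals of O. Here the vanishing of T(K|_U, f) is expressed
as the vanishing of all morphisms from the extension by zero of O_{V, f|_V} to K[n], for every arrow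
V -> U and every integer n. -/
theorem result {C : Type u} [SmallCategory C] {J : GrothendieckTopology C} (O : Sheaf J CommRingCat.{u}) (K : DerivedCategory (ModSite.Mod O)) : ∃ I : DerComp.IdealSh O, ∀ (U : C) (f : O.obj.obj (op U)), f ∈ I.ideal U ↔ ∀ (V : C) (g : V ⟶ U) (n : ℤ), Subsingleton (SiteCmp.inD O ((ModSite.extZero O V).obj (DerComp.awayOver O V ((O.obj.map g.op).hom f))) ⟶ K⟦n⟧) := by
  classical
  obtain ⟨I, φ, hI, hφ, -, hinj⟩ :=
    Groth.Agent.Lib.Helper17.KInj.exists_kInjective_resolution.{u} (ModSite.Mod O)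
      ((DerivedCategory.Q : _ ⥤ DerivedCategory (ModSite.Mod O)).objPreimage K)
  have e : K ≅ (DerivedCategory.Q : _ ⥤ DerivedCategory (ModSite.Mod O)).obj I :=
    (DerivedCategory.Q.objObjPreimageIso K).symm ≪≫ asIso (DerivedCategory.Q.map φ)
  have key : ∀ (W : C) (f' : O.obj.obj (op W)),
      (∀ n : ℤ, Subsingleton (SiteCmp.inD O ((ModSite.extZero O W).obj
        (DerComp.awayOver O W f')) ⟶ K⟦n⟧)) ↔ Groth.Agent.R2.H61.DC6.Pc O I W f' := fun W f' =>
    forall_congr' fun n =>
      Groth.Agent.R2.H61.DC1.subsingleton_single_hom_iff_acyc _ I K e n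
  choose Jw hJw using fun W => Groth.Agent.R2.H61.DC6.exists_ideal_pc O I hinj W
  have hcomp : ∀ {U V V' : C} (g : V ⟶ U) (g' : V' ⟶ V) (f : O.obj.obj (op U)),
      (O.obj.map g'.op).hom ((O.obj.map g.op).hom f) = (O.obj.map (g' ≫ g).op).hom f := by
    intro U V V' g g' f
    rw [op_comp, O.obj.map_comp]
    rfl
  have hid : ∀ {U : C} (f : O.obj.obj (op U)), (O.obj.map (𝟙 U).op).hom f = f := by
    intro U f
    rw [op_id, O.obj.map_id]
    rfl
  have hmem : ∀ (U : C) (f : O.obj.obj (op U)),
      f ∈ (⨅ (V : C) (g : V ⟶ U), (Jw V).comap (O.obj.map g.op).hom) ↔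
        ∀ (V : C) (g : V ⟶ U), (O.obj.map g.op).hom f ∈ Jw V := by
    intro U f
    simp only [Ideal.mem_iInf, Ideal.mem_comap]
  refine ⟨{ ideal := fun U => ⨅ (V : C) (g : V ⟶ U), (Jw V).comap (O.obj.map g.op).hom
            map_mem := ?_
            glue := ?_ }, ?_⟩
  · intro U V g f hf
    rw [hmem] at hf ⊢
    intro V' g'
    rw [hcomp]
    exact hf V' (g' ≫ g)
  · intro U f S hS h
    rw [hmem]
    intro W k
    rw [hJw]
    apply Groth.Agent.R2.H61.DC6.pc_glue O I W _ (S.pullback k) (J.pullback_stable k hS)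
    intro V g' hg'
    have h1 := (hmem V _).1 (h (g' ≫ k) hg') V (𝟙 V)
    rw [hid, ← hcomp, hJw] at h1
    exact h1
  · intro U f
    change f ∈ (⨅ (V : C) (g : V ⟶ U), (Jw V).comap (O.obj.map g.op).hom) ↔ _
    rw [hmem]
    refine forall_congr' fun V => forall_congr' fun g => ?_
    rw [hJw, ← key]

end Groth.Agent.S13487
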