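import Groth.Statements.S5137
-- import your own Groth.Agent.* helpers here
import Groth.Agent.R2.H66QuotLocal
import Groth.Agent.R2.H66QuotFlat

set_option autoImplicit false
open CategoryTheory CategoryTheory.Limits AlgebraicGeometry
universe u
open SGA1

namespace Groth.Agent.S5137


/-- Quotients by finite groups commute with flat base change. Let p : X ⟶ Y be a quotient of X by the
finite group G acting through ρ, let q : Y ⟶ Z and let b : Z' ⟶ Z be flat; let Y' be the fibre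
product of Y and Z' over Z and X' that of X and Y' over Y, and let G act on X' compatibly with the
projection to X and trivially over Y'. Then X' ⟶ Y' is a quotient of X' by G. -/
theorem result {X Y Z Z' X' Y' : Scheme.{u}} {G : Type u} [Group G] [Finite G]
    (ρ : G →* Aut X) (p : X ⟶ Y) (hp : SGA1.IsQuot ρ p) (q : Y ⟶ Z) (b : Z' ⟶ Z) [Flat b]
    (qY : Y' ⟶ Y) (bY : Y' ⟶ Z') (hY : IsPullback qY bY q b)
    (pX : X' ⟶ X) (p' : X' ⟶ Y') (hX : IsPullback pX p' p qY)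
    (ρ' : G →* Aut X') (hρ₁ : ∀ g : G, (ρ' g).hom ≫ pX = pX ≫ (ρ g).hom) (hρ₂ : ∀ g : G, (ρ' g).hom ≫ p' = p') :
    SGA1.IsQuot ρ' p' := by
  have hqY : Flat qY := MorphismProperty.of_isPullback hY.flip ‹Flat b›
  have haff : IsAffineHom p := hp.affine
  have haff' : IsAffineHom p' := MorphismProperty.of_isPullback hX hp.affine
  let 𝓑 : Set Y'.Opens := {V' | IsAffineOpen V' ∧ ∃ V : Y.Opens, IsAffineOpen V ∧ V' ≤ qY ⁻¹ᵁ V}
  refine Groth.Agent.R2.H66.QuotLocal.isQuot_of_basis ρ' haff' hρ₂ 𝓑 ?_ ?_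
  · intro U y hy
    obtain ⟨V, hV, hyV⟩ := Groth.Agent.Lib.Helper20.exists_affine_nhd Y (qY.base y)
    obtain ⟨_, ⟨V', hV', rfl⟩, hyV', hle⟩ := Y'.isBasis_affineOpens.exists_subset_of_mem_open
      (show y ∈ ((U ⊓ qY ⁻¹ᵁ V : Y'.Opens) : Set Y') from ⟨hy, hyV⟩) (U ⊓ qY ⁻¹ᵁ V).2
    exact ⟨V', ⟨hV', V, hV, fun z hz => (hle hz).2⟩, hyV', fun z hz => (hle hz).1⟩
  · rintro V' ⟨hV', V, hV, hle⟩
    have hUX : IsAffineOpen (p ⁻¹ᵁ V) := hV.preimage p
    have hle' : p' ⁻¹ᵁ V' ≤ pX ⁻¹ᵁ (p ⁻¹ᵁ V) := by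
      rw [← Scheme.Hom.comp_preimage, hX.w, Scheme.Hom.comp_preimage]
      exact p'.preimage_mono hle
    have hUY : p' ⁻¹ᵁ V' = pX ⁻¹ᵁ (p ⁻¹ᵁ V) ⊓ p' ⁻¹ᵁ V' := (inf_eq_right.mpr hle').symm
    have hiso := isIso_pushoutSection_of_isAffineOpen hX hle le_rfl hUY hV hV' hUX
    have hpo := (isIso_pushoutSection_iff hX hle le_rfl hUY).mp hiso
    have eσ : ∀ g : G, p ⁻¹ᵁ V ≤ (ρ g).hom ⁻¹ᵁ (p ⁻¹ᵁ V) := fun g =>
      SGA1.preimage_le_of_inv ρ p hp.inv g V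
    have eσ' : ∀ g : G, p' ⁻¹ᵁ V' ≤ (ρ' g).hom ⁻¹ᵁ (p' ⁻¹ᵁ V') := fun g =>
      SGA1.preimage_le_of_inv ρ' p' hρ₂ g V'
    have key := Groth.Agent.R2.H66.QuotFlat.quot_pushout hpo (hqY.flat_appLE hV hV' hle)
      (fun g : G => (ρ g).hom.appLE _ _ (eσ g)) (fun g : G => (ρ' g).hom.appLE _ _ (eσ' g))
      (fun g => by
        rw [Scheme.Hom.appLE_comp_appLE]
        exact Groth.Agent.Lib.Helper20.appLE_congr_hom (hp.inv g) _ _ _)
      (fun g => by
        rw [Scheme.Hom.appLE_comp_appLE]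
        exact Groth.Agent.Lib.Helper20.appLE_congr_hom (hρ₂ g) _ _ _)
      (fun g => by
        rw [Scheme.Hom.appLE_comp_appLE, Scheme.Hom.appLE_comp_appLE]
        exact Groth.Agent.Lib.Helper20.appLE_congr_hom (hρ₁ g) _ _ _)
      (by
        rw [Scheme.Hom.appLE_eq_app]
        exact hp.injective V)
      (by
        intro s hs
        rw [Scheme.Hom.appLE_eq_app]
        exact (hp.range_iff V s).mpr hs)
    exact ⟨le_rfl, eσ', key.1, key.2⟩

end Groth.Agent.S5137
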