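import Groth.Statements.S14795
import Groth.Agent.R2.H68WSC

set_option autoImplicit false
universe u
open CategoryTheory CategoryTheory.Limits AlgebraicGeometry
open Subtr

namespace Groth.Agent.S14795

open TensorProduct Groth.Agent.R2.H68.WSC

theorem aux_forward {A B : Type u} [CommRing A] [CommRing B] [Algebra A B]
    (C : Subalgebra A B) (hC : FlatMor.IsUnivHomeo (Spec.map (CommRingCat.ofHom (algebraMap A C))))
    (b : B) (hb : b ∈ C) : IsNilpotent (b ⊗ₜ[A] (1 : B) - (1 : B) ⊗ₜ[A] b) := by
  have hUI := universallyInjective_of_isUnivHomeo _ hC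
  let c : C := ⟨b, hb⟩
  have hnil : IsNilpotent (c ⊗ₜ[A] (1 : C) - (1 : C) ⊗ₜ[A] c) := by
    apply isNilpotent_of_mem_ker_lmul' A C hUI
    simp
  have := hnil.map (Algebra.TensorProduct.map C.val C.val)
  simpa [c] using this

theorem aux_backward {A B : Type u} [CommRing A] [CommRing B] [Algebra A B]
    (hinj : Function.Injective (algebraMap A B)) [Algebra.IsIntegral A B] (b : B)
    (hb : IsNilpotent (b ⊗ₜ[A] (1 : B) - (1 : B) ⊗ₜ[A] b)) :
    FlatMor.IsUnivHomeo (Spec.map (CommRingCat.ofHom (algebraMap A (Algebra.adjoin A {b})))) := by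
  set D : Subalgebra A B := Algebra.adjoin A {b} with hD
  have hintD : Algebra.IsIntegral A D := by
    constructor
    intro d
    have : IsIntegral A (D.val d) := Algebra.IsIntegral.isIntegral _
    exact (isIntegral_algHom_iff D.val Subtype.val_injective).mp this
  have hinjD : Function.Injective (algebraMap A D) := by
    intro x y hxy
    apply hinj
    have := congrArg D.val hxy
    simpa using this
  have hintBD : Algebra.IsIntegral D B := by
    constructor
    intro x
    exact (Algebra.IsIntegral.isIntegral (R := A) x).tower_top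
  have hinjBD : Function.Injective (algebraMap D B) := Subtype.val_injective
  apply isUnivHomeo_SpecMap_of_isIntegral A D hinjD
  intro K _ φ ψ hφψ
  -- extend to `B → K̄`
  let L := AlgebraicClosure K
  obtain ⟨φ', hφ'⟩ := exists_ringHom_extension hinjBD L ((algebraMap K L).comp φ)
  obtain ⟨ψ', hψ'⟩ := exists_ringHom_extension hinjBD L ((algebraMap K L).comp ψ)
  let _ : Algebra A L := (φ'.comp (algebraMap A B)).toAlgebra
  have hagree : ∀ a : A, ψ' (algebraMap A B a) = φ' (algebraMap A B a) := by
    intro a
    have h1 : φ' (algebraMap A B a) = algebraMap K L (φ (algebraMap A D a)) := by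
      have := congrArg (fun g => g (algebraMap A D a)) hφ'
      simpa using this
    have h2 : ψ' (algebraMap A B a) = algebraMap K L (ψ (algebraMap A D a)) := by
      have := congrArg (fun g => g (algebraMap A D a)) hψ'
      simpa using this
    rw [h1, h2]
    have := congrArg (fun g => g a) hφψ
    simp only [RingHom.comp_apply] at this
    rw [this]
  let F : B →ₐ[A] L := { φ' with commutes' := fun a => rfl }
  let G : B →ₐ[A] L := { ψ' with commutes' := fun a => hagree a }
  have hmap := hb.map (Algebra.TensorProduct.productMap F G)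
  have hzero : F b - G b = 0 := by
    have : IsNilpotent (F b - G b) := by simpa using hmap
    exact this.eq_zero
  have hb' : φ ⟨b, Algebra.subset_adjoin rfl⟩ = ψ ⟨b, Algebra.subset_adjoin rfl⟩ := by
    apply (algebraMap K L).injective
    have h1 : φ' b = algebraMap K L (φ ⟨b, Algebra.subset_adjoin rfl⟩) := by
      have := congrArg (fun g => g ⟨b, Algebra.subset_adjoin rfl⟩) hφ'
      simpa using this
    have h2 : ψ' b = algebraMap K L (ψ ⟨b, Algebra.subset_adjoin rfl⟩) := by
      have := congrArg (fun g => g ⟨b, Algebra.subset_adjoin rfl⟩) hψ'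
      simpa using this
    rw [← h1, ← h2]
    exact sub_eq_zero.mp hzero
  -- now `φ = ψ` on `adjoin A {b}`
  let _ : Algebra A K := (φ.comp (algebraMap A D)).toAlgebra
  let Φ : D →ₐ[A] K := { φ with commutes' := fun a => rfl }
  have hcomm : ∀ a : A, ψ (algebraMap A D a) = φ (algebraMap A D a) := by
    intro a
    have := congrArg (fun g => g a) hφψ
    simpa using this.symm
  let Ψ : D →ₐ[A] K := { ψ with commutes' := fun a => hcomm a }
  have hΦΨ : Φ = Ψ := by
    apply AlgHom.adjoin_ext
    intro x hx
    rw [Set.mem_singleton_iff] at hx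
    subst hx
    exact hb'
  ext d
  exact congrArg (fun g => g d) hΦΨ

/-- Let A ⊆ B be an integral ring extension and C ⊆ B the weak subintegral closure of A in B, that is
the largest A-subalgebra C of B such that Spec C ⟶ Spec A is a universal homeomorphism (C is
characterised here by that maximality). Then b ∈ B lies in C if and only if b ⊗ 1 − 1 ⊗ b is
nilpotent in B ⊗_A B (b ⊗ 1 = 1 ⊗ b in the reduction of B ⊗_A B). -/
theorem result {A B : Type u} [CommRing A] [CommRing B]
    [Algebra A B] (hinj : Function.Injective (algebraMap A B)) [Algebra.IsIntegral A B]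
    (C : Subalgebra A B) (hC : FlatMor.IsUnivHomeo (Spec.map (CommRingCat.ofHom (algebraMap A C))))
    (hmax : ∀ D : Subalgebra A B, FlatMor.IsUnivHomeo (Spec.map (CommRingCat.ofHom (algebraMap A D))) → D ≤ C) (b : B) :
    b ∈ C ↔ IsNilpotent (b ⊗ₜ[A] (1 : B) - (1 : B) ⊗ₜ[A] b) := by
  constructor
  · intro hb
    exact aux_forward C hC b hb
  · intro hb
    exact hmax _ (aux_backward hinj b hb) (Algebra.subset_adjoin rfl)

end Groth.Agent.S14795
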