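import Groth.Statements.S1349
import Groth.Agent.R2.H6CMSliceA
import Groth.Agent.R2.H6CMSliceB
import Groth.Agent.Lib.Helper5CMAffSp
import Groth.Agent.Lib.Helper10FibClosed
import Groth.Agent.Lib.Helper3GrpFibDim

set_option autoImplicit false
universe u
open FlatMor

namespace Groth.Agent.S1349

open AlgebraicGeometry CategoryTheory Limits in
/-- Let f be locally of finite presentation and Cohen–Macaulay at a point x which is closed in its
fibre. Then there are an open neighbourhood V of x and a regular closed immersion i into V whose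
image contains x, such that the composite Z ⟶ V ⟶ X ⟶ S is flat, locally of finite presentation and
locally quasi-finite, and x is the only point of (the image of) Z lying over the image of x. -/
theorem result {X S : Scheme.{u}} (f : X ⟶ S) [LocallyOfFinitePresentation f] (x : X)
    (hcm : MoreMor.IsCMAt f x) (hcl : IsClosed ({f.asFiber x} : Set ↑(f.fiber (f x)))) :
    ∃ (V : X.Opens) (Z : Scheme.{u}) (i : Z ⟶ (V : Scheme.{u})), Mor2.IsRegularClosedImmersion i ∧ x ∈ Set.range ⇑(i ≫ V.ι) ∧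
      Flat (i ≫ V.ι ≫ f) ∧ LocallyOfFinitePresentation (i ≫ V.ι ≫ f) ∧ LocallyQuasiFinite (i ≫ V.ι ≫ f) ∧
      ∀ z : Z, f (V.ι (i z)) = f x → V.ι (i z) = x := by
  -- a flat, locally quasi-finite map to affine space near `x`
  obtain ⟨d, hd⟩ := Groth.Agent.Lib.Helper3.GrpFibDim.exists_nat_fibreDimAt_eq f x
  obtain ⟨U, g, hxU, hover, hgfl, hgqf⟩ :=
    Groth.Agent.Lib.Helper5.CMAffSp.exists_flat_lqf_of_isCMAt f x d hcm hd
  -- affine charts
  obtain ⟨_, ⟨V₀ : S.Opens, hV₀, rfl⟩, hyV₀, -⟩ :=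
    S.isBasis_affineOpens.exists_subset_of_mem_open (Set.mem_univ (f x)) isOpen_univ
  replace hV₀ : IsAffineOpen V₀ := hV₀
  obtain ⟨_, ⟨W : X.Opens, hW, rfl⟩, hxW, hWsub⟩ :=
    X.isBasis_affineOpens.exists_subset_of_mem_open
      (show x ∈ ((U ⊓ f ⁻¹ᵁ V₀ : X.Opens) : Set X) from ⟨hxU, hyV₀⟩) (U ⊓ f ⁻¹ᵁ V₀).2
  replace hW : IsAffineOpen W := hW
  have hWU : W ≤ U := fun _ h => (hWsub h).1
  have e : W ≤ f ⁻¹ᵁ V₀ := fun _ h => (hWsub h).2
  obtain ⟨ψ, hψfl, hψqf, hψC⟩ :=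
    Groth.Agent.R2.H6.CMSliceB.exists_chart_ringHom f d g hover hV₀ hW hWU e
  -- the residue field extension is finite
  have hfin : (f.residueFieldMap x).hom.Finite :=
    (Groth.Agent.Lib.Helper10.FibClosed.isClosed_asFiber_iff_finite f x).mp hcl
  have hqprime : (hW.primeIdealOf ⟨x, hxW⟩).asIdeal.IsPrime := (hW.primeIdealOf ⟨x, hxW⟩).isPrime
  have hfp : (ψ.comp MvPolynomial.C).FinitePresentation := by
    rw [hψC]; exact f.finitePresentation_appLE hV₀ hW e
  have halg : ∀ c : Γ(X, W), ∃ P : Polynomial Γ(S, V₀),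
      P.leadingCoeff ∉ (hW.primeIdealOf ⟨x, hxW⟩).asIdeal.comap (ψ.comp MvPolynomial.C) ∧
      Polynomial.eval₂ (ψ.comp MvPolynomial.C) c P ∈ (hW.primeIdealOf ⟨x, hxW⟩).asIdeal := by
    rw [hψC]
    exact fun c => Groth.Agent.R2.H6.CMSliceB.exists_polynomial_of_finite f x hfin hV₀ hW hxW e c
  obtain ⟨h, hhq, H⟩ := Groth.Agent.R2.H6.CMSlice.exists_slice_ring' ψ hψfl hψqf hfp
    (hW.primeIdealOf ⟨x, hxW⟩).asIdeal halg
  -- the basic open `V = D(h)`
  have hV : IsAffineOpen (X.basicOpen h) := hW.basicOpen h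
  have hVW : X.basicOpen h ≤ W := X.basicOpen_le h
  have hxV : x ∈ X.basicOpen h :=
    (Groth.Agent.R2.H6.CMSliceB.mem_basicOpen_iff_notMem_primeIdealOf hW x hxW h).mpr hhq
  have e' : X.basicOpen h ≤ f ⁻¹ᵁ V₀ := hVW.trans e
  have hloc : IsLocalization.Away h Γ(X, X.basicOpen h) := hW.isLocalization_basicOpen h
  obtain ⟨rs, hreg, hfl, hfp', hqf, hle, huniq⟩ := H Γ(X, X.basicOpen h)
  have hres : algebraMap Γ(X, W) Γ(X, X.basicOpen h) =
      (X.presheaf.map (homOfLE hVW).op).hom := rfl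
  have hcompρ : (algebraMap Γ(X, W) Γ(X, X.basicOpen h)).comp (ψ.comp MvPolynomial.C) =
      (f.appLE V₀ (X.basicOpen h) e').hom := by
    rw [hψC, hres, ← CommRingCat.hom_comp, Scheme.Hom.appLE_map]
  rw [hcompρ] at hfl hfp' hqf huniq
  obtain ⟨Z, i, hi, hiFlat, hiFP, hiQF, hrange, hpts⟩ :=
    Groth.Agent.R2.H6.CMSliceB.exists_regular_slice f hV₀ hV e' rs hreg hfl hfp' hqf
  have hqV : (hV.primeIdealOf ⟨x, hxV⟩).asIdeal.comap (algebraMap Γ(X, W) Γ(X, X.basicOpen h)) =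
      (hW.primeIdealOf ⟨x, hxW⟩).asIdeal := by
    rw [hres]
    exact Groth.Agent.R2.H6.CMSliceB.comap_primeIdealOf_res hW hV hVW x hxV
  refine ⟨X.basicOpen h, Z, i, hi, ?_, hiFlat, hiFP, hiQF, ?_⟩
  · exact hrange x hxV (hle _ (hV.primeIdealOf ⟨x, hxV⟩).isPrime hqV)
  · intro z hz
    have hx' : (X.basicOpen h).ι (i z) ∈ X.basicOpen h := (i z).2
    have h1 : (hV.primeIdealOf ⟨(X.basicOpen h).ι (i z), hx'⟩).asIdeal.comap
        (f.appLE V₀ (X.basicOpen h) e').hom =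
        (hW.primeIdealOf ⟨x, hxW⟩).asIdeal.comap (ψ.comp MvPolynomial.C) := by
      have h2 := IsAffineOpen.comap_primeIdealOf_appLE (f := f) V₀ hV₀ (X.basicOpen h) hV e' hx'
      have h3 := IsAffineOpen.comap_primeIdealOf_appLE (f := f) V₀ hV₀ W hW e hxW
      have h4 : hV₀.primeIdealOf ⟨f ((X.basicOpen h).ι (i z)), e' hx'⟩ =
          hV₀.primeIdealOf ⟨f x, e hxW⟩ := by
        congr 1
        exact Subtype.ext hz
      rw [hψC]
      have h5 := congrArg PrimeSpectrum.asIdeal (h2.trans (h4.trans h3.symm))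
      exact h5
    have h6 := huniq _ (hV.primeIdealOf ⟨_, hx'⟩).isPrime (hpts z) h1
    have h7 : hV.primeIdealOf ⟨(X.basicOpen h).ι (i z), hx'⟩ = hV.primeIdealOf ⟨x, hxV⟩ := by
      apply PrimeSpectrum.localization_comap_injective Γ(X, X.basicOpen h) (Submonoid.powers h)
      apply PrimeSpectrum.ext
      exact h6.trans hqV.symm
    have h8 := congrArg hV.fromSpec h7
    rw [hV.fromSpec_primeIdealOf, hV.fromSpec_primeIdealOf] at h8
    exact h8

end Groth.Agent.S1349
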