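import Groth.Statements.S1375
import Groth.Agent.S1349
import Groth.Agent.S1341

set_option autoImplicit false
universe u
open FlatMor

namespace Groth.Agent.S1375


open AlgebraicGeometry CategoryTheory Limits in
/-- A closed point of the fibre gives the closedness hypothesis in the form used by S1349. -/
theorem isClosed_asFiber_of_isClosed {X S : Scheme.{u}} (g : X ⟶ S) (s : S) (pt : ↑(g.fiber s))
    (hpt : IsClosed ({pt} : Set ↑(g.fiber s))) (x : X) (hx : g.fiberι s pt = x) :
    IsClosed ({g.asFiber x} : Set ↑(g.fiber (g x))) := by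
  have hs : g x = s := by
    have : g.fiberι s pt ∈ Set.range (g.fiberι s) := ⟨pt, rfl⟩
    rw [g.range_fiberι s, hx] at this
    exact this
  subst hs
  have : pt = g.asFiber x :=
    (g.fiberι (g x)).isEmbedding.injective (hx.trans (g.fiberι_asFiber x).symm)
  rw [← this]
  exact hpt

open AlgebraicGeometry CategoryTheory Limits in
/-- Through every point of the image of an fppf morphism passes a flat, l.f.p., locally
quasi-finite slice. -/
theorem exists_slice_at {S' S : Scheme.{u}} (g : S' ⟶ S) [Flat g] [LocallyOfFinitePresentation g]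
    (s : S) (hs : s ∈ Set.range ⇑g) :
    ∃ (Z : Scheme.{u}) (j : Z ⟶ S'), Flat (j ≫ g) ∧ LocallyOfFinitePresentation (j ≫ g) ∧
      LocallyQuasiFinite (j ≫ g) ∧ s ∈ Set.range ⇑(j ≫ g) := by
  obtain ⟨hopen, hdense⟩ := Groth.Agent.S1341.result g
  -- the fibre is a non-empty Jacobson space
  have hlft : LocallyOfFiniteType (g.fiberToSpecResidueField s) := by
    dsimp only [Scheme.Hom.fiberToSpecResidueField]
    exact MorphismProperty.pullback_snd (P := @LocallyOfFiniteType) g _ inferInstance
  have hjac : JacobsonSpace ↑(g.fiber s) :=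
    LocallyOfFiniteType.jacobsonSpace (g.fiberToSpecResidueField s)
  obtain ⟨x₀, hx₀⟩ := hs
  have hx₀' : x₀ ∈ Set.range (g.fiberι s) := by rw [g.range_fiberι s]; exact hx₀
  obtain ⟨pt₀, -⟩ := hx₀'
  -- the CM locus of the fibre is open and dense, so it contains a closed point
  have hO : IsOpen ((g.fiberι s) ⁻¹' {x : ↑S' | MoreMor.IsCMAt g x}) :=
    hopen.preimage (g.fiberι s).continuous
  have hne : ((g.fiberι s) ⁻¹' {x : ↑S' | MoreMor.IsCMAt g x}).Nonempty :=
    (hdense s).nonempty_iff.mpr ⟨pt₀⟩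
  obtain ⟨pt, hptO, hptc⟩ := nonempty_inter_closedPoints hne hO.isLocallyClosed
  have hptc' : IsClosed ({pt} : Set ↑(g.fiber s)) := hptc
  obtain ⟨V, Z, i, -, hxr, hfl, hfp, hqf, -⟩ := Groth.Agent.S1349.result g (g.fiberι s pt) hptO
    (isClosed_asFiber_of_isClosed g s pt hptc' _ rfl)
  have hgx : g (g.fiberι s pt) = s := by
    have : g.fiberι s pt ∈ Set.range (g.fiberι s) := ⟨pt, rfl⟩
    rw [g.range_fiberι s] at this
    exact this
  refine ⟨Z, i ≫ V.ι, ?_, ?_, ?_, ?_⟩
  · rw [Category.assoc]; exact hfl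
  · rw [Category.assoc]; exact hfp
  · rw [Category.assoc]; exact hqf
  · obtain ⟨z, hz⟩ := hxr
    refine ⟨z, ?_⟩
    rw [Scheme.Hom.comp_apply, hz, hgx]

open AlgebraicGeometry CategoryTheory Limits in
/-- Let S' → S be flat, locally of finite presentation and surjective (an fppf cover by one morphism).
Then there is a flat, locally of finite presentation, locally quasi-finite and surjective T → S
which factors through S' locally on T. -/
theorem result {S' S : Scheme.{u}} (g : S' ⟶ S) [Flat g] [LocallyOfFinitePresentation g] [Surjective g] :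
    ∃ (T : Scheme.{u}) (h : T ⟶ S), Flat h ∧ LocallyOfFinitePresentation h ∧ LocallyQuasiFinite h ∧ Surjective h ∧
      ∀ t : ↑T, ∃ (V : T.Opens) (r : ↑V ⟶ S'), t ∈ V ∧ r ≫ g = V.ι ≫ h := by
  classical
  choose Z j hfl hfp hqf hs using fun s : S => exists_slice_at g s (g.surjective s)
  refine ⟨∐ Z, Sigma.desc (fun s => j s ≫ g), ?_, ?_, ?_, ?_, ?_⟩
  · exact IsZariskiLocalAtSource.sigmaDesc (P := @Flat) hfl
  · exact IsZariskiLocalAtSource.sigmaDesc (P := @LocallyOfFinitePresentation) hfp
  · exact IsZariskiLocalAtSource.sigmaDesc (P := @LocallyQuasiFinite) hqf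
  · refine Surjective.sigmaDesc_of_union_range_eq_univ ?_
    rw [Set.eq_univ_iff_forall]
    intro s
    exact Set.mem_iUnion.mpr ⟨s, hs s⟩
  · intro t
    obtain ⟨s, z, rfl⟩ := (sigmaOpenCover Z).exists_eq t
    refine ⟨(Sigma.ι Z s).opensRange, (Sigma.ι Z s).isoOpensRange.inv ≫ j s, ⟨z, rfl⟩, ?_⟩
    rw [Category.assoc, ← Sigma.ι_desc (fun s => j s ≫ g) s, ← Category.assoc,
      Scheme.Hom.isoOpensRange_inv_comp]

end Groth.Agent.S1375
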