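import Groth.Statements.S1233
import Groth.Agent.R2.H6WeakAss

set_option autoImplicit false
universe u
open FlatMor

namespace Groth.Agent.S1233

open TensorProduct in
/-- Let A → B be an étale ring map, M an A-module and u a prime of B lying over the prime p of A. Then u
is a weakly associated prime of the B-module B ⊗_A M if and only if p is a weakly associated prime
of M. -/
theorem result {A B : Type u} [CommRing A] [CommRing B] [Algebra A B] [Algebra.Etale A B]
    (M : Type u) [AddCommGroup M] [Module A M] (p : Ideal A) [p.IsPrime] (u : Ideal B) [u.IsPrime] [u.LiesOver p] :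
    u ∈ FlatCA.weakAss B (B ⊗[A] M) ↔ p ∈ FlatCA.weakAss A M := by
  have hup : u.comap (algebraMap A B) = p := (Ideal.LiesOver.over (p := p) (P := u)).symm
  constructor
  · intro h
    -- local structure: `B_f` is standard etale
    obtain ⟨f, hfu, hstd⟩ := Algebra.IsEtaleAt.exists_isStandardEtale (R := A) u
    let P : StandardEtalePresentation A (Localization.Away f) :=
      hstd.nonempty_standardEtalePresentation.some
    let C := AdjoinRoot P.f
    let D := Localization.Away (AdjoinRoot.mk P.f P.g)
    let e : Localization.Away f ≃ₐ[A] D := P.equivRing.trans P.P.equivAwayAdjoinRoot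
    let algBD : Algebra B D := (e.toRingEquiv.toRingHom.comp (algebraMap B (Localization.Away f))).toAlgebra
    have hBD : ∀ b : B, algebraMap B D b = e (algebraMap B (Localization.Away f) b) := fun _ => rfl
    have : IsScalarTower A B D := IsScalarTower.of_algebraMap_eq (fun a => by
      rw [hBD, ← IsScalarTower.algebraMap_apply A B (Localization.Away f), e.commutes])
    let e' : Localization.Away f ≃ₐ[B] D := { e.toRingEquiv with commutes' := fun _ => rfl }
    have : IsLocalization (Submonoid.powers f) D :=
      IsLocalization.isLocalization_of_algEquiv (Submonoid.powers f) e'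
    have : Module.Finite A C := P.monic_f.finite_adjoinRoot
    have : Module.Free A C := P.monic_f.free_adjoinRoot
    have hdisj : Disjoint (Submonoid.powers f : Set B) (u : Set B) :=
      (Ideal.disjoint_powers_iff_notMem_of_isPrime f).mpr hfu
    let u' : Ideal D := u.map (algebraMap B D)
    have : u'.IsPrime :=
      IsLocalization.isPrime_of_isPrime_disjoint (Submonoid.powers f) D u inferInstance hdisj
    have hu' : u'.comap (algebraMap B D) = u :=
      IsLocalization.under_map_of_isPrime_disjoint (Submonoid.powers f) D inferInstance hdisj
    have h1 : u'.comap (algebraMap B D) ∈ FlatCA.weakAss B (B ⊗[A] M) := by rw [hu']; exact h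
    have h2 := Groth.Agent.R2.H6.WeakAss.comap_mem_weakAss_of_common_localization (C := C)
      (Submonoid.powers f) (Submonoid.powers (AdjoinRoot.mk P.f P.g)) M u' h1
    have h3 : u'.comap (algebraMap A D) = p := by
      rw [IsScalarTower.algebraMap_eq A B D, ← Ideal.comap_comap, hu', hup]
    rwa [h3] at h2
  · intro h
    refine Groth.Agent.R2.H6.WeakAss.mem_weakAss_tensor_of_flat_of_minimal_over h u hup ?_
    intro t' ht' hle hcomap
    have := ht'
    exact Algebra.QuasiFinite.eq_of_le_of_under_eq (R := A) t' u hle (hcomap.trans hup.symm)

end Groth.Agent.S1233
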