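import Groth.Statements.S1989
-- import your own Groth.Agent.* helpers here
import Groth.Agent.R2.H10EtRamB

set_option autoImplicit false
universe u
open EtAlg

namespace Groth.Agent.S1989

open Groth.Agent.R2.H10 in
/-- Let K be the fraction field of a discrete valuation ring A, and K ⊂ L ⊂ M finite separable
extensions. If M is tamely ramified, respectively unramified, with respect to A, then so is L. -/
theorem result (A K : Type u) [CommRing A] [IsDomain A] [IsDiscreteValuationRing A] [Field K] [Algebra A K] [IsFractionRing A K] (L M : Type u) [Field L] [Field M]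
    [Algebra K L] [Algebra K M] [Algebra L M] [IsScalarTower K L M] [FiniteDimensional K M] [Algebra.IsSeparable K M] :
    (EtRam.IsTamelyRamified A ((algebraMap K M).comp (algebraMap A K)) →
      EtRam.IsTamelyRamified A ((algebraMap K L).comp (algebraMap A K))) ∧
    (EtRam.IsUnramifiedExt A ((algebraMap K M).comp (algebraMap A K)) →
      EtRam.IsUnramifiedExt A ((algebraMap K L).comp (algebraMap A K))) := by
  have hg : ∀ a : A, algebraMap L M (((algebraMap K L).comp (algebraMap A K)) a) =
      ((algebraMap K M).comp (algebraMap A K)) a := fun a =>
    (IsScalarTower.algebraMap_apply K L M _).symm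
  haveI : FiniteDimensional K L := FiniteDimensional.left K L M
  haveI : Algebra.IsSeparable K L := Algebra.isSeparable_tower_bot_of_isSeparable K L M
  constructor
  · intro hM V hV hloc
    obtain ⟨W, rfl⟩ := EtRamA.exists_valuationSubring_comap_eq (algebraMap L M) V
    have hW : EtRam.Dominates A ((algebraMap K M).comp (algebraMap A K)) W :=
      (EtRamB.dominates_comap_iff (algebraMap L M) W hg).mp hV
    have hVW := EtRamB.dominates_comap_self (algebraMap L M) W
    letI iAV : Algebra A (W.comap (algebraMap L M)) :=
      (RingHom.codRestrict ((algebraMap K L).comp (algebraMap A K)) (W.comap (algebraMap L M))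
        hV.1).toAlgebra
    letI iAW : Algebra A W :=
      (RingHom.codRestrict ((algebraMap K M).comp (algebraMap A K)) W hW.1).toAlgebra
    letI iVW : Algebra (W.comap (algebraMap L M)) W :=
      (RingHom.codRestrict ((algebraMap L M).comp (W.comap (algebraMap L M)).subtype) W
        hVW.1).toAlgebra
    haveI : IsScalarTower A (W.comap (algebraMap L M)) W :=
      IsScalarTower.of_algebraMap_eq (fun a => Subtype.ext (hg a).symm)
    haveI locAW : IsLocalHom (algebraMap A W) := EtRamA.isLocalHom_of_dominates hW
    haveI locVW : IsLocalHom (algebraMap (W.comap (algebraMap L M)) W) :=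
      EtRamA.isLocalHom_of_dominates hVW
    obtain ⟨hsep, hp⟩ := hM W hW
    haveI dV : IsDiscreteValuationRing (W.comap (algebraMap L M)) :=
      EtRamA.isDiscreteValuationRing_of_dominates A K L _ hV
    haveI dW : IsDiscreteValuationRing W :=
      EtRamA.isDiscreteValuationRing_of_dominates A K M W hW
    have injVW : Function.Injective (algebraMap (W.comap (algebraMap L M)) W) := fun a b h =>
      Subtype.ext ((algebraMap L M).injective (congrArg Subtype.val h))
    have injAW : Function.Injective (algebraMap A W) := fun a b h =>
      EtRamA.comp_injective A K M (congrArg Subtype.val h)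
    refine ⟨EtRamB.separable_down hsep, fun p hp1 hp2 hdvd => hp p hp1 hp2 ?_⟩
    rw [EtRamB.ramificationIdx_tower injVW injAW]
    exact Dvd.dvd.mul_right hdvd _
  · intro hM V hV hloc
    obtain ⟨W, rfl⟩ := EtRamA.exists_valuationSubring_comap_eq (algebraMap L M) V
    have hW : EtRam.Dominates A ((algebraMap K M).comp (algebraMap A K)) W :=
      (EtRamB.dominates_comap_iff (algebraMap L M) W hg).mp hV
    have hVW := EtRamB.dominates_comap_self (algebraMap L M) W
    letI iAV : Algebra A (W.comap (algebraMap L M)) :=
      (RingHom.codRestrict ((algebraMap K L).comp (algebraMap A K)) (W.comap (algebraMap L M))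
        hV.1).toAlgebra
    letI iAW : Algebra A W :=
      (RingHom.codRestrict ((algebraMap K M).comp (algebraMap A K)) W hW.1).toAlgebra
    letI iVW : Algebra (W.comap (algebraMap L M)) W :=
      (RingHom.codRestrict ((algebraMap L M).comp (W.comap (algebraMap L M)).subtype) W
        hVW.1).toAlgebra
    haveI : IsScalarTower A (W.comap (algebraMap L M)) W :=
      IsScalarTower.of_algebraMap_eq (fun a => Subtype.ext (hg a).symm)
    haveI locAW : IsLocalHom (algebraMap A W) := EtRamA.isLocalHom_of_dominates hW
    haveI locVW : IsLocalHom (algebraMap (W.comap (algebraMap L M)) W) :=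
      EtRamA.isLocalHom_of_dominates hVW
    obtain ⟨hun, hsep⟩ := hM W hW
    exact ⟨EtRamB.weaklyUnramified_down (algebraMap L M) W hg (EtRamA.comp_injective A K L) hV hW hun,
      EtRamB.separable_down hsep⟩

end Groth.Agent.S1989
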