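import Groth.Statements.S1990
-- import your own Groth.Agent.* helpers here
import Groth.Agent.R2.H10EtRamB

set_option autoImplicit false
universe u
open EtAlg

namespace Groth.Agent.S1990

open Groth.Agent.R2.H10 in
/-- Let K be the fraction field of a discrete valuation ring A, and K ⊂ L ⊂ M finite separable
extensions. If L/K is tamely ramified (resp. unramified) with respect to A and M/L is tamely
ramified (resp. unramified) with respect to every valuation subring of L dominating A, then M/K is
tamely ramified (resp. unramified) with respect to A. -/
theorem result (A K : Type u) [CommRing A] [IsDomain A] [IsDiscreteValuationRing A] [Field K] [Algebra A K] [IsFractionRing A K] (L M : Type u) [Field L] [Field M]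
    [Algebra K L] [Algebra K M] [Algebra L M] [IsScalarTower K L M] [FiniteDimensional K M] [Algebra.IsSeparable K M] :
    (EtRam.IsTamelyRamified A ((algebraMap K L).comp (algebraMap A K)) →
      (∀ (V : ValuationSubring L), EtRam.Dominates A ((algebraMap K L).comp (algebraMap A K)) V →
        EtRam.IsTamelyRamified V ((algebraMap L M).comp V.subtype)) →
      EtRam.IsTamelyRamified A ((algebraMap K M).comp (algebraMap A K))) ∧
    (EtRam.IsUnramifiedExt A ((algebraMap K L).comp (algebraMap A K)) →
      (∀ (V : ValuationSubring L), EtRam.Dominates A ((algebraMap K L).comp (algebraMap A K)) V →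
        EtRam.IsUnramifiedExt V ((algebraMap L M).comp V.subtype)) →
      EtRam.IsUnramifiedExt A ((algebraMap K M).comp (algebraMap A K))) := by
  have hg : ∀ a : A, algebraMap L M (((algebraMap K L).comp (algebraMap A K)) a) =
      ((algebraMap K M).comp (algebraMap A K)) a := fun a =>
    (IsScalarTower.algebraMap_apply K L M _).symm
  haveI : FiniteDimensional K L := FiniteDimensional.left K L M
  haveI : Algebra.IsSeparable K L := Algebra.isSeparable_tower_bot_of_isSeparable K L M
  constructor
  · intro hL hML W hW hloc
    have hV : EtRam.Dominates A ((algebraMap K L).comp (algebraMap A K))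
        (W.comap (algebraMap L M)) :=
      (EtRamB.dominates_comap_iff (algebraMap L M) W hg).mpr hW
    have hVW := EtRamB.dominates_comap_self (algebraMap L M) W
    letI iAV : Algebra A (W.comap (algebraMap L M)) :=
      (RingHom.codRestrict ((algebraMap K L).comp (algebraMap A K)) (W.comap (algebraMap L M))
        hV.1).toAlgebra
    letI iAW : Algebra A W :=
      (RingHom.codRestrict ((algebraMap K M).comp (algebraMap A K)) W hW.1).toAlgebra
    letI iVW : Algebra (W.comap (algebraMap L M)) W :=
      (RingHom.codRestrict ((algebraMap L M).comp (W.comap (algebraMap L M)).subtype) W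
        hVW.1).toAlgebra
    haveI : IsScalarTower A (W.comap (algebraMap L M)) W :=
      IsScalarTower.of_algebraMap_eq (fun a => Subtype.ext (hg a).symm)
    haveI locAV : IsLocalHom (algebraMap A (W.comap (algebraMap L M))) :=
      EtRamA.isLocalHom_of_dominates hV
    haveI locVW : IsLocalHom (algebraMap (W.comap (algebraMap L M)) W) :=
      EtRamA.isLocalHom_of_dominates hVW
    obtain ⟨hsep1, hp1⟩ := hL (W.comap (algebraMap L M)) hV
    obtain ⟨hsep2, hp2⟩ := hML (W.comap (algebraMap L M)) hV W hVW
    haveI dV : IsDiscreteValuationRing (W.comap (algebraMap L M)) :=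
      EtRamA.isDiscreteValuationRing_of_dominates A K L _ hV
    haveI dW : IsDiscreteValuationRing W :=
      EtRamA.isDiscreteValuationRing_of_dominates A K M W hW
    have injVW : Function.Injective (algebraMap (W.comap (algebraMap L M)) W) := fun a b h =>
      Subtype.ext ((algebraMap L M).injective (congrArg Subtype.val h))
    have injAW : Function.Injective (algebraMap A W) := fun a b h =>
      EtRamA.comp_injective A K M (congrArg Subtype.val h)
    refine ⟨EtRamB.separable_trans hsep1 hsep2, fun p hp hchar hdvd => ?_⟩
    rw [EtRamB.ramificationIdx_tower injVW injAW] at hdvd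
    rcases (Nat.Prime.dvd_mul hp).mp hdvd with h | h
    · exact hp1 p hp hchar h
    · exact hp2 p hp (EtRamB.charP_residue p hchar) h
  · intro hL hML W hW hloc
    have hV : EtRam.Dominates A ((algebraMap K L).comp (algebraMap A K))
        (W.comap (algebraMap L M)) :=
      (EtRamB.dominates_comap_iff (algebraMap L M) W hg).mpr hW
    have hVW := EtRamB.dominates_comap_self (algebraMap L M) W
    letI iAV : Algebra A (W.comap (algebraMap L M)) :=
      (RingHom.codRestrict ((algebraMap K L).comp (algebraMap A K)) (W.comap (algebraMap L M))
        hV.1).toAlgebra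
    letI iAW : Algebra A W :=
      (RingHom.codRestrict ((algebraMap K M).comp (algebraMap A K)) W hW.1).toAlgebra
    letI iVW : Algebra (W.comap (algebraMap L M)) W :=
      (RingHom.codRestrict ((algebraMap L M).comp (W.comap (algebraMap L M)).subtype) W
        hVW.1).toAlgebra
    haveI : IsScalarTower A (W.comap (algebraMap L M)) W :=
      IsScalarTower.of_algebraMap_eq (fun a => Subtype.ext (hg a).symm)
    haveI locAV : IsLocalHom (algebraMap A (W.comap (algebraMap L M))) :=
      EtRamA.isLocalHom_of_dominates hV
    haveI locVW : IsLocalHom (algebraMap (W.comap (algebraMap L M)) W) :=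
      EtRamA.isLocalHom_of_dominates hVW
    obtain ⟨hun1, hsep1⟩ := hL (W.comap (algebraMap L M)) hV
    obtain ⟨hun2, hsep2⟩ := hML (W.comap (algebraMap L M)) hV W hVW
    exact ⟨EtRamB.weaklyUnramified_trans hun1 hun2, EtRamB.separable_trans hsep1 hsep2⟩

end Groth.Agent.S1990
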