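import Groth.Statements.S8760
import Groth.Agent.R2.H80AdeqBigShf

set_option autoImplicit false
universe u
open CategoryTheory Limits AlgebraicGeometry
open Adeq

namespace Groth.Agent.S8760

/-- Let `P` be a presheaf of `O`-modules on the big fppf site of `S`. If for every affine scheme `Spec
R` over `S` the module-valued functor `B ↦ P(Spec B)` on `R`-algebras is adequate, then the
sheafification of `P` is an adequate `O`-module. -/
theorem result (S : Scheme.{u})
    (P : PresheafOfModules.{u + 1} (BigSite.ORing Scheme.fppfPrecoverage S).obj)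
    (h : ∀ (R : CommRingCat.{u}) (a : Spec R ⟶ S), Adeq.adequate R ((Adeq.toMVFPre Scheme.fppfPrecoverage a).obj P)) :
    Adeq.adequateMod Scheme.fppfPrecoverage S
      ((PresheafOfModules.sheafification (𝟙 (BigSite.ORing Scheme.fppfPrecoverage S).obj)).obj P) := by
  have hOSh : BigSite.OSh (Scheme.precoverage (@Flat ⊓ @LocallyOfFinitePresentation)) :=
    inferInstanceAs (BigSite.OSh Scheme.fppfPrecoverage)
  have hId : MorphismProperty.ContainsIdentities
      ((@Flat ⊓ @LocallyOfFinitePresentation : MorphismProperty Scheme.{u})) :=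
    ⟨fun X => ⟨inferInstance, inferInstance⟩⟩
  let Msh := (PresheafOfModules.sheafification
    (𝟙 (BigSite.ORing Scheme.fppfPrecoverage S).obj)).obj P
  let η : P ⟶ Msh.val := PresheafOfModules.toSheafify
    (𝟙 (BigSite.ORing Scheme.fppfPrecoverage S).obj)
    (CategoryTheory.toSheafify (QuotSh.J Scheme.fppfPrecoverage S) P.presheaf)
  have hinj : Presheaf.IsLocallyInjective (QuotSh.J Scheme.fppfPrecoverage S)
      ((PresheafOfModules.toPresheaf _).map η) :=
    inferInstanceAs (Presheaf.IsLocallyInjective (QuotSh.J Scheme.fppfPrecoverage S)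
      (CategoryTheory.toSheafify (QuotSh.J Scheme.fppfPrecoverage S) P.presheaf))
  have hsurj : Presheaf.IsLocallySurjective (QuotSh.J Scheme.fppfPrecoverage S)
      ((PresheafOfModules.toPresheaf _).map η) :=
    inferInstanceAs (Presheaf.IsLocallySurjective (QuotSh.J Scheme.fppfPrecoverage S)
      (CategoryTheory.toSheafify (QuotSh.J Scheme.fppfPrecoverage S) P.presheaf))
  have hinj' : Presheaf.IsLocallyInjective
      (QuotSh.J (Scheme.precoverage (@Flat ⊓ @LocallyOfFinitePresentation)) S)
      ((PresheafOfModules.toPresheaf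
        (BigSite.ORing (Scheme.precoverage (@Flat ⊓ @LocallyOfFinitePresentation)) S).obj).map
          η) := hinj
  have hsurj' : Presheaf.IsLocallySurjective
      (QuotSh.J (Scheme.precoverage (@Flat ⊓ @LocallyOfFinitePresentation)) S)
      ((PresheafOfModules.toPresheaf
        (BigSite.ORing (Scheme.precoverage (@Flat ⊓ @LocallyOfFinitePresentation)) S).obj).map
          η) := hsurj
  have hQ : Presheaf.IsSeparated (QuotSh.J Scheme.fppfPrecoverage S) Msh.val.presheaf :=
    Msh.isSheaf.isSeparated
  refine ⟨S.affineOpenCover.I₀, S.affineOpenCover.X, S.affineOpenCover.f, ?_, fun i => ?_⟩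
  · change Presieve.ofArrows _ _ ∈
      (Scheme.precoverage (@Flat ⊓ @LocallyOfFinitePresentation)).coverings S
    rw [Scheme.ofArrows_mem_precoverage_iff]
    refine ⟨fun x => ⟨S.affineOpenCover.idx x, S.affineOpenCover.covers x⟩, fun i => ?_⟩
    have : IsOpenImmersion (S.affineOpenCover.f i) := S.affineOpenCover.map_prop i
    exact ⟨inferInstance, inferInstance⟩
  · exact Groth.Agent.R2.H80.AdeqBigShf.adequate_target
      (P := @Flat ⊓ @LocallyOfFinitePresentation) η (fun f hf => by
        have := hf.1
        have := hf.2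
        exact f.isOpenMap) (fun _ _ f hf => hf.1) hQ h _ _

end Groth.Agent.S8760
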