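import Groth.Statements.S16955
import Mathlib
import Groth.Agent.Lib.Helper23SectCmpLib
import Groth.Agent.R2.H81LocInjStep
-- import your own Groth.Agent.* helpers here

set_option autoImplicit false
universe u
open CohCmp

namespace Groth.Agent.S16955

open AlgebraicGeometry CategoryTheory Scheme.Modules Opposite Limits TopologicalSpace in
/-- The comparison maps are locally injective, in the form suited to induction on the degree. -/
theorem locally_injective {X Y : Scheme.{u}} (f : X ⟶ Y) [HasInjectiveResolutions X.Modules]
    {Δ : RDer.DerivedLES (pushforward f)} (E : CohCmp.SectCmp f Δ)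
    [EnoughInjectives X.Modules] (y : Y) (p : ℕ) :
    ∀ (F : X.Modules) (V W : Y.Opens) (hWV : W ≤ V) (x : Coh.HHon X F (f ⁻¹ᵁ V) p),
      ((Coh.Rpush f p).obj F).presheaf.map (homOfLE hWV).op (E.ε V F p x) = 0 → y ∈ W →
      ∃ (W' : Y.Opens) (hW' : W' ≤ W), y ∈ W' ∧
        CohPull.resLE F (f.preimage_mono (hW'.trans hWV)) p x = 0 := by
  induction p with
  | zero =>
    intro F V W hWV x hx hy
    exact ⟨W, le_rfl, hy, Groth.Agent.R2.H81.LocInj.base_case f E F hWV x hx⟩
  | succ p ih =>
    intro F V W hWV x hx hy
    have hS : (ShortComplex.mk (Injective.ι F) (cokernel.π (Injective.ι F))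
        (cokernel.condition _)).ShortExact :=
      { exact := ShortComplex.exact_cokernel _
        mono_f := inferInstanceAs (Mono (Injective.ι F))
        epi_g := inferInstanceAs (Epi (cokernel.π (Injective.ι F))) }
    have hI : Injective (ShortComplex.mk (Injective.ι F) (cokernel.π (Injective.ι F))
        (cokernel.condition _)).X₂ := inferInstanceAs (Injective (Injective.under F))
    exact Groth.Agent.R2.H81.LocInj.step f E y p ih _ hS V W hWV x hx hy

open AlgebraicGeometry CategoryTheory Scheme.Modules in
/-- The comparison map is locally injective. Let f : X → Y be a morphism of schemes, F an O_X-module and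
p a natural number; R^p f_* F is the p-th right derived functor of direct image on O-modules and ε_V
: H^p(f⁻¹V, F|_{f⁻¹V}) → Γ(V, R^p f_* F) the pinned comparison maps (the structure SectCmp, taken as
a hypothesis). If a class x over f⁻¹V satisfies ε_V(x) = 0, then every point y of V has an open
neighbourhood W ⊆ V such that the restriction of x to H^p(f⁻¹W, F|_{f⁻¹W}) vanishes. -/
theorem result
    {X Y : Scheme.{u}} (f : X ⟶ Y) [HasInjectiveResolutions X.Modules]
    {Δ : RDer.DerivedLES (pushforward f)} (E : CohCmp.SectCmp f Δ) (F : X.Modules) (p : ℕ)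
    (V : Y.Opens) (x : Coh.HHon X F (f ⁻¹ᵁ V) p) (hx : E.ε V F p x = 0) (y : Y) (hy : y ∈ V) :
    ∃ (W : Y.Opens) (hWV : W ≤ V), y ∈ W ∧ CohPull.resLE F (f.preimage_mono hWV) p x = 0 := by
  have := Groth.Agent.S0484.result (Opens.grothendieckTopology X) X.ringCatSheaf
  have : EnoughInjectives X.Modules := inferInstanceAs (EnoughInjectives (SheafOfModules.{u} X.ringCatSheaf))
  have h0 : ((Coh.Rpush f p).obj F).presheaf.map (homOfLE (le_refl V)).op (E.ε V F p x) = 0 := by
    rw [hx, map_zero]
  obtain ⟨W', hW', hyW', hres⟩ := locally_injective f E y p F V V le_rfl x h0 hy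
  exact ⟨W', hW', hyW', hres⟩

end Groth.Agent.S16955
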