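import Groth.Statements.S10395
import Groth.Agent.R2.H46GenPt
import Groth.Agent.S10352

set_option autoImplicit false
universe u
open CategoryTheory CategoryTheory.Limits AlgebraicGeometry Topology TopologicalSpace
open AlgSp

namespace Groth.Agent.S10395

/-- (1) ⇔ (2) ⇔ (3): let S be a scheme, X a decent algebraic space over S, and (Y, y) ⟶ (X, x) an etale
morphism of pointed algebraic spaces. Then the point y is a generic point of some irreducible
component of |Y| if and only if the point x is a generic point of some irreducible component of |X|. -/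
theorem result {S : Scheme.{u}} {X Y : AlgSp.Space S}
    (hX : AlgSp.IsDecent X.obj) (f : Y ⟶ X) (hf : AlgSp.IsEtaleMor f.hom) (y : AlgSp.Points Y.obj) :
    (∃ T ∈ irreducibleComponents (AlgSp.Points Y.obj), IsGenericPoint y T) ↔
      (∃ T ∈ irreducibleComponents (AlgSp.Points X.obj), IsGenericPoint (AlgSp.Points.map f.hom y) T) := by
  have hY : AlgSp.IsDecent Y.obj := Groth.Agent.S10352.result f hf hX
  obtain ⟨V, b, v, hb, -, rfl⟩ := Groth.Agent.R2.H45.HasAt.exists_chart Y.property y
  have hbf : AlgSp.RepWith @Etale (b ≫ f.hom) := hf b hb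
  rw [AlgSp.Points.map_ofPt]
  constructor
  · rintro ⟨T, hT, hg⟩
    exact Groth.Agent.R2.H46.GenPt.exists_component_of_isMax X hX (b ≫ f.hom) hbf v
      (Groth.Agent.R2.H46.GenPt.isMax_of_isGenericPoint Y hY b hb v T hT hg)
  · rintro ⟨T, hT, hg⟩
    exact Groth.Agent.R2.H46.GenPt.exists_component_of_isMax Y hY b hb v
      (Groth.Agent.R2.H46.GenPt.isMax_of_isGenericPoint X hX (b ≫ f.hom) hbf v T hT hg)

end Groth.Agent.S10395
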