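import Groth.Statements.S10107
import Groth.Agent.Lib.Helper9SpQuot
import Groth.Agent.S9947
import Groth.Agent.R2.H44FppfLocal
import Groth.Agent.Lib.Helper15PtsTop
import Groth.Agent.Lib.Helper15LocEss
import Groth.Agent.Lib.Helper15SrcCancel
import Groth.Agent.R2.H96FppfGlue
-- import your own Groth.Agent.* helpers here

set_option autoImplicit false
universe u
open CategoryTheory CategoryTheory.Limits AlgebraicGeometry
open AlgSp

namespace Groth.Agent.S10107

open Opposite Groth.Agent.Lib.Helper9 Groth.Agent.Lib.Helper9.LocalRel Groth.Agent.Lib.Helper9.SpQuot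
  Groth.Agent.R2.H96.FppfGlue

variable {S : Scheme.{u}}

section KernelPair

variable {R U : AlgSp.Sp S} (s t : R ⟶ U)

/-- `(s, t)` is jointly monic on all sheaves. -/
lemma jointly_mono (hj : AlgSp.IsEqvRelSp s t) {W : AlgSp.Sp S} (r r' : W ⟶ R)
    (h1 : r ≫ s = r' ≫ s) (h2 : r ≫ t = r' ≫ t) : r = r' := by
  apply GrothendieckTopology.hom_ext_uliftYoneda.{u + 1} (AlgSp.J S)
  intro T x
  exact hj.injective T (x ≫ r) (x ≫ r') (by rw [Category.assoc, Category.assoc, h2])
    (by rw [Category.assoc, Category.assoc, h1])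

/-- two points of `U` with the same image in `U/R` are related by a point of `R`. -/
lemma exists_rel (hj : AlgSp.IsEqvRelSp s t) {W : AlgSp.Sp S} (a b : W ⟶ U)
    (hab : a ≫ AlgSp.quotSpπ s t = b ≫ AlgSp.quotSpπ s t) :
    ∃ r : W ⟶ R, r ≫ s = a ∧ r ≫ t = b := by
  obtain ⟨W', e, he, r₀, hr1, hr2⟩ := rho_of_isPreEqvRelSp s t hj.equivalence a b hab
  have hreg : IsRegularEpi e := IsRegularEpiCategory.regularEpiOfEpi e
  have heff : EffectiveEpi e := (isRegularEpi_iff_effectiveEpi e).1 hreg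
  have hco : ∀ {Z : AlgSp.Sp S} (g₁ g₂ : Z ⟶ W'), g₁ ≫ e = g₂ ≫ e → g₁ ≫ r₀ = g₂ ≫ r₀ := by
    intro Z g₁ g₂ h
    apply jointly_mono s t hj
    · rw [Category.assoc, Category.assoc, hr1, ← Category.assoc, h, Category.assoc]
    · rw [Category.assoc, Category.assoc, hr2, ← Category.assoc, h, Category.assoc]
  refine ⟨EffectiveEpi.desc e r₀ hco, ?_, ?_⟩
  · rw [← cancel_epi e, EffectiveEpi.fac_assoc, hr1]
  · rw [← cancel_epi e, EffectiveEpi.fac_assoc, hr2]

/-- `R` is the kernel pair of the quotient map. -/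
lemma isPullback_quotSpπ (hj : AlgSp.IsEqvRelSp s t) :
    IsPullback s t (AlgSp.quotSpπ s t) (AlgSp.quotSpπ s t) := by
  refine ⟨⟨AlgSp.quotSp_condition s t⟩, ⟨PullbackCone.IsLimit.mk _
    (fun c => (exists_rel s t hj c.fst c.snd c.condition).choose)
    (fun c => (exists_rel s t hj c.fst c.snd c.condition).choose_spec.1)
    (fun c => (exists_rel s t hj c.fst c.snd c.condition).choose_spec.2) ?_⟩⟩
  intro c m h1 h2
  apply jointly_mono s t hj
  · rw [h1, (exists_rel s t hj c.fst c.snd c.condition).choose_spec.1]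
  · rw [h2, (exists_rel s t hj c.fst c.snd c.condition).choose_spec.2]

end KernelPair

/-- fppf-local lifts along an epimorphism of sheaves. -/
lemma exists_local_lift {F G : AlgSp.Sp S} (π : F ⟶ G) [Epi π] {T : Over S}
    (ξ : (AlgSp.yon S).obj T ⟶ G) :
    ∃ (V : T.left → Over S) (c : ∀ x, V x ⟶ T) (σ : ∀ x, (AlgSp.yon S).obj (V x) ⟶ F),
      (∀ x, Flat (c x).left) ∧ (∀ x, LocallyOfFinitePresentation (c x).left) ∧
      (∀ x, x ∈ Set.range (c x).left) ∧
      ∀ x, σ x ≫ π = (AlgSp.yon S).map (c x) ≫ ξ := by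
  have h1 : Sheaf.IsLocallySurjective π := (Sheaf.isLocallySurjective_iff_epi _).mpr inferInstance
  have h3 := Presheaf.imageSieve_mem (AlgSp.J S) π.hom ((AlgSp.J S).uliftYonedaEquiv ξ)
  obtain ⟨V, c, hc, hfl, hfp, hsurj⟩ := exists_family_of_mem_J _ h3
  choose u hu using hc
  refine ⟨V, c, fun x => (AlgSp.J S).uliftYonedaEquiv.symm (u x), hfl, hfp, hsurj, fun x => ?_⟩
  rw [GrothendieckTopology.uliftYonedaEquiv_symm_naturality_right]
  have := hu x
  rw [this]
  rw [← GrothendieckTopology.uliftYonedaEquiv_symm_naturality_left, Equiv.symm_apply_apply]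

section Main

open Groth.Agent.Lib.Helper15DiagLft

variable {R U : AlgSp.Sp S} (s t : R ⟶ U)

/-- generic form: the quotient map has every property `P` which `t` has, when `LocP P` is stable under
base change, can be checked on one chart, and `P` is fppf local on the target. -/
theorem locP_quotSpπ (P : MorphismProperty Scheme.{u})
    (hbc : BCStable (AlgSp.LocP (S := S) P))
    (hchart : ∀ {X Y : AlgSp.Space S} (f : X ⟶ Y) {U' V : Over S}
      (a : (AlgSp.yon S).obj U' ⟶ X.obj) (b : (AlgSp.yon S).obj V ⟶ Y.obj) (h : U' ⟶ V),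
      AlgSp.RepWith @Etale a → AlgSp.RepWith @Surjective a → AlgSp.RepWith @Etale b →
      a ≫ f.hom = (AlgSp.yon S).map h ≫ b → P h.left → AlgSp.LocP P f.hom)
    (hloc : P.IsLocalAtTarget Scheme.fppfPrecoverage)
    (hR : AlgSp.IsAlgSpace R) (hU : AlgSp.IsAlgSpace U) (hj : AlgSp.IsEqvRelSp s t)
    (ht : AlgSp.LocP P t) (hF : AlgSp.IsAlgSpace (AlgSp.quotSp s t)) :
    AlgSp.LocP P (AlgSp.quotSpπ s t) := by
  have : P.RespectsIso := hloc.toRespects
  set π := AlgSp.quotSpπ s t with hπ
  obtain ⟨V, p, hpe, hps⟩ := hF.atlas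
  have hQ : AlgSp.IsAlgSpace (pullback π p) :=
    Groth.Agent.S9874.isAlgSpace_of_isPullback hF.diag hU (AlgSp.IsAlgSpace.yon_obj V)
      (IsPullback.of_hasPullback π p)
  obtain ⟨W, w, hwe, hws⟩ := hQ.atlas
  have hfstE : AlgSp.RepWith @Etale (pullback.fst π p) :=
    MorphismProperty.of_isPullback (P := AlgSp.RepWith @Etale)
      (IsPullback.of_hasPullback π p).flip hpe
  have hfstS : AlgSp.RepWith @Surjective (pullback.fst π p) :=
    MorphismProperty.of_isPullback (P := AlgSp.RepWith @Surjective)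
      (IsPullback.of_hasPullback π p).flip hps
  have ha : AlgSp.RepWith @Etale (w ≫ pullback.fst π p) :=
    (AlgSp.RepWith @Etale).comp_mem _ _ hwe hfstE
  have has : AlgSp.RepWith @Surjective (w ≫ pullback.fst π p) :=
    (AlgSp.RepWith @Surjective).comp_mem _ _ hws hfstS
  obtain ⟨h, hh⟩ := (AlgSp.yon S).map_surjective (w ≫ pullback.snd π p)
  have comm : (w ≫ pullback.fst π p) ≫ π = (AlgSp.yon S).map h ≫ p := by
    rw [Category.assoc, pullback.condition, ← Category.assoc, ← hh]
  refine hchart (X := ⟨U, hU⟩) (Y := ⟨AlgSp.quotSp s t, hF⟩) (ObjectProperty.homMk π)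
    (w ≫ pullback.fst π p) p h ha has hpe comm ?_
  -- fppf-local lifts of the atlas
  obtain ⟨V', c, σ, hfl, hfp, hsurj, hσ⟩ := exists_local_lift π p
  have hcov : Presieve.ofArrows (fun x => (V' x).left) (fun x => (c x).left) ∈
      Scheme.fppfPrecoverage V.left := by
    refine (Scheme.ofArrows_mem_precoverage_iff
      (fun {A B : Scheme.{u}} (m : A ⟶ B) => Flat m ∧ LocallyOfFinitePresentation m)).2 ?_
    exact ⟨fun x => ⟨x, hsurj x⟩, fun x => ⟨hfl x, hfp x⟩⟩
  refine hloc.of_forall_pullbackSnd hcov ?_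
  rintro _ _ _ ⟨x⟩
  -- work with the pullback in `Over S`
  have sqS : IsPullback (pullback.fst h (c x)).left (pullback.snd h (c x)).left h.left (c x).left :=
    (IsPullback.of_hasPullback h (c x)).map (Over.forget S)
  suffices hfin : P (pullback.snd h (c x)).left by
    rw [← sqS.isoPullback_hom_snd] at hfin
    exact (P.cancel_left_of_respectsIso _ _).1 hfin
  -- the base change of `t` along the lift
  have sqR := IsPullback.of_hasPullback t (σ x)
  have hR' : AlgSp.IsAlgSpace (pullback t (σ x)) :=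
    Groth.Agent.S9874.isAlgSpace_of_isPullback hU.diag hR (AlgSp.IsAlgSpace.yon_obj (V' x)) sqR
  have hsnd : AlgSp.LocP P (pullback.snd t (σ x)) :=
    hbc hR hU hR' (AlgSp.IsAlgSpace.yon_obj (V' x)) t (σ x) (pullback.snd t (σ x))
      (pullback.fst t (σ x)) sqR ht
  -- `R' = Q ×_V V'`
  have outer : IsPullback (pullback.fst t (σ x) ≫ s) (pullback.snd t (σ x)) π
      ((AlgSp.yon S).map (c x) ≫ p) := by
    have := sqR.paste_horiz (isPullback_quotSpπ s t hj)
    rwa [hσ x] at this
  obtain ⟨lam, hlam⟩ : ∃ lam : pullback t (σ x) ⟶ pullback π p,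
      lam = pullback.lift (pullback.fst t (σ x) ≫ s)
        (pullback.snd t (σ x) ≫ (AlgSp.yon S).map (c x)) (by rw [outer.w, Category.assoc]) :=
    ⟨_, rfl⟩
  have hlam1 : lam ≫ pullback.fst π p = pullback.fst t (σ x) ≫ s := by
    rw [hlam, pullback.lift_fst]
  have hlam2 : lam ≫ pullback.snd π p = pullback.snd t (σ x) ≫ (AlgSp.yon S).map (c x) := by
    rw [hlam, pullback.lift_snd]
  have sqL : IsPullback lam (pullback.snd t (σ x)) (pullback.snd π p) ((AlgSp.yon S).map (c x)) := by
    refine IsPullback.of_right ?_ hlam2 (IsPullback.of_hasPullback π p)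
    rw [hlam1]
    exact outer
  -- the chart of `R'`
  have sqW : IsPullback ((AlgSp.yon S).map (pullback.fst h (c x)))
      ((AlgSp.yon S).map (pullback.snd h (c x))) ((AlgSp.yon S).map h) ((AlgSp.yon S).map (c x)) :=
    (IsPullback.of_hasPullback h (c x)).map (AlgSp.yon S)
  have hcomm' : ((AlgSp.yon S).map (pullback.fst h (c x)) ≫ w) ≫ pullback.snd π p =
      (AlgSp.yon S).map (pullback.snd h (c x)) ≫ (AlgSp.yon S).map (c x) := by
    rw [Category.assoc, ← hh, sqW.w]
  obtain ⟨e', he'⟩ : ∃ e' : (AlgSp.yon S).obj (pullback h (c x)) ⟶ pullback t (σ x),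
      e' = sqL.lift _ _ hcomm' := ⟨_, rfl⟩
  have he'1 : e' ≫ lam = (AlgSp.yon S).map (pullback.fst h (c x)) ≫ w := by
    rw [he', sqL.lift_fst]
  have he'2 : e' ≫ pullback.snd t (σ x) = (AlgSp.yon S).map (pullback.snd h (c x)) := by
    rw [he', sqL.lift_snd]
  have sqE : IsPullback e' ((AlgSp.yon S).map (pullback.fst h (c x))) lam w := by
    refine IsPullback.of_right ?_ he'1 sqL.flip
    rw [he'2, ← hh]
    exact sqW.flip
  have he'e : AlgSp.RepWith @Etale e' :=
    MorphismProperty.of_isPullback (P := AlgSp.RepWith @Etale) sqE.flip hwe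
  exact hsnd e' (𝟙 _) (pullback.snd h (c x)) he'e (AlgSp.repWith_id _ (V' x))
    (by rw [he'2, Category.comp_id])

/-- an epimorphism of sheaves is surjective on points. -/
theorem isSurjectiveMor_of_epi {F G : AlgSp.Sp S} (π : F ⟶ G) [Epi π] : AlgSp.IsSurjectiveMor π := by
  refine Groth.Agent.Lib.Helper15SrcCancel.isSurjectiveMor_of_baseChange_to_schemes π ?_
  intro T ξ
  refine ⟨pullback π ξ, pullback.fst π ξ, pullback.snd π ξ, IsPullback.of_hasPullback π ξ, ?_⟩
  intro y
  obtain ⟨V', c, σ, -, -, hsurj, hσ⟩ := exists_local_lift π ξ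
  obtain ⟨v', hv'⟩ := hsurj (AlgSp.Points.toScheme T y)
  refine ⟨AlgSp.Points.map (pullback.lift (σ _) ((AlgSp.yon S).map (c _)) (hσ _))
    (AlgSp.Points.ofScheme (V' _) v'), ?_⟩
  rw [← AlgSp.Points.map_comp, pullback.lift_snd,
    Groth.Agent.Lib.Helper15LocEss.points_map_yon_ofScheme, hv', AlgSp.Points.ofScheme_toScheme]

end Main

/-- Let `F = U/R` be an algebraic space which is the fppf quotient of a groupoid in algebraic spaces
`(U, R, s, t, c)` over `S` with `s, t` flat and locally of finite presentation and `j = (t, s)` an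
equivalence relation (equivalently, the composition being determined by it, of an equivalence
relation `s, t : R ⟶ U` of algebraic spaces with these properties). Then `U ⟶ F` is surjective, flat
and locally of finite presentation. -/
theorem result (S : Scheme.{u}) (R U : AlgSp.Sp S)
    (hR : AlgSp.IsAlgSpace R) (hU : AlgSp.IsAlgSpace U) (s t : R ⟶ U) (hj : AlgSp.IsEqvRelSp s t)
    (hs : AlgSp.LocP @Flat s ∧ AlgSp.LocP @LocallyOfFinitePresentation s)
    (ht : AlgSp.LocP @Flat t ∧ AlgSp.LocP @LocallyOfFinitePresentation t)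
    (hF : AlgSp.IsAlgSpace (AlgSp.quotSp s t)) :
    AlgSp.IsSurjectiveMor (AlgSp.quotSpπ s t) ∧ AlgSp.LocP @Flat (AlgSp.quotSpπ s t) ∧
      AlgSp.LocP @LocallyOfFinitePresentation (AlgSp.quotSpπ s t) := by
  refine ⟨isSurjectiveMor_of_epi _, ?_, ?_⟩
  · refine locP_quotSpπ s t @Flat Groth.Agent.Lib.Helper15PtsTop.bcStable_flat
      (fun f _ _ a b h ha has hb comm hh =>
        Groth.Agent.S9947.result @Flat (Or.inr (Or.inr (Or.inl rfl))) f a b h ha has hb comm hh)
      (Groth.Agent.R2.H44.FppfLocal.isLocalAtTarget_fppf_of_fpqc _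
        Groth.Agent.Lib.Helper12.descendsAlong_flat) hR hU hj ht.1 hF
  · refine locP_quotSpπ s t @LocallyOfFinitePresentation
      Groth.Agent.Lib.Helper15PtsTop.bcStable_lfp
      (fun f _ _ a b h ha has hb comm hh =>
        Groth.Agent.S9947.result @LocallyOfFinitePresentation (Or.inr (Or.inl rfl)) f a b h ha has hb
          comm hh)
      Groth.Agent.R2.H44.FppfLocal.locallyOfFinitePresentation hR hU hj ht.2 hF

end Groth.Agent.S10107
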