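import Groth.Statements.S7395
import Mathlib
import Groth.Agent.S7380
import Groth.Agent.S2076
import Groth.Agent.S9199

set_option autoImplicit false
universe u
open CategoryTheory AlgebraicGeometry
open Lim

namespace Groth.Agent.S7395

/-- Let `f : X → S` be separated and of finite type with `S` quasi-compact and quasi-separated. Then
there are a separated morphism `f' : X' → S` of finite presentation and a closed immersion `X → X'`
over `S`. -/
theorem result {X S : Scheme.{u}} (f : X ⟶ S) [IsSeparated f]
    [LocallyOfFiniteType f] [QuasiCompact f] [CompactSpace S] [QuasiSeparatedSpace S] :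
    ∃ (X' : Scheme.{u}) (f' : X' ⟶ S) (j : X ⟶ X'), IsSeparated f' ∧ LocallyOfFinitePresentation f' ∧
      QuasiCompact f' ∧ IsClosedImmersion j ∧ j ≫ f' = f := by
  have hXc : CompactSpace X := QuasiCompact.compactSpace_of_compactSpace f
  have hXqs : QuasiSeparatedSpace X := quasiSeparatedSpace_of_quasiSeparated f
  obtain ⟨I, _, _, _, D, c, hc, hD, htrans, ⟨e⟩⟩ := Groth.Agent.S7380.result f
  have hconn : IsConnected Iᵒᵖ := IsCofiltered.isConnected _
  -- instances on the stages
  have hcpt : ∀ i, CompactSpace (D.obj i).left := fun i => (hD i).2.2.2.1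
  have hqs : ∀ i, QuasiSeparatedSpace (D.obj i).left := fun i => (hD i).2.2.2.2
  have haff : ∀ (i j : Iᵒᵖ) (a : i ⟶ j), IsAffineHom (D.map a).left := fun i j a => by
    have := htrans i j a; infer_instance
  -- the structure map of the limit
  have hw : e.inv.left ≫ c.pt.hom = f := Over.w e.inv
  have hiso : IsIso e.hom.left := (Over.forget S).map_isIso e.hom
  have hw' : c.pt.hom = (e.hom.left : c.pt.left ⟶ X) ≫ f := (Over.w e.hom).symm
  -- the closed immersion into a stage
  have hlft : LocallyOfFiniteType (e.inv.left ≫ c.pt.hom) := by rw [hw]; infer_instance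
  have hcl : IsClosedImmersion e.inv.left := inferInstance
  obtain ⟨i₀, hi₀⟩ := Groth.Agent.S2076.result S D c hc e.inv.left
  -- eventually separated
  let t : (D ⋙ Over.forget S) ⟶ (Functor.const Iᵒᵖ).obj S :=
    { app := fun i => (D.obj i).hom
      naturality := fun i j a => by simp }
  have hc' : Limits.IsLimit ((Over.forget S).mapCone c) := Limits.isLimitOfPreserves _ hc
  have hsep : IsSeparated (((Over.forget S).mapCone c).π.app i₀ ≫ t.app i₀) := by
    have : ((Over.forget S).mapCone c).π.app i₀ ≫ t.app i₀ = c.pt.hom := Over.w (c.π.app i₀)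
    rw [this, hw']
    exact (@MorphismProperty.cancel_left_of_respectsIso _ _ @IsSeparated _ _ _ _ _ f hiso).mpr inferInstance
  have haff' : ∀ (i j : Iᵒᵖ) (a : i ⟶ j), IsAffineHom ((D ⋙ Over.forget S).map a) := haff
  have hcpt' : ∀ i, CompactSpace ((D ⋙ Over.forget S).obj i) := hcpt
  have hqs' : ∀ i, QuasiSeparatedSpace ((D ⋙ Over.forget S).obj i) := hqs
  obtain ⟨i₁, hi₁⟩ := Groth.Agent.S9199.result S (D ⋙ Over.forget S) t ((Over.forget S).mapCone c) hc' i₀
  -- a common index
  obtain ⟨k, hk0, hk1⟩ := exists_ge_ge i₀.unop i₁.unop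
  let a0 : Opposite.op k ⟶ i₀ := (homOfLE hk0).op
  let a1 : Opposite.op k ⟶ i₁ := (homOfLE hk1).op
  refine ⟨(D.obj (Opposite.op k)).left, (D.obj (Opposite.op k)).hom, e.inv.left ≫ (c.π.app (Opposite.op k)).left,
    hi₁ _ a1, (hD _).1, (hD _).2.1, ?_, ?_⟩
  · have h1 : (e.inv.left ≫ (c.π.app (Opposite.op k)).left) ≫ (D.map a0).left = e.inv.left ≫ (c.π.app i₀).left := by
      rw [Category.assoc, ← Over.comp_left, c.w]
    have h2 : IsClosedImmersion ((e.inv.left ≫ (c.π.app (Opposite.op k)).left) ≫ (D.map a0).left) := by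
      rw [h1]; exact hi₀
    have := htrans _ _ a0
    exact IsClosedImmersion.of_comp _ (D.map a0).left
  · rw [Category.assoc, Over.w]
    exact hw

end Groth.Agent.S7395
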