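import Groth.Statements.S7409
import Groth.Agent.S7395
import Groth.Agent.S0590
import Groth.Agent.S0591
import Groth.Agent.S9190
import Groth.Agent.S0025
import Groth.Agent.R2.H87ProjSpaceOver

set_option autoImplicit false
universe u
open CategoryTheory AlgebraicGeometry
open Lim

namespace Groth.Agent.S7409

open CategoryTheory.Limits Groth.Agent.R2.H87.ProjSpaceOver

/-- The conclusion of Chow's lemma (without dense open) for `f`. -/
def ChowData {X S : Scheme.{u}} (f : X ⟶ S) : Prop :=
  ∃ (n : ℕ) (X' : Scheme.{u}) (π : X' ⟶ X) (j : X' ⟶ CohB1.ProjSpaceOver n S),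
    IsImmersion j ∧ j ≫ CohB1.ProjSpaceOver.toBase n S = π ≫ f ∧ IsProper π ∧ Surjective π

/-- Chow data are stable under base change. -/
lemma chowData_of_isPullback {X₁ S₁ X S : Scheme.{u}} {f₁ : X₁ ⟶ S₁} {f : X ⟶ S} {g : X ⟶ X₁}
    {s : S ⟶ S₁} (H : IsPullback g f f₁ s) (h : ChowData f₁) : ChowData f := by
  obtain ⟨n, X₁', π₁, j₁, hj₁, hcomm, hπ₁, hsurj⟩ := h
  have hcond : (pullback.fst π₁ g ≫ j₁) ≫ CohB1.ProjSpaceOver.toBase n S₁ =
      (pullback.snd π₁ g ≫ f) ≫ s := by
    rw [Category.assoc, hcomm, pullback.condition_assoc, H.w, Category.assoc]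
  let j' : pullback π₁ g ⟶ CohB1.ProjSpaceOver n S :=
    (isPullback_map n s).lift (pullback.fst π₁ g ≫ j₁) (pullback.snd π₁ g ≫ f) hcond
  have hj'1 : j' ≫ map n s = pullback.fst π₁ g ≫ j₁ := (isPullback_map n s).lift_fst _ _ _
  have hj'2 : j' ≫ CohB1.ProjSpaceOver.toBase n S = pullback.snd π₁ g ≫ f :=
    (isPullback_map n s).lift_snd _ _ _
  have hbig : IsPullback (j' ≫ CohB1.ProjSpaceOver.toBase n S) (pullback.fst π₁ g) s
      (j₁ ≫ CohB1.ProjSpaceOver.toBase n S₁) := by
    rw [hj'2, hcomm]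
    exact (IsPullback.of_hasPullback π₁ g).flip.paste_horiz H.flip
  have hsq : IsPullback j' (pullback.fst π₁ g) (map n s) j₁ :=
    IsPullback.of_right hbig hj'1 (isPullback_map n s).flip
  refine ⟨n, pullback π₁ g, pullback.snd π₁ g, j', ?_, hj'2, inferInstance, inferInstance⟩
  exact MorphismProperty.of_isPullback (P := @IsImmersion) hsq.flip hj₁

/-- Chow data restrict along immersions. -/
lemma chowData_of_isImmersion {X Y S : Scheme.{u}} (j : X ⟶ Y) [IsImmersion j] (f : Y ⟶ S)
    (h : ChowData f) : ChowData (j ≫ f) := by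
  obtain ⟨n, Y', π₂, j₂, hj₂, hcomm, hπ₂, hsurj⟩ := h
  refine ⟨n, pullback π₂ j, pullback.snd π₂ j, pullback.fst π₂ j ≫ j₂, inferInstance, ?_,
    inferInstance, inferInstance⟩
  rw [Category.assoc, hcomm, pullback.condition_assoc]

/-- Chow data transport along isomorphisms of the base. -/
lemma chowData_of_iso {X S S' : Scheme.{u}} (f : X ⟶ S') (e : S' ≅ S) (h : ChowData f) :
    ChowData (f ≫ e.hom) := by
  have H : IsPullback (𝟙 X) (f ≫ e.hom) f e.inv :=
    IsPullback.of_horiz_isIso ⟨by simp⟩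
  exact chowData_of_isPullback H h

/-- Chow's lemma for finite type morphisms over a quasi-compact quasi-separated base: let `S` be
quasi-compact and quasi-separated and `f : X → S` separated of finite type. Then for some `n` there
are a scheme `X'`, a proper surjective `π : X' → X` and an immersion `X' → P^n_S` compatible with
the maps to `S`. -/
theorem result {X S : Scheme.{u}} (f : X ⟶ S) [CompactSpace S] [QuasiSeparatedSpace S]
    [IsSeparated f] [LocallyOfFiniteType f] [QuasiCompact f] :
    ∃ (n : ℕ) (X' : Scheme.{u}) (π : X' ⟶ X) (j : X' ⟶ CohB1.ProjSpaceOver n S),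
      IsImmersion j ∧ j ≫ CohB1.ProjSpaceOver.toBase n S = π ≫ f ∧ IsProper π ∧ Surjective π := by
  change ChowData f
  -- Step 1: closed immersion into a separated morphism of finite presentation
  obtain ⟨X'', f'', j, hsep, hlfp, hqc, hj, hjf⟩ := Groth.Agent.S7395.result f
  -- Step 2: write `S` as a limit of Noetherian schemes
  obtain ⟨I, pI, hdir, hne, D, c, hc, haff, hD, ⟨e⟩⟩ := Groth.Agent.S0590.result S
  have : IsCofiltered Iᵒᵖ := inferInstance
  have : ∀ (i j : Iᵒᵖ) (a : i ⟶ j), IsAffineHom (D.map a) := haff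
  have : ∀ i, CompactSpace (D.obj i) := fun i => (hD i).1
  have hlft : ∀ i, LocallyOfFiniteType (specULiftZIsTerminal.from (D.obj i)) := fun i => (hD i).2
  have : IsNoetherianRing (ULift.{u} ℤ) := isNoetherianRing_of_ringEquiv ℤ ULift.ringEquiv.symm
  have : ∀ i, IsLocallyNoetherian (D.obj i) := fun i =>
    have := hlft i
    LocallyOfFiniteType.isLocallyNoetherian (specULiftZIsTerminal.from (D.obj i))
  have : ∀ i, IsNoetherian (D.obj i) := fun i => {}
  have : ∀ i, QuasiSeparatedSpace (D.obj i) := fun i => inferInstance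
  -- Step 3: descend `f''`
  let f3 : X'' ⟶ c.pt := f'' ≫ e.inv
  have : IsSeparated f3 := inferInstance
  have : LocallyOfFinitePresentation f3 := inferInstance
  have : QuasiCompact f3 := inferInstance
  obtain ⟨i, Xi, fi, g, hfi1, hfi2, hfi3, hpb⟩ := Groth.Agent.S0591.result D c hc X'' f3
  have : CompactSpace Xi := QuasiCompact.compactSpace_of_compactSpace fi
  have : QuasiSeparatedSpace Xi := quasiSeparatedSpace_of_quasiSeparated fi
  -- Step 4: make the descended morphism separated
  obtain ⟨i', φ, Xi', Yi', fi', gi', pY, pX, hY', hX', hsep'⟩ :=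
    Groth.Agent.S9190.result D c hc i fi (𝟙 _) f3 (𝟙 _) (c.π.app i) g IsPullback.of_id_snd hpb
  have : IsIso gi' := hY'.isIso_snd_of_isIso
  let f₁ : Xi' ⟶ D.obj i' := fi' ≫ gi'
  have H1 : IsPullback pX f₁ fi (D.map φ) := by
    have := hX'.flip.paste_horiz hY'.flip
    rw [Category.comp_id] at this
    exact this.flip
  have hcond : g ≫ fi = (f3 ≫ c.π.app i') ≫ D.map φ := by
    rw [Category.assoc, c.w φ, hpb.w]
  let g' : X'' ⟶ Xi' := H1.lift g (f3 ≫ c.π.app i') hcond
  have hg'1 : g' ≫ pX = g := H1.lift_fst _ _ _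
  have hg'2 : g' ≫ f₁ = f3 ≫ c.π.app i' := H1.lift_snd _ _ _
  have H2 : IsPullback g' f3 f₁ (c.π.app i') := by
    have hbig : IsPullback f3 (g' ≫ pX) (c.π.app i' ≫ D.map φ) fi := by
      rw [hg'1, c.w φ]
      exact hpb.flip
    exact (IsPullback.of_bot hbig hg'2.symm H1.flip).flip
  have : LocallyOfFiniteType fi' :=
    MorphismProperty.of_isPullback (P := @LocallyOfFiniteType) hX' inferInstance
  have : QuasiCompact fi' :=
    MorphismProperty.of_isPullback (P := @QuasiCompact) hX' inferInstance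
  have : IsSeparated f₁ := inferInstance
  have : LocallyOfFiniteType f₁ := inferInstance
  have : QuasiCompact f₁ := inferInstance
  -- Step 5: Noetherian Chow lemma and base change
  have hC1 : ChowData f₁ := by
    obtain ⟨n, X', π, j', h1, h2, h3, h4, -⟩ := Groth.Agent.S0025.result f₁
    exact ⟨n, X', π, j', h1, h2, h3, h4⟩
  have hC3 : ChowData f3 := chowData_of_isPullback H2 hC1
  have hC'' : ChowData f'' := by
    have := chowData_of_iso f3 e hC3
    rwa [Category.assoc, Iso.inv_hom_id, Category.comp_id] at this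
  have : IsImmersion j := inferInstance
  have := chowData_of_isImmersion j f'' hC''
  rwa [hjf] at this

end Groth.Agent.S7409
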