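import Groth.Statements.S9868
import Groth.Agent.R2.H59EtQuot
import Groth.Agent.R2.H43Quot

set_option autoImplicit false
universe u
open CategoryTheory CategoryTheory.Limits AlgebraicGeometry
open AlgSp

namespace Groth.Agent.S9868

/-- Let `s, t : R ⟶ U` be an etale equivalence relation on a scheme `U` over `S` (for every scheme `T`
over `S` the map from `T`-points of `R` to pairs of `T`-points of `U` is injective with image an
equivalence relation, and `s`, `t` are etale). Then the quotient sheaf `U/R` (the coequalizer of
`h_s, h_t` in fppf sheaves of sets over `S`) is an algebraic space over `S`. -/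
theorem result (S : Scheme.{u}) {R U : Over S} (s t : R ⟶ U)
    (h : AlgSp.IsEtaleEqvRel s t) :
    AlgSp.IsAlgSpace (QuotSh.quot Scheme.fppfPrecoverage s t) :=
  (Groth.Agent.R2.H59.EtQuot.isAlgSpace_of_kernelPair s t (Groth.Agent.R2.H43.Quot.πy s t)
    (Groth.Agent.R2.H43.Quot.isPullback_πy s t h.toIsEqvRel) h.etale_left h.etale_right).1

end Groth.Agent.S9868
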