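import Groth.Statements.S2074
import Mathlib
import Groth.Agent.S7409
import Groth.Agent.S9189
import Groth.Agent.S9190
import Groth.Agent.S9705
import Groth.Agent.R2.H87LimProper

set_option autoImplicit false
universe u
open CategoryTheory AlgebraicGeometry
open Lim

namespace Groth.Agent.S2074

/-- Let `S = lim S_i` be a cofiltered limit of schemes with affine transition morphisms, `f₀ : X₀ → Y₀`
a morphism of quasi-compact quasi-separated schemes over a quasi-compact quasi-separated stage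
`S_{i₀}`, locally of finite type, and `f : X → Y` its base change to `S`. If `f` is proper then the
base change `f_i : X_i → Y_i` to some stage `S_i` is proper. (Base changes are expressed by pullback
squares.) -/
theorem result {I : Type u} [SmallCategory I] [IsCofiltered I]
    (D : I ⥤ Scheme.{u}) (c : Limits.Cone D) (hc : Limits.IsLimit c)
    [∀ (i j : I) (f : i ⟶ j), IsAffineHom (D.map f)] (i₀ : I) [CompactSpace (D.obj i₀)]
    [QuasiSeparatedSpace (D.obj i₀)] {X₀ Y₀ : Scheme.{u}} (f₀ : X₀ ⟶ Y₀) (g₀ : Y₀ ⟶ D.obj i₀)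
    [CompactSpace X₀] [QuasiSeparatedSpace X₀] [CompactSpace Y₀] [QuasiSeparatedSpace Y₀]
    {X Y : Scheme.{u}} (f : X ⟶ Y) (g : Y ⟶ c.pt) (qY : Y ⟶ Y₀) (qX : X ⟶ X₀)
    (hY : IsPullback qY g g₀ (c.π.app i₀)) (hX : IsPullback qX f f₀ qY) [LocallyOfFiniteType f₀] [IsProper f] :
    ∃ (i : I) (φ : i ⟶ i₀) (Xi Yi : Scheme.{u}) (fi : Xi ⟶ Yi) (gi : Yi ⟶ D.obj i) (pY : Yi ⟶ Y₀)
      (pX : Xi ⟶ X₀), IsPullback pY gi g₀ (D.map φ) ∧ IsPullback pX fi f₀ pY ∧ IsProper fi := by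
  classical
  -- Step 1: a stage where the morphism is separated
  obtain ⟨i₁, φ₁, X₁, Y₁, f₁, g₁, pY₁, pX₁, hY₁, hX₁, hsep₁⟩ :=
    Groth.Agent.S9190.result D c hc i₀ f₀ g₀ f g qY qX hY hX
  have hS₁c : CompactSpace (D.obj i₁) := QuasiCompact.compactSpace_of_compactSpace (D.map φ₁)
  have hS₁q : QuasiSeparatedSpace (D.obj i₁) := quasiSeparatedSpace_of_quasiSeparated (D.map φ₁)
  have hpY₁ : IsAffineHom pY₁ :=
    MorphismProperty.of_isPullback (P := @IsAffineHom) hY₁.flip inferInstance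
  have hY₁c : CompactSpace Y₁ := QuasiCompact.compactSpace_of_compactSpace pY₁
  have hY₁q : QuasiSeparatedSpace Y₁ := quasiSeparatedSpace_of_quasiSeparated pY₁
  have hpX₁ : IsAffineHom pX₁ :=
    MorphismProperty.of_isPullback (P := @IsAffineHom) hX₁.flip hpY₁
  have hX₁c : CompactSpace X₁ := QuasiCompact.compactSpace_of_compactSpace pX₁
  have hX₁q : QuasiSeparatedSpace X₁ := quasiSeparatedSpace_of_quasiSeparated pX₁
  have hf₁ft : LocallyOfFiniteType f₁ :=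
    MorphismProperty.of_isPullback (P := @LocallyOfFiniteType) hX₁ inferInstance
  have hf₁qc : QuasiCompact f₁ := inferInstance
  -- Step 2: rebase to `i₁`
  obtain ⟨qY₁, qX₁, -, -, hY', hX'⟩ := Groth.Agent.R2.H87.LimProper.exists_rebase φ₁ hY hX hY₁ hX₁
  -- Step 3: Chow's lemma for `f₁`
  obtain ⟨n, X₁', π₁, j₁, hj₁, hcomm, hπp, hπs⟩ := Groth.Agent.S7409.result f₁
  have hb₁ : IsProper (CohB1.ProjSpaceOver.toBase n Y₁) := Groth.Agent.S9705.isProper_toBase n Y₁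
  have hP₁c : CompactSpace (CohB1.ProjSpaceOver n Y₁) :=
    QuasiCompact.compactSpace_of_compactSpace (CohB1.ProjSpaceOver.toBase n Y₁)
  have hP₁q : QuasiSeparatedSpace (CohB1.ProjSpaceOver n Y₁) :=
    quasiSeparatedSpace_of_quasiSeparated (CohB1.ProjSpaceOver.toBase n Y₁)
  have hX₁'c : CompactSpace X₁' := QuasiCompact.compactSpace_of_compactSpace π₁
  have hX₁'q : QuasiSeparatedSpace X₁' := quasiSeparatedSpace_of_quasiSeparated π₁
  -- Step 4: the limit level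
  have hP : IsPullback (Limits.pullback.fst (CohB1.ProjSpaceOver.toBase n Y₁) qY₁)
      (Limits.pullback.snd (CohB1.ProjSpaceOver.toBase n Y₁) qY₁) (CohB1.ProjSpaceOver.toBase n Y₁) qY₁ :=
    IsPullback.of_hasPullback _ _
  have hX'' : IsPullback (Limits.pullback.fst j₁ (Limits.pullback.fst (CohB1.ProjSpaceOver.toBase n Y₁) qY₁))
      (Limits.pullback.snd j₁ (Limits.pullback.fst (CohB1.ProjSpaceOver.toBase n Y₁) qY₁)) j₁
      (Limits.pullback.fst (CohB1.ProjSpaceOver.toBase n Y₁) qY₁) := IsPullback.of_hasPullback _ _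
  obtain ⟨ρ, hρ, hρpb⟩ := Groth.Agent.R2.H87.LimProper.exists_lift_isPullback hcomm hX' hP hX''
  have hρp : IsProper ρ := MorphismProperty.of_isPullback (P := @IsProper) hρpb hπp
  have hbp : IsProper (Limits.pullback.snd (CohB1.ProjSpaceOver.toBase n Y₁) qY₁) := inferInstance
  have hf'b : IsProper (Limits.pullback.snd j₁ (Limits.pullback.fst (CohB1.ProjSpaceOver.toBase n Y₁) qY₁) ≫
      Limits.pullback.snd (CohB1.ProjSpaceOver.toBase n Y₁) qY₁) := by
    rw [← hρ]; infer_instance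
  have hf'p : IsProper (Limits.pullback.snd j₁ (Limits.pullback.fst (CohB1.ProjSpaceOver.toBase n Y₁) qY₁)) :=
    IsProper.of_comp _ (Limits.pullback.snd (CohB1.ProjSpaceOver.toBase n Y₁) qY₁)
  have hf'i : IsImmersion (Limits.pullback.snd j₁ (Limits.pullback.fst (CohB1.ProjSpaceOver.toBase n Y₁) qY₁)) :=
    inferInstance
  have hf'c : IsClosedImmersion
      (Limits.pullback.snd j₁ (Limits.pullback.fst (CohB1.ProjSpaceOver.toBase n Y₁) qY₁)) :=
    IsClosedImmersion.of_isPreimmersion _ (Scheme.Hom.isClosedMap _).isClosed_range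
  have hPY : IsPullback (Limits.pullback.fst (CohB1.ProjSpaceOver.toBase n Y₁) qY₁)
      (Limits.pullback.snd (CohB1.ProjSpaceOver.toBase n Y₁) qY₁ ≫ g)
      (CohB1.ProjSpaceOver.toBase n Y₁ ≫ g₁) (c.π.app i₁) := hP.paste_vert hY'
  have hj₁ft : LocallyOfFiniteType j₁ := inferInstance
  obtain ⟨i₂, φ₂, X₂', P₂, f₂', g₂', pP₂, pX₂', hP₂, hX₂', hcl⟩ :=
    Groth.Agent.S9189.result D c hc i₁ j₁ (CohB1.ProjSpaceOver.toBase n Y₁ ≫ g₁) _ _ _ _ hPY hX''
  -- Step 5: the stage at `i₂`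
  have hY₂ : IsPullback (Limits.pullback.fst g₁ (D.map φ₂)) (Limits.pullback.snd g₁ (D.map φ₂)) g₁ (D.map φ₂) :=
    IsPullback.of_hasPullback _ _
  have hX₂ : IsPullback (Limits.pullback.fst f₁ (Limits.pullback.fst g₁ (D.map φ₂)))
      (Limits.pullback.snd f₁ (Limits.pullback.fst g₁ (D.map φ₂))) f₁ (Limits.pullback.fst g₁ (D.map φ₂)) :=
    IsPullback.of_hasPullback _ _
  have hcomm2 : (pP₂ ≫ CohB1.ProjSpaceOver.toBase n Y₁) ≫ g₁ = g₂' ≫ D.map φ₂ := by
    rw [Category.assoc, hP₂.w]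
  have hr1 : hY₂.lift (pP₂ ≫ CohB1.ProjSpaceOver.toBase n Y₁) g₂' hcomm2 ≫
      Limits.pullback.fst g₁ (D.map φ₂) = pP₂ ≫ CohB1.ProjSpaceOver.toBase n Y₁ := hY₂.lift_fst _ _ _
  have hr2 : hY₂.lift (pP₂ ≫ CohB1.ProjSpaceOver.toBase n Y₁) g₂' hcomm2 ≫
      Limits.pullback.snd g₁ (D.map φ₂) = g₂' := hY₂.lift_snd _ _ _
  have hr : IsPullback pP₂ (hY₂.lift (pP₂ ≫ CohB1.ProjSpaceOver.toBase n Y₁) g₂' hcomm2)
      (CohB1.ProjSpaceOver.toBase n Y₁) (Limits.pullback.fst g₁ (D.map φ₂)) := by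
    have hbig := hP₂
    rw [← hr2] at hbig
    exact IsPullback.of_bot hbig hr1.symm hY₂
  obtain ⟨ρ₂, hρ₂, hρ₂pb⟩ := Groth.Agent.R2.H87.LimProper.exists_lift_isPullback hcomm hX₂ hr hX₂'
  have hρ₂s : Surjective ρ₂ := MorphismProperty.of_isPullback (P := @Surjective) hρ₂pb hπs
  have hrp : IsProper (hY₂.lift (pP₂ ≫ CohB1.ProjSpaceOver.toBase n Y₁) g₂' hcomm2) :=
    MorphismProperty.of_isPullback (P := @IsProper) hr hb₁
  have huc : UniversallyClosed (ρ₂ ≫ Limits.pullback.snd f₁ (Limits.pullback.fst g₁ (D.map φ₂))) := by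
    rw [hρ₂]; infer_instance
  have huc2 : UniversallyClosed (Limits.pullback.snd f₁ (Limits.pullback.fst g₁ (D.map φ₂))) :=
    UniversallyClosed.of_comp_surjective ρ₂ _
  have hprop : IsProper (Limits.pullback.snd f₁ (Limits.pullback.fst g₁ (D.map φ₂))) := {}
  refine ⟨i₂, φ₂ ≫ φ₁, _, _, _, Limits.pullback.snd g₁ (D.map φ₂),
    Limits.pullback.fst g₁ (D.map φ₂) ≫ pY₁, _, ?_, hX₂.paste_horiz hX₁, hprop⟩
  rw [D.map_comp]
  exact hY₂.paste_horiz hY₁

end Groth.Agent.S2074
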