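import Groth.Statements.S9158
import Groth.Agent.R2.H41GenFreeRed
-- import your own Groth.Agent.* helpers here

set_option autoImplicit false
universe u
open CAlg

namespace Groth.Agent.S9158

open Groth.Agent.R2.H41.GenFreeRed in
/-- Generic freeness over a reduced ring: let R → S be of finite type with R reduced and M a finite
S-module. There is a dense open subset U of Spec R such that each point of U lies in a basic open
D(f) ⊆ U with M_f and S_f free over R_f, S_f of finite presentation over R_f, and M_f of finite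
presentation over S_f. -/
theorem result (R S : Type u) [CommRing R] [IsReduced R] [CommRing S]
    [Algebra R S] [Algebra.FiniteType R S] (M : Type u) [AddCommGroup M] [Module S M] [Module R M]
    [IsScalarTower R S M] [Module.Finite S M] :
    ∃ U : Set (PrimeSpectrum R), IsOpen U ∧ Dense U ∧ ∀ u ∈ U, ∃ f : R, f ∉ u.asIdeal ∧
      (PrimeSpectrum.basicOpen f : Set (PrimeSpectrum R)) ⊆ U ∧
      Module.Free (Localization.Away f) (LocalizedModule (Submonoid.powers f) M) ∧
      Module.Free (Localization.Away f) (LocalizedModule (Submonoid.powers f) S) ∧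
      (Localization.awayMap (algebraMap R S) f).FinitePresentation ∧
      Module.FinitePresentation (Localization.Away (algebraMap R S f))
        (LocalizedModule (Submonoid.powers (algebraMap R S f)) M) := by
  classical
  let Good : R → Prop := fun f =>
    Module.Free (Localization.Away f) (LocalizedModule (Submonoid.powers f) M) ∧
      Module.Free (Localization.Away f) (LocalizedModule (Submonoid.powers f) S) ∧
      (Localization.awayMap (algebraMap R S) f).FinitePresentation ∧
      Module.FinitePresentation (Localization.Away (algebraMap R S f))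
        (LocalizedModule (Submonoid.powers (algebraMap R S f)) M)
  have hgood : ∀ g₀ : R, g₀ ≠ 0 → ∃ f : R, f ≠ 0 ∧ g₀ ∣ f ∧ Good f := by
    intro g₀ hg₀
    obtain ⟨f, hf, hg₀f, ⟨ι₁, v₁, hS⟩, ⟨ι₂, v₂, hM⟩, ⟨n, φ, G, hφ, hG0, hker⟩,
      ⟨r, mgen, V, hgen, hV0, hV⟩⟩ := exists_basisAway R S M g₀ hg₀
    refine ⟨f, hf, hg₀f, ?_, ?_, ?_, ?_⟩
    · exact hM.free (Localization.Away f) (LocalizedModule.mkLinearMap (Submonoid.powers f) M)
    · exact hS.free (Localization.Away f) (LocalizedModule.mkLinearMap (Submonoid.powers f) S)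
    · exact awayMap_finitePresentation f
        (Groth.Agent.Lib.Helper2.GenFree.finitePresentation_tensor φ hφ f G hG0 hker
          (Localization.Away f))
    · refine Groth.Agent.Lib.Helper2.GenFree.finitePresentation_localizedModule
        (algebraMap R S f) mgen hgen V hV0 fun a ha => ?_
      obtain ⟨k, hk⟩ := hV a ha
      refine ⟨k, ?_⟩
      rw [← map_pow, algebraMap_smul]
      exact hk
  refine ⟨⋃ f ∈ {f : R | Good f}, (PrimeSpectrum.basicOpen f : Set (PrimeSpectrum R)), ?_, ?_, ?_⟩
  · exact isOpen_biUnion fun f _ => (PrimeSpectrum.basicOpen f).isOpen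
  · rw [PrimeSpectrum.isTopologicalBasis_basic_opens.dense_iff]
    rintro _ ⟨g₀, rfl⟩ hne
    have hg₀ : g₀ ≠ 0 := by
      rintro rfl
      obtain ⟨x, hx⟩ := hne
      exact hx (Ideal.zero_mem _)
    obtain ⟨f, hf, hg₀f, hGood⟩ := hgood g₀ hg₀
    have hfne : (PrimeSpectrum.basicOpen f : Set (PrimeSpectrum R)).Nonempty := by
      rw [Set.nonempty_iff_ne_empty]
      intro h
      have h' : PrimeSpectrum.basicOpen f = ⊥ := TopologicalSpace.Opens.ext h
      rw [PrimeSpectrum.basicOpen_eq_bot_iff] at h'
      exact hf h'.eq_zero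
    obtain ⟨x, hx⟩ := hfne
    refine ⟨x, ?_, Set.mem_biUnion hGood hx⟩
    intro hmem
    obtain ⟨c, rfl⟩ := hg₀f
    exact hx (Ideal.mul_mem_right _ _ hmem)
  · intro u hu
    obtain ⟨f, hfG, huf⟩ := Set.mem_iUnion₂.mp hu
    exact ⟨f, huf, Set.subset_biUnion_of_mem (u := fun f => (PrimeSpectrum.basicOpen f : Set (PrimeSpectrum R))) hfG, hfG⟩

end Groth.Agent.S9158
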