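import Groth.Statements.S1687
import Groth.Agent.R2.H8AffCompl2
import Groth.Agent.Lib.Helper4PunctAffine3

set_option autoImplicit false
set_option linter.style.haveILetI false
universe u
open CategoryTheory CategoryTheory.Limits AlgebraicGeometry TopologicalSpace
open SDiv

namespace Groth.Agent.S1687

/-- Let X be a Noetherian scheme with affine diagonal (the intersection of any two affine opens is
affine), U a dense affine open subset, and suppose the local ring of X at every point outside U is a
unique factorisation domain. Then there is an effective Cartier divisor whose support is exactly X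
minus U. -/
theorem result (X : Scheme.{u}) [IsNoetherian X]
    (hΔ : ∀ V W : X.Opens, IsAffineOpen V → IsAffineOpen W → IsAffineOpen (V ⊓ W)) (U : X.Opens) (hU : IsAffineOpen U)
    (hdense : Dense (U : Set ↥X))
    (hufd : ∀ x : ↥X, x ∉ U → IsDomain (X.presheaf.stalk x) ∧ UniqueFactorizationMonoid (X.presheaf.stalk x)) :
    ∃ 𝓘 : X.IdealSheafData, BlowUp.IsEffCartierIdeal 𝓘 ∧ (𝓘.support : Set ↥X) = (U : Set ↥X)ᶜ := by
  haveI : IsAffineHom U.ι := by
    constructor
    intro V hV
    have h1 : IsAffineOpen (V ⊓ U) := hΔ V U hV hU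
    have h2 : U.ι ⁻¹ᵁ V = U.ι ⁻¹ᵁ (V ⊓ U) := by
      ext y
      constructor
      · intro hy
        exact ⟨hy, y.2⟩
      · intro hy
        exact hy.1
    rw [h2]
    exact h1.preimage_of_isOpenImmersion U.ι (by rw [Scheme.Opens.opensRange_ι]; exact inf_le_right)
  exact Groth.Agent.R2.H8.AffCompl.exists_effCartier_compl U hdense hufd
    (fun ξ hξ hmax =>
      Groth.Agent.Lib.Helper4.PunctAffine.ringKrullDim_stalk_le_one_of_isAffineHom X U ξ hξ hmax)

end Groth.Agent.S1687
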