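import Groth.Statements.S18468
import Groth.Agent.R2.H90OortTate
import Groth.Agent.S18467

set_option autoImplicit false
universe u
open OortTate

namespace Groth.Agent.S18468

/-- Let p be a prime, R a commutative ring containing u with u(p − 1) = 1, and χ a homomorphism from the
units of ℤ/p to the units of R such that χ(m) − 1 is a unit for every m ≠ 1 (the situation of an
algebra over the subring Λ_p of the p-adic integers generated by the Teichmüller values and 1/(p(p −
1)), with χ the Teichmüller character, which is the published setting). Let A be a commutative Hopf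
algebra over R such that the p-th convolution power of the identity of A is the neutral element ε
followed by the unit (the affine group G = Spec A is killed by p), so that for a unit m of ℤ/p the
power map [m] of A depends only on m. For 0 ≤ i < p − 1 let I_i ⊆ A be the submodule of those f with
ε(f) = 0 and [m]f = χ(m)^i f for every m. Then the augmentation ideal ker ε is the internal direct
sum of the I_i (the family is independent and its supremum is ker ε), and each I_i is the image of
ker ε under the averaging operator u Σ_m χ(m)^{−i}[m]. (The published statement is for the Hopf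
algebra of a group scheme of order p over a Λ_p-algebra, which is commutative and killed by p; the
hypotheses here are what the argument uses.) -/
theorem result
    (p : ℕ) [Fact p.Prime] (R : Type u) [CommRing R] (u : R) (hu : u * ((p - 1 : ℕ) : R) = 1)
    (χ : (ZMod p)ˣ →* Rˣ) (hχ : ∀ m : (ZMod p)ˣ, m ≠ 1 → IsUnit ((χ m : R) - 1))
    (A : Type u) [CommRing A] [HopfAlgebra R A]
    (hp : (WithConv.toConv (AlgHom.id R A)) ^ p = 1) :
    iSupIndep (fun i : Fin (p - 1) => OortTate.eigenAug R A p χ (i : ℕ)) ∧
      (⨆ i : Fin (p - 1), OortTate.eigenAug R A p χ (i : ℕ)) =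
        LinearMap.ker (Bialgebra.counitAlgHom R A).toLinearMap ∧
      ∀ i : Fin (p - 1), OortTate.eigenAug R A p χ (i : ℕ) =
        Submodule.map (OortTate.proj R A p u χ (i : ℕ))
          (LinearMap.ker (Bialgebra.counitAlgHom R A).toLinearMap) := by
  classical
  have hcoi := Groth.Agent.S18467.result p R u hu χ hχ
  let φ := Groth.Agent.R2.H90.OortTate.unitsAct (R := R) (A := A) (p := p) hp
  let ρ : MonoidAlgebra R (ZMod p)ˣ →ₐ[R] Module.End R A := MonoidAlgebra.lift R (Module.End R A) (ZMod p)ˣ φ
  have hρ : ∀ i : ℕ, ρ (u • ∑ m : (ZMod p)ˣ, ((χ m⁻¹ : Rˣ) : R) ^ i • MonoidAlgebra.of R (ZMod p)ˣ m) =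
      OortTate.proj R A p u χ i := by
    intro i
    rw [map_smul, map_sum]
    simp only [map_smul, MonoidAlgebra.lift_of, ρ]
    rfl
  have hE := hcoi.map ρ.toRingHom
  -- notation
  set E : Fin (p - 1) → Module.End R A := fun i => OortTate.proj R A p u χ (i : ℕ) with hEdef
  have hE' : CompleteOrthogonalIdempotents E := by
    have : E = (ρ.toRingHom ∘ fun i : Fin (p - 1) =>
        u • ∑ m : (ZMod p)ˣ, ((χ m⁻¹ : Rˣ) : R) ^ (i : ℕ) • MonoidAlgebra.of R (ZMod p)ˣ m) := by
      funext i
      exact (hρ i).symm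
    rw [this]; exact hE
  -- basic facts on the eigen-submodules
  have hcard : Fintype.card (ZMod p)ˣ = p - 1 := ZMod.card_units p
  have hmem : ∀ (i : ℕ) (f : A), f ∈ OortTate.eigenAug R A p χ i ↔
      Coalgebra.counit (R := R) f = 0 ∧ ∀ m : (ZMod p)ˣ, φ m f = ((χ m : Rˣ) : R) ^ i • f := by
    intro i f
    simp only [OortTate.eigenAug, Submodule.mem_inf, LinearMap.mem_ker, Submodule.mem_iInf,
      Module.End.mem_eigenspace_iff]
    rfl
  have hproj_apply : ∀ (i : ℕ) (f : A), OortTate.proj R A p u χ i f =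
      u • ∑ m : (ZMod p)ˣ, ((χ m⁻¹ : Rˣ) : R) ^ i • φ m f := by
    intro i f
    simp only [OortTate.proj, LinearMap.smul_apply, LinearMap.sum_apply]
    rfl
  have hχinv : ∀ (m : (ZMod p)ˣ) (i : ℕ), ((χ m⁻¹ : Rˣ) : R) ^ i * ((χ m : Rˣ) : R) ^ i = 1 := by
    intro m i
    rw [← mul_pow, ← Units.val_mul, ← map_mul, inv_mul_cancel, map_one, Units.val_one, one_pow]
  -- F1 : proj i fixes eigenAug i
  have F1 : ∀ (i : ℕ) (f : A), f ∈ OortTate.eigenAug R A p χ i → OortTate.proj R A p u χ i f = f := by
    intro i f hf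
    rw [hproj_apply]
    have h2 : ∀ m : (ZMod p)ˣ, ((χ m⁻¹ : Rˣ) : R) ^ i • φ m f = f := by
      intro m
      rw [((hmem i f).1 hf).2 m, smul_smul, hχinv, one_smul]
    rw [Finset.sum_congr rfl (fun m _ => h2 m), Finset.sum_const, Finset.card_univ, hcard,
      ← Nat.cast_smul_eq_nsmul R, smul_smul, hu, one_smul]
  -- F2 : proj i maps ker ε into eigenAug i
  have F2 : ∀ (i : ℕ) (f : A), Coalgebra.counit (R := R) f = 0 →
      OortTate.proj R A p u χ i f ∈ OortTate.eigenAug R A p χ i := by
    intro i f hf
    rw [hmem]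
    constructor
    · rw [hproj_apply, map_smul, map_sum]
      have : ∀ m : (ZMod p)ˣ, Coalgebra.counit (R := R) (((χ m⁻¹ : Rˣ) : R) ^ i • φ m f) = 0 := by
        intro m
        rw [map_smul, Groth.Agent.R2.H90.OortTate.unitsAct_apply,
          Groth.Agent.R2.H90.OortTate.counit_powConv, hf, smul_zero]
      rw [Finset.sum_congr rfl (fun m _ => this m), Finset.sum_const_zero, smul_zero]
    · intro m'
      rw [hproj_apply, map_smul, map_sum, Finset.smul_sum, Finset.smul_sum, Finset.smul_sum]
      rw [← Equiv.sum_comp (Equiv.mulLeft m') (fun m => ((χ m' : Rˣ) : R) ^ i • u • ((χ m⁻¹ : Rˣ) : R) ^ i • φ m f)]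
      refine Finset.sum_congr rfl fun m _ => ?_
      simp only [Equiv.coe_mulLeft, map_smul]
      have h3 : φ m' (φ m f) = φ (m' * m) f := by
        rw [map_mul]; rfl
      rw [h3, smul_smul, smul_smul, smul_smul]
      congr 1
      have h4 : ((χ (m' * m)⁻¹ : Rˣ) : R) ^ i = ((χ m'⁻¹ : Rˣ) : R) ^ i * ((χ m⁻¹ : Rˣ) : R) ^ i := by
        rw [mul_inv, map_mul, Units.val_mul, mul_pow]
      rw [h4]
      have h5 := hχinv m' i
      calc u * ((χ m⁻¹ : Rˣ) : R) ^ i
          = (((χ m'⁻¹ : Rˣ) : R) ^ i * ((χ m' : Rˣ) : R) ^ i) * (u * ((χ m⁻¹ : Rˣ) : R) ^ i) := by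
            rw [h5, one_mul]
        _ = ((χ m' : Rˣ) : R) ^ i * u * (((χ m'⁻¹ : Rˣ) : R) ^ i * ((χ m⁻¹ : Rˣ) : R) ^ i) := by ring
  have hle : ∀ i : ℕ, OortTate.eigenAug R A p χ i ≤
      LinearMap.ker (Bialgebra.counitAlgHom R A).toLinearMap := fun i => inf_le_left
  have hcounit_mem : ∀ f : A, f ∈ LinearMap.ker (Bialgebra.counitAlgHom R A).toLinearMap ↔
      Coalgebra.counit (R := R) f = 0 := fun f => Iff.rfl
  refine ⟨?_, ?_, ?_⟩
  · -- independence
    rw [iSupIndep_def]
    intro i
    rw [Submodule.disjoint_def]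
    intro x hxi hx
    have hker : (⨆ j, ⨆ (_ : j ≠ i), OortTate.eigenAug R A p χ (j : ℕ)) ≤ LinearMap.ker (E i) := by
      refine iSup_le fun j => iSup_le fun hji => ?_
      intro y hy
      rw [LinearMap.mem_ker]
      have hy' : E j y = y := F1 j y hy
      rw [← hy']
      have := hE'.ortho (Ne.symm hji)
      change E i * E j = 0 at this
      rw [← Module.End.mul_apply, this, LinearMap.zero_apply]
    have h0 : E i x = 0 := LinearMap.mem_ker.mp (hker hx)
    rw [← F1 i x hxi]
    exact h0
  · apply le_antisymm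
    · exact iSup_le fun i => hle i
    · intro f hf
      have hsum : f = ∑ i : Fin (p - 1), E i f := by
        have := congrArg (fun g : Module.End R A => g f) hE'.complete
        simp only [LinearMap.sum_apply, Module.End.one_apply] at this
        exact this.symm
      rw [hsum]
      refine Submodule.sum_mem _ fun i _ => ?_
      exact Submodule.mem_iSup_of_mem i (F2 i f ((hcounit_mem f).1 hf))
  · intro i
    apply le_antisymm
    · intro f hf
      exact ⟨f, hle i hf, F1 i f hf⟩
    · rintro _ ⟨f, hf, rfl⟩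
      exact F2 i f ((hcounit_mem f).1 hf)

end Groth.Agent.S18468
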