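import Groth.Statements.S18733
import Groth.Agent.R2.H92Colon

set_option autoImplicit false
universe u
open CategoryTheory CategoryTheory.Limits AlgebraicGeometry TopologicalSpace
open ModPair

namespace Groth.Agent.S18733

open Groth.Agent.R2.H92.Colon

/-- Let D₁, D₂ be effective Cartier divisors on a scheme X, with quasi-coherent ideal sheaves I₁, I₂,
such that the scheme-theoretic intersection E = D₁ ×_X D₂ (ideal sheaf I₁ ⊔ I₂) is again an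
effective Cartier divisor. Then (1) the divisors D₁ − E and D₂ − E are effective and disjoint: there
are ideal sheaves I₁', I₂' of effective Cartier divisors with I₁ = I₁'·(I₁ ⊔ I₂), I₂ = I₂'·(I₁ ⊔ I₂)
and I₁' ⊔ I₂' = ⊤; and (2) the effective Cartier divisor D₁ + D₂ − E, with ideal sheaf I₁'·I₂'·(I₁ ⊔
I₂), is contained in every effective Cartier divisor D of X containing D₁ and D₂: if the ideal sheaf
of D is ≤ I₁ and ≤ I₂ then it is ≤ I₁'·I₂'·(I₁ ⊔ I₂). -/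
theorem result {X : Scheme.{u}} (I₁ I₂ : X.IdealSheafData)
    (h₁ : BlowUp.IsEffCartierIdeal I₁) (h₂ : BlowUp.IsEffCartierIdeal I₂)
    (hE : BlowUp.IsEffCartierIdeal (I₁ ⊔ I₂)) :
    ∃ I₁' I₂' : X.IdealSheafData, BlowUp.IsEffCartierIdeal I₁' ∧ BlowUp.IsEffCartierIdeal I₂' ∧
      I₁ = I₁' * (I₁ ⊔ I₂) ∧ I₂ = I₂' * (I₁ ⊔ I₂) ∧ I₁' ⊔ I₂' = ⊤ ∧
      ∀ D : X.IdealSheafData, BlowUp.IsEffCartierIdeal D → D ≤ I₁ → D ≤ I₂ →
        D ≤ I₁' * I₂' * (I₁ ⊔ I₂) := by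
  have hft := ft_of_isEffCartierIdeal hE
  -- local generators on a cover
  choose U hxU f₁ f₂ e hf₁ hf₂ he hI₁ hI₂ hIE using exists_common_gen h₁ h₂ hE
  have hcov : ⨆ x, (U x).1 = ⊤ :=
    top_le_iff.mp fun x _ => Opens.mem_iSup.mpr ⟨x, hxU x⟩
  have hspan : ∀ x, Ideal.span {e x} = Ideal.span {f₁ x} ⊔ Ideal.span {f₂ x} := fun x => by
    rw [← hIE, ← hI₁, ← hI₂]
    rfl
  choose g₁ g₂ hg₁ hg₂ _ hfg₁ hfg₂ htop hc₁ hc₂ hinf using fun x =>
    coprime_residual (hf₁ x) (hf₂ x) (hspan x)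
  have hJ₁ : ∀ x, (colon I₁ (I₁ ⊔ I₂) hft).ideal (U x) = Ideal.span {g₁ x} := fun x => by
    rw [ideal_colon, hIE, hI₁, hc₁]
  have hJ₂ : ∀ x, (colon I₂ (I₁ ⊔ I₂) hft).ideal (U x) = Ideal.span {g₂ x} := fun x => by
    rw [ideal_colon, hIE, hI₂, hc₂]
  refine ⟨colon I₁ (I₁ ⊔ I₂) hft, colon I₂ (I₁ ⊔ I₂) hft, ?_, ?_, ?_, ?_, ?_, ?_⟩
  · exact fun x => ⟨U x, hxU x, g₁ x, hg₁ x, hJ₁ x⟩
  · exact fun x => ⟨U x, hxU x, g₂ x, hg₂ x, hJ₂ x⟩
  · refine Scheme.IdealSheafData.ext_of_iSup_eq_top U hcov fun x => ?_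
    rw [Scheme.IdealSheafData.ideal_mul, Pi.mul_apply, hJ₁, hIE, hI₁,
      Ideal.span_singleton_mul_span_singleton, ← hfg₁]
  · refine Scheme.IdealSheafData.ext_of_iSup_eq_top U hcov fun x => ?_
    rw [Scheme.IdealSheafData.ideal_mul, Pi.mul_apply, hJ₂, hIE, hI₂,
      Ideal.span_singleton_mul_span_singleton, ← hfg₂]
  · refine Scheme.IdealSheafData.ext_of_iSup_eq_top U hcov fun x => ?_
    rw [Scheme.IdealSheafData.ideal_sup, Pi.sup_apply, hJ₁, hJ₂, htop]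
    rfl
  · intro D _ hD₁ hD₂
    refine Scheme.IdealSheafData.le_of_iSup_eq_top U hcov fun x => ?_
    rw [Scheme.IdealSheafData.ideal_mul, Pi.mul_apply, Scheme.IdealSheafData.ideal_mul,
      Pi.mul_apply, hJ₁, hJ₂, hIE, Ideal.span_singleton_mul_span_singleton,
      Ideal.span_singleton_mul_span_singleton]
    refine le_trans ?_ (hinf x)
    rw [← hI₁, ← hI₂]
    exact le_inf (hD₁ (U x)) (hD₂ (U x))

end Groth.Agent.S18733
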