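import Groth.Statements.S18738
import Groth.Agent.R2.H92ModPair
import Groth.Agent.S18735

set_option autoImplicit false
universe u
open CategoryTheory CategoryTheory.Limits AlgebraicGeometry TopologicalSpace
open ModPair

namespace Groth.Agent.S18738

open Groth.Agent.R2.H92.ModPair

/-- identities are admissible blow-ups -/
theorem isAdmBlowup_id {X : Scheme.{u}} (I : X.IdealSheafData) :
    ModPair.IsAdmBlowup I I (𝟙 X) := by
  refine ⟨(Scheme.IdealSheafData.comap_id I).symm, inferInstance, ?_⟩
  infer_instance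

/-- admissible blow-ups compose -/
theorem isAdmBlowup_comp {X Y Z : Scheme.{u}} {I : X.IdealSheafData} {J : Y.IdealSheafData}
    {K : Z.IdealSheafData} {f : X ⟶ Y} {g : Y ⟶ Z} (hf : ModPair.IsAdmBlowup I J f)
    (hg : ModPair.IsAdmBlowup J K g) : ModPair.IsAdmBlowup I K (f ≫ g) := by
  obtain ⟨hf1, hf2, hf3⟩ := hf
  obtain ⟨hg1, hg2, hg3⟩ := hg
  have hf1' : I = J.comap f := hf1
  have hg1' : J = K.comap g := hg1
  refine ⟨?_, inferInstance, ?_⟩
  · show I = K.comap (f ≫ g)
    rw [Scheme.IdealSheafData.comap_comp, ← hg1', ← hf1']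
  · rw [morphismRestrict_comp]
    have hU : g ⁻¹ᵁ ModPair.interior K = ModPair.interior J := by
      rw [← Groth.Agent.S18743.interior_comap, ← hg1']
    have : IsIso (f ∣_ g ⁻¹ᵁ ModPair.interior K) := by
      rw [hU]
      exact hf3
    exact IsIso.comp_isIso' this hg3

/-- In the category of modulus pairs and ambient morphisms, the class Σ of abstract admissible blow-ups
(minimal, proper, an isomorphism over the interior of the target) admits a calculus of right
fractions: it contains the identities and is stable under composition; every pair X' ⟶ X ⟵ Y with X'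
⟶ X in Σ can be completed to a commutative square with a morphism Y' ⟶ Y in Σ; and two ambient
morphisms f, g : X ⟶ Y equalized by some Y ⟶ Z in Σ are equalized by some X' ⟶ X in Σ. -/
theorem result :
    (ModPair.Pair.admBlowup.{u}).HasRightCalculusOfFractions := by
  refine { id_mem := ?_, comp_mem := ?_, exists_rightFraction := ?_, ext := ?_ }
  · intro P
    exact isAdmBlowup_id P.mod
  · intro P Q R f g hf hg
    exact isAdmBlowup_comp hf hg
  · intro P Q φ
    obtain ⟨h1, h2, h3⟩ := Groth.Agent.S18735.result φ.Y'.mod P.mod Q.mod φ.Y'.isEffCartier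
      P.isEffCartier Q.isEffCartier φ.f.hom φ.f.cond φ.s.hom φ.hs
    let P' : ModPair.Pair.{u} := ⟨_, _, h1⟩
    refine ⟨⟨(⟨_, le_rfl⟩ : P' ⟶ P), h2, (⟨_, h3⟩ : P' ⟶ Q)⟩, ?_⟩
    apply ModPair.Pair.Hom.ext
    show (ModPair.mprodι φ.s.hom φ.f.hom Q.mod P.mod ≫ pullback.snd φ.s.hom φ.f.hom) ≫ φ.f.hom =
      (ModPair.mprodι φ.s.hom φ.f.hom Q.mod P.mod ≫ pullback.fst φ.s.hom φ.f.hom) ≫ φ.s.hom
    rw [Category.assoc, Category.assoc, pullback.condition]
  · intro P Q R f₁ f₂ s hs h
    refine ⟨P, 𝟙 P, isAdmBlowup_id P.mod, ?_⟩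
    rw [Category.id_comp, Category.id_comp]
    apply ModPair.Pair.Hom.ext
    obtain ⟨hs1, hs2, hs3⟩ := hs
    have hsep : IsSeparated s.hom := inferInstance
    have h' : f₁.hom ≫ s.hom = f₂.hom ≫ s.hom := congrArg ModPair.Pair.Hom.hom h
    have hdom := Groth.Agent.S18743.isSchemeTheoreticallyDominant_interior P.mod P.isEffCartier
    refine ext_of_isSchemeTheoreticallyDominant_of_isSeparated s.hom h'
      (ModPair.interior P.mod).ι ?_
    have : IsIso (s.hom ∣_ ModPair.interior R.mod) := hs3
    apply eq_of_comp_eq_of_isIso_morphismRestrict s.hom (ModPair.interior R.mod)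
    · rw [Category.assoc, Category.assoc, h']
    · intro z
      rw [Category.assoc]
      exact interior_le_preimage_of_isAmbient (f₁ ≫ s).cond z.2

end Groth.Agent.S18738
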