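import Groth.Statements.S10281
import Groth.Agent.S10278
import Groth.Agent.S10279
import Groth.Agent.S9915
import Groth.Agent.S9928
import Groth.Agent.S10301
import Groth.Agent.Lib.Helper12Proper
import Groth.Agent.R2.H95QcChartEx

set_option autoImplicit false
set_option linter.style.haveILetI false
universe u
open CategoryTheory CategoryTheory.Limits AlgebraicGeometry
open AlgSp

namespace Groth.Agent.S10281

open Groth.Agent.R2.H95.QcCh Groth.Agent.Lib.Helper12.Proper

/-- The scheme theoretic image of a space proper over B in a space separated and locally of finite type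
over B is proper over B, and the source surjects onto it. -/
theorem result {S : Scheme.{u}} {X Y Z B : AlgSp.Space S} (h : X ⟶ Y) (f : X ⟶ B)
    (g : Y ⟶ B) (comm : h ≫ g = f) (hf : AlgSp.IsProperMor f.hom) (hg : AlgSp.IsSeparatedMor g.hom)
    (hg' : AlgSp.LocP @LocallyOfFiniteType g.hom) (i : Z ⟶ Y) (hZ : AlgSp.IsSchImage h.hom i.hom)
    (h' : X ⟶ Z) (fac : h' ≫ i = h) :
    AlgSp.IsProperMor (i ≫ g).hom ∧ AlgSp.IsSurjectiveMor h'.hom := by
  have key := Groth.Agent.S10278.result h f g comm hg
  have hh : AlgSp.IsProperMor h.hom := key.2 hf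
  have hcl : IsClosed (Set.range (AlgSp.Points.map h.hom)) := (key.1 hf.2.2).2
  -- `h'` is surjective
  obtain ⟨c⟩ := exists_qcChart Y.property h.hom hh.2.1.2
  have hsub := c.range_subset_closure Y.property i.hom Z.property hZ
  rw [hcl.closure_eq] at hsub
  have hinj : Function.Injective (AlgSp.Points.map i.hom) :=
    Groth.Agent.S10301.injective_map_of_repWith (P := @IsClosedImmersion)
      (fun _ _ g hg => by haveI : IsClosedImmersion g := hg; exact g.isEmbedding.injective)
      i.hom hZ.1
  have hfac : h'.hom ≫ i.hom = h.hom := by rw [← fac]; rfl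
  have hsurj : AlgSp.IsSurjectiveMor h'.hom := by
    intro z
    obtain ⟨x, hx⟩ := hsub ⟨z, rfl⟩
    refine ⟨x, hinj ?_⟩
    rw [← hx, ← hfac, AlgSp.Points.map_comp]
  refine ⟨?_, hsurj⟩
  have hcomm' : h' ≫ (i ≫ g) = f := by rw [← Category.assoc, fac, comm]
  haveI : Mono i.hom := Groth.Agent.S9928.mono_of_repWith @IsClosedImmersion
    (fun _ _ g hg => by haveI : IsClosedImmersion g := hg; infer_instance) i.hom hZ.1
  have e : (i ≫ g).hom = i.hom ≫ g.hom := rfl
  refine ⟨?_, ⟨?_, ?_⟩, ?_⟩
  · rw [e]
    exact isSeparatedMor_comp _ _ (isSeparatedMor_of_mono i.hom) hg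
  · rw [e]
    exact locP_lft_comp Y.property B.property i.hom g.hom
      (locP_lft_of_isClosedImmersion Y.property i.hom hZ.1) hg'
  · exact Groth.Agent.S9915.result h' f (i ≫ g) hcomm' hsurj hf.2.1.2
  · exact Groth.Agent.S10279.result h' f (i ≫ g) hcomm' hf.2.2 hsurj

end Groth.Agent.S10281
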