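import Groth.Statements.S10609
import Groth.Agent.R2.H93FlatBC
import Groth.Agent.R2.H93ChartCube
import Groth.Agent.R2.H93GorSch
import Groth.Agent.R2.H45HasAtMor
import Groth.Agent.S10176
import Groth.Agent.S0386

set_option autoImplicit false
set_option linter.style.haveILetI false
universe u
open CategoryTheory CategoryTheory.Limits AlgebraicGeometry
open AlgSp

namespace Groth.Agent.S10609

open Groth.Agent.R2.H45.HasAtMor Groth.Agent.R2.H93.GorSch Groth.Agent.R2.H93.ChartCube
  Groth.Agent.R2.H93.FlatBC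

/-- flatness at a point of a morphism of algebraic spaces can be tested on one chart diagram. -/
lemma isFlatAtMor_iff_of_diagram {S : Scheme.{u}} {F G : AlgSp.Space S} (φ : F ⟶ G) {U V : Over S}
    (a : (AlgSp.yon S).obj U ⟶ F.obj) (b : (AlgSp.yon S).obj V ⟶ G.obj) (h : U ⟶ V)
    (ha : AlgSp.RepWith @Etale a) (hb : AlgSp.RepWith @Etale b)
    (comm : a ≫ φ.hom = (AlgSp.yon S).map h ≫ b) (u : ↥U.left) :
    AlgSp.IsFlatAtMor φ.hom (AlgSp.Points.ofPt a u) ↔ (h.left.stalkMap u).hom.Flat := by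
  constructor
  · intro H
    exact H a b h u ha hb comm rfl
  · intro H T T' α β γ t hα hβ hγ ht
    exact (hasAtMor_iff_forall_diagram etSqInv_flatAt F.property G.property φ.hom _).1
      ⟨U, V, a, b, h, u, ha, hb, comm, rfl, H⟩ T T' α β γ t hα hβ hγ ht

/-- Let f : X ⟶ Y and h : Y ⟶ Z be morphisms of algebraic spaces over S with X locally of finite
presentation and flat over Z and Y locally of finite type over Z. Then the set of points of X at
which f is flat is open in the space of points of X, and its formation commutes with base change: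
for Z' ⟶ Z and pullback squares Y' = Y ×_Z Z', X' = X ×_Y Y', the set of points of X' at which X' ⟶
Y' is flat is the inverse image of that set under the map on points of X' ⟶ X. -/
theorem result {S : Scheme.{u}} {X Y Z : AlgSp.Space S} (f : X ⟶ Y) (h : Y ⟶ Z)
    (hfp : AlgSp.LocP @LocallyOfFinitePresentation (f ≫ h).hom) (hfl : AlgSp.LocP @Flat (f ≫ h).hom)
    (hft : AlgSp.LocP @LocallyOfFiniteType h.hom) :
    IsOpen {x : AlgSp.Points X.obj | AlgSp.IsFlatAtMor f.hom x} ∧
    ∀ (X' Y' Z' : AlgSp.Space S) (g : Z' ⟶ Z) (f' : X' ⟶ Y') (h' : Y' ⟶ Z') (pX : X' ⟶ X) (pY : Y' ⟶ Y),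
      IsPullback pY.hom h'.hom h.hom g.hom → IsPullback pX.hom f'.hom f.hom pY.hom →
      {x' : AlgSp.Points X'.obj | AlgSp.IsFlatAtMor f'.hom x'} =
        AlgSp.Points.map pX.hom ⁻¹' {x : AlgSp.Points X.obj | AlgSp.IsFlatAtMor f.hom x} := by
  have hcomp : (f ≫ h).hom = f.hom ≫ h.hom := rfl
  refine ⟨?_, ?_⟩
  · rw [isOpen_iff_forall_mem_open]
    intro x hx
    obtain ⟨U, V, W, a, b, c, k1, k2, u, ha, hb, hc, c1, c2, c3, hu, hu'⟩ :=
      exists_diagram_comp X.property Y.property Z.property f.hom h.hom x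
    have c3' : a ≫ (f ≫ h).hom = (AlgSp.yon S).map (k1 ≫ k2) ≫ c := by rw [hcomp]; exact c3
    haveI : LocallyOfFinitePresentation (k1.left ≫ k2.left) := hfp a c (k1 ≫ k2) ha hc c3'
    haveI : LocallyOfFiniteType k2.left := hft b c k2 hb hc c2
    haveI : LocallyOfFinitePresentation k1.left :=
      Groth.Agent.Lib.Helper6.locallyOfFinitePresentation_of_comp (g := k2.left)
        inferInstance inferInstance
    have hO : IsOpen {u : ↥U.left | (k1.left.stalkMap u).hom.Flat} :=
      Groth.Agent.S0386.result k1.left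
    refine ⟨AlgSp.Points.ofPt a '' {u : ↥U.left | (k1.left.stalkMap u).hom.Flat}, ?_,
      Groth.Agent.S10176.isOpenMap_ofPt a ha _ hO, ⟨u, ?_, hu⟩⟩
    · rintro _ ⟨u1, hu1, rfl⟩
      exact (isFlatAtMor_iff_of_diagram f a b k1 ha hb c1 u1).mpr hu1
    · subst hu
      exact (isFlatAtMor_iff_of_diagram f a b k1 ha hb c1 u).mp hx
  · intro X' Y' Z' g f' h' pX pY sqY sqX
    ext x'
    change AlgSp.IsFlatAtMor f'.hom x' ↔ AlgSp.IsFlatAtMor f.hom (AlgSp.Points.map pX.hom x')
    obtain ⟨V, W, W', V', b, c, c', k, κ, p1, p2, b', v', hb, hc, hc', hb', e1, e2, e3, e4, sqV,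
      hv', -⟩ := exists_baseChange_diagram_through Y.property Z.property Z'.property sqY
        (AlgSp.Points.map f'.hom x')
    obtain ⟨U, a, h₁, a', w, ha, ha', d1, d2, d3, hw, hwv⟩ :=
      exists_baseChange_diagram_over X.property Y.property sqX b b' p1 hb hb' e4 x' v' hv'
    have sqX_s : IsPullback (pullback.fst h₁ p1).left (pullback.snd h₁ p1).left h₁.left p1.left :=
      (IsPullback.of_hasPullback h₁ p1).map (Over.forget S)
    have d4 : a ≫ (f ≫ h).hom = (AlgSp.yon S).map (h₁ ≫ k) ≫ c := by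
      rw [hcomp, ← Category.assoc, d1, Category.assoc, e1, Functor.map_comp, Category.assoc]
    haveI : LocallyOfFinitePresentation (h₁.left ≫ k.left) := hfp a c (h₁ ≫ k) ha hc d4
    haveI : Flat (h₁.left ≫ k.left) := hfl a c (h₁ ≫ k) ha hc d4
    haveI : LocallyOfFiniteType k.left := hft b c k hb hc e1
    have hpt : AlgSp.Points.ofPt a ((pullback.fst h₁ p1).left w) = AlgSp.Points.map pX.hom x' := by
      rw [← hw, AlgSp.Points.map_ofPt, d3, Groth.Agent.S10176.ofPt_map_comp]
    rw [← hw, isFlatAtMor_iff_of_diagram f' a' b' (pullback.snd h₁ p1) ha' hb' d2 w, hw, ← hpt,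
      isFlatAtMor_iff_of_diagram f a b h₁ ha hb d1 _]
    constructor
    · intro hf'
      exact flat_stalkMap_of_flat_baseChange h₁.left k.left κ.left (pullback.snd h₁ p1).left p2.left
        (pullback.fst h₁ p1).left p1.left sqV sqX_s w (Flat.stalkMap (h₁.left ≫ k.left) _) hf'
    · intro hf
      exact Groth.Agent.Lib.Helper5.FiberBC.flat_stalkMap_of_isPullback sqX_s w hf

end Groth.Agent.S10609
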