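import Groth.Statements.S10643
import Groth.Agent.S10609
import Groth.Agent.S10642
import Groth.Agent.R2.H93Where

set_option autoImplicit false
set_option linter.style.haveILetI false
universe u
open CategoryTheory CategoryTheory.Limits AlgebraicGeometry
open AlgSp

namespace Groth.Agent.S10643

open Groth.Agent.R2.H45.HasAtMor Groth.Agent.R2.H93.Where

/-- the image of the flat locus of `f : X ⟶ Y` (with `X` flat and locally of finite presentation over
`Z`, `Y` locally of finite type over `Z`) is open in `|Y|`. -/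
lemma isOpen_image_flatLocus {S : Scheme.{u}} {X Y Z : AlgSp.Space S} (f : X ⟶ Y) (h : Y ⟶ Z)
    (hfp : AlgSp.LocP @LocallyOfFinitePresentation (f ≫ h).hom) (_hfl : AlgSp.LocP @Flat (f ≫ h).hom)
    (hft : AlgSp.LocP @LocallyOfFiniteType h.hom) :
    IsOpen (AlgSp.Points.map f.hom '' {x : AlgSp.Points X.obj | AlgSp.IsFlatAtMor f.hom x}) := by
  have hcomp : (f ≫ h).hom = f.hom ≫ h.hom := rfl
  rw [isOpen_iff_forall_mem_open]
  rintro _ ⟨x, hx, rfl⟩
  obtain ⟨U, V, W, a, b, c, k1, k2, u, ha, hb, hc, c1, c2, c3, hu, hu'⟩ :=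
    exists_diagram_comp X.property Y.property Z.property f.hom h.hom x
  have c3' : a ≫ (f ≫ h).hom = (AlgSp.yon S).map (k1 ≫ k2) ≫ c := by rw [hcomp]; exact c3
  haveI : LocallyOfFinitePresentation (k1.left ≫ k2.left) := hfp a c (k1 ≫ k2) ha hc c3'
  haveI : LocallyOfFiniteType k2.left := hft b c k2 hb hc c2
  haveI : LocallyOfFinitePresentation k1.left :=
    Groth.Agent.Lib.Helper6.locallyOfFinitePresentation_of_comp (g := k2.left)
      inferInstance inferInstance
  let O : U.left.Opens := ⟨{u : ↥U.left | (k1.left.stalkMap u).hom.Flat},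
    Groth.Agent.S0386.result k1.left⟩
  haveI : Flat (O.ι ≫ k1.left) :=
    Flat.of_stalkMap _ (fun x =>
      (Groth.Agent.Lib.Helper3.FibCritSch.flat_stalkMap_ι_comp_iff k1.left O x).mpr x.2)
  haveI : LocallyOfFinitePresentation (O.ι ≫ k1.left) := inferInstance
  have hopen : IsOpen (Set.range (O.ι ≫ k1.left)) := (O.ι ≫ k1.left).isOpenMap.isOpen_range
  have hpt : ∀ u1 : ↥U.left, AlgSp.Points.ofPt b (k1.left u1) =
      AlgSp.Points.map f.hom (AlgSp.Points.ofPt a u1) := by
    intro u1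
    rw [AlgSp.Points.map_ofPt, c1, Groth.Agent.S10176.ofPt_map_comp]
  refine ⟨AlgSp.Points.ofPt b '' Set.range (O.ι ≫ k1.left), ?_,
    Groth.Agent.S10176.isOpenMap_ofPt b hb _ hopen, ?_⟩
  · rintro _ ⟨_, ⟨o, rfl⟩, rfl⟩
    refine ⟨AlgSp.Points.ofPt a (O.ι o), ?_, ?_⟩
    · exact (Groth.Agent.S10609.isFlatAtMor_iff_of_diagram f a b k1 ha hb c1 _).mpr o.2
    · rw [← hpt]; rfl
  · subst hu
    have hflat : (k1.left.stalkMap u).hom.Flat :=
      (Groth.Agent.S10609.isFlatAtMor_iff_of_diagram f a b k1 ha hb c1 u).mp hx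
    refine ⟨k1.left u, ⟨⟨u, hflat⟩, rfl⟩, ?_⟩
    rw [hpt]

/-- For morphisms f : X ⟶ Y, p : X ⟶ Z and q : Y ⟶ Z of algebraic spaces over S with f ≫ q = p, where p
is flat, closed and locally of finite presentation and q is closed and locally of finite type, there
is an open subspace W of Z with the following property: a morphism of algebraic spaces g : Z' ⟶ Z
factors through W exactly when the base change X' ⟶ Y' of f along g is flat and surjective (on
points). Here the base change of f along g is any f' : X' ⟶ Y' obtained from pullback squares Y' = Y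
×_Z Z' and X' = X ×_Y Y' of algebraic spaces over S, and W ⊂ Z is given as a representable open
immersion w : W ⟶ Z. -/
theorem result {S : Scheme.{u}} {X Y Z : AlgSp.Space S}
    (f : X ⟶ Y) (p : X ⟶ Z) (q : Y ⟶ Z) (hc : f ≫ q = p)
    (hp1 : AlgSp.LocP @LocallyOfFinitePresentation p.hom) (hp2 : AlgSp.LocP @Flat p.hom)
    (hp3 : AlgSp.IsClosedMor p.hom) (hq1 : AlgSp.LocP @LocallyOfFiniteType q.hom)
    (hq2 : AlgSp.IsClosedMor q.hom) :
    ∃ (W : AlgSp.Space S) (w : W ⟶ Z), AlgSp.RepWith @IsOpenImmersion w.hom ∧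
      ∀ (Z' : AlgSp.Space S) (g : Z' ⟶ Z),
        (∃ k : Z' ⟶ W, k ≫ w = g) ↔
          ∀ (Y' : AlgSp.Space S) (gY : Y' ⟶ Y) (q' : Y' ⟶ Z'),
            IsPullback gY.hom q'.hom q.hom g.hom →
            ∀ (X' : AlgSp.Space S) (gX : X' ⟶ X) (f' : X' ⟶ Y'),
              IsPullback gX.hom f'.hom f.hom gY.hom →
                (AlgSp.IsSurjectiveMor f'.hom ∧ AlgSp.LocP @Flat f'.hom) := by
  subst hc
  obtain ⟨hT, hbc⟩ := Groth.Agent.S10609.result f q hp1 hp2 hq1
  have hfT := isOpen_image_flatLocus f q hp1 hp2 hq1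
  have hcomp : (f ≫ q).hom = f.hom ≫ q.hom := rfl
  have hD : IsClosed (AlgSp.Points.map (f ≫ q).hom ''
      {x : AlgSp.Points X.obj | AlgSp.IsFlatAtMor f.hom x}ᶜ) := hp3 _ hT.isClosed_compl
  have hE : IsClosed (AlgSp.Points.map q.hom '' (AlgSp.Points.map f.hom ''
      {x : AlgSp.Points X.obj | AlgSp.IsFlatAtMor f.hom x})ᶜ) := hq2 _ hfT.isClosed_compl
  obtain ⟨W, w, hw, hfac⟩ := exists_open_subspace_factor (Z := Z)
    ((AlgSp.Points.map (f ≫ q).hom '' {x : AlgSp.Points X.obj | AlgSp.IsFlatAtMor f.hom x}ᶜ) ∪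
      (AlgSp.Points.map q.hom '' (AlgSp.Points.map f.hom ''
        {x : AlgSp.Points X.obj | AlgSp.IsFlatAtMor f.hom x})ᶜ))ᶜ (hD.union hE).isOpen_compl
  refine ⟨W, w, hw, fun Z' g => ?_⟩
  rw [hfac]
  constructor
  · intro h Y' gY q' sqY X' gX f' sqX
    have e := hbc X' Y' Z' g f' q' gX gY sqY sqX
    have hflat : ∀ x' : AlgSp.Points X'.obj, AlgSp.IsFlatAtMor f'.hom x' := by
      intro x'
      have hx : AlgSp.Points.map gX.hom x' ∈
          {x : AlgSp.Points X.obj | AlgSp.IsFlatAtMor f.hom x} := by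
        by_contra hx
        refine h (AlgSp.Points.map q'.hom (AlgSp.Points.map f'.hom x')) (Or.inl ⟨_, hx, ?_⟩)
        rw [hcomp, AlgSp.Points.map_comp, ← AlgSp.Points.map_comp gX.hom f.hom, sqX.w,
          AlgSp.Points.map_comp, ← AlgSp.Points.map_comp gY.hom q.hom, sqY.w,
          AlgSp.Points.map_comp]
      have : x' ∈ AlgSp.Points.map gX.hom ⁻¹'
          {x : AlgSp.Points X.obj | AlgSp.IsFlatAtMor f.hom x} := hx
      rw [← e] at this
      exact this
    refine ⟨fun y' => ?_, (Groth.Agent.S10642.locP_flat_iff_forall_isFlatAtMor f').mpr hflat⟩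
    -- surjectivity
    have hy : AlgSp.Points.map gY.hom y' ∈ AlgSp.Points.map f.hom ''
        {x : AlgSp.Points X.obj | AlgSp.IsFlatAtMor f.hom x} := by
      by_contra hy
      refine h (AlgSp.Points.map q'.hom y') (Or.inr ⟨_, hy, ?_⟩)
      rw [← AlgSp.Points.map_comp gY.hom q.hom, sqY.w, AlgSp.Points.map_comp]
    obtain ⟨x, -, hxy⟩ := hy
    obtain ⟨x', hx', -⟩ := Groth.Agent.S10175.exists_point_of_isPullback sqX.flip y' x hxy.symm
    exact ⟨x', hx'⟩
  · intro h z'
    obtain ⟨Y', gY, q', X', gX, f', sqY, sqX⟩ := exists_standard_baseChange f q g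
    obtain ⟨hsurj, hfl⟩ := h Y' gY q' sqY X' gX f' sqX
    have e := hbc X' Y' Z' g f' q' gX gY sqY sqX
    have hflat := (Groth.Agent.S10642.locP_flat_iff_forall_isFlatAtMor f').mp hfl
    have hall : ∀ x' : AlgSp.Points X'.obj, AlgSp.Points.map gX.hom x' ∈
        {x : AlgSp.Points X.obj | AlgSp.IsFlatAtMor f.hom x} := by
      intro x'
      have : x' ∈ {x' : AlgSp.Points X'.obj | AlgSp.IsFlatAtMor f'.hom x'} := hflat x'
      rw [e] at this
      exact this
    rintro (⟨x, hx, hxz⟩ | ⟨y, hy, hyz⟩)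
    · obtain ⟨x', hx'1, -⟩ := exists_point_of_baseChange sqY sqX x z' hxz.symm
      exact hx (hx'1 ▸ hall x')
    · obtain ⟨y', hy'1, hy'2⟩ :=
        Groth.Agent.S10175.exists_point_of_isPullback sqY.flip z' y hyz.symm
      obtain ⟨x', rfl⟩ := hsurj y'
      refine hy ⟨AlgSp.Points.map gX.hom x', hall x', ?_⟩
      rw [← AlgSp.Points.map_comp, sqX.w, AlgSp.Points.map_comp, hy'2]

end Groth.Agent.S10643
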