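import Mathlib
import Groth.Statements.S10640
import Groth.Agent.R2.H45GrpLocus
import Groth.Agent.R2.H45DiagBC
import Groth.Agent.S9952
import Groth.Agent.S10175
import Groth.Agent.S10194

set_option autoImplicit false
set_option linter.style.haveILetI false
universe u
open CategoryTheory CategoryTheory.Limits AlgebraicGeometry
open AlgSp

namespace Groth.Agent.S10640
open Groth.Agent.R2.H45.HasAtMor Groth.Agent.R2.H45.HasAt Groth.Agent.R2.H45.Unram Groth.Agent.R2.H45.GrpLocus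
  Groth.Agent.R2.H45.DiagBC

/-- For morphisms f : X ⟶ Y, p : X ⟶ Z and q : Y ⟶ Z of algebraic spaces over S with f ≫ q = p, write XX
= X ×_Y X with projections pr0, pr1, and assume that p is closed and locally of finite type and that
the composite XX ⟶ X ⟶ Z (through pr1 and p) is closed as well. Then there is an open subspace W of
Z with the following property: a morphism of algebraic spaces g : Z' ⟶ Z factors through W exactly
when the base change X' ⟶ Y' of f along g is unramified and universally injective. Here the base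
change of f along g is any f' : X' ⟶ Y' obtained from pullback squares Y' = Y ×_Z Z' and X' = X ×_Y
Y' of algebraic spaces over S, and W ⊂ Z is given as a representable open immersion w : W ⟶ Z. -/
theorem result {S : Scheme.{u}} {X Y Z : AlgSp.Space S}
    (f : X ⟶ Y) (p : X ⟶ Z) (q : Y ⟶ Z) (hc : f ≫ q = p)
    (XX : AlgSp.Space S) (pr0 pr1 : XX ⟶ X) (hXX : IsPullback pr0.hom pr1.hom f.hom f.hom)
    (hp1 : AlgSp.LocP @LocallyOfFiniteType p.hom) (hp2 : AlgSp.IsClosedMor p.hom)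
    (hp3 : AlgSp.IsClosedMor (pr1 ≫ p).hom) :
    ∃ (W : AlgSp.Space S) (w : W ⟶ Z), AlgSp.RepWith @IsOpenImmersion w.hom ∧
      ∀ (Z' : AlgSp.Space S) (g : Z' ⟶ Z),
        (∃ k : Z' ⟶ W, k ≫ w = g) ↔
          ∀ (Y' : AlgSp.Space S) (gY : Y' ⟶ Y) (q' : Y' ⟶ Z'),
            IsPullback gY.hom q'.hom q.hom g.hom →
            ∀ (X' : AlgSp.Space S) (gX : X' ⟶ X) (f' : X' ⟶ Y'),
              IsPullback gX.hom f'.hom f.hom gY.hom →
                (AlgSp.LocP (@LocallyOfFiniteType ⊓ @FormallyUnramified) f'.hom ∧ AlgSp.IsUnivInjectiveMor f'.hom) := by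
  have hf : AlgSp.LocP @LocallyOfFiniteType f.hom := by
    subst hc
    exact Groth.Agent.S9952.result f q hp1
  have hcomp : f.hom ≫ q.hom = p.hom := by rw [← hc]; rfl
  have hTopen : IsOpen {x : AlgSp.Points X.obj | AlgSp.HasAtMor Qunr f.hom x} :=
    isOpen_qunr X.property Y.property f.hom hf
  set T : Set (AlgSp.Points X.obj) := {x : AlgSp.Points X.obj | AlgSp.HasAtMor Qunr f.hom x}
    with hTdef
  -- the diagonal of `f`
  let Δ : X.obj ⟶ XX.obj := hXX.lift (𝟙 X.obj) (𝟙 X.obj) rfl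
  have hΔ0 : Δ ≫ pr0.hom = 𝟙 X.obj := hXX.lift_fst _ _ _
  have hΔ1 : Δ ≫ pr1.hom = 𝟙 X.obj := hXX.lift_snd _ _ _
  have hΔT : IsOpen (AlgSp.Points.map Δ '' T) :=
    isOpen_image_diag X.property Y.property f.hom hf hXX Δ hΔ0 hΔ1 T hTopen (fun x hx => hx)
  have hC1 : IsClosed (AlgSp.Points.map p.hom '' Tᶜ) := hp2 _ hTopen.isClosed_compl
  have hC2 : IsClosed (AlgSp.Points.map (pr1 ≫ p).hom '' (AlgSp.Points.map Δ '' T)ᶜ) :=
    hp3 _ hΔT.isClosed_compl
  have hW₀ : IsOpen (AlgSp.Points.map p.hom '' Tᶜ ∪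
      AlgSp.Points.map (pr1 ≫ p).hom '' (AlgSp.Points.map Δ '' T)ᶜ)ᶜ :=
    (hC1.union hC2).isOpen_compl
  have hw := Groth.Agent.Lib.Helper12.OpenSub.repWith_incl hW₀
  have hrange := Groth.Agent.Lib.Helper12.OpenSub.range_map_incl (AlgSp.Points.map p.hom '' Tᶜ ∪
      AlgSp.Points.map (pr1 ≫ p).hom '' (AlgSp.Points.map Δ '' T)ᶜ)ᶜ
  refine ⟨⟨Groth.Agent.Lib.Helper12.OpenSub.obj Z.obj _,
    Groth.Agent.Lib.Helper12.OpenSub.isAlgSpace_obj Z.property hW₀⟩,
    ObjectProperty.homMk (Groth.Agent.Lib.Helper12.OpenSub.incl Z.obj _), hw, ?_⟩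
  intro Z' g
  rw [Groth.Agent.S10194.result _ hw g]
  change Set.range (AlgSp.Points.map g.hom) ⊆ Set.range (AlgSp.Points.map
    (Groth.Agent.Lib.Helper12.OpenSub.incl Z.obj _)) ↔ _
  rw [hrange, Set.compl_union, Set.subset_inter_iff]
  -- unramifiedness of a base change in terms of the unramified locus of `f`
  have key : ∀ (Y' : AlgSp.Space S) (gY : Y' ⟶ Y) (X' : AlgSp.Space S) (gX : X' ⟶ X)
      (f' : X' ⟶ Y'), IsPullback gX.hom f'.hom f.hom gY.hom →
      (AlgSp.LocP (@LocallyOfFiniteType ⊓ @FormallyUnramified) f'.hom ↔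
        ∀ x' : AlgSp.Points X'.obj, AlgSp.Points.map gX.hom x' ∈ T) := by
    intro Y' gY X' gX f' sq2
    have hf' : AlgSp.LocP @LocallyOfFiniteType f'.hom :=
      Groth.Agent.Lib.Helper12.LocPCases.good_lft.locP_baseChange X.property Y.property
        Y'.property sq2 hf
    rw [locP_iff_forall_hasAtMor (etSqInv_qunr.on _) detects_qunr X'.property Y'.property f'.hom
      hf']
    exact forall_congr' fun x' => bcInv_qunr X.property Y.property Y'.property sq2 hf x'
  -- the unramified locus condition in terms of the image of `Z'`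
  have key2 : ∀ (Y' : AlgSp.Space S) (gY : Y' ⟶ Y) (q' : Y' ⟶ Z'),
      IsPullback gY.hom q'.hom q.hom g.hom → ∀ (X' : AlgSp.Space S) (gX : X' ⟶ X) (f' : X' ⟶ Y'),
      IsPullback gX.hom f'.hom f.hom gY.hom →
      ((∀ x' : AlgSp.Points X'.obj, AlgSp.Points.map gX.hom x' ∈ T) ↔
        Set.range (AlgSp.Points.map g.hom) ⊆ (AlgSp.Points.map p.hom '' Tᶜ)ᶜ) := by
    intro Y' gY q' sq1 X' gX f' sq2
    have sq : IsPullback gX.hom (f'.hom ≫ q'.hom) p.hom g.hom := by
      have := sq2.paste_vert sq1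
      rw [← hcomp]
      exact this
    constructor
    · rintro H _ ⟨z', rfl⟩ ⟨x, hx, hxz⟩
      obtain ⟨x', hx'1, -⟩ := Groth.Agent.S10175.exists_point_of_isPullback sq x z' hxz
      exact hx (hx'1 ▸ H x')
    · intro H x'
      by_contra hx
      refine H ⟨AlgSp.Points.map (f'.hom ≫ q'.hom) x', rfl⟩ ⟨AlgSp.Points.map gX.hom x', hx, ?_⟩
      rw [← AlgSp.Points.map_comp, ← AlgSp.Points.map_comp, sq.w]
  -- the diagonal condition in terms of the image of `Z'`
  have key3 : ∀ (Y' : AlgSp.Space S) (gY : Y' ⟶ Y) (q' : Y' ⟶ Z'),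
      IsPullback gY.hom q'.hom q.hom g.hom → ∀ (X' : AlgSp.Space S) (gX : X' ⟶ X) (f' : X' ⟶ Y'),
      IsPullback gX.hom f'.hom f.hom gY.hom →
      ∀ (m : pullback f'.hom f'.hom ⟶ XX.obj),
        m ≫ pr0.hom = pullback.fst f'.hom f'.hom ≫ gX.hom →
        m ≫ pr1.hom = pullback.snd f'.hom f'.hom ≫ gX.hom →
      ((∀ ξ' : AlgSp.Points (pullback f'.hom f'.hom),
          AlgSp.Points.map m ξ' ∈ AlgSp.Points.map Δ '' T) ↔
        Set.range (AlgSp.Points.map g.hom) ⊆
          (AlgSp.Points.map (pr1 ≫ p).hom '' (AlgSp.Points.map Δ '' T)ᶜ)ᶜ) := by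
    intro Y' gY q' sq1 X' gX f' sq2 m hm0 hm1
    have sq : IsPullback gX.hom (f'.hom ≫ q'.hom) p.hom g.hom := by
      have := sq2.paste_vert sq1
      rw [← hcomp]
      exact this
    have hXX' := IsPullback.of_hasPullback f'.hom f'.hom
    have sqm : IsPullback m (pullback.fst f'.hom f'.hom) pr0.hom gX.hom :=
      isPullback_fibreSquare_baseChange sq2 hXX hXX' m hm0 hm1
    have hpr : pr0.hom ≫ p.hom = (pr1 ≫ p).hom := by
      change pr0.hom ≫ p.hom = pr1.hom ≫ p.hom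
      rw [← hcomp, ← Category.assoc, hXX.w, Category.assoc]
    constructor
    · rintro H _ ⟨z', rfl⟩ ⟨ξ, hξ, hξz⟩
      have e1 : AlgSp.Points.map p.hom (AlgSp.Points.map pr0.hom ξ) =
          AlgSp.Points.map g.hom z' := by
        rw [← AlgSp.Points.map_comp, hpr]
        exact hξz
      obtain ⟨x', hx'1, -⟩ := Groth.Agent.S10175.exists_point_of_isPullback sq
        (AlgSp.Points.map pr0.hom ξ) z' e1
      obtain ⟨ξ', hξ'1, -⟩ := Groth.Agent.S10175.exists_point_of_isPullback sqm ξ x' hx'1.symm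
      exact hξ (hξ'1 ▸ H ξ')
    · intro H ξ'
      by_contra hξ
      refine H ⟨AlgSp.Points.map (pullback.snd f'.hom f'.hom ≫ f'.hom ≫ q'.hom) ξ', rfl⟩
        ⟨AlgSp.Points.map m ξ', hξ, ?_⟩
      rw [← AlgSp.Points.map_comp, ← AlgSp.Points.map_comp]
      congr 1
      change m ≫ pr1.hom ≫ p.hom = _
      rw [← Category.assoc, hm1, Category.assoc, Category.assoc, Category.assoc, sq.w,
        Category.assoc]
  -- the comparison morphism `X' ×_{Y'} X' ⟶ X ×_Y X`
  have hm : ∀ (Y' : AlgSp.Space S) (gY : Y' ⟶ Y) (X' : AlgSp.Space S) (gX : X' ⟶ X)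
      (f' : X' ⟶ Y'), IsPullback gX.hom f'.hom f.hom gY.hom →
      ∃ m : pullback f'.hom f'.hom ⟶ XX.obj,
        m ≫ pr0.hom = pullback.fst f'.hom f'.hom ≫ gX.hom ∧
        m ≫ pr1.hom = pullback.snd f'.hom f'.hom ≫ gX.hom := by
    intro Y' gY X' gX f' sq2
    refine ⟨hXX.lift (pullback.fst f'.hom f'.hom ≫ gX.hom) (pullback.snd f'.hom f'.hom ≫ gX.hom)
      ?_, hXX.lift_fst _ _ _, hXX.lift_snd _ _ _⟩
    rw [Category.assoc, Category.assoc, sq2.w, ← Category.assoc, pullback.condition,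
      Category.assoc]
  constructor
  · rintro ⟨h1, h2⟩ Y' gY q' sq1 X' gX f' sq2
    obtain ⟨m, hm0, hm1⟩ := hm Y' gY X' gX f' sq2
    have hT' := (key2 Y' gY q' sq1 X' gX f' sq2).2 h1
    refine ⟨(key Y' gY X' gX f' sq2).2 hT', ?_⟩
    rw [univInjective_baseChange_iff f f' gX gY sq2 hXX Δ hΔ0 hΔ1 m hm0 hm1 T hT']
    exact (key3 Y' gY q' sq1 X' gX f' sq2 m hm0 hm1).2 h2
  · intro H
    have sq1 := IsPullback.of_hasPullback q.hom g.hom
    let Y' : AlgSp.Space S := ⟨pullback q.hom g.hom,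
      Groth.Agent.S9874.isAlgSpace_of_isPullback Z.property.diag Y.property Z'.property sq1⟩
    let gY : Y' ⟶ Y := ObjectProperty.homMk (pullback.fst q.hom g.hom)
    let q' : Y' ⟶ Z' := ObjectProperty.homMk (pullback.snd q.hom g.hom)
    have sq2 := IsPullback.of_hasPullback f.hom gY.hom
    let X' : AlgSp.Space S := ⟨pullback f.hom gY.hom,
      Groth.Agent.S9874.isAlgSpace_of_isPullback Y.property.diag X.property Y'.property sq2⟩
    let gX : X' ⟶ X := ObjectProperty.homMk (pullback.fst f.hom gY.hom)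
    let f' : X' ⟶ Y' := ObjectProperty.homMk (pullback.snd f.hom gY.hom)
    obtain ⟨h1, h2⟩ := H Y' gY q' sq1 X' gX f' sq2
    obtain ⟨m, hm0, hm1⟩ := hm Y' gY X' gX f' sq2
    have hT' := (key Y' gY X' gX f' sq2).1 h1
    refine ⟨(key2 Y' gY q' sq1 X' gX f' sq2).1 hT', ?_⟩
    rw [univInjective_baseChange_iff f f' gX gY sq2 hXX Δ hΔ0 hΔ1 m hm0 hm1 T hT'] at h2
    exact (key3 Y' gY q' sq1 X' gX f' sq2 m hm0 hm1).1 h2

end Groth.Agent.S10640
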