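import Groth.Statements.S9869
import Groth.Agent.Lib.Helper12QuotSh
import Groth.Agent.S9884
import Groth.Agent.R2.H44FppfLocal

set_option autoImplicit false
universe u
open CategoryTheory CategoryTheory.Limits AlgebraicGeometry
open AlgSp

namespace Groth.Agent.S9869

open Groth.Agent.Lib.Helper9 Groth.Agent.Lib.Helper12.QuotShLib

variable {S : Scheme.{u}}

/-- Mathlib's internal equivalence relation structure from the pointwise `AlgSp.IsEqvRel`. -/
noncomputable def eqvRel {R U : Over S} {s t : R ⟶ U} (h : AlgSp.IsEqvRel s t) :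
    EquivalenceRelation s t := by
  have hjm : JointlyMono₂ s t := ⟨fun {T} f g h₁ h₂ => h.injective T f g h₂ h₁⟩
  have hr := (h.equivalence U).refl (𝟙 U)
  have hs := (h.equivalence R).symm ⟨𝟙 R, Category.id_comp _, Category.id_comp _⟩
  have ht := (h.equivalence (pullback t s)).trans
    ⟨pullback.snd t s, rfl, rfl⟩ ⟨pullback.fst t s, pullback.condition, rfl⟩
  exact
    { toJointlyMono₂ := hjm
      r := hr.choose
      reflexivity₁ := hr.choose_spec.2
      reflexivity₂ := hr.choose_spec.1
      s := hs.choose
      symmetry₁ := hs.choose_spec.2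
      symmetry₂ := hs.choose_spec.1
      c := pullback.cone t s
      isLimit := pullback.isLimit t s
      t := ht.choose
      transitivity₁ := ht.choose_spec.2
      transitivity₂ := ht.choose_spec.1 }

/-- naturality of the identification of `rep` with the representable sheaf. -/
lemma repIso_inv_naturality {V W : Over S} (g : V ⟶ W) :
    (AlgSp.yon S).map g ≫ (QuotSh.repIsoUliftYoneda Scheme.fppfPrecoverage W).inv =
      (QuotSh.repIsoUliftYoneda Scheme.fppfPrecoverage V).inv ≫
        QuotSh.repMap Scheme.fppfPrecoverage g :=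
  (sheafificationNatIso (AlgSp.J S) (Type (u + 1))).hom.naturality ((AlgSp.yon S).map g)

/-- Let `s, t : R ⟶ U` be an etale equivalence relation on a scheme `U` over `S` and suppose that the
fppf quotient sheaf `U/R` is an algebraic space over `S`. Then the quotient map `h_U ⟶ U/R` is
representable etale and representable surjective, and `(U, R, h_U ⟶ U/R)` is a presentation of `U/R`
(in particular `h_R`, with `h_t` and `h_s`, is the fibre product `h_U ×_{U/R} h_U`). The quotient
map is written on `h_U` through the canonical identification of `h_U` with the sheafified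
representable presheaf. -/
theorem result (S : Scheme.{u}) {R U : Over S} (s t : R ⟶ U)
    (h : AlgSp.IsEtaleEqvRel s t) (hq : AlgSp.IsAlgSpace (QuotSh.quot Scheme.fppfPrecoverage s t)) :
    AlgSp.IsPresentation s t
      ((QuotSh.repIsoUliftYoneda Scheme.fppfPrecoverage U).inv ≫ QuotSh.quotπ Scheme.fppfPrecoverage s t) := by
  set eU := QuotSh.repIsoUliftYoneda Scheme.fppfPrecoverage U with heU
  set eR := QuotSh.repIsoUliftYoneda Scheme.fppfPrecoverage R with heR
  set π := QuotSh.quotπ Scheme.fppfPrecoverage s t with hπ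
  -- the equivalence relation on sheaves
  have e : EquivalenceRelation s t := eqvRel h.toIsEqvRel
  have : JointlyMono₂ s t := e.toReflexiveRelation.toJointlyMono₂
  have : JointlyMono₂ ((repFunctor Scheme.fppfPrecoverage S).map s)
      ((repFunctor Scheme.fppfPrecoverage S).map t) :=
    jointlyMono₂_map (repFunctor Scheme.fppfPrecoverage S) s t
  have e' : EquivalenceRelation (QuotSh.repMap Scheme.fppfPrecoverage s)
      (QuotSh.repMap Scheme.fppfPrecoverage t) :=
    equivalenceRelationMap (repFunctor Scheme.fppfPrecoverage S) s t e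
  have hk : IsKernelPair π (QuotSh.repMap Scheme.fppfPrecoverage s)
      (QuotSh.repMap Scheme.fppfPrecoverage t) :=
    sheaf_isKernelPair_of_isColimit (QuotSh.J Scheme.fppfPrecoverage S) e' π
      (QuotSh.quot_condition Scheme.fppfPrecoverage s t) (coequalizerIsCoequalizer _ _)
  have hpb : IsPullback ((AlgSp.yon S).map t) ((AlgSp.yon S).map s) (eU.inv ≫ π) (eU.inv ≫ π) := by
    refine IsPullback.of_iso hk.flip eR eU eU (Iso.refl _) ?_ ?_ ?_ ?_
    · rw [← cancel_mono eU.inv, Category.assoc, Category.assoc, Iso.hom_inv_id, Category.comp_id,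
        repIso_inv_naturality, Iso.hom_inv_id_assoc]
    · rw [← cancel_mono eU.inv, Category.assoc, Category.assoc, Iso.hom_inv_id, Category.comp_id,
        repIso_inv_naturality, Iso.hom_inv_id_assoc]
    · simp
    · simp
  have hepi : Epi (eU.inv ≫ π) := by
    haveI : Epi π := by rw [hπ]; unfold QuotSh.quotπ; exact coequalizer.π_epi
    exact epi_comp _ _
  haveI : Sheaf.IsLocallySurjective (eU.inv ≫ π) := (Sheaf.isLocallySurjective_iff_epi _).mpr hepi
  have hrep : AlgSp.Representable (eU.inv ≫ π) := hq.representable_from_yon _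
  refine ⟨h, ?_, ?_, hpb⟩
  · haveI := Groth.Agent.R2.H44.FppfLocal.etale.{u}
    refine Groth.Agent.S9884.repWith_of_locallySurjective (eU.inv ≫ π) hrep (eU.inv ≫ π)
      ((AlgSp.yon S).map t) ((AlgSp.yon S).map s) hpb @Etale ?_
    exact (AlgSp.repWith_yon_map_iff _ _).2 h.etale_left
  · haveI := Groth.Agent.R2.H44.FppfLocal.surjective.{u}
    refine Groth.Agent.S9884.repWith_of_locallySurjective (eU.inv ≫ π) hrep (eU.inv ≫ π)
      ((AlgSp.yon S).map t) ((AlgSp.yon S).map s) hpb @Surjective ?_
    refine (AlgSp.repWith_yon_map_iff _ _).2 ?_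
    have h1 : e.r ≫ s = 𝟙 U := e.reflexivity₁
    have h2 : e.r.left ≫ s.left = 𝟙 U.left := by
      rw [← Over.comp_left, h1]; rfl
    refine ⟨fun x => ⟨e.r.left x, ?_⟩⟩
    rw [← Scheme.Hom.comp_apply, h2]
    rfl

end Groth.Agent.S9869
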