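import Groth.Statements.S0032
import Groth.Agent.S0461
import Groth.Agent.Lib.Helper23AffVanish7
import Groth.Agent.R2.H1CohPushTop
-- import your own Groth.Agent.* helpers here

set_option autoImplicit false
universe u
open Coherent

namespace Groth.Agent.S0032

open AlgebraicGeometry CategoryTheory Opposite in
/-- Let f : X → S be quasi-compact and quasi-separated with S affine, and F quasi-coherent on X. Then
H^q(X, F) is isomorphic to the global sections of R^q f_* F (higher direct image of the underlying
abelian sheaf), for every q. -/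
theorem result {X S : Scheme.{u}} (f : X ⟶ S)
    [QuasiCompact f] [QuasiSeparated f] [IsAffine S] (M : X.Modules) [Coh.IsQCoh M] (q : ℕ) :
    Nonempty (Coh.HH X M q ≃+ ↑(((Coh.RpushAb f q).obj (Coh.toAb M)).obj.obj (op ⊤))) := by
  obtain ⟨e⟩ := Groth.Agent.S0461.result f.base (Coh.toAb M) q
  -- global sections of `R^q f_* M` are global sections of the sheafified presheaf `V ↦ H^q(f⁻¹V, M)`
  let e1 : ↑(((Coh.RpushAb f q).obj (Coh.toAb M)).obj.obj (op ⊤)) ≃+
      ↑((sheafify (Opens.grothendieckTopology S)
        (Groth.Agent.R2.H1.CohPushTop.PP f M q)).obj (op ⊤)) :=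
    (((sheafSections (Opens.grothendieckTopology S) AddCommGrpCat.{u}).obj (op ⊤)).mapIso
      e).addCommGroupIsoToAddEquiv
  -- the unit of sheafification is bijective on global sections
  let e2 := AddEquiv.ofBijective (Groth.Agent.R2.H1.SheafifyTop.η (Groth.Agent.R2.H1.CohPushTop.PP f M q) ⊤)
    (Groth.Agent.R2.H1.CohPushTop.bijective_η f M q)
  -- `H^q(⊤, M) ≃ H^q(X, M)`
  let e3 := Groth.Agent.Lib.Helper23.AffVanish.HETopEquivH X.carrier (Coh.toAb M) q
  exact ⟨(e3.symm.trans e2).trans e1.symm⟩

end Groth.Agent.S0032
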