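import Groth.Statements.S0037
import Mathlib
import Groth.Agent.S0028
import Groth.Agent.R2.H28RpushRestrict
import Groth.Agent.Lib.Helper23ModAbBridge
-- import your own Groth.Agent.* helpers here

set_option autoImplicit false
set_option linter.style.haveILetI false
universe u
open Coherent

namespace Groth.Agent.S0037

open AlgebraicGeometry CategoryTheory CategoryTheory.Limits TopologicalSpace Opposite

/-- `toAb` reflects zero objects. -/
theorem isZero_of_isZero_toAb {X : Scheme.{u}} (N : X.Modules) (h : IsZero (Coh.toAb N)) :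
    IsZero N := by
  rw [IsZero.iff_id_eq_zero]
  apply (SheafOfModules.toSheaf X.ringCatSheaf).map_injective
  exact ((SheafOfModules.toSheaf X.ringCatSheaf).map_id N).trans
    (((IsZero.iff_id_eq_zero _).1 h).trans
      ((SheafOfModules.toSheaf X.ringCatSheaf).map_zero N N).symm)

/-- sections of a zero module vanish -/
theorem section_eq_zero_of_isZero {X : Scheme.{u}} (N : X.Modules) (h : IsZero N) (U : X.Opens)
    (s : Γ(N, U)) : s = 0 := by
  have h1 : (𝟙 N : N ⟶ N) = 0 := (IsZero.iff_id_eq_zero _).1 h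
  have h2 : (𝟙 N : N ⟶ N).app U s = (0 : N ⟶ N).app U s := by rw [h1]
  exact h2

/-- A module whose restriction to an open neighbourhood `V` of `y` is zero has zero stalk at `y`
(for the underlying abelian sheaf). -/
theorem isZero_stalk_toAb_of_isZero_restrict {Y : Scheme.{u}} (R : Y.Modules) (V : Y.Opens) (y : Y)
    (hy : y ∈ V) (h : IsZero (R.restrict V.ι)) :
    IsZero (TopCat.Presheaf.stalk (C := AddCommGrpCat.{u}) (Coh.toAb R).obj y) := by
  have hsub : Subsingleton (TopCat.Presheaf.stalk (C := AddCommGrpCat.{u}) (Coh.toAb R).obj y) := by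
    refine ⟨fun a b => ?_⟩
    have key : ∀ t : ToType (TopCat.Presheaf.stalk (C := AddCommGrpCat.{u}) (Coh.toAb R).obj y), t = 0 := by
      intro t
      obtain ⟨W, hW, s, rfl⟩ := TopCat.Presheaf.exists_germ_eq (Coh.toAb R).obj t
      -- restrict to `W ⊓ V = V.ι ''ᵁ (V.ι ⁻¹ᵁ W)`
      let U' : (V : Scheme.{u}).Opens := V.ι ⁻¹ᵁ W
      have hle : V.ι ''ᵁ U' ≤ W := by
        rintro _ ⟨x, hx, rfl⟩
        exact hx
      have hyU : y ∈ V.ι ''ᵁ U' := ⟨⟨y, hy⟩, hW, rfl⟩
      have h0 : (Coh.toAb R).obj.map (homOfLE hle).op s = 0 :=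
        section_eq_zero_of_isZero (R.restrict V.ι) h U' _
      rw [← TopCat.Presheaf.germ_res_apply (Coh.toAb R).obj (homOfLE hle) y hyU s, h0, map_zero]
    rw [key a, key b]
  exact AddCommGrpCat.isZero_of_subsingleton _

/-- Let Y be locally Noetherian, f : X → Y proper and y a point whose fibre f⁻¹{y} is finite. Then for
every coherent F on X and every p > 0 the stalk of R^p f_* F at y vanishes. -/
theorem result {X Y : Scheme.{u}} (f : X ⟶ Y) [IsProper f]
    [IsLocallyNoetherian Y] (y : Y) (hy : (f.base ⁻¹' {y}).Finite) (M : X.Modules) (hM : Coh.IsCoh M)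
    (p : ℕ) (hp : 0 < p) :
    Limits.IsZero (TopCat.Presheaf.stalk ((Coh.RpushAb f p).obj (Coh.toAb M)).obj y) := by
  obtain ⟨V, hyV, hfin⟩ := exists_isFinite_morphismRestrict_of_finite_preimage_singleton f y hy
  haveI : M.IsQuasicoherent := hM.1
  haveI : IsAffineHom (f ∣_ V) := inferInstance
  haveI : (M.restrict (f ⁻¹ᵁ V).ι).IsQuasicoherent := inferInstance
  -- the restricted higher direct image vanishes
  have hR' : IsZero ((Coh.Rpush (f ∣_ V) p).obj (M.restrict (f ⁻¹ᵁ V).ι)) := by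
    obtain ⟨e⟩ := Groth.Agent.Lib.Helper23.ModAbBridge.nonempty_toAb_Rpush_iso (f ∣_ V)
      (M.restrict (f ⁻¹ᵁ V).ι) p
    have hz : IsZero ((Coh.RpushAb (f ∣_ V) p).obj (Coh.toAb (M.restrict (f ⁻¹ᵁ V).ι))) :=
      Groth.Agent.S0028.result (f ∣_ V) (M.restrict (f ⁻¹ᵁ V).ι) p hp
    exact isZero_of_isZero_toAb _ (hz.of_iso e)
  have hRV : IsZero (((Coh.Rpush f p).obj M).restrict V.ι) :=
    hR'.of_iso ((Groth.Agent.R2.H28.RpushRestrict.rpushRestrictIso f V p).app M)
  have h1 := isZero_stalk_toAb_of_isZero_restrict ((Coh.Rpush f p).obj M) V y hyV hRV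
  obtain ⟨e⟩ := Groth.Agent.Lib.Helper23.ModAbBridge.nonempty_toAb_Rpush_iso f M p
  exact h1.of_iso ((TopCat.Presheaf.stalkFunctor AddCommGrpCat.{u} y).mapIso
    ((sheafToPresheaf _ _).mapIso e.symm))

end Groth.Agent.S0037
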