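import Groth.Statements.S0043
import Groth.Agent.R2.H1CohSum
import Groth.Agent.R2.H62CohFin
import Groth.Agent.Lib.Helper23QCohAbelian
import Groth.Agent.S0009
import Groth.Agent.S0016
import Groth.Agent.S4407

set_option autoImplicit false
universe u
open Coherent

namespace Groth.Agent.S0043

open AlgebraicGeometry CategoryTheory CategoryTheory.Limits in
/-- dimension shifting along free resolutions: on a quasi-affine scheme whose structure sheaf is acyclic, all
quasi-coherent modules are acyclic. -/
theorem vanish (X : Scheme.{u}) [X.IsQuasiAffine]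
    (h : ∀ p : ℕ, 0 < p → Subsingleton (Coh.HH X (Coh.structureModule X) p)) (d : ℕ)
    (hd : ∀ (M : X.Modules), Coh.IsQCoh M → ∀ p : ℕ, d ≤ p → Subsingleton (Coh.HH X M p)) :
    ∀ (k : ℕ) (F : X.Modules), Coh.IsQCoh F → ∀ p : ℕ, 0 < p → d ≤ p + k →
      Subsingleton (Coh.HH X F p) := by
  intro k
  induction k with
  | zero =>
    intro F hF p _ hp
    exact hd F hF p (by omega)
  | succ k ih =>
    intro F hF p hp0 hp
    obtain ⟨ι, π, hπ⟩ := Groth.Agent.S4407.result X F hF
    have hF' : F.IsQuasicoherent := hF
    let S : ShortComplex X.Modules := ShortComplex.mk (kernel.ι π) π (kernel.condition π)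
    have hS : S.ShortExact :=
      { exact := ShortComplex.exact_kernel π
        mono_f := inferInstanceAs (Mono (kernel.ι π))
        epi_g := hπ }
    have hK : (kernel π).IsQuasicoherent :=
      Groth.Agent.Lib.Helper23.QCohLocal.isQuasicoherent_kernel π
    have h1 : Subsingleton (Coh.HH X S.X₁ (p + 1)) := ih (kernel π) hK (p + 1) (by omega) (by omega)
    have h2 : Subsingleton (Coh.HH X S.X₂ p) :=
      Groth.Agent.R2.H1.CohSum.subsingleton_HH_free X p (h p hp0) ι
    exact Groth.Agent.R2.H62.CohLES.subsingleton_X₃ hS p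

open AlgebraicGeometry in
/-- If X is quasi-affine and H^p(X, O_X) = 0 for all p > 0, then X is affine. -/
theorem result (X : Scheme.{u}) [X.IsQuasiAffine]
    (h : ∀ p : ℕ, 0 < p → Subsingleton (Coh.HH X (Coh.structureModule X) p)) : IsAffine X := by
  obtain ⟨d, hd⟩ := Groth.Agent.S0016.result X
  refine Groth.Agent.S0009.result X (fun I _ _ hI => ?_)
  exact vanish X h d hd d I hI 1 Nat.one_pos (by omega)

end Groth.Agent.S0043
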