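import Groth.Statements.S0050
import Mathlib
import Groth.Agent.Lib.Helper23Serre
import Groth.Agent.Lib.Helper23SecTw7
import Groth.Agent.Lib.Helper23TensorMap
import Groth.Agent.Lib.Helper23QCohExt
import Groth.Agent.Lib.Helper23Extend
import Groth.Agent.Lib.Helper23SecTw6
import Groth.Agent.R2.H79TwistCalc

set_option autoImplicit false
universe u
open Coherent

namespace Groth.Agent.S0050

section helpers

set_option linter.style.haveILetI false

open CategoryTheory CategoryTheory.Limits AlgebraicGeometry Opposite TopologicalSpace TensorProduct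


open Groth.Agent.Lib.Helper23.SecTw Groth.Agent.Lib.Helper23.GenLocus Groth.Agent.Lib.Helper6
  Groth.Agent.Lib.Helper23.Serre Groth.Agent.Lib.Helper23.Extend Groth.Agent.Lib.Helper23.TensorMap
  Groth.Agent.R2.H79.TwistCalc Groth.Agent.Lib.Helper23.QCohLocal Groth.Agent.Lib.Helper23.AffVanish

variable {X : Scheme.{u}}

/-- `- ⊗ M` on pure tensors of sections -/
theorem tensorRightF_map_tm {A B : X.Modules} (φ : A ⟶ B) (M : X.Modules) (W : X.Opens)
    (a : Γ(A, W)) (m : Γ(M, W)) :
    ((tensorRightF M).map φ).app W (tm A M W a m) = tm B M W (φ.app W a) m := by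
  let g : (CohB1.tensorPre A M : X.PresheafOfModules) ⟶ CohB1.tensorPre B M :=
    MonoidalCategory.whiskerRight (show CohB1.toPMod A ⟶ CohB1.toPMod B from φ.val) (CohB1.toPMod M)
  have hnat := (adj X).unit.naturality g
  have h2 := congrArg (fun ψ => (ψ.app (op W)).hom (a ⊗ₜ m)) hnat
  exact h2.symm

/-- glueing a section over `U₁` which vanishes on `U₁ ⊓ U₂` with zero over `U₂` -/
theorem exists_glue_zero (N : X.Modules) (U₁ U₂ : X.Opens) (hcov : U₁ ⊔ U₂ = ⊤) (t₁ : Γ(N, U₁))
    (h0 : res N (inf_le_left : U₁ ⊓ U₂ ≤ U₁) t₁ = 0) :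
    ∃ t : Γ(N, ⊤), res N le_top t = t₁ ∧ res N (le_top : U₂ ≤ ⊤) t = 0 :=
  exists_res_eq₂ N le_top le_top (le_of_eq hcov.symm) inf_le_left inf_le_right le_rfl t₁ 0
    (by rw [h0, res_zero])


/-- the key step: around a closed point there is an affine `X_s`, `s` a section of a positive power of `L` -/
theorem exists_affine_genLocus_closedPoint (L : X.Modules) (hL : PicF.IsInvertible L)
    (h : ∀ (I : X.Modules) (i : I ⟶ Coh.structureModule X), Mono i → Coh.IsQCoh I →
      ∃ n : ℕ, Subsingleton (Coh.HH X (CohB1.tensorMod I (CohB1.tensorPow L (n + 1))) 1))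
    (x : X) (hx : IsClosed ({x} : Set X)) :
    ∃ (n : ℕ) (s : Coh.structureModule X ⟶ CohB1.tensorPow L (n + 1)),
      x ∈ CohB1.genLocus _ s ∧ IsAffineOpen (CohB1.genLocus _ s) := by
  -- an affine neighbourhood of `x` over which `L` has a generator
  obtain ⟨W, e, hxW, hgenW⟩ := exists_gen L hL x
  obtain ⟨_, ⟨U₀, hU₀, rfl⟩, hxU₀, hU₀W⟩ :=
    X.isBasis_affineOpens.exists_subset_of_mem_open hxW W.isOpen
  have hU₀W' : U₀ ≤ W := hU₀W
  let e₀ : Γ(L, U₀) := res L hU₀W' e
  have hgen₀ : IsGen L U₀ e₀ := hgenW.mono hU₀W'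
  -- the closed subscheme `(X ∖ U₀) ∪ {x}`
  let T : Closeds X := ⟨(U₀ : Set X)ᶜ ∪ {x}, U₀.isOpen.isClosed_compl.union hx⟩
  let J := Scheme.IdealSheafData.vanishingIdeal T
  let i : J.subscheme ⟶ X := J.subschemeι
  have hrange : Set.range i = (U₀ : Set X)ᶜ ∪ {x} := by
    rw [J.range_subschemeι]
    exact Scheme.IdealSheafData.coe_support_vanishingIdeal T
  let A : X.Modules := (Scheme.Modules.pushforward i).obj (Coh.structureModule J.subscheme)
  have : (Coh.structureModule X).IsQuasicoherent := isQuasicoherent_structureModule' X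
  have : (Coh.structureModule J.subscheme).IsQuasicoherent := isQuasicoherent_structureModule' _
  have : A.IsQuasicoherent := isQuasicoherent_pushforward i _
  have hKq : (kernel (unitPush i)).IsQuasicoherent := isQuasicoherent_kernel (unitPush i)
  obtain ⟨n, hn⟩ := h (kernel (unitPush i)) (kernel.ι (unitPush i)) inferInstance hKq
  refine ⟨n, ?_⟩
  let M : X.Modules := CohB1.tensorPow L (n + 1)
  have hM : PicF.IsInvertible M := isInvertible_tensorPow hL (n + 1)
  let eM : Γ(M, U₀) := pw L U₀ e₀ (n + 1)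
  have hgenM : IsGen M U₀ eM := isGen_pw L U₀ e₀ hgen₀ (n + 1)
  -- the twisted exact sequence
  let S₀ : ShortComplex X.Modules :=
    ShortComplex.mk (kernel.ι (unitPush i)) (unitPush i) (kernel.condition (unitPush i))
  have hS₀ : S₀.ShortExact :=
    { exact := ShortComplex.exact_kernel (unitPush i)
      mono_f := inferInstanceAs (Mono (kernel.ι (unitPush i)))
      epi_g := inferInstanceAs (Epi (unitPush i)) }
  have hS := shortExact_map_tensorRightF M hM S₀ hS₀
  have hsurj : ∀ t : Γ(CohB1.tensorMod A M, ⊤),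
      ∃ s' : Γ(CohB1.tensorMod (Coh.structureModule X) M, ⊤),
        ((tensorRightF M).map (unitPush i)).app ⊤ s' = t :=
    surjective_app_of_subsingleton_HE (S₀.map (tensorRightF M)) hS ⊤
      ((HETopEquivH X.carrier (ab' (CohB1.tensorMod (kernel (unitPush i)) M)) 1).toEquiv.subsingleton)
  -- the section `1 ⊗ e` near `x`, `0` away from `x`
  let Ux : X.Opens := ⟨({x} : Set X)ᶜ, hx.isOpen_compl⟩
  have hcov : U₀ ⊔ Ux = ⊤ := by
    ext y
    simp only [Opens.coe_sup, Set.mem_union, SetLike.mem_coe, Opens.coe_top, Set.mem_univ, iff_true]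
    by_cases hy : y = x
    · left; rw [hy]; exact hxU₀
    · right; exact hy
  have hpre : ∀ V : X.Opens, V ≤ Ux → V ≤ U₀ → i ⁻¹ᵁ V = ⊥ := by
    intro V hVx hV0
    ext z
    simp only [Opens.coe_bot, Set.mem_empty_iff_false, iff_false]
    intro hz
    have hz' : i z ∈ (U₀ : Set X)ᶜ ∪ {x} := hrange ▸ Set.mem_range_self z
    rcases hz' with hz' | hz'
    · exact hz' (hV0 hz)
    · exact hVx hz hz'
  let oneZ : Γ(A, U₀) := (unitPush i).app U₀ (toS U₀ 1)
  have hone0 : res A (inf_le_left : U₀ ⊓ Ux ≤ U₀) oneZ = 0 := by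
    have hss : Subsingleton Γ(J.subscheme, i ⁻¹ᵁ (U₀ ⊓ Ux)) := by
      rw [hpre _ inf_le_right inf_le_left]; infer_instance
    exact @Subsingleton.elim _ hss _ _
  obtain ⟨t, ht₁, ht₂⟩ := exists_glue_zero (CohB1.tensorMod A M) U₀ Ux hcov (tm A M U₀ oneZ eM) (by
    rw [res_tm, hone0, tm_zero_left])
  obtain ⟨s', hs'⟩ := hsurj t
  -- the section of `M`
  let m : Γ(M, ⊤) := (mulHom (𝟙 (Coh.structureModule X)) M).app ⊤ s'
  let s : Coh.structureModule X ⟶ M := secHom M m
  refine ⟨s, ?_⟩
  -- local description of `s'` against a generator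
  have key : ∀ (V : X.Opens) (eV : Γ(M, V)), IsGen M V eV →
      ∃ r : Γ(X, V), sv s V = r • eV ∧
        res (CohB1.tensorMod A M) le_top t = tm A M V ((unitPush i).app V (toS V r)) eV := by
    intro V eV hV
    obtain ⟨r, hr⟩ := (bijective_tm_of_isGen (Coh.structureModule X) M V eV hV V le_rfl).2
      (res (CohB1.tensorMod (Coh.structureModule X) M) le_top s')
    rw [Groth.Agent.Lib.Helper23.SecTw.res_self] at hr
    refine ⟨ofS V r, ?_, ?_⟩
    · have e1 : res M (le_top : V ≤ ⊤) ((mulHom (𝟙 (Coh.structureModule X)) M).app ⊤ s') =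
          (mulHom (𝟙 (Coh.structureModule X)) M).app V
            (res (CohB1.tensorMod (Coh.structureModule X) M) le_top s') :=
        (app_map (mulHom (𝟙 (Coh.structureModule X)) M) (homOfLE (le_top : V ≤ ⊤)) s').symm
      rw [sv_secHom]
      change res M le_top ((mulHom (𝟙 (Coh.structureModule X)) M).app ⊤ s') = _
      rw [e1, ← hr, mulHom_tm]
      rfl
    · have e2 : res (CohB1.tensorMod A M) (le_top : V ≤ ⊤)
            (((tensorRightF M).map (unitPush i)).app ⊤ s') =
          ((tensorRightF M).map (unitPush i)).app V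
            (res (CohB1.tensorMod (Coh.structureModule X) M) le_top s') :=
        (app_map ((tensorRightF M).map (unitPush i)) (homOfLE (le_top : V ≤ ⊤)) s').symm
      rw [← hs', e2, ← hr, tensorRightF_map_tm]
      rfl
  -- on `U₀`
  obtain ⟨r, hr₁, hr₂⟩ := key U₀ eM hgenM
  rw [ht₁] at hr₂
  have hr₃ : oneZ = (unitPush i).app U₀ (toS U₀ r) :=
    injective_tm_of_isGen A M U₀ eM hgenM U₀ le_rfl (by
      change tm A M U₀ oneZ (res M le_rfl eM) = tm A M U₀ _ (res M le_rfl eM)
      rw [Groth.Agent.Lib.Helper23.SecTw.res_self]; exact hr₂)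
  have hG₀ : CohB1.genLocus M s ⊓ U₀ = X.basicOpen r :=
    genLocus_inf_eq_of_isGen M s U₀ eM r hgenM hr₁
  have hir : i.app U₀ r = 1 := by
    have h1 : toS (i ⁻¹ᵁ U₀) (i.app U₀ (1 : Γ(X, U₀))) = toS (i ⁻¹ᵁ U₀) (i.app U₀ r) := by
      rw [← unitPush_app, ← unitPush_app]; exact hr₃
    have h2 : i.app U₀ (1 : Γ(X, U₀)) = i.app U₀ r := h1
    rw [← h2, map_one]
  -- `X_s ⊆ U₀`
  have hGle : CohB1.genLocus M s ≤ U₀ := by
    intro y hyG
    by_contra hyU
    have hyx : y ∈ Ux := by
      intro hyx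
      rw [Set.mem_singleton_iff] at hyx
      exact hyU (hyx ▸ hxU₀)
    let G := CohB1.genLocus M s
    let V : X.Opens := G ⊓ Ux
    have hgenV : IsGen M V (res M (inf_le_left : V ≤ G) (sv s G)) :=
      (isGen_sv_genLocus M s).mono inf_le_left
    obtain ⟨r', hr'₁, hr'₂⟩ := key V _ hgenV
    have hr'1 : r' = 1 := by
      apply (hgenV V le_rfl).1
      change r' • res M le_rfl (res M inf_le_left (sv s G)) =
        (1 : Γ(X, V)) • res M le_rfl (res M inf_le_left (sv s G))
      rw [Groth.Agent.Lib.Helper23.SecTw.res_self, one_smul, ← hr'₁, res_sv]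
    have htV : res (CohB1.tensorMod A M) (le_top : V ≤ ⊤) t = 0 := by
      have := congrArg (res (CohB1.tensorMod A M) (inf_le_right : V ≤ Ux)) ht₂
      rw [res_res, res_zero] at this
      exact this
    rw [htV, hr'1] at hr'₂
    have h0 : (unitPush i).app V (toS V 1) = 0 :=
      injective_tm_of_isGen A M V _ hgenV V le_rfl (by
        change tm A M V _ (res M le_rfl _) = tm A M V 0 (res M le_rfl _)
        rw [Groth.Agent.Lib.Helper23.SecTw.res_self, tm_zero_left]; exact hr'₂.symm)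
    rw [unitPush_app, map_one] at h0
    have h10 : (1 : Γ(J.subscheme, i ⁻¹ᵁ V)) = 0 := h0
    have hbot : i ⁻¹ᵁ V = ⊥ := by
      have h1 := J.subscheme.basicOpen_of_isUnit (U := i ⁻¹ᵁ V) isUnit_one
      rw [h10, Scheme.basicOpen_zero] at h1
      exact h1.symm
    have hyr : y ∈ Set.range i := by rw [hrange]; left; exact hyU
    obtain ⟨z, rfl⟩ := hyr
    have hz : z ∈ i ⁻¹ᵁ V := ⟨hyG, hyx⟩
    rw [hbot] at hz
    exact hz
  have hGeq : CohB1.genLocus M s = X.basicOpen r := by
    rw [← hG₀]; exact (inf_eq_left.2 hGle).symm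
  refine ⟨?_, ?_⟩
  · rw [hGeq]
    have hxr : x ∈ Set.range i := by rw [hrange]; right; rfl
    obtain ⟨z₀, hz₀⟩ := hxr
    have hz : z₀ ∈ i ⁻¹ᵁ (X.basicOpen r) := by
      rw [Scheme.preimage_basicOpen, hir, J.subscheme.basicOpen_of_isUnit isUnit_one]
      change i z₀ ∈ U₀
      rw [hz₀]; exact hxU₀
    rw [← hz₀]
    exact hz
  · rw [hGeq]
    exact hU₀.basicOpen r

end helpers


open AlgebraicGeometry CategoryTheory in
/-- Let X be a quasi-compact scheme and L an invertible O_X-module. If for every quasi-coherent sheaf of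
ideals I ⊆ O_X there is some n ≥ 1 with H¹(X, I ⊗ L^{⊗n}) = 0, then L is ample, in the sense that X
is covered by affine opens of the form X_s for sections s of positive tensor powers of L. (In the
Lean statement the exponent is written n + 1 with n a natural number.) -/
theorem result (X : Scheme.{u}) [CompactSpace X] (L : X.Modules)
    (hL : PicF.IsInvertible L)
    (h : ∀ (I : X.Modules) (i : I ⟶ Coh.structureModule X), Mono i → Coh.IsQCoh I →
      ∃ n : ℕ, Subsingleton (Coh.HH X (CohB1.tensorMod I (CohB1.tensorPow L (n + 1))) 1)) :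
    CohB1.IsAmple L := by
  refine ⟨hL, inferInstance, ?_⟩
  intro y
  by_contra hcon
  push Not at hcon
  let Wt : X.Opens := ⨆ p : {p : Σ n : ℕ, (Coh.structureModule X ⟶ CohB1.tensorPow L (n + 1)) //
    IsAffineOpen (CohB1.genLocus _ p.2)}, CohB1.genLocus _ p.1.2
  have hyW : y ∉ Wt := by
    intro hy
    obtain ⟨p, hp⟩ := TopologicalSpace.Opens.mem_iSup.1 hy
    exact hcon p.1.1 p.1.2 hp p.2
  obtain ⟨x, hxW, hx⟩ := IsClosed.exists_closed_singleton (S := (Wt : Set X)ᶜ)
    Wt.isOpen.isClosed_compl ⟨y, hyW⟩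
  obtain ⟨n, s, hxs, hs⟩ := exists_affine_genLocus_closedPoint L hL h x hx
  exact hxW (TopologicalSpace.Opens.mem_iSup.2 ⟨⟨⟨n, s⟩, hs⟩, hxs⟩)


end Groth.Agent.S0050
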