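import Groth.Statements.S0062
import Groth.Agent.R2.H1LocalFibre
import Groth.Agent.R2.H1StalkLoc
-- import your own Groth.Agent.* helpers here

set_option autoImplicit false
universe u
open Coherent

namespace Groth.Agent.S0062

open AlgebraicGeometry CategoryTheory in
/-- Let f : X → Y be proper with Y Noetherian, L invertible on X, F coherent on X, and y a point such
that the pullback of L to the fibre X_y is ample. Then there is d₀ such that for all d ≥ d₀ and p >
0 the stalk at y of R^p f_*(F ⊗ L^{⊗d}) vanishes. (The surjectivity assertion on global sections of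
the fibre is not stated.) -/
theorem result {X Y : Scheme.{u}} (f : X ⟶ Y) [IsProper f]
    [IsNoetherian Y] (L : X.Modules) (hL : PicF.IsInvertible L) (M : X.Modules) (hM : Coh.IsCoh M) (y : Y)
    (hy : CohB1.IsAmple ((Scheme.Modules.pullback (f.fiberι y)).obj L)) :
    ∃ d₀ : ℕ, ∀ d : ℕ, d₀ ≤ d → ∀ p : ℕ, 0 < p →
      Limits.IsZero (TopCat.Presheaf.stalk
        ((Coh.RpushAb f p).obj (Coh.toAb (CohB1.tensorMod M (CohB1.tensorPow L d)))).obj y) := by
  classical
  have : IsLocallyNoetherian Y := inferInstance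
  -- Serre vanishing over the local ring
  obtain ⟨d₀, hd₀⟩ := Groth.Agent.R2.H1.LocalFibre.sv_local f y L hL hy
    ((Scheme.Modules.pullback (Groth.Agent.R2.H1.LocalFibre.gA f y)).obj M)
    (Groth.Agent.R2.H55.AmpleNil.isCoh_pullback _ M hM)
  refine ⟨d₀, fun d hd p hp => ?_⟩
  have hLd : PicF.IsInvertible (CohB1.tensorPow L d) :=
    Groth.Agent.Lib.Helper23.SecTw.isInvertible_tensorPow hL d
  have : (CohB1.tensorMod M (CohB1.tensorPow L d)).IsQuasicoherent :=
    Groth.Agent.R2.H79.TwistCalc.isQCoh_tensorMod M _ hM.1 hLd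
  refine Groth.Agent.R2.H1.StalkLoc.isZero_stalk_RpushAb_of_local_vanishing f y _ p ?_
  obtain ⟨φ⟩ := Groth.Agent.Lib.Helper23.PB.nonempty_pullback_tensorPow_iso
    (Groth.Agent.R2.H1.LocalFibre.gA f y) L hL d
  refine Groth.Agent.R2.H1.StalkLoc.subsingleton_HH_of_iso' ?_ p (hd₀ d hd p hp)
  exact (Groth.Agent.R2.H55.AmpleVan.tensorLeftCongr _ φ).symm ≪≫
    (Groth.Agent.Lib.Helper23.RestrTensor.pullbackTensorIso M (CohB1.tensorPow L d)
      (Groth.Agent.R2.H1.LocalFibre.gA f y)).symm

end Groth.Agent.S0062
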