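import Groth.Statements.S0072
import Groth.Agent.R2.H13FinStalk
import Groth.Agent.Lib.Helper16EtStalk

set_option autoImplicit false
open CategoryTheory CategoryTheory.Limits AlgebraicGeometry Opposite
universe u
open EtBase

namespace Groth.Agent.S0072

/-- Let f : X → Y be a finite morphism of schemes, F an abelian sheaf on X_ét, and η : Spec Ω → Y a
geometric point with Ω algebraically closed. Then the stalk (f_*F)_η is isomorphic to the direct sum
of the stalks F_ξ over the geometric points ξ : Spec Ω → X lying over η (those with f ∘ ξ = η). Only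
the existence of an isomorphism is asserted; the published statement gives a canonical
identification. -/
theorem result {X Y : Scheme.{u}} (f : X ⟶ Y) [IsFinite f] [EtCoh.BCCont f]
    (F : EtCoh.Ab X) {Ω : Type u} [Field Ω] [IsAlgClosed Ω] (η : Spec (CommRingCat.of Ω) ⟶ Y) :
    Nonempty ((EtCoh.stalk η).obj ((EtCoh.push f).obj F) ≅
      ∐ fun ξ : {ξ : Spec (CommRingCat.of Ω) ⟶ X // ξ ≫ f = η} => (EtCoh.stalk ξ.1).obj F) := by
  classical
  haveI : PreservesFilteredColimitsOfSize.{u, u} (forget AddCommGrpCat.{u + 1}) :=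
    Groth.Agent.Lib.Helper16.EtStalk.pfc
  haveI : Finite {ξ : Spec (CommRingCat.of Ω) ⟶ X // ξ ≫ f = η} :=
    Groth.Agent.R2.H13.FinPtSplit.finite_pts f η
  let R : {ξ : Spec (CommRingCat.of Ω) ⟶ X // ξ ≫ f = η} → AddCommGrpCat.{u + 1} :=
    fun ξ => (EtCoh.stalk ξ.1).obj F
  let L : AddCommGrpCat.{u + 1} := (EtCoh.stalk η).obj ((EtCoh.push f).obj F)
  let π : ∀ ξ, L ⟶ R ξ := fun ξ => Groth.Agent.R2.H13.FinStalk.can f η ξ.1 ξ.2 F.obj
  have hsh : Presieve.IsSheaf X.smallEtaleTopology (F.obj ⋙ forget AddCommGrpCat.{u + 1}) :=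
    Groth.Agent.R2.H13.FinPush.isSheaf_forget F
  have hlim : IsLimit (Fan.mk L π) := by
    apply isLimitOfReflects (forget AddCommGrpCat.{u + 1})
    refine ((Types.isLimit_iff _).2 ?_).some
    intro s _
    obtain ⟨a, ha⟩ := Groth.Agent.R2.H13.FinStalk.can_surjective f η F.obj hsh
      (fun ξ => s ⟨ξ⟩)
    refine ⟨a, fun j => ha j.as, ?_⟩
    intro b hb
    apply Groth.Agent.R2.H13.FinStalk.can_injective f η F.obj hsh.isSeparated
    intro ζ hζ
    exact (hb ⟨⟨ζ, hζ⟩⟩).trans (ha ⟨ζ, hζ⟩).symm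
  let e1 : L ≅ ∏ᶜ R := hlim.conePointUniqueUpToIso (limit.isLimit _)
  exact ⟨e1 ≪≫ (biproduct.isoProduct R).symm ≪≫ biproduct.isoCoproduct R⟩

end Groth.Agent.S0072
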