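import Groth.Statements.S0105
import Groth.Agent.R2.H29EtConn

set_option autoImplicit false
open CategoryTheory CategoryTheory.Limits AlgebraicGeometry Opposite
universe u
open EtBase

namespace Groth.Agent.S0105

/-- On a connected scheme X, a finite locally constant abelian sheaf F on the small étale site is, étale
locally, constant with one and the same finite group everywhere: there are a finite abelian group M
and an étale covering (U_i) of X such that the restriction of F to every U_i is isomorphic to the
constant sheaf with value M. (The published statement covers arbitrary locally constant sheaves of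
modules; stated here for finite locally constant abelian sheaves.) -/
theorem result {X : Scheme.{u}} [ConnectedSpace X] (F : EtCoh.Ab X) (h : EtCoh.IsFiniteLocallyConstant F) :
    ∃ (M : Type) (_ : AddCommGroup M) (_ : Finite M) (ι : Type u) (U : ι → X.Etale), EtCoh.Covers U ∧
      ∀ i, Nonempty (EtCoh.restr F (U i) ≅
        (constantSheaf (X.smallEtaleTopology.over (U i)) AddCommGrpCat.{u + 1}).obj
          (AddCommGrpCat.of (ULift.{u + 1} M))) := by
  obtain ⟨ι, U, hU, hM⟩ := h
  choose M instM finM isoM using hM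
  have x₀ : X := Classical.arbitrary X
  obtain ⟨i₀, y₀, hy₀⟩ := hU x₀
  -- the set of points near which the value group is isomorphic to `M i₀`
  let A : Set X := {x | ∃ (i : ι) (y : (U i).left), (U i).hom.base y = x ∧ Nonempty (M i ≃+ M i₀)}
  let B : Set X := {x | ∃ (i : ι) (y : (U i).left), (U i).hom.base y = x ∧ ¬ Nonempty (M i ≃+ M i₀)}
  have key : ∀ (i j : ι) (y : (U i).left) (y' : (U j).left),
      (U i).hom.base y = (U j).hom.base y' → Nonempty (M i ≃+ M j) := by
    intro i j y y' hyy
    obtain ⟨α⟩ := isoM i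
    obtain ⟨β⟩ := isoM j
    have := finM i
    have := finM j
    obtain ⟨e⟩ := Groth.Agent.R2.H29.EtConn.nonempty_addEquiv_of_common_point F α β y y' hyy
    exact ⟨(AddEquiv.ulift.symm.trans e).trans AddEquiv.ulift⟩
  have hopen : ∀ (P : ι → Prop), IsOpen {x : X | ∃ (i : ι) (y : (U i).left), (U i).hom.base y = x ∧ P i} := by
    intro P
    have : {x : X | ∃ (i : ι) (y : (U i).left), (U i).hom.base y = x ∧ P i} =
        ⋃ (i : ι) (_ : P i), Set.range (U i).hom.base := by
      ext x
      simp only [Set.mem_ofPred_eq, Set.mem_iUnion, Set.mem_range, exists_prop]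
      constructor
      · rintro ⟨i, y, hy, hP⟩
        exact ⟨i, hP, y, hy⟩
      · rintro ⟨i, hP, y, hy⟩
        exact ⟨i, y, hy, hP⟩
    rw [this]
    exact isOpen_iUnion fun i => isOpen_iUnion fun _ => (U i).hom.isOpenMap.isOpen_range
  have hA : IsOpen A := hopen _
  have hB : IsOpen B := hopen _
  have hAB : Aᶜ = B := by
    ext x
    constructor
    · intro hx
      obtain ⟨i, y, hy⟩ := hU x
      refine ⟨i, y, hy, fun hne => hx ⟨i, y, hy, hne⟩⟩
    · rintro ⟨i, y, hy, hne⟩ ⟨j, y', hy', ⟨e⟩⟩
      obtain ⟨e'⟩ := key i j y y' (hy.trans hy'.symm)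
      exact hne ⟨e'.trans e⟩
  have hclopen : IsClopen A := ⟨⟨by rw [hAB]; exact hB⟩, hA⟩
  have hAuniv : A = Set.univ := by
    rcases isClopen_iff.1 hclopen with h0 | h1
    · exact absurd (show x₀ ∈ A from ⟨i₀, y₀, hy₀, ⟨AddEquiv.refl _⟩⟩) (by rw [h0]; exact Set.notMem_empty _)
    · exact h1
  have hall : ∀ x : X, ∃ (i : ι) (y : (U i).left), (U i).hom.base y = x ∧ Nonempty (M i ≃+ M i₀) := by
    intro x
    have : x ∈ A := by rw [hAuniv]; trivial
    exact this
  choose i y hy he using hall
  refine ⟨M i₀, instM i₀, finM i₀, X, fun x => U (i x), fun x => ⟨x, y x, hy x⟩, fun x => ?_⟩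
  obtain ⟨α⟩ := isoM (i x)
  obtain ⟨e⟩ := he x
  exact ⟨α ≪≫ (constantSheaf (X.smallEtaleTopology.over (U (i x))) AddCommGrpCat.{u + 1}).mapIso
    (AddEquiv.toAddCommGrpIso
      (X := AddCommGrpCat.of (ULift.{u + 1} (M (i x)))) (Y := AddCommGrpCat.of (ULift.{u + 1} (M i₀)))
      ((AddEquiv.ulift.trans e).trans AddEquiv.ulift.symm))⟩

end Groth.Agent.S0105
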