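import Groth.Statements.S0118
import Groth.Agent.R2.H47TopInv
import Groth.Agent.S0117

set_option autoImplicit false
open CategoryTheory CategoryTheory.Limits AlgebraicGeometry Opposite
universe u
open EtBase

namespace Groth.Agent.S0118

/-- Base change to a closed subscheme with the same underlying space is an equivalence between the
categories of étale schemes over the two. -/
theorem result {S S₀ : Scheme.{u}} (i : S₀ ⟶ S) [IsClosedImmersion i] [Surjective i] :
    (EtCoh.bc i).IsEquivalence := by
  let ε : EtCoh.bc i ⋙ Scheme.Etale.forget S₀ ≅ Scheme.Etale.forget S ⋙ Over.pullback i :=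
    MorphismProperty.Over.pullbackCompForgetIso (P := EtCoh.etaleMP) (Q := ⊤) i
  have hbij : ∀ U V : S.Etale, Function.Bijective
      (fun φ : U ⟶ V => (Scheme.Etale.forget S ⋙ Over.pullback i).map φ) := by
    intro U V
    haveI : AlgebraicGeometry.Etale ((Scheme.Etale.forget S).obj V).hom := V.prop
    have h1 := Groth.Agent.S0117.result i ((Scheme.Etale.forget S).obj V)
      ((Scheme.Etale.forget S).obj U)
    have h2 : Function.Bijective (fun φ : U ⟶ V => (Scheme.Etale.forget S).map φ) :=
      ⟨fun a b h => (Scheme.Etale.forget S).map_injective h,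
        fun ψ => (Scheme.Etale.forget S).map_surjective ψ⟩
    exact h1.comp h2
  haveI : (Scheme.Etale.forget S ⋙ Over.pullback i).Faithful :=
    ⟨fun {U V} a b h => (hbij U V).1 h⟩
  haveI : (Scheme.Etale.forget S ⋙ Over.pullback i).Full :=
    ⟨fun {U V} ψ => (hbij U V).2 ψ⟩
  haveI : (EtCoh.bc i ⋙ Scheme.Etale.forget S₀).Faithful := Functor.Faithful.of_iso ε.symm
  haveI : (EtCoh.bc i ⋙ Scheme.Etale.forget S₀).Full := Functor.Full.of_iso ε.symm
  haveI : (EtCoh.bc i).Faithful := Functor.Faithful.of_comp (EtCoh.bc i) (Scheme.Etale.forget S₀)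
  haveI : (EtCoh.bc i).Full := Functor.Full.of_comp_faithful (EtCoh.bc i) (Scheme.Etale.forget S₀)
  haveI : (EtCoh.bc i).EssSurj := by
    refine ⟨fun U₀ => ?_⟩
    haveI : AlgebraicGeometry.Etale ((Scheme.Etale.forget S₀).obj U₀).hom := U₀.prop
    obtain ⟨W, θ, hW⟩ :=
      Groth.Agent.R2.H47.TopInv.exists_etale_lift i ((Scheme.Etale.forget S₀).obj U₀)
    let Wet : S.Etale := Scheme.Etale.mk W.hom
    let η : (Scheme.Etale.forget S).obj Wet ≅ W := Over.isoMk (Iso.refl _) (by simp [Wet])
    exact ⟨Wet, ⟨(Scheme.Etale.forgetFullyFaithful S₀).preimageIso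
      (ε.app Wet ≪≫ (Over.pullback i).mapIso η ≪≫ θ)⟩⟩
  exact { faithful := inferInstance, full := inferInstance, essSurj := inferInstance }

end Groth.Agent.S0118
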