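import Groth.Statements.S0130
import Groth.Agent.R2.H29Constr
import Groth.Agent.R2.H29Strata2
-- import your own Groth.Agent.* helpers here

set_option autoImplicit false
universe u
open CategoryTheory CategoryTheory.Limits AlgebraicGeometry Opposite
open EtPBC

namespace Groth.Agent.S0130

open Groth.Agent.R2.H29.Strata Groth.Agent.R2.H29.Constr in
/-- Abelian case: X quasi-compact and quasi-separated, T_i -> X immersions with constructible images
covering X, and F pulled back to each T_i constructible; then F is constructible. -/
theorem result (X : Scheme.{u}) [CompactSpace X] [QuasiSeparatedSpace X]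
    (F : EtCoh.Ab X) {ι : Type u} (T : ι → Scheme.{u}) (g : ∀ i, T i ⟶ X) [∀ i, IsImmersion (g i)]
    [∀ i, EtCoh.BCCont (g i)]
    (hc : ∀ i, Topology.IsConstructible (Set.range (g i)))
    (hcov : (⋃ i, Set.range (g i)) = Set.univ)
    (h : ∀ i, EtPBC.IsConstructible ((EtCoh.pull (g i)).obj F)) :
    EtPBC.IsConstructible F := by
  rw [isConstructible_iff]
  refine fun U _ => StrataP.of_univ (PF_stable F) ?_ U
  refine StrataP.univ_of_immersion_cover (PF_stable F) T g hc hcov fun i => ?_
  have hcomp : CompactSpace (T i) := by
    rw [← isCompact_univ_iff, (g i).isEmbedding.isCompact_iff, Set.image_univ]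
    exact isCompact_of_isConstructible (hc i)
  have hqs : QuasiSeparatedSpace (T i) := quasiSeparatedSpace_of_quasiSeparated (g i)
  refine (StrataP.univ_of_affine (PF_stable _) ((isConstructible_iff _).1 (h i))).mono
    fun S k hk => ?_
  exact (PF_pull (g i) F k).2 hk

end Groth.Agent.S0130
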