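import Groth.Statements.S0132
import Groth.Agent.R2.H29Constr
-- import your own Groth.Agent.* helpers here

set_option autoImplicit false
universe u
open CategoryTheory CategoryTheory.Limits AlgebraicGeometry Opposite
open EtPBC

namespace Groth.Agent.S0132

open Groth.Agent.R2.H29.Strata Groth.Agent.R2.H29.Constr in
/-- Let X be a scheme and n > 0 an integer. In a short exact sequence of abelian sheaves on X_ét whose
middle term is killed by n (so that it is a short exact sequence of sheaves of Z/n-modules) and
whose outer terms are constructible, the middle term is constructible. (The analogous statement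
without the torsion hypothesis on the middle term is not asserted here.) -/
theorem result {X : Scheme.{u}} (S : ShortComplex (EtCoh.Ab X)) (hS : S.ShortExact)
    (n : ℕ) (hn : 0 < n) (h2n : EtCoh.KilledBy n S.X₂)
    (h1 : EtPBC.IsConstructible S.X₁) (h3 : EtPBC.IsConstructible S.X₃) :
    EtPBC.IsConstructible S.X₂ := by
  rw [isConstructible_iff] at h1 h3 ⊢
  intro U hU
  exact (StrataP.inf (PF_stable S.X₁) (PF_stable S.X₃) (h1 U hU) (h3 U hU)).mono
    fun T g hg => PF_extension S hS g hg.1 hg.2

end Groth.Agent.S0132
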