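import Groth.Statements.S0141
import Groth.Agent.R2.H29SubConstr
import Groth.Agent.S0131
-- import your own Groth.Agent.* helpers here

set_option autoImplicit false
universe u
open CategoryTheory CategoryTheory.Limits AlgebraicGeometry Opposite
open EtPBC

namespace Groth.Agent.S0141

open Groth.Agent.R2.H29.Strata Groth.Agent.R2.H29.Constr Groth.Agent.R2.H29.SubConstr in
/-- Part (3): with Λ = Z/n, quotient half: on a Noetherian scheme a quotient of a constructible abelian
sheaf killed by n > 0 is constructible. -/
theorem result (X : Scheme.{u}) [IsNoetherian X]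
    {F Q : EtCoh.Ab X} (π : F ⟶ Q) [Epi π] (n : ℕ) (hn : 0 < n) (hFn : EtCoh.KilledBy n F)
    (hF : EtPBC.IsConstructible F) :
    EtPBC.IsConstructible Q := by
  have hK : EtPBC.IsConstructible (kernel π) := by
    rw [isConstructible_iff] at hF ⊢
    have hF' : StrataP (PF F) (Set.univ : Set X) := StrataP.univ_of_affine (PF_stable F) hF
    exact fun U _ => StrataP.of_univ (PF_stable _) (strataP_sub (kernel.ι π) hF') U
  have hC : EtPBC.IsConstructible (cokernel (kernel.ι π)) :=
    (Groth.Agent.S0131.result (kernel.ι π) n hn
      (fun U s => (Groth.Agent.R2.H29.EtExtAb.injective_app_of_mono_ab (kernel.ι π) (op U)) (by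
        rw [map_nsmul, map_zero]
        exact hFn U _)) hFn hK hF).2
  let e : cokernel (kernel.ι π) ≅ Q :=
    (colimit.isColimit (parallelPair (kernel.ι π) 0)).coconePointUniqueUpToIso
      (Abelian.epiIsCokernelOfKernel (limit.cone (parallelPair π 0)) (limit.isLimit _))
  rw [isConstructible_iff] at hC ⊢
  exact fun U hU => (hC U hU).mono fun T g hg => PF_iso e g hg

end Groth.Agent.S0141
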