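import Groth.Statements.S0161
import Groth.Agent.R2.H13FinBC
import Groth.Agent.R2.H13FinPush

set_option autoImplicit false
universe u
open CategoryTheory CategoryTheory.Limits AlgebraicGeometry Opposite
open EtPBC

namespace Groth.Agent.S0161

/-- For a finite morphism f : X -> Y, cohomology commutes with base change: for every cartesian square
and torsion abelian F on X_et and every q, g^* R^q f_* F ≅ R^q f'_* g'^* F (abstract-isomorphism
form). -/
theorem result {X Y : Scheme.{u}} (f : X ⟶ Y) [IsFinite f] [EtCoh.BCCont f] :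
    EtPBC.CohCommutesWithBC f := by
  intro X' Y' f' g' g _ _ _ h F _ q
  haveI : IsFinite f' := MorphismProperty.of_isPullback (P := @IsFinite) h inferInstance
  haveI : (EtCoh.pull g).Additive := (EtCoh.pullPushAdj g).left_adjoint_additive
  rcases Nat.eq_zero_or_pos q with rfl | hq
  · haveI : PreservesFiniteLimits (EtCoh.push f) := by
      haveI := (EtCoh.pullPushAdj f).rightAdjoint_preservesLimits
      infer_instance
    haveI : PreservesFiniteLimits (EtCoh.push f') := by
      haveI := (EtCoh.pullPushAdj f').rightAdjoint_preservesLimits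
      infer_instance
    haveI := Groth.Agent.R2.H13.FinBC.isIso_baseChange0_of_finite f g f' g' h F
    exact ⟨(EtCoh.pull g).mapIso ((EtCoh.push f).rightDerivedZeroIsoSelf.app F) ≪≫
      asIso (EtCoh.baseChange0 f g f' g' h.w F) ≪≫
      ((EtCoh.push f').rightDerivedZeroIsoSelf.app ((EtCoh.pull g').obj F)).symm⟩
  · have h1 : IsZero ((EtCoh.Rpush f q).obj F) :=
      Groth.Agent.R2.H13.FinPush.isZero_Rpush f F q hq
    have h2 : IsZero ((EtCoh.Rpush f' q).obj ((EtCoh.pull g').obj F)) :=
      Groth.Agent.R2.H13.FinPush.isZero_Rpush f' _ q hq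
    have h3 : IsZero ((EtCoh.pull g).obj ((EtCoh.Rpush f q).obj F)) :=
      (EtCoh.pull g).map_isZero h1
    exact ⟨h3.iso h2⟩

end Groth.Agent.S0161
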