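import Groth.Statements.S0175
import Groth.Agent.R2.H13RecollEquiv
import Groth.Agent.R2.H1SuppInj

set_option autoImplicit false
universe u
open CategoryTheory CategoryTheory.Limits AlgebraicGeometry Opposite
open EtPBC

namespace Groth.Agent.S0175

open Groth.Agent.R2.H13.Recoll Groth.Agent.R2.H13.ClosedPush in
/-- Let i : Z → X be a closed immersion of schemes with open complement j : U → X, and I an injective
abelian sheaf on X_ét. Then the subsheaf H_Z(I) of sections supported on Z (the kernel of I → j_*
j^* I), viewed on Z_ét via i^*, is an injective abelian sheaf on Z_ét. -/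
theorem result {Z X U : Scheme.{u}} (i : Z ⟶ X) [IsClosedImmersion i]
    (j : U ⟶ X) [IsOpenImmersion j] (hZU : Set.range j = (Set.range i)ᶜ)
    [EtCoh.BCCont i] [EtCoh.BCCont j] (I : EtCoh.Ab X) [Injective I] :
    Injective ((EtCoh.pull i).obj (kernel ((EtCoh.pullPushAdj j).unit.app I))) := by
  have hU : Set.range j.base = (Set.range i.base)ᶜ := hZU
  have : (EtCoh.push i).Full := push_full i
  have : (EtCoh.push i).Faithful := push_faithful i
  -- `j⁻¹` of the unit is a (split) monomorphism, so `j⁻¹ K = 0`
  have hmono : Mono ((EtCoh.pull j).map ((EtCoh.pullPushAdj j).unit.app I)) :=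
    (SplitMono.mk _ ((EtCoh.pullPushAdj j).left_triangle_components I)).mono
  have hz : IsZero ((EtCoh.pull j).obj (kernel ((EtCoh.pullPushAdj j).unit.app I))) :=
    (isZero_kernel_of_mono _).of_iso
      (PreservesKernel.iso (EtCoh.pull j) ((EtCoh.pullPushAdj j).unit.app I))
  have h2 : IsZero ((EtShriek.restrAlong j).obj (kernel ((EtCoh.pullPushAdj j).unit.app I))) :=
    hz.of_iso ((rho' j).app _).symm
  -- hence `K` is a pushforward from `Z`
  have hess : (EtCoh.push i).essImage (kernel ((EtCoh.pullPushAdj j).unit.app I)) := by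
    rw [essImage_push_iff]
    intro W hW
    obtain ⟨V, ⟨e⟩⟩ := exists_compEtale_iso i j hU W hW
    exact (isZero_sections_of_isZero _ h2 V).of_iso
      ((kernel ((EtCoh.pullPushAdj j).unit.app I)).obj.mapIso e.op)
  exact Groth.Agent.R2.H1.SuppInj.injective_obj_kernel (EtCoh.pullPushAdj i) (EtCoh.pullPushAdj j)
    (isZero_pull_push i j hU) I hess

end Groth.Agent.S0175
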