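import Groth.Statements.S0183
import Groth.Agent.R2.H3IdLocIndZar
import Groth.Agent.R2.H3WLocalization

set_option autoImplicit false
universe u
open CategoryTheory CategoryTheory.Limits AlgebraicGeometry Opposite
open EtPBC

namespace Groth.Agent.S0183

/-- Suppose A -> B identifies local rings (A_p -> B_q bijective for every prime q of B over p). Then B
can be enlarged along a faithfully flat ind-Zariski extension B' so that B' is already ind-Zariski
over A; ind-Zariski means: a filtered colimit of local isomorphisms in the sense of Mathlib's
Algebra.IsLocalIso (Zariski-locally on the source a standard open immersion). -/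
theorem result (A B : Type u) [CommRing A] [CommRing B] [Algebra A B]
    (h : EtPBC.IdentifiesLocalRings A B) :
    ∃ (B' : Type u) (_ : CommRing B') (_ : Algebra B B') (_ : Algebra A B') (_ : IsScalarTower A B B'),
      Module.FaithfullyFlat B B' ∧ EtPBC.IsIndZariski B B' ∧ EtPBC.IsIndZariski A B' := by
  obtain ⟨B', _, _, hF', hff', hB', -⟩ := Groth.Agent.R2.H3.WLocalization.exists_wLocalization B
  letI : Algebra A B' := ((algebraMap B B').comp (algebraMap A B)).toAlgebra
  haveI : IsScalarTower A B B' := IsScalarTower.of_algebraMap_eq (fun _ => rfl)
  have hid : EtPBC.IdentifiesLocalRings A B' :=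
    Groth.Agent.R2.H3.IdLoc.identifies_comp h (Groth.Agent.R2.H3.IdLoc.identifies_of_factor hF')
  exact ⟨B', inferInstance, inferInstance, inferInstance, inferInstance, hff',
    Groth.Agent.R2.H3.IndZarFactor.isIndZariski_of_factor hF',
    Groth.Agent.R2.H3.IndZarFactor.isIndZariski_of_factor
      (Groth.Agent.R2.H3.IdLocIndZar.factor_of_identifies_wLocal hB' hid)⟩

end Groth.Agent.S0183
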