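import Groth.Statements.S0232
-- import your own Groth.Agent.* helpers here
import Mathlib
import Groth.Agent.R2.H89PicFF
import Groth.Agent.R2.H89GammaField

set_option autoImplicit false
universe u
open CategoryTheory CategoryTheory.Limits AlgebraicGeometry
open Curves

namespace Groth.Agent.S0232

/-- For a quasi-compact quasi-separated scheme X over a field k with finite-dimensional H^0(X, O_X), an
invertible module on X that becomes trivial after base change to a field extension k' is already
trivial (injectivity of Pic(X) → Pic(X_{k'}), stated on classes without a group structure). The base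
change is given as any pullback square. -/
theorem result (k : Type u) [Field k] (X : Scheme.{u}) [X.Over (Spec (CommRingCat.of k))]
    [CompactSpace X] [QuasiSeparatedSpace X]
    (hfin : Module.Finite k (Coh.HH X (Coh.structureModule X) 0))
    (k' : Type u) [Field k'] [Algebra k k'] (X' : Scheme.{u}) (g : X' ⟶ X) (q : X' ⟶ Spec (CommRingCat.of k'))
    (hpb : IsPullback g q (X ↘ Spec (CommRingCat.of k)) (Spec.map (CommRingCat.ofHom (algebraMap k k'))))
    (L : X.Modules) (hL : PicF.IsInvertible L) (htriv : PicF.IsTrivialCl (PicF.pullCl g (PicF.cl L))) :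
    PicF.IsTrivialCl (PicF.cl L) := by
  letI : Algebra k Γ(X, ⊤) := (Coh.toGlobal (X ↘ Spec (CommRingCat.of k))).toAlgebra
  haveI : Module.Finite k Γ(X, ⊤) := Groth.Agent.R2.H89.GammaField.finite_Γ k X hfin
  haveI : IsArtinianRing Γ(X, ⊤) := IsArtinianRing.of_finite k Γ(X, ⊤)
  have hsl : Finite (MaximalSpectrum Γ(X, ⊤)) := inferInstance
  have hφ : Nonempty ((Scheme.Modules.pullback g).obj L ≅ Coh.structureModule X') :=
    (Groth.Agent.R2.H89.PicFF.cl_eq_cl_iff _ _).1 htriv
  exact (Groth.Agent.R2.H89.PicFF.cl_eq_cl_iff _ _).2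
    (Groth.Agent.R2.H89.PicFF.nonempty_iso_of_spec k k' (X ↘ Spec (CommRingCat.of k)) g q hpb hsl
      L hL hφ)

end Groth.Agent.S0232
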