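import Groth.Statements.S0286
import Groth.Agent.R2.H2FEtPerf

set_option autoImplicit false
universe u
open Pi1

namespace Groth.Agent.S0286

open AlgebraicGeometry CategoryTheory CategoryTheory.Limits in
/-- For a scheme X over a field k of characteristic p (p a prime), pulling back finite étale covers
along the projection X ×_{Spec k} Spec(k^perf) → X, where k^perf is the perfect closure of k, is an
equivalence of categories. -/
theorem result (k : Type u) [Field k] (p : ℕ) [Fact p.Prime] [CharP k p] {X : Scheme.{u}}
    (f : X ⟶ Spec (CommRingCat.of k)) :
    (FEt.restrict (pullback.fst f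
      (Spec.map (CommRingCat.ofHom (PerfectClosure.of k p))))).IsEquivalence := by
  letI : Algebra k (PerfectClosure k p) := (PerfectClosure.of k p).toAlgebra
  haveI : IsPRadical (algebraMap k (PerfectClosure k p)) p := PerfectClosure.isPRadical k p
  haveI : ExpChar k p := ExpChar.prime Fact.out
  haveI : IsPurelyInseparable k (PerfectClosure k p) :=
    IsPRadical.isPurelyInseparable k (PerfectClosure k p) p
  exact Groth.Agent.R2.H2.FEtPerf.isEquivalence_restrict_fst_of_purelyInseparable
    (K := PerfectClosure k p) f p

end Groth.Agent.S0286
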