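import Groth.Statements.S0356
import Groth.Agent.R2.H75LocCohZ
import Groth.Agent.S5173
import Groth.Agent.R2.H75HHon

set_option autoImplicit false
universe u v
open CategoryTheory AlgebraicGeometry
open LocCoh

namespace Groth.Agent.S0356

open Groth.Agent.Lib.Helper23.AffVanish TopologicalSpace
  Groth.Agent.R2.H75.LocCohZKosz Groth.Agent.R2.H75.KoszCech Groth.Agent.R2.H75.CechAugA
  Groth.Agent.R2.H75.CechAugB in
/-- Let R be a Noetherian ring, I an ideal, M an R-module and U = Spec R ∖ V(I) the punctured open. For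
every p ≥ 1, the cohomology group H^p(U, M̃|_U) of the restriction to U of the quasi-coherent sheaf
associated with M is isomorphic to the local cohomology H^(p+1)_I(M). (The published statement also
gives a four-term exact sequence in low degrees, which is not stated here; here R is Noetherian.) -/
theorem result (R : Type u) [CommRing R] [IsNoetherianRing R] (I : Ideal R) (M : Type u) [AddCommGroup M] [Module R M] (p : ℕ) (hp : 1 ≤ p) : Nonempty (Coh.HH (↑(LocCoh.puncturedOpen R I)) ((AlgebraicGeometry.tilde (R := CommRingCat.of R) (ModuleCat.of R M)).restrict (LocCoh.puncturedOpen R I).ι) p ≃+ LocCoh.H I (p + 1) M) := by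
  classical
  obtain ⟨t, ht⟩ := (isNoetherianRing_iff_ideal_fg R).1 inferInstance I
  have hI : I = Ideal.span {a | a ∈ t.toList} := by
    rw [← ht]
    congr 1
    ext a
    simp
  subst hI
  set fs := t.toList with hfs
  obtain ⟨n, rfl⟩ : ∃ n, p = n + 1 := ⟨p - 1, by omega⟩
  rw [puncturedOpen_eq]
  obtain ⟨eK⟩ := nonempty_T_equiv_koszul (CommRingCat.of R) fs (ModuleCat.of R M) (n + 2)
  have a2 := (augHsucc (Vg R fs) (Ft R M).presheaf n).addCommGroupIsoToAddEquiv
  have h : ∀ (p : ℕ) (a : Fin (p + 1) → ULift.{u} (Fin fs.length)) (q' : ℕ),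
      Subsingleton (CohTop.HU (ab' (Ft R M)) (q' + 1) (iInf fun k => Vg R fs (a k))) :=
    fun p a q' => subsingleton_HE_of_isAffineOpen (isAffineOpen_iInf R fs p a) (Ft R M) q'
  obtain ⟨e1⟩ := Groth.Agent.S0464.result (ab' (Ft R M)) (Vg R fs) h (n + 1)
  obtain ⟨e2⟩ := Groth.Agent.R2.H75.HHon.nonempty_HHon_equiv_HU (Spec (CommRingCat.of R))
    (Ft R M) (iSup (Vg R fs)) (n + 1)
  obtain ⟨e3⟩ := Groth.Agent.S5173.result R fs M (n + 1 + 1)
  exact ⟨e2.trans (e1.symm.trans (a2.symm.trans (eK.trans e3.symm.toAddEquiv)))⟩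

end Groth.Agent.S0356
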