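import Groth.Statements.S0368
import Mathlib
import Groth.Agent.R2.H94DualDim

set_option autoImplicit false
universe u v
open CategoryTheory
attribute [local instance] HasDerivedCategory.standard
open Dual

namespace Groth.Agent.S0368

/-- (1)⇔(3): for a Noetherian local ring with normalized dualizing complex ω, a nonzero finite module M
with support of dimension d is Cohen–Macaulay exactly when Hom(M, ω[−i]) vanishes in D(A) for every
i ≠ d. -/
theorem result (A : Type u) [CommRing A] [IsLocalRing A] [IsNoetherianRing A] (ω : Dual.D A) (hω : Dual.IsDualizing A ω) (hn : Dual.IsNormalized A ω) (M : Type u) [AddCommGroup M] [Module A M] [Module.Finite A M] [Nontrivial M] (d : ℕ) (hd : Module.supportDim A M = d) : LocCoh.IsCohenMacaulayModule A M ↔ ∀ i : ℤ, i ≠ d → Subsingleton (Dual.inD A M ⟶ ω⟦(-i)⟧) := by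
  unfold LocCoh.IsCohenMacaulayModule
  rw [hd]
  have hne : LocCoh.depth A M ≠ ⊤ :=
    Groth.Agent.Lib.Helper28.idealDepth_ne_top
      (Groth.Agent.Lib.Helper28.maximalIdeal_smul_top_ne_top (R := A) (M := M))
  obtain ⟨n, hn'⟩ := ENat.ne_top_iff_exists.1 hne
  obtain ⟨hA, hB⟩ := Groth.Agent.R2.H94.DualDepth.hom_of_depth_eq ω hω hn n M hn'.symm
  constructor
  · intro h
    have hnd : n = d := by
      rw [← hn'] at h
      exact_mod_cast h.symm
    subst hnd
    intro i hi
    by_cases h0 : i < 0
    · exact Groth.Agent.R2.H94.DualExt.subsingleton_hom_pos ω hω hn M (-i) (by omega)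
    · by_cases hlt : i < n
      · obtain ⟨δ, rfl⟩ : ∃ δ : ℕ, i = δ := ⟨i.toNat, by omega⟩
        exact hA δ (by exact_mod_cast hlt)
      · exact Groth.Agent.R2.H94.DualDim.subsingleton_hom_of_lt_neg_supportDim ω hω hn n M
          (le_of_eq hd) (-i) (by omega)
  · intro h
    have hnd : n = d := by
      by_contra hne
      have := h n (by exact_mod_cast hne)
      exact false_of_nontrivial_of_subsingleton (Dual.inD A M ⟶ ω⟦(-(n : ℤ))⟧)
    rw [← hn', hnd]
    rfl

end Groth.Agent.S0368
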