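import Groth.Statements.S0631
import Groth.Agent.R2.H13IntStalk

set_option autoImplicit false
open CategoryTheory CategoryTheory.Limits AlgebraicGeometry Opposite
universe u
open EtCore

namespace Groth.Agent.S0631

/-- For a morphism f : X -> Y that is integral and universally injective, the direct image f_* on
abelian etale sheaves is full and faithful, an abelian sheaf on Y lies in its essential image
exactly when its support is contained in the image of f, and the counit f^{-1} f_* F -> F is an
isomorphism for every F. -/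
theorem result {X Y : Scheme.{u}} (f : X ⟶ Y)
    [IsIntegralHom f] [UniversallyInjective f] :
    (EtCoh.push f).Full ∧ (EtCoh.push f).Faithful ∧
    (∀ G : EtCoh.Ab Y, (EtCoh.push f).essImage G ↔ EtPBC.supp G ⊆ Set.range f.base) ∧
    ∀ F : EtCoh.Ab X, IsIso ((EtCoh.pullPushAdj f).counit.app F) := by
  have hco : ∀ F : EtCoh.Ab X, IsIso ((EtCoh.pullPushAdj f).counit.app F) :=
    Groth.Agent.R2.H13.IntStalk.isIso_counit f
  have : IsIso (EtCoh.pullPushAdj f).counit := NatIso.isIso_of_isIso_app _
  have hff := (EtCoh.pullPushAdj f).fullyFaithfulROfIsIsoCounit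
  have hfull : (EtCoh.push f).Full := hff.full
  have hfaith : (EtCoh.push f).Faithful := hff.faithful
  refine ⟨hfull, hfaith, ?_, hco⟩
  intro G
  constructor
  · rintro ⟨F, ⟨e⟩⟩ x ⟨Ω, _, _, ξ, hξ, hnz⟩
    by_contra hx
    apply hnz
    have hpt : ξ.base (default : Spec (CommRingCat.of Ω)) = x := by
      have h1 : ξ.base (default : Spec (CommRingCat.of Ω)) ∈ Set.range ξ := ⟨_, rfl⟩
      rw [hξ] at h1
      exact h1
    have hx' : ξ.base (default : Spec (CommRingCat.of Ω)) ∉ Set.range f.base := hpt ▸ hx
    have hsub : Subsingleton ((EtCoh.stalk ξ).obj ((EtCoh.push f).obj F)) :=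
      ⟨fun a b => Groth.Agent.R2.H13.IntStalk.eq_of_not_mem_range f ξ F.obj
        (Groth.Agent.R2.H13.FinPush.isSheaf_forget F).isSeparated hx' a b⟩
    have hz : IsZero ((EtCoh.stalk ξ).obj ((EtCoh.push f).obj F)) :=
      AddCommGrpCat.isZero_of_subsingleton _
    exact hz.of_iso ((EtCoh.stalk ξ).mapIso e.symm)
  · intro hsupp
    rw [← (EtCoh.pullPushAdj f).isIso_unit_app_iff_mem_essImage]
    apply Groth.Agent.R2.H13.FinBC.isIso_of_stalks_algClosed
    intro Ω _ _ η
    by_cases hη : η.base (default : Spec (CommRingCat.of Ω)) ∈ Set.range f.base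
    · obtain ⟨x, hx⟩ := hη
      obtain ⟨ζ, rfl, -⟩ := Groth.Agent.R2.H13.FinStalk.exists_point_lift f η x hx
      have : IsIso ((EtCoh.pull f).map ((EtCoh.pullPushAdj f).unit.app G)) := inferInstance
      have nat := (Groth.Agent.S0101.stalkPullIso f ζ).hom.naturality
        ((EtCoh.pullPushAdj f).unit.app G)
      have : IsIso ((EtCoh.pull f ⋙ EtCoh.stalk ζ).map ((EtCoh.pullPushAdj f).unit.app G)) := by
        change IsIso ((EtCoh.stalk ζ).map ((EtCoh.pull f).map ((EtCoh.pullPushAdj f).unit.app G)))
        infer_instance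
      have : IsIso ((EtCoh.stalk (ζ ≫ f)).map ((EtCoh.pullPushAdj f).unit.app G)) := by
        have e1 : (EtCoh.stalk (ζ ≫ f)).map ((EtCoh.pullPushAdj f).unit.app G) =
            (Groth.Agent.S0101.stalkPullIso f ζ).hom.app _ ≫
              (EtCoh.pull f ⋙ EtCoh.stalk ζ).map ((EtCoh.pullPushAdj f).unit.app G) ≫
              (Groth.Agent.S0101.stalkPullIso f ζ).inv.app _ := by
          rw [← Category.assoc, ← nat, Category.assoc, Iso.hom_inv_id_app, Category.comp_id]
        rw [e1]
        infer_instance
      exact ConcreteCategory.bijective_of_isIso _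
    · have hz : IsZero ((EtCoh.stalk η).obj G) := by
        by_contra hnz
        exact hη (hsupp ⟨Ω, inferInstance, inferInstance, η, Set.range_unique, hnz⟩)
      have hsub1 : Subsingleton ((EtCoh.stalk η).obj G) :=
        AddCommGrpCat.subsingleton_of_isZero hz
      have hsub2 : Subsingleton ((EtCoh.stalk η).obj
          ((EtCoh.push f).obj ((EtCoh.pull f).obj G))) :=
        ⟨fun a b => Groth.Agent.R2.H13.IntStalk.eq_of_not_mem_range f η ((EtCoh.pull f).obj G).obj
          (Groth.Agent.R2.H13.FinPush.isSheaf_forget _).isSeparated hη a b⟩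
      constructor
      · intro a b _
        exact hsub1.elim _ _
      · intro c
        exact ⟨0, hsub2.elim _ _⟩

end Groth.Agent.S0631
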