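import Groth.Statements.S0632
import Groth.Agent.R2.H3EtLift

set_option autoImplicit false
open CategoryTheory CategoryTheory.Limits AlgebraicGeometry Opposite
universe u
open EtCore

namespace Groth.Agent.S0632

/-- Let X -> Y be a closed immersion and U_i -> X (i in ι) a jointly surjective family of etale
morphisms. Then one can find a jointly surjective family of etale Y-schemes V_j each of which either
has empty preimage over X or, after base change to X, maps into one of the U_i over X. -/
theorem result {X Y : Scheme.{u}} (f : X ⟶ Y) [IsClosedImmersion f]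
    {ι : Type u} (U : ι → X.Etale) (hU : EtCoh.Covers U) :
    ∃ (κ : Type u) (V : κ → Y.Etale), EtCoh.Covers V ∧
      ∀ j, IsEmpty ↥(pullback (V j).hom f) ∨
        ∃ (i : ι) (h : pullback (V j).hom f ⟶ (U i).left), h ≫ (U i).hom = pullback.snd (V j).hom f := by
  have hU' : ∀ i, Etale (U i).hom := fun i => (U i).prop
  have H := fun p : (Σ i : ι, (U i).left) =>
    Groth.Agent.R2.H3.EtLift.exists_etale_lift_scheme f (U p.1).hom p.2
  choose V v hv h hh1 hh2 hh3 using H
  let O : Y.Opens := ⟨(Set.range f.base)ᶜ, f.isClosedEmbedding.isClosed_range.isOpen_compl⟩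
  refine ⟨Option (Σ i : ι, (U i).left), fun j => j.elim (Scheme.Etale.mk O.ι)
    (fun p => @Scheme.Etale.mk _ _ (v p) (hv p)), ?_, ?_⟩
  · intro y
    by_cases hy : y ∈ Set.range f.base
    · obtain ⟨x, rfl⟩ := hy
      obtain ⟨i, x', rfl⟩ := hU x
      obtain ⟨z, hz⟩ := hh3 ⟨i, x'⟩
      refine ⟨some ⟨i, x'⟩, (pullback.fst (v ⟨i, x'⟩) f).base z, ?_⟩
      change (v ⟨i, x'⟩).base ((pullback.fst (v ⟨i, x'⟩) f).base z) = _
      rw [← Scheme.Hom.comp_apply, pullback.condition, ← hh1, Scheme.Hom.comp_apply,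
        Scheme.Hom.comp_apply, hz]
    · exact ⟨none, ⟨y, hy⟩, rfl⟩
  · rintro (_ | p)
    · left
      refine ⟨fun z => ?_⟩
      have h1 : (pullback.fst O.ι f ≫ O.ι).base z = (pullback.snd O.ι f ≫ f).base z := by
        rw [pullback.condition]
      rw [Scheme.Hom.comp_apply, Scheme.Hom.comp_apply] at h1
      exact ((pullback.fst O.ι f).base z).2 ⟨_, h1.symm⟩
    · right
      exact ⟨p.1, h p, hh1 p⟩

end Groth.Agent.S0632
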