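import Groth.Statements.S0642
import Groth.Agent.S0631

set_option autoImplicit false
open CategoryTheory CategoryTheory.Limits AlgebraicGeometry Opposite
universe u
open EtCore

namespace Groth.Agent.S0642

/-- Let X_0 -> X be integral, universally injective and surjective (a universal homeomorphism). Then for
every abelian sheaf F on the small etale site of X and every q the pullback map from H^q(X, F) to
H^q(X_0, F|_{X_0}) is bijective. (Exactness of pullback of abelian sheaves, which always holds, is
carried as an instance hypothesis.) -/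
theorem result {X₀ X : Scheme.{u}} (i : X₀ ⟶ X) [IsIntegralHom i]
    [UniversallyInjective i] [Surjective i] [PreservesFiniteLimits (EtCoh.pull i)] (F : EtCoh.Ab X) (q : ℕ) :
    Function.Bijective (EtCore.Hpull i F q) := by
  obtain ⟨hfull, hfaith, hess, hco⟩ := Groth.Agent.S0631.result i
  have hsurj : Set.range i.base = Set.univ := Set.range_eq_univ.mpr i.surjective
  have : (EtCoh.push i).EssSurj := ⟨fun G => (hess G).mpr (by rw [hsurj]; exact Set.subset_univ _)⟩
  have : (EtCoh.push i).IsEquivalence := {}
  have : (EtCoh.pull i).IsEquivalence :=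
    (EtCoh.pullPushAdj i).isEquivalence_left_of_isEquivalence_right
  have : (EtCoh.pull i).Additive := (EtCoh.pullPushAdj i).left_adjoint_additive
  have : PreservesFiniteColimits (EtCoh.pull i) := by
    have : PreservesColimitsOfSize.{0, 0} (EtCoh.pull i) :=
      (EtCoh.pullPushAdj i).leftAdjoint_preservesColimits
    exact PreservesColimitsOfSize.preservesFiniteColimits _
  have : (EtCoh.pull i).PreservesInjectiveObjects :=
    Functor.preservesInjectiveObjects_of_adjunction_of_preservesMonomorphisms
      (EtCoh.pull i).asEquivalence.symm.toAdjunction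
  have h1 : Function.Bijective ((EtCoh.pull i).mapExtAddHom (EtCoh.const X ℤ) F q) :=
    (EtCoh.pull i).mapExt_bijective_of_preservesInjectiveObjects _ _ q
  have h2 : Function.Bijective (fun e : Abelian.Ext ((EtCoh.pull i).obj (EtCoh.const X ℤ))
      ((EtCoh.pull i).obj F) q =>
      (Abelian.Ext.mk₀ (EtCore.pullConst i ℤ).inv).comp e (zero_add q)) := by
    refine Function.bijective_iff_has_inverse.mpr
      ⟨fun e => (Abelian.Ext.mk₀ (EtCore.pullConst i ℤ).hom).comp e (zero_add q), ?_, ?_⟩
    · intro e
      change (Abelian.Ext.mk₀ (EtCore.pullConst i ℤ).hom).comp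
        ((Abelian.Ext.mk₀ (EtCore.pullConst i ℤ).inv).comp e (zero_add q)) (zero_add q) = e
      rw [← Abelian.Ext.comp_assoc_of_second_deg_zero, Abelian.Ext.mk₀_comp_mk₀, Iso.hom_inv_id,
        Abelian.Ext.mk₀_id_comp]
    · intro e
      change (Abelian.Ext.mk₀ (EtCore.pullConst i ℤ).inv).comp
        ((Abelian.Ext.mk₀ (EtCore.pullConst i ℤ).hom).comp e (zero_add q)) (zero_add q) = e
      rw [← Abelian.Ext.comp_assoc_of_second_deg_zero, Abelian.Ext.mk₀_comp_mk₀, Iso.inv_hom_id,
        Abelian.Ext.mk₀_id_comp]
  exact h2.comp h1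

end Groth.Agent.S0642
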