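import Groth.Statements.S0653
import Groth.Agent.R2.H13FinLoc

set_option autoImplicit false
open CategoryTheory CategoryTheory.Limits AlgebraicGeometry Opposite
universe u
open EtCore

namespace Groth.Agent.S0653

/-- Consider a cartesian square U = X x_Y V with f : X -> Y finite, j : V -> Y an open immersion, j' : U
-> X and g : U -> V the projections. Then for every abelian sheaf F on the small etale site of U,
f_* j'_! F is isomorphic to j_! g_* F. (The source also asserts functoriality in F; only the
objectwise isomorphism is stated.) (Continuity of the composition functor of etale sites, which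
always holds, is carried as an instance hypothesis.) -/
theorem result {U X V Y : Scheme.{u}} (f : X ⟶ Y) [IsFinite f] (j : V ⟶ Y)
    [IsOpenImmersion j] [AlgebraicGeometry.Etale j] [EtShriek.JCont j] (j' : U ⟶ X) [IsOpenImmersion j']
    [AlgebraicGeometry.Etale j'] [EtShriek.JCont j'] (g : U ⟶ V) (h : IsPullback j' g f j) (F : EtCoh.Ab U) :
    Nonempty ((EtCoh.push f).obj ((EtShriek.extZero j').obj F) ≅ (EtShriek.extZero j).obj ((EtCoh.push g).obj F)) := by
  classical
  let H : EtCoh.Ab X := (EtShriek.extZero j').obj F
  let G : EtCoh.Ab Y := (EtCoh.push f).obj H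
  -- the closed complement of `j`
  have hcl : IsClosed (Set.range j.base)ᶜ := j.isOpenEmbedding.isOpen_range.isClosed_compl
  let I := Scheme.IdealSheafData.vanishingIdeal (X := Y) ⟨(Set.range j.base)ᶜ, hcl⟩
  let i : I.subscheme ⟶ Y := I.subschemeι
  have hi : Set.range i.base = (Set.range j.base)ᶜ := by
    have h1 : Set.range i = (I.support : Set Y) := Scheme.IdealSheafData.range_subschemeι I
    have h2 : (I.support : Set Y) = (Set.range j.base)ᶜ :=
      Scheme.IdealSheafData.coe_support_vanishingIdeal _
    exact h1.trans h2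
  have hU : Set.range j.base = (Set.range i.base)ᶜ := by rw [hi, compl_compl]
  have hloc : ∀ (W : Y.Etale) (s : G.obj.obj (op W)) (w : W.left),
      W.hom.base w ∈ Set.range i.base → Groth.Agent.R2.H13.Supp.LocZero G s w := by
    intro W s w hw
    obtain ⟨N, a, hn, -, hzero⟩ := Groth.Agent.R2.H13.FinLoc.locZero_push f H W s w (by
      intro x hx
      apply Groth.Agent.R2.H13.FinLoc.locZero_extZero j' F
      rintro ⟨u, hu⟩
      have h1 : (pullback.fst W.hom f ≫ W.hom).base x = (pullback.snd W.hom f ≫ f).base x := by
        rw [pullback.condition]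
      have h2 : W.hom.base w = (g ≫ j).base u := by
        rw [← hx, ← h.w]
        exact h1.trans (congrArg f.base hu.symm)
      rw [hi] at hw
      exact hw ⟨g.base u, h2.symm⟩)
    exact ⟨N, a, hn, hzero⟩
  have hiso : IsIso ((EtShriek.extZeroAdj j).counit.app G) :=
    Groth.Agent.R2.H13.FinLoc.isIso_counit_of_locZero i j hU G hloc
  have := Groth.Agent.S0651.isIso_unit_extZero j'
  let e3 : F ≅ (EtShriek.restrAlong j').obj H := asIso ((EtShriek.extZeroAdj j').unit.app F)
  let e2 : (EtShriek.restrAlong j).obj G ≅ (EtCoh.push g).obj ((EtShriek.restrAlong j').obj H) :=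
    Groth.Agent.R2.H13.FinLoc.restrPushIso h H
  exact ⟨(asIso ((EtShriek.extZeroAdj j).counit.app G)).symm ≪≫
    (EtShriek.extZero j).mapIso (e2 ≪≫ (EtCoh.push g).mapIso e3.symm)⟩

end Groth.Agent.S0653
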