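import Groth.Statements.S0697
import Groth.Agent.R2.H3ProfReal

set_option autoImplicit false
open CategoryTheory CategoryTheory.Limits AlgebraicGeometry Opposite Topology
universe u
open ProEtW

namespace Groth.Agent.S0697

/-- Let A be a ring, X = Spec A, T a profinite space and g : T -> pi_0(X) continuous. Then there is an
ind-Zariski A-algebra B, with Y = Spec B, and a homeomorphism e : pi_0(Y) -> T over pi_0(X) such
that Y -> X x T, y |-> (image of y, e [y]) is a topological embedding with image the fibre product
of X and T over pi_0(X); that is, the square Y -> pi_0(Y) = T, Y -> X is cartesian in topological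
spaces. -/
theorem result (A : Type u) [CommRing A] (T : Type u)
    [TopologicalSpace T] [CompactSpace T] [T2Space T] [TotallyDisconnectedSpace T]
    (g : C(T, _root_.ConnectedComponents (PrimeSpectrum A))) :
    ∃ (B : Type u) (_ : CommRing B) (_ : Algebra A B) (e : _root_.ConnectedComponents (PrimeSpectrum B) ≃ₜ T),
      EtPBC.IsIndZariski A B ∧
      (∀ y : PrimeSpectrum B,
        g (e (_root_.ConnectedComponents.mk y)) = _root_.ConnectedComponents.mk (PrimeSpectrum.comap (algebraMap A B) y)) ∧
      Topology.IsEmbedding (fun y : PrimeSpectrum B =>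
        (PrimeSpectrum.comap (algebraMap A B) y, e (_root_.ConnectedComponents.mk y))) ∧
      Set.range (fun y : PrimeSpectrum B =>
        (PrimeSpectrum.comap (algebraMap A B) y, e (_root_.ConnectedComponents.mk y))) =
        {p : PrimeSpectrum A × T | _root_.ConnectedComponents.mk p.1 = g p.2} := by
  obtain ⟨B, iB1, iB2, Ψ, hF, hΨ⟩ := Groth.Agent.R2.H3.ProfReal.exists_indZariski_realizing A T g
  obtain ⟨-, eY, heY⟩ := Groth.Agent.S0703.result (PrimeSpectrum A) T g
  have key : ∀ y : PrimeSpectrum B,
      (PrimeSpectrum.comap (algebraMap A B) y,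
        ((Groth.Agent.R2.H3.ProfReal.pi0Homeo Ψ).trans eY) (_root_.ConnectedComponents.mk y)) =
        (Ψ y).1 := by
    intro y
    rw [Homeomorph.trans_apply, Groth.Agent.R2.H3.ProfReal.pi0Homeo_mk, heY]
    exact Prod.ext (hΨ y).symm rfl
  refine ⟨B, iB1, iB2, (Groth.Agent.R2.H3.ProfReal.pi0Homeo Ψ).trans eY,
    Groth.Agent.R2.H3.IndZarFactor.isIndZariski_of_factor hF, ?_, ?_, ?_⟩
  · intro y
    have h1 := congrArg Prod.fst (key y)
    have h2 := congrArg Prod.snd (key y)
    simp only at h1 h2
    rw [h2, h1]
    exact (Ψ y).2.symm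
  · have : (fun y : PrimeSpectrum B => (PrimeSpectrum.comap (algebraMap A B) y,
        ((Groth.Agent.R2.H3.ProfReal.pi0Homeo Ψ).trans eY) (_root_.ConnectedComponents.mk y))) =
        Subtype.val ∘ Ψ := funext key
    rw [this]
    exact Topology.IsEmbedding.subtypeVal.comp Ψ.isEmbedding
  · have : (fun y : PrimeSpectrum B => (PrimeSpectrum.comap (algebraMap A B) y,
        ((Groth.Agent.R2.H3.ProfReal.pi0Homeo Ψ).trans eY) (_root_.ConnectedComponents.mk y))) =
        Subtype.val ∘ Ψ := funext key
    rw [this, Set.range_comp, Ψ.surjective.range_eq, Set.image_univ, Subtype.range_coe_subtype]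

end Groth.Agent.S0697
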