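import Groth.Statements.S0739
import Groth.Agent.R2.H3GeomLift

set_option autoImplicit false
open CategoryTheory CategoryTheory.Limits AlgebraicGeometry Opposite
universe u
open ProEtS

namespace Groth.Agent.S0739

/-- Let U be an object of X_proet, R a covering sieve on U, and xi : Spec k -> U a geometric point (k
separably closed). Then there is a morphism V -> U in R and a geometric point of V with the same
field mapping to xi. -/
theorem result {X : Scheme.{u}} (U : X.ProEt) (R : Sieve U)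
    (hR : R ∈ Scheme.ProEt.topology X U) {k : Type u} [Field k] [IsSepClosed k]
    (ξ : Spec (CommRingCat.of k) ⟶ U.left) :
    ∃ (V : X.ProEt) (g : V ⟶ U) (ξ' : Spec (CommRingCat.of k) ⟶ V.left), R g ∧ ξ' ≫ g.left = ξ := by
  rw [Groth.Agent.Lib.Helper9.ProEt.mem_topology_iff] at hR
  obtain ⟨R', hR', hle⟩ := hR
  rw [Groth.Agent.Lib.Helper9.ProEt.mem_precoverage_iff] at hR'
  have hjs := hR'.2.1
  rw [Presieve.mem_comap_jointlySurjectivePrecoverage_iff] at hjs
  have : Nonempty ↥(Spec (CommRingCat.of k)) :=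
    (inferInstance : Nonempty (PrimeSpectrum k))
  obtain ⟨t⟩ := ‹Nonempty ↥(Spec (CommRingCat.of k))›
  obtain ⟨Y, f, ⟨hf⟩, y, hy⟩ := hjs (ξ.base t)
  rename_i V g
  have : WeaklyEtale g.left := Groth.Agent.Lib.Helper9.ProEt.weaklyEtale_left X g
  obtain ⟨ξ', hξ'⟩ := Groth.Agent.R2.H3.GeomLift.exists_lift_of_weaklyEtale g.left ξ ⟨y, t, hy⟩
  exact ⟨V, g, ξ', hle _ _ hf, hξ'⟩

end Groth.Agent.S0739
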