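import Groth.Statements.S0792
import Groth.Agent.Lib.Helper18Ann2
import Groth.Agent.Lib.Helper20FormalPull
import Groth.Agent.Lib.Helper20PullbackAff
import Groth.Agent.S0787
import Groth.Agent.R2.H54ClosedImm

set_option autoImplicit false
universe u
open Coherent

namespace Groth.Agent.S0792

open AlgebraicGeometry CategoryTheory CategoryTheory.Limits TopologicalSpace in
/-- the support only depends on the isomorphism class (helper28's / helper12's argument) -/
theorem support_subset_of_iso {X : Scheme.{u}} {M N : X.Modules} (e : M ≅ N) :
    CohB1.support M ⊆ CohB1.support N := by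
  intro x hx
  simp only [CohB1.support, Set.mem_ofPred_eq] at hx ⊢
  intro hsub
  apply hx
  have e2 := (Scheme.Modules.toPresheaf X ⋙ TopCat.Presheaf.stalkFunctor Ab.{u} x).mapIso e
  exact @Equiv.subsingleton _ _ (e2.addCommGroupIsoToAddEquiv.toEquiv) hsub

open AlgebraicGeometry CategoryTheory CategoryTheory.Limits TopologicalSpace in
/-- the support of a pushforward along a closed immersion, pointwise on the image -/
theorem mem_support_push_iff {X Z : Scheme.{u}} (i : Z ⟶ X) [IsClosedImmersion i]
    (G₀ : Z.Modules) (z : Z) :
    i z ∈ CohB1.support ((Scheme.Modules.pushforward i).obj G₀) ↔ z ∈ CohB1.support G₀ := by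
  have h2 : IsIso (TopCat.Presheaf.stalkPushforward Ab i.base G₀.presheaf z) :=
    TopCat.Presheaf.stalkPushforward.stalkPushforward_iso_of_isInducing _
      i.isEmbedding.isInducing _ _
  have hb := ConcreteCategory.bijective_of_isIso
    (TopCat.Presheaf.stalkPushforward Ab i.base G₀.presheaf z)
  simp only [CohB1.support, Set.mem_ofPred_eq]
  refine not_congr ⟨fun hsub => ?_, fun hsub => ?_⟩
  · exact @Equiv.subsingleton _ _ (Equiv.ofBijective _ hb).symm hsub
  · exact @Equiv.subsingleton _ _ (Equiv.ofBijective _ hb) hsub

open CategoryTheory AlgebraicGeometry in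
/-- Let f : X → S be locally of finite type and F a quasi-coherent O_X-module of finite type. The
support of F is proper over S if and only if there are a closed subscheme i : Z → X with Z proper
over S and a quasi-coherent O_Z-module G of finite type with i_* G isomorphic to F. (The published
statement also gives a further equivalent condition, that the scheme-theoretic support of F is
proper over S; it is not used here.) -/
theorem result {X S : Scheme.{u}} (f : X ⟶ S) [LocallyOfFiniteType f]
    (F : X.Modules) (hq : Coh.IsQCoh F) (hft : CohB1.IsFT F) :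
    ClSub.IsProperOver f (CohB1.support F) ↔
      ∃ (Z : Scheme.{u}) (i : Z ⟶ X), IsClosedImmersion i ∧ IsProper (i ≫ f) ∧
        ∃ G : Z.Modules, Coh.IsQCoh G ∧ CohB1.IsFT G ∧
          Nonempty ((Scheme.Modules.pushforward i).obj G ≅ F) := by
  constructor
  · intro hs
    have : F.IsQuasicoherent := hq
    obtain ⟨J, -, hunit, -, hsupp⟩ := Groth.Agent.Helper18Ann.main_S9377 F hft
    have hcl : IsClosed (CohB1.support F) := hs.1
    have hrange : Set.range ⇑J.subschemeι = CohB1.support F := by
      rw [Scheme.IdealSheafData.range_subschemeι, hsupp]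
    have hprop : IsProper (J.subschemeι ≫ f) :=
      ((Groth.Agent.S0787.result f (CohB1.support F) hcl).2.1 hs) J.subscheme J.subschemeι
        inferInstance hrange
    refine ⟨J.subscheme, J.subschemeι, inferInstance, hprop,
      (Scheme.Modules.pullback J.subschemeι).obj F, ?_, ?_, ?_⟩
    · exact Groth.Agent.Lib.Helper20.PullbackAff.isQuasicoherent_pullback J.subschemeι F
    · exact Groth.Agent.Lib.Helper20.FormalPull.isFiniteType_pullback J.subschemeι F
    · have : IsIso ((Scheme.Modules.pullbackPushforwardAdjunction J.subschemeι).unit.app F) := hunit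
      exact ⟨(asIso ((Scheme.Modules.pullbackPushforwardAdjunction J.subschemeι).unit.app F)).symm⟩
  · rintro ⟨Z, i, hi, hp, G, hG, hGft, ⟨e⟩⟩
    have : G.IsQuasicoherent := hG
    obtain ⟨J, -, -, -, hsupp⟩ := Groth.Agent.Helper18Ann.main_S9377 G hGft
    have hrange : Set.range ⇑J.subschemeι = CohB1.support G := by
      rw [Scheme.IdealSheafData.range_subschemeι, hsupp]
    -- the support of `F` is the image of the support of `G`
    have hFG : CohB1.support F = i '' CohB1.support G := by
      apply Set.Subset.antisymm
      · intro x hx
        have hx' : x ∈ CohB1.support ((Scheme.Modules.pushforward i).obj G) :=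
          support_subset_of_iso e.symm hx
        by_cases hxr : x ∈ Set.range i
        · obtain ⟨z, rfl⟩ := hxr
          exact ⟨z, (mem_support_push_iff i G z).1 hx', rfl⟩
        · exfalso
          exact hx' (Groth.Agent.R2.H54.ClosedImm.subsingleton_stalk_push i G x hxr)
      · rintro _ ⟨z, hz, rfl⟩
        apply support_subset_of_iso e
        exact (mem_support_push_iff i G z).2 hz
    have hk : Set.range ⇑(J.subschemeι ≫ i) = CohB1.support F := by
      rw [hFG, ← hrange, Scheme.Hom.comp_base, TopCat.coe_comp, Set.range_comp]
    have hcl : IsClosed (CohB1.support F) := by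
      rw [← hk]
      exact (J.subschemeι ≫ i).isClosedEmbedding.isClosed_range
    refine (Groth.Agent.S0787.result f (CohB1.support F) hcl).1.2
      ⟨J.subscheme, J.subschemeι ≫ i, inferInstance, hk, ?_⟩
    rw [Category.assoc]
    infer_instance

end Groth.Agent.S0792
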