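import Groth.Statements.S0820
import Mathlib
import Groth.Agent.R2.H12Dev4B
import Groth.Agent.S0819
-- import your own Groth.Agent.* helpers here

set_option autoImplicit false
universe u
open Coherent

namespace Groth.Agent.S0820

open CategoryTheory CategoryTheory.Limits AlgebraicGeometry TopologicalSpace Opposite
  Groth.Agent.R2.H12.Dev Groth.Agent.Lib.Helper23.GenLocus in
theorem closure_generic {X Z : Scheme.{u}} (i : Z ⟶ X) [IsClosedImmersion i] [IrreducibleSpace Z] :
    closure {i (genericPoint Z)} = Set.range i := by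
  have h1 : closure ({genericPoint Z} : Set Z) = Set.univ := (genericPoint_spec Z).def
  rw [← Set.image_singleton, i.isClosedEmbedding.closure_image_eq, h1, Set.image_univ]

open CategoryTheory CategoryTheory.Limits AlgebraicGeometry TopologicalSpace Opposite
  Groth.Agent.R2.H12.Dev Groth.Agent.Lib.Helper23.GenLocus in
/-- the structure sheaf of an integral closed subscheme `i' : Z' ⟶ Y`, pushed forward along `f : Y ⟶ X` -/
theorem aux1 {Y X : Scheme.{u}} (f : Y ⟶ X) [IsFinite f] [IsLocallyNoetherian X]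
    (Z' : Scheme.{u}) (i' : Z' ⟶ Y) [IsClosedImmersion i'] [IsIntegral Z'] (ξ : X)
    (hξ : f (i' (genericPoint Z')) = ξ) :
    Coh.IsCoh ((Scheme.Modules.pushforward i').obj (Coh.structureModule Z')) ∧
    CohB1.support ((Coh.push f).obj ((Scheme.Modules.pushforward i').obj (Coh.structureModule Z'))) =
      closure {ξ} ∧
    ∀ a ∈ IsLocalRing.maximalIdeal (X.presheaf.stalk ξ),
      ∀ m : ↑(((Coh.push f).obj ((Scheme.Modules.pushforward i').obj
        (Coh.structureModule Z'))).presheaf.stalk ξ), a • m = 0 := by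
  subst hξ
  have hYN : IsLocallyNoetherian Y := LocallyOfFiniteType.isLocallyNoetherian f
  have hZN : IsLocallyNoetherian Z' := LocallyOfFiniteType.isLocallyNoetherian i'
  have hO : Coh.IsCoh (Coh.structureModule Z') := Groth.Agent.R2.H5.CohThick.isCoh_structureModule Z'
  set F := (Scheme.Modules.pushforward i').obj (Coh.structureModule Z') with hF
  have hFc : Coh.IsCoh F := Groth.Agent.S0019.result i' _ hO
  refine ⟨hFc, ?_, ?_⟩
  · -- support
    have hcl : f '' (Set.range i') = closure {f (i' (genericPoint Z'))} := by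
      apply subset_antisymm
      · have h2 : f '' closure {i' (genericPoint Z')} ⊆ closure (f '' {i' (genericPoint Z')}) :=
          image_closure_subset_closure_image f.continuous
        rwa [Set.image_singleton, closure_generic] at h2
      · have h1 : IsClosed (f '' (Set.range i')) := f.isClosedMap _ i'.isClosedEmbedding.isClosed_range
        exact h1.closure_subset_iff.2 (Set.singleton_subset_iff.2 ⟨_, ⟨_, rfl⟩, rfl⟩)
    rw [← hcl]
    apply subset_antisymm
    · intro x hx
      by_contra hxn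
      have hWo : IsOpen (f '' (Set.range i'))ᶜ :=
        (f.isClosedMap _ i'.isClosedEmbedding.isClosed_range).isOpen_compl
      let W : X.Opens := ⟨_, hWo⟩
      have hW : i' ⁻¹ᵁ (f ⁻¹ᵁ W) = ⊥ := by
        ext z
        simp only [Opens.coe_bot, Set.mem_empty_iff_false, iff_false]
        intro hz
        exact hz ⟨i' z, ⟨z, rfl⟩, rfl⟩
      have hv : VanOn F (f ⁻¹ᵁ W) := vanOn_push_of_preimage_eq_bot i' _ _ hW
      have hv' : VanOn ((Coh.push f).obj F) W := fun W' hW' s =>
        hv (f ⁻¹ᵁ W') (Scheme.Hom.preimage_mono f hW') s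
      exact Groth.Agent.S0819.support_disjoint_of_vanOn _ W hv' x hxn hx
    · rintro _ ⟨_, ⟨z, rfl⟩, rfl⟩
      intro hsub
      have h01 := hsub.elim
        (((Coh.push f).obj F).presheaf.germ ⊤ (f (i' z)) trivial (toS (Y := Z') ⊤ 1))
        (((Coh.push f).obj F).presheaf.germ ⊤ (f (i' z)) trivial (toS (Y := Z') ⊤ 0))
      obtain ⟨V, hzV, j₁, j₂, hV⟩ := ((Coh.push f).obj F).presheaf.germ_eq (U := ⊤) (V := ⊤) (f (i' z))
        trivial trivial _ _ h01
      have h1 : Z'.presheaf.map (homOfLE (le_top : i' ⁻¹ᵁ (f ⁻¹ᵁ V) ≤ ⊤)).op (1 : Γ(Z', ⊤)) =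
          Z'.presheaf.map (homOfLE (le_top : i' ⁻¹ᵁ (f ⁻¹ᵁ V) ≤ ⊤)).op (0 : Γ(Z', ⊤)) := hV
      rw [map_one, map_zero] at h1
      have hne : Nonempty (i' ⁻¹ᵁ (f ⁻¹ᵁ V) : Z'.Opens) := ⟨⟨z, hzV⟩⟩
      exact one_ne_zero h1
  · intro a ha m
    obtain ⟨V, hV, b, rfl⟩ := X.presheaf.exists_germ_eq (x := f (i' (genericPoint Z'))) a
    obtain ⟨V', hV', s, rfl⟩ := ((Coh.push f).obj F).presheaf.exists_germ_eq
      (x := f (i' (genericPoint Z'))) m
    have hW : f (i' (genericPoint Z')) ∈ V ⊓ V' := ⟨hV, hV'⟩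
    have hb := X.presheaf.germ_res_apply (homOfLE inf_le_left : V ⊓ V' ⟶ V) _ hW b
    have hs := ((Coh.push f).obj F).presheaf.germ_res_apply
      (homOfLE inf_le_right : V ⊓ V' ⟶ V') _ hW s
    rw [← hb, ← hs]
    rw [← hb] at ha
    generalize X.presheaf.map (homOfLE inf_le_left : V ⊓ V' ⟶ V).op b = b' at ha ⊢
    generalize ((Coh.push f).obj F).presheaf.map (homOfLE inf_le_right : V ⊓ V' ⟶ V').op s = s'
    rw [← Groth.Agent.R2.H27.PushStalk.germ_smul]
    have hc0 : i'.app (f ⁻¹ᵁ (V ⊓ V')) (f.app (V ⊓ V') b') = 0 := by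
      apply germ_injective_of_isIntegral Z' (genericPoint Z') (show genericPoint Z' ∈ i' ⁻¹ᵁ (f ⁻¹ᵁ (V ⊓ V')) from hW)
      rw [map_zero, ← Scheme.Hom.germ_stalkMap_apply i' (f ⁻¹ᵁ (V ⊓ V')) (genericPoint Z') hW,
        ← Scheme.Hom.germ_stalkMap_apply f (V ⊓ V') (i' (genericPoint Z')) hW]
      have h1 := _root_.map_nonunit (f.stalkMap (i' (genericPoint Z'))).hom _ ha
      have h2 := _root_.map_nonunit (i'.stalkMap (genericPoint Z')).hom _ h1
      have h3 : IsLocalRing.maximalIdeal (Z'.presheaf.stalk (genericPoint Z')) = ⊥ :=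
        IsLocalRing.maximalIdeal_eq_bot (R := Z'.functionField)
      rw [h3] at h2
      exact h2
    have hbs : (b' • s' : Γ((Coh.push f).obj F, V ⊓ V')) = 0 := by
      change (i'.app (f ⁻¹ᵁ (V ⊓ V')) (f.app (V ⊓ V') b')) •
        (show Γ(Coh.structureModule Z', i' ⁻¹ᵁ (f ⁻¹ᵁ (V ⊓ V'))) from s') = 0
      rw [hc0, zero_smul]
    rw [hbs, map_zero]

open CategoryTheory CategoryTheory.Limits AlgebraicGeometry TopologicalSpace Opposite
  Groth.Agent.R2.H12.Dev Groth.Agent.Lib.Helper23.GenLocus in
theorem aux {Y X : Scheme.{u}} (f : Y ⟶ X) [IsFinite f]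
    [Surjective f] [IsLocallyNoetherian X] (Z : Scheme.{u}) (i : Z ⟶ X) [IsClosedImmersion i] [IsIntegral Z] :
    ∃ F : Y.Modules, Coh.IsCoh F ∧ CohB1.support ((Coh.push f).obj F) = Set.range ⇑i ∧
      ∀ a ∈ IsLocalRing.maximalIdeal (X.presheaf.stalk (i (genericPoint Z))),
        ∀ m : ↑(((Coh.push f).obj F).presheaf.stalk (i (genericPoint Z))), a • m = 0 := by
  obtain ⟨y, hy⟩ := f.surjective (i (genericPoint Z))
  have hqc : QuasiCompact (Y.fromSpecResidueField y) := inferInstance
  have hZ' : IsIntegral (Y.fromSpecResidueField y).image := isIntegral_image _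
  have hr : Set.range (Y.fromSpecResidueField y).imageι = closure (Set.range (Y.fromSpecResidueField y)) := by
    rw [Scheme.Hom.imageι, Scheme.IdealSheafData.range_subschemeι, Scheme.Hom.support_ker]
  have hy' : (Y.fromSpecResidueField y).imageι (genericPoint (Y.fromSpecResidueField y).image) = y := by
    apply Inseparable.eq
    apply Specializes.antisymm
    · rw [specializes_iff_mem_closure, closure_generic, hr]
      obtain ⟨pt⟩ : Nonempty (Spec (Y.residueField y)) := inferInstance
      exact subset_closure ⟨pt, Scheme.fromSpecResidueField_apply _ _⟩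
    · rw [specializes_iff_mem_closure]
      have h1 : (Y.fromSpecResidueField y).imageι (genericPoint (Y.fromSpecResidueField y).image) ∈
          closure (Set.range (Y.fromSpecResidueField y)) := hr ▸ ⟨_, rfl⟩
      refine closure_mono ?_ h1
      rintro _ ⟨s, rfl⟩
      exact Scheme.fromSpecResidueField_apply _ _
  obtain ⟨h1, h2, h3⟩ := aux1 f _ (Y.fromSpecResidueField y).imageι (i (genericPoint Z)) (by rw [hy', hy])
  exact ⟨_, h1, by rw [h2, closure_generic], h3⟩

open CategoryTheory AlgebraicGeometry in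
/-- Let f : Y → X be finite and surjective with X locally Noetherian, and let i : Z → X be a closed
immersion from an integral scheme, ξ the image of the generic point of Z. Then some coherent
O_Y-module F has f_* F supported exactly on i(Z), with the stalk of f_* F at ξ killed by every
element of 𝔪_{X,ξ}, the maximal ideal of O_{X,ξ}. -/
theorem result {Y X : Scheme.{u}} (f : Y ⟶ X) [IsFinite f]
    [Surjective f] [IsLocallyNoetherian X] (Z : Scheme.{u}) (i : Z ⟶ X) [IsClosedImmersion i] [IsIntegral Z] :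
    ∃ F : Y.Modules, Coh.IsCoh F ∧ CohB1.support ((Coh.push f).obj F) = Set.range ⇑i ∧
      ∀ a ∈ IsLocalRing.maximalIdeal (X.presheaf.stalk (i (genericPoint Z))),
        ∀ m : ↑(((Coh.push f).obj F).presheaf.stalk (i (genericPoint Z))), a • m = 0 := by
  exact aux f Z i

end Groth.Agent.S0820
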