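import Groth.Statements.S0894


set_option autoImplicit false
universe u
open CategoryTheory
open Hyper

namespace Groth.Agent.S0894

open Limits in
/-- a morphism of formal coproducts with a section is a covering -/
theorem isSRCovering_of_section {D : Type u} [SmallCategory D] (J' : GrothendieckTopology D)
    {A B : FormalCoproduct.{u} D} (f : A ⟶ B) (s : B ⟶ A) (h : s ≫ f = 𝟙 B) :
    Hyper.IsSRCovering J' f := by
  intro j
  obtain ⟨h1, h2⟩ := (FormalCoproduct.hom_ext_iff _ _).1 h
  have hfj : f.f (s.f j) = j := congrFun h1 j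
  have hid : (Sieve.ofArrows (fun i : {i : A.I // f.f i = j} => A.obj i.1)
      (fun i => f.φ i.1 ≫ eqToHom (congrArg B.obj i.2))) (𝟙 (B.obj j)) := by
    rw [Sieve.mem_ofArrows_iff]
    refine ⟨⟨s.f j, hfj⟩, s.φ j, ?_⟩
    have := h2 j
    simp only [FormalCoproduct.category_comp_φ, FormalCoproduct.category_id_φ, Category.assoc]
      at this
    exact this.symm
  rw [(Sieve.id_mem_iff_eq_top).1 hid]
  exact J'.top_mem _

open Opposite in
/-- For a hypercovering K of an object X of a site with fibre products (a simplicial semi-representable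
object over X; coskeleta are assumed to exist): (1) for each n the family K_n is a covering of X,
and (2) every face map d_i : K_{n+1} -> K_n is a covering morphism of semi-representable objects. -/
theorem result {C : Type u} [SmallCategory C] [Limits.HasPullbacks C]
    (J : GrothendieckTopology C) (X : C) (K : SimplicialObject (Limits.FormalCoproduct.{u} (Over X)))
    [∀ (n : ℕ) (F : (SimplexCategory.Truncated n)ᵒᵖ ⥤ Limits.FormalCoproduct.{u} (Over X)),
      (SimplexCategory.Truncated.inclusion n).op.HasRightKanExtension F]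
    (hK : Hyper.IsHypercovering J X K) :
    (∀ n : ℕ, Sieve.ofArrows (fun i => ((K.obj (op (SimplexCategory.mk n))).obj i).left)
      (fun i => ((K.obj (op (SimplexCategory.mk n))).obj i).hom) ∈ J X) ∧
    ∀ (n : ℕ) (i : Fin (n + 2)), Hyper.IsSRCovering (J.over X) (K.δ i) := by
  refine ⟨fun n => ?_, fun n i => ?_⟩
  · refine J.superset_covering ?_ hK.1
    intro V g hg
    obtain ⟨i, a, rfl⟩ := (Sieve.mem_ofArrows_iff _ _ _).1 hg
    let σ : K.obj (op (SimplexCategory.mk 0)) ⟶ K.obj (op (SimplexCategory.mk n)) :=
      K.map (SimplexCategory.const (SimplexCategory.mk n) (SimplexCategory.mk 0) 0).op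
    rw [Sieve.mem_ofArrows_iff]
    refine ⟨σ.f i, a ≫ (σ.φ i).left, ?_⟩
    rw [Category.assoc, Over.w]
  · by_cases hi : i = 0
    · subst hi
      exact isSRCovering_of_section _ _ (K.σ 0) (K.δ_comp_σ_self (i := 0))
    · have : i = (i.pred hi).succ := (Fin.succ_pred i hi).symm
      rw [this]
      exact isSRCovering_of_section _ _ (K.σ (i.pred hi)) K.δ_comp_σ_succ

end Groth.Agent.S0894
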