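import Groth.Statements.S0901
import Groth.Agent.R2.H10CechCoarseB
import Groth.Agent.S0455
-- import your own Groth.Agent.* helpers here

set_option autoImplicit false
universe u
open CategoryTheory
open CohTop

namespace Groth.Agent.S0901

open TopologicalSpace Opposite CategoryTheory.Limits in
/-- Let F be an abelian sheaf on X and U_i a family of opens with union U. Assume that for every union
U' of opens of the form U_{i_0} ∩ ... ∩ U_{i_p} the restriction map F(U) -> F(U') is surjective.
Then the Cech cohomology of F with respect to the family vanishes in all positive degrees. -/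
theorem result {X : TopCat.{u}} (F : CohTop.Ab X)
    {ι : Type u} (U : ι → Opens X)
    (h : ∀ (κ : Type u) (a : κ → Σ p : ℕ, Fin (p + 1) → ι),
      Function.Surjective (F.obj.map (homOfLE
        (iSup_le fun k => (iInf_le _ ⟨0, Nat.succ_pos _⟩).trans (le_iSup U ((a k).2 ⟨0, Nat.succ_pos _⟩)) :
          (⨆ k, ⨅ j, U ((a k).2 j)) ≤ iSup U)).op)) (p : ℕ) :
    IsZero (CohTop.cechH F.obj U (p + 1)) := by
  have hfl : TopCat.Sheaf.IsFlasque (Groth.Agent.R2.H10.CechCoarseB.G U F) :=
    Groth.Agent.R2.H10.CechCoarseB.isFlasque_G U F (fun κ a _ => h κ a)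
  have hz : IsZero (CohTop.cechH (Groth.Agent.R2.H10.CechCoarseB.G U F).obj
      (Groth.Agent.R2.H10.CechCoarseB.V U) (p + 1)) :=
    Groth.Agent.S0455.result (Groth.Agent.R2.H10.CechCoarseB.G U F) (Groth.Agent.R2.H10.CechCoarseB.V U) p
  exact Groth.Agent.R2.H10.CechCoarse.isZero_of_transfer (Groth.Agent.R2.H10.CechCoarseB.Φ U) F.obj
    (Groth.Agent.R2.H10.CechCoarseB.V U) U
    (fun _ x => Groth.Agent.R2.H10.CechCoarseB.Φ_Ux_le U x)
    (fun _ x => Groth.Agent.R2.H10.CechCoarseB.Ux_le_Φ U x) p hz

end Groth.Agent.S0901
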