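import Groth.Statements.S0906
import Groth.Agent.R2.H38HypOver

set_option autoImplicit false
universe u
open CategoryTheory
open Hyper

namespace Groth.Agent.S0906

open Opposite CategoryTheory.Limits in
/-- For a hypercovering K of an object X of a site with fibre products and an abelian sheaf F, the
degree-zero Cech cohomology group of F with respect to K is isomorphic to F(X). -/
theorem result {C : Type u} [SmallCategory C] [HasPullbacks C]
    (J : GrothendieckTopology C) (X : C) (K : SimplicialObject (FormalCoproduct.{u} (Over X)))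
    [∀ (n : ℕ) (F : (SimplexCategory.Truncated n)ᵒᵖ ⥤ Limits.FormalCoproduct.{u} (Over X)),
      (SimplexCategory.Truncated.inclusion n).op.HasRightKanExtension F]
    (hK : Hyper.IsHypercovering J X K) (F : Sheaf J AddCommGrpCat.{u}) :
    Nonempty (Hyper.cechH X K F.obj 0 ≅ F.obj.obj (op X)) := by
  have hS := Groth.Agent.R2.H38.HypOver.isHypercoveringSite_over hK
  have hllp := Groth.Agent.R2.H38.HypSite.llp_of_isHypercoveringSite hS
  let G' : Sheaf (J.over X) AddCommGrpCat.{u} := (J.overPullback AddCommGrpCat.{u} X).obj F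
  obtain ⟨_, ⟨e⟩⟩ := Groth.Agent.R2.H38.HypCech.cech_of_llp (J.over X) G' K _ hllp
  obtain ⟨e2⟩ := Groth.Agent.R2.H38.HypCech.nonempty_homConst_iso_limit (J.over X) G'
  have t : IsInitial (op (Over.mk (𝟙 X))) := initialOpOfTerminal Over.mkIdTerminal
  let e3 : limit G'.obj ≅ G'.obj.obj (op (Over.mk (𝟙 X))) :=
    limit.isoLimitCone ⟨_, limitOfDiagramInitial t G'.obj⟩
  exact ⟨e ≪≫ e2 ≪≫ e3⟩

end Groth.Agent.S0906
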