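import Groth.Statements.S0914
import Groth.Agent.R2.H4FlatPerf

set_option autoImplicit false
universe u
open CategoryTheory
attribute [local instance] HasDerivedCategory.standard
open DCoh

namespace Groth.Agent.S0914

open AlgebraicGeometry in
/-- An object E of D(O_X) is perfect if and only if it is m-pseudo-coherent for every m and locally has
finite tor dimension. -/
theorem result {X : Scheme.{u}} (E : DCoh.D X) :
    DCoh.IsPerfect E ↔ (∀ m : ℤ, DCoh.IsPseudoCoherentD m E) ∧ DCoh.LocHasFiniteTorDim E :=
  Groth.Agent.R2.H4.FlatPerf.isPerfect_iff_pseudoCoherent_locFiniteTorDim E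

end Groth.Agent.S0914
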