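import Groth.Statements.S0935
import Groth.Agent.R2.H4DerivedAdj
import Groth.Agent.R2.H4RlimAdj
-- import your own Groth.Agent.* helpers here

set_option autoImplicit false
universe u
open CategoryTheory
attribute [local instance] HasDerivedCategory.standard
open DCoh

namespace Groth.Agent.S0935

open AlgebraicGeometry CategoryTheory.Limits in
/-- Let f : X → Y be a morphism of schemes and (K_n)_{n ≥ 0} an inverse system in D(O_X) with derived
limit L. Then Rf_*L is a derived limit of the system (Rf_*K_n). Here Rf_* is the total right derived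
functor of f_* under its existence binder, and the two countable products ∏ K_n and ∏ Rf_*K_n are
assumed to exist. (The published statement is for morphisms of ringed spaces; stated here for
schemes.) -/
theorem result {X Y : Scheme.{u}} (f : X ⟶ Y) [DCoh.HasRpush f]
    (K : ℕ → DCoh.D X) (t : ∀ n, K (n + 1) ⟶ K n) [HasProduct K] [HasProduct fun n => (DCoh.Rpush f).obj (K n)]
    (L : DCoh.D X) (hL : DCoh.IsRlim K t L) :
    DCoh.IsRlim (fun n => (DCoh.Rpush f).obj (K n)) (fun n => (DCoh.Rpush f).map (t n)) ((DCoh.Rpush f).obj L) := by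
  open Groth.Agent.Lib.Helper1.Sky Groth.Agent.R2.H4.DerivedAdj Groth.Agent.R2.H4.RlimAdj in
  haveI := hasLpull f
  haveI : PreservesLimitsOfShape (Discrete ℕ) (DCoh.Rpush f) :=
    haveI := (lpullRpushAdj f).rightAdjoint_preservesLimits
    inferInstance
  obtain ⟨a, c, h⟩ := hL
  obtain ⟨a', c', h'⟩ := exists_rlim_triangle_of_preserves.{u} (Scheme.Modules.pushforward f)
    (DCoh.Rpush f) (rpushUnitQ f) K t L a c h
  exact ⟨a', c', h'⟩

end Groth.Agent.S0935
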