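import Groth.Statements.S0961
import Groth.Agent.R2.H27ProjPerfE
import Groth.Agent.R2.H28ProjPkg3
import Groth.Agent.R2.H28ProjPkg4
import Groth.Agent.R2.H28ProjPkg7
import Groth.Agent.R2.H28ProjPkg8
import Groth.Agent.R2.H74ProjPkg5
-- import your own Groth.Agent.* helpers here

set_option autoImplicit false
universe u
open CategoryTheory
attribute [local instance] HasDerivedCategory.standard
open DCoh

namespace Groth.Agent.S0961

open AlgebraicGeometry in
/-- Schemes; K given by a K-flat complex P representing a perfect object, so that Lf^*K is f^*P: for f :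
X -> Y, E in D(O_X) and such a P there is an isomorphism Rf_* E ⊗^L P ≅ Rf_*(E ⊗^L f^* P). The
derived functors are taken under their existence binders. -/
theorem result {X Y : Scheme.{u}} (f : X ⟶ Y) [DCoh.HasRpush f] (P : CochainComplex Y.Modules ℤ)
    (hP : DCoh.IsKFlat P) (hperf : DCoh.IsPerfect (DerivedCategory.Q.obj P))
    [DCoh.HasLTensorCx P] [DCoh.HasLTensorCx (((Scheme.Modules.pullback f).mapHomologicalComplex (ComplexShape.up ℤ)).obj P)] (E : DCoh.D X) :
    Nonempty ((DCoh.LTensorCx P).obj ((DCoh.Rpush f).obj E) ≅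
      (DCoh.Rpush f).obj ((DCoh.LTensorCx (((Scheme.Modules.pullback f).mapHomologicalComplex (ComplexShape.up ℤ)).obj P)).obj E)) := by
  refine Groth.Agent.R2.H27.ProjPerfD.nonempty_iso_of_isIso_w f P hP E (fun I hI => ?_)
  have := hI
  exact Groth.Agent.R2.H27.ProjPerfE.isIso_w f Groth.Agent.R2.H28.ProjPkg3.pkg3a
    Groth.Agent.R2.H28.ProjPkg3.pkg3b Groth.Agent.R2.H28.ProjPkg4.pkg4
    Groth.Agent.R2.H74.ProjPkg5.pkg5 Groth.Agent.R2.H28.ProjPkg7.pkg7
    Groth.Agent.R2.H28.ProjPkg8.pkg8a Groth.Agent.R2.H28.ProjPkg8.pkg8b P hP hperf I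

end Groth.Agent.S0961
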