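import Groth.Statements.S0966
import Groth.Agent.R2.H27ProjClosedD

set_option autoImplicit false
universe u
open CategoryTheory
attribute [local instance] HasDerivedCategory.standard
open DCoh

namespace Groth.Agent.S0966

open AlgebraicGeometry in
/-- Schemes, f a closed immersion; K given by a K-flat complex P so that Lf^*K is f^*P: for E in D(O_X)
there is an isomorphism Rf_* E ⊗^L P ≅ Rf_*(E ⊗^L f^* P), with no perfectness assumption on P. The
derived functors are taken under their existence binders. -/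
theorem result {X Y : Scheme.{u}} (f : X ⟶ Y) [IsClosedImmersion f] [DCoh.HasRpush f]
    (P : CochainComplex Y.Modules ℤ) (hP : DCoh.IsKFlat P)
    [DCoh.HasLTensorCx P] [DCoh.HasLTensorCx (((Scheme.Modules.pullback f).mapHomologicalComplex (ComplexShape.up ℤ)).obj P)] (E : DCoh.D X) :
    Nonempty ((DCoh.LTensorCx P).obj ((DCoh.Rpush f).obj E) ≅
      (DCoh.Rpush f).obj ((DCoh.LTensorCx (((Scheme.Modules.pullback f).mapHomologicalComplex (ComplexShape.up ℤ)).obj P)).obj E)) := by
  classical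
  -- a complex representing `E`
  let K := (DerivedCategory.Q (C := X.Modules)).objPreimage E
  have e0 : DerivedCategory.Q.obj K ≅ E := (DerivedCategory.Q (C := X.Modules)).objObjPreimageIso E
  let fP := ((Scheme.Modules.pullback f).mapHomologicalComplex (ComplexShape.up ℤ)).obj P
  have hfP : DCoh.IsKFlat fP := Groth.Agent.S0960.isKFlat_pullC f P hP
  have hP' : ModSite.IsKFlat (O := Y.sheaf) P := hP
  have hfP' : ModSite.IsKFlat (O := X.sheaf) fP := hfP
  have hP1 : ModSite.HasLTensorCx (O := Y.sheaf) P := (inferInstance : DCoh.HasLTensorCx P)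
  have hfP1 : ModSite.HasLTensorCx (O := X.sheaf) fP := (inferInstance : DCoh.HasLTensorCx fP)
  -- `Rf_*` is computed termwise
  have hρ := Groth.Agent.R2.H27.ProjClosedD.isIso_rpushUnitQ f
  let ρ := @asIso _ _ _ _ _ hρ
  -- the derived tensor products with K-flat complexes are computed termwise
  have hcP : IsIso ((DCoh.tensorCxQ P).totalLeftDerivedCounit DerivedCategory.Q
      (HomologicalComplex.quasiIso Y.Modules (ComplexShape.up ℤ))) :=
    Groth.Agent.R2.H27.LTensorAssoc.isIso_counit_of_isKFlat_right (O := Y.sheaf) P hP'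
  have hcfP : IsIso ((DCoh.tensorCxQ fP).totalLeftDerivedCounit DerivedCategory.Q
      (HomologicalComplex.quasiIso X.Modules (ComplexShape.up ℤ))) :=
    Groth.Agent.R2.H27.LTensorAssoc.isIso_counit_of_isKFlat_right (O := X.sheaf) fP hfP'
  let cP := @asIso _ _ _ _ _ hcP
  let cfP := @asIso _ _ _ _ _ hcfP
  obtain ⟨π⟩ := Groth.Agent.R2.H27.ProjClosedD.nonempty_projTotIso f K P
  -- left hand side
  let pK := (Groth.Agent.R2.H4.DerivedAdj.pushC f).obj K
  have l1 : (DCoh.LTensorCx P).obj ((DCoh.Rpush f).obj E) ≅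
      (DCoh.LTensorCx P).obj (DerivedCategory.Q.obj pK) :=
    (DCoh.LTensorCx P).mapIso ((DCoh.Rpush f).mapIso e0.symm ≪≫ (ρ.app K).symm)
  have l2 : (DCoh.LTensorCx P).obj (DerivedCategory.Q.obj pK) ≅
      DerivedCategory.Q.obj ((DCoh.tensorCx.obj pK).obj P) := cP.app pK
  -- right hand side
  have r1 : (DCoh.LTensorCx fP).obj E ≅ DerivedCategory.Q.obj ((DCoh.tensorCx.obj K).obj fP) :=
    (DCoh.LTensorCx fP).mapIso e0.symm ≪≫ cfP.app K
  have r2 : (DCoh.Rpush f).obj ((DCoh.LTensorCx fP).obj E) ≅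
      DerivedCategory.Q.obj ((Groth.Agent.R2.H4.DerivedAdj.pushC f).obj
        ((DCoh.tensorCx.obj K).obj fP)) :=
    (DCoh.Rpush f).mapIso r1 ≪≫ (ρ.app ((DCoh.tensorCx.obj K).obj fP)).symm
  exact ⟨l1 ≪≫ l2 ≪≫ DerivedCategory.Q.mapIso π ≪≫ r2.symm⟩

end Groth.Agent.S0966
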