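import Groth.Statements.S0983
import Mathlib

set_option autoImplicit false
universe v u
open CategoryTheory
open CohDer

namespace Groth.Agent.S0983

open CategoryTheory.Pretriangulated in
/-- In a triangulated category, a commutative square f ≫ v = u ≫ f' (with f : X ⟶ Y, f' : X' ⟶ Y', u : X
⟶ X', v : Y ⟶ Y') extends to a diagram with three distinguished rows (X, Y, Z), (X', Y', Z'), (X'',
Y'', Z'') and three distinguished columns (X, X', X''), (Y, Y', Y''), (Z, Z', Z''), in which all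
squares commute except the one formed by the third morphisms of the last row and last column, which
anticommutes; the fourth row and column are the shifts of the first ones. -/
theorem result {D : Type u} [Category.{v} D] [Preadditive D] [Limits.HasZeroObject D] [HasShift D ℤ]
    [∀ n : ℤ, (shiftFunctor D n).Additive] [Pretriangulated D] [IsTriangulated D]
    {X Y X' Y' : D} (f : X ⟶ Y) (f' : X' ⟶ Y') (u : X ⟶ X') (v : Y ⟶ Y') (comm : f ≫ v = u ≫ f') :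
    ∃ (Z Z' X'' Y'' Z'' : D) (g : Y ⟶ Z) (h : Z ⟶ (shiftFunctor D (1 : ℤ)).obj X)
      (g' : Y' ⟶ Z') (h' : Z' ⟶ (shiftFunctor D (1 : ℤ)).obj X')
      (f'' : X'' ⟶ Y'') (g'' : Y'' ⟶ Z'') (h'' : Z'' ⟶ (shiftFunctor D (1 : ℤ)).obj X'')
      (u' : X' ⟶ X'') (u'' : X'' ⟶ (shiftFunctor D (1 : ℤ)).obj X)
      (v' : Y' ⟶ Y'') (v'' : Y'' ⟶ (shiftFunctor D (1 : ℤ)).obj Y)
      (w : Z ⟶ Z') (w' : Z' ⟶ Z'') (w'' : Z'' ⟶ (shiftFunctor D (1 : ℤ)).obj Z),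
      Triangle.mk f g h ∈ distinguishedTriangles ∧ Triangle.mk f' g' h' ∈ distinguishedTriangles ∧
      Triangle.mk f'' g'' h'' ∈ distinguishedTriangles ∧
      Triangle.mk u u' u'' ∈ distinguishedTriangles ∧ Triangle.mk v v' v'' ∈ distinguishedTriangles ∧
      Triangle.mk w w' w'' ∈ distinguishedTriangles ∧
      g ≫ w = v ≫ g' ∧ h ≫ (shiftFunctor D (1 : ℤ)).map u = w ≫ h' ∧
      f' ≫ v' = u' ≫ f'' ∧ g' ≫ w' = v' ≫ g'' ∧ h' ≫ (shiftFunctor D (1 : ℤ)).map u' = w' ≫ h'' ∧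
      f'' ≫ v'' = u'' ≫ (shiftFunctor D (1 : ℤ)).map f ∧ g'' ≫ w'' = v'' ≫ (shiftFunctor D (1 : ℤ)).map g ∧
      h'' ≫ (shiftFunctor D (1 : ℤ)).map u'' = -(w'' ≫ (shiftFunctor D (1 : ℤ)).map h) := by
  obtain ⟨Z, g, h, hT⟩ := distinguished_cocone_triangle f
  obtain ⟨Z', g', h', hT'⟩ := distinguished_cocone_triangle f'
  obtain ⟨X'', u', u'', hTu⟩ := distinguished_cocone_triangle u
  obtain ⟨Y'', v', v'', hTv⟩ := distinguished_cocone_triangle v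
  obtain ⟨A, p, q, hTd⟩ := distinguished_cocone_triangle (f ≫ v)
  obtain ⟨m₁, m₃, a₁, a₂, a₃, a₄, amem⟩ :=
    Triangulated.someOctahedron (rfl : f ≫ v = f ≫ v) hT hTv hTd
  obtain ⟨n₁, n₃, b₁, b₂, b₃, b₄, bmem⟩ := Triangulated.someOctahedron comm.symm hTu hT' hTd
  obtain ⟨Z'', g'', h'', hT''⟩ := distinguished_cocone_triangle (n₁ ≫ m₃)
  have h23 : Triangle.mk m₃ (v'' ≫ (shiftFunctor D (1 : ℤ)).map g)
      (-(shiftFunctor D (1 : ℤ)).map m₁) ∈ distTriang D := rot_of_distTriang _ amem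
  obtain ⟨k₁, k₃, c₁, c₂, c₃, c₄, cmem⟩ :=
    Triangulated.someOctahedron (rfl : n₁ ≫ m₃ = n₁ ≫ m₃) bmem h23 hT''
  have hw : Triangle.mk (m₁ ≫ n₃) k₁ k₃ ∈ distTriang D := by
    rw [rotate_distinguished_triangle]
    refine isomorphic_distinguished _ cmem _ (Triangle.isoMk _ _ (Iso.refl _) (Iso.refl _)
      (Iso.refl _) ?_ ?_ ?_)
    · change k₁ ≫ 𝟙 Z'' = 𝟙 Z' ≫ k₁
      simp
    · change k₃ ≫ 𝟙 _ = 𝟙 Z'' ≫ k₃
      simp
    · change (-(shiftFunctor D (1 : ℤ)).map (m₁ ≫ n₃)) ≫ (shiftFunctor D (1 : ℤ)).map (𝟙 Z') =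
        𝟙 _ ≫ ((-(shiftFunctor D (1 : ℤ)).map m₁) ≫ (shiftFunctor D (1 : ℤ)).map n₃)
      simp
  refine ⟨Z, Z', X'', Y'', Z'', g, h, g', h', n₁ ≫ m₃, g'', h'', u', u'', v', v'',
    m₁ ≫ n₃, k₁, k₃, hT, hT', hT'', hTu, hTv, hw, ?_, ?_, ?_, ?_, ?_, ?_, ?_, ?_⟩
  · rw [reassoc_of% a₁, b₃]
  · rw [Category.assoc, ← b₄, reassoc_of% a₂]
  · rw [reassoc_of% b₁, a₃]
  · rw [← b₃, Category.assoc, c₁, reassoc_of% a₃]
  · exact c₂.symm
  · rw [Category.assoc, ← a₄, reassoc_of% b₂]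
  · exact c₃
  · rw [← b₂, Functor.map_comp, reassoc_of% c₄, ← a₂, Functor.map_comp]
    simp

end Groth.Agent.S0983
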