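import Groth.Statements.S10003
-- import your own Groth.Agent.* helpers here
import Groth.Agent.R2.H43IdealCut
import Groth.Agent.R2.H43CutOut
import Groth.Agent.R2.H83SchClosure
import Groth.Agent.S9912

set_option autoImplicit false
set_option linter.style.haveILetI false
universe u
open CategoryTheory CategoryTheory.Limits AlgebraicGeometry
open AlgSp

namespace Groth.Agent.S10003

set_option backward.isDefEq.respectTransparency false

open Groth.Agent.R2.H83.SchClosure Groth.Agent.R2.H43.CutOut Groth.Agent.R2.H43.IdealCut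

section

variable {S : Scheme.{u}} {X Y : AlgSp.Sp S} {f : X ⟶ Y}

lemma ideal_eq_chartIdeal (hf : AlgSp.Representable f) (hqc : AlgSp.RepWith @QuasiCompact f)
    (E : AlgSp.EtOver Y) (hE : IsAffine E.obj.left.left) :
    (AlgSp.idealOfRep hf).ideal E hE =
      (chartIdeal f hf E.obj.hom).ideal ⟨⊤, isAffineOpen_top _⟩ := by
  haveI : QuasiCompact (hf.snd E.obj.hom).left := hqc.property _ _ _ (hf.isPullback _)
  unfold chartIdeal
  rw [Scheme.Hom.ker_apply]
  rfl

theorem isQCoh_idealOfRep (hf : AlgSp.Representable f) (hqc : AlgSp.RepWith @QuasiCompact f) :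
    (AlgSp.idealOfRep hf).IsQCoh := by
  intro E E' g hE hE'
  haveI : Etale g.hom.left.left := AlgSp.EtOver.etale_left g
  rw [ideal_eq_chartIdeal hf hqc E' hE', ideal_eq_chartIdeal hf hqc E hE]
  have h1 := comap_chartIdeal hf hqc (p := E.obj.hom) g.hom.left
  have h2 : chartIdeal f hf ((AlgSp.yon S).map g.hom.left ≫ E.obj.hom) = chartIdeal f hf E'.obj.hom :=
    chartIdeal_congr hf (AlgSp.EtOver.w g)
  rw [← h2, ← h1, Groth.Agent.Lib.Helper22.IdealComap.ideal_comap_eq_map g.hom.left.left _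
    ⟨⊤, isAffineOpen_top _⟩ ⟨⊤, isAffineOpen_top _⟩ le_top]
  apply le_of_eq
  congr 2
  rw [Scheme.Hom.appTop, Scheme.Hom.app_eq_appLE]
  rfl

end

/-- For a quasi-compact morphism f : X ⟶ Y of algebraic spaces that is representable by schemes, the
sheaf of ideals Ker(O_Y ⟶ f_* O_X) (the kernel family on affine etale charts of Y) is
quasi-coherent, and the scheme theoretic image of f is exactly the closed subspace it cuts out. (The
published statement is for an arbitrary quasi-compact morphism of algebraic spaces; f_* O_X on the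
small etale site with scheme charts is available only for representable f, the case stated.) -/
theorem result {S : Scheme.{u}} {X Y : AlgSp.Space S} (f : X ⟶ Y)
    (hf : AlgSp.Representable f.hom) (hqc : AlgSp.IsQuasiCompactMor f.hom) :
    (AlgSp.idealOfRep hf).IsQCoh ∧
      ∀ (Z : AlgSp.Space S) (i : Z ⟶ Y), AlgSp.IsSchImage f.hom i.hom ↔ AlgSp.IsCutOutBy (AlgSp.idealOfRep hf) i.hom := by
  have hqc' := Groth.Agent.S9912.repWith_quasiCompact_of_isQuasiCompactMor f.hom hf hqc
  have hQ := isQCoh_idealOfRep hf hqc'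
  -- cut out implies scheme theoretic image
  have key : ∀ (Z : AlgSp.Space S) (i : Z ⟶ Y),
      AlgSp.IsCutOutBy (AlgSp.idealOfRep hf) i.hom → AlgSp.IsSchImage f.hom i.hom := by
    rintro Z i ⟨hi, hI⟩
    refine ⟨hi, ?_, ?_⟩
    · exact exists_factor_of_le' Y.property X.property hi f.hom hf
        (by rw [hI]; exact fun E hE => le_rfl)
    · rintro Z' i' hZ' hi' ⟨f'', hf''⟩
      refine exists_factor_of_le' Y.property Z.property hi' i.hom hi.1 ?_
      rw [hI]
      exact idealOfRep_le_of_factor hi'.1 hf f'' hf''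
  refine ⟨hQ, fun Z i => ⟨?_, key Z i⟩⟩
  rintro ⟨hi, ⟨f', hf'⟩, hmin⟩
  obtain ⟨Z₀, i₀, hcut₀⟩ := exists_isCutOutBy Y (AlgSp.idealOfRep hf) hQ
  obtain ⟨hi₀', hf₀, hmin₀⟩ := key Z₀ i₀ hcut₀
  obtain ⟨hi₀, hI₀⟩ := hcut₀
  obtain ⟨k, hk⟩ := hmin i₀.hom Z₀.property hi₀ hf₀
  obtain ⟨k', hk'⟩ := hmin₀ i.hom Z.property hi ⟨f', hf'⟩
  refine ⟨hi, ?_⟩
  rw [← hI₀]
  apply AlgSp.IdealEt.ext
  funext E hE
  exact le_antisymm (idealOfRep_le_of_factor hi.1 hi₀.1 k' hk' E hE)
    (idealOfRep_le_of_factor hi₀.1 hi.1 k hk E hE)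

end Groth.Agent.S10003
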