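import Groth.Statements.S10059
import Groth.Agent.R2.H44SepAff
import Groth.Agent.R2.H44SepChartY
import Groth.Agent.S9920
import Groth.Agent.Lib.Helper12Proper

set_option autoImplicit false
set_option backward.isDefEq.respectTransparency false
universe u
open CategoryTheory CategoryTheory.Limits AlgebraicGeometry
open AlgSp

namespace Groth.Agent.S10059

open Groth.Agent.R2.H44.LimSp Groth.Agent.R2.H44.LimIso Groth.Agent.R2.H44.LimDesc
  Groth.Agent.R2.H44.SepAff Groth.Agent.R2.H44.SepChartY Groth.Agent.R2.H44.SepChart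

/-- Let `S` be a quasi-separated scheme, `Y` an algebraic space over `S` which is quasi-separated over
`S`, and `X` the limit, in fppf sheaves, of a cofiltered system `(X_i)` of algebraic spaces over
`Y`, each quasi-compact and quasi-separated over `S`, whose transition maps are affine. If `X ⟶ Y`
is separated, then `X_i ⟶ Y` is separated for all `i` mapping to some `i₀`. (The published statement
allows any base scheme and uses absolute quasi-separatedness; this row assumes the base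
quasi-separated, over which quasi-separatedness relative to the base is the absolute notion.) -/
theorem result (S : Scheme.{u}) [QuasiSeparatedSpace S] {I : Type u} [SmallCategory I] [IsCofiltered I]
    (Y : AlgSp.Space S) (D : I ⥤ AlgSp.Sp S) (hD : ∀ i, AlgSp.IsAlgSpace (D.obj i))
    (t : D ⟶ (Functor.const I).obj Y.obj)
    (hDa : ∀ (i j : I) (φ : i ⟶ j), AlgSp.IsAffineMor (D.map φ))
    (c : Cone D) (hc : IsLimit c) (g : c.pt ⟶ Y.obj) (hg : ∀ i, c.π.app i ≫ t.app i = g)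
    (hqc : ∀ i, AlgSp.IsQuasiCompactSp (D.obj i)) (hqs : ∀ i, AlgSp.IsQuasiSeparatedSp (D.obj i))
    (hYqs : AlgSp.IsQuasiSeparatedSp Y.obj) (hX : AlgSp.IsSeparatedMor g) :
    ∃ i₀ : I, ∀ (i : I) (_ : i ⟶ i₀), AlgSp.IsSeparatedMor (t.app i) := by
  classical
  obtain ⟨i₀⟩ : Nonempty I := IsCofiltered.nonempty
  obtain ⟨V, v, hV, hve, hvs⟩ := exists_affine_etale_cover_image ⟨D.obj i₀, hD i₀⟩ Y (hqc i₀) (t.app i₀)
  have hVq := qcqs_yon_of_isAffine V hV
  have hValg : AlgSp.IsAlgSpace ((AlgSp.yon S).obj V) := AlgSp.IsAlgSpace.yon_obj V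
  obtain ⟨w, hw⟩ : ∃ w : pullback (t.app i₀) v ⟶ D.obj i₀, w = pullback.fst (t.app i₀) v := ⟨_, rfl⟩
  obtain ⟨q, hq⟩ : ∃ q : pullback (t.app i₀) v ⟶ (AlgSp.yon S).obj V, q = pullback.snd (t.app i₀) v := ⟨_, rfl⟩
  have bot : IsPullback w q (t.app i₀) v := by
    rw [hw, hq]; exact IsPullback.of_hasPullback (t.app i₀) v
  have hwe : AlgSp.RepWith @Etale w := MorphismProperty.of_isPullback bot.flip hve
  have hws : AlgSp.RepWith @Surjective w := by rw [hw]; exact hvs
  have hP₀alg : AlgSp.IsAlgSpace (pullback (t.app i₀) v) :=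
    Groth.Agent.S9874.result S Y.obj Y.property.diag ⟨_, hD i₀⟩ ⟨_, hValg⟩ (t.app i₀) v _ w q bot
  have hP₀qc : AlgSp.IsQuasiCompactSp (pullback (t.app i₀) v) :=
    (Groth.Agent.S9920.isQuasiCompactMor_of_qc_qs hValg Y.property v hVq.1 hYqs) (hD i₀) (hqc i₀) (t.app i₀)
      q w bot.flip
  have hP₀qs : AlgSp.IsQuasiSeparatedSp (pullback (t.app i₀) v) :=
    Groth.Agent.S9921.repWith_diag_of_isPullback @QuasiCompact bot (hqs i₀) hVq.2
  -- the base-changed system
  have h𝔻alg : ∀ l : Over i₀, AlgSp.IsAlgSpace ((pbFunctor D i₀ w).obj l) := fun l =>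
    Groth.Agent.S9874.result S (D.obj i₀) (hD i₀).diag ⟨_, hP₀alg⟩ ⟨_, hD l.left⟩ w (D.map l.hom) _
      (pullback.fst _ _) (pullback.snd _ _) (IsPullback.of_hasPullback _ _)
  have h𝔻qcqs : ∀ l : Over i₀, AlgSp.IsQuasiCompactSp ((pbFunctor D i₀ w).obj l) ∧
      AlgSp.IsQuasiSeparatedSp ((pbFunctor D i₀ w).obj l) := fun l =>
    Groth.Agent.S9921.result (X := ⟨_, hP₀alg⟩) (Y := ⟨_, hD i₀⟩) (Z := ⟨_, hD l.left⟩) (P := ⟨_, h𝔻alg l⟩)
      (ObjectProperty.homMk w) (ObjectProperty.homMk (D.map l.hom))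
      (ObjectProperty.homMk (pullback.fst w (D.map l.hom)))
      (ObjectProperty.homMk (pullback.snd w (D.map l.hom))) (IsPullback.of_hasPullback _ _) ⟨hP₀qc, hP₀qs⟩
      ⟨hqc i₀, hqs i₀⟩ ⟨hqc _, hqs _⟩
  have h𝔻aff : ∀ (l l' : Over i₀) (ψ : l ⟶ l'), AlgSp.IsAffineMor ((pbFunctor D i₀ w).map ψ) := fun l l' ψ =>
    Groth.Agent.S9944.isAffineMor_of_isPullback (isPullback_pbFunctor_map D i₀ w ψ).flip (hDa _ _ _)
  let t' : pbFunctor D i₀ w ⟶ (Functor.const (Over i₀)).obj ((AlgSp.yon S).obj V) :=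
    { app := fun l => pullback.fst w (D.map l.hom) ≫ q
      naturality := by
        intro l l' ψ
        simp [pbFunctor, pullback.map] }
  have hg' : AlgSp.IsSeparatedMor (pullback.fst w (c.π.app i₀) ≫ q) := by
    have top : IsPullback (pullback.snd w (c.π.app i₀)) (pullback.fst w (c.π.app i₀)) (c.π.app i₀) w :=
      (IsPullback.of_hasPullback w (c.π.app i₀)).flip
    have sq := top.paste_vert bot
    rw [hg i₀] at sq
    exact Groth.Agent.Lib.Helper12.Proper.isSeparatedMor_baseChange sq hX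
  obtain ⟨l₀, hl₀⟩ := eventually_separated_affine_base V hV (pbFunctor D i₀ w) h𝔻alg t' h𝔻aff
    (fun l => (h𝔻qcqs l).1) (fun l => (h𝔻qcqs l).2) (pbCone D c i₀ w) (isLimitPbCone D c hc i₀ w)
    (pullback.fst w (c.π.app i₀) ≫ q) hg'
  refine ⟨l₀.left, fun i φ => ?_⟩
  have hl : AlgSp.IsSeparatedMor (t'.app (Over.mk (φ ≫ l₀.hom))) := hl₀ (Over.mk (φ ≫ l₀.hom)) (Over.homMk φ rfl)
  have top : IsPullback (pullback.snd w (D.map (φ ≫ l₀.hom))) (pullback.fst w (D.map (φ ≫ l₀.hom)))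
      (D.map (φ ≫ l₀.hom)) w := (IsPullback.of_hasPullback w (D.map (φ ≫ l₀.hom))).flip
  have sq := top.paste_vert bot
  have e : D.map (φ ≫ l₀.hom) ≫ t.app i₀ = t.app i := by
    exact (t.naturality (φ ≫ l₀.hom)).trans (Category.comp_id _)
  rw [e] at sq
  have hse : AlgSp.RepWith @Etale (pullback.snd w (D.map (φ ≫ l₀.hom))) :=
    MorphismProperty.of_isPullback (IsPullback.of_hasPullback w (D.map (φ ≫ l₀.hom))) hwe
  have hss : AlgSp.RepWith @Surjective (pullback.snd w (D.map (φ ≫ l₀.hom))) :=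
    MorphismProperty.of_isPullback (IsPullback.of_hasPullback w (D.map (φ ≫ l₀.hom))) hws
  have := Groth.Agent.Lib.Helper12.descendsAlong_isClosedImmersion.{u}
  exact repWith_diagonal_descend' @IsClosedImmersion (hD i).diag (t.app i) v _ _ sq hse hss hl

end Groth.Agent.S10059
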