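import Groth.Statements.S10005
import Groth.Agent.S10059

set_option autoImplicit false
set_option backward.isDefEq.respectTransparency false
universe u
open CategoryTheory CategoryTheory.Limits AlgebraicGeometry
open AlgSp

namespace Groth.Agent.S10005

/-- separatedness over `S` is separatedness of the map to the terminal sheaf -/
theorem isSeparatedSp_iff_isSeparatedMor {S : Scheme.{u}} {T F : AlgSp.Sp S} (hT : IsTerminal T) (f : F ⟶ T) :
    AlgSp.IsSeparatedSp F ↔ AlgSp.IsSeparatedMor f := by
  have hf : f = hT.from F := hT.hom_ext _ _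
  have sq : IsPullback (prod.fst : F ⨯ F ⟶ F) prod.snd f f := by
    rw [hf]; exact IsPullback.of_is_product' (prodIsProd F F) hT
  have e : Limits.diag F ≫ sq.isoPullback.hom = pullback.diagonal f := by
    apply pullback.hom_ext <;> simp
  unfold AlgSp.IsSeparatedSp AlgSp.IsSeparatedMor
  rw [← e, (AlgSp.RepWith @IsClosedImmersion).cancel_right_of_respectsIso]

/-- Let `S` be a quasi-separated scheme and `X` the limit, in fppf sheaves over `S`, of a cofiltered
system `(X_i)` of quasi-compact algebraic spaces over `S`, each quasi-separated over `S`, whose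
transition maps are affine. If `X` is separated over `S`, then `X_i` is separated over `S` for some
`i`. (The published statement uses absolute separatedness and quasi-separatedness and puts no
condition on `S`; this row assumes `S` quasi-separated and takes both notions over `S`, which gives
the same quasi-separatedness and, when `S` is separated, the same separatedness.) -/
theorem result (S : Scheme.{u}) [QuasiSeparatedSpace S] {I : Type u} [SmallCategory I] [IsCofiltered I]
    (D : I ⥤ AlgSp.Sp S) (hD : ∀ i, AlgSp.IsAlgSpace (D.obj i))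
    (hDa : ∀ (i j : I) (φ : i ⟶ j), AlgSp.IsAffineMor (D.map φ))
    (hqc : ∀ i, AlgSp.IsQuasiCompactSp (D.obj i)) (hqs : ∀ i, AlgSp.IsQuasiSeparatedSp (D.obj i))
    (c : Cone D) (hc : IsLimit c)
    (hX : AlgSp.IsSeparatedSp c.pt) : ∃ i, AlgSp.IsSeparatedSp (D.obj i) := by
  let T : Over S := Over.mk (𝟙 S)
  have hT : IsTerminal ((AlgSp.yon S).obj T) := IsTerminal.isTerminalObj (AlgSp.yon S) T Over.mkIdTerminal
  let Y : AlgSp.Space S := ⟨(AlgSp.yon S).obj T, AlgSp.IsAlgSpace.yon_obj T⟩
  let t : D ⟶ (Functor.const I).obj Y.obj :=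
    { app := fun i => hT.from _
      naturality := fun _ _ _ => hT.hom_ext _ _ }
  have hYqs : AlgSp.IsQuasiSeparatedSp Y.obj := by
    refine (AlgSp.repWith_diag_yon_iff @QuasiCompact T).2 ?_
    have : IsIso (pullback.diagonal T.hom) := (pullback.isIso_diagonal_iff T.hom).2 (by
      change Mono (𝟙 S); infer_instance)
    infer_instance
  obtain ⟨i₀, h⟩ := Groth.Agent.S10059.result S Y D hD t hDa c hc (hT.from _) (fun i => hT.hom_ext _ _) hqc hqs hYqs
    ((isSeparatedSp_iff_isSeparatedMor hT _).1 hX)
  exact ⟨i₀, (isSeparatedSp_iff_isSeparatedMor hT _).2 (h i₀ (𝟙 _))⟩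

end Groth.Agent.S10005
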