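import Groth.Statements.S10008
import Groth.Agent.R2.H44LimSp
import Groth.Agent.S9906
import Groth.Agent.S10180

set_option autoImplicit false
set_option backward.isDefEq.respectTransparency false
universe u
open CategoryTheory CategoryTheory.Limits AlgebraicGeometry
open AlgSp

namespace Groth.Agent.S10008

/-- Let `X` be the limit, in fppf sheaves over `S`, of a cofiltered system `(X_i)` of algebraic spaces
over `S` whose transition maps are affine. If every `X_i` is quasi-compact and has at least one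
point, then `X` has a point. -/
theorem result (S : Scheme.{u}) {I : Type u} [SmallCategory I] [IsCofiltered I]
    (D : I ⥤ AlgSp.Sp S) (hD : ∀ i, AlgSp.IsAlgSpace (D.obj i))
    (hDa : ∀ (i j : I) (φ : i ⟶ j), AlgSp.IsAffineMor (D.map φ))
    (c : Cone D) (hc : IsLimit c)
    (hqc : ∀ i, AlgSp.IsQuasiCompactSp (D.obj i)) (hne : ∀ i, Nonempty (AlgSp.Points (D.obj i))) :
    Nonempty (AlgSp.Points c.pt) := by
  classical
  obtain ⟨i₀⟩ : Nonempty I := IsCofiltered.nonempty
  -- an affine etale atlas of `D i₀`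
  obtain ⟨U₀, p₀, hU₀, hpe, hps⟩ :=
    (Groth.Agent.S10180.result (⟨D.obj i₀, hD i₀⟩ : AlgSp.Space S)).1 (hqc i₀)
  -- the pullbacks of the atlas to the `D j`
  have hlim := Groth.Agent.R2.H44.LimSp.isLimitPbCone D c hc i₀ p₀
  have haff : ∀ j : Over i₀, Groth.Agent.R2.H44.LimSp.IsAffRep
      ((Groth.Agent.R2.H44.LimSp.pbFunctor D i₀ p₀).obj j) := by
    intro j
    obtain ⟨W, iW, fst, sq, hW⟩ := hDa j.left i₀ j.hom hU₀ p₀
    exact ⟨W, hW, ⟨sq.flip.isoPullback⟩⟩
  obtain ⟨K, eK, cK, e, -, ⟨hcK⟩, hKaff, -, -⟩ :=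
    Groth.Agent.R2.H44.LimSp.exists_affine_model _ haff _ hlim
  -- each `K j` is nonempty
  have hne' : ∀ j : Over i₀, Nonempty ↥((K ⋙ Over.forget S).obj j) := by
    intro j
    let q : (AlgSp.yon S).obj (K.obj j) ⟶ D.obj j.left :=
      eK.hom.app j ≫ pullback.snd p₀ (D.map j.hom)
    have hq : AlgSp.RepWith @Surjective q := by
      have h1 : AlgSp.RepWith @Surjective (pullback.snd p₀ (D.map j.hom)) :=
        MorphismProperty.of_isPullback (IsPullback.of_hasPullback p₀ (D.map j.hom)) hps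
      exact MorphismProperty.RespectsIso.precomp _ (eK.app j).hom _ h1
    have hq' : AlgSp.IsSurjectiveMor q :=
      (Groth.Agent.S9906.result (X := (AlgSp.ofScheme S).obj (K.obj j)) (Y := ⟨D.obj j.left, hD _⟩)
        (ObjectProperty.homMk q) hq.rep).1 hq
    obtain ⟨x⟩ := hne j.left
    obtain ⟨y, -⟩ := hq' x
    exact ⟨(AlgSp.Points.schemeEquiv (K.obj j)).symm y⟩
  have hKaff' : ∀ j : Over i₀, IsAffine ((K ⋙ Over.forget S).obj j) := hKaff
  have : ∀ {j k : Over i₀} (f : j ⟶ k), IsAffineHom ((K ⋙ Over.forget S).map f) := fun f =>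
    isAffineHom_of_isAffine _
  have : ∀ j : Over i₀, CompactSpace ↥((K ⋙ Over.forget S).obj j) := fun j => inferInstance
  have hpt : Nonempty ↥((Over.forget S).mapCone cK).pt :=
    Scheme.nonempty_of_isLimit (K ⋙ Over.forget S) ((Over.forget S).mapCone cK) hcK
  obtain ⟨w⟩ := hpt
  exact ⟨AlgSp.Points.ofPt (e.hom ≫ pullback.snd p₀ (c.π.app i₀)) w⟩

end Groth.Agent.S10008
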