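import Groth.Statements.S10011
import Groth.Agent.R2.H44LimIso
import Groth.Agent.S9959
import Groth.Agent.S10180

set_option backward.isDefEq.respectTransparency false

set_option autoImplicit false
universe u
open CategoryTheory CategoryTheory.Limits AlgebraicGeometry
open AlgSp
open Groth.Agent.R2.H44.LimSp Groth.Agent.R2.H44.LimIso

namespace Groth.Agent.S10011

/-- Let `B` be an algebraic space over `S` and `X` the limit in fppf sheaves of a cofiltered system
`(X_i)` of quasi-compact algebraic spaces over `B`, each locally of finite type over `B`, whose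
transition morphisms are closed immersions. If `X ⟶ B` is locally of finite presentation, then the
projection `X ⟶ X_i` is an isomorphism for all `i` mapping to some `i₀`. -/
theorem result (S : Scheme.{u}) {I : Type u} [SmallCategory I] [IsCofiltered I]
    (B : AlgSp.Space S) (D : I ⥤ AlgSp.Sp S) (hD : ∀ i, AlgSp.IsAlgSpace (D.obj i))
    (t : D ⟶ (Functor.const I).obj B.obj)
    (hDc : ∀ (i j : I) (φ : i ⟶ j), AlgSp.RepWith @IsClosedImmersion (D.map φ))
    (c : Cone D) (hc : IsLimit c)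
    (hqc : ∀ i, AlgSp.IsQuasiCompactSp (D.obj i)) (hft : ∀ i, AlgSp.LocP @LocallyOfFiniteType (t.app i)) (i₁ : I)
    (hX : AlgSp.LocP @LocallyOfFinitePresentation (c.π.app i₁ ≫ t.app i₁)) :
    ∃ i₀ : I, ∀ (i : I) (_ : i ⟶ i₀), IsIso (c.π.app i) := by
  classical
  have hDa : ∀ (i j : I) (φ : i ⟶ j), AlgSp.IsAffineMor (D.map φ) :=
    fun i j φ => isAffineMor_of_closedImmersion _ (hDc i j φ)
  have hXsp : AlgSp.IsAlgSpace c.pt := isAlgSpace_limit D hD hDa c hc
  have hlfp : AlgSp.LocP @LocallyOfFinitePresentation (c.π.app i₁) :=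
    Groth.Agent.S9959.result (X := ⟨c.pt, hXsp⟩) (Y := ⟨D.obj i₁, hD i₁⟩) (Z := B)
      (ObjectProperty.homMk (c.π.app i₁)) (ObjectProperty.homMk (t.app i₁)) hX (hft i₁)
  -- affine chart of `D i₁`
  obtain ⟨U₁, p₁, hU₁, hp₁e, hp₁s⟩ := (Groth.Agent.S10180.result ⟨D.obj i₁, hD i₁⟩).1 (hqc i₁)
  change (AlgSp.yon S).obj U₁ ⟶ D.obj i₁ at p₁
  -- the diagram `F_j = h_{U₁} ×_{D i₁} D j`
  have haff : ∀ j : Over i₁, IsAffRep ((pbFunctor D i₁ p₁).obj j) := by
    intro j
    obtain ⟨W, iW, fst, sq, hW⟩ := hDa j.left i₁ j.hom hU₁ p₁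
    exact ⟨W, hW, ⟨sq.flip.isoPullback⟩⟩
  obtain ⟨K, eK, cK, e, ⟨hcK⟩, ⟨hcK'⟩, hKaff, hcKaff, hcomp⟩ :=
    exists_affine_model (pbFunctor D i₁ p₁) haff _ (isLimitPbCone D c hc i₁ p₁)
  have : ∀ j, IsAffine ((K ⋙ Over.forget S).obj j) := hKaff
  -- transitions of `K` are closed immersions
  have hKc : ∀ {j k : Over i₁} (φ : j ⟶ k), IsClosedImmersion ((K ⋙ Over.forget S).map φ) := by
    intro j k φ
    have h1 : AlgSp.RepWith @IsClosedImmersion ((pbFunctor D i₁ p₁).map φ) :=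
      MorphismProperty.of_isPullback (isPullback_pbFunctor_map D i₁ p₁ φ).flip (hDc _ _ φ.left)
    have h2 : (AlgSp.yon S).map (K.map φ) = eK.hom.app j ≫ (pbFunctor D i₁ p₁).map φ ≫ eK.inv.app k := by
      have := eK.hom.naturality φ
      rw [← Category.assoc, ← this]
      simp
    have h3 : AlgSp.RepWith @IsClosedImmersion ((AlgSp.yon S).map (K.map φ)) := by
      rw [h2]
      exact ((AlgSp.RepWith @IsClosedImmersion).cancel_left_of_respectsIso _ _).2
        (((AlgSp.RepWith @IsClosedImmersion).cancel_right_of_respectsIso _ _).2 h1)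
    exact (AlgSp.repWith_yon_map_iff _ _).1 h3
  -- the projection to `j₁ = id` is locally of finite presentation
  let j₁ : Over i₁ := Over.mk (𝟙 i₁)
  have hsndc : AlgSp.RepWith @Etale (pullback.snd p₁ (c.π.app i₁)) :=
    MorphismProperty.pullback_snd _ _ hp₁e
  have hsnd : ∀ j : Over i₁, AlgSp.RepWith @Etale (pullback.snd p₁ (D.map j.hom)) :=
    fun j => MorphismProperty.pullback_snd _ _ hp₁e
  have hsnds : ∀ j : Over i₁, AlgSp.RepWith @Surjective (pullback.snd p₁ (D.map j.hom)) :=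
    fun j => MorphismProperty.pullback_snd _ _ hp₁s
  have hlfp' : LocallyOfFinitePresentation (((Over.forget S).mapCone cK).π.app j₁) := by
    refine hlfp (U := cK.pt) (V := K.obj j₁) (e.hom ≫ pullback.snd p₁ (c.π.app i₁))
      (eK.hom.app j₁ ≫ pullback.snd p₁ (D.map j₁.hom)) (cK.π.app j₁) ?_ ?_ ?_
    · exact ((AlgSp.RepWith @Etale).cancel_left_of_respectsIso _ _).2 hsndc
    · exact ((AlgSp.RepWith @Etale).cancel_left_of_respectsIso _ _).2 (hsnd j₁)
    · have h1 := hcomp j₁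
      have h2 := (isPullback_pbCone_π D c i₁ p₁ j₁).w
      calc (e.hom ≫ pullback.snd p₁ (c.π.app i₁)) ≫ c.π.app i₁
          = e.hom ≫ (pullback.snd p₁ (c.π.app i₁) ≫ c.π.app j₁.left) := by rw [Category.assoc]; rfl
        _ = e.hom ≫ ((pbCone D c i₁ p₁).π.app j₁ ≫ pullback.snd p₁ (D.map j₁.hom)) := by rw [h2]
        _ = (e.hom ≫ (pbCone D c i₁ p₁).π.app j₁) ≫ pullback.snd p₁ (D.map j₁.hom) := by
          rw [Category.assoc]
        _ = ((AlgSp.yon S).map (cK.π.app j₁) ≫ eK.hom.app j₁) ≫ pullback.snd p₁ (D.map j₁.hom) := by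
          rw [h1]
        _ = _ := by rw [Category.assoc]
  obtain ⟨j₀, f₀, hj₀⟩ := eventually_isIso (K ⋙ Over.forget S) hKc ((Over.forget S).mapCone cK) hcK' j₁
  refine ⟨j₀.left, fun i ψ => ?_⟩
  let j : Over i₁ := Over.mk (ψ ≫ j₀.hom)
  let ψ' : j ⟶ j₀ := Over.homMk ψ rfl
  have h1 : IsIso ((Over.forget S).map (cK.π.app j)) := hj₀ j ψ'
  have h2 : IsIso (cK.π.app j) := isIso_of_reflects_iso _ (Over.forget S)
  have h3 : IsIso ((pbCone D c i₁ p₁).π.app j) := by
    have h4 : (pbCone D c i₁ p₁).π.app j = e.inv ≫ (AlgSp.yon S).map (cK.π.app j) ≫ eK.hom.app j := by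
      rw [← hcomp j]; simp
    rw [h4]
    infer_instance
  have hls : Sheaf.IsLocallySurjective (pullback.snd p₁ (D.map j.hom)) :=
    isLocallySurjective_of_etale_surjective _ (hsnd j) (hsnds j)
  exact Groth.Agent.R2.H44.Descent.isIso_of_isPullback (isPullback_pbCone_π D c i₁ p₁ j)

end Groth.Agent.S10011
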