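import Groth.Statements.S10012
import Groth.Agent.S10011
import Groth.Agent.R2.H44LimCI
import Groth.Agent.S9901
import Groth.Agent.S9905
import Groth.Agent.S9920
import Groth.Agent.S9941
import Groth.Agent.S9948
import Groth.Agent.S9952
import Groth.Agent.S9960
import Groth.Agent.S9874

set_option backward.isDefEq.respectTransparency false

set_option autoImplicit false
universe u
open CategoryTheory CategoryTheory.Limits AlgebraicGeometry
open AlgSp
open Groth.Agent.R2.H44.LimCI

attribute [local instance] IsCofiltered.isConnected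

namespace Groth.Agent.S10012

/-- Let `S` be a quasi-separated scheme, `B` an algebraic space over `S`, and `X` the limit, in fppf
sheaves, of a cofiltered system `(X_i)` of algebraic spaces over `B`, each quasi-separated over `S`,
whose transition maps are affine; let `y : Y ⟶ X` be a monomorphism from a quasi-compact algebraic
space `Y` whose structure map to `B` is locally of finite type. Then, for all `i` mapping to some
`i₀`, the composite `Y ⟶ X ⟶ X_i` is a monomorphism. (The published statement allows any base scheme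
and uses absolute quasi-separatedness; this row assumes the base quasi-separated, over which
quasi-separatedness relative to the base is the absolute notion.) -/
theorem result (S : Scheme.{u}) [QuasiSeparatedSpace S] {I : Type u} [SmallCategory I] [IsCofiltered I]
    (B : AlgSp.Space S) (D : I ⥤ AlgSp.Sp S) (hD : ∀ i, AlgSp.IsAlgSpace (D.obj i))
    (t : D ⟶ (Functor.const I).obj B.obj)
    (hDa : ∀ (i j : I) (φ : i ⟶ j), AlgSp.IsAffineMor (D.map φ))
    (c : Cone D) (hc : IsLimit c)
    (hqs : ∀ i, AlgSp.IsQuasiSeparatedSp (D.obj i))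
    (Y : AlgSp.Space S) (hYqc : AlgSp.IsQuasiCompactSp Y.obj) (y : Y.obj ⟶ c.pt) [Mono y] (i₁ : I)
    (hYB : AlgSp.LocP @LocallyOfFiniteType (y ≫ c.π.app i₁ ≫ t.app i₁)) :
    ∃ i₀ : I, ∀ (i : I) (_ : i ⟶ i₀), Mono (y ≫ c.π.app i) := by
  classical
  -- the diagram `Z_i = Y ×_{X_i} Y`
  let τ : (Functor.const I).obj Y.obj ⟶ D :=
    { app := fun i => y ≫ c.π.app i
      naturality := by intro i j φ; simp }
  let Zf : I ⥤ AlgSp.Sp S := pbFunctor₂ τ c y
  have hP : IsPullback (𝟙 Y.obj) (𝟙 Y.obj) y y := IsKernelPair.id_of_mono y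
  have hg : ∀ i, y ≫ c.π.app i = (constCone I Y.obj).π.app i ≫ τ.app i := by
    intro i; simp [τ, constCone]
  let cZ : Cone Zf := pbCone₂ τ (constCone I Y.obj) c y hg y (𝟙 _) (𝟙 _) hP.w
  have hcZ : IsLimit cZ := isLimitPbCone₂ τ _ c (isLimitConstCone I Y.obj) hc y hg y _ _ hP
  have hcZπ : ∀ i, cZ.π.app i = pullback.diagonal (y ≫ c.π.app i) := by
    intro i
    have hτ : τ.app i = y ≫ c.π.app i := rfl
    apply pullback.hom_ext
    · simp only [cZ, pbCone₂, constCone, pullback.lift_fst]
      exact (pullback.diagonal_fst (y ≫ c.π.app i)).symm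
    · simp only [cZ, pbCone₂, constCone, pullback.lift_snd]
      refine Eq.trans ?_ (pullback.diagonal_snd (y ≫ c.π.app i)).symm
      simp
  -- properties of the `Z_i`
  have hZsp : ∀ i, AlgSp.IsAlgSpace (Zf.obj i) := fun i =>
    Groth.Agent.S9874.result S (D.obj i) (hD i).diag Y Y (y ≫ c.π.app i) (y ≫ c.π.app i) _
      (pullback.fst _ _) (pullback.snd _ _) (IsPullback.of_hasPullback _ _)
  have hZqc : ∀ i, AlgSp.IsQuasiCompactSp (Zf.obj i) := fun i =>
    (Groth.Agent.S9920.result (X := Y) (Y := ⟨D.obj i, hD i⟩) (ObjectProperty.homMk (y ≫ c.π.app i))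
      hYqc (hqs i)) Y.property hYqc (y ≫ c.π.app i) (pullback.fst _ _) (pullback.snd _ _)
      (IsPullback.of_hasPullback _ _)
  have hsep : ∀ {i k : I} (φ : i ⟶ k), AlgSp.IsSeparatedMor (D.map φ) := by
    intro i k φ
    have h1 : AlgSp.RepWith @IsAffineHom (D.map φ) :=
      Groth.Agent.S9941.result (X := ⟨D.obj i, hD i⟩) (Y := ⟨D.obj k, hD k⟩) (ObjectProperty.homMk (D.map φ))
        (hDa i k φ)
    have h2 : AlgSp.RepWith @IsSeparated (D.map φ) :=
      ⟨h1.rep, fun _ _ g fst snd sq => by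
        have : IsAffineHom snd.left := h1.property g fst snd sq
        exact (inferInstance : IsSeparated snd.left)⟩
    exact ((Groth.Agent.S9905.result (X := ⟨D.obj i, hD i⟩) (Y := ⟨D.obj k, hD k⟩)
      (ObjectProperty.homMk (D.map φ)) h1.rep).1).2 h2
  have hmapCI : ∀ {i k : I} (φ : i ⟶ k), AlgSp.RepWith @IsClosedImmersion (Zf.map φ) := by
    intro i k φ
    have key : ∀ (a : Y.obj ⟶ D.obj i) (b : Y.obj ⟶ D.obj k) (e : a ≫ D.map φ = b),
        AlgSp.RepWith @IsClosedImmersion (pullback.map a a b b (𝟙 _) (𝟙 _) (D.map φ)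
          (by simp [e]) (by simp [e])) := by
      intro a b e
      subst e
      exact (Groth.Agent.S9901.result (X := Y) (Y := Y) (Z := ⟨D.obj i, hD i⟩) (T := ⟨D.obj k, hD k⟩)
        (ObjectProperty.homMk a) (ObjectProperty.homMk a) (ObjectProperty.homMk (D.map φ))).2.2.2.2.2.1
        (hsep φ)
    exact key (y ≫ c.π.app i) (y ≫ c.π.app k) (by simp)
  -- the diagram over `Over i₁`
  let D' : Over i₁ ⥤ AlgSp.Sp S := Over.forget i₁ ⋙ Zf
  let c' : Cone D' := cZ.whisker (Over.forget i₁)
  have hc' : IsLimit c' := (Functor.Initial.isLimitWhiskerEquiv (Over.forget i₁) cZ).symm hcZ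
  let B' : AlgSp.Space S := ⟨Zf.obj i₁, hZsp i₁⟩
  let t' : D' ⟶ (Functor.const (Over i₁)).obj B'.obj :=
    { app := fun j => Zf.map j.hom
      naturality := by
        intro j k φ
        simp only [D', Functor.comp_map, Over.forget_map, Functor.const_obj_map,
          ← Zf.map_comp, Over.w]
        exact (Category.comp_id _).symm }
  have hft' : ∀ j : Over i₁, AlgSp.LocP @LocallyOfFiniteType (t'.app j) := by
    intro j
    have h1 := hmapCI j.hom
    have h2 : AlgSp.RepWith @LocallyOfFiniteType (Zf.map j.hom) :=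
      ⟨h1.rep, fun _ _ g fst snd sq => by
        have : IsClosedImmersion snd.left := h1.property g fst snd sq
        exact (inferInstance : LocallyOfFiniteType snd.left)⟩
    exact (Groth.Agent.S9948.result @LocallyOfFiniteType (Or.inl rfl) (X := ⟨Zf.obj j.left, hZsp j.left⟩)
      (Y := B') (ObjectProperty.homMk (Zf.map j.hom)) h1.rep).2 h2
  let j₁ : Over i₁ := Over.mk (𝟙 i₁)
  have hlft : AlgSp.LocP @LocallyOfFiniteType (y ≫ c.π.app i₁) :=
    Groth.Agent.S9952.result (X := Y) (Y := ⟨D.obj i₁, hD i₁⟩) (Z := B)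
      (ObjectProperty.homMk (y ≫ c.π.app i₁)) (ObjectProperty.homMk (t.app i₁))
      (by simpa using hYB)
  have hX' : AlgSp.LocP @LocallyOfFinitePresentation (c'.π.app j₁ ≫ t'.app j₁) := by
    have h1 : c'.π.app j₁ ≫ t'.app j₁ = pullback.diagonal (y ≫ c.π.app i₁) := by
      change cZ.π.app i₁ ≫ Zf.map (𝟙 i₁) = _
      rw [Zf.map_id, Category.comp_id, hcZπ]
    rw [h1]
    exact (Groth.Agent.S9960.result (X := Y) (Y := ⟨D.obj i₁, hD i₁⟩)
      (ObjectProperty.homMk (y ≫ c.π.app i₁)) hlft).1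
  obtain ⟨j₀, hj₀⟩ := Groth.Agent.S10011.result S B' D' (fun j => hZsp j.left) t'
    (fun j k φ => hmapCI φ.left) c' hc' (fun j => hZqc j.left) hft' j₁ hX'
  refine ⟨j₀.left, fun i ψ => ?_⟩
  have h1 : IsIso (c'.π.app (Over.mk (ψ ≫ j₀.hom))) := hj₀ (Over.mk (ψ ≫ j₀.hom)) (Over.homMk ψ rfl)
  have h2 : IsIso (pullback.diagonal (y ≫ c.π.app i)) := by
    rw [← hcZπ]
    exact h1
  exact (pullback.isIso_diagonal_iff _).1 h2

end Groth.Agent.S10012
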