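import Groth.Statements.S10020
import Groth.Agent.R2.H44LimDescRep
import Groth.Agent.R2.H44DiagTower
import Groth.Agent.S9900
import Groth.Agent.S9948
import Groth.Agent.S9874

set_option backward.isDefEq.respectTransparency false

set_option autoImplicit false
universe u
open CategoryTheory CategoryTheory.Limits AlgebraicGeometry
open AlgSp
open Groth.Agent.R2.H44.LimDesc Groth.Agent.R2.H44.DiagTower

namespace Groth.Agent.S10020

/-- Let `S` be a quasi-separated scheme and `B` the limit, in fppf sheaves over `S`, of a cofiltered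
system `(B_i)` of algebraic spaces over `S` whose transition maps are affine; fix an index `i₀` such
that `B_{i₀}` is quasi-compact and quasi-separated over `S`, and a morphism `f₀ : X₀ ⟶ Y₀` of
algebraic spaces over `B_{i₀}` whose source and target are quasi-compact and quasi-separated over
`S`. Write `f_i` (for `i` mapping to `i₀`) and `f` for the base changes of `f₀` to `B_i` and to `B`,
given by pullback squares. If `f` is separated (no finiteness condition on `f₀`), then for some `i`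
mapping to `i₀` every such base change `f_i` is separated. (The published statement allows any base
scheme and uses absolute quasi-separatedness; this row assumes the base quasi-separated, over which
quasi-separatedness relative to the base is the absolute notion.) -/
theorem result (S : Scheme.{u}) [QuasiSeparatedSpace S] {I : Type u} [SmallCategory I] [IsCofiltered I]
    (D : I ⥤ AlgSp.Sp S) (hD : ∀ i, AlgSp.IsAlgSpace (D.obj i))
    (hDa : ∀ (i j : I) (φ : i ⟶ j), AlgSp.IsAffineMor (D.map φ))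
    (c : Cone D) (hc : IsLimit c) (i₀ : I)
    (hBqc : AlgSp.IsQuasiCompactSp (D.obj i₀)) (hBqs : AlgSp.IsQuasiSeparatedSp (D.obj i₀))
    (X₀ Y₀ : AlgSp.Space S) (f₀ : X₀.obj ⟶ Y₀.obj) (b₀ : Y₀.obj ⟶ D.obj i₀)
    (hXqc : AlgSp.IsQuasiCompactSp X₀.obj) (hXqs : AlgSp.IsQuasiSeparatedSp X₀.obj)
    (hYqc : AlgSp.IsQuasiCompactSp Y₀.obj) (hYqs : AlgSp.IsQuasiSeparatedSp Y₀.obj)
    (X Y : AlgSp.Sp S) (f : X ⟶ Y) (pY : Y ⟶ Y₀.obj) (qY : Y ⟶ c.pt)
    (hY : IsPullback pY qY b₀ (c.π.app i₀)) (pX : X ⟶ X₀.obj) (hX : IsPullback pX f f₀ pY)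
    (hf : AlgSp.IsSeparatedMor f) :
    ∃ (i : I) (φ : i ⟶ i₀), ∀ (Xi Yi : AlgSp.Sp S) (fi : Xi ⟶ Yi) (pYi : Yi ⟶ Y₀.obj) (qYi : Yi ⟶ D.obj i)
      (_ : IsPullback pYi qYi b₀ (D.map φ)) (pXi : Xi ⟶ X₀.obj) (_ : IsPullback pXi fi f₀ pYi),
      AlgSp.IsSeparatedMor fi := by
  -- the diagonal object of `f₀`
  have hZ₀sp : AlgSp.IsAlgSpace (pullback f₀ f₀) :=
    Groth.Agent.S9874.result S Y₀.obj Y₀.property.diag X₀ X₀ f₀ f₀ (pullback f₀ f₀)
      (pullback.fst f₀ f₀) (pullback.snd f₀ f₀) (IsPullback.of_hasPullback f₀ f₀)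
  have hZ₀ := Groth.Agent.S9921.result (X := X₀) (Y := Y₀) (Z := X₀) (P := ⟨pullback f₀ f₀, hZ₀sp⟩)
    (ObjectProperty.homMk f₀) (ObjectProperty.homMk f₀) (ObjectProperty.homMk (pullback.fst f₀ f₀))
    (ObjectProperty.homMk (pullback.snd f₀ f₀)) (IsPullback.of_hasPullback f₀ f₀) ⟨hXqc, hXqs⟩
    ⟨hYqc, hYqs⟩ ⟨hXqc, hXqs⟩
  have h9900 := Groth.Agent.S9900.result (X := X₀) (Y := Y₀) (ObjectProperty.homMk f₀)
  have hΔ₀lft : AlgSp.LocP @LocallyOfFiniteType (pullback.diagonal f₀) :=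
    (Groth.Agent.S9948.result @LocallyOfFiniteType (Or.inl rfl) (X := X₀)
      (Y := ⟨pullback f₀ f₀, hZ₀sp⟩) (ObjectProperty.homMk (pullback.diagonal f₀)) h9900.1).2 h9900.2.1
  have := Groth.Agent.R2.H44.FppfLocal.isClosedImmersion.{u}
  obtain ⟨i, φ, hi⟩ := descend_rep @LocallyOfFiniteType @IsClosedImmersion qcqsDescends_isClosedImmersion
    D hDa c hc i₀ X₀ ⟨pullback f₀ f₀, hZ₀sp⟩ (pullback.diagonal f₀) (pullback.fst f₀ f₀ ≫ f₀ ≫ b₀)
    hXqc hXqs hZ₀.1 hZ₀.2 X (pullback f f) (pullback.diagonal f) (dmap hX)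
    (pullback.fst f f ≫ f ≫ qY) (isPullback_diag_base hX hY) pX (isPullback_diagonal hX) h9900.1
    hΔ₀lft hf
  exact ⟨i, φ, fun Xi Yi fi pYi qYi hYi pXi hXi =>
    hi Xi (pullback fi fi) (pullback.diagonal fi) (dmap hXi) (pullback.fst fi fi ≫ fi ≫ qYi)
      (isPullback_diag_base hXi hYi) pXi (isPullback_diagonal hXi)⟩

end Groth.Agent.S10020
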