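import Groth.Statements.S10031
import Groth.Agent.S9208
import Groth.Agent.R2.H44LimLift

set_option backward.isDefEq.respectTransparency false

set_option autoImplicit false
universe u
open CategoryTheory CategoryTheory.Limits AlgebraicGeometry
open AlgSp

namespace Groth.Agent.S10031

/-- A morphism `f : X ⟶ Y` of algebraic spaces over `S` is locally of finite presentation provided that,
whenever an affine scheme `T` over `S` is a cofiltered (e.g. directed) limit of affine schemes `T_i`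
over `S`, each `T`-point of `X` lying over a `T_i`-point of `Y` comes, compatibly with both, from a
`T_{i'}`-point of `X` for some `i'` mapping to `i` (that is, the map from `colim X(T_i)` to `X(T)
×_{Y(T)} colim Y(T_i)` is surjective). -/
theorem result (S : Scheme.{u}) {X Y : AlgSp.Space S} (f : X ⟶ Y)
    (h : ∀ ⦃I : Type u⦄ [SmallCategory I] [IsCofiltered I] (D : I ⥤ Over S) (c : Cone D),
      IsLimit ((Over.forget S).mapCone c) → (∀ i, IsAffine (D.obj i).left) → IsAffine c.pt.left →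
      ∀ (x : (AlgSp.yon S).obj c.pt ⟶ X.obj) (i : I) (y : (AlgSp.yon S).obj (D.obj i) ⟶ Y.obj),
        x ≫ f.hom = (AlgSp.yon S).map (c.π.app i) ≫ y →
        ∃ (i' : I) (φ : i' ⟶ i) (x' : (AlgSp.yon S).obj (D.obj i') ⟶ X.obj),
          (AlgSp.yon S).map (c.π.app i') ≫ x' = x ∧ x' ≫ f.hom = (AlgSp.yon S).map (D.map φ) ≫ y) :
    AlgSp.LocP @LocallyOfFinitePresentation f.hom := by
  classical
  intro U V a b g ha hb e
  apply Groth.Agent.S9208.result
  intro J _ _ _ D t c hc hD j₀ γ hγ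
  have : ∀ j, IsAffine (D.obj j) := hD
  -- the diagram over `S`
  have hcomp : ∀ j, c.π.app j ≫ t.app j = c.π.app j₀ ≫ t.app j₀ := by
    intro j
    have h1 : c.π.app (IsCofiltered.min j j₀) ≫ t.app _ = c.π.app j ≫ t.app j := by
      rw [← c.w (IsCofiltered.minToLeft j j₀), Category.assoc]
      congr 1
      simp
    have h2 : c.π.app (IsCofiltered.min j j₀) ≫ t.app _ = c.π.app j₀ ≫ t.app j₀ := by
      rw [← c.w (IsCofiltered.minToRight j j₀), Category.assoc]
      congr 1
      simp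
    rw [← h1, h2]
  let D' : Jᵒᵖ ⥤ Over S :=
    { obj := fun j => Over.mk (t.app j ≫ V.hom)
      map := fun {j k} φ => Over.homMk (D.map φ) (by
        have := t.naturality φ
        simp only [Functor.const_obj_obj, Functor.const_obj_map, Category.comp_id] at this
        simp [reassoc_of% this])
      map_id := fun j => by ext; simp
      map_comp := fun φ ψ => by ext; simp }
  let c' : Cone D' :=
    { pt := Over.mk (c.π.app j₀ ≫ t.app j₀ ≫ V.hom)
      π :=
        { app := fun j => Over.homMk (c.π.app j) (by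
            change c.π.app j ≫ t.app j ≫ V.hom = c.π.app j₀ ≫ t.app j₀ ≫ V.hom
            rw [← Category.assoc, hcomp j, Category.assoc])
          naturality := fun j k φ => by
            ext
            simp [D'] } }
  have hc' : IsLimit ((Over.forget S).mapCone c') :=
    { lift := fun s => hc.lift ⟨s.pt, ⟨fun j => s.π.app j, fun j k φ => by
        simpa [D'] using s.π.naturality φ⟩⟩
      fac := fun s j => hc.fac _ j
      uniq := fun s m hm => hc.uniq ⟨s.pt, ⟨fun j => s.π.app j, fun j k φ => by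
        simpa [D'] using s.π.naturality φ⟩⟩ m hm }
  have hpt : IsAffine c'.pt.left := Scheme.isAffine_of_isLimit c hc
  -- the points
  have hU : U.hom = g.left ≫ V.hom := (Over.w g).symm
  let γ' : c'.pt ⟶ U := Over.homMk γ (by
    simp only [c', Over.mk_left, Over.mk_hom]
    rw [hU, ← Category.assoc, hγ, Category.assoc])
  let τ : ∀ j, D'.obj j ⟶ V := fun j => Over.homMk (t.app j) rfl
  have hτ : ∀ {j k : Jᵒᵖ} (φ : j ⟶ k), D'.map φ ≫ τ k = τ j := by
    intro j k φ
    ext
    simpa [D', τ] using t.naturality φ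
  have hγ' : γ' ≫ g = c'.π.app j₀ ≫ τ j₀ := by
    ext
    exact hγ
  obtain ⟨i', φ, x', hx1, hx2⟩ := h D' c' hc' (fun j => hD j) hpt ((AlgSp.yon S).map γ' ≫ a) j₀
    ((AlgSp.yon S).map (τ j₀) ≫ b) (by
      rw [Category.assoc, e, ← Functor.map_comp_assoc, hγ', Functor.map_comp_assoc])
  -- lift `x'` to `U`
  let W := ha.rep.pullback x'
  let σ : c'.pt ⟶ W := ha.rep.lift' γ' (c'.π.app i') (by rw [hx1])
  have hσ1 : σ ≫ ha.rep.fst' x' = γ' := ha.rep.lift'_fst _ _ _
  have hσ2 : σ ≫ ha.rep.snd x' = c'.π.app i' := ha.rep.lift'_snd _ _ _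
  have : Etale (ha.rep.snd x').left := ha.property_snd x'
  obtain ⟨k, ψ, s, hs1, hs2⟩ := Groth.Agent.R2.H44.LimLift.exists_lift_of_lfp D c hc i'
    (ha.rep.snd x').left σ.left (congrArg CommaMorphism.left hσ2)
  -- the candidate
  let s' : D'.obj k ⟶ W := Over.homMk s (by
    have h1 := Over.w (ha.rep.snd x')
    have h2 : s ≫ W.hom = s ≫ (ha.rep.snd x').left ≫ (D'.obj i').hom := by rw [h1]
    rw [h2, ← Category.assoc, hs1]
    exact Over.w (D'.map ψ))
  have hs'1 : s' ≫ ha.rep.snd x' = D'.map ψ := by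
    ext
    exact hs1
  have hs'2 : c'.π.app k ≫ s' = σ := by
    ext
    exact hs2
  let gk : D'.obj k ⟶ U := s' ≫ ha.rep.fst' x'
  have hgk : c'.π.app k ≫ gk = γ' := by
    rw [← Category.assoc, hs'2, hσ1]
  -- compare `gk ≫ g` and `τ k` after `b`
  have hcmp : (AlgSp.yon S).map (gk ≫ g) ≫ b = (AlgSp.yon S).map (τ k) ≫ b := by
    have h1 : (AlgSp.yon S).map (ha.rep.fst' x') ≫ a = (AlgSp.yon S).map (ha.rep.snd x') ≫ x' := by
      rw [ha.rep.map_fst']
      exact ha.rep.w x'
    rw [Functor.map_comp, Category.assoc, ← e, Functor.map_comp, Category.assoc,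
      reassoc_of% h1, ← Functor.map_comp_assoc, hs'1, hx2, ← Functor.map_comp_assoc,
      ← Functor.map_comp_assoc, ← D'.map_comp, hτ]
  -- two sections of an etale scheme over `D_k`
  let W' := hb.rep.pullback ((AlgSp.yon S).map (τ k) ≫ b)
  let s₁ : D'.obj k ⟶ W' := hb.rep.lift' (gk ≫ g) (𝟙 _) (by rw [hcmp]; simp)
  let s₂ : D'.obj k ⟶ W' := hb.rep.lift' (τ k) (𝟙 _) (by simp)
  have : Etale (hb.rep.snd ((AlgSp.yon S).map (τ k) ≫ b)).left := hb.property_snd _
  have hs₁ : s₁ ≫ hb.rep.snd _ = 𝟙 _ := hb.rep.lift'_snd _ _ _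
  have hs₂ : s₂ ≫ hb.rep.snd _ = 𝟙 _ := hb.rep.lift'_snd _ _ _
  have hs₁' : s₁ ≫ hb.rep.fst' _ = gk ≫ g := hb.rep.lift'_fst _ _ _
  have hs₂' : s₂ ≫ hb.rep.fst' _ = τ k := hb.rep.lift'_fst _ _ _
  have hlim : c'.π.app k ≫ s₁ = c'.π.app k ≫ s₂ := by
    apply hb.rep.hom_ext'
    · rw [Category.assoc, Category.assoc, hs₁', hs₂', ← Category.assoc, hgk, hγ']
      ext
      exact (hcomp k).symm
    · rw [Category.assoc, Category.assoc, hs₁, hs₂]
  obtain ⟨l, χ, hl⟩ := Groth.Agent.R2.H44.LimLift.exists_eq_of_lft D c hc k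
    (hb.rep.snd ((AlgSp.yon S).map (τ k) ≫ b)).left s₁.left s₂.left
    (congrArg CommaMorphism.left hs₁) (congrArg CommaMorphism.left hs₂)
    (congrArg CommaMorphism.left hlim)
  have hl' : D'.map χ ≫ s₁ = D'.map χ ≫ s₂ := by
    ext
    exact hl
  refine ⟨l, (D'.map χ ≫ gk).left, ?_, ?_⟩
  · have h1 : (D'.map χ ≫ gk) ≫ g = τ l := by
      rw [Category.assoc, ← hs₁', ← Category.assoc, hl', Category.assoc, hs₂', hτ]
    exact congrArg CommaMorphism.left h1
  · have h1 : c'.π.app l ≫ D'.map χ ≫ gk = γ' := by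
      rw [← Category.assoc, c'.w, hgk]
    exact congrArg CommaMorphism.left h1

end Groth.Agent.S10031
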