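import Groth.Statements.S10024
import Groth.Agent.S10031
import Groth.Agent.R2.H44LfpLim3

set_option backward.isDefEq.respectTransparency false

set_option autoImplicit false
universe u
open CategoryTheory CategoryTheory.Limits AlgebraicGeometry
open AlgSp

namespace Groth.Agent.S10024

/-- A morphism `f : X ⟶ Y` of algebraic spaces over `S` is locally of finite presentation if and only if
it is limit preserving as a transformation of functors (relatively limit preserving: every fibre
functor over a scheme turns directed limits of affine schemes into colimits). -/
theorem result (S : Scheme.{u}) {X Y : AlgSp.Space S} (f : X ⟶ Y) :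
    AlgSp.LocP @LocallyOfFinitePresentation f.hom ↔ AlgSp.IsRelLimitPreserving f.hom.hom := by
  constructor
  · exact Groth.Agent.R2.H44.LfpLim.isRelLimitPreserving_of_locP f
  · intro h
    apply Groth.Agent.S10031.result S f
    intro I _ _ D c hc hD hT x i y hxy
    rw [Groth.Agent.R2.H44.RelLimPres.isRelLimitPreserving_iff_elementwise] at h
    obtain ⟨h1, -⟩ := h D c hc hD hT
    obtain ⟨k, φ, x', e1, e2⟩ := (Groth.Agent.R2.H44.LfpLim.existsCond_iff f.hom D c).1 h1 i y x hxy
    exact ⟨k, φ, x', e2, e1⟩

end Groth.Agent.S10024
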