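import Groth.Statements.S10614
import Groth.Agent.R2.H93MonoLft
import Groth.Agent.S10613

set_option autoImplicit false
universe u
open CategoryTheory CategoryTheory.Limits AlgebraicGeometry
open AlgSp

namespace Groth.Agent.S10614

/-- For a morphism f : X ⟶ Y of algebraic spaces over S, being a closed immersion (representable by
closed immersions) is equivalent to each of: (a) universally closed plus unramified plus
monomorphism; (b) universally closed plus unramified plus universally injective; (c) a universally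
closed monomorphism that is locally of finite type; (d) universally closed, universally injective,
locally of finite type and formally unramified (lifting sense). (Unramified is the etale-local
condition locally of finite type and formally unramified on charts; monomorphisms are taken in fppf
sheaves.) -/
theorem result {S : Scheme.{u}} {X Y : AlgSp.Space S} (f : X ⟶ Y) :
    (AlgSp.RepWith @IsClosedImmersion f.hom ↔
      (AlgSp.IsUnivClosedMor f.hom ∧ AlgSp.LocP (@LocallyOfFiniteType ⊓ @FormallyUnramified) f.hom ∧ Mono f.hom)) ∧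
    (AlgSp.RepWith @IsClosedImmersion f.hom ↔
      (AlgSp.IsUnivClosedMor f.hom ∧ AlgSp.LocP (@LocallyOfFiniteType ⊓ @FormallyUnramified) f.hom ∧ AlgSp.IsUnivInjectiveMor f.hom)) ∧
    (AlgSp.RepWith @IsClosedImmersion f.hom ↔
      (AlgSp.IsUnivClosedMor f.hom ∧ AlgSp.LocP @LocallyOfFiniteType f.hom ∧ Mono f.hom)) ∧
    (AlgSp.RepWith @IsClosedImmersion f.hom ↔
      (AlgSp.IsUnivClosedMor f.hom ∧ AlgSp.IsUnivInjectiveMor f.hom ∧ AlgSp.LocP @LocallyOfFiniteType f.hom ∧
        AlgSp.IsFormallyUnramifiedMor f.hom)) := by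
  open Groth.Agent.R2.H93.MonoLft in
  obtain ⟨h1, h2, h3, h4⟩ := Groth.Agent.S10613.result f
  -- the key equivalence with (c)
  have hc : AlgSp.RepWith @IsClosedImmersion f.hom ↔
      (AlgSp.IsUnivClosedMor f.hom ∧ AlgSp.LocP @LocallyOfFiniteType f.hom ∧ Mono f.hom) :=
    ⟨of_closedImmersion f, fun ⟨a, b, c⟩ => closedImmersion_of_rep f (h4 ⟨b, c⟩).1 a b c⟩
  refine ⟨?_, ?_, hc, ?_⟩
  · rw [hc]
    constructor
    · rintro ⟨a, b, c⟩
      exact ⟨a, h2.2 ⟨b, c⟩⟩
    · rintro ⟨a, b, c⟩
      exact ⟨a, h2.1 ⟨b, c⟩⟩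
  · rw [hc]
    constructor
    · rintro ⟨a, b, c⟩
      exact ⟨a, h1.1 (h2.2 ⟨b, c⟩)⟩
    · rintro ⟨a, b, c⟩
      exact ⟨a, h2.1 (h1.2 ⟨b, c⟩)⟩
  · rw [hc]
    constructor
    · rintro ⟨a, b, c⟩
      exact ⟨a, h3.1 (h2.2 ⟨b, c⟩)⟩
    · rintro ⟨a, b, c, d⟩
      exact ⟨a, h2.1 (h3.2 ⟨b, c, d⟩)⟩

end Groth.Agent.S10614
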