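import Groth.Statements.S10649
import Groth.Agent.R2.H93FinProps
import Groth.Agent.S10260
import Groth.Agent.S9925

set_option autoImplicit false
universe u
open CategoryTheory CategoryTheory.Limits AlgebraicGeometry
open AlgSp

namespace Groth.Agent.S10649

/-- The following conditions on a morphism f : X ⟶ Y of algebraic spaces over S are equivalent: (1)
finiteness of f; (2) f is locally quasi-finite as well as proper (locally quasi-finite and locally
of finite type etale locally); (3) f is proper and for every field k and every k-point Spec k ⟶ Y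
the fibre X_k (any pullback of f along it in fppf sheaves) has discrete space of points; (4) f is
universally closed, separated and locally of finite type, and every such fibre X_k has discrete
space of points. -/
theorem result {S : Scheme.{u}} {X Y : AlgSp.Space S} (f : X ⟶ Y) :
    [AlgSp.IsFiniteMor f.hom,
      AlgSp.IsProperMor f.hom ∧ AlgSp.LocP (@LocallyQuasiFinite ⊓ @LocallyOfFiniteType) f.hom,
      AlgSp.IsProperMor f.hom ∧
        ∀ (k : AlgSp.FieldPt Y.obj) (Xk : AlgSp.Sp S) (fst : Xk ⟶ X.obj) (snd : Xk ⟶ (AlgSp.yon S).obj k.pt),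
          IsPullback fst snd f.hom k.toHom → DiscreteTopology (AlgSp.Points Xk),
      AlgSp.IsUnivClosedMor f.hom ∧ AlgSp.IsSeparatedMor f.hom ∧ AlgSp.LocP @LocallyOfFiniteType f.hom ∧
        ∀ (k : AlgSp.FieldPt Y.obj) (Xk : AlgSp.Sp S) (fst : Xk ⟶ X.obj) (snd : Xk ⟶ (AlgSp.yon S).obj k.pt),
          IsPullback fst snd f.hom k.toHom → DiscreteTopology (AlgSp.Points Xk)].TFAE := by
  open Groth.Agent.R2.H45.GrpLocus Groth.Agent.R2.H45.RelDim in
  tfae_have 1 → 2 := fun h =>
    ⟨Groth.Agent.R2.H93.FinProps.isProperMor_of_isFiniteMor f h,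
      Groth.Agent.R2.H93.FinProps.locP_lqf_of_isFiniteMor f h⟩
  tfae_have 2 → 1 := fun h =>
    Groth.Agent.R2.H93.ProperLqf.isFiniteMor_of_proper_lqf f
      (Groth.Agent.S10260.result f h.2 h.1.1) h.1 h.2
  tfae_have 1 → 3 := fun h =>
    ⟨Groth.Agent.R2.H93.FinProps.isProperMor_of_isFiniteMor f h, fun k Xk fst snd sq =>
      Groth.Agent.R2.H93.FinProps.discreteTopology_fibre_of_isFiniteMor f h k Xk fst snd sq⟩
  tfae_have 3 → 2 := by
    rintro ⟨hp, hd⟩
    refine ⟨hp, ?_⟩
    rw [locP_iff_forall_hasAtMor etSqInvOn_qlqf detects_qlqf X.property Y.property f.hom hp.2.1.1]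
    intro x
    induction x using AlgSp.Points.ind with | h p => ?_
    let k : AlgSp.FieldPt Y.obj := p.map f.hom
    have sq := IsPullback.of_hasPullback f.hom k.toHom
    have hT : AlgSp.IsAlgSpace ((AlgSp.yon S).obj k.pt) := AlgSp.IsAlgSpace.yon_obj _
    have hXk : AlgSp.IsAlgSpace (pullback f.hom k.toHom) :=
      Groth.Agent.S9874.isAlgSpace_of_isPullback Y.property.diag X.property hT sq
    have : CompactSpace ↥k.pt.left := (inferInstance : CompactSpace ↥(Spec (CommRingCat.of k.K)))
    have hqcXk : AlgSp.IsQuasiCompactSp (pullback f.hom k.toHom) :=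
      hp.2.1.2 hT (Groth.Agent.R2.H93.FinFib.isQuasiCompactSp_yon_of_compactSpace k.pt) k.toHom _ _ sq
    have : CompactSpace (AlgSp.Points (pullback f.hom k.toHom)) :=
      (Groth.Agent.S10174.result ⟨_, hXk⟩).1 hqcXk
    have : DiscreteTopology (AlgSp.Points (pullback f.hom k.toHom)) := hd k _ _ _ sq
    have hfin : Finite (AlgSp.Points (pullback f.hom k.toHom)) := finite_of_compact_of_discrete
    exact Groth.Agent.R2.H93.FinFib.hasAtMor_qlqf_of_finite_fibre f hp.1 hp.2.1.1 hp.2.1.2 k _ _ _ sq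
      hfin (AlgSp.Points.mk p) rfl
  tfae_have 3 → 4 := fun h => ⟨h.1.2.2, h.1.1, h.1.2.1.1, h.2⟩
  tfae_have 4 → 3 := fun h =>
    ⟨⟨h.2.1, ⟨h.2.2.1, Groth.Agent.S9925.result f h.1⟩, h.1⟩, h.2.2.2⟩
  tfae_finish

end Groth.Agent.S10649
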