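import Groth.Statements.S10594
import Groth.Agent.S10587
import Groth.Agent.S10589
import Groth.Agent.S10614
import Groth.Agent.S10649
import Groth.Agent.S10191
import Groth.Agent.S9934
import Groth.Agent.S9888
import Groth.Agent.S9952
import Groth.Agent.S9953
import Groth.Agent.S9874
import Groth.Agent.R2.H47ThickTop
import Groth.Agent.R2.H45GrpLocus
import Groth.Agent.R2.H45RelDim
import Groth.Agent.Lib.Helper12OpenSub
import Groth.Agent.R2.H93Where

set_option autoImplicit false
universe u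
open CategoryTheory CategoryTheory.Limits AlgebraicGeometry
open AlgSp

namespace Groth.Agent.S10594

set_option linter.style.haveILetI false

/-- locally quasi-finite and unramified deform in a cartesian square of thickenings with both
morphisms locally of finite type. -/
theorem lqf_unr_iff {S : Scheme.{u}} {X X' Y Y' : AlgSp.Space S} (i : X ⟶ X') (j : Y ⟶ Y')
    (f : X ⟶ Y) (f' : X' ⟶ Y') (hi : AlgSp.IsThickMor i.hom)
    (hcart : IsPullback i.hom f.hom f'.hom j.hom)
    (hft : AlgSp.LocP @LocallyOfFiniteType f.hom) (hft' : AlgSp.LocP @LocallyOfFiniteType f'.hom) :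
    (AlgSp.LocP (@LocallyQuasiFinite ⊓ @LocallyOfFiniteType) f.hom ↔
      AlgSp.LocP (@LocallyQuasiFinite ⊓ @LocallyOfFiniteType) f'.hom) ∧
    (AlgSp.LocP (@LocallyOfFiniteType ⊓ @FormallyUnramified) f.hom ↔
      AlgSp.LocP (@LocallyOfFiniteType ⊓ @FormallyUnramified) f'.hom) := by
  have hsurj : Function.Surjective (AlgSp.Points.map i.hom) :=
    (Groth.Agent.R2.H47.ThickTop.isHomeomorph_points_map i.hom hi).surjective
  have hpt : ∀ {Q : ∀ (U V : Scheme.{u}), (U ⟶ V) → ↥U → Prop},
      (∀ x : AlgSp.Points X.obj, AlgSp.HasAtMor Q f.hom x ↔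
        AlgSp.HasAtMor Q f'.hom (AlgSp.Points.map i.hom x)) →
      ((∀ x, AlgSp.HasAtMor Q f.hom x) ↔ ∀ x', AlgSp.HasAtMor Q f'.hom x') := by
    intro Q hQ
    constructor
    · intro H x'
      obtain ⟨x, rfl⟩ := hsurj x'
      exact (hQ x).1 (H x)
    · intro H x
      exact (hQ x).2 (H _)
  constructor
  · rw [Groth.Agent.R2.H45.GrpLocus.locP_iff_forall_hasAtMor
      Groth.Agent.R2.H45.GrpLocus.etSqInvOn_qlqf Groth.Agent.R2.H45.GrpLocus.detects_qlqf
      X'.property Y'.property f'.hom hft',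
      Groth.Agent.R2.H45.GrpLocus.locP_iff_forall_hasAtMor
      Groth.Agent.R2.H45.GrpLocus.etSqInvOn_qlqf Groth.Agent.R2.H45.GrpLocus.detects_qlqf
      X.property Y.property f.hom hft]
    exact hpt fun x => Groth.Agent.R2.H45.GrpLocus.bcInv_qlqf X'.property Y'.property
      Y.property hcart hft' x
  · rw [Groth.Agent.R2.H45.GrpLocus.locP_iff_forall_hasAtMor
      (Groth.Agent.R2.H45.Unram.etSqInv_qunr.on _) Groth.Agent.R2.H45.GrpLocus.detects_qunr
      X'.property Y'.property f'.hom hft',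
      Groth.Agent.R2.H45.GrpLocus.locP_iff_forall_hasAtMor
      (Groth.Agent.R2.H45.Unram.etSqInv_qunr.on _) Groth.Agent.R2.H45.GrpLocus.detects_qunr
      X.property Y.property f.hom hft]
    exact hpt fun x => Groth.Agent.R2.H45.GrpLocus.bcInv_qunr X'.property Y'.property
      Y.property hcart hft' x

/-- finite, closed immersion, proper. -/
theorem core {S : Scheme.{u}} {X X' Y Y' : AlgSp.Space S} (i : X ⟶ X') (j : Y ⟶ Y')
    (f : X ⟶ Y) (f' : X' ⟶ Y')
    (hi : AlgSp.IsThickMor i.hom)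
    (hj : AlgSp.IsThickMor j.hom) (w : i ≫ f' = f ≫ j)
    (hcart : IsPullback i.hom f.hom f'.hom j.hom)
    (hft : AlgSp.LocP @LocallyOfFiniteType f.hom) (hft' : AlgSp.LocP @LocallyOfFiniteType f'.hom) :
    (AlgSp.IsFiniteMor f.hom ↔ AlgSp.IsFiniteMor f'.hom) ∧
    (AlgSp.RepWith @IsClosedImmersion f.hom ↔ AlgSp.RepWith @IsClosedImmersion f'.hom) ∧
    (AlgSp.IsProperMor f.hom ↔ AlgSp.IsProperMor f'.hom) := by
  obtain ⟨-, hqc, hUC, hUI, -⟩ := Groth.Agent.S10587.result i j f f' hi hj w
  obtain ⟨hsep, -⟩ := Groth.Agent.S10589.result i j f f' hi hj w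
  obtain ⟨hlqf, hunr⟩ := lqf_unr_iff i j f f' hi hcart hft hft'
  have hprop : AlgSp.IsProperMor f.hom ↔ AlgSp.IsProperMor f'.hom := by
    constructor
    · rintro ⟨h1, ⟨-, h2⟩, h3⟩
      exact ⟨hsep.1 h1, ⟨hft', hqc.1 h2⟩, hUC.1 h3⟩
    · rintro ⟨h1, ⟨-, h2⟩, h3⟩
      exact ⟨hsep.2 h1, ⟨hft, hqc.2 h2⟩, hUC.2 h3⟩
  have key : ∀ {A C : AlgSp.Space S} (φ : A ⟶ C), AlgSp.IsFiniteMor φ.hom ↔
      AlgSp.IsProperMor φ.hom ∧ AlgSp.LocP (@LocallyQuasiFinite ⊓ @LocallyOfFiniteType) φ.hom :=
    fun φ => (Groth.Agent.S10649.result φ).out 0 1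
  refine ⟨?_, ?_, hprop⟩
  · rw [key f, key f', hprop, hlqf]
  · rw [(Groth.Agent.S10614.result f).2.1, (Groth.Agent.S10614.result f').2.1, hUC, hunr, hUI]

/-- immersions deform in a cartesian square of thickenings with both morphisms locally of finite
type. -/
theorem immersion_of {S : Scheme.{u}} {X X' Y Y' : AlgSp.Space S} (i : X ⟶ X') (j : Y ⟶ Y')
    (f : X ⟶ Y) (f' : X' ⟶ Y')
    (hi : AlgSp.IsThickMor i.hom)
    (hj : AlgSp.IsThickMor j.hom) (w : i ≫ f' = f ≫ j)
    (hcart : IsPullback i.hom f.hom f'.hom j.hom)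
    (hft' : AlgSp.LocP @LocallyOfFiniteType f'.hom)
    (h : AlgSp.RepWith @IsImmersion f.hom) : AlgSp.RepWith @IsImmersion f'.hom := by
  have hw : i.hom ≫ f'.hom = f.hom ≫ j.hom := congrArg (fun φ => φ.hom) w
  have hhi := Groth.Agent.R2.H47.ThickTop.isHomeomorph_points_map i.hom hi
  have hhj := Groth.Agent.R2.H47.ThickTop.isHomeomorph_points_map j.hom hj
  obtain ⟨-, hlc⟩ := Groth.Agent.S10191.result f h
  -- the image of `f'`
  have hTT' : Set.range (AlgSp.Points.map f'.hom) =
      AlgSp.Points.map j.hom '' Set.range (AlgSp.Points.map f.hom) := by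
    ext y
    constructor
    · rintro ⟨x', rfl⟩
      obtain ⟨x, rfl⟩ := hhi.surjective x'
      refine ⟨AlgSp.Points.map f.hom x, ⟨x, rfl⟩, ?_⟩
      rw [← AlgSp.Points.map_comp, ← AlgSp.Points.map_comp, hw]
    · rintro ⟨_, ⟨x, rfl⟩, rfl⟩
      refine ⟨AlgSp.Points.map i.hom x, ?_⟩
      rw [← AlgSp.Points.map_comp, ← AlgSp.Points.map_comp, hw]
  have hlc' : IsLocallyClosed (Set.range (AlgSp.Points.map f'.hom)) := by
    rw [hTT']
    refine hlc.image hhj.isInducing ?_
    rw [hhj.surjective.range_eq]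
    exact isClosed_univ.isLocallyClosed
  have hWo : IsOpen (coborder (Set.range (AlgSp.Points.map f'.hom))) := hlc'.isOpen_coborder
  -- the open subspace `U'` of `Y'`
  let W' : Set (AlgSp.Points Y'.obj) := coborder (Set.range (AlgSp.Points.map f'.hom))
  let U' : AlgSp.Space S := ⟨Groth.Agent.Lib.Helper12.OpenSub.obj Y'.obj W',
    Groth.Agent.Lib.Helper12.OpenSub.isAlgSpace_obj Y'.property hWo⟩
  let u' : U' ⟶ Y' := ObjectProperty.homMk (Groth.Agent.Lib.Helper12.OpenSub.incl Y'.obj W')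
  have hu' : AlgSp.RepWith @IsOpenImmersion u'.hom :=
    Groth.Agent.Lib.Helper12.OpenSub.repWith_incl hWo
  obtain ⟨k'h, hk'⟩ : ∃ a' : X'.obj ⟶ Groth.Agent.Lib.Helper12.OpenSub.obj Y'.obj W',
      a' ≫ Groth.Agent.Lib.Helper12.OpenSub.incl Y'.obj W' = f'.hom :=
    (Groth.Agent.R2.H93.Where.factor_iff_points W' f'.hom).2 (fun x => subset_coborder ⟨x, rfl⟩)
  let k' : X' ⟶ U' := ObjectProperty.homMk k'h
  have ek' : k' ≫ u' = f' := by
    ext1
    exact hk'
  -- the open subspace `U` of `Y`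
  have sqU0 := IsPullback.of_hasPullback j.hom u'.hom
  let U : AlgSp.Space S := ⟨pullback j.hom u'.hom,
    Groth.Agent.S9874.isAlgSpace_of_isPullback Y'.property.diag Y.property U'.property sqU0⟩
  let u : U ⟶ Y := ObjectProperty.homMk (pullback.fst j.hom u'.hom)
  let iU : U ⟶ U' := ObjectProperty.homMk (pullback.snd j.hom u'.hom)
  have sqU : IsPullback u.hom iU.hom j.hom u'.hom := sqU0
  have hiU : AlgSp.IsThickMor iU.hom :=
    Groth.Agent.R2.H47.ThickTop.isThickMor_of_isPullback sqU hj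
  have hu : AlgSp.RepWith @IsOpenImmersion u.hom :=
    MorphismProperty.of_isPullback (P := AlgSp.RepWith @IsOpenImmersion) sqU.flip hu'
  have hcomm : f.hom ≫ j.hom = (i.hom ≫ k'.hom) ≫ u'.hom := by
    rw [Category.assoc, ← hw]
    congr 1
    exact hk'.symm
  let k : X ⟶ U := ObjectProperty.homMk (pullback.lift f.hom (i.hom ≫ k'.hom) hcomm)
  have ek : k ≫ u = f := by
    ext1
    exact pullback.lift_fst _ _ _
  have ekU : k.hom ≫ iU.hom = i.hom ≫ k'.hom := pullback.lift_snd _ _ _
  have ek'h : k'.hom ≫ u'.hom = f'.hom := hk'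
  have ekh : k.hom ≫ u.hom = f.hom := pullback.lift_fst _ _ _
  have sqk : IsPullback i.hom k.hom k'.hom iU.hom := by
    refine IsPullback.of_bot ?_ ekU.symm sqU.flip
    rw [ekh, ek'h]
    exact hcart
  -- `k` is a closed immersion
  have huimm : AlgSp.RepWith @IsImmersion u.hom :=
    Groth.Agent.Lib.Helper12.OpenSub.repWith_mono
      (fun _ _ g hg => by haveI : IsOpenImmersion g := hg; exact (inferInstance : IsImmersion g)) hu
  have hkimm : AlgSp.RepWith @IsImmersion k.hom :=
    Groth.Agent.S9888.result S Y.obj X.obj U.obj Y.property f.hom u.hom @IsImmersion h huimm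
      k.hom ekh
  have hemb : Topology.IsEmbedding (AlgSp.Points.map u.hom) :=
    (Groth.Agent.S10191.result u huimm).1
  have hclosed : IsClosed (Set.range (AlgSp.Points.map k.hom)) := by
    rw [← closure_subset_iff_isClosed]
    intro p hp
    rw [hemb.closure_eq_preimage_closure_image] at hp
    have himg : AlgSp.Points.map u.hom '' Set.range (AlgSp.Points.map k.hom) =
        Set.range (AlgSp.Points.map f.hom) := by
      rw [← Set.range_comp]
      congr 1
      funext x
      show AlgSp.Points.map u.hom (AlgSp.Points.map k.hom x) = _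
      rw [← AlgSp.Points.map_comp, ekh]
    rw [himg] at hp
    -- `hp : map u p ∈ closure T`
    have h1 : AlgSp.Points.map j.hom (AlgSp.Points.map u.hom p) ∈
        closure (Set.range (AlgSp.Points.map f'.hom)) := by
      rw [hTT']
      exact image_closure_subset_closure_image hhj.continuous ⟨_, hp, rfl⟩
    have h2 : AlgSp.Points.map j.hom (AlgSp.Points.map u.hom p) ∈ W' := by
      rw [← AlgSp.Points.map_comp, sqU.w, AlgSp.Points.map_comp]
      have := Groth.Agent.Lib.Helper12.OpenSub.range_map_incl (X := Y'.obj) W'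
      rw [← this]
      exact ⟨_, rfl⟩
    have h3 : AlgSp.Points.map j.hom (AlgSp.Points.map u.hom p) ∈
        Set.range (AlgSp.Points.map f'.hom) := by
      by_contra hn
      exact h2 ⟨h1, hn⟩
    rw [hTT'] at h3
    obtain ⟨_, ⟨x, rfl⟩, hx⟩ := h3
    have hx' := hhj.injective hx
    refine ⟨x, hemb.injective ?_⟩
    rw [← hx', ← AlgSp.Points.map_comp, ekh]
  have hkci : AlgSp.RepWith @IsClosedImmersion k.hom :=
    (Groth.Agent.S9934.result k hkimm).2 hclosed
  -- `k'` is a closed immersion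
  have hklft : AlgSp.LocP @LocallyOfFiniteType k.hom := Groth.Agent.S9953.result k hkimm
  have hk'lft : AlgSp.LocP @LocallyOfFiniteType k'.hom := by
    refine Groth.Agent.S9952.result k' u' ?_
    rw [ek']
    exact hft'
  have wk : i ≫ k' = k ≫ iU := by
    ext1
    exact ekU.symm
  have hk'ci : AlgSp.RepWith @IsClosedImmersion k'.hom :=
    (core i iU k k' hi hiU wk sqk hklft hk'lft).2.1.1 hkci
  -- compose
  have h1 : AlgSp.RepWith @IsImmersion k'.hom :=
    Groth.Agent.Lib.Helper12.OpenSub.repWith_mono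
      (fun _ _ g hg => by
        haveI : IsClosedImmersion g := hg
        exact (inferInstance : IsImmersion g)) hk'ci
  have h2 : AlgSp.RepWith @IsImmersion u'.hom :=
    Groth.Agent.Lib.Helper12.OpenSub.repWith_mono
      (fun _ _ g hg => by haveI : IsOpenImmersion g := hg; exact (inferInstance : IsImmersion g)) hu'
  have h3 := (AlgSp.repWith_isMultiplicative (S := S) @IsImmersion).comp_mem _ _ h1 h2
  rw [ek'h] at h3
  exact h3

/-- Consider a morphism (f, f') from the thickening X ⊂ X' to the thickening Y ⊂ Y' of algebraic spaces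
over S, meaning: i : X ⟶ X' and j : Y ⟶ Y' are thickenings (representable, every base change to a
scheme a surjective closed immersion) and i ≫ f' = f ≫ j. Assume moreover that the square is
cartesian (X = Y ×_{Y'} X') and that f and f' are locally of finite type. Then f is finite, resp. a
closed immersion, resp. an immersion, resp. proper, if and only if f' is (immersions of algebraic
spaces being the representable ones). -/
theorem result {S : Scheme.{u}} {X X' Y Y' : AlgSp.Space S} (i : X ⟶ X') (j : Y ⟶ Y')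
    (f : X ⟶ Y) (f' : X' ⟶ Y')
    (hi : AlgSp.IsThickMor i.hom)
    (hj : AlgSp.IsThickMor j.hom) (w : i ≫ f' = f ≫ j)
    (hcart : IsPullback i.hom f.hom f'.hom j.hom)
    (hft : AlgSp.LocP @LocallyOfFiniteType f.hom) (hft' : AlgSp.LocP @LocallyOfFiniteType f'.hom) :
    (AlgSp.IsFiniteMor f.hom ↔ AlgSp.IsFiniteMor f'.hom) ∧
    (AlgSp.RepWith @IsClosedImmersion f.hom ↔ AlgSp.RepWith @IsClosedImmersion f'.hom) ∧
    (AlgSp.RepWith @IsImmersion f.hom ↔ AlgSp.RepWith @IsImmersion f'.hom) ∧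
    (AlgSp.IsProperMor f.hom ↔ AlgSp.IsProperMor f'.hom) := by
  obtain ⟨hfin, hci, hprop⟩ := core i j f f' hi hj w hcart hft hft'
  refine ⟨hfin, hci, ⟨immersion_of i j f f' hi hj w hcart hft', fun h => ?_⟩, hprop⟩
  exact MorphismProperty.of_isPullback (P := AlgSp.RepWith @IsImmersion) hcart h

end Groth.Agent.S10594
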