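import Groth.Statements.S10047
import Groth.Agent.S10594
import Groth.Agent.S9906
import Groth.Agent.S9953
import Groth.Agent.S9874
import Groth.Agent.R2.H93ThickLocP
import Groth.Agent.R2.H47ThickTop
import Groth.Agent.Lib.Helper2Thick
import Groth.Agent.Lib.Helper12LocPCases

set_option autoImplicit false
universe u
open CategoryTheory CategoryTheory.Limits AlgebraicGeometry
open AlgSp

namespace Groth.Agent.S10047

set_option linter.style.haveILetI false

/-- a surjective closed immersion locally of finite presentation into an affine scheme is a finite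
order thickening: its ideal is finitely generated and nil, hence nilpotent. -/
theorem fthick_of_lfp {W W' : Scheme.{u}} (κ : W ⟶ W') [IsAffine W'] [IsClosedImmersion κ]
    [Surjective κ] [LocallyOfFinitePresentation κ] : MoreMor.IsFiniteOrderThickening κ := by
  refine ⟨⟨inferInstance, inferInstance⟩, ?_⟩
  obtain ⟨hW, hsurj⟩ := IsClosedImmersion.isAffine_surjective_of_isAffine κ
  have hfp : (κ.appTop).hom.FinitePresentation :=
    (HasRingHomProperty.iff_of_isAffine (P := @LocallyOfFinitePresentation)).1 inferInstance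
  have hfg : (RingHom.ker (κ.appTop).hom).FG := by
    algebraize [κ.appTop.hom]
    have h1 : Algebra.FinitePresentation Γ(W', ⊤) Γ(W, ⊤) := hfp
    exact Algebra.FinitePresentation.ker_fG_of_surjective (Algebra.ofId Γ(W', ⊤) Γ(W, ⊤)) hsurj
  have hnil : RingHom.ker κ.appTop.hom ≤ nilradical _ := fun x hx =>
    Groth.Agent.Lib.Helper2.Thick.nil_ker κ ⊤ (isAffineOpen_top W') x hx
  obtain ⟨n, hn⟩ := hfg.isNilpotent_iff_le_nilradical.2 hnil
  refine ⟨n, ?_⟩
  rw [Scheme.IdealSheafData.zero_eq_bot]
  apply Scheme.IdealSheafData.ext_of_isAffine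
  rw [Scheme.IdealSheafData.ideal_pow, Pi.pow_apply, Scheme.Hom.ker_apply]
  exact hn

/-- Let `f : X ⟶ B` and `g : B' ⟶ B` be morphisms of algebraic spaces over `S` with `g` a closed
immersion inducing a bijection on points, and suppose the base change `X ×_B B' ⟶ B'` is a closed
immersion. If `f` is of finite type or `g` is of finite presentation, then `f` is a closed
immersion. -/
theorem result (S : Scheme.{u}) {X B B' : AlgSp.Space S}
    (f : X ⟶ B) (g : B' ⟶ B) (hg : AlgSp.RepWith @IsClosedImmersion g.hom)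
    (hbij : Function.Bijective (AlgSp.Points.map g.hom))
    (X' : AlgSp.Sp S) (fst : X' ⟶ X.obj) (snd : X' ⟶ B'.obj) (hX' : IsPullback fst snd f.hom g.hom)
    (hsnd : AlgSp.RepWith @IsClosedImmersion snd)
    (hor : AlgSp.IsFiniteTypeMor f.hom ∨ AlgSp.IsFinitePresentationMor g.hom) :
    AlgSp.RepWith @IsClosedImmersion f.hom := by
  -- `g` is a thickening
  have hgs : AlgSp.RepWith @Surjective g.hom := (Groth.Agent.S9906.result g hg.1).2 hbij.2
  have hgt : AlgSp.IsThickMor g.hom :=
    ⟨hg.1, fun T W c' c κ sq => ⟨hg.2 c' c κ sq, hgs.2 c' c κ sq⟩⟩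
  -- the base change as an algebraic space
  let X'sp : AlgSp.Space S := ⟨X',
    Groth.Agent.S9874.isAlgSpace_of_isPullback B.property.diag X.property B'.property hX'⟩
  let i : X'sp ⟶ X := ObjectProperty.homMk fst
  let s : X'sp ⟶ B' := ObjectProperty.homMk snd
  have hcart : IsPullback i.hom s.hom f.hom g.hom := hX'
  have hi : AlgSp.IsThickMor i.hom :=
    Groth.Agent.R2.H47.ThickTop.isThickMor_of_isPullback hcart.flip hgt
  have w : i ≫ f = s ≫ g := by
    ext1
    exact hX'.w
  have hsci : AlgSp.RepWith @IsClosedImmersion s.hom := hsnd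
  have hslft : AlgSp.LocP @LocallyOfFiniteType s.hom :=
    Groth.Agent.S9953.result s (Groth.Agent.Lib.Helper12.OpenSub.repWith_mono
      (fun _ _ k hk => by
        haveI : IsClosedImmersion k := hk
        exact (inferInstance : IsImmersion k)) hsci)
  -- `f` is locally of finite type
  have hflft : AlgSp.LocP @LocallyOfFiniteType f.hom := by
    rcases hor with hft | hfp
    · exact hft.1
    · have hcX : IsPullback i.hom (s ≫ 𝟙 B').hom (f ≫ 𝟙 B).hom g.hom := by
        rw [Category.comp_id, Category.comp_id]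
        exact hcart
      have hcY : IsPullback g.hom (𝟙 B' : B' ⟶ B').hom (𝟙 B : B ⟶ B).hom g.hom :=
        IsPullback.id_vert g.hom
      refine Groth.Agent.R2.H93.ThickLocP.locP_of_thick_chart
        Groth.Agent.Lib.Helper12.LocPCases.good_lft i g g s f (𝟙 B') (𝟙 B) hcX hcY w hgt ?_ hslft
      intro U' V' W' W a' b' c' c k1 k2 κ hW' ha' hb' hc' sqW e1 e2 hP
      have hc : AlgSp.RepWith @Etale c :=
        MorphismProperty.of_isPullback (P := AlgSp.RepWith @Etale) sqW.flip hc'
      haveI : IsAffine W'.left := hW'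
      haveI : IsClosedImmersion κ.left := hg.2 c' c κ sqW
      haveI : Surjective κ.left := hgs.2 c' c κ sqW
      haveI : LocallyOfFinitePresentation κ.left := hfp.1 c c' κ hc hc' sqW.w
      have hκ : MoreMor.IsFiniteOrderThickening κ.left := fthick_of_lfp κ.left
      obtain ⟨hcXs, hcYs, sqLs⟩ := Groth.Agent.R2.H93.ThickLocP.scheme_squares k1 k2 κ
      haveI : LocallyOfFiniteType (pullback.snd k1 (pullback.fst k2 κ)).left := hP
      have hYs := Groth.Agent.Lib.Helper2.Thick.fthick_baseChange _ _ _ _ hκ hcYs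
      exact Groth.Agent.Lib.Helper2.Thick.lft_of_fthick _ _ _ k1.left hYs sqLs
  exact (Groth.Agent.S10594.core i g s f hi hgt w hcart hslft hflft).2.1.1 hsci

end Groth.Agent.S10047
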