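import Groth.Statements.S10060
import Groth.Agent.R2.H44LimAffMor

set_option autoImplicit false
set_option backward.isDefEq.respectTransparency false
universe u
open CategoryTheory CategoryTheory.Limits AlgebraicGeometry
open AlgSp

namespace Groth.Agent.S10060

open Groth.Agent.R2.H44.LimSp Groth.Agent.R2.H44.PbT Groth.Agent.R2.H44.LimAffMor

/-- Let `S` be a quasi-separated scheme, `Y` an algebraic space over `S` which is quasi-compact and
quasi-separated over `S`, and `X` the limit, in fppf sheaves, of a cofiltered system `(X_i)` of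
algebraic spaces over `Y`, each quasi-compact and quasi-separated over `S`, whose transition maps
are affine. If `X ⟶ Y` is affine, then `X_i ⟶ Y` is affine for all `i` mapping to some `i₀`. (The
published statement allows any base scheme and uses absolute quasi-separatedness; this row assumes
the base quasi-separated, over which quasi-separatedness relative to the base is the absolute
notion.) -/
theorem result (S : Scheme.{u}) [QuasiSeparatedSpace S] {I : Type u} [SmallCategory I] [IsCofiltered I]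
    (Y : AlgSp.Space S) (D : I ⥤ AlgSp.Sp S) (hD : ∀ i, AlgSp.IsAlgSpace (D.obj i))
    (t : D ⟶ (Functor.const I).obj Y.obj)
    (hDa : ∀ (i j : I) (φ : i ⟶ j), AlgSp.IsAffineMor (D.map φ))
    (c : Cone D) (hc : IsLimit c) (g : c.pt ⟶ Y.obj) (hg : ∀ i, c.π.app i ≫ t.app i = g)
    (hqc : ∀ i, AlgSp.IsQuasiCompactSp (D.obj i)) (hqs : ∀ i, AlgSp.IsQuasiSeparatedSp (D.obj i))
    (hYqc : AlgSp.IsQuasiCompactSp Y.obj) (hYqs : AlgSp.IsQuasiSeparatedSp Y.obj) (hX : AlgSp.IsAffineMor g) :
    ∃ i₀ : I, ∀ (i : I) (_ : i ⟶ i₀), AlgSp.IsAffineMor (t.app i) := by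
  classical
  obtain ⟨V, v, hV, hve, hvs⟩ := (Groth.Agent.S10180.result Y).1 hYqc
  have hVrep : IsAffRep ((AlgSp.yon S).obj V) := ⟨V, hV, ⟨Iso.refl _⟩⟩
  have haff : IsAffRep (pullback v g) := by
    obtain ⟨W, iW, fst, sq, hW⟩ := hX hV v
    exact ⟨W, hW, ⟨sq.flip.isoPullback⟩⟩
  obtain ⟨m, hm⟩ := exists_affRep_pbT D hD hDa hqc hqs c hc
    ⟨(AlgSp.yon S).obj V, AlgSp.IsAlgSpace.yon_obj V⟩ Y (Groth.Agent.R2.H44.LimDesc.qcqs_yon_of_isAffine V hV)
    ⟨hYqc, hYqs⟩ v t g hg haff
  refine ⟨m, fun i φ => ?_⟩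
  have hi : IsAffRep (pullback v (t.app i)) := by
    obtain ⟨T', hT', ⟨e'⟩⟩ := hm
    have hmap : AlgSp.IsAffineMor ((pbT D t v).map φ) :=
      Groth.Agent.S9944.isAffineMor_of_isPullback (isPullback_pbT_map D t v φ).flip (hDa _ _ φ)
    obtain ⟨W, iW, fst, sq, hW⟩ := hmap hT' e'.hom
    have : IsIso fst := sq.isIso_fst_of_isIso
    exact ⟨W, hW, ⟨asIso fst⟩⟩
  exact Groth.Agent.R2.H59.AffDesc.isAffineMor_of_etale_surjective (t.app i) v hve hvs
    (pullback.snd v (t.app i)) (pullback.fst v (t.app i)) (IsPullback.of_hasPullback v (t.app i)).flip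
    (isAffineMor_of_isAffRep hi hVrep _)

end Groth.Agent.S10060
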