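import Groth.Statements.S10061
import Groth.Agent.R2.H44LimOverY
import Groth.Agent.R2.H59AffDesc3
import Groth.Agent.S2154

set_option autoImplicit false
set_option backward.isDefEq.respectTransparency false
universe u
open CategoryTheory CategoryTheory.Limits AlgebraicGeometry
open AlgSp

namespace Groth.Agent.S10061

attribute [local instance] IsCofiltered.isConnected in
/-- Let `S` be a quasi-separated scheme, `Y` an algebraic space over `S` which is quasi-compact and
quasi-separated over `S`, and `X` the limit, in fppf sheaves, of a cofiltered system `(X_i)` of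
algebraic spaces over `Y`, each quasi-compact and quasi-separated over `S`, whose transition maps
are finite. If each `X_i ⟶ Y` is locally of finite type and `X ⟶ Y` is integral, then `X_i ⟶ Y` is
finite for all `i` mapping to some `i₀`. (The published statement allows any base scheme and uses
absolute quasi-separatedness; this row assumes the base quasi-separated, over which
quasi-separatedness relative to the base is the absolute notion.) -/
theorem result (S : Scheme.{u}) [QuasiSeparatedSpace S] {I : Type u} [SmallCategory I] [IsCofiltered I]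
    (Y : AlgSp.Space S) (D : I ⥤ AlgSp.Sp S) (hD : ∀ i, AlgSp.IsAlgSpace (D.obj i))
    (t : D ⟶ (Functor.const I).obj Y.obj)
    (hDf : ∀ (i j : I) (φ : i ⟶ j), AlgSp.IsFiniteMor (D.map φ))
    (c : Cone D) (hc : IsLimit c) (g : c.pt ⟶ Y.obj) (hg : ∀ i, c.π.app i ≫ t.app i = g)
    (hqc : ∀ i, AlgSp.IsQuasiCompactSp (D.obj i)) (hqs : ∀ i, AlgSp.IsQuasiSeparatedSp (D.obj i))
    (hYqc : AlgSp.IsQuasiCompactSp Y.obj) (hYqs : AlgSp.IsQuasiSeparatedSp Y.obj)
    (hft : ∀ i, AlgSp.LocP @LocallyOfFiniteType (t.app i)) (hX : AlgSp.IsIntegralMor g) :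
    ∃ i₀ : I, ∀ (i : I) (_ : i ⟶ i₀), AlgSp.IsFiniteMor (t.app i) := by
  classical
  have hDa : ∀ (i j : I) (φ : i ⟶ j), AlgSp.IsAffineMor (D.map φ) := fun i j φ =>
    Groth.Agent.R2.H59.AffDesc.isAffineMor_of_isFiniteMor _ (hDf i j φ)
  obtain ⟨V, v, m, K, cK, κ, κ', hV, hve, hvs, ⟨hcK'⟩, hK, hκmap, hκπ, hP1, hP2, hP3, hP4⟩ :=
    Groth.Agent.R2.H44.LimOverY.model_over_chart Y D hD t hDa c hc g hg hqc hqs hYqc hYqs
      (Groth.Agent.R2.H59.AffDesc.isAffineMor_of_isIntegralMor g hX)
  -- the system over `V`
  let KV : Over m ⥤ Over V.left :=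
    { obj := fun l => Over.mk (κ l).left
      map := fun {l l'} φ => Over.homMk (K.map φ).left (by
        change (K.map φ).left ≫ (κ l').left = (κ l).left
        rw [← Over.comp_left, hκmap])
      map_id := fun l => by
        ext
        change (K.map (𝟙 l)).left = 𝟙 _
        rw [K.map_id]
        rfl
      map_comp := fun φ ψ => by
        ext
        change (K.map (φ ≫ ψ)).left = (K.map φ).left ≫ (K.map ψ).left
        rw [K.map_comp]
        rfl }
  let cKV : Cone KV :=
    { pt := Over.mk κ'.left
      π :=
        { app := fun l => Over.homMk (cK.π.app l).left (by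
            change (cK.π.app l).left ≫ (κ l).left = κ'.left
            rw [← Over.comp_left, hκπ])
          naturality := fun l l' φ => by
            ext
            change 𝟙 _ ≫ (cK.π.app l').left = (cK.π.app l).left ≫ (K.map φ).left
            rw [Category.id_comp, ← Over.comp_left, cK.w] } }
  have hcKV : IsLimit cKV := by
    have h0 : IsLimit ((Over.forget V.left).mapCone cKV) := hcK'
    exact isLimitOfReflects (Over.forget V.left) h0
  have h1 : ∀ (i j : Over m) (f : i ⟶ j), IsFinite (KV.map f).left := fun i j f =>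
    hP1 @IsFinite f (Groth.Agent.R2.H59.AffDesc.repWith_isFinite_of_isFiniteMor _ (hDf _ _ _))
  have h2 : ∀ i, IsAffine (KV.obj i).left := hK
  have h3 : ∀ i, LocallyOfFiniteType (KV.obj i).hom := fun i => hP3 i (hft _)
  have h4 : IsIntegralHom cKV.pt.hom :=
    hP2 @IsIntegralHom (Groth.Agent.R2.H59.AffDesc.repWith_isIntegralHom_of_isIntegralMor g hX)
  have h5 : IsAffine V.left := hV
  obtain ⟨l, hl⟩ := Groth.Agent.S2154.result V.left KV cKV hcKV
  have := Groth.Agent.R2.H59.AffDesc.isLocallySurjective_of_repWith_etale_surjective v hve hvs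
  refine ⟨l.left, fun i φ => ?_⟩
  let l' : Over m := Over.mk (φ ≫ l.hom)
  have h6 : IsFinite (κ l').left := hl l' (Over.homMk φ rfl)
  have h7 : AlgSp.RepWith @IsFinite (pullback.fst v (t.app l'.left)) := hP4 @IsFinite l' h6
  exact Groth.Agent.R2.H59.AffDesc.isFiniteMor_of_locallySurjective (t.app i) v
    (pullback.snd v (t.app i)) (pullback.fst v (t.app i))
    (IsPullback.of_hasPullback v (t.app i)).flip (Groth.Agent.R2.H59.AffDesc.isFiniteMor_of_repWith _ h7)

end Groth.Agent.S10061
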