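import Groth.Statements.S10062
import Groth.Agent.R2.H44LimOverY
import Groth.Agent.R2.H48ClosedDescSp
import Groth.Agent.S0594

set_option autoImplicit false
set_option backward.isDefEq.respectTransparency false
universe u
open CategoryTheory CategoryTheory.Limits AlgebraicGeometry
open AlgSp

namespace Groth.Agent.S10062

/-- Let `S` be a quasi-separated scheme, `Y` an algebraic space over `S` which is quasi-compact and
quasi-separated over `S`, and `X` the limit, in fppf sheaves, of a cofiltered system `(X_i)` of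
algebraic spaces over `Y`, each quasi-compact and quasi-separated over `S`, whose transition maps
are closed immersions. Suppose every `X_i ⟶ Y` is locally of finite type and the limit map `X ⟶ Y`
is a closed immersion. In that case some index `i₀` has the property that, for every `i` mapping to
`i₀`, the map `X_i ⟶ Y` is itself a closed immersion. (The published statement allows any base
scheme and uses absolute quasi-separatedness; this row assumes the base quasi-separated, over which
quasi-separatedness relative to the base is the absolute notion.) -/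
theorem result (S : Scheme.{u}) [QuasiSeparatedSpace S] {I : Type u} [SmallCategory I] [IsCofiltered I]
    (Y : AlgSp.Space S) (D : I ⥤ AlgSp.Sp S) (hD : ∀ i, AlgSp.IsAlgSpace (D.obj i))
    (t : D ⟶ (Functor.const I).obj Y.obj)
    (hDc : ∀ (i j : I) (φ : i ⟶ j), AlgSp.RepWith @IsClosedImmersion (D.map φ))
    (c : Cone D) (hc : IsLimit c) (g : c.pt ⟶ Y.obj) (hg : ∀ i, c.π.app i ≫ t.app i = g)
    (hqc : ∀ i, AlgSp.IsQuasiCompactSp (D.obj i)) (hqs : ∀ i, AlgSp.IsQuasiSeparatedSp (D.obj i))
    (hYqc : AlgSp.IsQuasiCompactSp Y.obj) (hYqs : AlgSp.IsQuasiSeparatedSp Y.obj)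
    (hft : ∀ i, AlgSp.LocP @LocallyOfFiniteType (t.app i)) (hX : AlgSp.RepWith @IsClosedImmersion g) :
    ∃ i₀ : I, ∀ (i : I) (_ : i ⟶ i₀), AlgSp.RepWith @IsClosedImmersion (t.app i) := by
  classical
  have hDa : ∀ (i j : I) (φ : i ⟶ j), AlgSp.IsAffineMor (D.map φ) := fun i j φ =>
    Groth.Agent.R2.H44.LimIso.isAffineMor_of_closedImmersion _ (hDc i j φ)
  obtain ⟨V, v, m, K, cK, κ, κ', hV, hve, hvs, ⟨hcK'⟩, hK, hκmap, hκπ, hP1, hP2, hP3, hP4⟩ :=
    Groth.Agent.R2.H44.LimOverY.model_over_chart Y D hD t hDa c hc g hg hqc hqs hYqc hYqs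
      (Groth.Agent.R2.H44.LimIso.isAffineMor_of_closedImmersion g hX)
  let t'' : K ⋙ Over.forget S ⟶ (Functor.const (Over m)).obj V.left :=
    { app := fun l => (κ l).left
      naturality := by
        intro l l' φ
        change (K.map φ).left ≫ (κ l').left = (κ l).left ≫ 𝟙 _
        rw [Category.comp_id, ← Over.comp_left, hκmap] }
  have h1 : ∀ (i j : Over m) (f : i ⟶ j), IsClosedImmersion ((K ⋙ Over.forget S).map f) := fun i j f =>
    hP1 @IsClosedImmersion f (hDc _ _ _)
  have h2 : ∀ i, IsAffine ((K ⋙ Over.forget S).obj i) := hK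
  have h3 : ∀ i, LocallyOfFiniteType (t''.app i) := fun i => hP3 i (hft _)
  let l₀ : Over m := Over.mk (𝟙 m)
  have h4 : IsClosedImmersion (((Over.forget S).mapCone cK).π.app l₀ ≫ t''.app l₀) := by
    have e1 : ((Over.forget S).mapCone cK).π.app l₀ ≫ t''.app l₀ = κ'.left := by
      change (cK.π.app l₀).left ≫ (κ l₀).left = κ'.left
      rw [← Over.comp_left, hκπ]
    rw [e1]
    exact hP2 @IsClosedImmersion hX
  have h5 : IsAffine V.left := hV
  obtain ⟨l, hl⟩ := Groth.Agent.S0594.result V.left (K ⋙ Over.forget S) t'' ((Over.forget S).mapCone cK) hcK' l₀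
  have h6 : AlgSp.RepWith @IsClosedImmersion (pullback.fst v (t.app l.left)) := hP4 @IsClosedImmersion l hl
  have := Groth.Agent.R2.H59.AffDesc.isLocallySurjective_of_repWith_etale_surjective v hve hvs
  have h7 : AlgSp.RepWith @IsClosedImmersion (t.app l.left) :=
    Groth.Agent.R2.H48.ClosedDescSp.repWith_isClosedImmersion_of_locallySurjective (t.app l.left) v
      (pullback.snd v (t.app l.left)) (pullback.fst v (t.app l.left))
      (IsPullback.of_hasPullback v (t.app l.left)).flip h6
  refine ⟨l.left, fun i φ => ?_⟩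
  rw [← Groth.Agent.R2.H44.PbT.τ_w D t φ]
  exact MorphismProperty.comp_mem _ _ _ (hDc _ _ φ) h7

end Groth.Agent.S10062
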