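import Groth.Statements.S10064
import Groth.Agent.S9900
import Groth.Agent.S9874
import Groth.Agent.S9951
import Groth.Agent.S9984
import Groth.Agent.S9985
import Groth.Agent.S9885
import Groth.Agent.S10290
import Groth.Agent.Lib.Helper4DVREx
import Groth.Agent.R2.H48ClosedDescSp

set_option autoImplicit false
universe u
open CategoryTheory CategoryTheory.Limits AlgebraicGeometry
open AlgSp

set_option linter.style.haveILetI false

namespace Groth.Agent.S10064

/-- the condition `P = @LocallyOfFiniteType ∨ ...` of the `LocP` lemmas. -/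
private lemma hPlft : (@LocallyOfFiniteType = @LocallyOfFiniteType ∨
    @LocallyOfFiniteType = @LocallyOfFinitePresentation ∨ @LocallyOfFiniteType = @Flat ∨
    @LocallyOfFiniteType = @Smooth ∨ @LocallyOfFiniteType = @Etale ∨
    (∀ ⦃A B : Scheme.{u}⦄ (g : A ⟶ B),
      @LocallyOfFiniteType A B g ↔ (LocallyQuasiFinite g ∧ LocallyOfFiniteType g)) ∨
    (∀ ⦃A B : Scheme.{u}⦄ (g : A ⟶ B),
      @LocallyOfFiniteType A B g ↔ (LocallyOfFiniteType g ∧ FormallyUnramified g))) := Or.inl rfl

/-- Let `f : X ⟶ Y` be quasi-separated and locally of finite type with `Y` locally Noetherian. Then `f`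
is separated if and only if every valuative test square for `f` whose valuation ring is a discrete
valuation ring admits at most one dotted arrow. (The published statement also lists the uniqueness
part of the valuative criterion, over arbitrary valuation rings, as an equivalent condition, and a
refinement to squares hitting a codimension-0 point; neither is included in this row.) -/
theorem result (S : Scheme.{u}) {X Y : AlgSp.Space S} (f : X ⟶ Y)
    (hqs : AlgSp.IsQuasiSeparatedMor f.hom) (hft : AlgSp.LocP @LocallyOfFiniteType f.hom) (hY : AlgSp.IsLocNoethSp Y.obj) :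
    AlgSp.IsSeparatedMor f.hom ↔ ∀ sq : AlgSp.ValSq f.hom, IsDiscreteValuationRing sq.A → sq.HasUniq := by
  constructor
  · intro hs sq _
    exact Groth.Agent.S10290.result f hs sq
  intro hu
  obtain ⟨hrep, hlft, hmono, hsep, -⟩ := Groth.Agent.S9900.result f
  -- the fibre square of `X` over `Y` is a locally Noetherian algebraic space
  have hP₂ : AlgSp.IsAlgSpace (pullback f.hom f.hom) :=
    Groth.Agent.S9874.isAlgSpace_of_isPullback Y.property.diag X.property X.property
      (IsPullback.of_hasPullback f.hom f.hom)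
  let P₂ : AlgSp.Space S := ⟨pullback f.hom f.hom, hP₂⟩
  let pr₁ : P₂ ⟶ X := ObjectProperty.homMk (pullback.fst f.hom f.hom)
  let pr₂ : P₂ ⟶ X := ObjectProperty.homMk (pullback.snd f.hom f.hom)
  have hpr₂ : AlgSp.LocP @LocallyOfFiniteType pr₂.hom :=
    Groth.Agent.S9984.result @LocallyOfFiniteType hPlft f f pr₁ pr₂
      (IsPullback.of_hasPullback f.hom f.hom) hft
  have hP₂Y : AlgSp.LocP @LocallyOfFiniteType (pr₂ ≫ f).hom :=
    Groth.Agent.S9985.result @LocallyOfFiniteType hPlft pr₂ f hpr₂ hft
  obtain ⟨T₀, q, hqe, hqs', hT₀N⟩ := Groth.Agent.S9951.result (pr₂ ≫ f) hP₂Y hY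
  haveI : IsLocallyNoetherian T₀.left := hT₀N
  -- the base change of the diagonal to the chart
  obtain ⟨W, w, pr, psq⟩ := hrep q
  haveI : LocallyOfFiniteType w.left := hlft.2 q pr w psq
  haveI : Mono w.left := hmono.2 q pr w psq
  haveI : IsSeparated w.left := hsep.2 q pr w psq
  haveI : QuasiCompact w.left := hqs.2 q pr w psq
  have hpa : pr = (AlgSp.yon S).map w ≫ q ≫ pullback.fst f.hom f.hom := by
    have := psq.w =≫ pullback.fst f.hom f.hom
    rwa [Category.assoc, pullback.diagonal_fst, Category.comp_id, Category.assoc] at this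
  have hpb : pr = (AlgSp.yon S).map w ≫ q ≫ pullback.snd f.hom f.hom := by
    have := psq.w =≫ pullback.snd f.hom f.hom
    rwa [Category.assoc, pullback.diagonal_snd, Category.comp_id, Category.assoc] at this
  have hex : ValuativeCriterion.Existence w.left := by
    refine Groth.Agent.Lib.Helper4.DVREx.existence_of_dvr' w.left ?_
    intro A _ _ _ x y hxy
    have hi₁ : x ≫ W.hom =
        Spec.map (CommRingCat.ofHom (algebraMap A (FractionRing A))) ≫ y ≫ T₀.hom := by
      have h := hxy =≫ T₀.hom
      rw [Category.assoc, Category.assoc, Over.w w] at h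
      exact h
    let i₂' : Over.mk (y ≫ T₀.hom) ⟶ T₀ := Over.homMk y rfl
    let jj : Over.mk (Spec.map (CommRingCat.ofHom (algebraMap A (FractionRing A))) ≫ y ≫ T₀.hom) ⟶
        Over.mk (y ≫ T₀.hom) :=
      Over.homMk (Spec.map (CommRingCat.ofHom (algebraMap A (FractionRing A)))) rfl
    let i₁' : Over.mk (Spec.map (CommRingCat.ofHom (algebraMap A (FractionRing A))) ≫ y ≫ T₀.hom) ⟶
        W := Over.homMk x hi₁
    have hcomm' : i₁' ≫ w = jj ≫ i₂' := Over.OverMorphism.ext hxy
    have e : (AlgSp.yon S).map jj ≫ (AlgSp.yon S).map i₂' =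
        (AlgSp.yon S).map i₁' ≫ (AlgSp.yon S).map w := by
      rw [← Functor.map_comp, ← Functor.map_comp, hcomm']
    obtain ⟨l₁, hl₁⟩ : ∃ l₁ : (AlgSp.yon S).obj (Over.mk (y ≫ T₀.hom)) ⟶ X.obj,
        l₁ = (AlgSp.yon S).map i₂' ≫ q ≫ pullback.fst f.hom f.hom := ⟨_, rfl⟩
    obtain ⟨l₂, hl₂⟩ : ∃ l₂ : (AlgSp.yon S).obj (Over.mk (y ≫ T₀.hom)) ⟶ X.obj,
        l₂ = (AlgSp.yon S).map i₂' ≫ q ≫ pullback.snd f.hom f.hom := ⟨_, rfl⟩
    have hj1 : (AlgSp.yon S).map jj ≫ l₁ = (AlgSp.yon S).map i₁' ≫ pr := by
      rw [hl₁, hpa]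
      simpa only [Category.assoc] using e =≫ (q ≫ pullback.fst f.hom f.hom)
    have hj2 : (AlgSp.yon S).map jj ≫ l₂ = (AlgSp.yon S).map i₁' ≫ pr := by
      rw [hl₂, hpb]
      simpa only [Category.assoc] using e =≫ (q ≫ pullback.snd f.hom f.hom)
    have hf12 : l₁ ≫ f.hom = l₂ ≫ f.hom := by
      rw [hl₁, hl₂]
      simp only [Category.assoc, pullback.condition]
    let vsq : AlgSp.ValSq f.hom :=
      { A := A, K := FractionRing A, str := y ≫ T₀.hom, top := (AlgSp.yon S).map i₁' ≫ pr,
        bot := l₁ ≫ f.hom, comm := by rw [← hj1, Category.assoc] }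
    have huniq : l₁ = l₂ := hu vsq (inferInstanceAs (IsDiscreteValuationRing A)) l₁ l₂ hj1 rfl hj2
      hf12.symm
    have hd : l₁ ≫ pullback.diagonal f.hom = (AlgSp.yon S).map i₂' ≫ q := by
      apply pullback.hom_ext
      · rw [Category.assoc, pullback.diagonal_fst, Category.comp_id, hl₁, Category.assoc]
      · rw [Category.assoc, pullback.diagonal_snd, Category.comp_id, huniq, hl₂, Category.assoc]
    obtain ⟨s, hs⟩ := (AlgSp.yon S).map_surjective (psq.lift l₁ ((AlgSp.yon S).map i₂') hd)
    have hsw : s ≫ w = i₂' := by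
      apply (AlgSp.yon S).map_injective
      rw [Functor.map_comp, hs, psq.lift_snd]
    have hsl : s.left ≫ w.left = y := by
      rw [← Over.comp_left, hsw]; rfl
    refine ⟨s.left, hsl, ?_⟩
    rw [← cancel_mono w.left, Category.assoc, hsl, hxy]
  haveI : UniversallyClosed w.left := UniversallyClosed.of_valuativeCriterion w.left hex
  haveI : IsProper w.left := { }
  have hcl : IsClosedImmersion w.left :=
    (IsClosedImmersion.iff_isProper_and_mono w.left).2 ⟨inferInstance, inferInstance⟩
  -- descend along the chart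
  have h1 : AlgSp.RepWith @Flat q := ⟨hqe.1, fun U V g fst snd sq => by
    haveI : Etale snd.left := hqe.2 g fst snd sq
    exact (inferInstance : Flat snd.left)⟩
  have h2 : AlgSp.RepWith @LocallyOfFinitePresentation q := ⟨hqe.1, fun U V g fst snd sq => by
    haveI : Etale snd.left := hqe.2 g fst snd sq
    exact (inferInstance : LocallyOfFinitePresentation snd.left)⟩
  haveI := Groth.Agent.S9885.result S _ _ q h1 h2 hqs'
  exact Groth.Agent.R2.H48.ClosedDescSp.repWith_isClosedImmersion_of_locallySurjective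
    (pullback.diagonal f.hom) q pr ((AlgSp.yon S).map w) psq
    ((AlgSp.repWith_yon_map_iff @IsClosedImmersion w).2 hcl)

end Groth.Agent.S10064
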