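import Groth.Statements.S10284
import Groth.Agent.R2.H95ValDesc
import Groth.Agent.R2.H43ValSpec
import Groth.Agent.S9874
import Groth.Agent.Lib.Helper12Proper

set_option autoImplicit false
set_option linter.style.haveILetI false
set_option backward.isDefEq.respectTransparency false
universe u
open CategoryTheory CategoryTheory.Limits AlgebraicGeometry
open AlgSp

namespace Groth.Agent.S10284

/-- a local injective homomorphism from a valuation ring to a local domain is faithfully flat. -/
theorem faithfullyFlat_of_valuationRing {A A' : Type u} [CommRing A] [IsDomain A] [ValuationRing A]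
    [CommRing A'] [IsDomain A'] [IsLocalRing A'] (φ : A →+* A') (hφ : Function.Injective φ)
    [IsLocalHom φ] : φ.FaithfullyFlat := by
  algebraize [φ]
  haveI : Module.IsTorsionFree A A' := Module.IsTorsionFree.of_smul_eq_zero (fun r m h => by
    rw [Algebra.smul_def, mul_eq_zero] at h
    rcases h with h | h
    · left
      exact hφ (by rw [map_zero]; exact h)
    · right
      exact h)
  haveI : Module.Flat A A' := by
    rw [Module.Flat.flat_iff_torsion_eq_bot_of_isBezout, ← Submodule.isTorsionFree_iff_torsion_eq_bot]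
    infer_instance
  haveI : IsLocalHom (algebraMap A A') := ‹IsLocalHom φ›
  exact Module.FaithfullyFlat.of_flat_of_isLocalHom

/-- `Spec` of an injective ring map is scheme theoretically dominant. -/
theorem isSchemeTheoreticallyDominant_specMap {R T : CommRingCat.{u}} (φ : R ⟶ T)
    (hφ : Function.Injective φ.hom) : IsSchemeTheoreticallyDominant (Spec.map φ) :=
  ⟨Groth.Agent.R2.H43.ValSpec.ker_specMap_eq_bot φ hφ⟩

/-- `Spec` of an epimorphism of rings is a monomorphism of schemes. -/
theorem mono_specMap_of_epi {R T : CommRingCat.{u}} (φ : R ⟶ T) [Epi φ] : Mono (Spec.map φ) := by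
  haveI : Mono φ.op := inferInstance
  exact inferInstanceAs (Mono (Scheme.Spec.map φ.op))

/-- For a separated morphism of algebraic spaces, a valuative square that has a lift after a dominating
extension of the valuation ring already has a lift. -/
theorem result {S : Scheme.{u}} {X Y : AlgSp.Space S} (f : X ⟶ Y)
    (hf : AlgSp.IsSeparatedMor f.hom) (sq : AlgSp.ValSq f.hom) (e : sq.DomExt) (he : e.HasLift) :
    sq.HasLift := by
  obtain ⟨l, hl1, hl2⟩ := he
  -- the morphisms of spectra over `S`
  let φ' : e.ptA' ⟶ sq.ptA := Over.homMk (Spec.map (CommRingCat.ofHom e.φ)) rfl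
  let j' : e.ptK' ⟶ e.ptA' := Over.homMk (Spec.map (CommRingCat.ofHom (algebraMap e.A' e.K'))) rfl
  let ψ' : e.ptK' ⟶ sq.ptK := Over.homMk (Spec.map (CommRingCat.ofHom e.ψ)) (by
    change Spec.map _ ≫ Spec.map _ ≫ _ = Spec.map _ ≫ Spec.map _ ≫ _
    rw [← Spec.map_comp_assoc, ← Spec.map_comp_assoc, ← CommRingCat.ofHom_comp,
      ← CommRingCat.ofHom_comp, e.comm])
  have comm : j' ≫ φ' = ψ' ≫ sq.j := by
    ext
    change Spec.map _ ≫ Spec.map _ = Spec.map _ ≫ Spec.map _
    rw [← Spec.map_comp, ← Spec.map_comp, ← CommRingCat.ofHom_comp, ← CommRingCat.ofHom_comp, e.comm]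
  -- properties
  have hAK : Function.Injective (algebraMap sq.A sq.K) := IsFractionRing.injective sq.A sq.K
  have hA'K' : Function.Injective (algebraMap e.A' e.K') := IsFractionRing.injective e.A' e.K'
  have hφinj : Function.Injective e.φ := by
    have h1 : Function.Injective ((algebraMap e.A' e.K').comp e.φ) := by
      rw [e.comm]
      exact e.ψ.injective.comp hAK
    exact Function.Injective.of_comp h1
  haveI := e.isLocalHom
  have hff := faithfullyFlat_of_valuationRing e.φ hφinj
  have hfs := (flat_and_surjective_SpecMap_iff (CommRingCat.ofHom e.φ)).2 hff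
  haveI : Flat φ'.left := hfs.1
  haveI : Surjective φ'.left := hfs.2
  haveI : QuasiCompact φ'.left := inferInstanceAs (QuasiCompact (Spec.map _))
  haveI : QuasiCompact j'.left := inferInstanceAs (QuasiCompact (Spec.map _))
  haveI : QuasiCompact sq.j.left := inferInstanceAs (QuasiCompact (Spec.map _))
  haveI : IsSchemeTheoreticallyDominant j'.left :=
    isSchemeTheoreticallyDominant_specMap (CommRingCat.ofHom (algebraMap e.A' e.K')) hA'K'
  haveI : IsSchemeTheoreticallyDominant sq.j.left :=
    isSchemeTheoreticallyDominant_specMap (CommRingCat.ofHom (algebraMap sq.A sq.K)) hAK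
  haveI : Flat sq.j.left := by
    refine (HasRingHomProperty.Spec_iff (P := @Flat)).2 ?_
    rw [CommRingCat.hom_ofHom, RingHom.flat_algebraMap_iff]
    exact IsLocalization.flat sq.K (nonZeroDivisors sq.A)
  haveI : Mono sq.j := by
    haveI : Epi (CommRingCat.ofHom (algebraMap sq.A sq.K)) :=
      IsLocalization.epi (nonZeroDivisors sq.A) sq.K
    haveI : Mono sq.j.left := mono_specMap_of_epi (CommRingCat.ofHom (algebraMap sq.A sq.K))
    exact Over.mono_of_mono_left _
  -- base change to `Spec A`
  have hXA : AlgSp.IsAlgSpace (pullback f.hom sq.bot) :=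
    Groth.Agent.S9874.isAlgSpace_of_isPullback Y.property.diag X.property (IsAlgSpace.yon_obj _)
      (IsPullback.of_hasPullback f.hom sq.bot)
  have hπ : AlgSp.IsSeparatedMor (pullback.snd f.hom sq.bot) :=
    Groth.Agent.Lib.Helper12.Proper.isSeparatedMor_baseChange
      (IsPullback.of_hasPullback f.hom sq.bot) hf
  let a' : (AlgSp.yon S).obj e.ptA' ⟶ pullback f.hom sq.bot :=
    pullback.lift l ((AlgSp.yon S).map φ') hl2
  let σK : (AlgSp.yon S).obj sq.ptK ⟶ pullback f.hom sq.bot :=
    pullback.lift sq.top ((AlgSp.yon S).map sq.j) sq.comm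
  have hcompat : (AlgSp.yon S).map j' ≫ a' = (AlgSp.yon S).map ψ' ≫ σK := by
    apply pullback.hom_ext
    · rw [Category.assoc, Category.assoc, pullback.lift_fst, pullback.lift_fst]
      exact hl1
    · rw [Category.assoc, Category.assoc, pullback.lift_snd, pullback.lift_snd,
        ← Functor.map_comp, ← Functor.map_comp, comm]
  obtain ⟨σ, hσ1, hσ2⟩ := Groth.Agent.R2.H95.ValDesc.exists_section sq.j φ' j' ψ' comm hXA
    (pullback.snd f.hom sq.bot) hπ a' (pullback.lift_snd _ _ _) σK (pullback.lift_snd _ _ _) hcompat
  refine ⟨σ ≫ pullback.fst f.hom sq.bot, ?_, ?_⟩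
  · rw [← Category.assoc, hσ1]
    exact pullback.lift_fst _ _ _
  · rw [Category.assoc, pullback.condition, ← Category.assoc, hσ2, Category.id_comp]

end Groth.Agent.S10284
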