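import Groth.Statements.S10289
import Mathlib
import Groth.Agent.R2.H46ExistVC
import Groth.Agent.S9874
import Groth.Agent.S9903
import Groth.Agent.S9912
import Groth.Agent.S9919

set_option autoImplicit false
set_option linter.style.haveILetI false
universe u
open CategoryTheory CategoryTheory.Limits AlgebraicGeometry Topology TopologicalSpace
open AlgSp

namespace Groth.Agent.S10289

/-- A quasi-separated universally closed morphism of algebraic spaces meets the existence half of the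
valuative criterion. -/
theorem result {S : Scheme.{u}} {X Y : AlgSp.Space S} (f : X ⟶ Y)
    (hqs : AlgSp.IsQuasiSeparatedMor f.hom) (hc : AlgSp.IsUnivClosedMor f.hom) : AlgSp.ExistVC f.hom := by
  intro sq
  have hpb := IsPullback.of_hasPullback f.hom sq.bot
  have hZ : AlgSp.IsAlgSpace (pullback f.hom sq.bot) :=
    Groth.Agent.S9874.isAlgSpace_of_isPullback Y.property.diag X.property
      (AlgSp.IsAlgSpace.yon_obj sq.ptA) hpb
  have hcl : IsClosedMap (AlgSp.Points.map (pullback.snd f.hom sq.bot)) :=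
    hc (AlgSp.IsAlgSpace.yon_obj sq.ptA) sq.bot _ _ hpb
  let ZS : AlgSp.Space S := ⟨pullback f.hom sq.bot, hZ⟩
  let AS : AlgSp.Space S := ⟨(AlgSp.yon S).obj sq.ptA, AlgSp.IsAlgSpace.yon_obj _⟩
  let KS : AlgSp.Space S := ⟨(AlgSp.yon S).obj sq.ptK, AlgSp.IsAlgSpace.yon_obj _⟩
  let πS : ZS ⟶ AS := ObjectProperty.homMk (pullback.snd f.hom sq.bot)
  obtain ⟨σ, hσ1, hσ2⟩ : ∃ σ : (AlgSp.yon S).obj sq.ptK ⟶ pullback f.hom sq.bot,
      σ ≫ pullback.fst f.hom sq.bot = sq.top ∧
      σ ≫ pullback.snd f.hom sq.bot = (AlgSp.yon S).map sq.j :=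
    ⟨hpb.lift sq.top ((AlgSp.yon S).map sq.j) sq.comm, hpb.lift_fst _ _ _, hpb.lift_snd _ _ _⟩
  let σS : KS ⟶ ZS := ObjectProperty.homMk σ
  let jS : KS ⟶ AS := ObjectProperty.homMk ((AlgSp.yon S).map sq.j)
  have hAaff : IsAffine sq.ptA.left := inferInstanceAs (IsAffine (Spec (CommRingCat.of sq.A)))
  have hπqs : AlgSp.IsQuasiSeparatedMor πS.hom :=
    (Groth.Agent.S9903.result f).2.1 hqs sq.ptA hAaff sq.bot _ _ _ hpb
  have hjqc : AlgSp.IsQuasiCompactMor jS.hom :=
    (Groth.Agent.S9912.result jS (AlgSp.IsAlgSpace.representable_from_yon AS.property _)).1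
      ((AlgSp.repWith_yon_map_iff _ _).2
        (inferInstance : QuasiCompact (Spec.map (CommRingCat.ofHom (algebraMap sq.A sq.K)))))
  have hcomp : AlgSp.IsQuasiCompactMor (σS ≫ πS).hom := by
    have : σS ≫ πS = jS := by
      apply ObjectProperty.hom_ext
      exact hσ2
    rw [this]; exact hjqc
  have hσqc : AlgSp.IsQuasiCompactMor σS.hom := Groth.Agent.S9919.result σS πS hcomp hπqs
  have hσrep : AlgSp.RepWith @QuasiCompact σ :=
    (Groth.Agent.S9912.result σS (hZ.representable_from_yon σ)).2 hσqc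
  let q : AlgSp.FieldPt (pullback f.hom sq.bot) :=
    { K := sq.K
      str := Spec.map (CommRingCat.ofHom (algebraMap sq.A sq.K)) ≫ sq.str
      val := (AlgSp.J S).uliftYonedaEquiv σ }
  have hqσ : q.toHom = σ := Equiv.symm_apply_apply _ _
  refine Groth.Agent.R2.H46.ExistVC.hasLiftExt_of_isClosedMap_of_section f.hom sq _ hZ _ _ hpb hcl
    σ hσ1 hσ2 ⟨q, ?_, ?_⟩
  · rw [← hqσ]
    exact (AlgSp.Points.ofPt_toHom q _).symm
  · rw [hqσ]; exact hσrep

end Groth.Agent.S10289
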