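import Groth.Statements.S10327
import Groth.Agent.S10288
import Groth.Agent.S10289
import Groth.Agent.S10290
import Groth.Agent.S10291
import Groth.Agent.S10285

set_option autoImplicit false
universe u
open CategoryTheory CategoryTheory.Limits AlgebraicGeometry
open AlgSp

namespace Groth.Agent.S10327

/-- a lift of a valuative square is a lift after the trivial extension. -/
theorem hasLiftExt_of_hasLift {S : Scheme.{u}} {F G : AlgSp.Sp S} {f : F ⟶ G} (sq : AlgSp.ValSq f)
    (h : sq.HasLift) : sq.HasLiftExt := by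
  obtain ⟨l, hl1, hl2⟩ := h
  let e : sq.DomExt :=
    { A' := sq.A
      K' := sq.K
      φ := RingHom.id sq.A
      ψ := RingHom.id sq.K
      comm := by rw [RingHom.comp_id, RingHom.id_comp]
      isLocalHom := ⟨fun a ha => ha⟩ }
  refine ⟨e, (AlgSp.yon S).map (Over.homMk (Spec.map (CommRingCat.ofHom e.φ)) rfl :
    e.ptA' ⟶ sq.ptA) ≫ l, ?_, ?_⟩
  · rw [← hl1, ← Category.assoc, ← Category.assoc, ← Functor.map_comp, ← Functor.map_comp]
    congr 2
    ext
    change Spec.map _ ≫ Spec.map _ = Spec.map _ ≫ Spec.map _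
    rw [← Spec.map_comp, ← Spec.map_comp, ← CommRingCat.ofHom_comp, ← CommRingCat.ofHom_comp,
      e.comm]
  · rw [Category.assoc, hl2]

/-- For f quasi-compact and quasi-separated, f is separated and universally closed if and only if the
valuative criterion holds, if and only if every valuative square has a unique lift. -/
theorem result {S : Scheme.{u}} {X Y : AlgSp.Space S} (f : X ⟶ Y)
    (hqc : AlgSp.IsQuasiCompactMor f.hom) (hqs : AlgSp.IsQuasiSeparatedMor f.hom) :
    ((AlgSp.IsSeparatedMor f.hom ∧ AlgSp.IsUnivClosedMor f.hom) ↔ AlgSp.VC f.hom) ∧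
    ((AlgSp.IsSeparatedMor f.hom ∧ AlgSp.IsUnivClosedMor f.hom) ↔
      (AlgSp.UniqVC f.hom ∧ AlgSp.ExistVCStrict f.hom)) := by
  have hExStrictToEx : AlgSp.ExistVCStrict f.hom → AlgSp.ExistVC f.hom := by
    intro h sq
    obtain ⟨l, hl1, hl2⟩ := h sq
    exact Groth.Agent.S10327.hasLiftExt_of_hasLift sq ⟨l, hl1, hl2⟩
  refine ⟨⟨?_, ?_⟩, ⟨?_, ?_⟩⟩
  · rintro ⟨hs, hc⟩
    exact ⟨Groth.Agent.S10290.result f hs, Groth.Agent.S10289.result f hqs hc⟩
  · rintro ⟨hu, he⟩
    exact ⟨Groth.Agent.S10291.result f hqs hu, Groth.Agent.S10288.result f hqc he⟩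
  · rintro ⟨hs, hc⟩
    exact ⟨Groth.Agent.S10290.result f hs,
      (Groth.Agent.S10285.result f hs).1 (Groth.Agent.S10289.result f hqs hc)⟩
  · rintro ⟨hu, he⟩
    have hs := Groth.Agent.S10291.result f hqs hu
    exact ⟨hs, Groth.Agent.S10288.result f hqc (hExStrictToEx he)⟩

end Groth.Agent.S10327
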