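import Groth.Statements.S10070
import Groth.Agent.S9951
import Groth.Agent.S9984
import Groth.Agent.S9985
import Groth.Agent.S9885
import Groth.Agent.R2.H48ClosedDescSp
import Groth.Agent.R2.H95SchDenseSp
import Groth.Agent.R2.H95RefinedSep

set_option autoImplicit false
universe u
open CategoryTheory CategoryTheory.Limits AlgebraicGeometry
open AlgSp

set_option linter.style.haveILetI false
set_option backward.isDefEq.respectTransparency false

namespace Groth.Agent.S10070

/-- the condition `P = @LocallyOfFiniteType ∨ ...` of the `LocP` lemmas. -/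
private lemma hPlft : (@LocallyOfFiniteType = @LocallyOfFiniteType ∨
    @LocallyOfFiniteType = @LocallyOfFinitePresentation ∨ @LocallyOfFiniteType = @Flat ∨
    @LocallyOfFiniteType = @Smooth ∨ @LocallyOfFiniteType = @Etale ∨
    (∀ ⦃A B : Scheme.{u}⦄ (g : A ⟶ B),
      @LocallyOfFiniteType A B g ↔ (LocallyQuasiFinite g ∧ LocallyOfFiniteType g)) ∨
    (∀ ⦃A B : Scheme.{u}⦄ (g : A ⟶ B),
      @LocallyOfFiniteType A B g ↔ (LocallyOfFiniteType g ∧ FormallyUnramified g))) := Or.inl rfl

open Groth.Agent.R2.H95.SchDenseSp in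

/-- Let `h : U ⟶ X`, `f : X ⟶ Y` be morphisms of algebraic spaces over `S` with `Y` locally Noetherian,
`f` locally of finite type and quasi-separated, `h` of finite type and `|h|` with dense image. If
every valuative test square for `h ≫ f` over a discrete valuation ring admits at most one dotted
arrow `Spec A ⟶ X` (compatible with `Spec K ⟶ U ⟶ X` and with `Spec A ⟶ Y`), then `f` is separated. -/
theorem result (S : Scheme.{u}) {U X Y : AlgSp.Space S} (h : U ⟶ X) (f : X ⟶ Y) (hY : AlgSp.IsLocNoethSp Y.obj)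
    (hflt : AlgSp.LocP @LocallyOfFiniteType f.hom) (hfqs : AlgSp.IsQuasiSeparatedMor f.hom) (hh : AlgSp.IsFiniteTypeMor h.hom) (hdense : Dense (Set.range (AlgSp.Points.map h.hom)))
    (hval : ∀ sq : AlgSp.ValSq (h.hom ≫ f.hom), IsDiscreteValuationRing sq.A →
      ∀ l l' : (AlgSp.yon S).obj sq.ptA ⟶ X.obj, (AlgSp.yon S).map sq.j ≫ l = sq.top ≫ h.hom ∧ l ≫ f.hom = sq.bot → (AlgSp.yon S).map sq.j ≫ l' = sq.top ≫ h.hom ∧ l' ≫ f.hom = sq.bot → l = l') :
    AlgSp.IsSeparatedMor f.hom := by
  obtain ⟨hrep, -, -, -, -⟩ := Groth.Agent.S9900.result f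
  -- the fibre square of `X` over `Y` is a locally Noetherian algebraic space
  have hP₂ : AlgSp.IsAlgSpace (pullback f.hom f.hom) :=
    Groth.Agent.S9874.isAlgSpace_of_isPullback Y.property.diag X.property X.property
      (IsPullback.of_hasPullback f.hom f.hom)
  let P₂ : AlgSp.Space S := ⟨pullback f.hom f.hom, hP₂⟩
  let pr₁ : P₂ ⟶ X := ObjectProperty.homMk (pullback.fst f.hom f.hom)
  let pr₂ : P₂ ⟶ X := ObjectProperty.homMk (pullback.snd f.hom f.hom)
  have hpr₂ : AlgSp.LocP @LocallyOfFiniteType pr₂.hom :=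
    Groth.Agent.S9984.result @LocallyOfFiniteType hPlft f f pr₁ pr₂
      (IsPullback.of_hasPullback f.hom f.hom) hflt
  have hP₂Y : AlgSp.LocP @LocallyOfFiniteType (pr₂ ≫ f).hom :=
    Groth.Agent.S9985.result @LocallyOfFiniteType hPlft pr₂ f hpr₂ hflt
  obtain ⟨T₀, q, hqe, hqs', hT₀N⟩ := Groth.Agent.S9951.result (pr₂ ≫ f) hP₂Y hY
  haveI : IsLocallyNoetherian T₀.left := hT₀N
  -- the base change of the diagonal to the chart
  obtain ⟨W, w, pr, psq⟩ := hrep q
  have hcl : IsClosedImmersion w.left := by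
    refine (IsZariskiLocalAtTarget.iff_of_iSup_eq_top (P := @IsClosedImmersion)
      (fun V : T₀.left.affineOpens => V.1) (iSup_affineOpens_eq_top _)).2 fun V => ?_
    haveI : IsAffine (opn T₀ V.1).left := V.2
    haveI : IsLocallyNoetherian (opn T₀ V.1).left :=
      isLocallyNoetherian_of_isOpenImmersion V.1.ι
    have hqe' : AlgSp.RepWith @Etale ((AlgSp.yon S).map (opnι T₀ V.1) ≫ q) :=
      (AlgSp.RepWith @Etale).comp_mem _ _
        ((AlgSp.repWith_yon_map_iff @Etale (opnι T₀ V.1)).2
          (inferInstanceAs (Etale V.1.ι))) hqe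
    have psq' : IsPullback ((AlgSp.yon S).map (opnι W (w.left ⁻¹ᵁ V.1)) ≫ pr)
        ((AlgSp.yon S).map (opnRes w V.1)) (pullback.diagonal f.hom)
        ((AlgSp.yon S).map (opnι T₀ V.1) ≫ q) :=
      ((isPullback_opnRes w V.1).map (AlgSp.yon S)).flip.paste_horiz psq
    exact Groth.Agent.R2.H95.RefinedSep.isClosedImmersion_of_chart h f hfqs hh hdense hval
      (opn T₀ V.1) _ hqe' (opn W (w.left ⁻¹ᵁ V.1)) (opnRes w V.1) _ psq'
  -- descend along the chart
  have h1 : AlgSp.RepWith @Flat q := ⟨hqe.1, fun U V g fst snd sq => by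
    haveI : Etale snd.left := hqe.2 g fst snd sq
    exact (inferInstance : Flat snd.left)⟩
  have h2 : AlgSp.RepWith @LocallyOfFinitePresentation q := ⟨hqe.1, fun U V g fst snd sq => by
    haveI : Etale snd.left := hqe.2 g fst snd sq
    exact (inferInstance : LocallyOfFinitePresentation snd.left)⟩
  haveI := Groth.Agent.S9885.result S _ _ q h1 h2 hqs'
  exact Groth.Agent.R2.H48.ClosedDescSp.repWith_isClosedImmersion_of_locallySurjective
    (pullback.diagonal f.hom) q pr ((AlgSp.yon S).map w) psq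
    ((AlgSp.repWith_yon_map_iff @IsClosedImmersion w).2 hcl)

end Groth.Agent.S10070
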