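import Groth.Statements.S10077
import Groth.Agent.R2.H44LfpLimSp
import Groth.Agent.S10067
import Groth.Agent.S10031

set_option autoImplicit false
set_option backward.isDefEq.respectTransparency false
universe u
open CategoryTheory CategoryTheory.Limits AlgebraicGeometry
open AlgSp

namespace Groth.Agent.S10077

open Opposite Groth.Agent.R2.H44.LfpLimSp

attribute [local instance] IsCofiltered.isConnected in
/-- A morphism `f : X ⟶ Y` of algebraic spaces over `S` is locally of finite presentation if and only if
for every directed limit `T = lim T_i` of algebraic spaces over `S`, each quasi-compact and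
quasi-separated over `S`, with affine transition maps, the square formed by `colim Mor(T_i, X) →
Mor(T, X)`, `colim Mor(T_i, Y) → Mor(T, Y)` and composition with `f` is cartesian in sets. (The
published statement allows any base scheme and uses absolute quasi-separatedness; this row assumes
the base quasi-separated, over which quasi-separatedness relative to the base is the absolute
notion.) -/
theorem result (S : Scheme.{u}) [QuasiSeparatedSpace S]
    {X Y : AlgSp.Space S} (f : X ⟶ Y) :
    AlgSp.LocP @LocallyOfFinitePresentation f.hom ↔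
      ∀ ⦃I : Type u⦄ [SmallCategory I] [IsCofiltered I] (D : I ⥤ AlgSp.Sp S),
        (∀ i, AlgSp.IsAlgSpace (D.obj i)) → (∀ (i j : I) (φ : i ⟶ j), AlgSp.IsAffineMor (D.map φ)) →
        (∀ i, AlgSp.IsQuasiCompactSp (D.obj i)) → (∀ i, AlgSp.IsQuasiSeparatedSp (D.obj i)) →
        ∀ (c : Cone D) (_ : IsLimit c),
          IsPullback (colimMap (Functor.whiskerLeft D.op (yoneda.map f.hom)))
            (colimit.desc (D.op ⋙ yoneda.obj X.obj) ((yoneda.obj X.obj).mapCocone c.op))
            (colimit.desc (D.op ⋙ yoneda.obj Y.obj) ((yoneda.obj Y.obj).mapCocone c.op))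
            ((yoneda.map f.hom).app (Opposite.op c.pt)) := by
  constructor
  · intro hf I _ _ D hD hDa hqc hqs c hc
    have hf' : AlgSp.LocP @LocallyOfFiniteType f.hom := by
      intro U V a b h ha hb e
      have : LocallyOfFinitePresentation h.left := hf a b h ha hb e
      exact (inferInstance : LocallyOfFiniteType h.left)
    rw [Groth.Agent.S10067.isPullback_colim_iff]
    swap
    · intro j x
      exact Category.assoc (c.π.app j.unop) x f.hom
    constructor
    · intro j y x hxy
      obtain ⟨k, φ, x', h1, h2⟩ := existsM_sp f hf D hD hDa hqc hqs c hc j.unop y x hxy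
      exact ⟨op k, φ.op, x', h1, h2⟩
    · intro j x x' h1 h2
      obtain ⟨k, φ, h3⟩ := uniqueM_sp f hf' D c hc j.unop (hD _) (hqc _) (fun l => hDa _ _ _) x x' h1 h2
      exact ⟨op k, φ.op, h3⟩
  · intro h
    apply Groth.Agent.S10031.result
    intro I _ _ D c hc hD hcaff x i y hxy
    have hcS : IsLimit c := isLimitOfReflects (Over.forget S) hc
    have hp := h (D ⋙ AlgSp.yon S) (fun i => AlgSp.IsAlgSpace.yon_obj _)
      (fun i j φ => by
        intro Z hZ g
        have hφ : IsAffineHom (D.map φ).left := by
          have := hD i
          have := hD j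
          infer_instance
        have hrep : AlgSp.RepWith @IsAffineHom ((AlgSp.yon S).map (D.map φ)) :=
          (AlgSp.repWith_yon_map_iff _ _).2 hφ
        obtain ⟨W, iW, fst, sq⟩ := hrep.1 g
        have hi : IsAffineHom iW.left := hrep.2 g fst iW sq
        have := hZ
        exact ⟨W, iW, fst, sq, isAffine_of_isAffineHom iW.left⟩)
      (fun i => (Groth.Agent.R2.H44.LimDesc.qcqs_yon_of_isAffine _ (hD i)).1)
      (fun i => (Groth.Agent.R2.H44.LimDesc.qcqs_yon_of_isAffine _ (hD i)).2)
      ((AlgSp.yon S).mapCone c) (isLimitOfPreserves (AlgSp.yon S) hcS)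
    rw [Groth.Agent.S10067.isPullback_colim_iff] at hp
    swap
    · intro j x
      exact Category.assoc ((AlgSp.yon S).map (c.π.app j.unop)) x f.hom
    obtain ⟨hex, -⟩ := hp
    obtain ⟨k, φ, x', h1, h2⟩ := hex (op i) y x hxy
    exact ⟨k.unop, φ.unop, x', h2, h1⟩

end Groth.Agent.S10077
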