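import Groth.Statements.S1011
import Groth.Agent.R2.H28PerfHomVanish
import Groth.Agent.R2.H28RelPC

set_option autoImplicit false
universe u
open CategoryTheory CategoryTheory.Limits AlgebraicGeometry
attribute [local instance] HasDerivedCategory.standard
open Perf
open Groth.Agent.R2.H28.PerfHomVanish Groth.Agent.S14388 DerivedCategory Groth.Agent.R2.H28.RelPC
  Groth.Agent.R2.H4.FlatPerf CategoryTheory.Pretriangulated

namespace Groth.Agent.S1011

/-- Let the scheme X be quasi-compact and quasi-separated and K a perfect object of D(O_X). (1) There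
are integers a ≤ b such that every morphism K ⟶ L vanishes whenever L has quasi-coherent cohomology
sheaves which are zero in all degrees of the interval [a, b]. (2) If L ∈ D_QCoh(O_X) is bounded,
then the set of n for which there is a nonzero morphism K ⟶ L[n] is finite. -/
theorem result (X : Scheme.{u}) [CompactSpace ↥X] [QuasiSeparatedSpace ↥X]
    (K : DCoh.D X) (hK : DCoh.IsPerfect K) :
    (∃ a b : ℤ, a ≤ b ∧ ∀ L : DCoh.D X, DCoh.IsQCohD L → (∀ i : ℤ, a ≤ i → i ≤ b → IsZero (DCoh.HD L i)) →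
      ∀ φ : K ⟶ L, φ = 0) ∧
    ∀ (L : DCoh.D X) (a' b' : ℤ), DCoh.IsQCohD L → L.IsGE a' → L.IsLE b' →
      {n : ℤ | ∃ φ : K ⟶ L⟦n⟧, φ ≠ 0}.Finite := by
  obtain ⟨c, hc⟩ := exists_hom_eq_zero_of_isPerfect K hK
  obtain ⟨bK, hbK⟩ := exists_isLE_of_isPseudoCoherentD 0 K (isPseudoCoherentD_of_isPerfect K hK 0)
  have := hbK
  refine ⟨⟨c + 1, max bK (c + 1), le_max_right _ _, fun L hL hz φ => ?_⟩, fun L a' b' hL hLa hLb => ?_⟩
  · have hT := tt.triangleLTGE_distinguished (c + 1) L
    have hGE : ((tt.truncGE (c + 1)).obj L).IsGE (max bK (c + 1) + 1) := by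
      rw [DerivedCategory.isGE_iff]
      intro i hi
      by_cases hi' : i < c + 1
      · exact isZero_of_isGE _ (c + 1) i hi'
      · have := isIso_homology_truncGEπ (c + 1) i (by omega) L
        exact IsZero.of_iso (hz i (by omega) (by omega))
          (asIso ((homologyFunctor X.Modules i).map ((tt.truncGEπ (c + 1)).app L))).symm
    have hKle : K.IsLE (max bK (c + 1)) := tt.isLE_of_le K bK _ (le_max_left _ _)
    have h0 : φ ≫ (tt.truncGEπ (c + 1)).app L = 0 :=
      tt.zero_of_isLE_of_isGE _ (max bK (c + 1)) (max bK (c + 1) + 1) (by omega) hKle hGE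
    obtain ⟨φ', hφ'⟩ := Triangle.coyoneda_exact₂ _ hT φ h0
    have h1 : φ' = 0 := hc _ (isQCohD_truncLT L hL (c + 1))
      (by have : tt.IsLE ((tt.truncLT (c + 1)).obj L) (c + 1 - 1) := inferInstance
          exact tt.isLE_of_le _ (c + 1 - 1) c (by omega)) φ'
    rw [hφ', h1]
    exact zero_comp
  · haveI := hLa
    have := hLb
    refine Set.Finite.subset (Set.finite_Ico (a' - bK) (b' - c)) ?_
    rintro n ⟨φ, hφ⟩
    refine ⟨?_, ?_⟩
    · by_contra hn
      apply hφ
      have h1 : (L⟦n⟧).IsGE (a' - n) := tt.isGE_shift L a' n (a' - n) (by omega)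
      exact tt.zero_of_isLE_of_isGE φ bK (a' - n) (by omega) inferInstance h1
    · by_contra hn
      apply hφ
      have h1 : (L⟦n⟧).IsLE (b' - n) := tt.isLE_shift L b' n (b' - n) (by omega)
      have h2 : (L⟦n⟧).IsLE c := tt.isLE_of_le _ (b' - n) c (by omega)
      exact hc _ (isQCohD_shift hL n) h2 φ

end Groth.Agent.S1011
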