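import Groth.Statements.S10111
import Groth.Agent.R2.H96FppfGlue
-- import your own Groth.Agent.* helpers here

set_option autoImplicit false
universe u v
open CategoryTheory CategoryTheory.Limits AlgebraicGeometry
open AlgSp

namespace Groth.Agent.S10111

open Groth.Agent.R2.H96.FppfGlue Opposite

variable {S : Scheme.{u}}

lemma app_injective {F G : AlgSp.PSp S} (m : G ⟶ F) [Mono m] (T : Over S) :
    Function.Injective (m.app (op T)) := by
  have : Mono (m.app (op T)) := inferInstance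
  exact (mono_iff_injective _).1 this

lemma pyon_map_up {W T' Z : Over S} (g : Z ⟶ T') (f : T' ⟶ W) :
    ((AlgSp.pyon S).obj W).map g.op (ULift.up f) = ULift.up (g ≫ f) := rfl

lemma map_map (F : AlgSp.PSp S) {X Y Z : Over S} (f : Y ⟶ X) (g : Z ⟶ Y) (x : F.obj (op X)) :
    F.map g.op (F.map f.op x) = F.map (g ≫ f).op x := by
  rw [op_comp, Functor.map_comp_apply]

lemma nat_app {F G : AlgSp.PSp S} (m : G ⟶ F) {X Y : Over S} (g : Y ⟶ X) (a : G.obj (op X)) :
    m.app (op Y) (G.map g.op a) = F.map g.op (m.app (op X) a) :=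
  NatTrans.naturality_apply m g.op a

/-- Key lemma: a section of `F` lying in the subfunctor `G` fppf locally lies in `G`, when the
inclusion is representable by algebraic spaces (so that `G ×_F h_W` is an fppf sheaf). -/
lemma mem_range_of_cover {F G : AlgSp.PSp S} (m : G ⟶ F) [Mono m] (hb : AlgSp.RepBySp m)
    {W : Over S} (x : F.obj (op W)) (Q : Sieve W) (hQ : Q ∈ AlgSp.J S W)
    (h : ∀ ⦃T' : Over S⦄ (g : T' ⟶ W), Q.arrows g → F.map g.op x ∈ Set.range (m.app (op T'))) :
    x ∈ Set.range (m.app (op W)) := by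
  let ξ : (AlgSp.pyon S).obj W ⟶ F := uliftYonedaEquiv.symm x
  have sq := IsPullback.of_hasPullback m ξ
  obtain ⟨hP, -⟩ := hb ξ (pullback.fst m ξ) (pullback.snd m ξ) sq
  have hP' : Presieve.IsSheaf (AlgSp.J S) (pullback m ξ) := (isSheaf_iff_isSheaf_of_type _ _).1 hP
  have sqT : ∀ T' : Over S, IsPullback ((pullback.fst m ξ).app (op T'))
      ((pullback.snd m ξ).app (op T')) (m.app (op T')) (ξ.app (op T')) := fun T' =>
    sq.map ((evaluation _ _).obj (op T'))
  have hex : ∀ ⦃T' : Over S⦄ (g : T' ⟶ W), Q.arrows g →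
      ∃ p : (pullback m ξ).obj (op T'), (pullback.snd m ξ).app (op T') p = ULift.up g := by
    intro T' g hg
    obtain ⟨a, ha⟩ := h g hg
    obtain ⟨p, -, hp⟩ := Types.exists_of_isPullback (sqT T') a (ULift.up g) (by rw [ha]; rfl)
    exact ⟨p, hp⟩
  let fam : Presieve.FamilyOfElements (pullback m ξ) Q.arrows := fun T' g hg => (hex g hg).choose
  have hfam : ∀ ⦃T' : Over S⦄ (g : T' ⟶ W) (hg : Q.arrows g),
      (pullback.snd m ξ).app (op T') (fam g hg) = ULift.up g := fun T' g hg => (hex g hg).choose_spec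
  have hcompat : fam.Compatible := by
    intro Y₁ Y₂ Z g₁ g₂ f₁ f₂ h₁ h₂ hcomm
    apply app_injective (pullback.snd m ξ) Z
    rw [NatTrans.naturality_apply, NatTrans.naturality_apply, hfam f₁ h₁, hfam f₂ h₂, pyon_map_up,
      pyon_map_up, hcomm]
  obtain ⟨p, hp, -⟩ := (hP' Q hQ) fam hcompat
  have hsnd : (pullback.snd m ξ).app (op W) p = ULift.up (𝟙 W) := by
    have hW : Presieve.IsSheaf (AlgSp.J S) ((AlgSp.pyon S).obj W) :=
      (isSheaf_iff_isSheaf_of_type _ _).1 ((AlgSp.yon S).obj W).property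
    apply (hW Q hQ).isSeparatedFor.ext
    intro T' g hg
    rw [← NatTrans.naturality_apply, hp g hg, hfam g hg, pyon_map_up, Category.comp_id]
  refine ⟨(pullback.fst m ξ).app (op W) p, ?_⟩
  have hw := congr_fun (congr_arg (fun (t : pullback m ξ ⟶ F) => (t.app (op W) : _ → _)) sq.w) p
  simp only [NatTrans.comp_app, types_comp_apply] at hw
  rw [hw, hsnd]
  change F.map (𝟙 W).op x = x
  simp

section Main

variable (F : AlgSp.PSp S)
  (h1 : Presheaf.IsSheaf (QuotSh.J Scheme.zariskiPrecoverage S) F) {ι : Type v}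
  (Fi : ι → AlgSp.PSp S)
  (m : ∀ i, Fi i ⟶ F) [∀ i, Mono (m i)] (ha : ∀ i, Presheaf.IsSheaf (AlgSp.J S) (Fi i))
  (hb : ∀ i, AlgSp.RepBySp (m i))
  (hc : ∀ (T : Over S) (x : F.obj (Opposite.op T)), ∃ R ∈ (AlgSp.J S) T,
    ∀ ⦃T' : Over S⦄ (f : T' ⟶ T), R.arrows f → ∃ i, F.map f.op x ∈ Set.range ((m i).app (Opposite.op T')))

include h1 ha hb hc

/-- `F` is separated for the fppf topology. -/
lemma separated {T : Over S} (R : Sieve T) (hR : R ∈ AlgSp.J S T) (x y : F.obj (op T))
    (hxy : ∀ ⦃T' : Over S⦄ (g : T' ⟶ T), R.arrows g → F.map g.op x = F.map g.op y) : x = y := by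
  obtain ⟨Rx, hRx, hx⟩ := hc T x
  obtain ⟨V, v, hvR, hfl, hfp, hsurj⟩ :=
    exists_family_of_mem_J (R ⊓ Rx) ((AlgSp.J S).intersection_covering hR hRx)
  have hloc : ∀ t : T.left, F.map (imgι (v t)).op x = F.map (imgι (v t)).op y := by
    intro t
    obtain ⟨i, a, hai⟩ := hx (v t) (hvR t).2
    have hyv : F.map (v t).op y = F.map (v t).op x := (hxy (v t) (hvR t).1).symm
    have key : ∀ z : F.obj (op T), F.map (v t).op z = F.map (v t).op x →
        F.map (imgι (v t)).op z ∈ Set.range ((m i).app (op (img (v t)))) := by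
      intro z hz
      refine mem_range_of_cover (m i) (hb i) _ _ (imgLift_mem_J (v t)) ?_
      intro T' g hg
      obtain ⟨k, rfl⟩ := (ofArrows_pUnit_iff _ _).1 hg
      refine ⟨(Fi i).map k.op a, ?_⟩
      rw [nat_app, hai, ← hz]
      simp only [map_map, Category.assoc, imgLift_imgι]
    obtain ⟨b, hb'⟩ := key x rfl
    obtain ⟨b', hb''⟩ := key y hyv
    have hbb : b = b' := by
      have hFi : Presieve.IsSheaf (AlgSp.J S) (Fi i) := (isSheaf_iff_isSheaf_of_type _ _).1 (ha i)
      apply (hFi _ (imgLift_mem_J (v t))).isSeparatedFor.ext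
      intro T' g hg
      obtain ⟨k, rfl⟩ := (ofArrows_pUnit_iff _ _).1 hg
      apply app_injective (m i) T'
      rw [nat_app, nat_app, hb', hb'']
      simp only [map_map, Category.assoc, imgLift_imgι]
      rw [← map_map, ← map_map F (v t) k, hyv]
    rw [← hb', ← hb'', hbb]
  have hF : Presieve.IsSheaf (QuotSh.J Scheme.zariskiPrecoverage S) F :=
    (isSheaf_iff_isSheaf_of_type _ _).1 h1
  have hZ : Sieve.ofArrows (fun t : T.left => img (v t)) (fun t => imgι (v t)) ∈
      QuotSh.J Scheme.zariskiPrecoverage S T := by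
    refine mem_Jz_of_openImm _ _ (fun t => ⟨t, ?_⟩) (fun t => inferInstance)
    rw [range_imgι]; exact hsurj t
  apply (hF _ hZ).isSeparatedFor.ext
  intro T' g hg
  obtain ⟨t, k, rfl⟩ := (ofArrows_iff _ _ _).1 hg
  rw [← map_map, ← map_map, hloc t]

/-- `F` satisfies gluing for the fppf topology. -/
lemma glue {T : Over S} (R : Sieve T) (hR : R ∈ AlgSp.J S T)
    (xf : Presieve.FamilyOfElements F R.arrows) (hxf : xf.Compatible) :
    ∃ z : F.obj (op T), xf.IsAmalgamation z := by
  have sep := @separated S F h1 ι Fi m _ ha hb hc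
  -- restriction along arrows of the sieve
  have hres : ∀ ⦃Y Z : Over S⦄ (f : Y ⟶ T) (hf : R.arrows f) (g : Z ⟶ Y),
      F.map g.op (xf f hf) = xf (g ≫ f) (R.downward_closed hf g) := fun Y Z f hf g =>
    (Presieve.FamilyOfElements.comp_of_compatible R hxf hf g).symm
  have hirr : ∀ ⦃Y : Over S⦄ (f f' : Y ⟶ T) (hf : R.arrows f) (hf' : R.arrows f'), f = f' →
      xf f hf = xf f' hf' := by
    intro Y f f' hf hf' hff'
    subst hff'
    rfl
  -- refine the covering so that the sections lie in some `Fi`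
  choose Rf hRf hRf' using fun (Y : Over S) (f : Y ⟶ T) (hf : R.arrows f) => hc Y (xf f hf)
  have hbind : Sieve.bind R.arrows (fun Y f hf => Rf Y f hf) ∈ AlgSp.J S T :=
    (AlgSp.J S).bind_covering hR (fun Y f hf => hRf Y f hf)
  obtain ⟨V, v, hvR, hfl, hfp, hsurj⟩ := exists_family_of_mem_J _ hbind
  have hvR' : ∀ t, R.arrows (v t) := by
    intro t
    obtain ⟨Y, g, f, hf, -, hgf⟩ := hvR t
    rw [← hgf]
    exact R.downward_closed hf g
  have hvi : ∀ t, ∃ i, xf (v t) (hvR' t) ∈ Set.range ((m i).app (op (V t))) := by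
    intro t
    obtain ⟨Y, g, f, hf, hg, hgf⟩ := hvR t
    obtain ⟨i, hi⟩ := hRf' Y f hf g hg
    refine ⟨i, ?_⟩
    rw [hres f hf g] at hi
    rwa [hirr (v t) (g ≫ f) (hvR' t) (R.downward_closed hf g) hgf.symm]
  choose i a hai using hvi
  have hcov : Sieve.ofArrows V v ∈ AlgSp.J S T :=
    mem_J_of_fppf V v (fun t => ⟨t, hsurj t⟩) hfl hfp
  -- descend to the open images
  have hdesc : ∀ t, ∃ b : (Fi (i t)).obj (op (img (v t))),
      (Fi (i t)).map (imgLift (v t)).op b = a t := by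
    intro t
    have hFi : Presieve.IsSheaf (AlgSp.J S) (Fi (i t)) :=
      (isSheaf_iff_isSheaf_of_type _ _).1 (ha (i t))
    have h2 := hFi.isSheafFor _ (imgLift_mem_J (v t))
    rw [Presieve.isSheafFor_arrows_iff] at h2
    obtain ⟨b, hb', -⟩ := h2 (fun _ => a t) (by
      intro _ _ Z k₁ k₂ hk
      apply app_injective (m (i t)) Z
      rw [nat_app, nat_app, hai t, hres, hres]
      apply hirr
      rw [← imgLift_imgι (v t), ← Category.assoc, hk, Category.assoc])
    exact ⟨b, hb' ⟨⟩⟩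
  choose b hb' using hdesc
  let z : ∀ t, F.obj (op (img (v t))) := fun t => (m (i t)).app (op (img (v t))) (b t)
  have hz : ∀ t, F.map (imgLift (v t)).op (z t) = xf (v t) (hvR' t) := by
    intro t
    rw [← nat_app, hb', hai]
  -- glue over the Zariski covering by the open images
  have hF : Presieve.IsSheaf (QuotSh.J Scheme.zariskiPrecoverage S) F :=
    (isSheaf_iff_isSheaf_of_type _ _).1 h1
  have hZ : Sieve.ofArrows (fun t : T.left => img (v t)) (fun t => imgι (v t)) ∈
      QuotSh.J Scheme.zariskiPrecoverage S T := by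
    refine mem_Jz_of_openImm _ _ (fun t => ⟨t, ?_⟩) (fun t => inferInstance)
    rw [range_imgι]; exact hsurj t
  have h3 := hF.isSheafFor _ hZ
  rw [Presieve.isSheafFor_arrows_iff] at h3
  obtain ⟨w, hw, -⟩ := h3 z (by
    intro t s Z k₁ k₂ hk
    refine sep (Sieve.pullback k₁ (Sieve.ofArrows (fun _ : PUnit.{1} => V t) (fun _ => imgLift (v t))) ⊓
      Sieve.pullback k₂ (Sieve.ofArrows (fun _ : PUnit.{1} => V s) (fun _ => imgLift (v s))))
      ((AlgSp.J S).intersection_covering
        ((AlgSp.J S).pullback_stable k₁ (imgLift_mem_J (v t)))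
        ((AlgSp.J S).pullback_stable k₂ (imgLift_mem_J (v s)))) _ _ ?_
    rintro Z' g ⟨hg₁, hg₂⟩
    obtain ⟨l₁, hl₁⟩ := (ofArrows_pUnit_iff _ _).1 hg₁
    obtain ⟨l₂, hl₂⟩ := (ofArrows_pUnit_iff _ _).1 hg₂
    rw [map_map, map_map, ← hl₁, ← hl₂, ← map_map, ← map_map F (imgLift (v s)), hz, hz, hres, hres]
    apply hirr
    rw [← imgLift_imgι (v t), ← imgLift_imgι (v s), ← Category.assoc, ← Category.assoc, hl₁, hl₂,
      Category.assoc, Category.assoc, hk])
  refine ⟨w, ?_⟩
  intro Y f hf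
  refine sep (Sieve.pullback f (Sieve.ofArrows V v)) ((AlgSp.J S).pullback_stable f hcov) _ _ ?_
  intro Y' g hg
  obtain ⟨t, l, hl⟩ := (ofArrows_iff _ _ _).1 hg
  rw [map_map, ← hl, ← imgLift_imgι (v t), ← Category.assoc, ← map_map, hw t, ← map_map, hz, hres,
    hres]
  apply hirr
  exact hl

end Main

/-- Let `F` be a presheaf of sets on schemes over `S` which is a Zariski sheaf, and `F_i ⊂ F` a family
of subfunctors which are fppf sheaves, whose inclusions are representable by algebraic spaces, and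
such that `∐ F_i ⟶ F` becomes surjective after fppf sheafification (every section of `F` lies fppf
locally in some `F_i`). Then `F` is an fppf sheaf. -/
theorem result (S : Scheme.{u}) (F : AlgSp.PSp S)
    (h1 : Presheaf.IsSheaf (QuotSh.J Scheme.zariskiPrecoverage S) F) {ι : Type v} (Fi : ι → AlgSp.PSp S)
    (m : ∀ i, Fi i ⟶ F) [∀ i, Mono (m i)] (ha : ∀ i, Presheaf.IsSheaf (AlgSp.J S) (Fi i))
    (hb : ∀ i, AlgSp.RepBySp (m i))
    (hc : ∀ (T : Over S) (x : F.obj (Opposite.op T)), ∃ R ∈ (AlgSp.J S) T,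
      ∀ ⦃T' : Over S⦄ (f : T' ⟶ T), R.arrows f → ∃ i, F.map f.op x ∈ Set.range ((m i).app (Opposite.op T'))) :
    Presheaf.IsSheaf (AlgSp.J S) F := by
  rw [isSheaf_iff_isSheaf_of_type]
  intro T R hR xf hxf
  obtain ⟨z, hz⟩ := glue F h1 Fi m ha hb hc R hR xf hxf
  refine ⟨z, hz, ?_⟩
  intro z' hz'
  refine separated F h1 Fi m ha hb hc R hR _ _ ?_
  intro T' g hg
  rw [hz g hg, hz' g hg]

end Groth.Agent.S10111
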