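import Groth.Statements.S10116
import Groth.Agent.R2.H84DiagSec
import Groth.Agent.S9912

set_option autoImplicit false
universe u
open CategoryTheory CategoryTheory.Limits AlgebraicGeometry MonoidalCategory MonObj
open AlgSp

namespace Groth.Agent.S10116

/-- Let `G` be a group algebraic space over an algebraic space `B` with unit `e : B ⟶ G`. Then `G ⟶ B`
is separated if and only if `e` is a closed immersion, quasi-separated if and only if `e` is
quasi-compact, and if `G ⟶ B` is locally separated then `e` is an immersion. (The published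
statement makes the last part an equivalence as well; this row states only that a locally separated
`G ⟶ B` has `e` an immersion.) -/
theorem result (S : Scheme.{u}) (B : AlgSp.Sp S) (hB : AlgSp.IsAlgSpace B)
    (G : Over B) [GrpObj G] (hG : AlgSp.IsAlgSpace G.left) :
    (AlgSp.IsSeparatedMor G.hom ↔ AlgSp.RepWith @IsClosedImmersion (η[G]).left) ∧
      (AlgSp.IsQuasiSeparatedMor G.hom ↔ AlgSp.IsQuasiCompactMor (η[G]).left) ∧
      (AlgSp.IsLocallySeparatedMor G.hom → AlgSp.RepWith @IsImmersion (η[G]).left) := by
  have hsec : (η[G]).left ≫ G.hom = 𝟙 B := Groth.Agent.R2.H84.DiagSec.unit_left_comp_hom G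
  have sqB := Groth.Agent.R2.H84.DiagSec.isPullback_section_diagonal G.hom (η[G]).left hsec
  have sqA := Groth.Agent.R2.H84.DiagSec.isPullback_diagonal_unit G
  have key : ∀ (Q : MorphismProperty (AlgSp.Sp S)) [Q.IsStableUnderBaseChange],
      Q (pullback.diagonal G.hom) ↔ Q (η[G]).left := fun Q _ =>
    ⟨fun h => Q.of_isPullback sqB h, fun h => Q.of_isPullback sqA.flip h⟩
  have hrep : AlgSp.Representable (η[G]).left :=
    (key AlgSp.Representable).1
      (Groth.Agent.R2.H84.DiagSec.representable_diagonal hG.diag G.hom)
  refine ⟨key (AlgSp.RepWith @IsClosedImmersion), ?_, (key (AlgSp.RepWith @IsImmersion)).1⟩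
  refine (key (AlgSp.RepWith @QuasiCompact)).trans ?_
  exact Groth.Agent.S9912.result (X := ⟨B, hB⟩) (Y := ⟨G.left, hG⟩)
    (ObjectProperty.homMk (η[G]).left) hrep

end Groth.Agent.S10116
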