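import Groth.Statements.S10122
import Groth.Agent.R2.H84GpdDiag
import Groth.Agent.S9912
import Groth.Agent.S9874

set_option autoImplicit false
universe u
open CategoryTheory CategoryTheory.Limits AlgebraicGeometry
open AlgSp AlgSp.GroupoidSp

namespace Groth.Agent.S10122

/-- Let `(U, R, s, t, c)` be a groupoid in algebraic spaces over `B` with stabilizer `G ⟶ U` and unit
section `e : U ⟶ G`. Then (1) `j : R ⟶ U ×_B U` is separated iff `G ⟶ U` is separated iff `e` is a
closed immersion; (3) `j` is quasi-separated iff `G ⟶ U` is quasi-separated iff `e` is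
quasi-compact; (2) if `j` or `G ⟶ U` is locally separated then `e` is an immersion. The unit section
is written as any morphism `U ⟶ G` lifting the identity `e : U ⟶ R` of the groupoid. (The published
part (2) is a three-way equivalence; this row states only that `j` locally separated, or `G ⟶ U`
locally separated, implies that `e` is an immersion.) -/
theorem result (S : Scheme.{u}) (B : AlgSp.Sp S) (hB : AlgSp.IsAlgSpace B)
    (G : AlgSp.GroupoidSp B) (hU : AlgSp.IsAlgSpace G.U) (hR : AlgSp.IsAlgSpace G.R)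
    (eG : G.U ⟶ G.stabilizer) (heG : eG ≫ G.stabilizerι = G.e) :
    ((AlgSp.IsSeparatedMor G.j ↔ AlgSp.IsSeparatedMor G.stabilizerToU) ∧
        (AlgSp.IsSeparatedMor G.j ↔ AlgSp.RepWith @IsClosedImmersion eG)) ∧
      ((AlgSp.IsQuasiSeparatedMor G.j ↔ AlgSp.IsQuasiSeparatedMor G.stabilizerToU) ∧
        (AlgSp.IsQuasiSeparatedMor G.j ↔ AlgSp.IsQuasiCompactMor eG)) ∧
      ((AlgSp.IsLocallySeparatedMor G.j → AlgSp.RepWith @IsImmersion eG) ∧
        (AlgSp.IsLocallySeparatedMor G.stabilizerToU → AlgSp.RepWith @IsImmersion eG)) := by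
  have heU := Groth.Agent.R2.H84.GpdDiag.eG_toU G eG heG
  have sqA := Groth.Agent.R2.H84.GpdDiag.isPullback_diagonal_j G eG heG
  have sqB := Groth.Agent.R2.H84.DiagSec.isPullback_section_diagonal G.stabilizerToU eG heU
  have sqC : IsPullback G.stabilizerι G.stabilizerToU G.j G.diag := IsPullback.of_hasPullback _ _
  -- the cycle of base changes
  have hA : ∀ (Q : MorphismProperty (AlgSp.Sp S)) [Q.IsStableUnderBaseChange],
      Q eG → Q (pullback.diagonal G.j) := fun Q _ h => Q.of_isPullback sqA.flip h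
  have hB' : ∀ (Q : MorphismProperty (AlgSp.Sp S)) [Q.IsStableUnderBaseChange],
      Q (pullback.diagonal G.stabilizerToU) → Q eG := fun Q _ h => Q.of_isPullback sqB h
  have hC : ∀ (Q : MorphismProperty (AlgSp.Sp S)) [Q.IsStableUnderBaseChange] [Q.RespectsIso],
      Q (pullback.diagonal G.j) → Q (pullback.diagonal G.stabilizerToU) := fun Q _ _ h =>
    (Q.diagonal).of_isPullback sqC h
  -- algebraicity
  have hUU : AlgSp.IsAlgSpace (pullback G.pU G.pU) :=
    Groth.Agent.S9874.isAlgSpace_of_isPullback hB.diag hU hU (IsPullback.of_hasPullback _ _)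
  have hStab : AlgSp.IsAlgSpace G.stabilizer :=
    Groth.Agent.S9874.isAlgSpace_of_isPullback hUU.diag hR hU sqC
  have hrep : AlgSp.Representable eG :=
    hB' AlgSp.Representable
      (Groth.Agent.R2.H84.DiagSec.representable_diagonal hStab.diag G.stabilizerToU)
  have hqc : AlgSp.RepWith @QuasiCompact eG ↔ AlgSp.IsQuasiCompactMor eG :=
    Groth.Agent.S9912.result (X := ⟨G.U, hU⟩) (Y := ⟨G.stabilizer, hStab⟩)
      (ObjectProperty.homMk eG) hrep
  refine ⟨⟨⟨hC _, fun h => hA _ (hB' _ h)⟩, ⟨fun h => hB' _ (hC _ h), hA _⟩⟩,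
    ⟨⟨hC _, fun h => hA _ (hB' _ h)⟩,
      ⟨fun h => hqc.1 (hB' _ (hC _ h)), fun h => hA _ (hqc.2 h)⟩⟩,
    ⟨fun h => hB' _ (hC _ h), hB' _⟩⟩

end Groth.Agent.S10122
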