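import Groth.Statements.S10125
import Groth.Agent.R2.H84GrpField

set_option autoImplicit false
universe u
open CategoryTheory CategoryTheory.Limits AlgebraicGeometry MonoidalCategory MonObj
open AlgSp

namespace Groth.Agent.S10125

/-- For a group algebraic space `G` over a field `k`, the multiplication `m` of `G`, a morphism `G ×_k G
⟶ G`, is both flat and universally open. (The published situation allows any base scheme `S` with
`k` a field over `S`; this row takes `S = Spec k`.) -/
theorem result (k : Type u) [Field k]
    (G : Over ((AlgSp.yon (Spec (CommRingCat.of k))).obj (Over.mk (𝟙 _)))) [GrpObj G]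
    (hG : AlgSp.IsAlgSpace G.left) :
    AlgSp.LocP @Flat (μ[G]).left ∧ AlgSp.IsUnivOpenMor (μ[G]).left := by
  classical
  have hpt : AlgSp.IsAlgSpace ((AlgSp.yon (Spec (CommRingCat.of k))).obj (Over.mk (𝟙 _))) :=
    AlgSp.IsAlgSpace.yon_obj _
  -- the structure map is flat and universally open
  have hfl : AlgSp.LocP @Flat G.hom :=
    Groth.Agent.R2.H84.GrpField.locP_flat_to_field k (𝟙 _) G.hom
  have huo : AlgSp.IsUnivOpenMor G.hom :=
    Groth.Agent.S9911.result (X := ⟨G.left, hG⟩) (𝟙 _) (ObjectProperty.homMk G.hom)
  -- hence so is the first projection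
  have sq : IsPullback (pullback.snd G.hom G.hom) (pullback.fst G.hom G.hom) G.hom G.hom :=
    (IsPullback.of_hasPullback G.hom G.hom).flip
  have hfl1 : AlgSp.LocP @Flat (pullback.fst G.hom G.hom) :=
    Groth.Agent.Lib.Helper12.LocPCases.good_flat.locP_baseChange hG hpt hG sq hfl
  have huo1 : AlgSp.IsUnivOpenMor (pullback.fst G.hom G.hom) :=
    Groth.Agent.R2.H84.GrpField.univSp_of_isPullback _ sq huo
  -- multiplication = shear ≫ first projection
  have hμ : (μ[G]).left = ((Over.forget _).mapIso (Groth.Agent.R2.H84.GrpField.shear G)).hom ≫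
      pullback.fst G.hom G.hom := by
    have h := congrArg (fun φ => Over.Hom.left φ) (Groth.Agent.R2.H84.GrpField.shear_hom_fst G)
    exact h.symm
  rw [hμ]
  refine ⟨?_, Groth.Agent.R2.H84.GrpField.univSp_iso_comp _ _ _ huo1⟩
  exact Groth.Agent.Lib.Helper15Descent.locP_precomp_etale _ _ _
    (Groth.Agent.Lib.Helper15Descent.repWith_etale_of_isIso _) hfl1

end Groth.Agent.S10125
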