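import Groth.Statements.S10126
import Groth.Agent.R2.H84GrpField
import Groth.Agent.R2.H84GpdComp

set_option autoImplicit false
universe u
open CategoryTheory CategoryTheory.Limits AlgebraicGeometry
open AlgSp AlgSp.GroupoidSp

namespace Groth.Agent.S10126

/-- Let `(U, R, s, t, c)` be a groupoid in algebraic spaces over `B` whose object space is `U = Spec k`,
with `k` a field. Then the composition `c : R ×_{s, U, t} R ⟶ R` is flat and universally open. -/
theorem result (S : Scheme.{u}) (B : AlgSp.Sp S) (hB : AlgSp.IsAlgSpace B)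
    (G : AlgSp.GroupoidSp B) (hR : AlgSp.IsAlgSpace G.R) (k : Type u) [Field k]
    (σ : Spec (CommRingCat.of k) ⟶ S) (eU : G.U ≅ (AlgSp.yon S).obj (Over.mk σ)) :
    AlgSp.LocP @Flat G.c ∧ AlgSp.IsUnivOpenMor G.c := by
  classical
  have hU₀ : AlgSp.IsAlgSpace ((AlgSp.yon S).obj (Over.mk σ)) := AlgSp.IsAlgSpace.yon_obj _
  -- the source map to `Spec k` is flat and universally open
  have hfl : AlgSp.LocP @Flat (G.s ≫ eU.hom) :=
    Groth.Agent.R2.H84.GrpField.locP_flat_to_field k σ (G.s ≫ eU.hom)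
  have huo : AlgSp.IsUnivOpenMor (G.s ≫ eU.hom) :=
    Groth.Agent.S9911.result (X := ⟨G.R, hR⟩) σ (ObjectProperty.homMk (G.s ≫ eU.hom))
  -- `c` is a base change of it
  have sq0 := Groth.Agent.R2.H84.GpdComp.isPullback_c G
  have sq1 : IsPullback G.c (pullback.snd G.s G.t) (G.s ≫ eU.hom) (G.s ≫ eU.hom) := by
    have h1 : IsPullback (𝟙 G.R) G.s (G.s ≫ eU.hom) eU.hom :=
      IsPullback.of_horiz_isIso ⟨by rw [Category.id_comp]⟩
    have h2 := sq0.paste_horiz h1
    rwa [Category.comp_id] at h2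
  refine ⟨Groth.Agent.Lib.Helper12.LocPCases.good_flat.locP_baseChange hR hU₀ hR sq1.flip hfl, ?_⟩
  exact Groth.Agent.R2.H84.GrpField.univSp_of_isPullback _ sq1.flip huo

end Groth.Agent.S10126
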