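import Groth.Statements.S9973
import Groth.Agent.R2.H95SchDenseSp
import Groth.Agent.S9912
import Groth.Agent.Lib.Helper12SchDense

set_option autoImplicit false
universe u
open CategoryTheory CategoryTheory.Limits AlgebraicGeometry
open AlgSp

namespace Groth.Agent.S9973

/-- The inverse image of a quasi-compact scheme theoretically dense open under a flat morphism of
algebraic spaces is scheme theoretically dense. -/
theorem result {S : Scheme.{u}} {X Y V V' : AlgSp.Space S} (f : X ⟶ Y)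
    (hf : AlgSp.LocP @Flat f.hom) (j : V ⟶ Y) (hj : AlgSp.IsSchDense j.hom) (hjq : AlgSp.IsQuasiCompactMor j.hom)
    (fst : V' ⟶ V) (jX : V' ⟶ X) (sq : IsPullback fst.hom jX.hom j.hom f.hom) : AlgSp.IsSchDense jX.hom := by
  obtain ⟨hjo, V₁, φ₁, W₁, fst₁, hφ₁e, hφ₁s, sq₁, hW₁⟩ := hj
  -- `W₁ ⟶ V₁` is quasi-compact
  have hqc : AlgSp.RepWith @QuasiCompact j.hom := (Groth.Agent.S9912.result j hjo.1).mpr hjq
  have hW₁qc : QuasiCompact W₁.ι := hqc.2 φ₁ fst₁ _ sq₁
  -- a chart of `X` lying over the chart `V₁` of `Y`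
  obtain ⟨U₁, a, hae, has⟩ := X.property.atlas
  obtain ⟨U₀, snd, fst', sq'⟩ := hφ₁e.1 (a ≫ f.hom)
  obtain ⟨h, rfl⟩ := (AlgSp.yon S).map_surjective fst'
  have h1 : Etale snd.left := hφ₁e.2 _ _ snd sq'
  have h2 : Surjective snd.left := hφ₁s.2 _ _ snd sq'
  have i1 := AlgSp.repWith_isMultiplicative (S := S) @Etale
  have i2 := AlgSp.repWith_isMultiplicative (S := S) @Surjective
  have hpe : AlgSp.RepWith @Etale ((AlgSp.yon S).map snd ≫ a) :=
    (AlgSp.RepWith @Etale).comp_mem _ _ ((AlgSp.repWith_yon_map_iff _ snd).mpr h1) hae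
  have hps : AlgSp.RepWith @Surjective ((AlgSp.yon S).map snd ≫ a) :=
    (AlgSp.RepWith @Surjective).comp_mem _ _ ((AlgSp.repWith_yon_map_iff _ snd).mpr h2) has
  have hcomm : ((AlgSp.yon S).map snd ≫ a) ≫ f.hom = (AlgSp.yon S).map h ≫ φ₁ := by
    rw [Category.assoc]
    exact sq'.w.symm
  have hflat : Flat h.left := hf _ _ h hpe hφ₁e hcomm
  obtain ⟨fst₀, sq₀⟩ := Groth.Agent.R2.H95.SchDenseSp.exists_isPullback_preimage j.hom f.hom
    fst.hom jX.hom sq φ₁ ((AlgSp.yon S).map snd ≫ a) h hcomm W₁ fst₁ sq₁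
  refine ⟨MorphismProperty.of_isPullback sq hjo, U₀, (AlgSp.yon S).map snd ≫ a,
    h.left ⁻¹ᵁ W₁, fst₀, hpe, hps, sq₀, ?_⟩
  exact Groth.Agent.Lib.Helper12.SchDense.isSchematicallyDense_preimage_of_flat h.left W₁ hW₁

end Groth.Agent.S9973
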