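import Groth.Statements.S10129
import Groth.Agent.R2.H95FppfEpi
import Groth.Agent.R2.H47SpColim
import Groth.Agent.R2.H44LimSp
import Groth.Agent.R2.H95SchDenseSp
import Groth.Agent.R2.H48OpenCompl
import Groth.Agent.S9973
import Groth.Agent.Lib.Helper12SchDenseExt
import Groth.Agent.Lib.Helper12LocPCases

set_option autoImplicit false
universe u
open CategoryTheory CategoryTheory.Limits AlgebraicGeometry
open AlgSp

namespace Groth.Agent.S10129

namespace Aux

open Groth.Agent.S13210 Groth.Agent.R2.H95.SchDenseSp Groth.Agent.R2.H95.FppfEpi Opposite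

variable {S : Scheme.{u}}

/-- the two projections of the kernel pair of `g` agree after `f`. -/
lemma kernelPair_agree {B : AlgSp.Sp S} (X Y Z : AlgSp.Space S) (pX : X.obj ⟶ B) (pY : Y.obj ⟶ B)
    (pZ : Z.obj ⟶ B) (f : X.obj ⟶ Y.obj) (g : X.obj ⟶ Z.obj) (hf : f ≫ pY = pX)
    (hg : g ≫ pZ = pX) (hY : AlgSp.IsSeparatedMor pY) (hgf : AlgSp.LocP @Flat g)
    (V : AlgSp.Sp S) (v : V ⟶ Z.obj) (hv : AlgSp.IsSchDense v) (hvq : AlgSp.IsQuasiCompactMor v)
    (φ : V ⟶ Y.obj) (hφ : pullback.fst g v ≫ f = pullback.snd g v ≫ φ) :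
    pullback.fst g g ≫ f = pullback.snd g g ≫ f := by
  have hR : AlgSp.IsAlgSpace (pullback g g) :=
    Groth.Agent.S9874.isAlgSpace_of_isPullback Z.property.diag X.property X.property
      (IsPullback.of_hasPullback g g)
  refine Groth.Agent.R2.H47.SpColim.hom_ext_of_charts hR _ _ (fun T t _ hte => ?_)
  obtain ⟨W, fstW, sqW, -⟩ :=
    Groth.Agent.R2.H48.OpenCompl.exists_open_chart hv.1 (t ≫ pullback.fst g g ≫ g)
  -- density of `W`
  have hWd : CInt.IsSchematicallyDense W := by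
    have hflat1 : AlgSp.LocP @Flat (pullback.fst g g ≫ g) :=
      Groth.Agent.Lib.Helper12.LocPCases.good_flat.locP_comp X.property Z.property _ _
        (Groth.Agent.Lib.Helper12.LocPCases.good_flat.locP_baseChange X.property Z.property
          X.property (IsPullback.of_hasPullback g g).flip hgf) hgf
    have hcflat : AlgSp.LocP @Flat (t ≫ pullback.fst g g ≫ g) := by
      intro U' V' a b h hae hbe hcomm
      have := AlgSp.repWith_isMultiplicative (S := S) @Etale
      exact hflat1 (a ≫ t) b h ((AlgSp.RepWith @Etale).comp_mem _ _ hae hte) hbe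
        (by rw [Category.assoc]; exact hcomm)
    have hVsp : AlgSp.IsAlgSpace V :=
      Groth.Agent.R2.H44.LimSp.isAlgSpace_of_representable v hv.1.1 Z.property
    have hd := Groth.Agent.S9973.result (X := ⟨(AlgSp.yon S).obj T, AlgSp.IsAlgSpace.yon_obj T⟩)
      (Y := Z) (V := ⟨V, hVsp⟩)
      (V' := ⟨(AlgSp.yon S).obj (opn T W), AlgSp.IsAlgSpace.yon_obj _⟩)
      ⟨t ≫ pullback.fst g g ≫ g⟩ hcflat ⟨v⟩ hv hvq ⟨fstW⟩ ⟨(AlgSp.yon S).map (opnι T W)⟩ sqW
    obtain ⟨_, V₁, φ₁, W₁, fst₁, hφ₁e, hφ₁s, sq₁, hW₁⟩ := hd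
    exact isSchematicallyDense_chart ((AlgSp.yon S).map (opnι T W)) φ₁ hφ₁e hφ₁s W₁ fst₁ sq₁ hW₁
      (𝟙 _) (AlgSp.repWith_id _ T) W (𝟙 _) (IsPullback.id_horiz _)
  have hpr : pullback.fst g g ≫ g = pullback.snd g g ≫ g := pullback.condition
  apply eq_of_eq_on_dense pY hY (t ≫ pullback.fst g g ≫ f) (t ≫ pullback.snd g g ≫ f) ?_ W hWd ?_
  · simp only [Category.assoc, hf, ← hg]
    rw [reassoc_of% hpr]
  · have hw1 : ((AlgSp.yon S).map (opnι T W) ≫ t ≫ pullback.fst g g) ≫ g = fstW ≫ v := by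
      rw [sqW.w]
      simp only [Category.assoc]
    have hw2 : ((AlgSp.yon S).map (opnι T W) ≫ t ≫ pullback.snd g g) ≫ g = fstW ≫ v := by
      rw [sqW.w]
      simp only [Category.assoc]
      rw [hpr]
    have e1 : (AlgSp.yon S).map (opnι T W) ≫ t ≫ pullback.fst g g ≫ f = fstW ≫ φ := by
      have := congrArg (pullback.lift _ _ hw1 ≫ ·) hφ
      simp only [pullback.lift_fst_assoc, pullback.lift_snd_assoc] at this
      simpa only [Category.assoc] using this
    have e2 : (AlgSp.yon S).map (opnι T W) ≫ t ≫ pullback.snd g g ≫ f = fstW ≫ φ := by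
      have := congrArg (pullback.lift _ _ hw2 ≫ ·) hφ
      simp only [pullback.lift_fst_assoc, pullback.lift_snd_assoc] at this
      simpa only [Category.assoc] using this
    rw [e1, e2]

end Aux

/-- Consider morphisms `g : X ⟶ Z` and `f : X ⟶ Y` of algebraic spaces over `B`, with `Y ⟶ B` separated
and `g` surjective, flat and locally of finite presentation, and let `V ⊂ Z` be a scheme
theoretically dense open subspace with `V ⟶ Z` quasi-compact such that `f` restricted to `g⁻¹(V)`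
factors through `g⁻¹(V) ⟶ V`. Then `f` factors through `g`. (The published statement does not ask
the open immersion `V ⟶ Z` to be quasi-compact; the published proof pulls the scheme theoretic
density of `V` back along a flat morphism by a lemma that requires it, so this row assumes it.) -/
theorem result (S : Scheme.{u}) (B : AlgSp.Sp S) (hB : AlgSp.IsAlgSpace B)
    (X Y Z : AlgSp.Space S) (pX : X.obj ⟶ B) (pY : Y.obj ⟶ B) (pZ : Z.obj ⟶ B)
    (f : X.obj ⟶ Y.obj) (g : X.obj ⟶ Z.obj) (hf : f ≫ pY = pX) (hg : g ≫ pZ = pX)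
    (hY : AlgSp.IsSeparatedMor pY)
    (hgs : AlgSp.IsSurjectiveMor g) (hgf : AlgSp.LocP @Flat g) (hgp : AlgSp.LocP @LocallyOfFinitePresentation g)
    (V : AlgSp.Sp S) (v : V ⟶ Z.obj) (hv : AlgSp.IsSchDense v) (hvq : AlgSp.IsQuasiCompactMor v)
    (hfac : ∃ φ : V ⟶ Y.obj, pullback.fst g v ≫ f = pullback.snd g v ≫ φ) :
    ∃ h : Z.obj ⟶ Y.obj, g ≫ h = f := by
  obtain ⟨φ, hφ⟩ := hfac
  have hagree := Aux.kernelPair_agree X Y Z pX pY pZ f g hf hg hY hgf V v hv hvq φ hφ
  exact Groth.Agent.R2.H95.FppfEpi.exists_desc_of_fppf X.property Z.property g hgs hgf hgp f hagree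

end Groth.Agent.S10129
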