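import Groth.Statements.S10132
import Groth.Agent.R2.H84GpdFieldExt

set_option autoImplicit false
universe u
open CategoryTheory CategoryTheory.Limits AlgebraicGeometry
open AlgSp AlgSp.GroupoidSp

namespace Groth.Agent.S10132

/-- Let `(U, R, s, t, c)` be a groupoid in algebraic spaces over `B` whose object space is `U = Spec k`,
let `k ⊂ k'` be a field extension and `(U', R', s', t', c')` the restriction along `Spec k' ⟶ Spec
k`. Then `s, t, s', t'`, `Spec k' ⟶ Spec k` and `R' ⟶ R` are surjective, flat and universally open,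
and `R' ⟶ R` is moreover affine. (The published statement lists every arrow of the restriction
diagram; this row omits the six arrows through `R ×_{s,U} U'` and `U' ×_{U,t} R`, each a base change
of `s`, `t` or `Spec k' ⟶ Spec k`.) -/
theorem result (S : Scheme.{u}) (B : AlgSp.Sp S) (hB : AlgSp.IsAlgSpace B)
    (G G' : AlgSp.GroupoidSp B) (hR : AlgSp.IsAlgSpace G.R) (hR' : AlgSp.IsAlgSpace G'.R)
    (k k' : Type u) [Field k] [Field k'] [Algebra k k'] (σ : Spec (CommRingCat.of k) ⟶ S)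
    (eU : G.U ≅ ((AlgSp.yon S).obj (Over.mk σ)))
    (eU' : G'.U ≅ ((AlgSp.yon S).obj (Over.mk (Spec.map (CommRingCat.ofHom (algebraMap k k')) ≫ σ))))
    (φ : AlgSp.GroupoidSp.Hom G' G) (hφ : φ.IsRestriction)
    (hfU : φ.fU = eU'.hom ≫ (AlgSp.yon S).map (Over.homMk (Spec.map (CommRingCat.ofHom (algebraMap k k'))) rfl :
      Over.mk (Spec.map (CommRingCat.ofHom (algebraMap k k')) ≫ σ) ⟶ Over.mk σ) ≫ eU.inv) :
    (∀ f ∈ [G.s, G.t], AlgSp.IsSurjectiveMor f ∧ AlgSp.LocP @Flat f ∧ AlgSp.IsUnivOpenMor f) ∧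
      (∀ f ∈ [G'.s, G'.t], AlgSp.IsSurjectiveMor f ∧ AlgSp.LocP @Flat f ∧ AlgSp.IsUnivOpenMor f) ∧
      (AlgSp.IsSurjectiveMor φ.fU ∧ AlgSp.LocP @Flat φ.fU ∧ AlgSp.IsUnivOpenMor φ.fU) ∧
      (AlgSp.IsSurjectiveMor φ.fR ∧ AlgSp.LocP @Flat φ.fR ∧ AlgSp.IsUnivOpenMor φ.fR ∧ AlgSp.IsAffineMor φ.fR) := by
  classical
  have hU : AlgSp.IsAlgSpace G.U := (AlgSp.IsAlgSpace.yon_obj _).of_iso eU.symm
  have hU' : AlgSp.IsAlgSpace G'.U := (AlgSp.IsAlgSpace.yon_obj _).of_iso eU'.symm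
  have h3 : AlgSp.IsSurjectiveMor φ.fU ∧ AlgSp.LocP @Flat φ.fU ∧ AlgSp.IsUnivOpenMor φ.fU :=
    ⟨Groth.Agent.R2.H84.GpdFieldExt.isSurjectiveMor_to_field eU φ.fU
        (Groth.Agent.R2.H84.GpdFieldExt.nonempty_points eU'),
      Groth.Agent.R2.H84.GpdFieldExt.locP_flat_to_field_iso eU φ.fU,
      Groth.Agent.R2.H84.GpdFieldExt.isUnivOpenMor_to_field_iso hU' eU φ.fU⟩
  have hAff : AlgSp.IsAffineMor φ.fU := by
    rw [hfU]
    refine Groth.Agent.R2.H84.GpdFieldExt.isAffineMor_comp _ _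
      (Groth.Agent.R2.H84.GpdFieldExt.isAffineMor_of_isIso _)
      (Groth.Agent.R2.H84.GpdFieldExt.isAffineMor_comp _ _ ?_
        (Groth.Agent.R2.H84.GpdFieldExt.isAffineMor_of_isIso _))
    exact Groth.Agent.R2.H84.GpdFieldExt.isAffineMor_yon_map _
      (inferInstance : IsAffineHom (Spec.map (CommRingCat.ofHom (algebraMap k k'))))
  refine ⟨?_, ?_, h3, ?_, ?_, ?_, ?_⟩
  · intro f hf
    simp only [List.mem_cons, List.mem_singleton, List.not_mem_nil, or_false] at hf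
    rcases hf with rfl | rfl
    · exact Groth.Agent.R2.H84.GpdFieldExt.props_of_section hR eU G.s G.e G.e_s
    · exact Groth.Agent.R2.H84.GpdFieldExt.props_of_section hR eU G.t G.e G.e_t
  · intro f hf
    simp only [List.mem_cons, List.mem_singleton, List.not_mem_nil, or_false] at hf
    rcases hf with rfl | rfl
    · exact Groth.Agent.R2.H84.GpdFieldExt.props_of_section hR' eU' G'.s G'.e G'.e_s
    · exact Groth.Agent.R2.H84.GpdFieldExt.props_of_section hR' eU' G'.t G'.e G'.e_t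
  · exact Groth.Agent.R2.H84.GpdFieldExt.fR_of_fU φ AlgSp.IsSurjectiveMor
      (fun X Y X' Y' f g fst f' hX hY _ hY' sq hf =>
        Groth.Agent.S9907.result (X := ⟨X, hX⟩) (Y := ⟨Y, hY⟩) (Y' := ⟨Y', hY'⟩)
          (ObjectProperty.homMk f) (ObjectProperty.homMk g) fst f' sq hf)
      (fun _ _ _ f g _ _ _ hf hg => Groth.Agent.R2.H84.GpdFieldExt.isSurjectiveMor_comp f g hf hg)
      hU hR hU' hR' hφ h3.1
  · exact Groth.Agent.R2.H84.GpdFieldExt.fR_of_fU φ (AlgSp.LocP @Flat)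
      (fun _ _ _ _ _ _ _ _ hX hY _ hY' sq hf =>
        Groth.Agent.Lib.Helper12.LocPCases.good_flat.locP_baseChange hX hY hY' sq hf)
      (fun _ _ _ f g _ hY hZ hf hg =>
        Groth.Agent.Lib.Helper12.LocPCases.good_flat.locP_comp hY hZ f g hf hg)
      hU hR hU' hR' hφ h3.2.1
  · exact Groth.Agent.R2.H84.GpdFieldExt.fR_of_fU φ AlgSp.IsUnivOpenMor
      (fun _ _ _ _ _ _ _ _ _ _ _ _ sq hf =>
        Groth.Agent.R2.H84.GrpField.univSp_of_isPullback _ sq hf)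
      (fun _ _ _ f g _ hY hZ hf hg =>
        Groth.Agent.R2.H84.GpdFieldExt.isUnivOpenMor_comp hY hZ f g hf hg)
      hU hR hU' hR' hφ h3.2.2
  · exact Groth.Agent.R2.H84.GpdFieldExt.fR_of_fU φ AlgSp.IsAffineMor
      (fun _ _ _ _ _ _ _ _ _ _ _ _ sq hf =>
        Groth.Agent.R2.H84.GpdFieldExt.isAffineMor_of_isPullback sq hf)
      (fun _ _ _ f g _ _ _ hf hg => Groth.Agent.R2.H84.GpdFieldExt.isAffineMor_comp f g hf hg)
      hU hR hU' hR' hφ hAff

end Groth.Agent.S10132
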