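import Groth.Statements.S10135
import Mathlib
import Groth.Agent.R2.H45GrpLocus
import Groth.Agent.S5341
import Groth.Agent.S5792
import Groth.Agent.S10142
import Groth.Agent.S9874

set_option autoImplicit false
set_option linter.style.haveILetI false
universe u
open CategoryTheory CategoryTheory.Limits AlgebraicGeometry
open AlgSp AlgSp.GroupoidSp

namespace Groth.Agent.S10135
open Groth.Agent.R2.H45.HasAtMor Groth.Agent.R2.H45.HasAt Groth.Agent.R2.H45.RelDim Groth.Agent.R2.H45.GrpLocus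

/-- For a groupoid in algebraic spaces `(U, R, s, t, c)` over `B` with `U = Spec k` and `s, t` locally
of finite type, `dim_r(R) = dim(R)` for every point `r` of `R`. -/
theorem result (S : Scheme.{u}) (B : AlgSp.Sp S) (hB : AlgSp.IsAlgSpace B)
    (G : AlgSp.GroupoidSp B) (hR : AlgSp.IsAlgSpace G.R) (k : Type u) [Field k]
    (σ : Spec (CommRingCat.of k) ⟶ S) (eU : G.U ≅ (AlgSp.yon S).obj (Over.mk σ))
    (hs : AlgSp.LocP @LocallyOfFiniteType G.s) (ht : AlgSp.LocP @LocallyOfFiniteType G.t) (r : AlgSp.Points G.R) :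
    AlgSp.HasAt (fun V v => FlatMor.localDim ↥V v = AlgSp.dim G.R) G.R r := by
  have hU : AlgSp.IsAlgSpace G.U := (AlgSp.IsAlgSpace.yon_obj (Over.mk σ)).of_iso eU.symm
  -- `|U|` is a singleton
  haveI hsubk : Subsingleton ↥(Over.mk σ).left := inferInstanceAs (Subsingleton (PrimeSpectrum k))
  haveI hsubY : Subsingleton (AlgSp.Points ((AlgSp.yon S).obj (Over.mk σ))) :=
    (AlgSp.Points.schemeEquiv (Over.mk σ)).symm.subsingleton
  have hsubU : ∀ x y : AlgSp.Points G.U, x = y := by
    intro x y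
    have h := Subsingleton.elim (AlgSp.Points.map eU.hom x) (AlgSp.Points.map eU.hom y)
    have h' := congrArg (AlgSp.Points.map eU.inv) h
    rwa [← AlgSp.Points.map_comp, ← AlgSp.Points.map_comp, Iso.hom_inv_id, AlgSp.Points.map_id,
      AlgSp.Points.map_id] at h'
  obtain ⟨hA, -⟩ := Groth.Agent.S10142.result S B hB G hU hR
  -- translation along the groupoid law
  have htrans : ∀ (d : WithBot ℕ∞) (r : AlgSp.Points G.R),
      AlgSp.HasAtMor (fun _ _ h u => FlatMor.fibreDimAt h u = d) G.s r ↔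
        AlgSp.HasAtMor (fun _ _ h u => FlatMor.fibreDimAt h u = d) G.s
          (AlgSp.Points.map (G.t ≫ G.e) r) := by
    intro d r
    have hζ : 𝟙 G.R ≫ G.s = (𝟙 G.R ≫ G.i) ≫ G.t := by
      rw [Category.assoc, G.i_t]
    let ζ : G.R ⟶ pullback G.s G.t := pullback.lift (𝟙 G.R) (𝟙 G.R ≫ G.i) hζ
    have e1 := hasAtMor_fibreDimAt_baseChange_iff (fun e => e = d) hR hU hR hA hs
      (AlgSp.Points.map ζ r)
    have e2 := hasAtMor_fibreDimAt_baseChange_iff (fun e => e = d) hR hU hR
      (IsPullback.of_hasPullback G.s G.t) hs (AlgSp.Points.map ζ r)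
    rw [← AlgSp.Points.map_comp] at e1 e2
    have h1 : ζ ≫ pullback.fst G.s G.t = 𝟙 G.R := pullback.lift_fst _ _ _
    have h2 : ζ ≫ G.c = G.t ≫ G.e := by
      exact (G.comp_i (𝟙 G.R)).trans (Category.id_comp _)
    rw [h2] at e1
    rw [h1, AlgSp.Points.map_id] at e2
    exact e2.symm.trans e1
  have hall : ∀ (d : WithBot ℕ∞) (r r' : AlgSp.Points G.R),
      AlgSp.HasAtMor (fun _ _ h u => FlatMor.fibreDimAt h u = d) G.s r →
        AlgSp.HasAtMor (fun _ _ h u => FlatMor.fibreDimAt h u = d) G.s r' := by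
    intro d r r' h
    rw [htrans] at h ⊢
    rw [AlgSp.Points.map_comp] at h ⊢
    rwa [hsubU (AlgSp.Points.map G.t r') (AlgSp.Points.map G.t r)]
  -- relative dimension on a chart is the local dimension of the chart
  have hchart : ∀ (d : WithBot ℕ∞) (V : Over S) (a : (AlgSp.yon S).obj V ⟶ G.R) (v : ↥V.left),
      AlgSp.RepWith @Etale a →
      (AlgSp.HasAtMor (fun _ _ h u => FlatMor.fibreDimAt h u = d) G.s (AlgSp.Points.ofPt a v) ↔
        FlatMor.localDim ↥V.left v = d) := by
    intro d V a v ha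
    obtain ⟨φ, hφ⟩ := (AlgSp.yon S).map_surjective (a ≫ G.s ≫ eU.hom)
    have comm : a ≫ G.s = (AlgSp.yon S).map φ ≫ eU.inv := by
      rw [hφ, Category.assoc, Category.assoc, Iso.hom_inv_id, Category.comp_id]
    have e := hasAtMor_iff_of_diagram (etSqInv_fibreDimAt (fun e => e = d)) G.s a eU.inv φ ha
      (Groth.Agent.Lib.Helper15Descent.repWith_etale_of_isIso eU.inv) comm v
    rw [e]
    change FlatMor.fibreDimAt φ.left v = d ↔ _
    rw [Groth.Agent.S5341.fibreDimAt_eq_localDim_of_subsingleton φ.left v]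
  have hconst : ∀ (V V' : Over S) (a : (AlgSp.yon S).obj V ⟶ G.R)
      (a' : (AlgSp.yon S).obj V' ⟶ G.R) (v : ↥V.left) (v' : ↥V'.left),
      AlgSp.RepWith @Etale a → AlgSp.RepWith @Etale a' →
      FlatMor.localDim ↥V'.left v' = FlatMor.localDim ↥V.left v := by
    intro V V' a a' v v' ha ha'
    have h1 := (hchart (FlatMor.localDim ↥V.left v) V a v ha).2 rfl
    exact (hchart _ V' a' v' ha').1 (hall _ _ _ h1)
  obtain ⟨V, a, v, ha, -, hv⟩ := exists_chart hR r
  refine ⟨V, a, v, ha, hv, ?_⟩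
  apply le_antisymm
  · unfold AlgSp.dim
    refine le_trans ?_ (le_iSup₂_of_le V a (le_iSup_of_le ha le_rfl))
    rw [Groth.Agent.S5792.result]
    exact le_iSup (fun x => FlatMor.localDim ↥V.left x) v
  · unfold AlgSp.dim
    refine iSup_le fun V' => iSup_le fun a' => iSup_le fun ha' => ?_
    rw [Groth.Agent.S5792.result]
    exact iSup_le fun v' => (hconst V V' a a' v v' ha ha').le

end Groth.Agent.S10135
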