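import Mathlib
import Groth.Statements.S10136
import Groth.Agent.R2.H45GrpLocus
import Groth.Agent.S5341
import Groth.Agent.S5792

set_option autoImplicit false
set_option linter.style.haveILetI false
universe u
open CategoryTheory CategoryTheory.Limits AlgebraicGeometry MonoidalCategory MonObj
open AlgSp

namespace Groth.Agent.S10136
open Groth.Agent.R2.H45.HasAtMor Groth.Agent.R2.H45.HasAt Groth.Agent.R2.H45.RelDim Groth.Agent.R2.H45.GrpLocus

/-- For a group algebraic space `G` locally of finite type over a field `k`, `dim_g(G) = dim(G)` for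
every point `g` of `G`. (The published situation allows any base scheme `S` with `k` a field over
`S`; this row takes `S = Spec k`.) -/
theorem result (k : Type u) [Field k]
    (G : Over ((AlgSp.yon (Spec (CommRingCat.of k))).obj (Over.mk (𝟙 _)))) [GrpObj G] (hG : AlgSp.IsAlgSpace G.left)
    (hlft : AlgSp.LocP @LocallyOfFiniteType G.hom) (g : AlgSp.Points G.left) :
    AlgSp.HasAt (fun V v => FlatMor.localDim ↥V v = AlgSp.dim G.left) G.left g := by
  have hB : AlgSp.IsAlgSpace ((AlgSp.yon (Spec (CommRingCat.of k))).obj (Over.mk (𝟙 _))) :=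
    AlgSp.IsAlgSpace.yon_obj _
  -- the base has a single point
  haveI : Subsingleton (AlgSp.Points
      ((AlgSp.yon (Spec (CommRingCat.of k))).obj (Over.mk (𝟙 (Spec (CommRingCat.of k)))))) := by
    haveI : Subsingleton ↥(Over.mk (𝟙 (Spec (CommRingCat.of k)))).left :=
      inferInstanceAs (Subsingleton (PrimeSpectrum k))
    exact (AlgSp.Points.schemeEquiv (Over.mk (𝟙 (Spec (CommRingCat.of k))))).symm.subsingleton
  -- base change compatibility of "relative dimension `d`"
  have hBC : ∀ d : WithBot ℕ∞, BCInv (Spec (CommRingCat.of k))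
      (fun _ _ h u => FlatMor.fibreDimAt h u = d) := by
    intro d X Y X' Y' hX hY hY' f g' g'' f' sq hf x'
    exact hasAtMor_fibreDimAt_baseChange_iff (fun e => e = d) hX hY hY' sq hf x'
  -- relative dimension on a chart is the local dimension of the chart
  have hchart : ∀ (d : WithBot ℕ∞) (U : Over (Spec (CommRingCat.of k)))
      (a : (AlgSp.yon (Spec (CommRingCat.of k))).obj U ⟶ G.left) (u : ↥U.left),
      AlgSp.RepWith @Etale a →
      (AlgSp.HasAtMor (fun _ _ h u => FlatMor.fibreDimAt h u = d) G.hom (AlgSp.Points.ofPt a u) ↔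
        FlatMor.localDim ↥U.left u = d) := by
    intro d U a u ha
    obtain ⟨φ, hφ⟩ := (AlgSp.yon (Spec (CommRingCat.of k))).map_surjective (a ≫ G.hom)
    have comm : a ≫ G.hom = (AlgSp.yon (Spec (CommRingCat.of k))).map φ ≫ 𝟙 _ := by
      rw [hφ, Category.comp_id]
    have e := hasAtMor_iff_of_diagram (etSqInv_fibreDimAt (fun e => e = d)) G.hom a (𝟙 _) φ ha
      (AlgSp.repWith_id _ _) comm u
    rw [e]
    haveI : Subsingleton ↥(Over.mk (𝟙 (Spec (CommRingCat.of k)))).left :=
      inferInstanceAs (Subsingleton (PrimeSpectrum k))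
    change FlatMor.fibreDimAt φ.left u = d ↔ _
    rw [Groth.Agent.S5341.fibreDimAt_eq_localDim_of_subsingleton φ.left u]
  -- the local dimension is the same on all charts
  have hconst : ∀ (U U' : Over (Spec (CommRingCat.of k)))
      (a : (AlgSp.yon (Spec (CommRingCat.of k))).obj U ⟶ G.left)
      (a' : (AlgSp.yon (Spec (CommRingCat.of k))).obj U' ⟶ G.left) (u : ↥U.left) (u' : ↥U'.left),
      AlgSp.RepWith @Etale a → AlgSp.RepWith @Etale a' →
      FlatMor.localDim ↥U'.left u' = FlatMor.localDim ↥U.left u := by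
    intro U U' a a' u u' ha ha'
    have h1 := (hchart (FlatMor.localDim ↥U.left u) U a u ha).2 rfl
    rw [hasAtMor_iff_unit G (hBC _) hB hG hlft] at h1
    rw [Subsingleton.elim (AlgSp.Points.map G.hom (AlgSp.Points.ofPt a u))
      (AlgSp.Points.map G.hom (AlgSp.Points.ofPt a' u')),
      ← hasAtMor_iff_unit G (hBC _) hB hG hlft] at h1
    exact (hchart _ U' a' u' ha').1 h1
  obtain ⟨U, a, u, ha, -, hu⟩ := exists_chart hG g
  refine ⟨U, a, u, ha, hu, ?_⟩
  apply le_antisymm
  · unfold AlgSp.dim
    refine le_trans ?_ (le_iSup₂_of_le U a (le_iSup_of_le ha le_rfl))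
    rw [Groth.Agent.S5792.result]
    exact le_iSup (fun x => FlatMor.localDim ↥U.left x) u
  · unfold AlgSp.dim
    refine iSup_le fun U' => iSup_le fun a' => iSup_le fun ha' => ?_
    rw [Groth.Agent.S5792.result]
    exact iSup_le fun u' => (hconst U U' a a' u u' ha ha').le

end Groth.Agent.S10136
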