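import Groth.Statements.S10140
import Groth.Agent.R2.H84SubQuotP
import Groth.Agent.R2.H84SubQuotK

set_option autoImplicit false
set_option linter.style.haveILetI false
universe u
open CategoryTheory CategoryTheory.Limits AlgebraicGeometry
open Grpd

namespace Groth.Agent.S10140

/-- Let `(U, R, s, t, c)` be a groupoid scheme over `S` with `U` affine and `j : R ⟶ U ×_S U` separated
and locally quasi-finite, and let `P ⟶ R` be a monomorphism such that `(U, P, s|_P, t|_P, c|_P)` is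
a groupoid scheme, `s|_P, t|_P` are finite locally free and `j|_P` is a monomorphism. Then `U/P` is
represented by an affine scheme `Ū`, the quotient map `U ⟶ Ū` is finite locally free with `P = U ×_Ū
U`, and `R` is the restriction along `U ⟶ Ū` of a groupoid scheme `(Ū, R̄, s̄, t̄, c̄)`. -/
theorem result (S : Scheme.{u}) (G : Grpd.GroupoidScheme S) [IsAffine G.U]
    [IsSeparated G.j] [LocallyQuasiFinite G.j] [LocallyOfFiniteType G.j]
    (P : Scheme.{u}) (ιP : P ⟶ G.R) [Mono ιP]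
    (he : ∃ eP : G.U ⟶ P, eP ≫ ιP = G.e) (hi : ∃ iP : P ⟶ P, iP ≫ ιP = ιP ≫ G.i)
    (hc : ∃ cP : pullback (ιP ≫ G.s) (ιP ≫ G.t) ⟶ P,
      cP ≫ ιP = pullback.map (ιP ≫ G.s) (ιP ≫ G.t) G.s G.t ιP ιP (𝟙 G.U) (Category.comp_id _) (Category.comp_id _) ≫ G.c)
    [IsFinite (ιP ≫ G.s)] [Flat (ιP ≫ G.s)] [LocallyOfFinitePresentation (ιP ≫ G.s)]
    [IsFinite (ιP ≫ G.t)] [Flat (ιP ≫ G.t)] [LocallyOfFinitePresentation (ιP ≫ G.t)] [Mono (ιP ≫ G.j)] :
    ∃ (H : Grpd.GroupoidScheme S) (φ : Grpd.GroupoidScheme.Hom G H),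
      IsAffine H.U ∧
      QuotSh.IsQuotient Scheme.fppfPrecoverage
        (Over.homMk (ιP ≫ G.s) ((Category.assoc _ _ _).trans (congrArg (ιP ≫ ·) G.s_over)) :
          (Over.mk (ιP ≫ G.pR) : Over S) ⟶ Over.mk G.pU)
        (Over.homMk (ιP ≫ G.t) ((Category.assoc _ _ _).trans (congrArg (ιP ≫ ·) G.t_over)) :
          (Over.mk (ιP ≫ G.pR) : Over S) ⟶ Over.mk G.pU)
        (Over.homMk φ.fU φ.fU_over : Over.mk G.pU ⟶ Over.mk H.pU) ∧
      IsFinite φ.fU ∧ Flat φ.fU ∧ LocallyOfFinitePresentation φ.fU ∧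
      IsPullback (ιP ≫ G.t) (ιP ≫ G.s) φ.fU φ.fU ∧
      IsPullback φ.fR G.j H.j
        (pullback.map G.pU G.pU H.pU H.pU φ.fU φ.fU (𝟙 S)
          ((Category.comp_id _).trans φ.fU_over.symm) ((Category.comp_id _).trans φ.fU_over.symm)) := by
  obtain ⟨eP, he⟩ := he
  obtain ⟨iP, hi⟩ := hi
  obtain ⟨cP, hc⟩ := hc
  have hEq := Groth.Agent.R2.H84.SubQuotP.isEqvRel_P G ιP eP he iP hi cP hc
  obtain ⟨h1, h2, h3, h4, hpb, m, hm, hquot⟩ := Groth.Agent.R2.H84.SubQuotP.facts_P G ιP hEq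
  let D : Groth.Agent.R2.H84.SubQuot.Data G :=
    { P := P, ιP := ιP, Ubar := _, π := Groth.Agent.R2.H84.SubQuotP.πP G ιP hEq, hP := hpb,
      eP := eP, he := he, iP := iP, hi := hi, cP := cP, hc := hc }
  haveI : IsFinite D.π := h1
  haveI : Flat D.π := h2
  haveI : LocallyOfFinitePresentation D.π := h3
  obtain ⟨Rbar, q, hflat, hsurj, hlfp, hfin, hq⟩ :=
    Groth.Agent.R2.H84.SubQuotK.exists_quot_R D m hm
  let Q : Groth.Agent.R2.H84.SubQuot.QData G :=
    { D with flatπ := h2, surjπ := h4, lfpπ := h3, Rbar := Rbar, q := q, flatq := hflat,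
             surjq := hsurj, lfpq := hlfp, hq := hq }
  refine ⟨Groth.Agent.R2.H84.SubQuot.quotGrpd Q m hm, Groth.Agent.R2.H84.SubQuot.quotHom Q m hm,
    ?_, hquot, h1, h2, h3, hpb, Groth.Agent.R2.H84.SubQuot.isPullback_quotHom Q m hm⟩
  change IsAffine (Spec _)
  infer_instance

end Groth.Agent.S10140
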