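import Groth.Statements.S10141
import Groth.Agent.R2.H84GpdQuotOpen

set_option autoImplicit false
set_option linter.style.haveILetI false
universe u
open CategoryTheory CategoryTheory.Limits AlgebraicGeometry
open AlgSp

namespace Groth.Agent.S10141

/-- Let `(U, R, s, t, c)` be a groupoid scheme over `S` and `g : U' ⟶ U` a morphism such that the
composite `h : U' ×_{g, U, t} R ⟶ R ⟶ U` of the projection with `s` has open image `W ⊂ U` and `h :
U' ×_{g, U, t} R ⟶ W` is a surjection of fppf sheaves. Then for the restriction `R' = R|_{U'}` the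
map of fppf quotient sheaves `U'/R' ⟶ U/R` is representable and an open immersion. -/
theorem result (S : Scheme.{u}) (G : Grpd.GroupoidScheme S)
    (U' : Scheme.{u}) (g : U' ⟶ G.U) (W : G.U.Opens)
    (hW : (W : Set ↥G.U) = Set.range ⇑(pullback.snd g G.t ≫ G.s))
    (hlift : pullback g G.t ⟶ ↑W) (hh : hlift ≫ W.ι = pullback.snd g G.t ≫ G.s)
    (hsurj : Sheaf.IsLocallySurjective ((AlgSp.yon S).map
      (Over.homMk hlift ((Category.assoc _ _ _).symm.trans (congrArg (· ≫ G.pU) hh)) :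
        Over.mk ((pullback.snd g G.t ≫ G.s) ≫ G.pU) ⟶ Over.mk (W.ι ≫ G.pU))))
    (R' : Over S) (s' t' : R' ⟶ Over.mk (g ≫ G.pU)) (r : R' ⟶ Over.mk G.pR)
    (hsq : IsPullback (prod.lift t' s') r
      (prod.map (Over.homMk g rfl : Over.mk (g ≫ G.pU) ⟶ Over.mk G.pU) (Over.homMk g rfl : Over.mk (g ≫ G.pU) ⟶ Over.mk G.pU))
      (prod.lift (Over.homMk G.t G.t_over : Over.mk G.pR ⟶ Over.mk G.pU) (Over.homMk G.s G.s_over : Over.mk G.pR ⟶ Over.mk G.pU)))
    (ψ : QuotSh.quot Scheme.fppfPrecoverage s' t' ⟶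
      QuotSh.quot Scheme.fppfPrecoverage (Over.homMk G.s G.s_over : Over.mk G.pR ⟶ Over.mk G.pU) (Over.homMk G.t G.t_over : Over.mk G.pR ⟶ Over.mk G.pU))
    (hψ : QuotSh.quotπ Scheme.fppfPrecoverage s' t' ≫ ψ =
      QuotSh.repMap Scheme.fppfPrecoverage (Over.homMk g rfl : Over.mk (g ≫ G.pU) ⟶ Over.mk G.pU) ≫ QuotSh.quotπ Scheme.fppfPrecoverage _ _) :
    AlgSp.RepWith @IsOpenImmersion ψ := by
  let hliftO : Over.mk ((pullback.snd g G.t ≫ G.s) ≫ G.pU) ⟶ Over.mk (W.ι ≫ G.pU) :=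
    Over.homMk hlift ((Category.assoc _ _ _).symm.trans (congrArg (· ≫ G.pU) hh))
  haveI : Sheaf.IsLocallySurjective ((AlgSp.yon S).map hliftO) := hsurj
  refine Groth.Agent.R2.H84.GpdQuotOpen.repWith_isOpenImmersion_ψ (s := Groth.Agent.R2.H84.GpdQuotOpen.sO G)
    (t := Groth.Agent.R2.H84.GpdQuotOpen.tO G) (g := (Over.homMk g rfl : Over.mk (g ≫ G.pU) ⟶ Over.mk G.pU))
    (r := r) hsq (Groth.Agent.R2.H84.GpdQuotOpen.lr_of_groupoidScheme G)
    (Groth.Agent.R2.H43.Quot.πy_comp_φ hψ) W ?_ ?_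
  · intro Y u' ρ h y
    have hc : u'.left ≫ g = ρ.left ≫ G.t := by
      have := congrArg (fun m => m.left) h
      simpa only [Over.comp_left, Over.homMk_left] using this
    change (ρ ≫ Groth.Agent.R2.H84.GpdQuotOpen.sO G).left y ∈ (W : Set ↥G.U)
    rw [hW]
    refine ⟨(pullback.lift u'.left ρ.left hc) y, ?_⟩
    rw [← Scheme.Hom.comp_apply, pullback.lift_snd_assoc]
    rfl
  · intro Y b hb
    have hb' : Set.range b.left ⊆ Set.range W.ι := by
      rw [Scheme.Opens.range_ι]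
      exact hb
    let bW : Y.left ⟶ ↑W := IsOpenImmersion.lift W.ι b.left hb'
    have hbW : bW ≫ W.ι = b.left := IsOpenImmersion.lift_fac _ _ _
    let bO : Y ⟶ Over.mk (W.ι ≫ G.pU) := Over.homMk bW (by
      change bW ≫ W.ι ≫ G.pU = Y.hom
      rw [← Category.assoc, hbW]
      exact Over.w b)
    obtain ⟨R₁, hR₁, hl⟩ := Groth.Agent.S9884.exists_fppf_lift ((AlgSp.yon S).map hliftO)
      ((AlgSp.yon S).map bO)
    refine ⟨R₁, hR₁, fun Z m hm => ?_⟩
    obtain ⟨d, hd⟩ := hl m hm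
    obtain ⟨δ, rfl⟩ := (AlgSp.yon S).map_surjective d
    have hδ : δ ≫ hliftO = (Over.homMk m : Over.mk (m ≫ Y.hom) ⟶ Y) ≫ bO := by
      apply (AlgSp.yon S).map_injective
      rw [Functor.map_comp, hd, Functor.map_comp]
    have hδl : δ.left ≫ hlift = m ≫ bW := by
      have := congrArg (fun m => m.left) hδ
      simpa only [Over.comp_left, Over.homMk_left, hliftO, bO] using this
    have hδw : δ.left ≫ ((pullback.snd g G.t ≫ G.s) ≫ G.pU) = m ≫ Y.hom := Over.w δ
    have hu : (δ.left ≫ pullback.fst g G.t) ≫ (g ≫ G.pU) = m ≫ Y.hom := by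
      refine Eq.trans ?_ hδw
      simp only [Category.assoc]
      rw [pullback.condition_assoc, G.t_over, G.s_over]
    have hρ : (δ.left ≫ pullback.snd g G.t) ≫ G.pR = m ≫ Y.hom := by
      refine Eq.trans ?_ hδw
      simp only [Category.assoc]
      rw [G.s_over]
    refine ⟨Over.homMk (δ.left ≫ pullback.fst g G.t) hu, Over.homMk (δ.left ≫ pullback.snd g G.t) hρ,
      ?_, ?_⟩
    · apply Over.OverMorphism.ext
      simp only [Over.comp_left, Over.homMk_left, Category.assoc]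
      rw [pullback.condition]
    · apply Over.OverMorphism.ext
      simp only [Over.comp_left, Over.homMk_left, Category.assoc]
      calc δ.left ≫ pullback.snd g G.t ≫ G.s = δ.left ≫ (hlift ≫ W.ι) :=
            congrArg (fun x => δ.left ≫ x) hh.symm
        _ = (δ.left ≫ hlift) ≫ W.ι := (Category.assoc _ _ _).symm
        _ = (m ≫ bW) ≫ W.ι := by rw [hδl]
        _ = m ≫ b.left := by rw [Category.assoc, hbW]

end Groth.Agent.S10141
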