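import Groth.Statements.S10146
import Groth.Agent.R2.H84GpdPointLift
import Groth.Agent.R2.H84AutExt

set_option autoImplicit false
universe u
open CategoryTheory CategoryTheory.Limits AlgebraicGeometry
open AlgSp AlgSp.GroupoidSp

namespace Groth.Agent.S10146

/-- Let `(U, R, s, t, c)` be a groupoid in algebraic spaces over `B` whose object space is `U = Spec k`.
For every point `r` of `R` there are an algebraically closed field extension `k'` of `k` and, on the
restriction `(U', R', s', t', c')` along `Spec k' ⟶ Spec k`, a morphism `r' : Spec k' ⟶ R'` mapping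
to `r` in `R` such that `s' ∘ r'` and `t' ∘ r'` are automorphisms of `Spec k'`. -/
theorem result (S : Scheme.{u}) (B : AlgSp.Sp S) (hB : AlgSp.IsAlgSpace B)
    (G : AlgSp.GroupoidSp B) (hR : AlgSp.IsAlgSpace G.R) (k : Type u) [Field k]
    (σ : Spec (CommRingCat.of k) ⟶ S) (eU : G.U ≅ (AlgSp.yon S).obj (Over.mk σ)) (r : AlgSp.Points G.R) :
    ∃ (k' : Type u) (_ : Field k') (_ : Algebra k k'), IsAlgClosed k' ∧
      ∀ (G' : AlgSp.GroupoidSp B) (φ : AlgSp.GroupoidSp.Hom G' G), φ.IsRestriction → AlgSp.IsAlgSpace G'.R →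
        ∀ (eU' : G'.U ≅ (AlgSp.yon S).obj (Over.mk (Spec.map (CommRingCat.ofHom (algebraMap k k')) ≫ σ))),
          φ.fU = eU'.hom ≫ (AlgSp.yon S).map (Over.homMk (Spec.map (CommRingCat.ofHom (algebraMap k k'))) rfl :
            Over.mk (Spec.map (CommRingCat.ofHom (algebraMap k k')) ≫ σ) ⟶ Over.mk σ) ≫ eU.inv →
          ∃ r' : G'.U ⟶ G'.R, (∀ x : AlgSp.Points G'.U, AlgSp.Points.map (r' ≫ φ.fR) x = r) ∧
            IsIso (r' ≫ G'.s) ∧ IsIso (r' ≫ G'.t) := by
  classical
  obtain ⟨q, rfl⟩ := AlgSp.Points.mk_surjective r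
  obtain ⟨ms, hms⟩ := (AlgSp.yon S).map_surjective (q.toHom ≫ G.s ≫ eU.hom)
  obtain ⟨mt, hmt⟩ := (AlgSp.yon S).map_surjective (q.toHom ≫ G.t ≫ eU.hom)
  -- the two ring maps `k → K`
  obtain ⟨fs, hfs⟩ : ∃ fs : CommRingCat.of k ⟶ CommRingCat.of q.K, Spec.map fs = ms.left :=
    ⟨Spec.preimage ms.left, Spec.map_preimage _⟩
  obtain ⟨ft, hft⟩ : ∃ ft : CommRingCat.of k ⟶ CommRingCat.of q.K, Spec.map ft = mt.left :=
    ⟨Spec.preimage mt.left, Spec.map_preimage _⟩
  have ws : Spec.map fs ≫ σ = q.str := by rw [hfs]; exact Over.w ms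
  have wt : Spec.map ft ≫ σ = q.str := by rw [hft]; exact Over.w mt
  obtain ⟨k', hF, hC, τ, α, hα⟩ := Groth.Agent.R2.H84.AutExt.exists_aut_extending fs.hom ft.hom
  let _ : Algebra k k' := (τ.comp fs.hom).toAlgebra
  refine ⟨k', hF, inferInstance, hC, ?_⟩
  intro G' φ hφ _ eU' hfU
  -- Spec-level identities
  have hπ : Spec.map (CommRingCat.ofHom (algebraMap k k')) =
      Spec.map (CommRingCat.ofHom τ) ≫ Spec.map fs := by
    rw [← Spec.map_comp]
    rfl
  have hE : Spec.map (CommRingCat.ofHom (α : k' →+* k')) ≫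
      Spec.map (CommRingCat.ofHom (algebraMap k k')) =
      Spec.map (CommRingCat.ofHom τ) ≫ Spec.map ft := by
    rw [← Spec.map_comp, ← Spec.map_comp]
    congr 1
    ext x
    exact hα x
  have wτ : Spec.map (CommRingCat.ofHom τ) ≫ q.str =
      Spec.map (CommRingCat.ofHom (algebraMap k k')) ≫ σ := by
    rw [hπ, Category.assoc, ws]
  have wα : Spec.map (CommRingCat.ofHom (α : k' →+* k')) ≫
      (Spec.map (CommRingCat.ofHom (algebraMap k k')) ≫ σ) =
      Spec.map (CommRingCat.ofHom (algebraMap k k')) ≫ σ := by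
    rw [← Category.assoc, hE, Category.assoc, wt, wτ]
  have wα' : Spec.map (CommRingCat.ofHom (α.symm : k' →+* k')) ≫
      (Spec.map (CommRingCat.ofHom (algebraMap k k')) ≫ σ) =
      Spec.map (CommRingCat.ofHom (algebraMap k k')) ≫ σ := by
    conv_lhs => rw [← wα]
    rw [← Category.assoc, ← Spec.map_comp]
    have : CommRingCat.ofHom (α : k' →+* k') ≫ CommRingCat.ofHom (α.symm : k' →+* k') = 𝟙 _ := by
      ext x; simp
    rw [this, Spec.map_id, Category.id_comp]
  let τO : Over.mk (Spec.map (CommRingCat.ofHom (algebraMap k k')) ≫ σ) ⟶ q.pt :=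
    Over.homMk (Spec.map (CommRingCat.ofHom τ)) wτ
  let αO : Over.mk (Spec.map (CommRingCat.ofHom (algebraMap k k')) ≫ σ) ≅
      Over.mk (Spec.map (CommRingCat.ofHom (algebraMap k k')) ≫ σ) :=
    { hom := Over.homMk (Spec.map (CommRingCat.ofHom (α : k' →+* k'))) wα
      inv := Over.homMk (Spec.map (CommRingCat.ofHom (α.symm : k' →+* k'))) wα'
      hom_inv_id := by
        apply Over.OverMorphism.ext
        change Spec.map (CommRingCat.ofHom (α : k' →+* k')) ≫
          Spec.map (CommRingCat.ofHom (α.symm : k' →+* k')) = 𝟙 _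
        rw [← Spec.map_comp]
        have : CommRingCat.ofHom (α.symm : k' →+* k') ≫ CommRingCat.ofHom (α : k' →+* k') = 𝟙 _ := by
          ext x; simp
        rw [this, Spec.map_id]
      inv_hom_id := by
        apply Over.OverMorphism.ext
        change Spec.map (CommRingCat.ofHom (α.symm : k' →+* k')) ≫
          Spec.map (CommRingCat.ofHom (α : k' →+* k')) = 𝟙 _
        rw [← Spec.map_comp]
        have : CommRingCat.ofHom (α : k' →+* k') ≫ CommRingCat.ofHom (α.symm : k' →+* k') = 𝟙 _ := by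
          ext x; simp
        rw [this, Spec.map_id] }
  have C1 : τO ≫ ms = (Over.homMk (Spec.map (CommRingCat.ofHom (algebraMap k k'))) rfl :
      Over.mk (Spec.map (CommRingCat.ofHom (algebraMap k k')) ≫ σ) ⟶ Over.mk σ) := by
    apply Over.OverMorphism.ext
    change Spec.map (CommRingCat.ofHom τ) ≫ ms.left = Spec.map (CommRingCat.ofHom (algebraMap k k'))
    rw [hπ, hfs]
  have C2 : αO.hom ≫ (Over.homMk (Spec.map (CommRingCat.ofHom (algebraMap k k'))) rfl :
      Over.mk (Spec.map (CommRingCat.ofHom (algebraMap k k')) ≫ σ) ⟶ Over.mk σ) = τO ≫ mt := by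
    apply Over.OverMorphism.ext
    change Spec.map (CommRingCat.ofHom (α : k' →+* k')) ≫
      Spec.map (CommRingCat.ofHom (algebraMap k k')) = Spec.map (CommRingCat.ofHom τ) ≫ mt.left
    rw [hE, hft]
  obtain ⟨r', hr1, hr2, hr3⟩ := Groth.Agent.R2.H84.GpdPointLift.exists_lift_restriction φ hφ eU eU'
    _ hfU q.toHom ms mt hms hmt τO αO C1 C2
  refine ⟨r', fun x => ?_, hr2, hr3⟩
  rw [hr1, ← Category.assoc]
  exact Groth.Agent.R2.H84.GpdPointLift.points_map_comp_toHom q _ x

end Groth.Agent.S10146
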