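import Groth.Statements.S1015
import Groth.Agent.S0998
import Groth.Agent.R2.H28DerBase
import Groth.Agent.R2.H28HasRpush
import Groth.Agent.R2.H5DQCohAff1
import Groth.Agent.R2.H5LpullQCoh

set_option autoImplicit false
set_option linter.style.haveILetI false
universe u
open CategoryTheory CategoryTheory.Limits AlgebraicGeometry
attribute [local instance] HasDerivedCategory.standard
open Perf

namespace Groth.Agent.S1015

/-- Let U ⊆ X be an open subscheme whose inclusion is quasi-compact. Every object F of D(O_U) with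
quasi-coherent cohomology sheaves is the restriction of such an object on X: there is a complex G of
O_X-modules with quasi-coherent cohomology sheaves whose termwise restriction to U is isomorphic to
F in D(O_U). -/
theorem result (X : Scheme.{u}) (U : X.Opens) [QuasiCompact U.ι]
    (F : DCoh.D (U : Scheme.{u})) (hF : DCoh.IsQCohD F) :
    ∃ G : CochainComplex X.Modules ℤ, DCoh.IsQCohD (DCoh.toD X G) ∧
      Nonempty (DerivedCategory.Q.obj ((DCoh.restrictCx U).obj G) ≅ F) := by
  open Groth.Agent.R2.H28.DerBase Groth.Agent.R2.H5.DQCohAff in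
  haveI : DCoh.HasRpush U.ι := Groth.Agent.R2.H28.HasRpush.hasRpush _
  obtain ⟨I, s, hI, hs⟩ := exists_kInjective_resolution_modules (U : Scheme.{u})
    (DerivedCategory.Q.objPreimage F)
  haveI := hI
  haveI : IsIso (DerivedCategory.Q.map s) := by
    rw [DerivedCategory.isIso_Q_map_iff_quasiIso]; exact hs
  let e : F ≅ DerivedCategory.Q.obj I :=
    (DerivedCategory.Q.objObjPreimageIso F).symm ≪≫ asIso (DerivedCategory.Q.map s)
  refine ⟨((Scheme.Modules.pushforward U.ι).mapHomologicalComplex (ComplexShape.up ℤ)).obj I, ?_, ⟨?_⟩⟩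
  · have h1 : DCoh.IsQCohD ((DCoh.Rpush U.ι).obj (DerivedCategory.Q.obj I)) :=
      Groth.Agent.S0998.result U.ι _ (Groth.Agent.R2.H5.LpullQCoh.isQCohD_of_iso e hF)
    exact Groth.Agent.R2.H5.LpullQCoh.isQCohD_of_iso (rpushIso U.ι I).symm h1
  · refine DerivedCategory.Q.mapIso ?_ ≪≫ e.symm
    exact (compCxIso (Scheme.Modules.pushforward U.ι) (Scheme.Modules.restrictFunctor U.ι)).symm.app I ≪≫
      (NatIso.mapHomologicalComplex (Scheme.Modules.restrictFunctorAdjCounitIso U.ι)
        (ComplexShape.up ℤ)).app I ≪≫
      (Functor.mapHomologicalComplexIdIso _ _).app I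

end Groth.Agent.S1015
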