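import Groth.Statements.S10199
import Mathlib
import Groth.Agent.R2.H46Sober
import Groth.Agent.S10350
import Groth.Agent.S10338

set_option autoImplicit false
set_option linter.style.haveILetI false
universe u
open CategoryTheory CategoryTheory.Limits AlgebraicGeometry Topology TopologicalSpace
open AlgSp

namespace Groth.Agent.S10199

open Groth.Agent.R2.H46.Sober

/-- Let X be an algebraic space over a scheme S that is Zariski locally quasi-separated over S (X has a
Zariski covering by open subspaces whose diagonals over S are quasi-compact; for instance X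
quasi-separated over S). Then |X| is a sober topological space. (Being Zariski locally
quasi-separated over S is the same as the absolute notion, so no hypothesis on S is needed.) -/
theorem result {S : Scheme.{u}} (X : AlgSp.Space S)
    (hX : ∃ (ι : Type u) (Xi : ι → AlgSp.Space S) (j : ∀ i, Xi i ⟶ X),
        AlgSp.IsZarCover (fun i => (Xi i).obj) (fun i => (j i).hom) ∧ ∀ i, AlgSp.IsQuasiSeparatedSp (Xi i).obj) :
    QuasiSober (AlgSp.Points X.obj) ∧ T0Space (AlgSp.Points X.obj) := by
  obtain ⟨ι, Xi, j, ⟨hj, hcov⟩, hqs⟩ := hX
  have he : ∀ i, IsOpenEmbedding (AlgSp.Points.map (j i).hom) := fun i =>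
    IsOpenEmbedding.of_continuous_injective_isOpenMap (AlgSp.Points.continuous_map _)
      (Groth.Agent.Lib.Helper12.LargestOpen.injective_map_of_open _ (hj i))
      (Groth.Agent.Lib.Helper12.OpenSub.isOpenMap_map_of_open _ (hj i))
  haveI : ∀ i, QuasiSober (AlgSp.Points (Xi i).obj) := fun i =>
    quasiSober_of_isQuasiSeparatedSp (Xi i).property (hqs i)
  haveI : ∀ i, T0Space (AlgSp.Points (Xi i).obj) := fun i =>
    Groth.Agent.S10338.result (Xi i) (Groth.Agent.S10350.result (Xi i) (hqs i))
  exact ⟨quasiSober_of_open_cover' (fun i => AlgSp.Points.map (j i).hom) he hcov,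
    t0Space_of_open_cover' (fun i => AlgSp.Points.map (j i).hom) he hcov⟩

end Groth.Agent.S10199
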