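import Groth.Statements.S10201
import Mathlib
import Groth.Agent.R2.H46Spectral
import Groth.Agent.S10350
import Groth.Agent.S10338

set_option autoImplicit false
set_option linter.style.haveILetI false
universe u
open CategoryTheory CategoryTheory.Limits AlgebraicGeometry Topology TopologicalSpace
open AlgSp

namespace Groth.Agent.S10201

/-- Let S be a quasi-separated scheme and X a quasi-compact algebraic space over S whose diagonal over S
is quasi-compact. Then |X| is a spectral space. (The published statement assumes X quasi-separated
in the absolute sense; over a quasi-separated base that is the same as quasi-separated over S, while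
for S quasi-compact and not quasi-separated the space h_S is quasi-compact with quasi-compact
diagonal over S and |h_S| = |S| is not spectral.) -/
theorem result {S : Scheme.{u}} [QuasiSeparatedSpace ↥S]
    (X : AlgSp.Space S) (hqc : AlgSp.IsQuasiCompactSp X.obj) (hqs : AlgSp.IsQuasiSeparatedSp X.obj) :
    SpectralSpace (AlgSp.Points X.obj) := by
  haveI : T0Space (AlgSp.Points X.obj) :=
    Groth.Agent.S10338.result X (Groth.Agent.S10350.result X hqs)
  exact Groth.Agent.R2.H46.Spectral.spectralSpace_points X.property hqc hqs

end Groth.Agent.S10201
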