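import Mathlib
import Groth.Statements.S10204
import Groth.Agent.R2.H45FinEtQuot2
import Groth.Agent.S10197
import Groth.Agent.S10177

set_option autoImplicit false
set_option linter.style.haveILetI false
universe u
open CategoryTheory CategoryTheory.Limits AlgebraicGeometry Topology TopologicalSpace
open AlgSp

namespace Groth.Agent.S10204

/-- Let X be an algebraic space over a scheme S that admits a map h_U ⟶ X from a quasi-separated scheme
U which is representable finite, etale and surjective. Then X contains an open subspace X' ⟶ X that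
is a scheme (its underlying sheaf is representable), whose points form a dense subset of |X| that
includes every codimension 0 point of X (every point x of |X| such that some etale chart h_V ⟶ X and
some point v of V over x have a zero-dimensional local ring O_{V,v}). -/
theorem result {S : Scheme.{u}} (X : AlgSp.Space S) {U : Over S}
    (a : (AlgSp.yon S).obj U ⟶ X.obj) (hf : AlgSp.RepWith @IsFinite a) (he : AlgSp.RepWith @Etale a)
    (hs : AlgSp.RepWith @Surjective a) [QuasiSeparatedSpace ↥U.left] :
    ∃ (X' : AlgSp.Space S) (j : X' ⟶ X), AlgSp.RepWith @IsOpenImmersion j.hom ∧ X'.obj.obj.IsRepresentable ∧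
      Dense (Set.range (AlgSp.Points.map j.hom)) ∧
      ∀ x : AlgSp.Points X.obj, AlgSp.HasAt (fun U u => ringKrullDim ↥(U.presheaf.stalk u) = 0) X.obj x →
        x ∈ Set.range (AlgSp.Points.map j.hom) := by
  obtain ⟨R, s, t', sq⟩ := he.1 a
  obtain ⟨t, rfl⟩ := (AlgSp.yon S).map_surjective t'
  have hsf : IsFinite s.left := hf.property a _ s sq
  have htf : IsFinite t.left := hf.property a _ t sq.flip
  haveI hset : Etale s.left := he.property a _ s sq
  haveI htet : Etale t.left := he.property a _ t sq.flip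
  -- every point of `U` with zero-dimensional local ring maps to a schematic point
  have key : ∀ u : ↥U.left, ringKrullDim ↥(U.left.presheaf.stalk u) = 0 →
      Groth.Agent.R2.H59.QPts.SchAt X.obj (AlgSp.Points.ofPt a u) := by
    intro u hu
    let O : Set ↥U.left := t.left '' (s.left ⁻¹' {u})
    have hO : O.Finite := by
      haveI := hsf
      exact (s.left.finite_preimage_singleton u).image _
    have hOd : ∀ z ∈ O, ringKrullDim ↥(U.left.presheaf.stalk z) = 0 := by
      rintro _ ⟨r, hr, rfl⟩
      have hr' : s.left r = u := hr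
      rw [← Groth.Agent.R2.H45.Dim.ringKrullDim_stalk_eq_of_etale t.left r,
        Groth.Agent.R2.H45.Dim.ringKrullDim_stalk_eq_of_etale s.left r, hr']
      exact hu
    obtain ⟨V, hV, hOV⟩ :=
      Groth.Agent.R2.H45.FinEtQuot.exists_isAffineOpen_of_finite_dim_zero U.left O hO hOd
    exact Groth.Agent.R2.H45.FinEtQuot.schAt_of_orbit_subset_affine a he s t sq hsf htf u V hV
      (fun r hr => hOV ⟨r, hr, rfl⟩)
  obtain ⟨X', j, hjo, hrep, hmax⟩ := Groth.Agent.S10197.result X
  have hmem : ∀ x, Groth.Agent.R2.H59.QPts.SchAt X.obj x →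
      x ∈ Set.range (AlgSp.Points.map j.hom) := by
    rintro x ⟨W, i, hi, w, rfl⟩
    obtain ⟨k, hk⟩ := hmax ⟨(AlgSp.yon S).obj W, AlgSp.IsAlgSpace.yon_obj W⟩
      (ObjectProperty.homMk i) hi ⟨W, ⟨AlgSp.representableByOfIso (Iso.refl _)⟩⟩
    refine ⟨AlgSp.Points.map k.hom (AlgSp.Points.ofScheme W w), ?_⟩
    have hk' : k.hom ≫ j.hom = i := congrArg (fun m => m.hom) hk
    rw [← AlgSp.Points.map_comp, hk', AlgSp.Points.ofPt_eq_map_ofScheme]
  have hcod : ∀ x : AlgSp.Points X.obj,
      AlgSp.HasAt (fun U u => ringKrullDim ↥(U.presheaf.stalk u) = 0) X.obj x →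
        x ∈ Set.range (AlgSp.Points.map j.hom) := by
    intro x hx
    obtain ⟨u, rfl⟩ := Groth.Agent.S10177.surjective_ofPt a hs x
    exact hmem _ (key u ((Groth.Agent.R2.H45.HasAt.hasAt_iff_of_chart
      (Groth.Agent.R2.H45.HasAtMor.etInv_ringKrullDim_stalk (· = 0)) a he u).1 hx))
  refine ⟨X', j, hjo, hrep, ?_, hcod⟩
  rw [dense_iff_inter_open]
  intro O hO hOne
  have hpre : IsOpen (AlgSp.Points.ofPt a ⁻¹' O) := hO.preimage (AlgSp.Points.continuous_ofPt a)
  have hne : (AlgSp.Points.ofPt a ⁻¹' O).Nonempty := by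
    obtain ⟨x, hx⟩ := hOne
    obtain ⟨u, rfl⟩ := Groth.Agent.S10177.surjective_ofPt a hs x
    exact ⟨u, hx⟩
  obtain ⟨u, huO, hu⟩ := Groth.Agent.R2.H45.FinEtQuot.exists_dim_zero_mem U.left _ hpre hne
  exact ⟨AlgSp.Points.ofPt a u, huO, hmem _ (key u hu)⟩

end Groth.Agent.S10204
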