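import Mathlib
import Groth.Statements.S10205
import Groth.Agent.R2.H45FieldQuot

set_option autoImplicit false
set_option linter.style.haveILetI false
universe u
open CategoryTheory CategoryTheory.Limits AlgebraicGeometry Topology TopologicalSpace
open AlgSp

namespace Groth.Agent.S10205

/-- Let X be an algebraic space over a scheme S, k a field with a structure morphism Spec k ⟶ S, and p :
h_{Spec k} ⟶ X a surjective etale map. If the diagonal of X over S is quasi-compact, then X ≅
h_{Spec k'} for a field k' over S, where p corresponds to a finite etale morphism Spec k ⟶ Spec k'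
over S (that is, k is a finite separable extension of k'). (The published statement assumes X
quasi-separated in the absolute sense; the argument only uses that Spec k ×_X Spec k is
quasi-compact, which already follows from quasi-compactness of the diagonal over S since Spec k ×_S
Spec k is affine.) -/
theorem result {S : Scheme.{u}} (X : AlgSp.Space S)
    (hX : AlgSp.IsQuasiSeparatedSp X.obj) (k : Type u) [Field k] (str : Spec (CommRingCat.of k) ⟶ S)
    (p : (AlgSp.yon S).obj (Over.mk str) ⟶ X.obj) (hp : AlgSp.RepWith @Etale p) (hs : AlgSp.RepWith @Surjective p) :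
    ∃ (k' : Type u) (_ : Field k') (str' : Spec (CommRingCat.of k') ⟶ S)
      (e : (AlgSp.yon S).obj (Over.mk str') ≅ X.obj) (c : Over.mk str ⟶ Over.mk str'),
      (AlgSp.yon S).map c ≫ e.hom = p ∧ IsFinite c.left ∧ Etale c.left := by
  let q : AlgSp.FieldPt X.obj := ⟨k, str, (AlgSp.J S).uliftYonedaEquiv p⟩
  have hq : q.toHom = p := (AlgSp.J S).uliftYonedaEquiv.symm_apply_apply p
  have hp' : AlgSp.RepWith @Etale q.toHom := by rw [hq]; exact hp
  have hs' : AlgSp.RepWith @Surjective q.toHom := by rw [hq]; exact hs
  have hc : ∀ (R : Over S) (s t : R ⟶ q.pt),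
      IsPullback ((AlgSp.yon S).map t) ((AlgSp.yon S).map s) q.toHom q.toHom →
        CompactSpace ↥R.left := by
    intro R s t sq
    haveI : QuasiCompact (prod.lift t s).left :=
      Groth.Agent.S9920.property_of_repWith_diag hX sq
    haveI : IsAffine q.pt.left := inferInstanceAs (IsAffine (Spec (CommRingCat.of k)))
    obtain ⟨W, hW, hxW⟩ : ∃ W : S.Opens, IsAffineOpen W ∧
        str (IsLocalRing.closedPoint k) ∈ W := by
      obtain ⟨_, ⟨W, hW, rfl⟩, hxW, -⟩ := S.isBasis_affineOpens.exists_subset_of_mem_open
        (Set.mem_univ (str (IsLocalRing.closedPoint k))) isOpen_univ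
      exact ⟨W, hW, hxW⟩
    haveI : CompactSpace ↥(q.pt ⨯ q.pt : Over S).left :=
      Groth.Agent.S10198.compactSpace_prod_of_affine q.pt W hW (fun v => by
        have hv : v = IsLocalRing.closedPoint k :=
          (inferInstance : Subsingleton (PrimeSpectrum k)).elim _ _
        rw [hv]
        exact hxW)
    exact QuasiCompact.compactSpace_of_compactSpace (prod.lift t s).left
  obtain ⟨p', c, hcp, hiso, hfin, het⟩ :=
    Groth.Agent.R2.H45.FieldQuot.exists_iso_of_etale_surjective q hp' hs' hc
  haveI := hiso
  exact ⟨p'.K, inferInstance, p'.str, asIso p'.toHom, c, by rw [asIso_hom, hcp, hq], hfin, het⟩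

end Groth.Agent.S10205
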