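import Mathlib
import Groth.Statements.S10206
import Groth.Agent.R2.H45EtField
import Groth.Agent.S10195
import Groth.Agent.S10196
import Groth.Agent.S10176
import Groth.Agent.S10177
import Groth.Agent.Lib.Helper12ZarGlue2

set_option autoImplicit false
set_option linter.style.haveILetI false
universe u
open CategoryTheory CategoryTheory.Limits AlgebraicGeometry Topology TopologicalSpace
open AlgSp

namespace Groth.Agent.S10206

/-- Let X be an algebraic space over a scheme S and X ⟶ h_{Spec k} an etale morphism of algebraic spaces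
over S, where k is a field and Spec k is given a structure morphism to S. Then X is a scheme (its
underlying sheaf is representable by a scheme over S). -/
theorem result {S : Scheme.{u}} (X : AlgSp.Space S)
    (k : Type u) [Field k] (str : Spec (CommRingCat.of k) ⟶ S)
    (f : X.obj ⟶ (AlgSp.yon S).obj (Over.mk str)) (hf : AlgSp.IsEtaleMor f) :
    X.obj.obj.IsRepresentable := by
  obtain ⟨U, a, hae, has⟩ := X.property.atlas
  have hfa : AlgSp.RepWith @Etale (a ≫ f) := hf a hae
  obtain ⟨g, hg⟩ := (AlgSp.yon S).map_surjective (a ≫ f)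
  haveI hge : Etale g.left := (AlgSp.repWith_yon_map_iff _ g).1 (hg ▸ hfa)
  haveI : IsReduced (Over.mk str).left := inferInstanceAs (IsReduced (Spec (CommRingCat.of k)))
  haveI : IsReduced U.left := Groth.Agent.Lib.Helper12.Reduced.isReduced_of_smooth g.left
  haveI : LocallyQuasiFinite g.left := Groth.Agent.S10265.locallyQuasiFinite_of_unramified g.left
  haveI : IsLocallyArtinian (Over.mk str).left := by
    show IsLocallyArtinian (Spec (CommRingCat.of k))
    exact Scheme.isLocallyArtinianScheme_Spec.mpr inferInstance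
  haveI : IsLocallyArtinian U.left := IsLocallyArtinian.of_locallyQuasiFinite g.left
  haveI : DiscreteTopology ↥U.left := inferInstance
  have key : ∀ u : ↥U.left, ∃ (V : Over S) (φ : (AlgSp.yon S).obj V ⟶ X.obj),
      AlgSp.RepWith @IsOpenImmersion φ ∧
        AlgSp.Points.ofPt a u ∈ Set.range (AlgSp.Points.map φ) := by
    intro u
    obtain ⟨K, _, ι, hι, hιu⟩ := Groth.Agent.R2.H45.EtField.exists_field_open_nbhd U.left u
    let strK : Spec (CommRingCat.of K) ⟶ S := ι ≫ U.hom
    let ιo : Over.mk strK ⟶ U := Over.homMk ι rfl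
    let φ₀ : (AlgSp.yon S).obj (Over.mk strK) ⟶ X.obj := (AlgSp.yon S).map ιo ≫ a
    have hφ₀ : AlgSp.RepWith @Etale φ₀ :=
      (AlgSp.RepWith @Etale).comp_mem _ _
        ((AlgSp.repWith_yon_map_iff _ _).2 (inferInstanceAs (Etale ι))) hae
    have hopen : IsOpen (Set.range (AlgSp.Points.ofPt φ₀)) :=
      (Groth.Agent.S10176.result X φ₀ hφ₀).isOpen_range
    obtain ⟨X', j, hjo, hrange⟩ := Groth.Agent.S10195.result X _ hopen
    obtain ⟨a', ha1, ha2, ha3, -⟩ := Groth.Agent.S10196.result φ₀ hφ₀ j hjo hrange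
    let q : AlgSp.FieldPt X'.obj := ⟨K, strK, (AlgSp.J S).uliftYonedaEquiv a'⟩
    have hq : q.toHom = a' := (AlgSp.J S).uliftYonedaEquiv.symm_apply_apply a'
    have hg' : (AlgSp.yon S).map (ιo ≫ g) = q.toHom ≫ (j.hom ≫ f) := by
      rw [hq, ← Category.assoc, ha1, Functor.map_comp, hg, Category.assoc]
    haveI : LocallyQuasiFinite (ιo ≫ g).left := by
      show LocallyQuasiFinite (ι ≫ g.left)
      infer_instance
    haveI : QuasiCompact (ιo ≫ g).left := by
      show QuasiCompact (ι ≫ g.left)
      haveI : IsAffine (Over.mk str).left := inferInstanceAs (IsAffine (Spec (CommRingCat.of k)))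
      infer_instance
    have hc : ∀ (R : Over S) (s t : R ⟶ q.pt),
        IsPullback ((AlgSp.yon S).map t) ((AlgSp.yon S).map s) q.toHom q.toHom →
          CompactSpace ↥R.left := by
      intro R s t sq
      haveI := Groth.Agent.R2.H45.EtField.finite_of_isPullback q (j.hom ≫ f) (ιo ≫ g) hg' s t sq
      infer_instance
    obtain ⟨p, c, hcp, hiso, -, -⟩ :=
      Groth.Agent.R2.H45.FieldQuot.exists_iso_of_etale_surjective q (hq ▸ ha2) (hq ▸ ha3) hc
    haveI := hiso
    refine ⟨p.pt, p.toHom ≫ j.hom, ?_, ?_⟩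
    · exact (MorphismProperty.cancel_left_of_respectsIso (AlgSp.RepWith @IsOpenImmersion)
        p.toHom j.hom).2 hjo
    · have h1 : AlgSp.Points.ofPt a u = AlgSp.Points.ofPt φ₀ (IsLocalRing.closedPoint K) := by
        rw [Groth.Agent.S10176.ofPt_map_comp]
        congr 1
        exact hιu.symm
      have h2 : AlgSp.Points.ofPt a u ∈ Set.range (AlgSp.Points.map j.hom) := by
        rw [hrange, h1]
        exact ⟨_, rfl⟩
      obtain ⟨y, hy⟩ := h2
      refine ⟨AlgSp.Points.map (inv p.toHom) y, ?_⟩
      rw [← AlgSp.Points.map_comp, IsIso.inv_hom_id_assoc]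
      exact hy
  choose V φ hφ hu using key
  have hs : Groth.Agent.Lib.Helper12.ZarGlue.JointlySurjective hφ := by
    intro T γ t
    obtain ⟨u, hu'⟩ := Groth.Agent.S10177.surjective_ofPt a has (AlgSp.Points.ofPt γ t)
    refine ⟨u, Groth.Agent.Lib.Helper12.ZarGlue.mem_range_of_mem_range_map (φ u) γ _ _
      ((hφ u).rep.isPullback γ) t ?_⟩
    rw [← hu']
    exact hu u
  obtain ⟨W₀, e₀, -, -, -⟩ := Groth.Agent.Lib.Helper12.ZarGlue.exists_iso hφ hs
  exact ⟨W₀, ⟨AlgSp.representableByOfIso e₀⟩⟩

end Groth.Agent.S10206
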