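import Groth.Statements.S10216
import Groth.Agent.R2.H45HasAt
import Groth.Agent.Lib.Helper9SpPoint6

set_option autoImplicit false
set_option backward.isDefEq.respectTransparency false
universe u
open CategoryTheory CategoryTheory.Limits AlgebraicGeometry Topology TopologicalSpace
open AlgSp

namespace Groth.Agent.S10216

open Groth.Agent.R2.H45

/-- a geometric point whose image in `|X|` is the image of the point `v` of an étale chart lifts to the
chart, through `v`. -/
theorem exists_lift_through {S : Scheme.{u}} {X : AlgSp.Sp S} (p : AlgSp.FieldPt X)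
    (hp : p.IsGeometric) {V : Over S} (b : (AlgSp.yon S).obj V ⟶ X) (hb : AlgSp.RepWith @Etale b)
    (v : ↥V.left) (h : AlgSp.Points.ofPt b v = AlgSp.Points.mk p) :
    ∃ σ : p.pt ⟶ V, (AlgSp.yon S).map σ ≫ b = p.toHom ∧
      σ.left (IsLocalRing.closedPoint p.K) = v := by
  haveI : IsAlgClosed p.K := hp
  haveI : IsSepClosed p.K := inferInstance
  obtain ⟨Ω, hΩ, w, a', b', hab⟩ :=
    Groth.Agent.Lib.Helper9.SpPoint.rel_toHom (AlgSp.Points.mk_eq_mk_iff.1 h)
  rw [AlgSp.FieldPt.toHom_ofPt, ← Category.assoc, ← Functor.map_comp] at hab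
  have hrep := hb.1
  have hpb := hrep.isPullback p.toHom
  have het : Etale (hrep.snd p.toHom).left := hb.2 p.toHom _ _ hpb
  let c := hrep.lift' (a' ≫ Over.homMk (V.left.fromSpecResidueField v) rfl) b' hab
  let y : (hrep.pullback p.toHom).left := c.left (IsLocalRing.closedPoint Ω)
  have hc1 : c ≫ hrep.fst' p.toHom = a' ≫ Over.homMk (V.left.fromSpecResidueField v) rfl :=
    hrep.lift'_fst _ _ _
  have hy1 : (hrep.fst' p.toHom).left y = v := by
    change (hrep.fst' p.toHom).left (c.left (IsLocalRing.closedPoint Ω)) = v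
    rw [← Scheme.Hom.comp_apply, ← Over.comp_left, hc1, Over.comp_left, Scheme.Hom.comp_apply]
    exact Scheme.fromSpecResidueField_apply _ _
  obtain ⟨l, hl1, hl2⟩ := Scheme.exists_fac_of_etale_of_isSepClosed (hrep.snd p.toHom).left
    (𝟙 (Spec (CommRingCat.of p.K))) y
    (Subsingleton.elim (α := Spec (CommRingCat.of p.K)) _ _)
  have h1 : (hrep.snd p.toHom).left ≫ p.str = (hrep.pullback p.toHom).hom := Over.w (hrep.snd p.toHom)
  have h3 : l ≫ (hrep.pullback p.toHom).hom = p.str := by
    rw [← h1, ← Category.assoc, hl1, Category.id_comp]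
  let σ0 : p.pt ⟶ hrep.pullback p.toHom := Over.homMk l h3
  have hσ0 : σ0 ≫ hrep.snd p.toHom = 𝟙 _ := by
    apply Over.OverMorphism.ext
    exact hl1
  refine ⟨σ0 ≫ hrep.fst' p.toHom, ?_, ?_⟩
  · rw [Functor.map_comp, Category.assoc, hrep.map_fst', hpb.w, ← Category.assoc,
      ← Functor.map_comp, hσ0, CategoryTheory.Functor.map_id, Category.id_comp]
  · rw [Over.comp_left, Scheme.Hom.comp_apply]
    change (hrep.fst' p.toHom).left (l (IsLocalRing.closedPoint p.K)) = v
    have hcp : l (IsLocalRing.closedPoint p.K) = y := by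
      rw [← hl2]
      congr 1
      exact Subsingleton.elim (α := Spec (CommRingCat.of p.K)) _ _
    rw [hcp]
    exact hy1

/-- Let φ : U ⟶ X be an etale morphism of algebraic spaces over a scheme S, take a geometric point x̄ :
Spec k ⟶ X of X whose image in |X| is x, and let u ∈ |U| with φ(u) = x. Then there is a geometric
point ū : Spec k ⟶ U (with the same field k) lying over u and with φ ∘ ū = x̄. -/
theorem result {S : Scheme.{u}} {U X : AlgSp.Space S} (φ : U ⟶ X)
    (hφ : AlgSp.IsEtaleMor φ.hom) (xbar : AlgSp.FieldPt X.obj) (hx : xbar.IsGeometric)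
    (u : AlgSp.Points U.obj) (hu : AlgSp.Points.map φ.hom u = AlgSp.Points.mk xbar) :
    ∃ ubar : (AlgSp.yon S).obj xbar.pt ⟶ U.obj,
      ubar ≫ φ.hom = xbar.toHom ∧ AlgSp.Points.ofPt ubar (IsLocalRing.closedPoint xbar.K) = u := by
  obtain ⟨W, a, w, ha, -, rfl⟩ := HasAt.exists_chart U.property u
  have hb : AlgSp.RepWith @Etale (a ≫ φ.hom) := hφ a ha
  rw [AlgSp.Points.map_ofPt] at hu
  obtain ⟨σ, hσ1, hσ2⟩ := exists_lift_through xbar hx (a ≫ φ.hom) hb w hu
  refine ⟨(AlgSp.yon S).map σ ≫ a, ?_, ?_⟩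
  · rw [Category.assoc]; exact hσ1
  · rw [Groth.Agent.S10176.ofPt_map_comp, hσ2]

end Groth.Agent.S10216
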