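import Groth.Statements.S1022
import Groth.Agent.R2.H28PerfHomVanish

set_option autoImplicit false
universe u
open CategoryTheory CategoryTheory.Limits AlgebraicGeometry
attribute [local instance] HasDerivedCategory.standard
open Perf
open Groth.Agent.R2.H28.PerfHomVanish Groth.Agent.S14388 DerivedCategory
  CategoryTheory.Pretriangulated

namespace Groth.Agent.S1022

/-- Let the scheme X be quasi-compact and quasi-separated, P a perfect object of D(O_X), E ∈ D_QCoh(O_X)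
and a ∈ ℤ. Then the morphisms P[-i] ⟶ E vanish for all large i if and only if the morphisms P[-i] ⟶
τ_{≥ a}E vanish for all large i. -/
theorem result (X : Scheme.{u}) [CompactSpace ↥X] [QuasiSeparatedSpace ↥X]
    (P : DCoh.D X) (hP : DCoh.IsPerfect P) (E : DCoh.D X) (hE : DCoh.IsQCohD E) (a : ℤ) :
    (∃ N : ℤ, ∀ i : ℤ, N ≤ i → ∀ φ : P⟦-i⟧ ⟶ E, φ = 0) ↔
    (∃ N : ℤ, ∀ i : ℤ, N ≤ i → ∀ φ : P⟦-i⟧ ⟶ ((DerivedCategory.TStructure.t : CategoryTheory.Triangulated.TStructure (DCoh.D X)).truncGE a).obj E, φ = 0) := by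
  obtain ⟨c, hc⟩ := exists_hom_eq_zero_of_isPerfect P hP
  have hT := tt.triangleLTGE_distinguished a E
  have hLq := isQCohD_truncLT E hE a
  -- maps from `P[-i]` to shifts of the truncation `τ_{<a} E` vanish for large `i`
  have key : ∀ (k i : ℤ), a - 1 - k - c ≤ i →
      ∀ φ : P⟦-i⟧ ⟶ ((tt.truncLT a).obj E)⟦k⟧, φ = 0 := by
    intro k i hi φ
    refine hom_shift_eq_zero P _ i (fun ψ => ?_) φ
    have h0 : tt.IsLE ((tt.truncLT a).obj E) (a - 1) := inferInstance
    have h1 : tt.IsLE (((tt.truncLT a).obj E)⟦k⟧) (a - 1 - k) :=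
      tt.isLE_shift _ (a - 1) k (a - 1 - k) (by omega)
    have h2 : tt.IsLE ((((tt.truncLT a).obj E)⟦k⟧)⟦i⟧) (a - 1 - k - i) :=
      tt.isLE_shift _ (a - 1 - k) i (a - 1 - k - i) (by omega)
    have h3 : tt.IsLE ((((tt.truncLT a).obj E)⟦k⟧)⟦i⟧) c :=
      tt.isLE_of_le _ (a - 1 - k - i) c (by omega)
    exact hc _ (isQCohD_shift (isQCohD_shift hLq k) i) h3 ψ
  constructor
  · rintro ⟨N, hN⟩
    refine ⟨max N (a - 1 - 1 - c), fun i hi φ => ?_⟩
    have h1 : N ≤ i := le_trans (le_max_left _ _) hi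
    have h2 : a - 1 - 1 - c ≤ i := le_trans (le_max_right _ _) hi
    have hz : φ ≫ ((tt.triangleLTGE a).obj E).mor₃ = 0 := key 1 i h2 _
    obtain ⟨g, hg⟩ := Triangle.coyoneda_exact₃ _ hT φ hz
    rw [hg, hN i h1 g]
    exact zero_comp
  · rintro ⟨N, hN⟩
    refine ⟨max N (a - 1 - 0 - c), fun i hi φ => ?_⟩
    have h1 : N ≤ i := le_trans (le_max_left _ _) hi
    have h2 : a - 1 - 0 - c ≤ i := le_trans (le_max_right _ _) hi
    have hz : φ ≫ ((tt.triangleLTGE a).obj E).mor₂ = 0 := hN i h1 _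
    obtain ⟨g, hg⟩ := Triangle.coyoneda_exact₂ _ hT φ hz
    have hg0 : g = 0 := by
      have := key 0 i h2 (g ≫ (shiftFunctorZero (DCoh.D X) ℤ).inv.app _)
      exact (cancel_mono ((shiftFunctorZero (DCoh.D X) ℤ).inv.app _)).1 (this.trans zero_comp.symm)
    rw [hg, hg0]
    exact zero_comp

end Groth.Agent.S1022
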