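import Groth.Statements.S10222
import Groth.Agent.R2.H45HasAt
import Groth.Agent.Lib.Helper12GeomRed

set_option autoImplicit false
universe u
open CategoryTheory CategoryTheory.Limits AlgebraicGeometry Topology TopologicalSpace
open AlgSp

namespace Groth.Agent.S10222

open Groth.Agent.R2.H45

/-- reducedness of the local ring is an étale invariant property of germs. -/
theorem etInv_isReduced_stalk :
    HasAt.EtInv (fun (U : Scheme.{u}) u => _root_.IsReduced ↥(U.presheaf.stalk u)) := by
  intro W U g _ w
  exact ⟨fun h => Groth.Agent.Lib.Helper12.GeomRed.isReduced_stalk_of_flat g w h,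
    fun h => Groth.Agent.Lib.Helper12.GeomRed.isReduced_stalk_of_smooth g w h⟩

/-- (1) if and only if (2): an algebraic space X over a scheme S is reduced if and only if at each x ∈
|X| the local ring of X is reduced, the latter meaning that for some scheme U, some representable
etale h_U ⟶ X and some point u of U mapping to x, the local ring of U at u is reduced. (The
assertions about global sections in the published statement are not part of this row.) -/
theorem result {S : Scheme.{u}} (X : AlgSp.Space S) :
    AlgSp.IsReducedSp X.obj ↔
      ∀ x : AlgSp.Points X.obj, AlgSp.HasAt (fun U u => _root_.IsReduced ↥(U.presheaf.stalk u)) X.obj x := by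
  constructor
  · rintro ⟨U, p, hp, hs, hU⟩ x
    obtain ⟨u, rfl⟩ := Groth.Agent.S10177.surjective_ofPt p hs x
    exact ⟨U, p, u, hp, rfl, inferInstance⟩
  · intro h
    obtain ⟨U, p, hp, hs⟩ := X.property.atlas
    refine ⟨U, p, hp, hs, ?_⟩
    have : ∀ u : ↥U.left, _root_.IsReduced ↥(U.left.presheaf.stalk u) := fun u =>
      (HasAt.hasAt_iff_of_chart etInv_isReduced_stalk p hp u).1 (h _)
    exact isReduced_of_isReduced_stalk U.left

end Groth.Agent.S10222
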