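import Mathlib
import Groth.Statements.S10225
import Groth.Agent.R2.H45OEtStalk2
import Groth.Agent.S10222

set_option autoImplicit false
set_option linter.style.haveILetI false
universe u
open CategoryTheory CategoryTheory.Limits AlgebraicGeometry Topology TopologicalSpace
open AlgSp

namespace Groth.Agent.S10225

/-- Let X be an algebraic space over a scheme S and x̄ a geometric point of X lying over x ∈ |X|. Then
the local ring of X at x is reduced (for some etale chart h_U ⟶ X and some point u of U over x, the
local ring of U at u is reduced) if and only if the etale local ring of X at x̄ is reduced; in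
particular the latter does not depend on the choice of x̄ over x. -/
theorem result {S : Scheme.{u}} (X : AlgSp.Space S) (p : AlgSp.FieldPt X.obj) (hp : p.IsGeometric) :
    AlgSp.HasAt (fun U u => _root_.IsReduced ↥(U.presheaf.stalk u)) X.obj (AlgSp.Points.mk p) ↔
      _root_.IsReduced ↥(AlgSp.OEtStalk p) := by
  have hinv := Groth.Agent.S10222.etInv_isReduced_stalk.{u}
  constructor
  · intro h
    apply Groth.Agent.R2.H45.OEtStalk.isReduced_of_forall_stage hp
    intro St
    exact (Groth.Agent.R2.H45.HasAt.hasAt_iff_of_chart hinv St.c St.et St.pt₀).1
      (by rw [St.ofPt_pt₀]; exact h)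
  · intro h
    obtain ⟨St⟩ := Groth.Agent.R2.H45.OEtStalk.nonempty_stage hp
    exact ⟨Over.mk St.str, St.c, St.pt₀, St.et, St.ofPt_pt₀,
      Groth.Agent.R2.H45.OEtStalk.isReduced_stage_of_isReduced hp h St⟩

end Groth.Agent.S10225
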