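import Mathlib
import Groth.Statements.S10227
import Groth.Agent.R2.H45OEtStalk3
import Groth.Agent.R2.H45ShMinPrime
import Groth.Agent.S10176

set_option autoImplicit false
set_option linter.style.haveILetI false
universe u
open CategoryTheory CategoryTheory.Limits AlgebraicGeometry Topology TopologicalSpace
open AlgSp

namespace Groth.Agent.S10227

/-- (1) ⇔ (4) ⇔ (5): let X be an algebraic space over a scheme S and x ∈ |X|. The following are
equivalent: for every scheme U, every etale h_U ⟶ X and every point u of U over x, the local ring of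
U at u has a unique minimal prime; for every such (U, u), the local ring of U at u is geometrically
unibranch; for every geometric point x̄ over x, the etale local ring of X at x̄ has a unique minimal
prime. -/
theorem result {S : Scheme.{u}} (X : AlgSp.Space S) (x : AlgSp.Points X.obj) :
    ((∀ (U : Over S) (a : (AlgSp.yon S).obj U ⟶ X.obj) (u : ↥U.left),
        AlgSp.RepWith @Etale a → AlgSp.Points.ofPt a u = x → CAlgX.HasUniqueMinimalPrime ↥(U.left.presheaf.stalk u)) ↔
      (∀ (U : Over S) (a : (AlgSp.yon S).obj U ⟶ X.obj) (u : ↥U.left),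
        AlgSp.RepWith @Etale a → AlgSp.Points.ofPt a u = x → CAlg2.IsGeomUnibranch ↥(U.left.presheaf.stalk u))) ∧
    ((∀ (U : Over S) (a : (AlgSp.yon S).obj U ⟶ X.obj) (u : ↥U.left),
        AlgSp.RepWith @Etale a → AlgSp.Points.ofPt a u = x → CAlgX.HasUniqueMinimalPrime ↥(U.left.presheaf.stalk u)) ↔
      ∀ p : AlgSp.FieldPt X.obj, p.IsGeometric → AlgSp.Points.mk p = x →
        CAlgX.HasUniqueMinimalPrime ↥(AlgSp.OEtStalk p)) := by
  have h14 : (∀ (U : Over S) (a : (AlgSp.yon S).obj U ⟶ X.obj) (u : ↥U.left),
        AlgSp.RepWith @Etale a → AlgSp.Points.ofPt a u = x →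
          CAlgX.HasUniqueMinimalPrime ↥(U.left.presheaf.stalk u)) ↔
      (∀ (U : Over S) (a : (AlgSp.yon S).obj U ⟶ X.obj) (u : ↥U.left),
        AlgSp.RepWith @Etale a → AlgSp.Points.ofPt a u = x →
          CAlg2.IsGeomUnibranch ↥(U.left.presheaf.stalk u)) := by
    constructor
    · intro H U a u ha hu
      apply Groth.Agent.R2.H45.ShMinPrime.isGeomUnibranch_of_forall_etale
      intro V j v hj hjv
      apply Groth.Agent.S2052.isPrime_nilradical_of_hasUniqueMinimalPrime
      let Vo : Over S := Over.mk (j ≫ U.hom)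
      let jo : Vo ⟶ U := Over.homMk j rfl
      refine H Vo ((AlgSp.yon S).map jo ≫ a) v ?_ ?_
      · exact (AlgSp.repWith_isMultiplicative (S := S) @Etale).comp_mem _ _
          ((AlgSp.repWith_yon_map_iff _ _).2 hj) ha
      · rw [Groth.Agent.S10176.ofPt_map_comp]
        show AlgSp.Points.ofPt a (j v) = x
        rw [hjv]
        exact hu
    · intro H U a u ha hu
      have hG := H U a u ha hu
      apply Groth.Agent.S2052.hasUniqueMinimalPrime_of_isPrime_nilradical
      have hd : IsDomain (CAlg2.red ↥(U.left.presheaf.stalk u)) := hG.1.1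
      exact (Ideal.Quotient.isDomain_iff_prime _).1 hd
  refine ⟨h14, ?_⟩
  constructor
  · intro H p hp hpx
    apply Groth.Agent.S2052.hasUniqueMinimalPrime_of_isPrime_nilradical
    apply Groth.Agent.R2.H45.OEtStalk.isPrime_nilradical_of_forall_stage hp
    intro St
    apply Groth.Agent.S2052.isPrime_nilradical_of_hasUniqueMinimalPrime
    exact H (Over.mk St.str) St.c St.pt₀ St.et (St.ofPt_pt₀.trans hpx)
  · intro H U a u ha hu
    obtain ⟨p, hp, hpx⟩ := Groth.Agent.Lib.Helper9.SpPoint.exists_geometric_over x
    apply Groth.Agent.S2052.hasUniqueMinimalPrime_of_isPrime_nilradical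
    exact Groth.Agent.R2.H45.OEtStalk.isPrime_nilradical_chart_of hp
      (Groth.Agent.S2052.isPrime_nilradical_of_hasUniqueMinimalPrime _ (H p hp hpx)) a ha u
      (hu.trans hpx.symm)

end Groth.Agent.S10227
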