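import Groth.Statements.S1023
import Groth.Agent.R2.H4FlatPerf
import Groth.Agent.R2.H28RelPC
import Groth.Agent.S14388

set_option autoImplicit false
universe u
open CategoryTheory CategoryTheory.Limits AlgebraicGeometry
attribute [local instance] HasDerivedCategory.standard
open Perf
open Groth.Agent.R2.H4.Perf Groth.Agent.R2.H4.FlatPerf Groth.Agent.R2.H28.RelPC Groth.Agent.S14388 DerivedCategory
  CategoryTheory.Pretriangulated

namespace Groth.Agent.S1023

/-- Let the scheme X be quasi-compact and quasi-separated, P a perfect object of D(O_X), E ∈ D_QCoh(O_X)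
and a ∈ ℤ. Then the morphisms P[-i] ⟶ E vanish for all sufficiently negative i if and only if the
morphisms P[-i] ⟶ τ_{≤ a}E vanish for all sufficiently negative i. -/
theorem result (X : Scheme.{u}) [CompactSpace ↥X] [QuasiSeparatedSpace ↥X]
    (P : DCoh.D X) (hP : DCoh.IsPerfect P) (E : DCoh.D X) (hE : DCoh.IsQCohD E) (a : ℤ) :
    (∃ N : ℤ, ∀ i : ℤ, i ≤ N → ∀ φ : P⟦-i⟧ ⟶ E, φ = 0) ↔
    (∃ N : ℤ, ∀ i : ℤ, i ≤ N → ∀ φ : P⟦-i⟧ ⟶ ((DerivedCategory.TStructure.t : CategoryTheory.Triangulated.TStructure (DCoh.D X)).truncLE a).obj E, φ = 0) := by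
  obtain ⟨b, hb⟩ := exists_isLE_of_isPseudoCoherentD 0 P (isPseudoCoherentD_of_isPerfect P hP 0)
  have hle : ∀ i : ℤ, i ≤ a - b → tt.IsLE (P⟦-i⟧) a := fun i hi =>
    haveI := tt.isLE_shift P b (-i) (b + i) (by omega)
    tt.isLE_of_le _ (b + i) a (by omega)
  have hT := tt.triangleLTGE_distinguished (a + 1) E
  constructor
  · rintro ⟨N, hN⟩
    refine ⟨min N (a - b), fun i hi φ => ?_⟩
    have h1 : i ≤ N := le_trans hi (min_le_left _ _)
    have h2 : i ≤ a - b := le_trans hi (min_le_right _ _)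
    have := hle i h2
    have : tt.IsLE (P⟦-i⟧) (a + 1) := tt.isLE_of_le _ a (a + 1) (by omega)
    exact lemmaB (n := a + 1) (X := E) φ (hN i h1 _)
  · rintro ⟨N, hN⟩
    refine ⟨min N (a - b), fun i hi φ => ?_⟩
    have h1 : i ≤ N := le_trans hi (min_le_left _ _)
    have h2 : i ≤ a - b := le_trans hi (min_le_right _ _)
    have hz : φ ≫ (tt.truncGEπ (a + 1)).app E = 0 :=
      tt.zero_of_isLE_of_isGE _ a (a + 1) (by omega) (hle i h2) inferInstance
    obtain ⟨φ', hφ'⟩ := Triangle.coyoneda_exact₂ _ hT φ hz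
    rw [hφ', hN i h1 φ']
    exact zero_comp

end Groth.Agent.S1023
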