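import Mathlib
import Groth.Statements.S10232
import Groth.Agent.R2.H45OEtStalk6

set_option autoImplicit false
set_option linter.style.haveILetI false
universe u
open CategoryTheory CategoryTheory.Limits AlgebraicGeometry Topology TopologicalSpace
open AlgSp

namespace Groth.Agent.S10232

/-- Let X be an algebraic space over a scheme S and x ∈ |X|. Then X is regular at x (for some etale
chart h_U ⟶ X and some point u of U over x, the local ring of U at u is regular) if and only if the
etale local ring of X at x̄ is regular for every geometric point x̄ lying over x, if and only if it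
is regular for some geometric point x̄ lying over x. -/
theorem result {S : Scheme.{u}} (X : AlgSp.Space S) (x : AlgSp.Points X.obj) :
    (AlgSp.HasAt (fun U u => IsRegularLocalRing ↥(U.presheaf.stalk u)) X.obj x ↔
      ∀ p : AlgSp.FieldPt X.obj, p.IsGeometric → AlgSp.Points.mk p = x → IsRegularLocalRing ↥(AlgSp.OEtStalk p)) ∧
    (AlgSp.HasAt (fun U u => IsRegularLocalRing ↥(U.presheaf.stalk u)) X.obj x ↔
      ∃ p : AlgSp.FieldPt X.obj, p.IsGeometric ∧ AlgSp.Points.mk p = x ∧ IsRegularLocalRing ↥(AlgSp.OEtStalk p)) := by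
  obtain ⟨p₀, hp₀, rfl⟩ := Groth.Agent.Lib.Helper9.SpPoint.exists_geometric_over x
  constructor
  · constructor
    · intro h p hp hpx
      rw [← hpx] at h
      exact (Groth.Agent.R2.H45.OEtStalk.hasAt_isRegularLocalRing_iff hp).1 h
    · intro h
      exact (Groth.Agent.R2.H45.OEtStalk.hasAt_isRegularLocalRing_iff hp₀).2 (h p₀ hp₀ rfl)
  · constructor
    · intro h
      exact ⟨p₀, hp₀, rfl, (Groth.Agent.R2.H45.OEtStalk.hasAt_isRegularLocalRing_iff hp₀).1 h⟩
    · rintro ⟨p, hp, hpx, hr⟩
      rw [← hpx]
      exact (Groth.Agent.R2.H45.OEtStalk.hasAt_isRegularLocalRing_iff hp).2 hr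

end Groth.Agent.S10232
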