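import Groth.Statements.S10233
import Groth.Agent.R2.H89InvImm
-- import your own Groth.Agent.* helpers here

set_option autoImplicit false
universe u
open CategoryTheory CategoryTheory.Limits AlgebraicGeometry Topology TopologicalSpace
open AlgSp

namespace Groth.Agent.S10233

/-- Let X be an algebraic space over a scheme S with a presentation (U, R, s, t, p), and let i' : Z' ⟶ U
be an immersion of schemes that is R-invariant, meaning that one locally closed subscheme R' of R is
at the same time the inverse image of Z' under s and under t. Then Z' descends to a locally closed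
subspace of X: there is a morphism of algebraic spaces i : Z ⟶ X representable by immersions
together with a map h_{Z'} ⟶ Z making h_{Z'} the fibre product Z ×_X h_U; moreover i is a closed
(resp. open) immersion when i' is. -/
theorem result {S : Scheme.{u}} (X : AlgSp.Space S) {R U : Over S} (s t : R ⟶ U)
    (p : (AlgSp.yon S).obj U ⟶ X.obj) (hp : AlgSp.IsPresentation s t p)
    {Z' R' : Scheme.{u}} (i' : Z' ⟶ U.left) [IsImmersion i'] (k : R' ⟶ R.left) (s' t' : R' ⟶ Z')
    (hs : IsPullback k s' s.left i') (ht : IsPullback k t' t.left i') :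
    ∃ (Z : AlgSp.Space S) (i : Z ⟶ X) (q : (AlgSp.yon S).obj (Over.mk (i' ≫ U.hom)) ⟶ Z.obj),
      AlgSp.RepWith @IsImmersion i.hom ∧
      IsPullback q ((AlgSp.yon S).map (Over.homMk i' rfl : Over.mk (i' ≫ U.hom) ⟶ U)) i.hom p ∧
      (IsClosedImmersion i' → AlgSp.RepWith @IsClosedImmersion i.hom) ∧
      (IsOpenImmersion i' → AlgSp.RepWith @IsOpenImmersion i.hom) := by
  by_cases hopen : IsOpenImmersion i'
  · obtain ⟨Z, hZ, i, q, hio, hsq, hcl⟩ :=
      Groth.Agent.R2.H89.InvImm.exists_subspace_open X.property s t p hp i' k s' t' hs ht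
    refine ⟨⟨Z, hZ⟩, ObjectProperty.homMk i, q, ?_, hsq, hcl, fun _ => hio⟩
    exact Groth.Agent.Lib.Helper12.OpenSub.repWith_mono (fun _ _ g hg => by
      have : IsOpenImmersion g := hg
      exact (inferInstance : IsImmersion g)) hio
  · obtain ⟨Z, hZ, i, q, hii, hsq, hcl⟩ :=
      Groth.Agent.R2.H89.InvImm.exists_subspace_general X.property s t p hp i' k s' t' hs ht
    exact ⟨⟨Z, hZ⟩, ObjectProperty.homMk i, q, hii, hsq, hcl, fun h => absurd h hopen⟩

end Groth.Agent.S10233
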