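import Groth.Statements.S10235
import Mathlib
import Groth.Agent.R2.H53GrpdASM7
import Groth.Agent.Lib.Helper9QuotSh

set_option autoImplicit false
universe u
open CategoryTheory CategoryTheory.Limits AlgebraicGeometry Topology TopologicalSpace
open AlgSp

namespace Groth.Agent.S10235

section Dev
open Groth.Agent.R2.H53.GrpdASM Groth.Agent.R2.H33.GrpdInvOpen

theorem mono_j_of_isEqvRel {S : Scheme.{u}} (G : Grpd.GroupoidScheme S)
    (heq : AlgSp.IsEqvRel (Over.homMk G.s G.s_over : Over.mk G.pR ⟶ Over.mk G.pU)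
      (Over.homMk G.t G.t_over : Over.mk G.pR ⟶ Over.mk G.pU)) : Mono G.j := by
  constructor
  intro T φ ψ h
  have ht : φ ≫ G.t = ψ ≫ G.t := by
    have := congrArg (· ≫ pullback.fst _ _) h
    simp only [Category.assoc, Grpd.GroupoidScheme.j, pullback.lift_fst] at this
    exact this
  have hs : φ ≫ G.s = ψ ≫ G.s := by
    have := congrArg (· ≫ pullback.snd _ _) h
    simp only [Category.assoc, Grpd.GroupoidScheme.j, pullback.lift_snd] at this
    exact this
  have hpR : ψ ≫ G.pR = φ ≫ G.pR := by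
    rw [← G.t_over, ← Category.assoc, ← ht, Category.assoc]
  let T' : Over S := Over.mk (φ ≫ G.pR)
  let r : T' ⟶ Over.mk G.pR := Over.homMk φ rfl
  let r' : T' ⟶ Over.mk G.pR := Over.homMk ψ hpR
  have hrr' : r = r' := heq.injective T' r r'
    (by apply Over.OverMorphism.ext; exact ht)
    (by apply Over.OverMorphism.ext; exact hs)
  have := congrArg (fun k : T' ⟶ Over.mk G.pR => k.left) hrr'
  exact this

theorem hcov_of_closed {S : Scheme.{u}} (G : Grpd.GroupoidScheme S)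
    [IsFinite G.s] [Flat G.s] [LocallyOfFinitePresentation G.s]
    (h3 : ∀ Z : Set ↥G.U, IsClosed Z → Z.Nonempty →
      ∃ u ∈ Z, ∃ W : G.U.Opens, IsAffineOpen W ∧ ∀ r : ↥G.R, G.s r = u → G.t r ∈ W)
    (u : G.U) : ∃ W : G.U.Opens, IsAffineOpen W ∧ u ∈ W ∧ G.s ⁻¹ᵁ W = G.t ⁻¹ᵁ W := by
  by_contra hcon
  let T : Set G.U := ⋃ W : {W : G.U.Opens // IsAffineOpen W ∧ G.s ⁻¹ᵁ W = G.t ⁻¹ᵁ W}, (W.1 : Set G.U)
  have hT : IsOpen T := isOpen_iUnion (fun W => W.1.isOpen)
  have huT : u ∈ Tᶜ := by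
    intro hu
    obtain ⟨_, ⟨W, rfl⟩, huW⟩ := hu
    exact hcon ⟨W.1, W.2.1, huW, W.2.2⟩
  obtain ⟨v, hvT, V, hV, hvV⟩ := h3 Tᶜ hT.isClosed_compl ⟨u, huT⟩
  obtain ⟨W, hW, hvW, hinv⟩ := exists_invariant_affine_open G v V hV hvV
  exact hvT (Set.mem_iUnion.mpr ⟨⟨W, hW, hinv⟩, hvW⟩)

end Dev

/-- Let (U, R, s, t, c) be a groupoid scheme over a scheme S whose source and target maps s, t : R ⟶ U
are finite locally free and whose map j = (t, s) is an equivalence relation, and suppose that in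
each nonempty closed subset of U one can find a point u such that some affine open of U contains the
whole equivalence class t(s⁻¹{u}) of u. Then there are a scheme M over S and a finite locally free
morphism U ⟶ M over S such that the square with the two maps t, s : R ⟶ U over U ⟶ M is cartesian (R
= U ×_M U) and U ⟶ M exhibits h_M as the quotient of h_U by the pair h_R ⇉ h_U in the category of
fppf sheaves. -/
theorem result {S : Scheme.{u}} (G : Grpd.GroupoidScheme S)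
    (hs : Mor2.IsFinLocFree G.s) (ht : Mor2.IsFinLocFree G.t)
    (heq : AlgSp.IsEqvRel (Over.homMk G.s G.s_over : Over.mk G.pR ⟶ Over.mk G.pU) (Over.homMk G.t G.t_over : Over.mk G.pR ⟶ Over.mk G.pU))
    (h3 : ∀ Z : Set ↥G.U, IsClosed Z → Z.Nonempty →
      ∃ u ∈ Z, ∃ W : G.U.Opens, IsAffineOpen W ∧ ∀ r : ↥G.R, G.s r = u → G.t r ∈ W) :
    ∃ (M : Over S) (m : Over.mk G.pU ⟶ M), Mor2.IsFinLocFree m.left ∧ IsPullback G.t G.s m.left m.left ∧
      QuotSh.IsQuotient Scheme.fppfPrecoverage (Over.homMk G.s G.s_over : Over.mk G.pR ⟶ Over.mk G.pU) (Over.homMk G.t G.t_over : Over.mk G.pR ⟶ Over.mk G.pU) m := by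
  obtain ⟨hf, hfl, hfp⟩ := hs
  have hmono : Mono G.j := mono_j_of_isEqvRel G heq
  have hcov := hcov_of_closed G h3
  have hcoeq := Groth.Agent.R2.H53.GrpdASM.t_p G hcov
  have hfin : IsFinite (Groth.Agent.R2.H53.GrpdASM.p G hcov) :=
    Groth.Agent.R2.H53.GrpdASM.isFinite_p G hcov
  have hflat : Flat (Groth.Agent.R2.H53.GrpdASM.p G hcov) :=
    Groth.Agent.R2.H53.GrpdASM.flat_p G hcov
  have hlfp : LocallyOfFinitePresentation (Groth.Agent.R2.H53.GrpdASM.p G hcov) :=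
    Groth.Agent.R2.H53.GrpdASM.lfp_p G hcov
  have hsurj : Surjective (Groth.Agent.R2.H53.GrpdASM.p G hcov) :=
    ⟨Groth.Agent.R2.H53.GrpdASM.p_surjective G hcov⟩
  have hpb := Groth.Agent.R2.H53.GrpdASM.isPullback_p G hcov hcoeq
  have hee : EffectiveEpi (Groth.Agent.R2.H53.GrpdASM.p G hcov) := inferInstance
  have hdesc : ∀ {Z : Scheme.{u}} (g₁ g₂ : Z ⟶ G.U),
      g₁ ≫ Groth.Agent.R2.H53.GrpdASM.p G hcov = g₂ ≫ Groth.Agent.R2.H53.GrpdASM.p G hcov →
      g₁ ≫ G.pU = g₂ ≫ G.pU := by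
    intro Z g₁ g₂ h
    have h1 : hpb.lift g₁ g₂ h ≫ G.t = g₁ := hpb.lift_fst _ _ _
    have h2 : hpb.lift g₁ g₂ h ≫ G.s = g₂ := hpb.lift_snd _ _ _
    calc g₁ ≫ G.pU = (hpb.lift g₁ g₂ h ≫ G.t) ≫ G.pU := by rw [h1]
      _ = (hpb.lift g₁ g₂ h ≫ G.s) ≫ G.pU := by
        rw [Category.assoc, Category.assoc, G.t_over, G.s_over]
      _ = g₂ ≫ G.pU := by rw [h2]
  let m₀ : Groth.Agent.R2.H53.GrpdASM.Q G hcov ⟶ S :=
    EffectiveEpi.desc (Groth.Agent.R2.H53.GrpdASM.p G hcov) G.pU hdesc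
  have hm : Groth.Agent.R2.H53.GrpdASM.p G hcov ≫ m₀ = G.pU :=
    EffectiveEpi.fac (Groth.Agent.R2.H53.GrpdASM.p G hcov) G.pU hdesc
  let q' : Over.mk G.pU ⟶ Over.mk m₀ := Over.homMk (Groth.Agent.R2.H53.GrpdASM.p G hcov) hm
  refine ⟨Over.mk m₀, q', ⟨hfin, hflat, hlfp⟩, hpb, ?_⟩
  let s' : Over.mk G.pR ⟶ Over.mk G.pU := Over.homMk G.s G.s_over
  let t' : Over.mk G.pR ⟶ Over.mk G.pU := Over.homMk G.t G.t_over
  have w : s' ≫ q' = t' ≫ q' := by
    apply Over.OverMorphism.ext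
    simp only [Over.comp_left, s', t', q', Over.homMk_left]
    exact hcoeq.symm
  have w' : t'.left ≫ q'.left = s'.left ≫ q'.left := hcoeq
  have : Flat q'.left := hflat
  have : Surjective q'.left := hsurj
  have : LocallyOfFinitePresentation q'.left := hlfp
  have h₂ : Epi (QuotSh.repMap Scheme.fppfPrecoverage q') :=
    Groth.Agent.Lib.Helper9.epi_repMap_fppf q'
  refine Groth.Agent.Lib.Helper9.isQuotient_of_epi_repMap Scheme.fppfPrecoverage s' t' q' w w' h₂ ?_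
  have hiso : IsIso (pullback.lift t'.left s'.left w') :=
    Groth.Agent.R2.H53.GrpdASM.isIso_lift_p G hcov hcoeq
  have hiso' : IsIso (Over.homMk (pullback.lift t'.left s'.left w')
    (((Category.assoc _ _ _).symm.trans (congrArg (fun k => k ≫ (Over.mk G.pU).hom)
      (pullback.lift_fst t'.left s'.left w'))).trans (Over.w t')) :
    Over.mk G.pR ⟶ Over.mk (pullback.fst q'.left q'.left ≫ (Over.mk G.pU).hom)) :=
    @isIso_of_reflects_iso _ _ _ _ _ _ _ (Over.forget S) hiso _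
  infer_instance

end Groth.Agent.S10235
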