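import Groth.Statements.S10236
import Groth.Agent.R2.H43Quot
import Groth.Agent.Lib.Helper12QuotSh
import Groth.Agent.Lib.Helper12Descent

set_option autoImplicit false
set_option linter.style.haveILetI false
universe u
open CategoryTheory CategoryTheory.Limits AlgebraicGeometry Topology TopologicalSpace
open AlgSp

namespace Groth.Agent.S10236


section Aux

open MorphismProperty

/-- the pullback square exhibiting `U ×_M U ⟶ U ×_B U` as the base change of the diagonal of `M/B`. -/
lemma sq_diag {U M B : Scheme.{u}} (m : U ⟶ M) (p : M ⟶ B) :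
    IsPullback
      (pullback.map m m (m ≫ p) (m ≫ p) (𝟙 _) (𝟙 _) p (Category.id_comp _).symm (Category.id_comp _).symm)
      (pullback.fst m m ≫ m)
      (pullback.map (m ≫ p) (m ≫ p) p p m m (𝟙 _) (Category.comp_id _) (Category.comp_id _))
      (pullback.diagonal p) :=
  (pullback_map_diagonal_isPullback m m p).flip

/-- the cover `U ×_B U ⟶ M ×_B M` is fpqc. -/
lemma fpqc_mm {U M B : Scheme.{u}} (m : U ⟶ M) (p : M ⟶ B) [IsFinite m] [Flat m] [Surjective m] :
    (@Surjective ⊓ @Flat ⊓ @QuasiCompact : MorphismProperty Scheme.{u})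
      (pullback.map (m ≫ p) (m ≫ p) p p m m (𝟙 _) (Category.comp_id _) (Category.comp_id _)) := by
  have hm : (@Surjective ⊓ @Flat ⊓ @QuasiCompact : MorphismProperty Scheme.{u}) m :=
    ⟨⟨inferInstance, inferInstance⟩, inferInstance⟩
  exact MorphismProperty.pullbackMap (P := (@Surjective ⊓ @Flat ⊓ @QuasiCompact : MorphismProperty Scheme.{u}))
    hm hm rfl rfl

/-- descent of (quasi-)separatedness along a finite flat surjective morphism. -/
theorem sep_descent {U M B : Scheme.{u}} (m : U ⟶ M) (p : M ⟶ B) [IsFinite m] [Flat m]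
    [Surjective m] :
    (QuasiSeparated (m ≫ p) → QuasiSeparated p) ∧ (IsSeparated (m ≫ p) → IsSeparated p) := by
  have sq := sq_diag m p
  have hmm := fpqc_mm m p
  set jj := pullback.map m m (m ≫ p) (m ≫ p) (𝟙 _) (𝟙 _) p (Category.id_comp _).symm
    (Category.id_comp _).symm with hjj
  have hfst : jj ≫ pullback.fst (m ≫ p) (m ≫ p) = pullback.fst m m := by
    rw [hjj, pullback.lift_fst, Category.comp_id]
  constructor
  · intro hq
    haveI : QuasiCompact (jj ≫ pullback.fst (m ≫ p) (m ≫ p)) := by
      rw [hfst]; infer_instance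
    haveI : QuasiCompact jj := QuasiCompact.of_comp jj (pullback.fst (m ≫ p) (m ≫ p))
    haveI := Groth.Agent.Lib.Helper12.descendsAlong_quasiCompact.{u}
    have : QuasiCompact (pullback.diagonal p) :=
      MorphismProperty.of_isPullback_of_descendsAlong (P := @QuasiCompact)
        (Q := (@Surjective ⊓ @Flat ⊓ @QuasiCompact : MorphismProperty Scheme.{u})) sq hmm
        inferInstance
    exact ⟨this⟩
  · intro hq
    haveI : IsFinite (jj ≫ pullback.fst (m ≫ p) (m ≫ p)) := by
      rw [hfst]; infer_instance
    haveI : IsFinite jj := IsFinite.of_comp jj (pullback.fst (m ≫ p) (m ≫ p))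
    haveI : Mono jj := by
      haveI : Mono (pullback.diagonal p) := inferInstance
      exact (MorphismProperty.of_isPullback (P := MorphismProperty.monomorphisms Scheme.{u})
        sq.flip (MorphismProperty.monomorphisms.infer_property _))
    haveI : IsClosedImmersion jj := (IsClosedImmersion.iff_isFinite_and_mono jj).2 ⟨inferInstance, inferInstance⟩
    haveI := Groth.Agent.Lib.Helper12.descendsAlong_isClosedImmersion.{u}
    have : IsClosedImmersion (pullback.diagonal p) :=
      MorphismProperty.of_isPullback_of_descendsAlong (P := @IsClosedImmersion)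
        (Q := (@Surjective ⊓ @Flat ⊓ @QuasiCompact : MorphismProperty Scheme.{u})) sq hmm
        inferInstance
    exact ⟨this⟩

end Aux

/-- Let (U, R, s, t, c) be a groupoid scheme over a scheme S with s, t finite locally free and j = (t,
s) an equivalence relation, such that in each nonempty closed subset of U some point has its whole
equivalence class inside an affine open of U; let U ⟶ M be a finite locally free morphism over S
with R = U ×_M U (the square with t, s cartesian) such that h_M is the quotient of h_U by h_R ⇉ h_U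
in fppf sheaves. Then (1) if U ⟶ S is quasi-separated so is M ⟶ S; (2) if U is quasi-separated so is
M; (3) if U ⟶ S is separated so is M ⟶ S; (4) if U is separated so is M. -/
theorem result {S : Scheme.{u}} (G : Grpd.GroupoidScheme S)
    (hs : Mor2.IsFinLocFree G.s) (ht : Mor2.IsFinLocFree G.t)
    (heq : AlgSp.IsEqvRel (Over.homMk G.s G.s_over : Over.mk G.pR ⟶ Over.mk G.pU) (Over.homMk G.t G.t_over : Over.mk G.pR ⟶ Over.mk G.pU))
    (h3 : ∀ Z : Set ↥G.U, IsClosed Z → Z.Nonempty →
      ∃ u ∈ Z, ∃ W : G.U.Opens, IsAffineOpen W ∧ ∀ r : ↥G.R, G.s r = u → G.t r ∈ W)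
    (M : Over S) (m : Over.mk G.pU ⟶ M) (hm : Mor2.IsFinLocFree m.left) (hR : IsPullback G.t G.s m.left m.left)
    (hq : QuotSh.IsQuotient Scheme.fppfPrecoverage (Over.homMk G.s G.s_over : Over.mk G.pR ⟶ Over.mk G.pU) (Over.homMk G.t G.t_over : Over.mk G.pR ⟶ Over.mk G.pU) m) :
    (QuasiSeparated G.pU → QuasiSeparated M.hom) ∧ (QuasiSeparatedSpace ↥G.U → QuasiSeparatedSpace ↥M.left) ∧
      (IsSeparated G.pU → IsSeparated M.hom) ∧ (G.U.IsSeparated → M.left.IsSeparated) := by
  have hfin : IsFinite m.left := hm.1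
  have hflat : Flat m.left := hm.2.1
  haveI : IsEquivalenceRelation (Over.homMk G.s G.s_over : Over.mk G.pR ⟶ Over.mk G.pU)
      (Over.homMk G.t G.t_over : Over.mk G.pR ⟶ Over.mk G.pU) :=
    (Groth.Agent.R2.H43.Quot.eqvRel heq).isEquivalenceRelation
  obtain ⟨-, hsurj, -⟩ := Groth.Agent.Lib.Helper12.QuotShLib.props_of_isQuotient Scheme.fppfPrecoverage
    Scheme.fppfPrecoverage_le_fpqcPrecoverage _ _ m hq
  have hw : m.left ≫ M.hom = G.pU := Over.w m
  have h1 := sep_descent m.left M.hom
  have h2 := sep_descent m.left (terminal.from M.left)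
  have ht : m.left ≫ terminal.from M.left = terminal.from G.U := terminal.hom_ext _ _
  rw [hw] at h1
  rw [ht] at h2
  refine ⟨h1.1, ?_, h1.2, ?_⟩
  · intro h
    rw [quasiSeparatedSpace_iff_quasiSeparated] at h ⊢
    exact h2.1 h
  · intro h
    exact ⟨h2.2 h.1⟩

end Groth.Agent.S10236
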