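import Groth.Statements.S10242
import Groth.Agent.R2.H44LimRed
-- import your own Groth.Agent.* helpers here

set_option autoImplicit false
universe u
open CategoryTheory CategoryTheory.Limits AlgebraicGeometry Topology TopologicalSpace
open AlgSp

namespace Groth.Agent.S10242

/-- Let X be a reduced algebraic space over a scheme S. Then the ring of global sections of the
structure sheaf of X (on the small etale site) is reduced, and if a global section f satisfies X =
V(f), meaning that its restriction to every scheme U etale over X has empty non-vanishing locus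
D(f|_U), then f = 0. -/
theorem result {S : Scheme.{u}} (X : AlgSp.Space S) (hX : AlgSp.IsReducedSp X.obj) :
    _root_.IsReduced ↥(AlgSp.gsectEt (AlgSp.OEt X.obj)) ∧
      ∀ f : ↥(AlgSp.gsectEt (AlgSp.OEt X.obj)),
        (∀ E : AlgSp.EtOver X.obj,
            E.obj.left.left.basicOpen ((limit.π (AlgSp.OEt X.obj).obj (Opposite.op E)) f).down = ⊥) →
          f = 0 := by
  have hred : ∀ E : AlgSp.EtOver X.obj, IsReduced E.obj.left.left := fun E =>
    Groth.Agent.R2.H44.LimRed.isReduced_of_etale_chart hX E.obj.hom E.property
  -- elements of the limit are determined by their projections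
  have hext : ∀ f : ↥(AlgSp.gsectEt (AlgSp.OEt X.obj)),
      (∀ E : AlgSp.EtOver X.obj, (limit.π (AlgSp.OEt X.obj).obj (Opposite.op E)) f = 0) → f = 0 := by
    intro f hf
    apply Concrete.limit_ext
    intro j
    rw [map_zero]
    exact hf j.unop
  refine ⟨⟨?_⟩, ?_⟩
  · rintro f ⟨n, hn⟩
    apply hext
    intro E
    have := hred E
    have h1 : ((limit.π (AlgSp.OEt X.obj).obj (Opposite.op E)) f) ^ n = 0 := by
      rw [← map_pow, hn, map_zero]
    have hR : _root_.IsReduced Γ(E.obj.left.left, ⊤) := inferInstance
    have h2 : IsNilpotent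
        (((limit.π (AlgSp.OEt X.obj).obj (Opposite.op E)) f).down : Γ(E.obj.left.left, ⊤)) := by
      refine ⟨n, ?_⟩
      have := congrArg ULift.down h1
      exact this
    have h3 : (((limit.π (AlgSp.OEt X.obj).obj (Opposite.op E)) f).down : Γ(E.obj.left.left, ⊤)) = 0 :=
      @IsNilpotent.eq_zero Γ(E.obj.left.left, ⊤) _ _ _ hR h2
    exact ULift.ext _ _ h3
  · intro f hf
    apply hext
    intro E
    have := hred E
    have h3 := (AlgebraicGeometry.basicOpen_eq_bot_iff _).1 (hf E)
    exact ULift.ext _ _ h3

end Groth.Agent.S10242
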