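import Groth.Statements.S10494
import Mathlib
import Groth.Agent.S10242
import Groth.Agent.S10176
import Groth.Agent.S10177

set_option autoImplicit false
universe u
open CategoryTheory CategoryTheory.Limits AlgebraicGeometry Topology TopologicalSpace
open AlgSp

namespace Groth.Agent.S10494

variable {S : Scheme.{u}}

/-- The value of a global section of `O_X` on an object of the small étale site. -/
noncomputable def val {X : AlgSp.Sp S} (f : ↥(AlgSp.gsectEt (AlgSp.OEt X))) (E : AlgSp.EtOver X) :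
    Γ(E.obj.left.left, ⊤) :=
  ((limit.π (AlgSp.OEt X).obj (Opposite.op E)) f).down

lemma val_map {X : AlgSp.Sp S} (f : ↥(AlgSp.gsectEt (AlgSp.OEt X))) {E E' : AlgSp.EtOver X}
    (g : E ⟶ E') : g.hom.left.left.appTop.hom (val f E') = val f E := by
  have h := limit.w (AlgSp.OEt X).obj g.op
  have h2 : (AlgSp.OEt X).obj.map g.op ((limit.π (AlgSp.OEt X).obj (Opposite.op E')) f) =
      (limit.π (AlgSp.OEt X).obj (Opposite.op E)) f := by
    rw [← h]
    rfl
  rw [AlgSp.OEt_map] at h2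
  exact congrArg ULift.down h2

lemma val_mul {X : AlgSp.Sp S} (f g : ↥(AlgSp.gsectEt (AlgSp.OEt X))) (E : AlgSp.EtOver X) :
    val (f * g) E = val f E * val g E := by
  unfold val
  rw [map_mul]
  rfl

lemma val_zero {X : AlgSp.Sp S} (E : AlgSp.EtOver X) :
    val (0 : ↥(AlgSp.gsectEt (AlgSp.OEt X))) E = 0 := by
  unfold val
  rw [map_zero]
  rfl

lemma val_one {X : AlgSp.Sp S} (E : AlgSp.EtOver X) :
    val (1 : ↥(AlgSp.gsectEt (AlgSp.OEt X))) E = 1 := by
  unfold val
  rw [map_one]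
  rfl


/-- Let X be an integral algebraic space over a scheme S. Then Γ(X, O_X) is a domain. -/
theorem result {S : Scheme.{u}} (X : AlgSp.Space S)
    (hX : AlgSp.IsIntegralSp X.obj) : IsDomain ↥(AlgSp.gsectEt (AlgSp.OEt X.obj)) := by
  obtain ⟨hred, hdec, hirr⟩ := hX
  have key := (Groth.Agent.S10242.result X hred).2
  have hnt : Nontrivial ↥(AlgSp.gsectEt (AlgSp.OEt X.obj)) := by
    obtain ⟨U, p, hpe, hps, hU⟩ := hred
    obtain ⟨x⟩ := hirr.toNonempty
    obtain ⟨u, hu⟩ := Groth.Agent.S10177.surjective_ofPt p hps x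
    refine ⟨1, 0, fun h => ?_⟩
    have h2 := congrArg (fun f => val f (AlgSp.EtOver.mk p hpe)) h
    simp only [val_one, val_zero] at h2
    have hnt' : Nontrivial Γ((AlgSp.EtOver.mk p hpe).obj.left.left, ⊤) :=
      @Scheme.component_nontrivial _ ⊤ ⟨⟨u, trivial⟩⟩
    exact one_ne_zero h2
  have hnzd : NoZeroDivisors ↥(AlgSp.gsectEt (AlgSp.OEt X.obj)) := by
    refine ⟨fun {f g} hfg => ?_⟩
    by_contra hcon
    push Not at hcon
    obtain ⟨hf, hg⟩ := hcon
    have h1 : ∃ E : AlgSp.EtOver X.obj, E.obj.left.left.basicOpen (val f E) ≠ ⊥ := by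
      by_contra h
      push Not at h
      exact hf (key f h)
    have h2 : ∃ E : AlgSp.EtOver X.obj, E.obj.left.left.basicOpen (val g E) ≠ ⊥ := by
      by_contra h
      push Not at h
      exact hg (key g h)
    obtain ⟨E₁, hE₁⟩ := h1
    obtain ⟨E₂, hE₂⟩ := h2
    obtain ⟨u₁, hu₁⟩ := (Opens.ne_bot_iff_nonempty _).mp hE₁
    obtain ⟨u₂, hu₂⟩ := (Opens.ne_bot_iff_nonempty _).mp hE₂
    have ho₁ : IsOpen (AlgSp.Points.ofPt E₁.obj.hom ''
        (E₁.obj.left.left.basicOpen (val f E₁) : Set ↥E₁.obj.left.left)) :=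
      Groth.Agent.S10176.isOpenMap_ofPt E₁.obj.hom E₁.property _
        (E₁.obj.left.left.basicOpen (val f E₁)).2
    have ho₂ : IsOpen (AlgSp.Points.ofPt E₂.obj.hom ''
        (E₂.obj.left.left.basicOpen (val g E₂) : Set ↥E₂.obj.left.left)) :=
      Groth.Agent.S10176.isOpenMap_ofPt E₂.obj.hom E₂.property _
        (E₂.obj.left.left.basicOpen (val g E₂)).2
    obtain ⟨x, ⟨v₁, hv₁, hx₁⟩, ⟨v₂, hv₂, hx₂⟩⟩ :=
      nonempty_preirreducible_inter ho₁ ho₂ ⟨_, u₁, hu₁, rfl⟩ ⟨_, u₂, hu₂, rfl⟩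
    have sq : IsPullback ((AlgSp.yon S).map (E₂.property.1.fst' E₁.obj.hom))
        ((AlgSp.yon S).map (E₂.property.1.snd E₁.obj.hom)) E₂.obj.hom E₁.obj.hom := by
      have := E₂.property.1.isPullback E₁.obj.hom
      rwa [← Functor.relativelyRepresentable.map_fst'] at this
    obtain ⟨y, hy₂, hy₁⟩ := Groth.Agent.S10176.exists_point_of_isPullback_yon sq v₂ v₁
      (hx₂.trans hx₁.symm)
    let P := AlgSp.EtOver.prodObj E₁ E₂
    have hf1 := val_map f (AlgSp.EtOver.prodFst E₁ E₂)
    have hg1 := val_map g (AlgSp.EtOver.prodSnd E₁ E₂)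
    have hyf : y ∈ P.obj.left.left.basicOpen (val f P) := by
      rw [← hf1]
      have hmem : y ∈ (AlgSp.EtOver.prodFst E₁ E₂).hom.left.left ⁻¹ᵁ
          (E₁.obj.left.left.basicOpen (val f E₁)) := by
        have h3 : (E₂.property.1.snd E₁.obj.hom).left y ∈
            E₁.obj.left.left.basicOpen (val f E₁) := by
          rw [hy₁]
          exact hv₁
        exact h3
      rw [Scheme.preimage_basicOpen] at hmem
      exact hmem
    have hyg : y ∈ P.obj.left.left.basicOpen (val g P) := by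
      rw [← hg1]
      have hmem : y ∈ (AlgSp.EtOver.prodSnd E₁ E₂).hom.left.left ⁻¹ᵁ
          (E₂.obj.left.left.basicOpen (val g E₂)) := by
        have h3 : (E₂.property.1.fst' E₁.obj.hom).left y ∈
            E₂.obj.left.left.basicOpen (val g E₂) := by
          rw [hy₂]
          exact hv₂
        exact h3
      rw [Scheme.preimage_basicOpen] at hmem
      exact hmem
    have hy : y ∈ P.obj.left.left.basicOpen (val (f * g) P) := by
      rw [val_mul, Scheme.basicOpen_mul]
      exact ⟨hyf, hyg⟩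
    rw [hfg, val_zero, Scheme.basicOpen_zero] at hy
    exact hy
  exact { hnzd, hnt with }

end Groth.Agent.S10494
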