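import Groth.Statements.S10246
import Mathlib
import Groth.Agent.S10494
import Groth.Agent.R2.H47SpColim

set_option autoImplicit false
universe u
open CategoryTheory CategoryTheory.Limits AlgebraicGeometry Topology TopologicalSpace
open AlgSp

namespace Groth.Agent.S10246

open Groth.Agent.S10494

/-- The morphism to an affine scheme defined by a ring map on global sections. -/
noncomputable def toAff {W T : Scheme.{u}} [IsAffine T] (ψ : Γ(T, ⊤) ⟶ Γ(W, ⊤)) : W ⟶ T :=
  W.toSpecΓ ≫ Spec.map ψ ≫ T.isoSpec.inv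

lemma toAff_appTop {W T : Scheme.{u}} [IsAffine T] (ψ : Γ(T, ⊤) ⟶ Γ(W, ⊤)) :
    (toAff ψ).appTop = ψ := by
  have h1 : toAff ψ ≫ T.toSpecΓ = W.toSpecΓ ≫ Spec.map ψ := by
    unfold toAff
    rw [Category.assoc, Category.assoc]
    have : T.isoSpec.inv ≫ T.toSpecΓ = 𝟙 _ := T.isoSpec.inv_hom_id
    rw [this, Category.comp_id]
  have h2 := Scheme.toSpecΓ_naturality (toAff ψ)
  rw [h1] at h2
  -- compare global sections
  have h3 := congrArg Scheme.Hom.appTop h2
  rw [Scheme.Hom.comp_appTop, Scheme.Hom.comp_appTop] at h3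
  have h4 : ∀ χ : Γ(T, ⊤) ⟶ Γ(W, ⊤),
      (Spec.map χ).appTop ≫ W.toSpecΓ.appTop = (Scheme.ΓSpecIso Γ(T, ⊤)).hom ≫ χ := by
    intro χ
    rw [Scheme.toSpecΓ_appTop]
    exact Scheme.ΓSpecIso_naturality χ
  rw [h4, h4] at h3
  exact ((cancel_epi (Scheme.ΓSpecIso Γ(T, ⊤)).hom).mp h3).symm


variable {S : Scheme.{u}}

/-- The value of global sections on an object of the small étale site, as a ring map. -/
noncomputable def valHom {X : AlgSp.Sp S} (E : AlgSp.EtOver X) :
    ↥(AlgSp.gsectEt (AlgSp.OEt X)) →+* Γ(E.obj.left.left, ⊤) :=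
  (ULift.ringEquiv : ULift.{u + 1} Γ(E.obj.left.left, ⊤) ≃+* Γ(E.obj.left.left, ⊤)).toRingHom.comp
    (limit.π (AlgSp.OEt X).obj (Opposite.op E)).hom

lemma valHom_apply {X : AlgSp.Sp S} (E : AlgSp.EtOver X) (f : ↥(AlgSp.gsectEt (AlgSp.OEt X))) :
    valHom E f = val f E := rfl

/-- The morphism `E ⟶ T` to an affine scheme `T` defined by `φ`. -/
noncomputable def gE (hS : IsTerminal S) {X : AlgSp.Sp S} (T : Over S) [IsAffine T.left]
    (φ : Γ(T.left, ⊤) →+* ↥(AlgSp.gsectEt (AlgSp.OEt X))) (E : AlgSp.EtOver X) :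
    E.obj.left ⟶ T :=
  Over.homMk (toAff (CommRingCat.ofHom ((valHom E).comp φ))) (hS.hom_ext _ _)

lemma gE_left_appTop (hS : IsTerminal S) {X : AlgSp.Sp S} (T : Over S) [IsAffine T.left]
    (φ : Γ(T.left, ⊤) →+* ↥(AlgSp.gsectEt (AlgSp.OEt X))) (E : AlgSp.EtOver X) :
    (gE hS T φ E).left.appTop = CommRingCat.ofHom ((valHom E).comp φ) :=
  toAff_appTop _

lemma comp_gE (hS : IsTerminal S) {X : AlgSp.Sp S} (T : Over S) [IsAffine T.left]
    (φ : Γ(T.left, ⊤) →+* ↥(AlgSp.gsectEt (AlgSp.OEt X))) {E' E : AlgSp.EtOver X} (e : E' ⟶ E) :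
    e.hom.left ≫ gE hS T φ E = gE hS T φ E' := by
  apply Over.OverMorphism.ext
  apply ext_of_isAffine
  rw [Over.comp_left, Scheme.Hom.comp_appTop, gE_left_appTop, gE_left_appTop]
  apply CommRingCat.hom_ext
  apply RingHom.ext
  intro r
  exact val_map (φ r) e


open Groth.Agent.R2.H47.SpColim in
/-- the key identification: a map `l` out of `X` that restricts to `gE` on affine étale charts restricts
to `gE` on all objects of the small étale site. -/
lemma comp_eq_of_affine (hS : IsTerminal S) (X : AlgSp.Space S) (T : Over S) [IsAffine T.left]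
    (φ : Γ(T.left, ⊤) →+* ↥(AlgSp.gsectEt (AlgSp.OEt X.obj)))
    (l : X.obj ⟶ (AlgSp.yon S).obj T)
    (hl : ∀ (W : Over S) (c : (AlgSp.yon S).obj W ⟶ X.obj) (_ : IsAffine W.left)
      (hc : AlgSp.RepWith @Etale c), c ≫ l = (AlgSp.yon S).map (gE hS T φ (AlgSp.EtOver.mk c hc)))
    (E : AlgSp.EtOver X.obj) : E.obj.hom ≫ l = (AlgSp.yon S).map (gE hS T φ E) := by
  obtain ⟨G, hG⟩ := (AlgSp.yon S).map_surjective (E.obj.hom ≫ l)
  rw [← hG]
  congr 1
  apply Over.OverMorphism.ext
  refine Scheme.Cover.hom_ext E.obj.left.left.affineCover _ _ (fun i => ?_)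
  -- the affine chart
  let W : Over S := Over.mk (E.obj.left.left.affineCover.f i ≫ E.obj.left.hom)
  let q : W ⟶ E.obj.left := Over.homMk (E.obj.left.left.affineCover.f i) rfl
  have hqe : Etale q.left := inferInstanceAs (Etale (E.obj.left.left.affineCover.f i))
  have hc : AlgSp.RepWith @Etale ((AlgSp.yon S).map q ≫ E.obj.hom) :=
    repWith_etale_yon_map_comp q hqe E.obj.hom E.property
  have hW : IsAffine W.left := inferInstanceAs (IsAffine (E.obj.left.left.affineCover.X i))
  let e : AlgSp.EtOver.mk ((AlgSp.yon S).map q ≫ E.obj.hom) hc ⟶ E := AlgSp.EtOver.homMk q rfl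
  have h1 := hl W _ hW hc
  rw [Category.assoc, ← hG, ← Functor.map_comp] at h1
  have h2 : q ≫ G = gE hS T φ (AlgSp.EtOver.mk ((AlgSp.yon S).map q ≫ E.obj.hom) hc) :=
    (AlgSp.yon S).map_injective h1
  have h3 : q ≫ gE hS T φ E = gE hS T φ (AlgSp.EtOver.mk ((AlgSp.yon S).map q ≫ E.obj.hom) hc) :=
    comp_gE hS T φ e
  have h4 := congrArg (fun k => k.left) (h2.trans h3.symm)
  exact h4

open Groth.Agent.R2.H47.SpColim in
/-- Let X be an algebraic space over a terminal base scheme (so that morphisms over the base are all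
morphisms) and T an affine scheme. Then f ↦ f♯ is a bijection from morphisms X ⟶ T to ring maps Γ(T,
O_T) ⟶ Γ(X, O_X), where Γ(X, O_X) is the ring of global sections of the structure sheaf on the small
etale site and f♯ is characterised by: for every scheme U etale over X, following f♯ by the
restriction Γ(X, O_X) ⟶ Γ(U, O_U) gives the map on global sections of the induced morphism U ⟶ T. -/
theorem result {S : Scheme.{u}} (hS : IsTerminal S) (X : AlgSp.Space S)
    (T : Over S) [IsAffine T.left] (φ : Γ(T.left, ⊤) →+* ↥(AlgSp.gsectEt (AlgSp.OEt X.obj))) :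
    ∃! f : X.obj ⟶ (AlgSp.yon S).obj T,
      ∀ (E : AlgSp.EtOver X.obj) (r : Γ(T.left, ⊤)),
        ((limit.π (AlgSp.OEt X.obj).obj (Opposite.op E)) (φ r)).down =
          ((AlgSp.yon S).preimage (E.obj.hom ≫ f)).left.appTop r := by
  obtain ⟨l, hl⟩ := exists_of_chartFamily (T' := X.obj) (F := (AlgSp.yon S).obj T) X.property
    (fun W c _ hc => (AlgSp.yon S).map (gE hS T φ (AlgSp.EtOver.mk c hc)))
    (by
      intro W W' q c c' hW hW' hc hc' hcc
      rw [← Functor.map_comp]
      congr 1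
      exact (comp_gE hS T φ (AlgSp.EtOver.homMk (E := AlgSp.EtOver.mk c' hc')
        (E' := AlgSp.EtOver.mk c hc) q hcc.symm)).symm)
  have key := comp_eq_of_affine hS X T φ l hl
  refine ⟨l, ?_, ?_⟩
  · intro E r
    have h1 : (AlgSp.yon S).preimage (E.obj.hom ≫ l) = gE hS T φ E := by
      apply (AlgSp.yon S).map_injective
      rw [Functor.map_preimage, key E]
    rw [h1, gE_left_appTop]
    rfl
  · intro f' hf'
    refine hom_ext_of_charts X.property f' l (fun W c hW hc => ?_)
    have hE := key (AlgSp.EtOver.mk c hc)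
    have h1 : (AlgSp.yon S).preimage (c ≫ f') = gE hS T φ (AlgSp.EtOver.mk c hc) := by
      apply Over.OverMorphism.ext
      apply ext_of_isAffine
      rw [gE_left_appTop]
      apply CommRingCat.hom_ext
      apply RingHom.ext
      intro r
      exact (hf' (AlgSp.EtOver.mk c hc) r).symm
    have h2 : c ≫ f' = (AlgSp.yon S).map (gE hS T φ (AlgSp.EtOver.mk c hc)) := by
      rw [← h1, Functor.map_preimage]
    rw [h2]
    exact hE.symm

end Groth.Agent.S10246
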