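import Groth.Statements.S10249
import Groth.Agent.R2.H45Dim
import Groth.Agent.R2.H45HasAt

set_option autoImplicit false
universe u
open CategoryTheory CategoryTheory.Limits AlgebraicGeometry Topology TopologicalSpace
open AlgSp

namespace Groth.Agent.S10249

open Groth.Agent.R2.H45

/-- an étale invariant property of germs has the same `HasAt` at `x` and at its image under an étale
morphism of algebraic spaces. -/
theorem hasAt_iff_of_isEtaleMor {S : Scheme.{u}} {Q : ∀ U : Scheme.{u}, ↥U → Prop}
    (hQ : HasAt.EtInv Q) {X Y : AlgSp.Space S} (f : X ⟶ Y) (hf : AlgSp.IsEtaleMor f.hom)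
    (x : AlgSp.Points X.obj) :
    AlgSp.HasAt Q X.obj x ↔ AlgSp.HasAt Q Y.obj (AlgSp.Points.map f.hom x) := by
  obtain ⟨U, a, u, ha, -, rfl⟩ := HasAt.exists_chart X.property x
  have haf : AlgSp.RepWith @Etale (a ≫ f.hom) := hf a ha
  rw [HasAt.hasAt_iff_of_chart hQ a ha u, AlgSp.Points.map_ofPt,
    HasAt.hasAt_iff_of_chart hQ (a ≫ f.hom) haf u]

/-- Let X and Y be algebraic spaces over a scheme S, f : X ⟶ Y an etale morphism and x ∈ |X| with image
y ∈ |Y|. Then (1) X at x and Y at y have the same dimension: for every d, some etale chart h_U ⟶ X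
from a scheme U and some point u of U over x have local dimension d (of the topological space U at
u) if and only if the same holds for Y at y; and (2) the local rings of X at x and of Y at y have
the same Krull dimension, in the same some-chart sense with the Krull dimension of the local ring of
U at u. -/
theorem result {S : Scheme.{u}} {X Y : AlgSp.Space S} (f : X ⟶ Y)
    (hf : AlgSp.IsEtaleMor f.hom) (x : AlgSp.Points X.obj) :
    (∀ d : WithBot ℕ∞,
        AlgSp.HasAt (fun U u => FlatMor.localDim ↥U u = d) X.obj x ↔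
          AlgSp.HasAt (fun U u => FlatMor.localDim ↥U u = d) Y.obj (AlgSp.Points.map f.hom x)) ∧
    (∀ d : WithBot ℕ∞,
        AlgSp.HasAt (fun U u => ringKrullDim ↥(U.presheaf.stalk u) = d) X.obj x ↔
          AlgSp.HasAt (fun U u => ringKrullDim ↥(U.presheaf.stalk u) = d) Y.obj (AlgSp.Points.map f.hom x)) := by
  refine ⟨fun d => hasAt_iff_of_isEtaleMor ?_ f hf x, fun d => hasAt_iff_of_isEtaleMor ?_ f hf x⟩
  · intro W U g _ w
    change FlatMor.localDim ↥W w = d ↔ FlatMor.localDim ↥U (g w) = d
    rw [Dim.localDim_eq_of_etale g w]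
  · intro W U g _ w
    change ringKrullDim ↥(W.presheaf.stalk w) = d ↔ ringKrullDim ↥(U.presheaf.stalk (g w)) = d
    rw [Dim.ringKrullDim_stalk_eq_of_etale g w]

end Groth.Agent.S10249
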