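import Groth.Statements.S10250
import Groth.Agent.R2.H45Dim
import Groth.Agent.R2.H45HasAt

set_option autoImplicit false
universe u
open CategoryTheory CategoryTheory.Limits AlgebraicGeometry Topology TopologicalSpace
open AlgSp

namespace Groth.Agent.S10250

open Groth.Agent.R2.H45

/-- Let f : X ⟶ Y be an etale and surjective morphism of algebraic spaces over a scheme S. Then X and Y
have the same dimension (the dimension of an algebraic space being the supremum of the Krull
dimensions of the schemes etale over it). -/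
theorem result {S : Scheme.{u}} {X Y : AlgSp.Space S} (f : X ⟶ Y)
    (hf : AlgSp.IsEtaleMor f.hom) (hs : AlgSp.IsSurjectiveMor f.hom) :
    AlgSp.dim X.obj = AlgSp.dim Y.obj := by
  apply le_antisymm
  · unfold AlgSp.dim
    refine iSup_le fun U => iSup_le fun a => iSup_le fun ha => ?_
    exact le_iSup_of_le U (le_iSup_of_le (a ≫ f.hom) (le_iSup_of_le (hf a ha) le_rfl))
  · unfold AlgSp.dim
    refine iSup_le fun V => iSup_le fun b => iSup_le fun hb => ?_
    obtain ⟨U, p, hp, hps⟩ := X.property.atlas
    have hpf : AlgSp.RepWith @Etale (p ≫ f.hom) := hf p hp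
    have sq := hb.rep.isPullback' (p ≫ f.hom)
    have h1 : Etale (hb.rep.snd (p ≫ f.hom)).left := hb.property_snd (p ≫ f.hom)
    have h2 : Etale (hb.rep.fst' (p ≫ f.hom)).left := hpf.2 b _ _ sq.flip
    have h3 : Surjective (hb.rep.fst' (p ≫ f.hom)).left := by
      refine ⟨fun v => ?_⟩
      obtain ⟨x, hx⟩ := hs (AlgSp.Points.ofPt b v)
      obtain ⟨u, rfl⟩ := Groth.Agent.S10177.surjective_ofPt p hps x
      rw [AlgSp.Points.map_ofPt] at hx
      obtain ⟨y, -, hy2⟩ := Groth.Agent.S10176.exists_point_of_isPullback_yon sq.flip u v hx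
      exact ⟨y, hy2⟩
    have h4 : AlgSp.RepWith @Etale ((AlgSp.yon S).map (hb.rep.snd (p ≫ f.hom)) ≫ p) :=
      (AlgSp.repWith_isMultiplicative (S := S) @Etale).comp_mem _ _
        ((AlgSp.repWith_yon_map_iff _ _).2 h1) hp
    refine (Dim.topologicalKrullDim_le_of_flat_of_surjective (hb.rep.fst' (p ≫ f.hom)).left).trans ?_
    exact le_iSup_of_le _ (le_iSup_of_le _ (le_iSup_of_le h4 le_rfl))

end Groth.Agent.S10250
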