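import Groth.Statements.S10282

set_option autoImplicit false
universe u
open CategoryTheory CategoryTheory.Limits AlgebraicGeometry
open AlgSp

namespace Groth.Agent.S10282

namespace Aux

/-- elements of the fraction field of a valuation ring `A` that become integral in a dominating
local ring `A'` lie in `A`. -/
theorem mem_range_of_dominating {A K A' K' : Type u} [CommRing A] [IsDomain A] [ValuationRing A]
    [Field K] [Algebra A K] [IsFractionRing A K] [CommRing A'] [Field K'] [Algebra A' K']
    [FaithfulSMul A' K'] (φ : A →+* A') (ψ : K →+* K')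
    (comm : (algebraMap A' K').comp φ = ψ.comp (algebraMap A K)) [IsLocalHom φ]
    (x : K) (a' : A') (hx : ψ x = algebraMap A' K' a') : ∃ a : A, algebraMap A K a = x := by
  rcases ValuationRing.isInteger_or_isInteger A x with ⟨a, ha⟩ | ⟨a, ha⟩
  · exact ⟨a, ha⟩
  · by_cases hx0 : x = 0
    · exact ⟨0, by rw [map_zero, hx0]⟩
    -- `x⁻¹ = a`, and `a' * φ a = 1`
    have h1 : algebraMap A' K' (a' * φ a) = 1 := by
      have h2 : algebraMap A' K' (φ a) = ψ (algebraMap A K a) := by
        have := congrArg (fun g => g a) comm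
        simpa using this
      rw [map_mul, h2, ← hx, ha, ← map_mul, mul_inv_cancel₀ hx0, map_one]
    have h3 : a' * φ a = 1 := by
      apply FaithfulSMul.algebraMap_injective A' K'
      rw [h1, map_one]
    have hu : IsUnit (φ a) := IsUnit.of_mul_eq_one a' (by rw [mul_comm]; exact h3)
    have hua : IsUnit a := isUnit_of_map_unit φ a hu
    obtain ⟨u, rfl⟩ := hua
    refine ⟨(↑u⁻¹ : A), ?_⟩
    have h4 : algebraMap A K (↑u⁻¹ : A) * algebraMap A K (↑u : A) = 1 := by
      rw [← map_mul, Units.inv_mul, map_one]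
    have h5 : x * algebraMap A K (↑u : A) = 1 := by
      rw [ha, mul_inv_cancel₀ hx0]
    have hne : algebraMap A K (↑u : A) ≠ 0 := by
      intro h0
      rw [h0, mul_zero] at h5
      exact zero_ne_one h5
    exact mul_right_cancel₀ hne (h4.trans h5.symm)

/-- the scheme-level core: a section over `Spec K` which extends over a dominating local ring `A'` extends
over the valuation ring `A`. -/
theorem exists_section {A K A' K' : Type u} [CommRing A] [IsDomain A] [ValuationRing A]
    [Field K] [Algebra A K] [IsFractionRing A K] [CommRing A'] [IsLocalRing A'] [Field K']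
    [Algebra A' K'] [FaithfulSMul A' K'] (φ : A →+* A') (ψ : K →+* K')
    (comm : (algebraMap A' K').comp φ = ψ.comp (algebraMap A K)) [IsLocalHom φ]
    {Z : Scheme.{u}} (π : Z ⟶ Spec (CommRingCat.of A)) (t : Spec (CommRingCat.of A') ⟶ Z)
    (sK : Spec (CommRingCat.of K) ⟶ Z)
    (h2 : sK ≫ π = Spec.map (CommRingCat.ofHom (algebraMap A K)))
    (h3 : Spec.map (CommRingCat.ofHom (algebraMap A' K')) ≫ t =
      Spec.map (CommRingCat.ofHom ψ) ≫ sK) :
    ∃ s : Spec (CommRingCat.of A) ⟶ Z, s ≫ π = 𝟙 _ ∧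
      Spec.map (CommRingCat.ofHom (algebraMap A K)) ≫ s = sK := by
  -- an affine open neighbourhood of the image of the closed point
  let z : Z := t (IsLocalRing.closedPoint A')
  obtain ⟨_, ⟨U, hU : IsAffineOpen U, rfl⟩, hzU, -⟩ :=
    Z.isBasis_affineOpens.exists_subset_of_mem_open (Set.mem_univ z) isOpen_univ
  -- `t` factors through `U`
  have htop : t ⁻¹ᵁ U = ⊤ := IsLocalRing.closed_point_mem_iff.mp hzU
  have htU : Set.range t ⊆ Set.range hU.fromSpec := by
    rw [hU.range_fromSpec]
    rintro _ ⟨y, rfl⟩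
    have : y ∈ t ⁻¹ᵁ U := by rw [htop]; trivial
    exact this
  have hsU : Set.range sK ⊆ Set.range hU.fromSpec := by
    rintro _ ⟨y, rfl⟩
    -- `Spec K'` is nonempty
    obtain ⟨y'⟩ : Nonempty (Spec (CommRingCat.of K')) := inferInstance
    have hy : (Spec.map (CommRingCat.ofHom ψ)) y' = y := Subsingleton.elim _ _
    rw [← hy, ← Scheme.Hom.comp_apply, ← h3, Scheme.Hom.comp_apply]
    exact htU ⟨_, rfl⟩
  let tB := IsOpenImmersion.lift hU.fromSpec t htU
  have htB : tB ≫ hU.fromSpec = t := IsOpenImmersion.lift_fac _ _ _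
  let sB := IsOpenImmersion.lift hU.fromSpec sK hsU
  have hsB : sB ≫ hU.fromSpec = sK := IsOpenImmersion.lift_fac _ _ _
  obtain ⟨β', hβ'⟩ := Spec.map_surjective tB
  obtain ⟨βK, hβK⟩ := Spec.map_surjective sB
  obtain ⟨α, hα⟩ := Spec.map_surjective (hU.fromSpec ≫ π)
  -- compatibility of the ring maps
  have e1 : β' ≫ CommRingCat.ofHom (algebraMap A' K') = βK ≫ CommRingCat.ofHom ψ := by
    apply Spec.map_injective
    rw [Spec.map_comp, Spec.map_comp, hβ', hβK, ← cancel_mono hU.fromSpec, Category.assoc,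
      Category.assoc, htB, hsB, h3]
  have e2 : α ≫ βK = CommRingCat.ofHom (algebraMap A K) := by
    apply Spec.map_injective
    rw [Spec.map_comp, hβK, hα, ← Category.assoc, hsB, h2]
  have hmem : ∀ b, ∃ a : A, algebraMap A K a = βK.hom b := fun b =>
    mem_range_of_dominating φ ψ comm (βK.hom b) (β'.hom b) (by
      have := congrArg (fun g => g.hom b) e1
      simpa using this.symm)
  have hinj : Function.Injective (algebraMap A K) := IsFractionRing.injective A K
  choose β₀ hβ₀ using hmem
  let β : Γ(Z, U) →+* A :=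
    { toFun := β₀
      map_one' := hinj (by rw [hβ₀, map_one, map_one])
      map_mul' := fun x y => hinj (by rw [hβ₀, map_mul, map_mul, hβ₀, hβ₀])
      map_zero' := hinj (by rw [hβ₀, map_zero, map_zero])
      map_add' := fun x y => hinj (by rw [hβ₀, map_add, map_add, hβ₀, hβ₀]) }
  have e3 : CommRingCat.ofHom β ≫ CommRingCat.ofHom (algebraMap A K) = βK := by
    ext b
    exact hβ₀ b
  refine ⟨Spec.map (CommRingCat.ofHom β) ≫ hU.fromSpec, ?_, ?_⟩
  · rw [Category.assoc, ← hα, ← Spec.map_comp, ← Spec.map_id]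
    congr 1
    ext a
    apply hinj
    have h4 : βK.hom (α.hom a) = algebraMap A K a := by
      have := congrArg (fun g => g.hom a) e2
      simpa using this
    exact (hβ₀ (α.hom a)).trans h4
  · rw [← Category.assoc, ← Spec.map_comp, e3, hβK, hsB]

variable {S : Scheme.{u}}

/-- a lift of the square itself gives a lift after any dominating extension. -/
theorem hasLiftExt_of_hasLift {F G : AlgSp.Sp S} {f : F ⟶ G} (sq : AlgSp.ValSq f)
    (h : sq.HasLift) : sq.HasLiftExt := by
  obtain ⟨l, hl1, hl2⟩ := h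
  let e : sq.DomExt :=
    { A' := sq.A
      K' := sq.K
      φ := RingHom.id _
      ψ := RingHom.id _
      comm := rfl
      isLocalHom := ⟨fun a h => h⟩ }
  refine ⟨e, (AlgSp.yon S).map (Over.homMk (Spec.map (CommRingCat.ofHom e.φ)) rfl :
    e.ptA' ⟶ sq.ptA) ≫ l, ?_, ?_⟩
  · rw [← hl1, ← Category.assoc, ← Category.assoc, ← Functor.map_comp, ← Functor.map_comp]
    congr 2
    ext
    change Spec.map _ ≫ Spec.map _ = Spec.map _ ≫ Spec.map _
    rw [← Spec.map_comp, ← Spec.map_comp, ← CommRingCat.ofHom_comp, ← CommRingCat.ofHom_comp,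
      e.comm]
  · rw [Category.assoc, hl2]

/-- for a representable morphism, a lift after a dominating extension gives a lift of the square. -/
theorem hasLift_of_hasLiftExt {F G : AlgSp.Sp S} {f : F ⟶ G} (hf : AlgSp.Representable f)
    (sq : AlgSp.ValSq f) (h : sq.HasLiftExt) : sq.HasLift := by
  obtain ⟨e, l, hl1, hl2⟩ := h
  obtain ⟨Z, π, fstZ, sqZ⟩ := hf sq.bot
  -- the section over `Spec K`
  obtain ⟨sK, hsK⟩ := (AlgSp.yon S).map_surjective (sqZ.lift sq.top ((AlgSp.yon S).map sq.j) sq.comm)
  have hsK1 : (AlgSp.yon S).map sK ≫ fstZ = sq.top := by rw [hsK]; exact sqZ.lift_fst _ _ _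
  have hsK2 : sK ≫ π = sq.j := (AlgSp.yon S).map_injective (by
    rw [Functor.map_comp, hsK]; exact sqZ.lift_snd _ _ _)
  -- the extension over `Spec A'`
  let b : e.ptA' ⟶ sq.ptA := Over.homMk (Spec.map (CommRingCat.ofHom e.φ)) rfl
  obtain ⟨t, ht⟩ := (AlgSp.yon S).map_surjective (sqZ.lift l ((AlgSp.yon S).map b) hl2)
  have ht1 : (AlgSp.yon S).map t ≫ fstZ = l := by rw [ht]; exact sqZ.lift_fst _ _ _
  have ht2 : t ≫ π = b := (AlgSp.yon S).map_injective (by
    rw [Functor.map_comp, ht]; exact sqZ.lift_snd _ _ _)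
  let a : e.ptK' ⟶ e.ptA' := Over.homMk (Spec.map (CommRingCat.ofHom (algebraMap e.A' e.K'))) rfl
  let c : e.ptK' ⟶ sq.ptK := Over.homMk (Spec.map (CommRingCat.ofHom e.ψ)) (by
    change Spec.map _ ≫ Spec.map _ ≫ _ = Spec.map _ ≫ Spec.map _ ≫ _
    rw [← Spec.map_comp_assoc, ← Spec.map_comp_assoc, ← CommRingCat.ofHom_comp,
      ← CommRingCat.ofHom_comp, e.comm])
  have hab : a ≫ b = c ≫ sq.j := by
    ext
    change Spec.map _ ≫ Spec.map _ = Spec.map _ ≫ Spec.map _
    rw [← Spec.map_comp, ← Spec.map_comp, ← CommRingCat.ofHom_comp, ← CommRingCat.ofHom_comp,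
      e.comm]
  have hat : a ≫ t = c ≫ sK := by
    apply (AlgSp.yon S).map_injective
    apply sqZ.hom_ext
    · rw [Functor.map_comp, Functor.map_comp, Category.assoc, Category.assoc, ht1, hsK1]
      exact hl1
    · rw [← Functor.map_comp, ← Functor.map_comp, Category.assoc, Category.assoc, ht2, hsK2, hab]
  -- the scheme-level section
  have h2 : sK.left ≫ π.left = Spec.map (CommRingCat.ofHom (algebraMap sq.A sq.K)) :=
    congrArg Over.Hom.left hsK2
  have h3 : Spec.map (CommRingCat.ofHom (algebraMap e.A' e.K')) ≫ t.left =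
      Spec.map (CommRingCat.ofHom e.ψ) ≫ sK.left := congrArg Over.Hom.left hat
  have := e.isLocalHom
  have : IsLocalRing e.A' := inferInstance
  obtain ⟨s, hs1, hs2⟩ := exists_section e.φ e.ψ e.comm π.left t.left sK.left h2 h3
  let sO : sq.ptA ⟶ Z := Over.homMk s (by
    rw [← Over.w π, ← Category.assoc, hs1]
    exact Category.id_comp _)
  have hsO1 : sO ≫ π = 𝟙 _ := by
    ext
    exact hs1
  have hsO2 : sq.j ≫ sO = sK := by
    ext
    exact hs2
  refine ⟨(AlgSp.yon S).map sO ≫ fstZ, ?_, ?_⟩
  · rw [← Category.assoc, ← Functor.map_comp, hsO2, hsK1]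
  · rw [Category.assoc, sqZ.w, ← Category.assoc, ← Functor.map_comp, hsO1, (AlgSp.yon S).map_id,
      Category.id_comp]

end Aux

/-- For a representable morphism of algebraic spaces the existence part of the valuative criterion with
extensions allowed is equivalent to the one without extensions. -/
theorem result {S : Scheme.{u}} {X Y : AlgSp.Space S} (f : X ⟶ Y)
    (hf : AlgSp.Representable f.hom) : AlgSp.ExistVC f.hom ↔ AlgSp.ExistVCStrict f.hom :=
  ⟨fun h sq => Aux.hasLift_of_hasLiftExt hf sq (h sq), fun h sq => Aux.hasLiftExt_of_hasLift sq (h sq)⟩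

end Groth.Agent.S10282
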