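import Groth.Statements.S10283
import Groth.Agent.R2.H95ValGlue
import Groth.Agent.S10292
import Groth.Agent.S10284
import Groth.Agent.S9874

set_option autoImplicit false
set_option linter.style.haveILetI false
set_option backward.isDefEq.respectTransparency false
universe u
open CategoryTheory CategoryTheory.Limits AlgebraicGeometry
open AlgSp

namespace Groth.Agent.S10283

open Groth.Agent.R2.H95.ValGlue

/-- In the existence part of the valuative criterion for a morphism of algebraic spaces one may restrict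
to finite separable extensions of the fraction field. -/
theorem result {S : Scheme.{u}} {X Y : AlgSp.Space S} (f : X ⟶ Y)
    (hf : AlgSp.ExistVC f.hom) (sq : AlgSp.ValSq f.hom) :
    ∃ e : sq.DomExt, (letI := e.ψ.toAlgebra; Module.Finite sq.K e.K' ∧ Algebra.IsSeparable sq.K e.K') ∧
      e.HasLift := by
  obtain ⟨e₀, l₀, hl1, hl2⟩ := hf sq
  -- the morphisms of spectra over `S`
  let φ' : e₀.ptA' ⟶ sq.ptA := Over.homMk (Spec.map (CommRingCat.ofHom e₀.φ)) rfl
  let j' : e₀.ptK' ⟶ e₀.ptA' :=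
    Over.homMk (Spec.map (CommRingCat.ofHom (algebraMap e₀.A' e₀.K'))) rfl
  let ψ' : e₀.ptK' ⟶ sq.ptK := Over.homMk (Spec.map (CommRingCat.ofHom e₀.ψ)) (by
    change Spec.map _ ≫ Spec.map _ ≫ _ = Spec.map _ ≫ Spec.map _ ≫ _
    rw [← Spec.map_comp_assoc, ← Spec.map_comp_assoc, ← CommRingCat.ofHom_comp,
      ← CommRingCat.ofHom_comp, e₀.comm])
  -- base change to `Spec A`
  have hXA : AlgSp.IsAlgSpace (pullback f.hom sq.bot) :=
    Groth.Agent.S9874.isAlgSpace_of_isPullback Y.property.diag X.property (IsAlgSpace.yon_obj _)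
      (IsPullback.of_hasPullback f.hom sq.bot)
  obtain ⟨π, hπ⟩ : ∃ π : pullback f.hom sq.bot ⟶ (AlgSp.yon S).obj sq.ptA,
      π = pullback.snd f.hom sq.bot := ⟨_, rfl⟩
  obtain ⟨a', ha'1, ha'2⟩ : ∃ a' : (AlgSp.yon S).obj e₀.ptA' ⟶ pullback f.hom sq.bot,
      a' ≫ pullback.fst f.hom sq.bot = l₀ ∧ a' ≫ π = (AlgSp.yon S).map φ' :=
    ⟨pullback.lift l₀ ((AlgSp.yon S).map φ') hl2, pullback.lift_fst _ _ _, by
      rw [hπ]; exact pullback.lift_snd _ _ _⟩
  obtain ⟨σK, hσK1, hσK2⟩ : ∃ σK : (AlgSp.yon S).obj sq.ptK ⟶ pullback f.hom sq.bot,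
      σK ≫ pullback.fst f.hom sq.bot = sq.top ∧ σK ≫ π = (AlgSp.yon S).map sq.j :=
    ⟨pullback.lift sq.top ((AlgSp.yon S).map sq.j) sq.comm, pullback.lift_fst _ _ _, by
      rw [hπ]; exact pullback.lift_snd _ _ _⟩
  have hXA_ext : ∀ {Z : AlgSp.Sp S} (u v : Z ⟶ pullback f.hom sq.bot),
      u ≫ pullback.fst f.hom sq.bot = v ≫ pullback.fst f.hom sq.bot → u ≫ π = v ≫ π → u = v := by
    intro Z u v h1 h2
    rw [hπ] at h2
    exact pullback.hom_ext h1 h2
  -- the chart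
  obtain ⟨U, p, hpe, hps⟩ := hXA.atlas
  obtain ⟨W, a, hW, sqW0⟩ := hpe.1 a'
  obtain ⟨h, rfl⟩ := (AlgSp.yon S).map_surjective hW
  have sqW : IsPullback ((AlgSp.yon S).map h) ((AlgSp.yon S).map a) p a' := sqW0
  haveI : Etale a.left := hpe.2 a' _ a sqW
  haveI : Surjective a.left := hps.2 a' _ a sqW
  obtain ⟨πU, hπU⟩ := (AlgSp.yon S).map_surjective (p ≫ π)
  -- lift the valuation ring to the chart
  obtain ⟨w', hw'⟩ := (inferInstance : Surjective a.left).surj (IsLocalRing.closedPoint e₀.A')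
  obtain ⟨A'', iA1, iA2, iA3, φ'', i, hφ''i, hφ''l, hi⟩ :=
    Groth.Agent.S10292.exists_valuation_lift (A := e₀.A') a.left w' hw'
  -- the extension `A''` of `A'` as a dominating extension of the square
  have hAK : Function.Injective (algebraMap sq.A sq.K) := IsFractionRing.injective sq.A sq.K
  obtain ⟨K'', iK1, iK2, iK3⟩ : ∃ (K'' : Type u) (_ : Field K'') (_ : Algebra A'' K''),
      IsFractionRing A'' K'' := ⟨FractionRing A'', inferInstance, inferInstance, inferInstance⟩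
  have hA''K'' : Function.Injective (algebraMap A'' K'') := IsFractionRing.injective A'' K''
  have hκinj : Function.Injective ((algebraMap A'' K'').comp φ'') := hA''K''.comp hφ''i
  obtain ⟨κ, hκ⟩ : ∃ κ : e₀.K' →+* K'',
      κ.comp (algebraMap e₀.A' e₀.K') = (algebraMap A'' K'').comp φ'' :=
    ⟨IsFractionRing.lift hκinj, by ext x; exact IsFractionRing.lift_algebraMap hκinj x⟩
  haveI := e₀.isLocalHom
  let e'' : sq.DomExt :=
    { A' := A''
      K' := K''
      φ := φ''.comp e₀.φ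
      ψ := κ.comp e₀.ψ
      comm := by
        ext x
        have h1 := congrArg (fun r : e₀.A' →+* K'' => r (e₀.φ x)) hκ
        have h2 := congrArg (fun r : sq.A →+* e₀.K' => κ (r x)) e₀.comm
        simp only [RingHom.comp_apply] at h1 h2 ⊢
        rw [← h2, h1]
      isLocalHom := RingHom.isLocalHom_comp _ _ }
  have hφe : e''.φ = φ''.comp e₀.φ := rfl
  have hψe : e''.ψ = κ.comp e₀.ψ := rfl
  let Φ' : e''.ptA' ⟶ sq.ptA := Over.homMk (Spec.map (CommRingCat.ofHom e''.φ)) rfl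
  let j'' : e''.ptK' ⟶ e''.ptA' :=
    Over.homMk (Spec.map (CommRingCat.ofHom (algebraMap e''.A' e''.K'))) rfl
  let ψ'' : e''.ptK' ⟶ sq.ptK := Over.homMk (Spec.map (CommRingCat.ofHom e''.ψ)) (by
    change Spec.map _ ≫ Spec.map _ ≫ _ = Spec.map _ ≫ Spec.map _ ≫ _
    rw [← Spec.map_comp_assoc, ← Spec.map_comp_assoc, ← CommRingCat.ofHom_comp,
      ← CommRingCat.ofHom_comp, e''.comm])
  have comm'' : j'' ≫ Φ' = ψ'' ≫ sq.j := by
    ext
    change Spec.map _ ≫ Spec.map _ = Spec.map _ ≫ Spec.map _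
    rw [← Spec.map_comp, ← Spec.map_comp, ← CommRingCat.ofHom_comp, ← CommRingCat.ofHom_comp,
      e''.comm]
  let τ : e''.ptA' ⟶ e₀.ptA' := Over.homMk (Spec.map (CommRingCat.ofHom φ'')) (by
    change Spec.map _ ≫ Spec.map _ ≫ _ = Spec.map _ ≫ _
    rw [← Spec.map_comp_assoc, ← CommRingCat.ofHom_comp, hφe])
  have hτφ : τ ≫ φ' = Φ' := by
    ext
    change Spec.map _ ≫ Spec.map _ = Spec.map _
    rw [← Spec.map_comp, ← CommRingCat.ofHom_comp, hφe]
  let τK : e''.ptK' ⟶ e₀.ptK' := Over.homMk (Spec.map (CommRingCat.ofHom κ)) (by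
    change Spec.map _ ≫ Spec.map _ ≫ Spec.map _ ≫ _ = Spec.map _ ≫ Spec.map _ ≫ _
    simp only [← Spec.map_comp_assoc, ← CommRingCat.ofHom_comp]
    rw [← RingHom.comp_assoc, hκ, hφe, RingHom.comp_assoc])
  have hτK1 : j'' ≫ τ = τK ≫ j' := by
    ext
    change Spec.map _ ≫ Spec.map _ = Spec.map _ ≫ Spec.map _
    rw [← Spec.map_comp, ← Spec.map_comp, ← CommRingCat.ofHom_comp, ← CommRingCat.ofHom_comp, hκ]
  have hτK2 : τK ≫ ψ' = ψ'' := by
    ext
    change Spec.map _ ≫ Spec.map _ = Spec.map _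
    rw [← Spec.map_comp, ← CommRingCat.ofHom_comp, hψe]
  let iW : e''.ptA' ⟶ W := Over.homMk i (by
    have h1 := Over.w a
    change i ≫ W.hom = Spec.map _ ≫ _
    rw [← h1, ← Category.assoc, hi]
    change Spec.map _ ≫ Spec.map _ ≫ _ = _
    rw [← Spec.map_comp_assoc, ← CommRingCat.ofHom_comp, hφe])
  have hiWa : iW ≫ a = τ := by
    ext
    exact hi
  obtain ⟨g, hg⟩ : ∃ g : e''.ptA' ⟶ U, g = iW ≫ h := ⟨_, rfl⟩
  have hgp : (AlgSp.yon S).map g ≫ p = (AlgSp.yon S).map τ ≫ a' := by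
    rw [hg, Functor.map_comp, Category.assoc, sqW.w, ← Category.assoc, ← Functor.map_comp, hiWa]
  have hgπ : g ≫ πU = Φ' := by
    apply (AlgSp.yon S).map_injective
    rw [Functor.map_comp, hπU, ← Category.assoc, hgp, Category.assoc, ha'2, ← Functor.map_comp, hτφ]
  have hcompat'' : (AlgSp.yon S).map (j'' ≫ g) ≫ p = (AlgSp.yon S).map ψ'' ≫ σK := by
    rw [Functor.map_comp, Category.assoc, hgp, ← Category.assoc, ← Functor.map_comp, hτK1]
    apply hXA_ext
    · rw [Category.assoc, ha'1, Category.assoc, hσK1, Functor.map_comp, Category.assoc, hl1,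
        ← Category.assoc, ← Functor.map_comp, hτK2]
    · rw [Category.assoc, ha'2, Category.assoc, hσK2, ← Functor.map_comp, ← Functor.map_comp,
        ← hτK1, Category.assoc, hτφ, comm'']
  -- the generic fibre of the chart
  obtain ⟨UK, pr₂, hpr₁, sqUK0⟩ := hpe.1 σK
  obtain ⟨pr₁, rfl⟩ := (AlgSp.yon S).map_surjective hpr₁
  have sqUK : IsPullback ((AlgSp.yon S).map pr₁) ((AlgSp.yon S).map pr₂) p σK := sqUK0
  haveI : Etale pr₂.left := hpe.2 σK _ pr₂ sqUK
  obtain ⟨k, hk⟩ := (AlgSp.yon S).map_surjective (sqUK.lift _ _ hcompat'')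
  have hk1 : k ≫ pr₁ = j'' ≫ g := by
    apply (AlgSp.yon S).map_injective
    rw [Functor.map_comp, hk]; exact sqUK.lift_fst _ _ _
  have hk2 : k ≫ pr₂ = ψ'' := by
    apply (AlgSp.yon S).map_injective
    rw [Functor.map_comp, hk]; exact sqUK.lift_snd _ _ _
  -- the residue field of the image point
  obtain ⟨kL, hkL⟩ : ∃ kL : Spec (.of K'') ⟶ UK.left, kL = k.left := ⟨_, rfl⟩
  obtain ⟨z, hz⟩ : ∃ z : UK.left, z = kL (IsLocalRing.closedPoint K'') := ⟨_, rfl⟩
  obtain ⟨ι, hι⟩ : ∃ ι : UK.left.residueField z ⟶ .of K'',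
      Spec.map ι ≫ UK.left.fromSpecResidueField z = kL := by
    subst hz
    exact ⟨_, Scheme.descResidueField_stalkClosedPointTo_fromSpecResidueField K'' UK.left kL⟩
  obtain ⟨ψ₁, hψ₁, hfin, hsep⟩ :=
    exists_residueField_finite_separable (K := sq.K) pr₂.left z
  have hιψ : ι.hom.comp ψ₁ = e''.ψ := by
    have h1 : CommRingCat.ofHom ψ₁ ≫ ι = CommRingCat.ofHom e''.ψ := by
      apply Spec.map_injective
      rw [Spec.map_comp, hψ₁, ← Category.assoc, hι, hkL, ← Over.comp_left, hk2]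
      rfl
    exact congrArg (fun r : CommRingCat.of sq.K ⟶ CommRingCat.of K'' => r.hom) h1
  obtain ⟨κ₁, hκ₁⟩ : ∃ κ₁ : Spec (.of (UK.left.residueField z)) ⟶ U.left,
      κ₁ = UK.left.fromSpecResidueField z ≫ pr₁.left := ⟨_, rfl⟩
  have hSL : Spec.map (CommRingCat.ofHom ι.hom) ≫ κ₁ =
      Spec.map (CommRingCat.ofHom (algebraMap A'' K'')) ≫ g.left := by
    rw [hκ₁, ← Category.assoc]
    change (Spec.map ι ≫ _) ≫ _ = _
    rw [hι, hkL, ← Over.comp_left, hk1]
    rfl
  obtain ⟨g₁, hg₁a, hg₁b⟩ := exists_lift_capSubring ι.hom g.left κ₁ hSL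
  -- the finite separable dominating extension
  have hmem : ∀ x : sq.A, ψ₁ (algebraMap sq.A sq.K x) ∈ capSubring A'' ι.hom := by
    intro x
    refine (mem_capSubring_iff ι.hom _).2 ⟨e''.φ x, ?_⟩
    have h1 := congrArg (fun r : sq.A →+* K'' => r x) e''.comm
    have h2 := congrArg (fun r : sq.K →+* K'' => r (algebraMap sq.A sq.K x)) hιψ
    simp only [RingHom.comp_apply] at h1 h2
    rw [h2]
    exact h1
  let φ₁ : sq.A →+* capSubring A'' ι.hom :=
    (ψ₁.comp (algebraMap sq.A sq.K)).codRestrict (capSubring A'' ι.hom).toSubring hmem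
  have hcapφ : (capToRing (A' := A'') ι.hom).comp φ₁ = e''.φ := by
    ext x
    apply hA''K''
    change algebraMap A'' K'' (capToRing (A' := A'') ι.hom (φ₁ x)) = _
    rw [algebraMap_capToRing]
    have h1 := congrArg (fun r : sq.A →+* K'' => r x) e''.comm
    have h2 := congrArg (fun r : sq.K →+* K'' => r (algebraMap sq.A sq.K x)) hιψ
    exact h2.trans h1.symm
  let e₁ : sq.DomExt :=
    { A' := capSubring A'' ι.hom
      K' := UK.left.residueField z
      φ := φ₁
      ψ := ψ₁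
      comm := by ext x; rfl
      isLocalHom := ⟨fun x hx => by
        have h1 : IsUnit (capToRing (A' := A'') ι.hom (φ₁ x)) := hx.map _
        have h2 : capToRing (A' := A'') ι.hom (φ₁ x) = e''.φ x :=
          congrArg (fun r : sq.A →+* A'' => r x) hcapφ
        rw [h2] at h1
        exact e''.isLocalHom.map_nonunit x h1⟩ }
  refine ⟨e₁, ⟨hfin, hsep⟩, ?_⟩
  -- `Spec A'' ⟶ Spec A₁` is an epimorphism of schemes
  have hff := Groth.Agent.S10284.faithfullyFlat_of_valuationRing (capToRing (A' := A'') ι.hom)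
    (capToRing_injective (A' := A'') ι.hom)
  have hfs := (flat_and_surjective_SpecMap_iff (CommRingCat.ofHom (capToRing (A' := A'') ι.hom))).2 hff
  haveI : Flat (Spec.map (CommRingCat.ofHom (capToRing (A' := A'') ι.hom))) := hfs.1
  haveI : Surjective (Spec.map (CommRingCat.ofHom (capToRing (A' := A'') ι.hom))) := hfs.2
  haveI hepi : Epi (Spec.map (CommRingCat.ofHom (capToRing (A' := A'') ι.hom))) :=
    Flat.epi_of_flat_of_surjective _
  have hg₁π : g₁ ≫ πU.left = Spec.map (CommRingCat.ofHom φ₁) := by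
    rw [← cancel_epi (Spec.map (CommRingCat.ofHom (capToRing (A' := A'') ι.hom))), ← Category.assoc, hg₁b,
      ← Over.comp_left, hgπ, ← Spec.map_comp, ← CommRingCat.ofHom_comp, hcapφ]
    rfl
  have hover : g₁ ≫ U.hom = Spec.map (CommRingCat.ofHom e₁.φ) ≫ sq.str := by
    have h1 := Over.w πU
    rw [← h1, ← Category.assoc, hg₁π]
    rfl
  let g₁' : e₁.ptA' ⟶ U := Over.homMk g₁ hover
  have hg₁'π : g₁' ≫ πU =
      (Over.homMk (Spec.map (CommRingCat.ofHom e₁.φ)) rfl : e₁.ptA' ⟶ sq.ptA) := by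
    ext
    exact hg₁π
  have hoverK : UK.left.fromSpecResidueField z ≫ UK.hom = e₁.ptK'.hom := by
    have h1 := Over.w pr₂
    rw [← h1, ← Category.assoc, ← hψ₁]
    change Spec.map _ ≫ Spec.map _ ≫ _ = Spec.map _ ≫ Spec.map _ ≫ _
    rw [← Spec.map_comp_assoc, ← Spec.map_comp_assoc, ← CommRingCat.ofHom_comp,
      ← CommRingCat.ofHom_comp, e₁.comm]
  let k₁ : e₁.ptK' ⟶ UK := Over.homMk (UK.left.fromSpecResidueField z) hoverK
  have hk₁1 : k₁ ≫ pr₁ = (Over.homMk (Spec.map (CommRingCat.ofHom (algebraMap e₁.A' e₁.K'))) rfl :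
      e₁.ptK' ⟶ e₁.ptA') ≫ g₁' := by
    ext
    change UK.left.fromSpecResidueField z ≫ pr₁.left = Spec.map _ ≫ g₁
    rw [← hκ₁]
    exact hg₁a.symm
  have hk₁2 : k₁ ≫ pr₂ = (Over.homMk (Spec.map (CommRingCat.ofHom e₁.ψ)) (by
      change Spec.map _ ≫ Spec.map _ ≫ _ = Spec.map _ ≫ Spec.map _ ≫ _
      rw [← Spec.map_comp_assoc, ← Spec.map_comp_assoc, ← CommRingCat.ofHom_comp,
        ← CommRingCat.ofHom_comp, e₁.comm]) : e₁.ptK' ⟶ sq.ptK) := by
    ext
    exact hψ₁.symm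
  refine ⟨(AlgSp.yon S).map g₁' ≫ p ≫ pullback.fst f.hom sq.bot, ?_, ?_⟩
  · rw [← Category.assoc, ← Functor.map_comp, ← hk₁1, Functor.map_comp, Category.assoc,
      ← Category.assoc ((AlgSp.yon S).map pr₁), sqUK.w, Category.assoc, hσK1, ← Category.assoc,
      ← Functor.map_comp, hk₁2]
  · rw [Category.assoc, Category.assoc, pullback.condition, ← hπ, ← Category.assoc p, ← hπU,
      ← Category.assoc, ← Functor.map_comp, hg₁'π]

end Groth.Agent.S10283
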