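import Groth.Statements.S10296
import Groth.Agent.S10272
import Groth.Agent.S10267
import Groth.Agent.S9905

set_option autoImplicit false
universe u
open CategoryTheory CategoryTheory.Limits AlgebraicGeometry
open AlgSp

namespace Groth.Agent.S10296

/-- an integral morphism of algebraic spaces is separated. -/
theorem isSeparatedMor_of_isIntegralMor {S : Scheme.{u}} {Z X : AlgSp.Space S} (π : Z ⟶ X)
    (hπ : AlgSp.IsIntegralMor π.hom) : AlgSp.IsSeparatedMor π.hom := by
  have h1 : AlgSp.RepWith @IsIntegralHom π.hom := (Groth.Agent.S10267.result π).1.1 hπ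
  have h2 : AlgSp.RepWith @IsSeparated π.hom :=
    ⟨h1.1, fun U V g fst snd sq => by
      haveI : IsIntegralHom snd.left := h1.2 g fst snd sq
      exact (inferInstance : IsSeparated snd.left)⟩
  exact ((Groth.Agent.S9905.result π h1.1).1).2 h2

/-- The induced morphism from the normalization of X in Y to any integral Z -> X through which Y -> X
factors is the normalization of Z in Y. -/
theorem result {S : Scheme.{u}} {Y X X' Z : AlgSp.Space S} (f : Y ⟶ X)
    (hqc : AlgSp.IsQuasiCompactMor f.hom) (hqs : AlgSp.IsQuasiSeparatedMor f.hom) (ν : X' ⟶ X) (f' : Y ⟶ X')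
    (hn : AlgSp.IsRelNormalization f.hom ν.hom f'.hom) (π : Z ⟶ X) (hπ : AlgSp.IsIntegralMor π.hom) (g : Y ⟶ Z)
    (hg : g ≫ π = f) (h : X' ⟶ Z) (h1 : f' ≫ h = g) (h2 : h ≫ π = ν) :
    AlgSp.IsRelNormalization g.hom h.hom f'.hom := by
  obtain ⟨hfac, hνint, huniv⟩ := hn
  have hgπ : g.hom ≫ π.hom = f.hom := congrArg (fun k => k.hom) hg
  have hf'h : f'.hom ≫ h.hom = g.hom := congrArg (fun k => k.hom) h1
  have hhπ : h.hom ≫ π.hom = ν.hom := congrArg (fun k => k.hom) h2
  refine ⟨hf'h, ?_, ?_⟩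
  · -- `h` is integral by cancellation along the separated `π`
    have hsep := isSeparatedMor_of_isIntegralMor π hπ
    have hcomp : AlgSp.IsIntegralMor (h ≫ π).hom := by
      rw [h2]; exact hνint
    exact (Groth.Agent.S10272.result h π hsep).2 hcomp
  · intro W hW π' g' hπ' hg'
    -- the composite `π' ≫ π` is integral
    have hcomp : AlgSp.IsIntegralMor (π' ≫ π.hom) :=
      Groth.Agent.S10272.affTest_comp @IsIntegralHom π' π.hom hπ' hπ
    have hfac' : g' ≫ (π' ≫ π.hom) = f.hom := by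
      rw [← Category.assoc, hg', hgπ]
    obtain ⟨k, ⟨hk1, hk2⟩, hkuniq⟩ := huniv hW (π' ≫ π.hom) g' hcomp hfac'
    -- `k ≫ π'` and `h` agree by uniqueness for `(Z, π, g)`
    obtain ⟨k0, -, hk0uniq⟩ := huniv Z.property π.hom g.hom hπ hgπ
    have e1 : k ≫ π' = k0 := hk0uniq _ ⟨by rw [← Category.assoc, hk1, hg'], by
      rw [Category.assoc]; exact hk2⟩
    have e2 : h.hom = k0 := hk0uniq _ ⟨hf'h, hhπ⟩
    refine ⟨k, ⟨hk1, e1.trans e2.symm⟩, ?_⟩
    rintro k' ⟨hk'1, hk'2⟩
    exact hkuniq k' ⟨hk'1, by rw [← Category.assoc, hk'2, hhπ]⟩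

end Groth.Agent.S10296
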