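import Groth.Statements.S10300
import Groth.Agent.R2.H95NormGlueC
import Groth.Agent.R2.H95NormSch
import Groth.Agent.R2.H59QMain
import Groth.Agent.R2.H59SLQF
import Groth.Agent.R2.H44FppfLocal
import Groth.Agent.S9912
import Groth.Agent.Lib.Helper12Proper

set_option autoImplicit false
set_option linter.style.haveILetI false
set_option backward.isDefEq.respectTransparency false
universe u
open CategoryTheory CategoryTheory.Limits AlgebraicGeometry
open AlgSp

namespace Groth.Agent.S10300

/-- For f quasi-finite and separated, the map from X to the normalization of Y in X is a quasi-compact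
open immersion, and f is quasi-affine. -/
theorem result {S : Scheme.{u}} {X Y Y' : AlgSp.Space S}
    (f : X ⟶ Y) (hqf : AlgSp.LocP (@LocallyQuasiFinite ⊓ @LocallyOfFiniteType) f.hom)
    (hqc : AlgSp.IsQuasiCompactMor f.hom) (hsep : AlgSp.IsSeparatedMor f.hom) (ν : Y' ⟶ Y) (f' : X ⟶ Y')
    (hn : AlgSp.IsRelNormalization f.hom ν.hom f'.hom) :
    AlgSp.RepWith @IsOpenImmersion f'.hom ∧ AlgSp.IsQuasiCompactMor f'.hom ∧ AlgSp.IsQuasiAffineMor f.hom := by
  have hrep : AlgSp.Representable f.hom :=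
    Groth.Agent.R2.H59.QMain.representable_of_lqf_separated X.property Y.property f.hom hsep hqf
  have hqcrep : AlgSp.RepWith @QuasiCompact f.hom :=
    Groth.Agent.S9912.repWith_quasiCompact_of_isQuasiCompactMor f.hom hrep hqc
  -- an étale chart of `Y` and the base change of `f`
  obtain ⟨U, p, hp1, hp2⟩ := Y.property.atlas
  obtain ⟨V, g, a, sq⟩ := hrep p
  have ha : AlgSp.RepWith @Etale a :=
    MorphismProperty.of_isPullback (P := AlgSp.RepWith @Etale) sq.flip hp1
  have hg1 := hqf a p g ha hp1 sq.w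
  haveI : LocallyQuasiFinite g.left := hg1.1
  haveI : LocallyOfFiniteType g.left := hg1.2
  haveI : IsSeparated g.left := (AlgSp.isSeparatedMor_yon_map_iff g).1
    (Groth.Agent.Lib.Helper12.Proper.isSeparatedMor_baseChange sq hsep)
  haveI : QuasiCompact g.left := hqcrep.2 p a g sq
  -- the normalization of the chart
  obtain ⟨N, ν₀, η₀, e₀, he₀1, he₀2, hfac₀, hst₀⟩ := Groth.Agent.R2.H95.NormSch.exists_stableNorm g
  have hη₀ : η₀.left = g.left.toNormalization ≫ e₀.inv := by
    rw [← he₀1, Category.assoc, Iso.hom_inv_id, Category.comp_id]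
  haveI : IsOpenImmersion η₀.left := by rw [hη₀]; infer_instance
  haveI : QuasiCompact η₀.left := by rw [hη₀]; infer_instance
  have hst : Groth.Agent.R2.H95.NormSpec.StableNorm @Etale ((AlgSp.yon S).map g) ν₀
      ((AlgSp.yon S).map η₀) := by
    refine Groth.Agent.R2.H95.NormSpec.StableNorm.mono (P' := @Smooth) ?_ hst₀
    intro A B k hk
    haveI : Etale k := hk
    exact (inferInstance : Smooth k)
  obtain ⟨X'', ν'', f'', q, hX'', hnorm, sqN, hηq, hqe, hqs⟩ :=
    Groth.Agent.R2.H95.NormGlue.exists_of_chart Y.property f.hom p hp1 hp2 a ((AlgSp.yon S).map g) sq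
      ν₀ ((AlgSp.yon S).map η₀) (by rw [← Functor.map_comp, hfac₀]) hst
  obtain ⟨e, he1, he2⟩ := Groth.Agent.R2.H95.NormSpec.exists_iso_of_isRelNormalization f.hom
    Y'.property hX'' hn hnorm
  -- the base change of `f''` to the chart `h_N`
  have sqL : IsPullback ((AlgSp.yon S).map η₀) a q f'' := by
    have outer : IsPullback ((AlgSp.yon S).map η₀ ≫ (AlgSp.yon S).map ν₀) a p (f'' ≫ ν'') := by
      rw [← Functor.map_comp, hfac₀, hnorm.1]
      exact sq.flip
    exact IsPullback.of_right outer hηq sqN.flip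
  haveI := Groth.Agent.R2.H59.AffDesc.isLocallySurjective_of_repWith_etale_surjective q hqe hqs
  have h1 : AlgSp.RepWith @IsSeparated ((AlgSp.yon S).map η₀) :=
    (AlgSp.repWith_yon_map_iff _ η₀).2 inferInstance
  have h2 : AlgSp.RepWith @LocallyQuasiFinite ((AlgSp.yon S).map η₀) :=
    (AlgSp.repWith_yon_map_iff _ η₀).2 inferInstance
  have h3 : AlgSp.RepWith @LocallyOfFiniteType ((AlgSp.yon S).map η₀) :=
    (AlgSp.repWith_yon_map_iff _ η₀).2 inferInstance
  haveI := Groth.Agent.R2.H44.FppfLocal.isOpenImmersion.{u}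
  haveI := Groth.Agent.R2.H44.FppfLocal.quasiCompact.{u}
  have hopen'' : AlgSp.RepWith @IsOpenImmersion f'' :=
    Groth.Agent.R2.H59.SLQF.repWith_of_locallySurjective f'' q a ((AlgSp.yon S).map η₀) sqL.flip
      h1 h2 h3 @IsOpenImmersion ((AlgSp.repWith_yon_map_iff _ η₀).2 inferInstance)
  have hqc'' : AlgSp.RepWith @QuasiCompact f'' :=
    Groth.Agent.R2.H59.SLQF.repWith_of_locallySurjective f'' q a ((AlgSp.yon S).map η₀) sqL.flip
      h1 h2 h3 @QuasiCompact ((AlgSp.repWith_yon_map_iff _ η₀).2 inferInstance)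
  have hf'e : f'.hom = f'' ≫ e.inv := by rw [← he1, Category.assoc, Iso.hom_inv_id, Category.comp_id]
  have hopen : AlgSp.RepWith @IsOpenImmersion f'.hom := by
    rw [hf'e]
    exact MorphismProperty.RespectsIso.postcomp _ e.inv _ hopen''
  have hqc' : AlgSp.RepWith @QuasiCompact f'.hom := by
    rw [hf'e]
    exact MorphismProperty.RespectsIso.postcomp _ e.inv _ hqc''
  refine ⟨hopen, Groth.Agent.S9912.isQuasiCompactMor_of_repWith X.property Y'.property.diag f'.hom hqc',
    ?_⟩
  -- `f` is quasi-affine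
  intro Z hZ h
  obtain ⟨A, j, fstA, sqA, hA, -⟩ := hn.2.1 hZ h
  obtain ⟨W, i, fst, sqW⟩ := hrep h
  refine ⟨W, i, fst, sqW, ?_⟩
  have hk0 : (fst ≫ f'.hom) ≫ ν.hom = (AlgSp.yon S).map i ≫ h := by
    rw [Category.assoc, hn.1, sqW.w]
  obtain ⟨k, hk⟩ := (AlgSp.yon S).map_surjective (sqA.lift _ _ hk0)
  have hk1 : (AlgSp.yon S).map k ≫ fstA = fst ≫ f'.hom := by rw [hk, sqA.lift_fst]
  have hk2 : (AlgSp.yon S).map k ≫ (AlgSp.yon S).map j = (AlgSp.yon S).map i := by
    rw [hk, sqA.lift_snd]
  have sqK : IsPullback ((AlgSp.yon S).map k) fst fstA f'.hom := by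
    have outer : IsPullback ((AlgSp.yon S).map k ≫ (AlgSp.yon S).map j) fst h (f'.hom ≫ ν.hom) := by
      rw [hk2, hn.1]
      exact sqW.flip
    exact IsPullback.of_right outer hk1 sqA.flip
  haveI : IsOpenImmersion k.left := hopen.2 fstA fst k sqK.flip
  haveI : QuasiCompact i.left := hqcrep.2 h fst i sqW
  haveI := hZ
  haveI := hA
  haveI : CompactSpace ↥W.left := (quasiCompact_iff_compactSpace i.left).1 inferInstance
  exact Scheme.IsQuasiAffine.of_isImmersion k.left

end Groth.Agent.S10300
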