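import Groth.Statements.S10302
import Groth.Agent.R2.H45Dim
import Groth.Agent.R2.H45HasAt

set_option autoImplicit false
universe u
open CategoryTheory CategoryTheory.Limits AlgebraicGeometry Topology TopologicalSpace
open AlgSp

namespace Groth.Agent.S10302

/-- A flat morphism of algebraic spaces maps points of codimension 0 to points of codimension 0. -/
theorem result {S : Scheme.{u}} {X Y : AlgSp.Space S} (f : X ⟶ Y) (hf : AlgSp.LocP @Flat f.hom)
    (x : AlgSp.Points X.obj) (hx : AlgSp.HasAt (fun U u => ringKrullDim ↥(U.presheaf.stalk u) = 0) X.obj x) :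
    AlgSp.HasAt (fun U u => ringKrullDim ↥(U.presheaf.stalk u) = 0) Y.obj (AlgSp.Points.map f.hom x) := by
  obtain ⟨U, a, u, ha, hu, hd⟩ := hx
  subst hu
  obtain ⟨V, b, v, hb, -, hv⟩ :=
    Groth.Agent.R2.H45.HasAt.exists_chart Y.property
      (AlgSp.Points.map f.hom (AlgSp.Points.ofPt a u))
  obtain ⟨W, p, h, w, hp, hpw, hhw, hc, hpa, -⟩ :=
    Groth.Agent.R2.H45.HasAt.exists_diagram_through f.hom a b ha hb u v hv.symm
  have hfl : Flat h.left := hf _ b h hpa hb hc
  have h1 := Groth.Agent.R2.H45.Dim.ringKrullDim_stalk_eq_of_etale p.left w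
  have h2 := Groth.Agent.R2.H45.Dim.ringKrullDim_stalk_le_of_flat h.left w
  rw [hpw, hd] at h1
  rw [hhw, h1] at h2
  refine ⟨V, b, v, hb, hv, le_antisymm h2 ?_⟩
  exact ringKrullDim_nonneg_of_nontrivial

end Groth.Agent.S10302
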