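import Groth.Statements.S10303
import Groth.Agent.R2.H89IrrFin
-- import your own Groth.Agent.* helpers here

set_option autoImplicit false
universe u
open CategoryTheory CategoryTheory.Limits AlgebraicGeometry
open AlgSp

namespace Groth.Agent.S10303

/-- If Y has an etale surjective chart whose quasi-compact opens have finitely many irreducible
components and f : X -> Y is flat and locally of finite type, then X has such a chart too. -/
theorem result {S : Scheme.{u}} {X Y : AlgSp.Space S} (f : X ⟶ Y)
    (hf : AlgSp.LocP @Flat f.hom) (hf' : AlgSp.LocP @LocallyOfFiniteType f.hom)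
    (hY : AlgSp.EtaleLocally (fun U => ∀ W : U.Opens, IsCompact (W : Set ↥U) → (irreducibleComponents ↥W).Finite) Y.obj) :
    AlgSp.EtaleLocally (fun U => ∀ W : U.Opens, IsCompact (W : Set ↥U) → (irreducibleComponents ↥W).Finite) X.obj := by
  obtain ⟨V, q, hqe, hqs, hQ⟩ := hY
  obtain ⟨U₀, p₀, hpe, hps⟩ := X.property.atlas
  -- the representable pullback of the chart `q` along `p₀ ≫ f`
  have hrep : Representable q := hqe.1
  let U : Over S := hrep.pullback (p₀ ≫ f.hom)
  let snd : U ⟶ U₀ := hrep.snd (p₀ ≫ f.hom)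
  let fst : (yon S).obj U ⟶ (yon S).obj V := hrep.fst (p₀ ≫ f.hom)
  have hpb : IsPullback fst ((yon S).map snd) q (p₀ ≫ f.hom) := hrep.isPullback (p₀ ≫ f.hom)
  obtain ⟨h, hh⟩ := (yon S).map_surjective fst
  have hsnd_et : Etale snd.left := hqe.2 _ _ _ hpb
  have hsnd_surj : Surjective snd.left := hqs.2 _ _ _ hpb
  have ha_et : RepWith @Etale ((yon S).map snd ≫ p₀) :=
    (RepWith @Etale).comp_mem _ _ ((repWith_yon_map_iff @Etale snd).2 hsnd_et) hpe
  have ha_surj : RepWith @Surjective ((yon S).map snd ≫ p₀) :=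
    (RepWith @Surjective).comp_mem _ _ ((repWith_yon_map_iff @Surjective snd).2 hsnd_surj) hps
  have hw : ((yon S).map snd ≫ p₀) ≫ f.hom = (yon S).map h ≫ q := by
    rw [hh, hpb.w, Category.assoc]
  have hflat : Flat h.left := hf _ _ h ha_et hqe hw
  have hlft : LocallyOfFiniteType h.left := hf' _ _ h ha_et hqe hw
  exact ⟨U, (yon S).map snd ≫ p₀, ha_et, ha_surj,
    Groth.Agent.R2.H89.IrrFin.locFinite_irreducibleComponents_of_flat_lft h.left hQ⟩

end Groth.Agent.S10303
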