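import Groth.Statements.S10304
import Groth.Agent.R2.H89IrrFin
import Groth.Agent.R2.H89IrrGen
import Groth.Agent.S10177
-- import your own Groth.Agent.* helpers here

set_option autoImplicit false
universe u
open CategoryTheory CategoryTheory.Limits AlgebraicGeometry
open AlgSp

namespace Groth.Agent.S10304

open Groth.Agent.R2.H89.IrrFin Groth.Agent.R2.H89.IrrGen

variable {S : Scheme.{u}}

/-- The property "quasi-compact opens have finitely many irreducible components". -/
abbrev Q (U : Scheme.{u}) : Prop :=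
  ∀ W : U.Opens, IsCompact (W : Set ↥U) → (irreducibleComponents ↥W).Finite

/-- Chart independence: if one etale surjective chart has `Q` then every etale chart has `Q`. -/
lemma Q_of_chart {X : AlgSp.Sp S} {V U : Over S} (p : (AlgSp.yon S).obj V ⟶ X)
    (hpe : AlgSp.RepWith @Etale p) (hps : AlgSp.RepWith @Surjective p) (hQ : Q V.left)
    (a : (AlgSp.yon S).obj U ⟶ X) (hae : AlgSp.RepWith @Etale a) : Q U.left := by
  have hrep : Representable p := hpe.1
  let W : Over S := hrep.pullback a
  let snd : W ⟶ U := hrep.snd a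
  let fst : (yon S).obj W ⟶ (yon S).obj V := hrep.fst a
  have hpb : IsPullback fst ((yon S).map snd) p a := hrep.isPullback a
  obtain ⟨h, hh⟩ := (yon S).map_surjective fst
  have hsnd_et : Etale snd.left := hpe.2 _ _ _ hpb
  have hsnd_surj : Surjective snd.left := hps.2 _ _ _ hpb
  have hh_et : Etale h.left := hae.2 p ((yon S).map snd) h (by rw [hh]; exact hpb.flip)
  have hQW : Q W.left := locFinite_irreducibleComponents_of_flat_lft h.left hQ
  exact locFinite_irreducibleComponents_of_surjective_open snd.left snd.left.isOpenMap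
    snd.left.surjective hQW

/-- A quasi-compact scheme with `Q` has finitely many irreducible components. -/
lemma finite_of_Q {T : Scheme.{u}} [CompactSpace ↥T] (hQ : Q T) :
    (irreducibleComponents ↥T).Finite := by
  have h := hQ ⊤ (by simpa using isCompact_univ)
  exact finite_irreducibleComponents_of_surjective (fun x : ↥(⊤ : T.Opens) => (x.1 : ↥T))
    continuous_subtype_val (fun x => ⟨⟨x, trivial⟩, rfl⟩) h

/-- The open subscheme `W` of `U₀` as an object over `S`. -/
noncomputable abbrev opn (U₀ : Over S) (W : U₀.left.Opens) : Over S := Over.mk (W.ι ≫ U₀.hom)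

noncomputable abbrev opnι (U₀ : Over S) (W : U₀.left.Opens) : opn U₀ W ⟶ U₀ := Over.homMk W.ι rfl

lemma isEtaleMor_opn {X : AlgSp.Sp S} {U₀ : Over S} (p₀ : (AlgSp.yon S).obj U₀ ⟶ X)
    (hpe : AlgSp.RepWith @Etale p₀) (W : U₀.left.Opens) :
    AlgSp.IsEtaleMor ((yon S).map (opnι U₀ W) ≫ p₀) := by
  intro T' φ hφ
  have h1 : RepWith @Etale ((yon S).map (opnι U₀ W)) := by
    rw [repWith_yon_map_iff]
    change Etale W.ι
    infer_instance
  exact (RepWith @Etale).comp_mem _ _ hφ ((RepWith @Etale).comp_mem _ _ h1 hpe)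

lemma isQuasiCompactSp_opn {U₀ : Over S} (W : U₀.left.Opens) (hW : IsCompact (W : Set ↥U₀.left)) :
    AlgSp.IsQuasiCompactSp ((yon S).obj (opn U₀ W)) := by
  refine ⟨opn U₀ W, 𝟙 _, repWith_id _ _, repWith_id _ _, ?_⟩
  exact isCompact_iff_compactSpace.mp hW

/-- Equivalent forms of the condition that the schemes etale over X have locally finitely many
irreducible components: one etale surjective chart, every etale chart, finiteness of codimension-0
points of quasi-compact spaces etale over X, finiteness of irreducible components of such spaces. -/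
theorem result {S : Scheme.{u}} (X : AlgSp.Space S) :
    (AlgSp.EtaleLocally (fun U => ∀ W : U.Opens, IsCompact (W : Set ↥U) → (irreducibleComponents ↥W).Finite) X.obj ↔
      ∀ (U : Over S) (a : (AlgSp.yon S).obj U ⟶ X.obj), AlgSp.RepWith @Etale a →
        ∀ W : U.left.Opens, IsCompact (W : Set ↥U.left) → (irreducibleComponents ↥W).Finite) ∧
    (AlgSp.EtaleLocally (fun U => ∀ W : U.Opens, IsCompact (W : Set ↥U) → (irreducibleComponents ↥W).Finite) X.obj ↔
      ∀ (Y : AlgSp.Space S) (g : Y ⟶ X), AlgSp.IsEtaleMor g.hom → AlgSp.IsQuasiCompactSp Y.obj →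
        {y : AlgSp.Points Y.obj |
          AlgSp.HasAt (fun U u => ringKrullDim ↥(U.presheaf.stalk u) = 0) Y.obj y}.Finite) ∧
    (AlgSp.EtaleLocally (fun U => ∀ W : U.Opens, IsCompact (W : Set ↥U) → (irreducibleComponents ↥W).Finite) X.obj ↔
      ∀ (Y : AlgSp.Space S) (g : Y ⟶ X), AlgSp.IsEtaleMor g.hom → AlgSp.IsQuasiCompactSp Y.obj →
        (irreducibleComponents (AlgSp.Points Y.obj)).Finite) := by
  obtain ⟨U₀, p₀, hp₀e, hp₀s⟩ := X.property.atlas
  refine ⟨⟨?_, ?_⟩, ⟨?_, ?_⟩, ⟨?_, ?_⟩⟩
  · -- one chart ⇒ every chart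
    rintro ⟨V, p, hpe, hps, hQ⟩ U a hae
    exact Q_of_chart p hpe hps hQ a hae
  · intro h
    exact ⟨U₀, p₀, hp₀e, hp₀s, h U₀ p₀ hp₀e⟩
  · -- codimension 0 points, forward
    rintro ⟨V, p, hpe, hps, hQ⟩ Y g hg ⟨T, b, hbe, hbs, hTc⟩
    have hTc' : CompactSpace ↥T.left := hTc
    have hQT : Q T.left := Q_of_chart p hpe hps hQ (b ≫ g.hom) (hg b hbe)
    have hfinT : {t : ↥T.left | ringKrullDim ↥(T.left.presheaf.stalk t) = 0}.Finite :=
      (finite_irreducibleComponents_iff_finite_dimZero T.left).1 (finite_of_Q hQT)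
    refine (hfinT.image (AlgSp.Points.ofPt b)).subset ?_
    rintro y ⟨U', a, u', hae, hay, hdim⟩
    have hrep : Representable b := hbe.1
    let P : Over S := hrep.pullback a
    let snd : P ⟶ U' := hrep.snd a
    let fst : (yon S).obj P ⟶ (yon S).obj T := hrep.fst a
    have hpb : IsPullback fst ((yon S).map snd) b a := hrep.isPullback a
    obtain ⟨h, hh⟩ := (yon S).map_surjective fst
    have hsnd_et : Etale snd.left := hbe.2 _ _ _ hpb
    have hsnd_surj : Surjective snd.left := hbs.2 _ _ _ hpb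
    have hh_et : Etale h.left := hae.2 b ((yon S).map snd) h (by rw [hh]; exact hpb.flip)
    obtain ⟨pt, hpt⟩ := snd.left.surjective u'
    have h1 : IsGenMin u' := (ringKrullDim_stalk_eq_zero_iff U'.left u').1 hdim
    have h2 : IsGenMin pt := isGenMin_of_etale snd.left (by rw [hpt]; exact h1)
    have h3 : IsGenMin (h.left pt) := isGenMin_image_of_flat h.left h2
    refine ⟨h.left pt, (ringKrullDim_stalk_eq_zero_iff T.left _).2 h3, ?_⟩
    rw [← Groth.Agent.S10176.ofPt_map_comp, hh, hpb.w, Groth.Agent.S10176.ofPt_map_comp, hpt]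
    exact hay
  · -- codimension 0 points, backward
    intro H
    refine ⟨U₀, p₀, hp₀e, hp₀s, fun W hW => ?_⟩
    have hfin := H ⟨(yon S).obj (opn U₀ W), IsAlgSpace.yon_obj _⟩
      (ObjectProperty.homMk ((yon S).map (opnι U₀ W) ≫ p₀)) (isEtaleMor_opn p₀ hp₀e W)
      (isQuasiCompactSp_opn W hW)
    change (irreducibleComponents ↥(opn U₀ W).left).Finite
    rw [finite_irreducibleComponents_iff_finite_dimZero]
    refine (hfin.preimage (f := AlgSp.Points.ofScheme (opn U₀ W))
      ((AlgSp.Points.schemeEquiv (opn U₀ W)).injective.injOn)).subset ?_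
    intro t ht
    exact ⟨opn U₀ W, 𝟙 _, t, repWith_id _ _, rfl, ht⟩
  · -- irreducible components of the space of points, forward
    rintro ⟨V, p, hpe, hps, hQ⟩ Y g hg ⟨T, b, hbe, hbs, hTc⟩
    have hTc' : CompactSpace ↥T.left := hTc
    have hQT : Q T.left := Q_of_chart p hpe hps hQ (b ≫ g.hom) (hg b hbe)
    exact finite_irreducibleComponents_of_surjective (AlgSp.Points.ofPt b)
      (AlgSp.Points.continuous_ofPt b) (Groth.Agent.S10177.surjective_ofPt b hbs) (finite_of_Q hQT)
  · -- backward
    intro H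
    refine ⟨U₀, p₀, hp₀e, hp₀s, fun W hW => ?_⟩
    have hfin := H ⟨(yon S).obj (opn U₀ W), IsAlgSpace.yon_obj _⟩
      (ObjectProperty.homMk ((yon S).map (opnι U₀ W) ≫ p₀)) (isEtaleMor_opn p₀ hp₀e W)
      (isQuasiCompactSp_opn W hW)
    change (irreducibleComponents ↥(opn U₀ W).left).Finite
    exact finite_irreducibleComponents_of_homeomorph (AlgSp.Points.schemeHomeo (opn U₀ W)).symm hfin

end Groth.Agent.S10304
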