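import Groth.Statements.S10306
import Groth.Agent.R2.H43Refined
import Groth.Agent.S9900
import Groth.Agent.S9912
import Groth.Agent.S9922
import Groth.Agent.S10327
import Groth.Agent.S9874

set_option autoImplicit false
universe u
open CategoryTheory CategoryTheory.Limits AlgebraicGeometry
open AlgSp

set_option backward.isDefEq.respectTransparency false
set_option linter.style.haveILetI false

namespace Groth.Agent.S10306

/-- A refined valuative criterion: if f and h : U -> X are quasi-compact with |U| dense in |X|, and
valuative squares whose top arrow factors through U have at most one lift and a lift after a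
dominating extension, then f is universally closed, and separated if it is quasi-separated. -/
theorem result {S : Scheme.{u}} {U X Y : AlgSp.Space S} (f : X ⟶ Y) (h : U ⟶ X)
    (hf : AlgSp.IsQuasiCompactMor f.hom) (hh : AlgSp.IsQuasiCompactMor h.hom)
    (hd : DenseRange (AlgSp.Points.map h.hom))
    (hv : ∀ sq : AlgSp.ValSq f.hom, (∃ t : (AlgSp.yon S).obj sq.ptK ⟶ U.obj, t ≫ h.hom = sq.top) →
      sq.HasUniq ∧ sq.HasLiftExt) :
    AlgSp.IsUnivClosedMor f.hom ∧ (AlgSp.IsQuasiSeparatedMor f.hom → AlgSp.IsSeparatedMor f.hom) := by
  have hv' : Groth.Agent.R2.H43.Refined.Hyp f.hom h.hom := hv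
  refine ⟨Groth.Agent.R2.H43.Refined.isUnivClosedMor_of_refined f h hf hh hd hv', fun hqs => ?_⟩
  obtain ⟨hrep, hlft, hmono, hsep, -⟩ := Groth.Agent.S9900.result f
  have hXX : AlgSp.IsAlgSpace (pullback f.hom f.hom) :=
    Groth.Agent.S9874.isAlgSpace_of_isPullback Y.property.diag X.property X.property
      (IsPullback.of_hasPullback f.hom f.hom)
  let XX : AlgSp.Space S := ⟨pullback f.hom f.hom, hXX⟩
  let Δ : X ⟶ XX := ObjectProperty.homMk (pullback.diagonal f.hom)
  have hΔqc : AlgSp.IsQuasiCompactMor Δ.hom := (Groth.Agent.S9912.result Δ hrep).1 hqs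
  have hΔv : Groth.Agent.R2.H43.Refined.Hyp Δ.hom h.hom := by
    rintro sq ⟨t, ht⟩
    constructor
    · intro l l' _ h2 _ h2'
      have h3 : (l ≫ pullback.diagonal f.hom) ≫ pullback.fst f.hom f.hom =
          (l' ≫ pullback.diagonal f.hom) ≫ pullback.fst f.hom f.hom := by
        change (l ≫ Δ.hom) ≫ _ = (l' ≫ Δ.hom) ≫ _
        rw [h2, h2']
      rw [Category.assoc, Category.assoc, pullback.diagonal_fst, Category.comp_id,
        Category.comp_id] at h3
      exact h3
    · apply Groth.Agent.S10327.hasLiftExt_of_hasLift
      -- the two projections of the bottom arrow agree, by uniqueness for `f`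
      have hbot : sq.bot ≫ pullback.fst f.hom f.hom = sq.bot ≫ pullback.snd f.hom f.hom := by
        let sqf : AlgSp.ValSq f.hom :=
          { A := sq.A, K := sq.K, str := sq.str, top := sq.top,
            bot := sq.bot ≫ pullback.fst f.hom f.hom ≫ f.hom,
            comm := by
              have h4 := sq.comm =≫ (pullback.fst f.hom f.hom ≫ f.hom)
              change (sq.top ≫ pullback.diagonal f.hom) ≫ _ = _ at h4
              rw [Category.assoc, pullback.diagonal_fst_assoc] at h4
              rw [h4, Category.assoc] }
        have hj : ∀ pr : pullback f.hom f.hom ⟶ X.obj, pullback.diagonal f.hom ≫ pr = 𝟙 _ →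
            (AlgSp.yon S).map sqf.j ≫ sq.bot ≫ pr = sqf.top := by
          intro pr hpr
          have h4 := sq.comm =≫ pr
          change (sq.top ≫ pullback.diagonal f.hom) ≫ _ = _ at h4
          rw [Category.assoc, hpr, Category.comp_id, Category.assoc] at h4
          exact h4.symm
        refine (hv sqf ⟨t, ht⟩).1 _ _ (hj _ (pullback.diagonal_fst _)) ?_
          (hj _ (pullback.diagonal_snd _)) ?_
        · rw [Category.assoc]
        · rw [Category.assoc, ← pullback.condition]
      refine ⟨sq.bot ≫ pullback.fst f.hom f.hom, ?_, ?_⟩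
      · have h4 := sq.comm =≫ pullback.fst f.hom f.hom
        change (sq.top ≫ pullback.diagonal f.hom) ≫ _ = _ at h4
        rw [Category.assoc, pullback.diagonal_fst, Category.comp_id, Category.assoc] at h4
        exact h4.symm
      · change (sq.bot ≫ pullback.fst f.hom f.hom) ≫ pullback.diagonal f.hom = sq.bot
        apply pullback.hom_ext
        · rw [Category.assoc, Category.assoc, pullback.diagonal_fst, Category.comp_id]
        · rw [Category.assoc, Category.assoc, pullback.diagonal_snd, Category.comp_id, hbot]
  have hΔuc : AlgSp.IsUnivClosedMor Δ.hom :=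
    Groth.Agent.R2.H43.Refined.isUnivClosedMor_of_refined Δ h hΔqc hh hd hΔv
  have hΔuc' : AlgSp.RepWith @UniversallyClosed Δ.hom := (Groth.Agent.S9922.result Δ hrep).2 hΔuc
  refine ⟨hrep, fun A B g fst snd sq => ?_⟩
  haveI : LocallyOfFiniteType snd.left := hlft.2 g fst snd sq
  haveI : Mono snd.left := hmono.2 g fst snd sq
  haveI : IsSeparated snd.left := hsep.2 g fst snd sq
  haveI : QuasiCompact snd.left := hqs.2 g fst snd sq
  haveI : UniversallyClosed snd.left := hΔuc'.2 g fst snd sq
  haveI : IsProper snd.left := {}
  exact (IsClosedImmersion.iff_isProper_and_mono snd.left).2 ⟨inferInstance, inferInstance⟩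

end Groth.Agent.S10306
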