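import Mathlib
import Groth.Prelude.Def_AlgSpDec
import Groth.Agent.R2.H45HasAtMor
import Groth.Agent.Lib.Helper4FibDimF
set_option autoImplicit false
universe u
open CategoryTheory CategoryTheory.Limits AlgebraicGeometry
open AlgSp
namespace Groth.Agent.S10308
open Groth.Agent.R2.H45.HasAtMor
/-- For f locally of finite type, the locus of points where the relative dimension of f is at most n is
open. -/
theorem result {S : Scheme.{u}} {X Y : AlgSp.Space S} (f : X ⟶ Y)
    (hf : AlgSp.LocP @LocallyOfFiniteType f.hom) (n : ℕ) :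
    IsOpen {x : AlgSp.Points X.obj |
      AlgSp.HasAtMor (fun _ _ h u => FlatMor.fibreDimAt h u ≤ (n : WithBot ℕ∞)) f.hom x} := by
  rw [isOpen_iff_forall_mem_open]
  intro x hx
  obtain ⟨U, V, a, b, h, u, ha, hb, comm, hu⟩ := exists_diagram X.property Y.property f.hom x
  have hQ := hasAtMor_iff_of_diagram (etSqInv_fibreDimAt (fun d => d ≤ (n : WithBot ℕ∞)))
    f.hom a b h ha hb comm u
  rw [hu] at hQ
  haveI : LocallyOfFiniteType h.left := hf a b h ha hb comm
  have hW : IsOpen {u' : ↥U.left | FlatMor.fibreDimAt h.left u' ≤ (n : WithBot ℕ∞)} :=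
    Groth.Agent.Lib.Helper4.FibDim.isOpen_setOf_fibreDimAt_le h.left n
  refine ⟨AlgSp.Points.ofPt a '' {u' : ↥U.left | FlatMor.fibreDimAt h.left u' ≤ (n : WithBot ℕ∞)},
    ?_, Groth.Agent.S10176.isOpenMap_ofPt a ha _ hW, ⟨u, hQ.1 hx, hu⟩⟩
  rintro _ ⟨u', hu', rfl⟩
  exact ⟨U, V, a, b, h, u', ha, hb, comm, rfl, hu'⟩
end Groth.Agent.S10308
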