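import Mathlib
import Groth.Prelude.Def_AlgSpDec
import Groth.Agent.R2.H45HasAtMor
import Groth.Agent.S9355
set_option autoImplicit false
universe u
open CategoryTheory CategoryTheory.Limits AlgebraicGeometry
open AlgSp
namespace Groth.Agent.S10309
open Groth.Agent.R2.H45.HasAtMor
/-- For f locally of finite presentation, the locus where the relative dimension is at most n is
retrocompact in |X|. -/
theorem result {S : Scheme.{u}} {X Y : AlgSp.Space S} (f : X ⟶ Y)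
    (hf : AlgSp.LocP @LocallyOfFinitePresentation f.hom) (n : ℕ) (V : Set (AlgSp.Points X.obj))
    (hV : IsOpen V) (hVc : IsCompact V) :
    IsCompact (V ∩ {x : AlgSp.Points X.obj |
      AlgSp.HasAtMor (fun _ _ h u => FlatMor.fibreDimAt h u ≤ (n : WithBot ℕ∞)) f.hom x}) := by
  obtain ⟨U, V0, a, b, h, hae, has, hbe, -, comm⟩ :=
    exists_surjective_diagram X.property Y.property f.hom
  haveI : LocallyOfFinitePresentation h.left := hf a b h hae hbe comm
  have hQ : ∀ u : ↥U.left, AlgSp.HasAtMor (fun _ _ h u => FlatMor.fibreDimAt h u ≤ (n : WithBot ℕ∞))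
      f.hom (AlgSp.Points.ofPt a u) ↔ FlatMor.fibreDimAt h.left u ≤ (n : WithBot ℕ∞) := fun u =>
    hasAtMor_iff_of_diagram (etSqInv_fibreDimAt (fun d => d ≤ (n : WithBot ℕ∞)))
      f.hom a b h hae hbe comm u
  have hcont : Continuous (AlgSp.Points.ofPt a) := AlgSp.Points.continuous_ofPt a
  have hopen : IsOpenMap (AlgSp.Points.ofPt a) := Groth.Agent.S10176.isOpenMap_ofPt a hae
  have hsurj : Function.Surjective (AlgSp.Points.ofPt a) := Groth.Agent.S10177.surjective_ofPt a has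
  -- a compact open `K` of `U` mapping onto `V`
  have hV' : IsOpen (AlgSp.Points.ofPt a ⁻¹' V) := hV.preimage hcont
  obtain ⟨K, hKo, hKc, hKV⟩ : ∃ K : Set ↥U.left, IsOpen K ∧ IsCompact K ∧
      AlgSp.Points.ofPt a '' K = V := by
    have hcov : V ⊆ ⋃ (W : {W : U.left.Opens // IsAffineOpen W ∧ (W : Set ↥U.left) ⊆
        AlgSp.Points.ofPt a ⁻¹' V}), AlgSp.Points.ofPt a '' (W.1 : Set ↥U.left) := by
      intro x hx
      obtain ⟨u, rfl⟩ := hsurj x
      obtain ⟨_, ⟨W, hW, rfl⟩, huW, hWV⟩ :=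
        U.left.isBasis_affineOpens.exists_subset_of_mem_open (show u ∈ AlgSp.Points.ofPt a ⁻¹' V from hx) hV'
      exact Set.mem_iUnion.2 ⟨⟨W, hW, hWV⟩, u, huW, rfl⟩
    obtain ⟨t, ht⟩ := hVc.elim_finite_subcover _ (fun W => hopen _ W.1.isOpen) hcov
    refine ⟨⋃ W ∈ t, (W.1 : Set ↥U.left), isOpen_biUnion fun W _ => W.1.isOpen,
      t.isCompact_biUnion fun W _ => W.2.1.isCompact, ?_⟩
    apply Set.Subset.antisymm
    · rintro _ ⟨u, hu, rfl⟩
      obtain ⟨W, hWt, huW⟩ := Set.mem_iUnion₂.1 hu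
      exact W.2.2 huW
    · intro x hx
      obtain ⟨W, hWt, u, huW, rfl⟩ := Set.mem_iUnion₂.1 (ht hx)
      exact ⟨u, Set.mem_iUnion₂.2 ⟨W, hWt, huW⟩, rfl⟩
  have hcomp : IsCompact ({u : ↥U.left | FlatMor.fibreDimAt h.left u ≤ (n : WithBot ℕ∞)} ∩ K) :=
    Groth.Agent.S9355.result h.left n hKc hKo
  have himg : V ∩ {x : AlgSp.Points X.obj |
      AlgSp.HasAtMor (fun _ _ h u => FlatMor.fibreDimAt h u ≤ (n : WithBot ℕ∞)) f.hom x} =
      AlgSp.Points.ofPt a '' ({u : ↥U.left | FlatMor.fibreDimAt h.left u ≤ (n : WithBot ℕ∞)} ∩ K) := by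
    apply Set.Subset.antisymm
    · rintro x ⟨hxV, hx⟩
      rw [← hKV] at hxV
      obtain ⟨u, huK, rfl⟩ := hxV
      exact ⟨u, ⟨(hQ u).1 hx, huK⟩, rfl⟩
    · rintro _ ⟨u, ⟨hu, huK⟩, rfl⟩
      refine ⟨?_, (hQ u).2 hu⟩
      rw [← hKV]
      exact ⟨u, huK, rfl⟩
  rw [himg]
  exact hcomp.image hcont
end Groth.Agent.S10309
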