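import Mathlib
import Groth.Prelude.Def_AlgSpDec
import Groth.Agent.R2.H45HasAtMor
import Groth.Agent.Lib.Helper3GrpHomQF
set_option autoImplicit false
universe u
open CategoryTheory CategoryTheory.Limits AlgebraicGeometry
open AlgSp
namespace Groth.Agent.S10310
open Groth.Agent.R2.H45.HasAtMor
/-- A morphism locally of finite type is locally quasi-finite if and only if it has relative dimension 0
at every point. -/
theorem result {S : Scheme.{u}} {X Y : AlgSp.Space S} (f : X ⟶ Y)
    (hf : AlgSp.LocP @LocallyOfFiniteType f.hom) :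
    AlgSp.LocP (@LocallyQuasiFinite ⊓ @LocallyOfFiniteType) f.hom ↔
      ∀ x : AlgSp.Points X.obj, AlgSp.HasAtMor (fun _ _ h u => FlatMor.fibreDimAt h u = 0) f.hom x := by
  constructor
  · intro H x
    obtain ⟨U, V, a, b, h, u, ha, hb, comm, hu⟩ := exists_diagram X.property Y.property f.hom x
    obtain ⟨h1, h2⟩ := H a b h ha hb comm
    haveI : LocallyQuasiFinite h.left := h1
    haveI : LocallyOfFiniteType h.left := h2
    refine ⟨U, V, a, b, h, u, ha, hb, comm, hu, ?_⟩
    exact le_antisymm
      ((Groth.Agent.Lib.Helper3.GrpHomQF.locallyQuasiFinite_iff_forall_fibreDimAt_le_zero h.left).1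
        inferInstance u) (Groth.Agent.Lib.Helper7.TopDim.localDim_nonneg _)
  · intro H U V a b h ha hb comm
    haveI : LocallyOfFiniteType h.left := hf a b h ha hb comm
    refine ⟨?_, inferInstance⟩
    rw [Groth.Agent.Lib.Helper3.GrpHomQF.locallyQuasiFinite_iff_forall_fibreDimAt_le_zero]
    intro u
    have := (hasAtMor_iff_of_diagram (etSqInv_fibreDimAt (fun d => d = 0))
      f.hom a b h ha hb comm u).1 (H _)
    exact this.le
end Groth.Agent.S10310
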