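import Mathlib
import Groth.Prelude.Def_AlgSpDec
import Groth.Agent.R2.H45HasAtMor
import Groth.Agent.Lib.Helper3LocDimBC
set_option autoImplicit false
universe u
open CategoryTheory CategoryTheory.Limits AlgebraicGeometry
open AlgSp
namespace Groth.Agent.S10311
open Groth.Agent.R2.H45.HasAtMor
/-- The relative dimension at a point of a morphism locally of finite type is preserved by base change. -/
theorem result {S : Scheme.{u}} {X Y Y' X' : AlgSp.Space S} (f : X ⟶ Y) (g : Y' ⟶ Y)
    (g' : X' ⟶ X) (f' : X' ⟶ Y') (sq : IsPullback g'.hom f'.hom f.hom g.hom)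
    (hf : AlgSp.LocP @LocallyOfFiniteType f.hom) (x' : AlgSp.Points X'.obj) (d : WithBot ℕ∞)
    (hd : AlgSp.HasAtMor (fun _ _ h u => FlatMor.fibreDimAt h u = d) f.hom (AlgSp.Points.map g'.hom x')) :
    AlgSp.HasAtMor (fun _ _ h u => FlatMor.fibreDimAt h u = d) f'.hom x' := by
  obtain ⟨U, V, V', W, a, b, b', h, κ, p1, p2, a', w, hae, hbe, hbe', hae', c1, c2, c3, c4, hpb,
    hw, hw'⟩ := exists_baseChange_diagram_through X.property Y.property Y'.property sq x'
  haveI : LocallyOfFiniteType h.left := hf a b h hae hbe c1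
  rw [← hw'] at hd
  have h1 : FlatMor.fibreDimAt h.left (p1.left w) = d :=
    (hasAtMor_iff_of_diagram (etSqInv_fibreDimAt (fun e => e = d)) f.hom a b h hae hbe c1 _).1 hd
  refine ⟨W, V', a', b', p2, w, hae', hbe', c3, hw, ?_⟩
  change FlatMor.fibreDimAt p2.left w = d
  rw [Groth.Agent.Lib.Helper3.LocDimBC.fibreDimAt_eq_of_isPullback h.left κ.left p1.left p2.left
    hpb w]
  exact h1
end Groth.Agent.S10311
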