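import Mathlib
import Groth.Statements.S10312
import Groth.Agent.R2.H45HasAtMor
import Groth.Agent.R2.H45Unram
import Groth.Agent.S9952
set_option autoImplicit false
set_option linter.style.haveILetI false
universe u
open CategoryTheory CategoryTheory.Limits AlgebraicGeometry
open AlgSp
namespace Groth.Agent.S10312
open Groth.Agent.R2.H45.HasAtMor Groth.Agent.R2.H45.HasAt Groth.Agent.R2.H45.Unram
/-- For X -> Y over Z with X -> Z locally of finite type, the locus where X -> Y is unramified is an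
open subset of |X| whose formation commutes with base change along any Z' -> Z. -/
theorem result {S : Scheme.{u}} {X Y Z Z' Y' X' : AlgSp.Space S} (f : X ⟶ Y)
    (p : X ⟶ Z) (q : Y ⟶ Z) (comm : f ≫ q = p) (hp : AlgSp.LocP @LocallyOfFiniteType p.hom) (g : Z' ⟶ Z)
    (a : Y' ⟶ Y) (q' : Y' ⟶ Z') (sq1 : IsPullback a.hom q'.hom q.hom g.hom)
    (b : X' ⟶ X) (f' : X' ⟶ Y') (sq2 : IsPullback b.hom f'.hom f.hom a.hom) :
    IsOpen {x : AlgSp.Points X.obj | AlgSp.HasAtMor (fun U _ h u => ∃ W : U.Opens, u ∈ W ∧ LocallyOfFiniteType (W.ι ≫ h) ∧ FormallyUnramified (W.ι ≫ h)) f.hom x} ∧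
    {x' : AlgSp.Points X'.obj | AlgSp.HasAtMor (fun U _ h u => ∃ W : U.Opens, u ∈ W ∧ LocallyOfFiniteType (W.ι ≫ h) ∧ FormallyUnramified (W.ι ≫ h)) f'.hom x'} =
      AlgSp.Points.map b.hom ⁻¹' {x : AlgSp.Points X.obj | AlgSp.HasAtMor (fun U _ h u => ∃ W : U.Opens, u ∈ W ∧ LocallyOfFiniteType (W.ι ≫ h) ∧ FormallyUnramified (W.ι ≫ h)) f.hom x} := by
  have hf : AlgSp.LocP @LocallyOfFiniteType f.hom := by
    subst comm
    exact Groth.Agent.S9952.result f q hp
  constructor
  · rw [isOpen_iff_forall_mem_open]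
    rintro x ⟨U, V, a', b', h, u, ha', hb', c, hu, W, huW, h1, h2⟩
    refine ⟨AlgSp.Points.ofPt a' '' (W : Set ↥U.left), ?_,
      Groth.Agent.S10176.isOpenMap_ofPt a' ha' _ W.isOpen, ⟨u, huW, hu⟩⟩
    rintro _ ⟨u', hu', rfl⟩
    exact ⟨U, V, a', b', h, u', ha', hb', c, rfl, W, hu', h1, h2⟩
  · ext x'
    simp only [Set.mem_ofPred_eq, Set.mem_preimage]
    obtain ⟨U, V, V', W, a', b', b'', h, κ, p1, p2, a'', w, hae, hbe, hbe', hae', c1, c2, c3, c4,
      hpb, hw, hw'⟩ := exists_baseChange_diagram_through X.property Y.property Y'.property sq2 x'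
    haveI : LocallyOfFiniteType h.left := hf a' b' h hae hbe c1
    have e1 := hasAtMor_iff_of_diagram etSqInv_qunr f.hom a' b' h hae hbe c1 (p1.left w)
    have e2 := hasAtMor_iff_of_diagram etSqInv_qunr f'.hom a'' b'' p2 hae' hbe' c3 w
    rw [hw'] at e1
    rw [hw] at e2
    exact e2.trans ((qunr_iff_of_isPullback h.left κ.left p1.left p2.left hpb w).trans e1.symm)
end Groth.Agent.S10312
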