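import Mathlib
import Groth.Statements.S10313
import Groth.Agent.R2.H45HasAtMor
import Groth.Agent.R2.H45RelDim
import Groth.Agent.Lib.Helper3DimCons
import Groth.Agent.Lib.Helper12LocPCases
set_option autoImplicit false
set_option linter.style.haveILetI false
universe u
open CategoryTheory CategoryTheory.Limits AlgebraicGeometry
open AlgSp
namespace Groth.Agent.S10313
open Groth.Agent.R2.H45.HasAtMor Groth.Agent.R2.H45.HasAt Groth.Agent.R2.H45.RelDim
/-- For f locally of finite type there is an open subspace of X on which f is locally quasi-finite,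
outside of which the relative dimension is at least 1, and whose formation commutes with base
change. -/
theorem result {S : Scheme.{u}} {X Y : AlgSp.Space S} (f : X ⟶ Y)
    (hf : AlgSp.LocP @LocallyOfFiniteType f.hom) :
    ∃ (X' : AlgSp.Space S) (j : X' ⟶ X), AlgSp.RepWith @IsOpenImmersion j.hom ∧
      AlgSp.LocP (@LocallyQuasiFinite ⊓ @LocallyOfFiniteType) (j ≫ f).hom ∧
      (∀ x : AlgSp.Points X.obj, x ∉ Set.range (AlgSp.Points.map j.hom) →
        AlgSp.HasAtMor (fun _ _ h u => 1 ≤ FlatMor.fibreDimAt h u) f.hom x) ∧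
      ∀ (Y'' X'' : AlgSp.Space S) (g : Y'' ⟶ Y) (b : X'' ⟶ X) (f'' : X'' ⟶ Y''),
        IsPullback b.hom f''.hom f.hom g.hom → ∀ x'' : AlgSp.Points X''.obj,
          AlgSp.Points.map b.hom x'' ∈ Set.range (AlgSp.Points.map j.hom) ↔ AlgSp.HasAtMor (fun U _ h u => ∃ W : U.Opens, u ∈ W ∧ LocallyQuasiFinite (W.ι ≫ h) ∧ LocallyOfFiniteType (W.ι ≫ h)) f''.hom x'' := by
  have hopen : IsOpen (lqfLocus f.hom) := isOpen_lqfLocus X.property Y.property f.hom hf
  have hrange := Groth.Agent.Lib.Helper12.OpenSub.range_map_incl (lqfLocus f.hom)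
  refine ⟨⟨Groth.Agent.Lib.Helper12.OpenSub.obj X.obj (lqfLocus f.hom),
    Groth.Agent.Lib.Helper12.OpenSub.isAlgSpace_obj X.property hopen⟩,
    ObjectProperty.homMk (Groth.Agent.Lib.Helper12.OpenSub.incl X.obj (lqfLocus f.hom)),
    Groth.Agent.Lib.Helper12.OpenSub.repWith_incl hopen, ?_, ?_, ?_⟩
  · exact locP_lqf_of_range_subset f.hom hf _
      (Groth.Agent.Lib.Helper12.OpenSub.repWith_incl hopen) hrange.le
  · intro x hx
    change x ∉ Set.range (AlgSp.Points.map (Groth.Agent.Lib.Helper12.OpenSub.incl X.obj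
      (lqfLocus f.hom))) at hx
    rw [hrange] at hx
    obtain ⟨U, V, a, b, h, u, ha, hb, comm, hu⟩ := exists_diagram X.property Y.property f.hom x
    refine ⟨U, V, a, b, h, u, ha, hb, comm, hu, ?_⟩
    have h1 : ¬ FlatMor.fibreDimAt h.left u ≤ ((0 : ℕ) : WithBot ℕ∞) := by
      intro hle
      exact hx ⟨U, V, a, b, h, u, ha, hb, comm, hu, by simpa using hle⟩
    have := (Groth.Agent.Lib.Helper3.DimCons.succ_le_iff_not_le (FlatMor.fibreDimAt h.left u) 0).2 h1
    simpa using this
  · intro Y'' X'' g b f'' sq x''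
    change AlgSp.Points.map b.hom x'' ∈ Set.range (AlgSp.Points.map
      (Groth.Agent.Lib.Helper12.OpenSub.incl X.obj (lqfLocus f.hom))) ↔ _
    rw [hrange]
    have hf'' : AlgSp.LocP @LocallyOfFiniteType f''.hom :=
      Groth.Agent.Lib.Helper12.LocPCases.good_lft.locP_baseChange X.property Y.property
        Y''.property sq hf
    have e1 := hasAtMor_qlqf_iff f''.hom hf'' x''
    have e2 := hasAtMor_fibreDimAt_baseChange_iff (fun d => d ≤ 0) X.property Y.property
      Y''.property sq hf x''
    exact (e1.trans e2).symm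
end Groth.Agent.S10313
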