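import Mathlib
import Groth.Statements.S10314
import Groth.Agent.R2.H45HasAtMor
import Groth.Agent.Lib.Helper3RelDimFlat
set_option autoImplicit false
universe u
open CategoryTheory CategoryTheory.Limits AlgebraicGeometry
open AlgSp
namespace Groth.Agent.S10314
open Groth.Agent.R2.H45.HasAtMor Groth.Agent.R2.H45.HasAt
/-- For a flat morphism locally of finite type of relative dimension d between locally Noetherian
algebraic spaces, the dimension of X at a point equals the dimension of Y at the image point plus d. -/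
theorem result {S : Scheme.{u}} {X Y : AlgSp.Space S} (f : X ⟶ Y)
    (hX : AlgSp.IsLocNoethSp X.obj) (hY : AlgSp.IsLocNoethSp Y.obj) (hf : AlgSp.LocP @Flat f.hom)
    (hf' : AlgSp.LocP @LocallyOfFiniteType f.hom) (d : ℕ)
    (hd : ∀ x : AlgSp.Points X.obj, AlgSp.HasAtMor (fun _ _ h u => FlatMor.fibreDimAt h u = (d : WithBot ℕ∞)) f.hom x)
    (x : AlgSp.Points X.obj) (dX dY : WithBot ℕ∞) (hx : AlgSp.HasAt (fun U u => FlatMor.localDim ↥U u = dX) X.obj x)
    (hy : AlgSp.HasAt (fun U u => FlatMor.localDim ↥U u = dY) Y.obj (AlgSp.Points.map f.hom x)) :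
    dX = dY + (d : WithBot ℕ∞) := by
  obtain ⟨U, V, a, b, h, u, ha, hb, comm, hu⟩ := exists_diagram X.property Y.property f.hom x
  haveI : IsLocallyNoetherian U.left := isLocallyNoetherian_of_chart hX a ha
  haveI : IsLocallyNoetherian V.left := isLocallyNoetherian_of_chart hY b hb
  haveI : Flat h.left := hf a b h ha hb comm
  haveI : LocallyOfFiniteType h.left := hf' a b h ha hb comm
  have hrel : Cyc.HasRelDim h.left d := by
    rw [Groth.Agent.Lib.Helper3.RelDim.hasRelDim_iff_forall_fibreDimAt_eq]
    intro u'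
    exact (hasAtMor_iff_of_diagram (etSqInv_fibreDimAt (fun s => s = (d : WithBot ℕ∞)))
      f.hom a b h ha hb comm u').1 (hd _)
  have key := Groth.Agent.Lib.Helper3.RelDimFlat.localDim_eq_add h.left d hrel u
  have hxy : AlgSp.Points.map f.hom x = AlgSp.Points.ofPt b (h.left u) := by
    rw [← hu, AlgSp.Points.map_ofPt, comm, Groth.Agent.S10176.ofPt_map_comp]
  rw [← hu] at hx
  rw [hxy] at hy
  have e1 : FlatMor.localDim ↥U.left u = dX :=
    (hasAt_iff_of_chart (etInv_localDim (fun s => s = dX)) a ha u).1 hx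
  have e2 : FlatMor.localDim ↥V.left (h.left u) = dY :=
    (hasAt_iff_of_chart (etInv_localDim (fun s => s = dY)) b hb _).1 hy
  rw [← e1, ← e2]
  exact key
end Groth.Agent.S10314
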