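import Mathlib
import Groth.Statements.S10315
import Groth.Agent.R2.H45HasAtMor
import Groth.Agent.Lib.Helper3RelDimFlat
import Groth.Agent.Lib.Helper3SmDim
set_option autoImplicit false
set_option linter.style.haveILetI false
universe u
open CategoryTheory CategoryTheory.Limits AlgebraicGeometry
open AlgSp
namespace Groth.Agent.S10315
open Groth.Agent.R2.H45.HasAtMor Groth.Agent.R2.H45.HasAt

/-- scheme level: the dimension formula for smooth morphisms of locally Noetherian schemes. -/
theorem localDim_eq_add_of_smooth {U V : Scheme.{u}} [IsLocallyNoetherian U] [IsLocallyNoetherian V]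
    (h : U ⟶ V) [Smooth h] (u : ↥U) :
    FlatMor.localDim ↥U u = FlatMor.localDim ↥V (h u) + FlatMor.fibreDimAt h u := by
  obtain ⟨U₁, hU₁, V₁, hV₁, hx₁, e₁, hf₁⟩ := Smooth.exists_isStandardSmooth h u
  obtain ⟨n, hn⟩ := Groth.Agent.Lib.Helper3.SmDim.exists_relDim_of_isStandardSmooth _ hf₁
  have hall : ∀ u' : ↥U, u' ∈ V₁ → FlatMor.fibreDimAt h u' = (n : WithBot ℕ∞) := fun u' hu' =>
    Groth.Agent.Lib.Helper3.SmDim.fibreDimAt_eq_of_chart h n u' hU₁ hV₁ hu' e₁ hn
  haveI : IsLocallyNoetherian (V₁ : Scheme.{u}) := isLocallyNoetherian_of_isOpenImmersion V₁.ι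
  have hrel : Cyc.HasRelDim (V₁.ι ≫ h) n := by
    rw [Groth.Agent.Lib.Helper3.RelDim.hasRelDim_iff_forall_fibreDimAt_eq]
    intro w
    rw [Groth.Agent.Lib.Helper3.FibDimEt.fibreDimAt_comp_of_etale V₁.ι h w]
    exact hall _ w.2
  have key := Groth.Agent.Lib.Helper3.RelDimFlat.localDim_eq_add (V₁.ι ≫ h) n hrel ⟨u, hx₁⟩
  rw [Groth.Agent.R2.H45.Dim.localDim_eq_of_etale V₁.ι ⟨u, hx₁⟩] at key
  rw [hall u hx₁]
  exact key

/-- For a smooth morphism of locally Noetherian algebraic spaces, the dimension of X at x is the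
dimension of Y at the image of x plus the relative dimension of f at x. -/
theorem result {S : Scheme.{u}} {X Y : AlgSp.Space S} (f : X ⟶ Y)
    (hX : AlgSp.IsLocNoethSp X.obj) (hY : AlgSp.IsLocNoethSp Y.obj) (hf : AlgSp.LocP @Smooth f.hom)
    (x : AlgSp.Points X.obj) (d dX dY : WithBot ℕ∞)
    (hd : AlgSp.HasAtMor (fun _ _ h u => FlatMor.fibreDimAt h u = d) f.hom x)
    (hx : AlgSp.HasAt (fun U u => FlatMor.localDim ↥U u = dX) X.obj x)
    (hy : AlgSp.HasAt (fun U u => FlatMor.localDim ↥U u = dY) Y.obj (AlgSp.Points.map f.hom x)) :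
    dX = dY + d := by
  obtain ⟨U, V, a, b, h, u, ha, hb, comm, hu⟩ := exists_diagram X.property Y.property f.hom x
  haveI : IsLocallyNoetherian U.left := isLocallyNoetherian_of_chart hX a ha
  haveI : IsLocallyNoetherian V.left := isLocallyNoetherian_of_chart hY b hb
  haveI : Smooth h.left := hf a b h ha hb comm
  have key := localDim_eq_add_of_smooth h.left u
  have hxy : AlgSp.Points.map f.hom x = AlgSp.Points.ofPt b (h.left u) := by
    rw [← hu, AlgSp.Points.map_ofPt, comm, Groth.Agent.S10176.ofPt_map_comp]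
  rw [← hu] at hx hd
  rw [hxy] at hy
  have e0 : FlatMor.fibreDimAt h.left u = d :=
    (hasAtMor_iff_of_diagram (etSqInv_fibreDimAt (fun s => s = d)) f.hom a b h ha hb comm u).1 hd
  have e1 : FlatMor.localDim ↥U.left u = dX :=
    (hasAt_iff_of_chart (etInv_localDim (fun s => s = dX)) a ha u).1 hx
  have e2 : FlatMor.localDim ↥V.left (h.left u) = dY :=
    (hasAt_iff_of_chart (etInv_localDim (fun s => s = dY)) b hb _).1 hy
  rw [← e1, ← e2, ← e0]
  exact key
end Groth.Agent.S10315
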