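import Mathlib
import Groth.Prelude.Def_AlgSpDec
import Groth.Prelude.Def_Dual3
import Groth.Agent.R2.H45HasAtMor
import Groth.Agent.R2.H45ResTrdeg
set_option autoImplicit false
universe u
open CategoryTheory CategoryTheory.Limits AlgebraicGeometry
open AlgSp
namespace Groth.Agent.S10316
open Groth.Agent.R2.H45.HasAtMor Groth.Agent.R2.H45.ResTrdeg
/-- For X -> Y locally quasi-finite and Y -> Z locally of finite type, the transcendence degree of x
over Z equals that of its image y over Z. -/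
theorem result {S : Scheme.{u}} {X Y Z : AlgSp.Space S} (f : X ⟶ Y) (g : Y ⟶ Z)
    (hf : AlgSp.LocP (@LocallyQuasiFinite ⊓ @LocallyOfFiniteType) f.hom) (hg : AlgSp.LocP @LocallyOfFiniteType g.hom)
    (x : AlgSp.Points X.obj) (r : Cardinal.{u}) :
    AlgSp.HasAtMor (fun _ _ h u => Dual3.resTrdeg h u = r) (f ≫ g).hom x ↔
      AlgSp.HasAtMor (fun _ _ h u => Dual3.resTrdeg h u = r) g.hom (AlgSp.Points.map f.hom x) := by
  obtain ⟨U, V, W, a, b, c, h, k, u, ha, hb, hc, c1, c2, c3, hu, hu'⟩ :=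
    exists_diagram_comp X.property Y.property Z.property f.hom g.hom x
  haveI : LocallyQuasiFinite h.left := (hf a b h ha hb c1).1
  have e1 := hasAtMor_iff_of_diagram (etSqInv_resTrdeg (fun s => s = r)) (f ≫ g).hom a c (h ≫ k)
    ha hc c3 u
  have e2 := hasAtMor_iff_of_diagram (etSqInv_resTrdeg (fun s => s = r)) g.hom b c k hb hc c2
    (h.left u)
  rw [hu] at e1
  rw [hu'] at e2
  rw [e1, e2]
  change Dual3.resTrdeg (h ≫ k).left u = r ↔ Dual3.resTrdeg k.left (h.left u) = r
  rw [Over.comp_left, resTrdeg_comp, resTrdeg_eq_zero_of_locallyQuasiFinite h.left u, add_zero]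
end Groth.Agent.S10316
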