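import Mathlib
import Groth.Statements.S10318
import Groth.Agent.R2.H45HasAtMor
import Groth.Agent.R2.H45ResTrdeg
import Groth.Agent.Lib.Helper4DimFormulaAL
set_option autoImplicit false
set_option linter.style.haveILetI false
universe u
open CategoryTheory CategoryTheory.Limits AlgebraicGeometry
open AlgSp
namespace Groth.Agent.S10318
open Groth.Agent.R2.H45.HasAtMor Groth.Agent.R2.H45.HasAt Groth.Agent.R2.H45.ResTrdeg

/-- a point over a closed point under a locally quasi-finite morphism is closed. -/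
theorem isClosed_singleton_of_locallyQuasiFinite {W U : Scheme.{u}} (p : W ⟶ U)
    [LocallyQuasiFinite p] (w : ↥W) (h : IsClosed ({p w} : Set ↥U)) : IsClosed ({w} : Set ↥W) := by
  haveI : DiscreteTopology ↥(p ⁻¹' {p w}) := (p.isDiscrete_preimage_singleton (p w)).to_subtype
  have hcl : IsClosed (p ⁻¹' {p w}) := h.preimage p.continuous
  have h1 : IsClosed ({⟨w, rfl⟩} : Set ↥(p ⁻¹' {p w})) := isClosed_discrete _
  have h2 := hcl.isClosedMap_subtype_val _ h1
  simpa using h2

/-- Over a Jacobson algebraic space, a finite type point of a space locally of finite type over it has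
transcendence degree 0 over its image. -/
theorem result {S : Scheme.{u}} {X Y : AlgSp.Space S} (f : X ⟶ Y)
    (hf : AlgSp.LocP @LocallyOfFiniteType f.hom) (hY : AlgSp.EtaleLocally (fun U => JacobsonSpace ↥U) Y.obj)
    (x : AlgSp.Points X.obj) (hx : AlgSp.HasAt (fun U u => IsClosed ({u} : Set ↥U)) X.obj x) :
    AlgSp.HasAtMor (fun _ _ h u => Dual3.resTrdeg h u = 0) f.hom x := by
  obtain ⟨U, a, u, ha, hu, hcl⟩ := hx
  obtain ⟨V, b, v, hb, -, hv⟩ := exists_chart Y.property (AlgSp.Points.map f.hom x)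
  obtain ⟨W, p, h, w, hp, hw, hhw, comm, hpa, hpt⟩ :=
    exists_diagram_through f.hom a b ha hb u v (by rw [hu, hv])
  haveI : LocallyOfFiniteType h.left := hf _ b h hpa hb comm
  haveI : LocallyQuasiFinite p.left := Groth.Agent.R2.H45.Dim.locallyQuasiFinite_of_etale p.left
  have hwcl : IsClosed ({w} : Set ↥W.left) :=
    isClosed_singleton_of_locallyQuasiFinite p.left w (by rw [hw]; exact hcl)
  refine ⟨W, V, _, b, h, w, hpa, hb, comm, hpt.trans hu, ?_⟩
  change Dual3.resTrdeg h.left w = 0
  rw [resTrdeg_eq_ptTrdeg, Groth.Agent.Lib.Helper4.DimFormula.ptTrdeg_eq_zero_of_isClosed h.left w hwcl]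
  simp
end Groth.Agent.S10318
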