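import Mathlib
import Groth.Prelude.Def_AlgSpDec
import Groth.Prelude.Def_Dual3
import Groth.Agent.R2.H45HasAtMor
import Groth.Agent.R2.H45ResTrdeg
set_option autoImplicit false
universe u
open CategoryTheory CategoryTheory.Limits AlgebraicGeometry
open AlgSp
namespace Groth.Agent.S10319
open Groth.Agent.R2.H45.HasAtMor Groth.Agent.R2.H45.ResTrdeg
/-- Transcendence degrees at a point add up along a composition of morphisms locally of finite type. -/
theorem result {S : Scheme.{u}} {X Y Z : AlgSp.Space S} (f : X ⟶ Y) (g : Y ⟶ Z)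
    (hf : AlgSp.LocP @LocallyOfFiniteType f.hom) (hg : AlgSp.LocP @LocallyOfFiniteType g.hom)
    (x : AlgSp.Points X.obj) (r₁ r₂ : Cardinal.{u})
    (h1 : AlgSp.HasAtMor (fun _ _ h u => Dual3.resTrdeg h u = r₁) f.hom x)
    (h2 : AlgSp.HasAtMor (fun _ _ h u => Dual3.resTrdeg h u = r₂) g.hom (AlgSp.Points.map f.hom x)) :
    AlgSp.HasAtMor (fun _ _ h u => Dual3.resTrdeg h u = r₁ + r₂) (f ≫ g).hom x := by
  obtain ⟨U, V, W, a, b, c, h, k, u, ha, hb, hc, c1, c2, c3, hu, hu'⟩ :=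
    exists_diagram_comp X.property Y.property Z.property f.hom g.hom x
  rw [← hu] at h1
  rw [← hu'] at h2
  have e1 : Dual3.resTrdeg h.left u = r₁ :=
    (hasAtMor_iff_of_diagram (etSqInv_resTrdeg (fun r => r = r₁)) f.hom a b h ha hb c1 u).1 h1
  have e2 : Dual3.resTrdeg k.left (h.left u) = r₂ :=
    (hasAtMor_iff_of_diagram (etSqInv_resTrdeg (fun r => r = r₂)) g.hom b c k hb hc c2 _).1 h2
  refine ⟨U, W, a, c, h ≫ k, u, ha, hc, c3, hu, ?_⟩
  change Dual3.resTrdeg (h ≫ k).left u = r₁ + r₂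
  rw [Over.comp_left, resTrdeg_comp, e1, e2, add_comm]
end Groth.Agent.S10319
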