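import Mathlib
import Groth.Prelude.Def_AlgSpDec
import Groth.Prelude.Def_Dual3
import Groth.Agent.R2.H45HasAtMor
import Groth.Agent.R2.H45ResTrdeg
import Groth.Agent.Lib.Helper4DimFormulaAD
set_option autoImplicit false
universe u
open CategoryTheory CategoryTheory.Limits AlgebraicGeometry
open AlgSp
namespace Groth.Agent.S10320
open Groth.Agent.R2.H45.HasAtMor Groth.Agent.R2.H45.ResTrdeg
/-- For f locally of finite type, the relative dimension of f at x equals the dimension of the local
ring of the fibre at x plus the transcendence degree of x over its image. -/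
theorem result {S : Scheme.{u}} {X Y : AlgSp.Space S} (f : X ⟶ Y)
    (hf : AlgSp.LocP @LocallyOfFiniteType f.hom) (x : AlgSp.Points X.obj) (d e : WithBot ℕ∞) (r : Cardinal.{u})
    (hd : AlgSp.HasAtMor (fun _ _ h u => FlatMor.fibreDimAt h u = d) f.hom x)
    (he : AlgSp.HasAtMor (fun _ _ h u => ringKrullDim ↥((h.fiber (h u)).presheaf.stalk (h.asFiber u)) = e) f.hom x)
    (hr : AlgSp.HasAtMor (fun _ _ h u => Dual3.resTrdeg h u = r) f.hom x) :
    d = e + ((Cardinal.toENat r : ℕ∞) : WithBot ℕ∞) := by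
  obtain ⟨U, V, a, b, h, u, ha, hb, comm, hu, hQe⟩ := he
  subst hu
  haveI : LocallyOfFiniteType h.left := hf a b h ha hb comm
  have e1 : FlatMor.fibreDimAt h.left u = d :=
    (hasAtMor_iff_of_diagram (etSqInv_fibreDimAt (fun s => s = d)) f.hom a b h ha hb comm u).1 hd
  have e2 : Dual3.resTrdeg h.left u = r :=
    (hasAtMor_iff_of_diagram (etSqInv_resTrdeg (fun s => s = r)) f.hom a b h ha hb comm u).1 hr
  have key := Groth.Agent.Lib.Helper4.DimFormula.fibreDimAt_eq_stalk_add_ptTrdeg h.left u
  rw [resTrdeg_eq_ptTrdeg] at e2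
  rw [← e1, key, ← e2]
  change _ = ringKrullDim _ + _ at *
  rw [hQe]
  simp
end Groth.Agent.S10320
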