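import Mathlib
import Groth.Statements.S10323
import Groth.Agent.R2.H45HasAtMor
import Groth.Agent.R2.H45ResTrdeg
import Groth.Agent.R2.H45DimFormula
set_option autoImplicit false
set_option linter.style.haveILetI false
universe u
open CategoryTheory CategoryTheory.Limits AlgebraicGeometry
open AlgSp
namespace Groth.Agent.S10323
open Groth.Agent.R2.H45.HasAtMor Groth.Agent.R2.H45.HasAt Groth.Agent.R2.H45.ResTrdeg
  Groth.Agent.Lib.Helper4.DimFormula
/-- For Y locally Noetherian and f locally of finite type, the dimension of the local ring of X at x is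
at most the dimension of the local ring of Y at the image point plus E minus the transcendence
degree of x over its image, where E bounds the transcendence degrees of the codimension-0 points
specializing to x. -/
theorem result {S : Scheme.{u}} {X Y : AlgSp.Space S} (f : X ⟶ Y)
    (hY : AlgSp.IsLocNoethSp Y.obj) (hf : AlgSp.LocP @LocallyOfFiniteType f.hom) (x : AlgSp.Points X.obj)
    (E : Cardinal.{u})
    (hE : ∀ ξ : AlgSp.Points X.obj, ξ ⤳ x → AlgSp.HasAt (fun U u => ringKrullDim ↥(U.presheaf.stalk u) = 0) X.obj ξ →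
      ∀ s : Cardinal.{u}, AlgSp.HasAtMor (fun _ _ h u => Dual3.resTrdeg h u = s) f.hom ξ → s ≤ E)
    (a b : WithBot ℕ∞) (r : Cardinal.{u})
    (ha : AlgSp.HasAt (fun U u => ringKrullDim ↥(U.presheaf.stalk u) = a) X.obj x)
    (hb : AlgSp.HasAt (fun U u => ringKrullDim ↥(U.presheaf.stalk u) = b) Y.obj (AlgSp.Points.map f.hom x))
    (hr : AlgSp.HasAtMor (fun _ _ h u => Dual3.resTrdeg h u = r) f.hom x) :
    a + ((Cardinal.toENat r : ℕ∞) : WithBot ℕ∞) ≤ b + ((Cardinal.toENat E : ℕ∞) : WithBot ℕ∞) := by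
  obtain ⟨U, V, a', b', h, u, ha', hb', comm, hu⟩ := exists_diagram X.property Y.property f.hom x
  haveI : IsLocallyNoetherian V.left := isLocallyNoetherian_of_chart hY b' hb'
  haveI : LocallyOfFiniteType h.left := hf a' b' h ha' hb' comm
  have hxy : AlgSp.Points.map f.hom x = AlgSp.Points.ofPt b' (h.left u) := by
    rw [← hu, AlgSp.Points.map_ofPt, comm, Groth.Agent.S10176.ofPt_map_comp]
  rw [← hu] at ha hr
  rw [hxy] at hb
  have e1 : ringKrullDim ↥(U.left.presheaf.stalk u) = a :=
    (hasAt_iff_of_chart (etInv_ringKrullDim_stalk (fun s => s = a)) a' ha' u).1 ha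
  have e2 : ringKrullDim ↥(V.left.presheaf.stalk (h.left u)) = b :=
    (hasAt_iff_of_chart (etInv_ringKrullDim_stalk (fun s => s = b)) b' hb' _).1 hb
  have e3 : Dual3.resTrdeg h.left u = r :=
    (hasAtMor_iff_of_diagram (etSqInv_resTrdeg (fun s => s = r)) f.hom a' b' h ha' hb' comm u).1 hr
  obtain ⟨ξ, hξu, hξ0, key⟩ :=
    Groth.Agent.R2.H45.DimFormula.exists_generic_stalk_add_ptTrdeg_le h.left u
  have hξE : Dual3.resTrdeg h.left ξ ≤ E := by
    refine hE (AlgSp.Points.ofPt a' ξ) ?_ ⟨U, a', ξ, ha', rfl, hξ0⟩ _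
      ⟨U, V, a', b', h, ξ, ha', hb', comm, rfl, rfl⟩
    rw [← hu]
    exact hξu.map (AlgSp.Points.continuous_ofPt a')
  rw [resTrdeg_eq_ptTrdeg] at e3 hξE
  rw [← e1, ← e2, ← e3]
  refine le_trans ?_ (le_trans key (add_le_add le_rfl ?_))
  · simp
  · have := (Cardinal.toENat).monotone' hξE
    have h2 : ((ptTrdeg h.left ξ : ℕ) : ℕ∞) ≤ Cardinal.toENat E := by simpa using this
    exact_mod_cast WithBot.coe_le_coe.2 h2
end Groth.Agent.S10323
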