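import Mathlib
import Groth.Statements.S10324
import Groth.Agent.R2.H45HasAtMor
import Groth.Agent.R2.H45ResTrdeg
import Groth.Agent.R2.H45DimFormula
set_option autoImplicit false
set_option linter.style.haveILetI false
universe u
open CategoryTheory CategoryTheory.Limits AlgebraicGeometry
open AlgSp
namespace Groth.Agent.S10324
open Groth.Agent.R2.H45.HasAtMor Groth.Agent.R2.H45.HasAt Groth.Agent.R2.H45.ResTrdeg
  Groth.Agent.Lib.Helper4.DimFormula
/-- For Y locally Noetherian and f : X -> Y locally of finite type, dim X ≤ dim Y + E where E bounds the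
transcendence degrees over Y of the codimension-0 points of X. -/
theorem result {S : Scheme.{u}} {X Y : AlgSp.Space S} (f : X ⟶ Y)
    (hY : AlgSp.IsLocNoethSp Y.obj) (hf : AlgSp.LocP @LocallyOfFiniteType f.hom) (E : Cardinal.{u})
    (hE : ∀ ξ : AlgSp.Points X.obj, AlgSp.HasAt (fun U u => ringKrullDim ↥(U.presheaf.stalk u) = 0) X.obj ξ → ∀ s : Cardinal.{u}, AlgSp.HasAtMor (fun _ _ h u => Dual3.resTrdeg h u = s) f.hom ξ → s ≤ E) :
    AlgSp.dim X.obj ≤ AlgSp.dim Y.obj + ((Cardinal.toENat E : ℕ∞) : WithBot ℕ∞) := by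
  unfold AlgSp.dim
  refine iSup_le fun U => iSup_le fun a => iSup_le fun ha => ?_
  rw [Groth.Agent.R2.H45.Dim.topologicalKrullDim_eq_iSup_stalk]
  refine iSup_le fun u => ?_
  obtain ⟨V, b, v, hb, -, hv⟩ := exists_chart Y.property (AlgSp.Points.map f.hom (AlgSp.Points.ofPt a u))
  obtain ⟨W, p, h, w, hp, hw, hhw, comm, hpa, hpt⟩ :=
    exists_diagram_through f.hom a b ha hb u v hv.symm
  haveI : IsLocallyNoetherian V.left := isLocallyNoetherian_of_chart hY b hb
  haveI : LocallyOfFiniteType h.left := hf _ b h hpa hb comm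
  haveI : Etale p.left := hp
  have e1 : ringKrullDim ↥(U.left.presheaf.stalk u) = ringKrullDim ↥(W.left.presheaf.stalk w) := by
    rw [← hw, Groth.Agent.R2.H45.Dim.ringKrullDim_stalk_eq_of_etale p.left w]
  obtain ⟨ξ, hξu, hξ0, key⟩ :=
    Groth.Agent.R2.H45.DimFormula.exists_generic_stalk_add_ptTrdeg_le h.left w
  have hξE : Dual3.resTrdeg h.left ξ ≤ E :=
    hE (AlgSp.Points.ofPt ((AlgSp.yon S).map p ≫ a) ξ) ⟨W, _, ξ, hpa, rfl, hξ0⟩ _
      ⟨W, V, _, b, h, ξ, hpa, hb, comm, rfl, rfl⟩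
  rw [resTrdeg_eq_ptTrdeg] at hξE
  have h2 : ((ptTrdeg h.left ξ : ℕ) : ℕ∞) ≤ Cardinal.toENat E := by
    have := (Cardinal.toENat).monotone' hξE
    simpa using this
  have h3 : ringKrullDim ↥(V.left.presheaf.stalk (h.left w)) ≤
      ⨆ (V : Over S) (b : (AlgSp.yon S).obj V ⟶ Y.obj) (_ : AlgSp.RepWith @Etale b),
        topologicalKrullDim ↥V.left := by
    refine le_trans ?_ (le_iSup_of_le V (le_iSup_of_le b (le_iSup_of_le hb le_rfl)))
    rw [Groth.Agent.R2.H45.Dim.topologicalKrullDim_eq_iSup_stalk]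
    exact le_iSup (fun v' : ↥V.left => ringKrullDim ↥(V.left.presheaf.stalk v')) (h.left w)
  rw [e1]
  calc ringKrullDim ↥(W.left.presheaf.stalk w)
      ≤ ringKrullDim ↥(W.left.presheaf.stalk w) + (ptTrdeg h.left w : WithBot ℕ∞) := by
        exact le_add_of_nonneg_right (by exact_mod_cast (Nat.zero_le _))
    _ ≤ ringKrullDim ↥(V.left.presheaf.stalk (h.left w)) + (ptTrdeg h.left ξ : WithBot ℕ∞) := key
    _ ≤ _ := add_le_add h3 (by exact_mod_cast WithBot.coe_le_coe.2 h2)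
end Groth.Agent.S10324
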