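import Mathlib
import Groth.Statements.S10328
import Groth.Agent.R2.H45HasAtMor
import Groth.Agent.Lib.Helper3CompDim
set_option autoImplicit false
universe u
open CategoryTheory CategoryTheory.Limits AlgebraicGeometry
open AlgSp
namespace Groth.Agent.S10328
open Groth.Agent.R2.H45.HasAtMor
/-- The relative dimension of a composite at a point is at most the sum of the relative dimensions, with
equality when the first morphism is flat at the point. (The published part (2) allows more generally
flatness of a fibre of X -> Y over a field point of Z; only the case f flat at x is stated.) -/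
theorem result {S : Scheme.{u}} {X Y Z : AlgSp.Space S} (f : X ⟶ Y) (g : Y ⟶ Z)
    (hf : AlgSp.LocP @LocallyOfFiniteType f.hom) (hg : AlgSp.LocP @LocallyOfFiniteType g.hom)
    (x : AlgSp.Points X.obj) (a b : WithBot ℕ∞)
    (ha : AlgSp.HasAtMor (fun _ _ h u => FlatMor.fibreDimAt h u = a) f.hom x)
    (hb : AlgSp.HasAtMor (fun _ _ h u => FlatMor.fibreDimAt h u = b) g.hom (AlgSp.Points.map f.hom x)) :
    AlgSp.HasAtMor (fun _ _ h u => FlatMor.fibreDimAt h u ≤ a + b) (f ≫ g).hom x ∧
    (AlgSp.IsFlatAtMor f.hom x → AlgSp.HasAtMor (fun _ _ h u => FlatMor.fibreDimAt h u = a + b) (f ≫ g).hom x) := by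
  obtain ⟨U, V, W, a', b', c, h, k, u, ha', hb', hc, c1, c2, c3, hu, hu'⟩ :=
    exists_diagram_comp X.property Y.property Z.property f.hom g.hom x
  haveI : LocallyOfFiniteType h.left := hf a' b' h ha' hb' c1
  haveI : LocallyOfFiniteType k.left := hg b' c k hb' hc c2
  rw [← hu] at ha
  rw [← hu'] at hb
  have e1 : FlatMor.fibreDimAt h.left u = a :=
    (hasAtMor_iff_of_diagram (etSqInv_fibreDimAt (fun s => s = a)) f.hom a' b' h ha' hb' c1 u).1 ha
  have e2 : FlatMor.fibreDimAt k.left (h.left u) = b :=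
    (hasAtMor_iff_of_diagram (etSqInv_fibreDimAt (fun s => s = b)) g.hom b' c k hb' hc c2 _).1 hb
  obtain ⟨k1, k2⟩ := Groth.Agent.Lib.Helper3.CompDim.fibreDimAt_comp h.left k.left u
  rw [e1, e2] at k1 k2
  refine ⟨⟨U, W, a', c, h ≫ k, u, ha', hc, c3, hu, ?_⟩, fun hfl => ⟨U, W, a', c, h ≫ k, u, ha', hc, c3, hu, ?_⟩⟩
  · change FlatMor.fibreDimAt (h ≫ k).left u ≤ a + b
    rw [Over.comp_left]
    exact k1
  · change FlatMor.fibreDimAt (h ≫ k).left u = a + b
    rw [Over.comp_left]
    exact k2 (hfl a' b' h u ha' hb' c1 hu)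
end Groth.Agent.S10328
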