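import Mathlib
import Groth.Statements.S10329
import Groth.Agent.R2.H45HasAtMor
import Groth.Agent.R2.H45RelDim
import Groth.Agent.S5341
set_option autoImplicit false
set_option linter.style.haveILetI false
universe u
open CategoryTheory CategoryTheory.Limits AlgebraicGeometry
open AlgSp
namespace Groth.Agent.S10329
open Groth.Agent.R2.H45.HasAtMor Groth.Agent.R2.H45.HasAt Groth.Agent.R2.H45.RelDim
/-- If the fibre of a morphism locally of finite type has dimension 0 at a point, then the morphism is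
locally quasi-finite on some open subspace containing the image of that point. -/
theorem result {S : Scheme.{u}} {X Y F : AlgSp.Space S} (f : X ⟶ Y)
    (hf : AlgSp.LocP @LocallyOfFiniteType f.hom) (k : Type u) [Field k] (str : Spec (.of k) ⟶ S)
    (y : (AlgSp.yon S).obj (Over.mk str) ⟶ Y.obj) (p : F ⟶ X) (q : F.obj ⟶ (AlgSp.yon S).obj (Over.mk str))
    (sq : IsPullback p.hom q f.hom y) (z : AlgSp.Points F.obj)
    (hz : AlgSp.HasAt (fun U u => FlatMor.localDim ↥U u = 0) F.obj z) :
    ∃ (X' : AlgSp.Space S) (j : X' ⟶ X), AlgSp.RepWith @IsOpenImmersion j.hom ∧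
      AlgSp.Points.map p.hom z ∈ Set.range (AlgSp.Points.map j.hom) ∧
      AlgSp.LocP (@LocallyQuasiFinite ⊓ @LocallyOfFiniteType) (j ≫ f).hom := by
  have hopen : IsOpen (lqfLocus f.hom) := isOpen_lqfLocus X.property Y.property f.hom hf
  have hrange := Groth.Agent.Lib.Helper12.OpenSub.range_map_incl (lqfLocus f.hom)
  refine ⟨⟨Groth.Agent.Lib.Helper12.OpenSub.obj X.obj (lqfLocus f.hom),
    Groth.Agent.Lib.Helper12.OpenSub.isAlgSpace_obj X.property hopen⟩,
    ObjectProperty.homMk (Groth.Agent.Lib.Helper12.OpenSub.incl X.obj (lqfLocus f.hom)),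
    Groth.Agent.Lib.Helper12.OpenSub.repWith_incl hopen, ?_, ?_⟩
  · change AlgSp.Points.map p.hom z ∈ Set.range (AlgSp.Points.map
      (Groth.Agent.Lib.Helper12.OpenSub.incl X.obj (lqfLocus f.hom)))
    rw [hrange]
    refine (hasAtMor_fibreDimAt_baseChange_iff (fun d => d ≤ 0) X.property Y.property
      (AlgSp.IsAlgSpace.yon_obj (Over.mk str)) sq hf z).1 ?_
    obtain ⟨U, a, u, ha, hu, hdim⟩ := hz
    obtain ⟨h, hh⟩ := (AlgSp.yon S).map_surjective (a ≫ q)
    haveI : Subsingleton ↥(Over.mk str).left :=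
      show Subsingleton (PrimeSpectrum k) from inferInstance
    refine ⟨U, Over.mk str, a, 𝟙 _, h, u, ha, AlgSp.repWith_id _ _, ?_, hu, ?_⟩
    · rw [hh, Category.comp_id]
    · change FlatMor.fibreDimAt h.left u ≤ 0
      rw [Groth.Agent.S5341.fibreDimAt_eq_localDim_of_subsingleton h.left u, hdim]
  · exact locP_lqf_of_range_subset f.hom hf _
      (Groth.Agent.Lib.Helper12.OpenSub.repWith_incl hopen) hrange.le
end Groth.Agent.S10329
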