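import Mathlib
import Groth.Statements.S10335
import Groth.Agent.R2.H45HasAtMor
import Groth.Agent.R2.H45ResTrdeg
import Groth.Agent.R2.H45FibStalk
import Groth.Agent.R2.H45BCChart
import Groth.Agent.Lib.Helper12LocPCases
set_option autoImplicit false
set_option linter.style.haveILetI false
universe u
open CategoryTheory CategoryTheory.Limits AlgebraicGeometry
open AlgSp
namespace Groth.Agent.S10335
open Groth.Agent.R2.H45.HasAtMor Groth.Agent.R2.H45.HasAt Groth.Agent.R2.H45.ResTrdeg
  Groth.Agent.R2.H45.FibStalk Groth.Agent.Lib.Helper4.DimFormula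
/-- In a base change square of algebraic spaces with f : X -> Y locally of finite type and f' : X' -> Y'
its base change along g : Y' -> Y, take a point x' of X' over x. The fibre of f' has a local ring at
x' whose dimension exceeds the corresponding dimension for the fibre of f at x by exactly the
transcendence degree of x over f(x) minus that of x' over f'(x'), and this excess is never negative;
and for x in X and y' in Y' over the same point of Y some x' over both has excess zero. All four
quantities are read on some chart diagram through the point. -/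
theorem result {S : Scheme.{u}} {X Y Y' X' : AlgSp.Space S} (f : X ⟶ Y) (g : Y' ⟶ Y)
    (g' : X' ⟶ X) (f' : X' ⟶ Y') (sq : IsPullback g'.hom f'.hom f.hom g.hom)
    (hf : AlgSp.LocP @LocallyOfFiniteType f.hom) :
    (∀ (x' : AlgSp.Points X'.obj) (e e' : WithBot ℕ∞) (r r' : Cardinal.{u}),
      AlgSp.HasAtMor (fun _ _ h u => ringKrullDim ↥((h.fiber (h u)).presheaf.stalk (h.asFiber u)) = e) f.hom
          (AlgSp.Points.map g'.hom x') →
      AlgSp.HasAtMor (fun _ _ h u => Dual3.resTrdeg h u = r) f.hom (AlgSp.Points.map g'.hom x') →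
      AlgSp.HasAtMor (fun _ _ h u => ringKrullDim ↥((h.fiber (h u)).presheaf.stalk (h.asFiber u)) = e') f'.hom x' →
      AlgSp.HasAtMor (fun _ _ h u => Dual3.resTrdeg h u = r') f'.hom x' →
        e' + ((Cardinal.toENat r' : ℕ∞) : WithBot ℕ∞) = e + ((Cardinal.toENat r : ℕ∞) : WithBot ℕ∞) ∧ e ≤ e') ∧
    (∀ (x : AlgSp.Points X.obj) (y' : AlgSp.Points Y'.obj) (e : WithBot ℕ∞),
      AlgSp.Points.map f.hom x = AlgSp.Points.map g.hom y' →
      AlgSp.HasAtMor (fun _ _ h u => ringKrullDim ↥((h.fiber (h u)).presheaf.stalk (h.asFiber u)) = e) f.hom x →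
        ∃ x' : AlgSp.Points X'.obj, AlgSp.Points.map g'.hom x' = x ∧ AlgSp.Points.map f'.hom x' = y' ∧
          AlgSp.HasAtMor (fun _ _ h u => ringKrullDim ↥((h.fiber (h u)).presheaf.stalk (h.asFiber u)) = e)
            f'.hom x') := by
  have hf' : AlgSp.LocP @LocallyOfFiniteType f'.hom :=
    Groth.Agent.Lib.Helper12.LocPCases.good_lft.locP_baseChange X.property Y.property
      Y'.property sq hf
  constructor
  · intro x' e e' r r' he hr he' hr'
    obtain ⟨U, V, V', W, a, b, b', h, κ, p1, p2, a', w, hae, hbe, hbe', hae', c1, c2, c3, c4, hpb,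
      hw, hw'⟩ := exists_baseChange_diagram_through X.property Y.property Y'.property sq x'
    haveI : LocallyOfFiniteType h.left := hf a b h hae hbe c1
    haveI : LocallyOfFiniteType p2.left := hf' a' b' p2 hae' hbe' c3
    rw [← hw'] at he hr
    rw [← hw] at he' hr'
    have E : fibStalkDim h.left (p1.left w) = e := by
      rw [← fibStalk_eq]
      exact (hasAtMor_iff_of_diagram_on (etSqInvOn_fibStalk (fun s => s = e)) f.hom hf a b h hae hbe
        c1 _).1 he
    have E' : fibStalkDim p2.left w = e' := by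
      rw [← fibStalk_eq]
      exact (hasAtMor_iff_of_diagram_on (etSqInvOn_fibStalk (fun s => s = e')) f'.hom hf' a' b' p2
        hae' hbe' c3 _).1 he'
    have R : Dual3.resTrdeg h.left (p1.left w) = r :=
      (hasAtMor_iff_of_diagram (etSqInv_resTrdeg (fun s => s = r)) f.hom a b h hae hbe c1 _).1 hr
    have R' : Dual3.resTrdeg p2.left w = r' :=
      (hasAtMor_iff_of_diagram (etSqInv_resTrdeg (fun s => s = r')) f'.hom a' b' p2 hae' hbe' c3
        _).1 hr'
    rw [resTrdeg_eq_ptTrdeg] at R R'
    have k1 := fibreDimAt_eq_fibStalkDim_add h.left (p1.left w)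
    have k2 := fibreDimAt_eq_fibStalkDim_add p2.left w
    rw [Groth.Agent.Lib.Helper3.LocDimBC.fibreDimAt_eq_of_isPullback h.left κ.left p1.left p2.left
      hpb w, k1, E, E'] at k2
    refine ⟨?_, ?_⟩
    · rw [← R, ← R']
      simpa using k2.symm
    · rw [← E, ← E']
      exact fibStalkDim_le_of_isPullback h.left κ.left p1.left p2.left hpb w
  · intro x y' e hxy he
    obtain ⟨U, V, a, b, h, u, hae, hbe, c1, hu, hQe⟩ := he
    haveI : LocallyOfFiniteType h.left := hf a b h hae hbe c1
    obtain ⟨V'0, b'0, v'0, hb'0, -, hv'0⟩ := exists_chart Y'.property y'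
    have hpt : AlgSp.Points.map g.hom (AlgSp.Points.ofPt b'0 v'0) = AlgSp.Points.ofPt b (h.left u) := by
      rw [hv'0, ← hxy, ← hu, AlgSp.Points.map_ofPt, c1, Groth.Agent.S10176.ofPt_map_comp]
    obtain ⟨V', q, κ, v', hq, hv', hκv', c2, hbe', hpt'⟩ :=
      exists_diagram_through g.hom b'0 b hb'0 hbe v'0 (h.left u) hpt
    -- the chart of `X'`
    have hcomm : ((AlgSp.yon S).map (pullback.fst h κ) ≫ a) ≫ f.hom =
        ((AlgSp.yon S).map (pullback.snd h κ) ≫ (AlgSp.yon S).map q ≫ b'0) ≫ g.hom := by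
      rw [Category.assoc, c1, Category.assoc, c2, ← Category.assoc, ← Category.assoc,
        ← Functor.map_comp, ← Functor.map_comp, pullback.condition]
    obtain ⟨a', ha'⟩ : ∃ a' : (AlgSp.yon S).obj (pullback h κ) ⟶ X'.obj,
        a' = sq.lift _ _ hcomm := ⟨_, rfl⟩
    have c4 : a' ≫ g'.hom = (AlgSp.yon S).map (pullback.fst h κ) ≫ a := by rw [ha', sq.lift_fst]
    have c3 : a' ≫ f'.hom = (AlgSp.yon S).map (pullback.snd h κ) ≫ (AlgSp.yon S).map q ≫ b'0 := by
      rw [ha', sq.lift_snd]
    have hpb : IsPullback (pullback.fst h κ).left (pullback.snd h κ).left h.left κ.left :=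
      (IsPullback.of_hasPullback h κ).map (Over.forget S)
    have hae' : AlgSp.RepWith @Etale a' :=
      Groth.Agent.R2.H45.BCChart.repWith_etale_baseChange_chart X.property Y.property sq a b
        ((AlgSp.yon S).map q ≫ b'0) h κ hae hbe hbe' c1 c2 _ _ (IsPullback.of_hasPullback h κ) a' c3 c4
    obtain ⟨w, hw1, hw2, hwdim⟩ := exists_point_fibStalkDim_eq h.left κ.left _ _ hpb u v' hκv'.symm
    refine ⟨AlgSp.Points.ofPt a' w, ?_, ?_, ?_⟩
    · rw [AlgSp.Points.map_ofPt, c4, Groth.Agent.S10176.ofPt_map_comp, hw1, hu]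
    · rw [AlgSp.Points.map_ofPt, c3, Groth.Agent.S10176.ofPt_map_comp, hw2, hpt', hv'0]
    · refine ⟨_, V', a', (AlgSp.yon S).map q ≫ b'0, pullback.snd h κ, w, hae', hbe', c3, rfl, ?_⟩
      change ringKrullDim _ = e
      rw [fibStalk_eq, hwdim, ← fibStalk_eq]
      exact hQe
end Groth.Agent.S10335
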