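import Groth.Statements.S10353
import Groth.Agent.R2.H46DecentSch
import Groth.Agent.R2.H25DecentDesc
import Groth.Agent.R2.H25DecentMor
import Groth.Agent.S9912
import Groth.Agent.S9906

set_option autoImplicit false
set_option linter.style.haveILetI false
universe u
open CategoryTheory CategoryTheory.Limits AlgebraicGeometry Topology TopologicalSpace
open AlgSp

namespace Groth.Agent.S10353

/-- Let X be an algebraic space over a scheme S and suppose there is a finite, etale, surjective map h_U
⟶ X from a scheme U. Then some dense open subspace of X is a scheme: an open subspace X' ⟶ X with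
representable underlying sheaf and |X'| dense in |X|. -/
theorem result {S : Scheme.{u}} (X : AlgSp.Space S)
    {U : Over S} (a : (AlgSp.yon S).obj U ⟶ X.obj) (hf : AlgSp.RepWith @IsFinite a) (he : AlgSp.RepWith @Etale a)
    (hs : AlgSp.RepWith @Surjective a) :
    ∃ (X' : AlgSp.Space S) (j : X' ⟶ X), AlgSp.RepWith @IsOpenImmersion j.hom ∧ X'.obj.obj.IsRepresentable ∧
      Dense (Set.range (AlgSp.Points.map j.hom)) := by
  have hqc : AlgSp.RepWith @QuasiCompact a :=
    MorphismProperty.relative_monotone
      (fun X Y g hg => by
        haveI : IsFinite g.left := hg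
        exact (inferInstance : QuasiCompact g.left)) _ hf
  have hq : AlgSp.IsQuasiCompactMor a :=
    Groth.Agent.S9912.isQuasiCompactMor_of_repWith (AlgSp.IsAlgSpace.yon_obj U) X.property.diag a hqc
  have hs' : AlgSp.IsSurjectiveMor a := Groth.Agent.S9906.surjective_map_of_repWith a hs
  have hdec : AlgSp.IsDecent X.obj :=
    Groth.Agent.R2.H25.DecentDesc.isDecent_of_quasiCompact_surjective
      (X := ⟨(AlgSp.yon S).obj U, AlgSp.IsAlgSpace.yon_obj U⟩) (Y := X) (ObjectProperty.homMk a)
      hq hs' (Groth.Agent.R2.H25.DecentMor.isDecent_yon U)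
  exact Groth.Agent.R2.H46.DecentSch.exists_dense_open_subscheme X hdec

end Groth.Agent.S10353
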