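import Groth.Statements.S10376
import Groth.Agent.R2.H95NormGlueC
import Groth.Agent.R2.H95NormSch
import Groth.Agent.R2.H44Descent
import Groth.Agent.S9912

set_option autoImplicit false
set_option linter.style.haveILetI false
set_option backward.isDefEq.respectTransparency false
universe u
open CategoryTheory CategoryTheory.Limits AlgebraicGeometry Topology TopologicalSpace
open AlgSp

namespace Groth.Agent.S10376

/-- Let S be a scheme, Y and V algebraic spaces over S, j : V ⟶ Y a quasi-compact open immersion, and π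
: Z ⟶ V an integral morphism. Then one can find an integral morphism ν : Y' ⟶ Y for which Z is
isomorphic over V to the preimage in Y' of V: there is j' : Z ⟶ Y' making the square (j', π, ν, j)
cartesian. -/
theorem result {S : Scheme.{u}} {V Y Z : AlgSp.Space S} (j : V ⟶ Y)
    (hj : AlgSp.RepWith @IsOpenImmersion j.hom) (hjq : AlgSp.IsQuasiCompactMor j.hom) (π : Z ⟶ V)
    (hπ : AlgSp.IsIntegralMor π.hom) :
    ∃ (Y' : AlgSp.Space S) (ν : Y' ⟶ Y) (j' : Z ⟶ Y'), AlgSp.IsIntegralMor ν.hom ∧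
      IsPullback j'.hom π.hom ν.hom j.hom := by
  -- an étale chart of `Y` and the base changes of `V` and `Z`
  obtain ⟨U, p, hp1, hp2⟩ := Y.property.atlas
  obtain ⟨VU, jU, aV, sqV⟩ := hj.1 p
  haveI : IsOpenImmersion jU.left := hj.2 p aV jU sqV
  haveI : QuasiCompact jU.left :=
    (Groth.Agent.S9912.repWith_quasiCompact_of_isQuasiCompactMor j.hom hj.1 hjq).2 p aV jU sqV
  have hπrep : AlgSp.RepWith @IsIntegralHom π.hom :=
    Groth.Agent.R2.H59.AffDesc.repWith_isIntegralHom_of_isIntegralMor _ hπ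
  obtain ⟨ZU, πU, aZ, sqZ⟩ := hπrep.1 aV
  haveI : IsIntegralHom πU.left := hπrep.2 aV aZ πU sqZ
  obtain ⟨g, hg⟩ : ∃ g, g = πU ≫ jU := ⟨_, rfl⟩
  have hgl : g.left = πU.left ≫ jU.left := by rw [hg]; rfl
  have sq : IsPullback aZ ((AlgSp.yon S).map g) (π.hom ≫ j.hom) p := by
    rw [hg, Functor.map_comp]
    exact sqZ.paste_vert sqV
  haveI : QuasiCompact g.left := by rw [hgl]; infer_instance
  haveI : QuasiSeparated g.left := by rw [hgl]; infer_instance
  -- the normalization of the chart and its descent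
  obtain ⟨N, ν₀, η₀, e₀, he₀1, he₀2, hfac₀, hst₀⟩ := Groth.Agent.R2.H95.NormSch.exists_stableNorm g
  have hst : Groth.Agent.R2.H95.NormSpec.StableNorm @Etale ((AlgSp.yon S).map g) ν₀
      ((AlgSp.yon S).map η₀) := by
    refine Groth.Agent.R2.H95.NormSpec.StableNorm.mono (P' := @Smooth) ?_ hst₀
    intro A B k hk
    haveI : Etale k := hk
    exact (inferInstance : Smooth k)
  obtain ⟨X'', ν'', f'', q, hX'', hnorm, sqN, hηq, hqe, hqs⟩ :=
    Groth.Agent.R2.H95.NormGlue.exists_of_chart Y.property (π.hom ≫ j.hom) p hp1 hp2 aZ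
      ((AlgSp.yon S).map g) sq ν₀ ((AlgSp.yon S).map η₀) (by rw [← Functor.map_comp, hfac₀]) hst
  refine ⟨⟨X'', hX''⟩, ObjectProperty.homMk ν'', ObjectProperty.homMk f'', hnorm.2.1, ?_⟩
  change IsPullback f'' π.hom ν'' j.hom
  -- the comparison map to the fibre product
  have sqP := IsPullback.of_hasPullback ν'' j.hom
  obtain ⟨c, hc⟩ : ∃ c, c = sqP.lift f'' π.hom hnorm.1 := ⟨_, rfl⟩
  have hc1 : c ≫ pullback.fst ν'' j.hom = f'' := by rw [hc, sqP.lift_fst]
  have hc2 : c ≫ pullback.snd ν'' j.hom = π.hom := by rw [hc, sqP.lift_snd]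
  -- the scheme `N ×_U V_U`
  have sqN'₀ := IsPullback.of_hasPullback ν₀ jU
  have sqN' := sqN'₀.map (AlgSp.yon S)
  have hκ0 : η₀ ≫ ν₀ = πU ≫ jU := by rw [hfac₀, hg]
  obtain ⟨κ, hκ⟩ : ∃ κ, κ = sqN'₀.lift η₀ πU hκ0 := ⟨_, rfl⟩
  have hκ1 : κ ≫ pullback.fst ν₀ jU = η₀ := by rw [hκ, sqN'₀.lift_fst]
  have hκ2 : κ ≫ pullback.snd ν₀ jU = πU := by rw [hκ, sqN'₀.lift_snd]
  haveI : IsIso κ := by
    have sqX : IsPullback (𝟙 ZU.left) πU.left g.left jU.left :=
      IsPullback.of_horiz_isIso_mono ⟨by rw [Category.id_comp, hgl]⟩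
    obtain ⟨e', he'1, -⟩ := Groth.Agent.R2.H95.NormSch.exists_iso_normalization_of_isPullback g.left
      jU.left (𝟙 ZU.left) πU.left sqX η₀.left ν₀.left e₀ he₀1 he₀2 (pullback.fst ν₀ jU).left
      (pullback.snd ν₀ jU).left (sqN'₀.map (Over.forget S)) κ.left
      (by rw [← Over.comp_left, hκ2]) (by rw [← Over.comp_left, hκ1, Category.id_comp])
    haveI : IsIso κ.left := by
      have : κ.left = πU.left.toNormalization ≫ e'.inv := by
        rw [← he'1, Category.assoc, Iso.hom_inv_id, Category.comp_id]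
      rw [this]
      infer_instance
    haveI : IsIso ((Over.forget S).map κ) := by
      change IsIso κ.left
      infer_instance
    exact isIso_of_reflects_iso κ (Over.forget S)
  -- the chart of the fibre product
  have hqP0 : ((AlgSp.yon S).map (pullback.fst ν₀ jU) ≫ q) ≫ ν'' =
      ((AlgSp.yon S).map (pullback.snd ν₀ jU) ≫ aV) ≫ j.hom := by
    rw [Category.assoc, sqN.w, ← Category.assoc, sqN'.w, Category.assoc, Category.assoc, sqV.w]
  obtain ⟨qP, hqP⟩ : ∃ qP, qP = sqP.lift _ _ hqP0 := ⟨_, rfl⟩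
  have hqP1 : qP ≫ pullback.fst ν'' j.hom = (AlgSp.yon S).map (pullback.fst ν₀ jU) ≫ q := by
    rw [hqP, sqP.lift_fst]
  have hqP2 : qP ≫ pullback.snd ν'' j.hom = (AlgSp.yon S).map (pullback.snd ν₀ jU) ≫ aV := by
    rw [hqP, sqP.lift_snd]
  have rightSq : IsPullback qP ((AlgSp.yon S).map (pullback.snd ν₀ jU))
      (pullback.snd ν'' j.hom) aV := by
    have outer : IsPullback (qP ≫ pullback.fst ν'' j.hom)
        ((AlgSp.yon S).map (pullback.snd ν₀ jU)) ν'' (aV ≫ j.hom) := by
      rw [hqP1, sqV.w]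
      exact sqN'.paste_horiz sqN
    exact IsPullback.of_right outer hqP2 sqP
  have leftSq : IsPullback ((AlgSp.yon S).map κ) aZ qP c := by
    have outer : IsPullback ((AlgSp.yon S).map κ ≫ (AlgSp.yon S).map (pullback.snd ν₀ jU)) aZ aV
        (c ≫ pullback.snd ν'' j.hom) := by
      rw [← Functor.map_comp, hκ2, hc2]
      exact sqZ.flip
    refine IsPullback.of_right outer ?_ rightSq.flip
    apply sqP.hom_ext
    · rw [Category.assoc, hqP1, ← Category.assoc, ← Functor.map_comp, hκ1, hηq, Category.assoc, hc1]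
    · rw [Category.assoc, hqP2, ← Category.assoc, ← Functor.map_comp, hκ2, Category.assoc, hc2,
        sqZ.w]
  have haVe : AlgSp.RepWith @Etale aV :=
    MorphismProperty.of_isPullback (P := AlgSp.RepWith @Etale) sqV.flip hp1
  have haVs : AlgSp.RepWith @Surjective aV :=
    MorphismProperty.of_isPullback (P := AlgSp.RepWith @Surjective) sqV.flip hp2
  have hqPe : AlgSp.RepWith @Etale qP :=
    MorphismProperty.of_isPullback (P := AlgSp.RepWith @Etale) rightSq.flip haVe
  have hqPs : AlgSp.RepWith @Surjective qP :=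
    MorphismProperty.of_isPullback (P := AlgSp.RepWith @Surjective) rightSq.flip haVs
  haveI := Groth.Agent.R2.H59.AffDesc.isLocallySurjective_of_repWith_etale_surjective qP hqPe hqPs
  haveI : IsIso c := Groth.Agent.R2.H44.Descent.isIso_of_isPullback leftSq
  exact IsPullback.of_iso_pullback ⟨hnorm.1⟩ (asIso c) hc1 hc2

end Groth.Agent.S10376
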