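import Groth.Statements.S10379
import Mathlib
import Groth.Agent.R2.H46ExistVC
import Groth.Agent.S9874
import Groth.Agent.S10175

set_option autoImplicit false
set_option linter.style.haveILetI false
universe u
open CategoryTheory CategoryTheory.Limits AlgebraicGeometry Topology TopologicalSpace
open AlgSp

namespace Groth.Agent.S10379

/-- Let S be a scheme, X and Y algebraic spaces over S with X decent, and f : X ⟶ Y a quasi-compact
morphism. If f is universally closed, then the valuative criterion's existence part holds for f.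
(The published statement is the equivalence of the two conditions; the converse implication holds
for every quasi-compact f and is not part of this row.) -/
theorem result {S : Scheme.{u}} {X Y : AlgSp.Space S} (f : X ⟶ Y)
    (hq : AlgSp.IsQuasiCompactMor f.hom) (hX : AlgSp.IsDecent X.obj) (hc : AlgSp.IsUnivClosedMor f.hom) :
    AlgSp.ExistVC f.hom := by
  intro sq
  have hpb := IsPullback.of_hasPullback f.hom sq.bot
  have hZ : AlgSp.IsAlgSpace (pullback f.hom sq.bot) :=
    Groth.Agent.S9874.isAlgSpace_of_isPullback Y.property.diag X.property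
      (AlgSp.IsAlgSpace.yon_obj sq.ptA) hpb
  have hcl : IsClosedMap (AlgSp.Points.map (pullback.snd f.hom sq.bot)) :=
    hc (AlgSp.IsAlgSpace.yon_obj sq.ptA) sq.bot _ _ hpb
  refine Groth.Agent.R2.H46.ExistVC.hasLiftExt_of_isClosedMap f.hom sq _ hZ _ _ hpb hcl ?_
  -- every point of the base change has a quasi-compact representative
  intro x
  obtain ⟨p, hp1, -, hp3⟩ := hX (AlgSp.Points.map (pullback.fst f.hom sq.bot) x)
  have hrep : AlgSp.Representable sq.bot := Y.property.representable_from_yon sq.bot
  obtain ⟨W, w, pr', sqW⟩ := hrep (p.toHom ≫ f.hom)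
  obtain ⟨b, hb1, hb2⟩ : ∃ b : (AlgSp.yon S).obj W ⟶ pullback f.hom sq.bot,
      b ≫ pullback.fst f.hom sq.bot = (AlgSp.yon S).map w ≫ p.toHom ∧
      b ≫ pullback.snd f.hom sq.bot = pr' :=
    ⟨hpb.lift ((AlgSp.yon S).map w ≫ p.toHom) pr' (by rw [Category.assoc]; exact sqW.w.symm),
      hpb.lift_fst _ _ _, hpb.lift_snd _ _ _⟩
  have sqb : IsPullback b ((AlgSp.yon S).map w) (pullback.fst f.hom sq.bot) p.toHom :=
    IsPullback.of_right (by rw [hb2]; exact sqW) hb1 hpb.flip
  have hbqc : AlgSp.RepWith @QuasiCompact b :=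
    MorphismProperty.of_isPullback (P := AlgSp.RepWith @QuasiCompact) sqb.flip hp3
  obtain ⟨pt, hpt1, -⟩ := Groth.Agent.S10175.exists_point_of_isPullback sqb x
    (AlgSp.Points.ofScheme p.pt (IsLocalRing.closedPoint p.K)) (by
      rw [← AlgSp.Points.ofPt_eq_map_ofScheme, AlgSp.Points.ofPt_toHom, hp1])
  obtain ⟨t, rfl⟩ := (AlgSp.Points.schemeHomeo W).surjective pt
  refine ⟨AlgSp.FieldPt.ofPt b t, ?_, ?_⟩
  · change AlgSp.Points.ofPt b t = x
    rw [AlgSp.Points.ofPt_eq_map_ofScheme]
    exact hpt1
  · rw [AlgSp.FieldPt.toHom_ofPt]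
    exact (AlgSp.RepWith @QuasiCompact).comp_mem _ _
      ((AlgSp.repWith_yon_map_iff _ _).2
        (inferInstance : QuasiCompact (W.left.fromSpecResidueField t))) hbqc

end Groth.Agent.S10379
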