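import Groth.Statements.S10386
import Mathlib
import Groth.Agent.S10351

set_option autoImplicit false
universe u
open CategoryTheory CategoryTheory.Limits AlgebraicGeometry Topology TopologicalSpace
open AlgSp

namespace Groth.Agent.S10386

open CategoryTheory.Limits Opposite MorphismProperty

/-- the inclusion of the spectrum of the residue field of a point, as a morphism over `S`. -/
noncomputable abbrev ptHom {S : Scheme.{u}} (T : Over S) (t : ↥T.left) :
    Over.mk (T.left.fromSpecResidueField t ≫ T.hom) ⟶ T :=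
  Over.homMk (T.left.fromSpecResidueField t) rfl

/-- a sheaf with a morphism to a scheme all of whose fibres over points of the scheme are decent is
decent. -/
lemma isDecent_of_fibres {S : Scheme.{u}} {T : Over S} {F' : AlgSp.Sp S}
    (snd : F' ⟶ (AlgSp.yon S).obj T)
    (h : ∀ t : ↥T.left, AlgSp.IsDecent (pullback snd ((AlgSp.yon S).map (ptHom T t)))) :
    AlgSp.IsDecent F' := by
  intro x
  obtain ⟨t, ht⟩ : ∃ t, t = AlgSp.Points.toScheme T (AlgSp.Points.map snd x) := ⟨_, rfl⟩
  have sq' : IsPullback (pullback.fst snd ((AlgSp.yon S).map (ptHom T t)))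
      (pullback.snd snd ((AlgSp.yon S).map (ptHom T t))) snd ((AlgSp.yon S).map (ptHom T t)) :=
    IsPullback.of_hasPullback _ _
  have hP : AlgSp.IsDecent (pullback snd ((AlgSp.yon S).map (ptHom T t))) := h t
  -- the point of the fibre
  let z₀ : ↥(Spec (T.left.residueField t)) := IsLocalRing.closedPoint (T.left.residueField t)
  have e : AlgSp.Points.map snd x =
      AlgSp.Points.map ((AlgSp.yon S).map (ptHom T t)) (AlgSp.Points.ofScheme _ z₀) := by
    have h1 := AlgSp.Points.ofScheme_toScheme T (AlgSp.Points.map snd x)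
    have h2 := AlgSp.Points.ofScheme_toScheme T
      (AlgSp.Points.map ((AlgSp.yon S).map (ptHom T t)) (AlgSp.Points.ofScheme _ z₀))
    rw [← h1, ← h2, ← ht]
    congr 1
    rw [← AlgSp.Points.ofPt_eq_map_ofScheme, AlgSp.Points.toScheme_ofPt]
    exact (Scheme.fromSpecResidueField_apply _ _).symm
  obtain ⟨x', hx', -⟩ := Groth.Agent.S10175.exists_point_of_isPullback sq' x _ e
  obtain ⟨p, hp, hpm, hpq⟩ := hP x'
  have hmono : Mono (T.left.fromSpecResidueField t) := inferInstance
  have hι : Mono (ptHom T t) := @Over.mono_of_mono_left _ _ _ _ _ _ hmono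
  have hyι : Mono ((AlgSp.yon S).map (ptHom T t)) := (AlgSp.yon S).map_mono _
  have hfst : Mono (pullback.fst snd ((AlgSp.yon S).map (ptHom T t))) := pullback.fst_of_mono
  refine ⟨p.map (pullback.fst snd ((AlgSp.yon S).map (ptHom T t))), ?_, ?_, ?_⟩
  · rw [← AlgSp.Points.map_mk, hp, hx']
  · rw [AlgSp.FieldPt.toHom_map]
    exact @mono_comp _ _ _ _ _ _ hpm _ hfst
  · rw [AlgSp.FieldPt.toHom_map]
    refine MorphismProperty.comp_mem _ _ _ hpq ?_
    refine MorphismProperty.of_isPullback (P := AlgSp.RepWith @QuasiCompact) sq'.flip ?_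
    refine (AlgSp.repWith_yon_map_iff _ _).2 ?_
    change QuasiCompact (T.left.fromSpecResidueField t)
    have : Finite ↥(Spec (T.left.residueField t)) := inferInstance
    exact Groth.Agent.S10351.quasiCompact_of_finite _

/-- (3) ⇒ (1): let S be a scheme, X and Y algebraic spaces over S, and f : X ⟶ Y a morphism such that Z
×_Y X is decent for every affine scheme Z and every Z ⟶ Y. Then f is decent, i.e. T ×_Y X is decent
for every scheme T over Y. -/
theorem result {S : Scheme.{u}} {X Y : AlgSp.Space S} (f : X ⟶ Y)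
    (h : ∀ (Z : Over S) (g : (AlgSp.yon S).obj Z ⟶ Y.obj) (P : AlgSp.Sp S) (fst : P ⟶ X.obj)
      (snd : P ⟶ (AlgSp.yon S).obj Z), IsAffine Z.left → IsPullback fst snd f.hom g → AlgSp.IsDecent P) :
    AlgSp.IsDecentMor f.hom := by
  intro T F' g fst snd sq
  apply isDecent_of_fibres snd
  intro t
  refine h _ ((AlgSp.yon S).map (ptHom T t) ≫ g) _ (pullback.fst _ _ ≫ fst) (pullback.snd _ _) ?_ ?_
  · change IsAffine (Spec (T.left.residueField t))
    infer_instance
  · exact (IsPullback.of_hasPullback _ _).paste_horiz sq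

end Groth.Agent.S10386
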