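import Groth.Statements.S10388
import Mathlib
import Groth.Agent.R2.H46ExistVC
import Groth.Agent.S9874

set_option autoImplicit false
set_option linter.style.haveILetI false
universe u
open CategoryTheory CategoryTheory.Limits AlgebraicGeometry Topology TopologicalSpace
open AlgSp

namespace Groth.Agent.S10388

/-- Let S be a scheme, X and Y algebraic spaces over S, and f : X ⟶ Y a quasi-compact decent morphism.
If f is universally closed, then the valuative criterion's existence part holds for f. (The
published statement is the equivalence of the two conditions; the converse implication holds for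
every quasi-compact f and is not part of this row.) -/
theorem result {S : Scheme.{u}} {X Y : AlgSp.Space S} (f : X ⟶ Y)
    (hq : AlgSp.IsQuasiCompactMor f.hom) (hd : AlgSp.IsDecentMor f.hom) (hc : AlgSp.IsUnivClosedMor f.hom) :
    AlgSp.ExistVC f.hom := by
  intro sq
  have hpb := IsPullback.of_hasPullback f.hom sq.bot
  have hZ : AlgSp.IsAlgSpace (pullback f.hom sq.bot) :=
    Groth.Agent.S9874.isAlgSpace_of_isPullback Y.property.diag X.property
      (AlgSp.IsAlgSpace.yon_obj sq.ptA) hpb
  have hcl : IsClosedMap (AlgSp.Points.map (pullback.snd f.hom sq.bot)) :=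
    hc (AlgSp.IsAlgSpace.yon_obj sq.ptA) sq.bot _ _ hpb
  have hdec : AlgSp.IsDecent (pullback f.hom sq.bot) := hd sq.bot _ _ hpb
  exact Groth.Agent.R2.H46.ExistVC.hasLiftExt_of_isClosedMap f.hom sq _ hZ _ _ hpb hcl
    (fun x => by
      obtain ⟨q, h1, -, h3⟩ := hdec x
      exact ⟨q, h1, h3⟩)

end Groth.Agent.S10388
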