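import Groth.Statements.S10391
import Mathlib
import Groth.Agent.R2.H46LftField
import Groth.Agent.S10338

set_option autoImplicit false
set_option linter.style.haveILetI false
universe u
open CategoryTheory CategoryTheory.Limits AlgebraicGeometry Topology TopologicalSpace
open AlgSp

namespace Groth.Agent.S10391

open Groth.Agent.R2.H46.LftField

/-- Let k be a field, X an algebraic space over k which is locally of finite type, and x ∈ |X|. The
conditions (2) x is closed in |X| and has no proper generization, (3) x is an isolated point of |X|,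
(4) dim_x(X) = 0 are equivalent; if X is decent they are also equivalent to (1) dim_x(|X|) = 0. (The
equivalence with quasi-finiteness of X → Spec k at x is not part of this row.) -/
theorem result (k : Type u) [Field k] (X : AlgSp.Space (Spec (CommRingCat.of k)))
    (p : X.obj ⟶ (AlgSp.yon (Spec (CommRingCat.of k))).obj (Over.mk (𝟙 _))) (hp : AlgSp.LocP @LocallyOfFiniteType p) (x : AlgSp.Points X.obj) :
    (IsOpen ({x} : Set (AlgSp.Points X.obj)) ↔
        (IsClosed ({x} : Set (AlgSp.Points X.obj)) ∧ ∀ x' : AlgSp.Points X.obj, x' ⤳ x → x' = x)) ∧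
      (IsOpen ({x} : Set (AlgSp.Points X.obj)) ↔ AlgSp.HasAt (fun U u => FlatMor.localDim ↥U u = 0) X.obj x) ∧
      (AlgSp.IsDecent X.obj →
        (FlatMor.localDim (AlgSp.Points X.obj) x = 0 ↔ IsOpen ({x} : Set (AlgSp.Points X.obj)))) := by
  -- every etale chart is Jacobson and locally Noetherian
  have hch : ∀ (U : Over (Spec (CommRingCat.of k)))
      (a : (AlgSp.yon (Spec (CommRingCat.of k))).obj U ⟶ X.obj), AlgSp.RepWith @Etale a →
      JacobsonSpace ↥U.left ∧ IsLocallyNoetherian U.left := by
    intro U a ha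
    obtain ⟨φ, hφ⟩ := (AlgSp.yon (Spec (CommRingCat.of k))).map_surjective (a ≫ p)
    have comm : a ≫ p = (AlgSp.yon (Spec (CommRingCat.of k))).map φ ≫ 𝟙 _ := by
      rw [hφ, Category.comp_id]
    haveI : LocallyOfFiniteType φ.left := hp a (𝟙 _) φ ha (AlgSp.repWith_id _ _) comm
    haveI : JacobsonSpace ↥(Over.mk (𝟙 (Spec (CommRingCat.of k)))).left :=
      inferInstanceAs (JacobsonSpace ↥(Spec (CommRingCat.of k)))
    haveI : IsLocallyNoetherian (Over.mk (𝟙 (Spec (CommRingCat.of k)))).left :=
      inferInstanceAs (IsLocallyNoetherian (Spec (CommRingCat.of k)))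
    exact ⟨LocallyOfFiniteType.jacobsonSpace φ.left, LocallyOfFiniteType.isLocallyNoetherian φ.left⟩
  obtain ⟨U, a, hae, has⟩ := X.property.atlas
  obtain ⟨u, hu⟩ := Groth.Agent.S10177.surjective_ofPt a has x
  haveI := (hch U a hae).1
  haveI := (hch U a hae).2
  -- locally closed without proper generizations implies open
  have key : IsLocallyClosed ({x} : Set (AlgSp.Points X.obj)) →
      (∀ x' : AlgSp.Points X.obj, x' ⤳ x → x' = x) → IsOpen ({x} : Set (AlgSp.Points X.obj)) := by
    intro hlc hg
    subst hu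
    have h1 := isOpen_singleton_of_isLocallyClosed a hae u hlc hg
    have h2 := Groth.Agent.S10176.isOpenMap_ofPt a hae _ h1
    rwa [Set.image_singleton] at h2
  refine ⟨⟨fun h => ⟨isClosed_singleton_of_isOpen a hae has x h,
      fun x' hx' => hx'.mem_open h rfl⟩, fun h => key h.1.isLocallyClosed h.2⟩, ⟨?_, ?_⟩, ?_⟩
  · intro h
    refine ⟨U, a, u, hae, hu, localDim_eq_zero_of_isOpen_singleton u ?_⟩
    exact isOpen_singleton_chart_of_isOpen a hae u (by rw [hu]; exact h)
  · rintro ⟨U', a', u', ha', hu', hdim⟩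
    haveI := (hch U' a' ha').1
    haveI := (hch U' a' ha').2
    obtain ⟨V, hu'V, hV⟩ := exists_open_of_localDim_eq_zero u' hdim
    obtain ⟨hc, hg⟩ := forall_eq_of_krullDim_le_zero u' V hu'V hV.le
    have h1 := isOpen_singleton_of_isLocallyNoetherian U'.left V V.2 u' hu'V hc hg
    have h2 := Groth.Agent.S10176.isOpenMap_ofPt a' ha' _ h1
    rwa [Set.image_singleton, hu'] at h2
  · intro hd
    haveI : T0Space (AlgSp.Points X.obj) := Groth.Agent.S10338.result X hd
    refine ⟨fun hdim => ?_, fun h => localDim_eq_zero_of_isOpen_singleton x h⟩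
    obtain ⟨V, hxV, hV⟩ := exists_open_of_localDim_eq_zero x hdim
    obtain ⟨hc, hg⟩ := forall_eq_of_krullDim_le_zero x V hxV hV.le
    exact key (isLocallyClosed_singleton_of_forall x V hxV hc) hg

end Groth.Agent.S10391
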