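import Groth.Statements.S10392
import Mathlib
import Groth.Agent.R2.H46LftField
import Groth.Agent.R2.H46FiniteSpec
import Groth.Agent.S10338

set_option autoImplicit false
set_option linter.style.haveILetI false
universe u
open CategoryTheory CategoryTheory.Limits AlgebraicGeometry Topology TopologicalSpace
open AlgSp

namespace Groth.Agent.S10392

open Groth.Agent.R2.H46.LftField

/-- Let k be a field and X a nonempty algebraic space over k which is locally of finite type. Then (2)
|X| is discrete if and only if (4) dim X = 0, and these imply (3) dim |X| = 0; if X is decent then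
(3) implies (2) and (1) |X| finite implies (4). (The published statement asserts (2) ⇔ (3) ⇔ (4) for
every such X and does not exclude the empty space; for the quotient of the affine line over a field
of characteristic zero by the translation action of the integers, |X| is an infinite set with the
indiscrete topology, so (3) holds while (2) and (4) fail, and for the empty space (2) holds while
dim X = ⊥. The equivalence with local quasi-finiteness of X → Spec k is not part of this row.) -/
theorem result (k : Type u) [Field k] (X : AlgSp.Space (Spec (CommRingCat.of k)))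
    (p : X.obj ⟶ (AlgSp.yon (Spec (CommRingCat.of k))).obj (Over.mk (𝟙 _))) (hp : AlgSp.LocP @LocallyOfFiniteType p) [Nonempty (AlgSp.Points X.obj)] :
    (DiscreteTopology (AlgSp.Points X.obj) ↔ AlgSp.dim X.obj = 0) ∧
      (DiscreteTopology (AlgSp.Points X.obj) → topologicalKrullDim (AlgSp.Points X.obj) = 0) ∧
      (AlgSp.IsDecent X.obj → topologicalKrullDim (AlgSp.Points X.obj) = 0 → DiscreteTopology (AlgSp.Points X.obj)) ∧
      (AlgSp.IsDecent X.obj → Finite (AlgSp.Points X.obj) → AlgSp.dim X.obj = 0) := by
  -- every etale chart is Jacobson and locally Noetherian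
  have hch : ∀ (U : Over (Spec (CommRingCat.of k)))
      (a : (AlgSp.yon (Spec (CommRingCat.of k))).obj U ⟶ X.obj), AlgSp.RepWith @Etale a →
      JacobsonSpace ↥U.left ∧ IsLocallyNoetherian U.left := by
    intro U a ha
    obtain ⟨φ, hφ⟩ := (AlgSp.yon (Spec (CommRingCat.of k))).map_surjective (a ≫ p)
    have comm : a ≫ p = (AlgSp.yon (Spec (CommRingCat.of k))).map φ ≫ 𝟙 _ := by
      rw [hφ, Category.comp_id]
    haveI : LocallyOfFiniteType φ.left := hp a (𝟙 _) φ ha (AlgSp.repWith_id _ _) comm
    haveI : JacobsonSpace ↥(Over.mk (𝟙 (Spec (CommRingCat.of k)))).left :=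
      inferInstanceAs (JacobsonSpace ↥(Spec (CommRingCat.of k)))
    haveI : IsLocallyNoetherian (Over.mk (𝟙 (Spec (CommRingCat.of k)))).left :=
      inferInstanceAs (IsLocallyNoetherian (Spec (CommRingCat.of k)))
    exact ⟨LocallyOfFiniteType.jacobsonSpace φ.left, LocallyOfFiniteType.isLocallyNoetherian φ.left⟩
  obtain ⟨U, a, hae, has⟩ := X.property.atlas
  haveI := (hch U a hae).1
  haveI := (hch U a hae).2
  -- discrete implies `dim X = 0`
  have h24 : DiscreteTopology (AlgSp.Points X.obj) → AlgSp.dim X.obj = 0 := by
    intro hdisc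
    apply le_antisymm
    · unfold AlgSp.dim
      refine iSup_le fun U' => iSup_le fun a' => iSup_le fun ha' => ?_
      haveI := (hch U' a' ha').1
      haveI := (hch U' a' ha').2
      haveI : DiscreteTopology ↥U'.left := discreteTopology_iff_isOpen_singleton.2 fun u' =>
        isOpen_singleton_chart_of_isOpen a' ha' u' (isOpen_discrete _)
      exact topologicalKrullDim_zero_of_discreteTopology _
    · unfold AlgSp.dim
      refine le_trans ?_ (le_iSup₂_of_le U a (le_iSup_of_le hae le_rfl))
      obtain ⟨x⟩ := (inferInstance : Nonempty (AlgSp.Points X.obj))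
      obtain ⟨u, -⟩ := Groth.Agent.S10177.surjective_ofPt a has x
      haveI : Nonempty (IrreducibleCloseds ↥U.left) :=
        ⟨⟨closure {u}, isIrreducible_singleton.closure, isClosed_closure⟩⟩
      exact Order.krullDim_nonneg
  -- locally closed without proper generizations implies open
  have key : ∀ x : AlgSp.Points X.obj, IsLocallyClosed ({x} : Set (AlgSp.Points X.obj)) →
      (∀ x' : AlgSp.Points X.obj, x' ⤳ x → x' = x) → IsOpen ({x} : Set (AlgSp.Points X.obj)) := by
    intro x hlc hg
    obtain ⟨u, hu⟩ := Groth.Agent.S10177.surjective_ofPt a has x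
    subst hu
    have h1 := isOpen_singleton_of_isLocallyClosed a hae u hlc hg
    have h2 := Groth.Agent.S10176.isOpenMap_ofPt a hae _ h1
    rwa [Set.image_singleton] at h2
  refine ⟨⟨h24, fun hdim => ?_⟩, fun hdisc => ?_, fun hd hdim => ?_, fun hd hfin => h24 ?_⟩
  · -- `dim X = 0` implies discrete
    refine discreteTopology_iff_isOpen_singleton.2 fun x => ?_
    obtain ⟨u, hu⟩ := Groth.Agent.S10177.surjective_ofPt a has x
    have hU : topologicalKrullDim ↥U.left ≤ 0 := by
      rw [← hdim]
      unfold AlgSp.dim
      exact le_iSup₂_of_le U a (le_iSup_of_le hae le_rfl)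
    obtain ⟨hc, hg⟩ := forall_eq_of_krullDim_le_zero u ⊤ trivial
      ((topologicalKrullDim_subspace_le _ _).trans hU)
    have h1 := isOpen_singleton_of_isLocallyNoetherian U.left (⊤ : Opens ↥U.left) isOpen_univ u
      trivial hc hg
    have h2 := Groth.Agent.S10176.isOpenMap_ofPt a hae _ h1
    rwa [Set.image_singleton, hu] at h2
  · -- discrete implies `dim |X| = 0`
    apply le_antisymm (topologicalKrullDim_zero_of_discreteTopology _)
    obtain ⟨x⟩ := (inferInstance : Nonempty (AlgSp.Points X.obj))
    haveI : Nonempty (IrreducibleCloseds (AlgSp.Points X.obj)) :=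
      ⟨⟨closure {x}, isIrreducible_singleton.closure, isClosed_closure⟩⟩
    exact Order.krullDim_nonneg
  · -- decent and `dim |X| = 0` implies discrete
    haveI : T0Space (AlgSp.Points X.obj) := Groth.Agent.S10338.result X hd
    refine discreteTopology_iff_isOpen_singleton.2 fun x => ?_
    obtain ⟨hc, hg⟩ := forall_eq_of_krullDim_le_zero x ⊤ trivial
      ((topologicalKrullDim_subspace_le _ _).trans hdim.le)
    exact key x (isLocallyClosed_singleton_of_forall x ⊤ trivial hc) hg
  · -- decent and finite implies discrete
    refine discreteTopology_iff_isOpen_singleton.2 fun x => ?_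
    obtain ⟨V, c, v, hV, hc, hv⟩ := Groth.Agent.R2.H46.FiniteSpec.exists_affine_chart X x
    haveI := (hch V c hc).1
    have hfinV : Finite ↥V.left := by
      rw [← Set.finite_univ_iff]
      have : (Set.univ : Set ↥V.left) = ⋃ x' : AlgSp.Points X.obj, AlgSp.Points.ofPt c ⁻¹' {x'} := by
        ext w
        simp
      rw [this]
      exact Set.finite_iUnion fun x' =>
        Groth.Agent.R2.H46.FiniteSpec.finite_fibre_of_isDecent X hd x' V c hV hc
    haveI : DiscreteTopology ↥V.left := discreteTopology_of_finite_of_jacobsonSpace
    have h2 := Groth.Agent.S10176.isOpenMap_ofPt c hc _ (isOpen_discrete ({v} : Set ↥V.left))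
    rwa [Set.image_singleton, hv] at h2

end Groth.Agent.S10392
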