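import Mathlib
import Groth.Statements.S10399
import Groth.Agent.R2.H45CodimZero
import Groth.Agent.R2.H45RelDim
import Groth.Agent.R2.H45HasAtMor
import Groth.Agent.R2.H45HasAt

set_option autoImplicit false
set_option linter.style.haveILetI false
universe u
open CategoryTheory CategoryTheory.Limits AlgebraicGeometry Topology TopologicalSpace
open AlgSp

namespace Groth.Agent.S10399
open Groth.Agent.R2.H45.HasAtMor Groth.Agent.R2.H45.HasAt Groth.Agent.R2.H45.RelDim

/-- Let f : X ⟶ Y be a morphism locally of finite type of algebraic spaces over a scheme S and y a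
codimension 0 point of Y. The following are equivalent: (1) every point of |X| over y has
codimension 0 on X; (2) f is quasi-finite at all points over y; (3) f is quasi-finite at all
codimension 0 points of X over y. Stated as (1) ⇔ (2) together with (3) ⇒ (1). -/
theorem result {S : Scheme.{u}} {X Y : AlgSp.Space S} (f : X ⟶ Y)
    (hf : AlgSp.LocP @LocallyOfFiniteType f.hom) (y : AlgSp.Points Y.obj) (hy : AlgSp.HasAt (fun U u => ringKrullDim ↥(U.presheaf.stalk u) = 0) Y.obj y) :
    ((∀ x : AlgSp.Points X.obj, AlgSp.Points.map f.hom x = y → AlgSp.HasAt (fun U u => ringKrullDim ↥(U.presheaf.stalk u) = 0) X.obj x) ↔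
        (∀ x : AlgSp.Points X.obj, AlgSp.Points.map f.hom x = y → AlgSp.HasAtMor (fun U _ h u => ∃ W : U.Opens, u ∈ W ∧ LocallyQuasiFinite (W.ι ≫ h) ∧ LocallyOfFiniteType (W.ι ≫ h)) f.hom x)) ∧
      ((∀ x : AlgSp.Points X.obj, AlgSp.Points.map f.hom x = y → AlgSp.HasAt (fun U u => ringKrullDim ↥(U.presheaf.stalk u) = 0) X.obj x → AlgSp.HasAtMor (fun U _ h u => ∃ W : U.Opens, u ∈ W ∧ LocallyQuasiFinite (W.ι ≫ h) ∧ LocallyOfFiniteType (W.ι ≫ h)) f.hom x) →
        ∀ x : AlgSp.Points X.obj, AlgSp.Points.map f.hom x = y → AlgSp.HasAt (fun U u => ringKrullDim ↥(U.presheaf.stalk u) = 0) X.obj x) := by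
  have hQ := etInv_ringKrullDim_stalk.{u} (fun d => d = 0)
  -- the image of a chart point
  have himg : ∀ {U V : Over S} (a : (AlgSp.yon S).obj U ⟶ X.obj) (b : (AlgSp.yon S).obj V ⟶ Y.obj)
      (h : U ⟶ V), a ≫ f.hom = (AlgSp.yon S).map h ≫ b → ∀ u : ↥U.left,
      AlgSp.Points.map f.hom (AlgSp.Points.ofPt a u) = AlgSp.Points.ofPt b (h.left u) := by
    intro U V a b h comm u
    rw [AlgSp.Points.map_ofPt, comm, Groth.Agent.S10176.ofPt_map_comp]
  -- quasi-finiteness at a chart point
  have hqf : ∀ {U V : Over S} (a : (AlgSp.yon S).obj U ⟶ X.obj) (b : (AlgSp.yon S).obj V ⟶ Y.obj)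
      (h : U ⟶ V), AlgSp.RepWith @Etale a → AlgSp.RepWith @Etale b →
      a ≫ f.hom = (AlgSp.yon S).map h ≫ b → ∀ u : ↥U.left,
      (AlgSp.HasAtMor Qlqf f.hom (AlgSp.Points.ofPt a u) ↔ FlatMor.fibreDimAt h.left u ≤ 0) := by
    intro U V a b h ha hb comm u
    rw [hasAtMor_qlqf_iff f.hom hf]
    exact hasAtMor_iff_of_diagram (etSqInv_fibreDimAt (fun d => d ≤ 0)) f.hom a b h ha hb comm u
  refine ⟨⟨fun H x hx => ?_, fun H x hx => ?_⟩, fun H x hx => ?_⟩
  · obtain ⟨U, V, a, b, h, u, ha, hb, comm, rfl⟩ := exists_diagram X.property Y.property f.hom x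
    haveI : LocallyOfFiniteType h.left := hf a b h ha hb comm
    have hv : ringKrullDim ↥(V.left.presheaf.stalk (h.left u)) = 0 := by
      have := himg a b h comm u
      rw [hx] at this
      rw [this] at hy
      exact (hasAt_iff_of_chart hQ b hb _).1 hy
    refine (hqf a b h ha hb comm u).2 ?_
    refine Groth.Agent.R2.H45.CodimZero.fibreDimAt_le_zero_of_forall_dim_zero h.left _ hv
      (fun u' hu' => ?_) u rfl
    refine (hasAt_iff_of_chart hQ a ha u').1 (H _ ?_)
    rw [himg a b h comm u', hu', ← himg a b h comm u, hx]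
  · obtain ⟨U, V, a, b, h, u, ha, hb, comm, rfl⟩ := exists_diagram X.property Y.property f.hom x
    haveI : LocallyOfFiniteType h.left := hf a b h ha hb comm
    have hv : ringKrullDim ↥(V.left.presheaf.stalk (h.left u)) = 0 := by
      have := himg a b h comm u
      rw [hx] at this
      rw [this] at hy
      exact (hasAt_iff_of_chart hQ b hb _).1 hy
    refine (hasAt_iff_of_chart hQ a ha u).2 ?_
    exact Groth.Agent.R2.H45.CodimZero.dim_zero_of_fibreDimAt_le_zero h.left u hv
      ((hqf a b h ha hb comm u).1 (H _ hx))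
  · obtain ⟨U, V, a, b, h, u, ha, hb, comm, rfl⟩ := exists_diagram X.property Y.property f.hom x
    haveI : LocallyOfFiniteType h.left := hf a b h ha hb comm
    have hv : ringKrullDim ↥(V.left.presheaf.stalk (h.left u)) = 0 := by
      have := himg a b h comm u
      rw [hx] at this
      rw [this] at hy
      exact (hasAt_iff_of_chart hQ b hb _).1 hy
    refine (hasAt_iff_of_chart hQ a ha u).2 ?_
    refine Groth.Agent.R2.H45.CodimZero.dim_zero_of_forall h.left _ hv (fun u' hu' hu0 => ?_) u rfl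
    refine (hqf a b h ha hb comm u').1 (H _ ?_ ((hasAt_iff_of_chart hQ a ha u').2 hu0))
    rw [himg a b h comm u', hu', ← himg a b h comm u, hx]

end Groth.Agent.S10399
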