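import Groth.Statements.S10402
import Mathlib
import Groth.Agent.R2.H46Jacobson

set_option autoImplicit false
set_option linter.style.haveILetI false
universe u
open CategoryTheory CategoryTheory.Limits AlgebraicGeometry Topology TopologicalSpace
open AlgSp

namespace Groth.Agent.S10402

/-- Let S be a scheme and X a Jacobson algebraic space over S. Fix a finite type point x of |X|, and let
g : W ⟶ X be locally of finite type, where W is a scheme. If x lies in the image of |W| → |X|, then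
some closed point of W is mapped to x. -/
theorem result {S : Scheme.{u}} (X : AlgSp.Space S) (hX : AlgSp.EtaleLocally (fun U => JacobsonSpace ↥U) X.obj)
    (x : AlgSp.Points X.obj) (hx : AlgSp.HasAt (fun U u => IsClosed ({u} : Set ↥U)) X.obj x) {W : Over S} (g : (AlgSp.yon S).obj W ⟶ X.obj)
    (hg : AlgSp.LocP @LocallyOfFiniteType g) (hxW : x ∈ Set.range (AlgSp.Points.ofPt g)) :
    ∃ w : ↥W.left, IsClosed ({w} : Set ↥W.left) ∧ AlgSp.Points.ofPt g w = x := by
  obtain ⟨U₁, a₁, u₁, ha₁, hu₁, hcl⟩ := hx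
  obtain ⟨U₀, a₀, ha₀e, ha₀s, hJ⟩ := hX
  haveI : JacobsonSpace ↥U₀.left := hJ
  obtain ⟨w₀, hw₀⟩ := hxW
  obtain ⟨u₀, hu₀⟩ := Groth.Agent.S10177.surjective_ofPt a₀ ha₀s x
  have hu₀cl : IsClosed ({u₀} : Set ↥U₀.left) :=
    Groth.Agent.R2.H46.Jacobson.isClosed_singleton_of_jacobson a₁ ha₁ a₀ ha₀e u₁ u₀ hcl
      (hu₁.trans hu₀.symm)
  -- the fibre product `P = W ×_X U₀`
  obtain ⟨P, q, p', sq⟩ := ha₀e.1 g
  obtain ⟨p, rfl⟩ := (AlgSp.yon S).map_surjective p'
  -- sq : IsPullback (yon p) (yon q) a₀ g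
  haveI : Etale q.left := ha₀e.2 g _ q sq
  haveI hqs : Surjective q.left := ha₀s.2 g _ q sq
  have hqe : AlgSp.RepWith @Etale ((AlgSp.yon S).map q) :=
    (AlgSp.repWith_yon_map_iff _ _).2 inferInstance
  haveI : LocallyOfFiniteType p.left :=
    hg ((AlgSp.yon S).map q) a₀ p hqe ha₀e sq.w.symm
  haveI : JacobsonSpace ↥P.left := LocallyOfFiniteType.jacobsonSpace p.left
  obtain ⟨ρ₀, hρ₀p, -⟩ := Groth.Agent.S10176.exists_point_of_isPullback_yon sq u₀ w₀
    (hu₀.trans hw₀.symm)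
  have hZc : IsClosed (p.left ⁻¹' {u₀}) := hu₀cl.preimage p.left.continuous
  obtain ⟨ρ, hρZ, hρcl⟩ := nonempty_inter_closedPoints (Z := p.left ⁻¹' {u₀}) ⟨ρ₀, hρ₀p⟩
    hZc.isLocallyClosed
  have hρcl' : IsClosed ({ρ} : Set ↥P.left) := hρcl
  refine ⟨q.left ρ, ?_, ?_⟩
  · rw [← closure_subset_iff_isClosed]
    intro w₂ hw₂
    have hs : q.left ρ ⤳ w₂ := specializes_iff_mem_closure.2 hw₂
    obtain ⟨ρ₂, rfl⟩ := q.left.surjective w₂
    obtain ⟨ρ', hρ'ρ₂, hρ'⟩ := (Flat.generalizingMap (f := q.left)) hs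
    have hρ'cl : IsClosed ({ρ'} : Set ↥P.left) :=
      Groth.Agent.R2.H46.Jacobson.isClosed_singleton_of_jacobson ((AlgSp.yon S).map q) hqe
        ((AlgSp.yon S).map q) hqe ρ ρ' hρcl' (by
          rw [AlgSp.Points.ofPt_eq_map_ofScheme, AlgSp.Points.ofPt_eq_map_ofScheme]
          have h1 := AlgSp.Points.map_yon_map_apply q ρ
          have h2 := AlgSp.Points.map_yon_map_apply q ρ'
          exact h1.trans ((congrArg _ hρ'.symm).trans h2.symm))
    have h3 : ρ₂ ∈ closure ({ρ'} : Set ↥P.left) := specializes_iff_mem_closure.1 hρ'ρ₂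
    rw [hρ'cl.closure_eq] at h3
    rw [Set.mem_singleton_iff, Set.mem_singleton_iff.1 h3, hρ']
  · rw [← Groth.Agent.S10176.ofPt_map_comp, ← sq.w, Groth.Agent.S10176.ofPt_map_comp]
    rw [show p.left ρ = u₀ from hρZ]
    exact hu₀

end Groth.Agent.S10402
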