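import Groth.Statements.S10403
import Mathlib
import Groth.Agent.R2.H46Jacobson

set_option autoImplicit false
set_option linter.style.haveILetI false
universe u
open CategoryTheory CategoryTheory.Limits AlgebraicGeometry Topology TopologicalSpace
open AlgSp

namespace Groth.Agent.S10403

/-- in a decent Jacobson space, finite type points are closed. -/
lemma isClosed_of_hasAt {S : Scheme.{u}} (X : AlgSp.Space S) (hd : AlgSp.IsDecent X.obj)
    (hX : AlgSp.EtaleLocally (fun U => JacobsonSpace ↥U) X.obj) (x : AlgSp.Points X.obj)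
    (hx : AlgSp.HasAt (fun U u => IsClosed ({u} : Set ↥U)) X.obj x) :
    IsClosed ({x} : Set (AlgSp.Points X.obj)) := by
  obtain ⟨U₁, a₁, u₁, ha₁, hu₁, hcl⟩ := hx
  obtain ⟨U₀, a₀, ha₀e, ha₀s, hJ⟩ := hX
  haveI : JacobsonSpace ↥U₀.left := hJ
  rw [← closure_subset_iff_isClosed]
  intro x' hx'
  have hs : x ⤳ x' := specializes_iff_mem_closure.2 hx'
  obtain ⟨u', hu'⟩ := Groth.Agent.S10177.surjective_ofPt a₀ ha₀s x'
  obtain ⟨p, hp, -, hq⟩ := hd x
  obtain ⟨u, hu, hux⟩ :=
    Groth.Agent.Lib.Helper12.QcPoint.exists_generization x' x hs p hp hq a₀ ha₀e u' hu'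
  have hucl : IsClosed ({u} : Set ↥U₀.left) :=
    Groth.Agent.R2.H46.Jacobson.isClosed_singleton_of_jacobson a₁ ha₁ a₀ ha₀e u₁ u hcl
      (hu₁.trans hux.symm)
  have : u' ∈ closure ({u} : Set ↥U₀.left) := specializes_iff_mem_closure.1 hu
  rw [hucl.closure_eq] at this
  have h2 : u' = u := this
  rw [Set.mem_singleton_iff, ← hu', h2, hux]

/-- For a decent Jacobson algebraic space X over a scheme S, the finite type points of |X| are exactly
the closed points. -/
theorem result {S : Scheme.{u}} (X : AlgSp.Space S) (hd : AlgSp.IsDecent X.obj)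
    (hX : AlgSp.EtaleLocally (fun U => JacobsonSpace ↥U) X.obj) (x : AlgSp.Points X.obj) :
    AlgSp.HasAt (fun U u => IsClosed ({u} : Set ↥U)) X.obj x ↔ IsClosed ({x} : Set (AlgSp.Points X.obj)) := by
  constructor
  · exact isClosed_of_hasAt X hd hX x
  · intro hx
    obtain ⟨U₀, a₀, ha₀e, ha₀s⟩ := X.property.atlas
    obtain ⟨u, hu⟩ := Groth.Agent.S10177.surjective_ofPt a₀ ha₀s x
    exact ⟨U₀, a₀, u, ha₀e, hu,
      Groth.Agent.R2.H25.DecentClosed.isClosed_singleton_of_mem_fibre X hd a₀ ha₀e x hx u hu⟩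

end Groth.Agent.S10403
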