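import Groth.Statements.S10404
import Mathlib
import Groth.Agent.S10403
import Groth.Agent.Lib.Helper12ResidualFactor2

set_option autoImplicit false
set_option linter.style.haveILetI false
universe u
open CategoryTheory CategoryTheory.Limits AlgebraicGeometry Topology TopologicalSpace
open AlgSp

namespace Groth.Agent.S10404

open Groth.Agent.R2.H46.FiniteSpec

/-- in an etale chart of a decent space whose space of points is Jacobson, locally closed points
are closed. -/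
lemma isClosed_singleton_of_isLocallyClosed {S : Scheme.{u}} (X : AlgSp.Space S)
    (hd : AlgSp.IsDecent X.obj) [JacobsonSpace (AlgSp.Points X.obj)] {U : Over S}
    (a : (AlgSp.yon S).obj U ⟶ X.obj) (hae : AlgSp.RepWith @Etale a) (u : ↥U.left)
    (hu : IsLocallyClosed ({u} : Set ↥U.left)) : IsClosed ({u} : Set ↥U.left) := by
  obtain ⟨O, C, hO, hC, hOC⟩ := hu
  have huO : u ∈ O := (hOC ▸ Set.mem_singleton u : u ∈ O ∩ C).1
  have huC : u ∈ C := (hOC ▸ Set.mem_singleton u : u ∈ O ∩ C).2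
  obtain ⟨O', huO', hO'⟩ := Groth.Agent.Lib.Helper12.ResidualFactor.exists_open_of_finite_fibre X
    a hae (AlgSp.Points.ofPt a u) (finite_fibre_of_isDecent X hd _) u rfl
  have hO₁ : IsOpen (O ∩ (O' : Set ↥U.left)) := hO.inter O'.2
  have himg : IsOpen (AlgSp.Points.ofPt a '' (O ∩ (O' : Set ↥U.left))) :=
    Groth.Agent.S10176.isOpenMap_ofPt a hae _ hO₁
  have hEq : ({AlgSp.Points.ofPt a u} : Set (AlgSp.Points X.obj)) =
      AlgSp.Points.ofPt a '' (O ∩ (O' : Set ↥U.left)) ∩ closure {AlgSp.Points.ofPt a u} := by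
    ext x'
    constructor
    · rintro rfl
      exact ⟨⟨u, ⟨huO, huO'⟩, rfl⟩, subset_closure rfl⟩
    · rintro ⟨⟨u'', ⟨hu''O, hu''O'⟩, rfl⟩, hcl⟩
      have hs : AlgSp.Points.ofPt a u ⤳ AlgSp.Points.ofPt a u'' := specializes_iff_mem_closure.2 hcl
      obtain ⟨p, hp, -, hq⟩ := hd (AlgSp.Points.ofPt a u)
      obtain ⟨ũ, hũ, hũx⟩ := Groth.Agent.Lib.Helper12.QcPoint.exists_generization _ _ hs p hp hq
        a hae u'' rfl
      have hũO' : ũ ∈ O' := hũ.mem_open O'.2 hu''O'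
      have hũu : ũ = u := hO' ũ hũO' hũx
      rw [hũu] at hũ
      have h1 : u'' ∈ closure ({u} : Set ↥U.left) := specializes_iff_mem_closure.1 hũ
      have h2 : u'' ∈ C := (hC.closure_subset_iff.2 (Set.singleton_subset_iff.2 huC)) h1
      have h3 : u'' ∈ ({u} : Set ↥U.left) := hOC ▸ (⟨hu''O, h2⟩ : u'' ∈ O ∩ C)
      rw [Set.mem_singleton_iff.1 h3]
      rfl
  have hlc : IsLocallyClosed ({AlgSp.Points.ofPt a u} : Set (AlgSp.Points X.obj)) :=
    ⟨_, _, himg, isClosed_closure, hEq⟩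
  have hx := isClosed_singleton_of_isLocallyClosed_singleton hlc
  exact Groth.Agent.R2.H25.DecentClosed.isClosed_singleton_of_mem_fibre X hd a hae _ hx u rfl

/-- every nonempty locally closed subset of a scheme contains a point which is locally closed. -/
lemma exists_isLocallyClosed_singleton {U : Scheme.{u}} (Z : Set ↥U) (hZ : Z.Nonempty)
    (hlc : IsLocallyClosed Z) : ∃ z ∈ Z, IsLocallyClosed ({z} : Set ↥U) := by
  obtain ⟨O, C, hO, hC, rfl⟩ := hlc
  obtain ⟨z₀, hz₀O, hz₀C⟩ := hZ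
  obtain ⟨W, hW, hz₀W, hWO⟩ : ∃ W : U.Opens, W ∈ U.affineOpens ∧ z₀ ∈ W ∧ W ≤ ⟨O, hO⟩ :=
    TopologicalSpace.Opens.isBasis_iff_nbhd.1 U.isBasis_affineOpens
      (show z₀ ∈ (⟨O, hO⟩ : U.Opens) from hz₀O)
  have hWaff : IsAffineOpen W := hW
  haveI : CompactSpace ↥(W : Set ↥U) := isCompact_iff_compactSpace.1 hWaff.isCompact
  have hCW : IsClosed (Subtype.val ⁻¹' C : Set ↥(W : Set ↥U)) := hC.preimage continuous_subtype_val
  obtain ⟨z, hzC, hzcl⟩ := hCW.exists_closed_singleton ⟨⟨z₀, hz₀W⟩, hz₀C⟩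
  refine ⟨z.1, ⟨hWO z.2, hzC⟩, ?_⟩
  obtain ⟨C', hC', hC'z⟩ := isClosed_induced_iff.1 hzcl
  refine ⟨(W : Set ↥U), C', W.2, hC', ?_⟩
  ext y
  constructor
  · rintro rfl
    refine ⟨z.2, ?_⟩
    have : z ∈ Subtype.val ⁻¹' C' := by rw [hC'z]; rfl
    exact this
  · rintro ⟨hyW, hyC'⟩
    have : (⟨y, hyW⟩ : ↥(W : Set ↥U)) ∈ Subtype.val ⁻¹' C' := hyC'
    rw [hC'z] at this
    exact congrArg Subtype.val this

/-- A decent algebraic space X over a scheme S is Jacobson if and only if the topological space |X| is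
Jacobson. -/
theorem result {S : Scheme.{u}} (X : AlgSp.Space S) (hd : AlgSp.IsDecent X.obj) :
    AlgSp.EtaleLocally (fun U => JacobsonSpace ↥U) X.obj ↔ JacobsonSpace (AlgSp.Points X.obj) := by
  constructor
  · intro hX
    obtain ⟨U₀, a₀, ha₀e, ha₀s, hJ⟩ := id hX
    haveI : JacobsonSpace ↥U₀.left := hJ
    rw [jacobsonSpace_iff_locallyClosed]
    intro Z hZ hlc
    obtain ⟨x₀, hx₀⟩ := hZ
    obtain ⟨u₀, hu₀⟩ := Groth.Agent.S10177.surjective_ofPt a₀ ha₀s x₀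
    have hne : (AlgSp.Points.ofPt a₀ ⁻¹' Z).Nonempty := ⟨u₀, by rw [Set.mem_preimage, hu₀]; exact hx₀⟩
    obtain ⟨u, huZ, hucl⟩ := nonempty_inter_closedPoints hne
      (hlc.preimage (AlgSp.Points.continuous_ofPt a₀))
    exact ⟨AlgSp.Points.ofPt a₀ u, huZ,
      Groth.Agent.S10403.isClosed_of_hasAt X hd hX _ ⟨U₀, a₀, u, ha₀e, rfl, hucl⟩⟩
  · intro hJ
    obtain ⟨U₀, a₀, ha₀e, ha₀s⟩ := X.property.atlas
    refine ⟨U₀, a₀, ha₀e, ha₀s, ?_⟩
    change JacobsonSpace ↥U₀.left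
    rw [jacobsonSpace_iff_locallyClosed]
    intro Z hZ hlc
    obtain ⟨z, hzZ, hzlc⟩ := exists_isLocallyClosed_singleton Z hZ hlc
    exact ⟨z, hzZ, isClosed_singleton_of_isLocallyClosed X hd a₀ ha₀e z hzlc⟩

end Groth.Agent.S10404
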