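import Groth.Statements.S10409
import Mathlib
import Groth.Agent.R2.H25DecentCore

set_option autoImplicit false
set_option linter.style.haveILetI false
universe u
open CategoryTheory CategoryTheory.Limits AlgebraicGeometry Topology TopologicalSpace
open AlgSp

namespace Groth.Agent.S10409

/-- (3) ⇔ (4): for an algebraic space X over a scheme S and x ∈ |X|, there is a monomorphism Spec k ⟶ X
representing x if and only if there is a morphism Spec k' ⟶ X representing x whose
self-fibre-product has etale and quasi-compact projections to Spec k'. -/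
theorem result {S : Scheme.{u}} (X : AlgSp.Space S)
    (x : AlgSp.Points X.obj) :
    (∃ p : AlgSp.FieldPt X.obj, AlgSp.Points.mk p = x ∧ Mono p.toHom) ↔
      ∃ q : AlgSp.FieldPt X.obj, AlgSp.Points.mk q = x ∧
        ∀ (P : AlgSp.Sp S) (fst snd : P ⟶ (AlgSp.yon S).obj q.pt), IsPullback fst snd q.toHom q.toHom →
          AlgSp.RepWith @Etale fst ∧ AlgSp.RepWith @QuasiCompact fst := by
  constructor
  · rintro ⟨p, hp, hm⟩
    refine ⟨p, hp, fun P fst snd sq => ?_⟩
    haveI := hm
    haveI : IsIso fst := IsKernelPair.isIso_of_mono (f := p.toHom) sq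
    exact ⟨MorphismProperty.of_isIso (AlgSp.RepWith @Etale) fst,
      MorphismProperty.of_isIso (AlgSp.RepWith @QuasiCompact) fst⟩
  · rintro ⟨q, hq, H⟩
    obtain ⟨R, s, t', sq⟩ := (X.property.representable_from_yon q.toHom) q.toHom
    obtain ⟨t, rfl⟩ := (AlgSp.yon S).map_surjective t'
    obtain ⟨h1, h2⟩ := H _ _ _ sq
    haveI : Etale t.left := (AlgSp.repWith_yon_map_iff _ _).1 h1
    haveI : QuasiCompact t.left := (AlgSp.repWith_yon_map_iff _ _).1 h2
    haveI : LocallyQuasiFinite t.left := Groth.Agent.S10265.locallyQuasiFinite_of_unramified _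
    haveI : CompactSpace ↥q.pt.left :=
      (inferInstance : CompactSpace ↥(Spec (CommRingCat.of q.K)))
    haveI : CompactSpace ↥R.left := QuasiCompact.compactSpace_of_compactSpace t.left
    obtain ⟨p, hp, hm⟩ := Groth.Agent.R2.H25.DecentCore.exists_mono_of_isPullback q t s sq.flip
    exact ⟨p, hp.trans hq, hm⟩

end Groth.Agent.S10409
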