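import Groth.Statements.S9966
import Groth.Agent.R2.H48RedInduced
import Groth.Agent.R2.H95SpEpi
import Groth.Agent.R2.H43CutOut
import Groth.Agent.S9922
import Groth.Agent.S9928
import Groth.Agent.S10175

set_option autoImplicit false
universe u
open CategoryTheory CategoryTheory.Limits AlgebraicGeometry
open AlgSp

set_option backward.isDefEq.respectTransparency false
set_option linter.style.haveILetI false

namespace Groth.Agent.S9966

variable {S : Scheme.{u}}

/-- a map from a reduced sheaf whose image on points lies in the image of a closed immersion factors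
through the closed immersion. -/
theorem exists_factor_of_reduced {X Y Z : AlgSp.Sp S} (f : X ⟶ Y) (i : Z ⟶ Y)
    (hX : AlgSp.IsReducedSp X) (hi : AlgSp.RepWith @IsClosedImmersion i)
    (hr : Set.range (AlgSp.Points.map f) ⊆ Set.range (AlgSp.Points.map i)) :
    ∃ k : X ⟶ Z, k ≫ i = f := by
  obtain ⟨U, a, hae, has, hU⟩ := hX
  haveI : IsReduced U.left := hU
  obtain ⟨W, w, pr, sq⟩ := hi.1 (a ≫ f)
  haveI : IsClosedImmersion w.left := hi.2 _ _ w sq
  haveI : Surjective w.left := by
    constructor
    intro t
    have h1 : AlgSp.Points.map (a ≫ f) (AlgSp.Points.ofScheme U t) ∈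
        Set.range (AlgSp.Points.map i) := by
      apply hr
      rw [AlgSp.Points.map_comp]
      exact ⟨_, rfl⟩
    obtain ⟨ζ, hζ⟩ := h1
    obtain ⟨p, hp1, -⟩ := Groth.Agent.S10175.exists_point_of_isPullback sq.flip _ _ hζ.symm
    obtain ⟨y, rfl⟩ := (AlgSp.Points.schemeHomeo W).surjective p
    refine ⟨y, ?_⟩
    apply (AlgSp.Points.schemeHomeo U).injective
    rw [← AlgSp.Points.map_yon_map_apply]
    exact hp1
  haveI : IsIso w.left := isIso_of_isClosedImmersion_of_surjective w.left
  haveI : IsIso ((Over.forget S).map w) := inferInstanceAs (IsIso w.left)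
  haveI : IsIso w := isIso_of_reflects_iso w (Over.forget S)
  haveI : Mono i := Groth.Agent.S9928.mono_of_repWith @IsClosedImmersion (fun X Y g hg => by
    haveI : IsClosedImmersion g := hg
    infer_instance) i hi
  haveI : Epi a := Groth.Agent.R2.H43.CutOut.epi_of_repWith_etale_surjective a hae has
  obtain ⟨k, -, hk⟩ := Groth.Agent.R2.H95.SpEpi.exists_lift_of_epi_mono a i
    (inv ((AlgSp.yon S).map w) ≫ pr) f (by
      rw [Category.assoc, sq.w, IsIso.inv_hom_id_assoc])
  exact ⟨k, hk⟩

/-- The scheme theoretic image of a morphism from a reduced algebraic space is the reduced induced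
structure on the closure of its image. -/
theorem result {S : Scheme.{u}} {X Y Z : AlgSp.Space S} (f : X ⟶ Y) (i : Z ⟶ Y)
    (hX : AlgSp.IsReducedSp X.obj) (hZ : AlgSp.IsSchImage f.hom i.hom) :
    AlgSp.IsRedInduced (closure (Set.range (AlgSp.Points.map f.hom))) i.hom := by
  obtain ⟨hi, ⟨f', hf'⟩, hmin⟩ := hZ
  obtain ⟨Z', i', hZ', hi', hr', hred'⟩ :=
    Groth.Agent.R2.H48.RedInduced.exists_isRedInduced Y.property
      (closure (Set.range (AlgSp.Points.map f.hom))) isClosed_closure
  -- `f` factors through the reduced induced structure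
  obtain ⟨f'', hf''⟩ := exists_factor_of_reduced f.hom i' hX hi' (by
    rw [hr']; exact subset_closure)
  obtain ⟨k, hk⟩ := hmin i' hZ' hi' ⟨f'', hf''⟩
  -- the image of `i` is closed and contains the image of `f`
  have hcl : IsClosed (Set.range (AlgSp.Points.map i.hom)) := by
    have huc : AlgSp.RepWith @UniversallyClosed i.hom := by
      refine ⟨hi.1, fun T W g pr w sq => ?_⟩
      haveI : IsClosedImmersion w.left := hi.2 g pr w sq
      change UniversallyClosed w.left
      infer_instance
    exact (Groth.Agent.S9922.isClosedMap_map_of_repWith i.hom huc).isClosed_range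
  have hsub : Set.range (AlgSp.Points.map i') ⊆ Set.range (AlgSp.Points.map i.hom) := by
    rw [hr']
    refine closure_minimal ?_ hcl
    rintro _ ⟨x, rfl⟩
    refine ⟨AlgSp.Points.map f' x, ?_⟩
    rw [← AlgSp.Points.map_comp, hf']
  obtain ⟨k', hk'⟩ := exists_factor_of_reduced i' i.hom hred' hi hsub
  haveI : Mono i.hom := Groth.Agent.S9928.mono_of_repWith @IsClosedImmersion (fun X Y g hg => by
    haveI : IsClosedImmersion g := hg
    infer_instance) i.hom hi
  haveI : Mono i' := Groth.Agent.S9928.mono_of_repWith @IsClosedImmersion (fun X Y g hg => by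
    haveI : IsClosedImmersion g := hg
    infer_instance) i' hi'
  let e : Z' ≅ Z.obj := ⟨k', k, by
    rw [← cancel_mono i', Category.assoc, hk, hk', Category.id_comp], by
    rw [← cancel_mono i.hom, Category.assoc, hk', hk, Category.id_comp]⟩
  refine ⟨hi, ?_, ?_⟩
  · rw [← hr']
    apply le_antisymm
    · rintro _ ⟨ζ, rfl⟩
      refine ⟨AlgSp.Points.map k ζ, ?_⟩
      rw [← AlgSp.Points.map_comp, hk]
    · exact hsub
  · obtain ⟨U, p, hpe, hps, hU⟩ := hred'
    haveI : IsIso e.hom := Iso.isIso_hom e
    refine ⟨U, p ≫ e.hom, ?_, ?_, hU⟩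
    · exact (MorphismProperty.cancel_right_of_respectsIso (AlgSp.RepWith @Etale) p e.hom).2 hpe
    · exact (MorphismProperty.cancel_right_of_respectsIso (AlgSp.RepWith @Surjective) p e.hom).2 hps

end Groth.Agent.S9966
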