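import Groth.Statements.S10416
import Groth.Agent.R2.H43DimZero
import Groth.Agent.R2.H48RedInduced
import Groth.Agent.R2.H83ElemDist
import Groth.Agent.R2.H95SpEpi
import Groth.Agent.S9966
import Groth.Agent.S9929
import Groth.Agent.S9948
import Groth.Agent.S9906
import Groth.Agent.S9885
import Groth.Agent.S9874
import Groth.Agent.S9922

set_option autoImplicit false
universe u
open CategoryTheory CategoryTheory.Limits AlgebraicGeometry Topology TopologicalSpace
open AlgSp

set_option backward.isDefEq.respectTransparency false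
set_option linter.style.haveILetI false

namespace Groth.Agent.S10416

open Groth.Agent.R2.H48.ClosedSub Groth.Agent.R2.H48.RedInduced

variable {S : Scheme.{u}}

/-- the reduced induced structure on a closed point of a locally Noetherian algebraic space has an
étale chart which is a reduced locally Noetherian scheme whose local rings are all of dimension `0`. -/
theorem exists_redInduced_point {X : AlgSp.Sp S} (hX : AlgSp.IsAlgSpace X)
    (hN : AlgSp.IsLocNoethSp X) (x : AlgSp.Points X) (hx : IsClosed ({x} : Set (AlgSp.Points X))) :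
    ∃ (T : AlgSp.Sp S) (_ : AlgSp.IsAlgSpace T) (iT : T ⟶ X) (V : Over S)
      (z : (AlgSp.yon S).obj V ⟶ T),
      AlgSp.RepWith @IsClosedImmersion iT ∧ Set.range (AlgSp.Points.map iT) = {x} ∧
      AlgSp.RepWith @Etale z ∧ AlgSp.RepWith @Surjective z ∧ IsReduced V.left ∧
      IsLocallyNoetherian V.left ∧ (∀ v : V.left, AlgSp.Points.ofPt (z ≫ iT) v = x) ∧
      ∀ v : V.left, ringKrullDim (V.left.presheaf.stalk v) = 0 := by
  obtain ⟨U, p, hpe, hps, hUN⟩ := hN
  haveI : IsLocallyNoetherian U.left := hUN
  have hinv := invariant_vanishingIdeal p hpe {x} hx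
  set I := Scheme.IdealSheafData.vanishingIdeal (preimageCloseds p {x} hx) with hI
  obtain ⟨zU, hzU⟩ := exists_chart hinv
  have sq := isPullback_chart hzU
  have hze : AlgSp.RepWith @Etale zU :=
    MorphismProperty.of_isPullback (P := AlgSp.RepWith @Etale) sq.flip hpe
  have hzs : AlgSp.RepWith @Surjective zU :=
    MorphismProperty.of_isPullback (P := AlgSp.RepWith @Surjective) sq.flip hps
  have hsupp : (I.support : Set U.left) = AlgSp.Points.ofPt p ⁻¹' {x} :=
    Scheme.IdealSheafData.coe_support_vanishingIdeal _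
  have hrange : Set.range (AlgSp.Points.map (incl p I)) = {x} := by
    rw [range_map_incl hinv hps, hsupp,
      Set.image_preimage_eq _ (Groth.Agent.S10177.surjective_ofPt p hps)]
  haveI hred : IsReduced (ZU I).left :=
    Groth.Agent.Lib.Helper11RedCl.isReduced_subscheme_vanishingIdeal _
  haveI hnoeth : IsLocallyNoetherian (ZU I).left :=
    LocallyOfFiniteType.isLocallyNoetherian (ιU I).left
  have hpt : ∀ v : (ZU I).left, AlgSp.Points.ofPt (zU ≫ incl p I) v = x := by
    intro v
    rw [hzU, Groth.Agent.S10176.ofPt_map_comp]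
    have hr : Set.range (ιU I).left = (I.support : Set U.left) := I.range_subschemeι
    have : (ιU I).left v ∈ (I.support : Set U.left) := by rw [← hr]; exact ⟨v, rfl⟩
    rw [hsupp] at this
    exact this
  refine ⟨obj p I, isAlgSpace_obj hX hinv hpe hps, incl p I, ZU I, zU,
    repWith_incl hinv hpe hps, hrange, hze, hzs, hred, hnoeth, hpt, ?_⟩
  -- all local rings have dimension zero
  haveI : Mono (incl p I) := Groth.Agent.S9928.mono_of_repWith @IsClosedImmersion
    (fun X Y g hg => by haveI : IsClosedImmersion g := hg; infer_instance) _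
    (repWith_incl hinv hpe hps)
  obtain ⟨R, s, t', sqR⟩ := hze.1 zU
  obtain ⟨t, rfl⟩ := (AlgSp.yon S).map_surjective t'
  haveI : Etale s.left := hze.2 _ _ s sqR
  haveI : Etale t.left := hze.2 _ _ t sqR.flip
  have sqR' := Groth.Agent.S9929.isPullback_comp_mono sqR (incl p I)
  obtain ⟨u₀, hu₀⟩ := Groth.Agent.S10177.surjective_ofPt p hps x
  have hne : Nonempty (ZU I).left := by
    have hr : Set.range (ιU I).left = (I.support : Set U.left) := I.range_subschemeι
    have : u₀ ∈ (I.support : Set U.left) := by rw [hsupp]; exact hu₀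
    rw [← hr] at this
    obtain ⟨v, -⟩ := this
    exact ⟨v⟩
  obtain ⟨η, hη⟩ := Groth.Agent.R2.H43.DimZero.exists_stalk_dim_zero (ZU I).left
  intro v
  obtain ⟨r, hr1, hr2⟩ := Groth.Agent.S10176.exists_point_of_isPullback_yon sqR' v η
    ((hpt v).trans (hpt η).symm)
  rw [← hr1, ← Groth.Agent.R2.H45.Dim.ringKrullDim_stalk_eq_of_etale t.left r,
    Groth.Agent.R2.H45.Dim.ringKrullDim_stalk_eq_of_etale s.left r, hr2]
  exact hη

/-- a flat, locally finitely presented, surjective map from a scheme to an algebraic space is an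
epimorphism of sheaves. -/
theorem epi_of_locP_flat_lfp_surjective {Z : AlgSp.Space S} {T : Over S}
    (p : (AlgSp.yon S).obj T ⟶ Z.obj) (h1 : AlgSp.LocP @LocallyOfFinitePresentation p)
    (h2 : AlgSp.LocP @Flat p) (h3 : AlgSp.IsSurjectiveMor p) : Epi p := by
  let T' : AlgSp.Space S := ⟨(AlgSp.yon S).obj T, AlgSp.IsAlgSpace.yon_obj _⟩
  let p' : T' ⟶ Z := ObjectProperty.homMk p
  have hrep : AlgSp.Representable p := Z.property.representable_from_yon p
  have r1 : AlgSp.RepWith @LocallyOfFinitePresentation p :=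
    (Groth.Agent.S9948.result @LocallyOfFinitePresentation (Or.inr (Or.inl rfl)) p' hrep).1 h1
  have r2 : AlgSp.RepWith @Flat p :=
    (Groth.Agent.S9948.result @Flat (Or.inr (Or.inr (Or.inl rfl))) p' hrep).1 h2
  have r3 : AlgSp.RepWith @Surjective p := (Groth.Agent.S9906.result p' hrep).2 h3
  haveI := Groth.Agent.S9885.result S _ _ p r2 r1 r3
  exact (Sheaf.isLocallySurjective_iff_epi p).1 inferInstance

/-- Let S be a scheme, X a locally Noetherian algebraic space over S, x ∈ |X|, and i : Z_x ⟶ X the
residual space at x. Then x is closed in |X| if and only if i is a closed immersion. -/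
theorem result {S : Scheme.{u}} {X Z : AlgSp.Space S}
    (hX : AlgSp.IsLocNoethSp X.obj) (x : AlgSp.Points X.obj) (i : Z ⟶ X) [Mono i.hom]
    (hi : Set.range (AlgSp.Points.map i.hom) = {x}) (hZ : ∃ (k : Type u) (_ : Field k) (str : Spec (CommRingCat.of k) ⟶ S) (p : (AlgSp.yon S).obj (Over.mk str) ⟶ Z.obj),
        AlgSp.LocP @LocallyOfFinitePresentation p ∧ AlgSp.LocP @Flat p ∧ AlgSp.IsSurjectiveMor p) :
    IsClosed ({x} : Set (AlgSp.Points X.obj)) ↔ AlgSp.RepWith @IsClosedImmersion i.hom := by
  constructor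
  swap
  · intro hc
    have huc : AlgSp.RepWith @UniversallyClosed i.hom := by
      refine ⟨hc.1, fun T W g pr w sq => ?_⟩
      haveI : IsClosedImmersion w.left := hc.2 g pr w sq
      change UniversallyClosed w.left
      infer_instance
    rw [← hi]
    exact (Groth.Agent.S9922.isClosedMap_map_of_repWith i.hom huc).isClosed_range
  intro hx
  obtain ⟨k, _, str, p, hp1, hp2, hp3⟩ := hZ
  obtain ⟨T, hT, iT, V, z, hiT, hrT, hze, hzs, hVred, hVN, hpt, hdim⟩ :=
    exists_redInduced_point X.property hX x hx
  haveI : Mono iT := Groth.Agent.S9928.mono_of_repWith @IsClosedImmersion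
    (fun X Y g hg => by haveI : IsClosedImmersion g := hg; infer_instance) _ hiT
  -- `Z ⟶ X` factors through `T`
  haveI : Epi p := epi_of_locP_flat_lfp_surjective p hp1 hp2 hp3
  have hredk : AlgSp.IsReducedSp ((AlgSp.yon S).obj (Over.mk str)) :=
    ⟨Over.mk str, 𝟙 _, AlgSp.repWith_id _ _, AlgSp.repWith_id _ _, by
      change IsReduced (Spec (CommRingCat.of k)); infer_instance⟩
  obtain ⟨k₁, hk₁⟩ := Groth.Agent.S9966.exists_factor_of_reduced (p ≫ i.hom) iT hredk hiT (by
    rw [hrT, ← hi]
    rintro _ ⟨y, rfl⟩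
    exact ⟨AlgSp.Points.map p y, (AlgSp.Points.map_comp p i.hom y).symm⟩)
  obtain ⟨k', -, hk'⟩ := Groth.Agent.R2.H95.SpEpi.exists_lift_of_epi_mono p iT k₁ i.hom hk₁
  haveI : Mono k' := mono_of_mono_fac hk'
  -- `k'` is an epimorphism
  haveI : Epi z := Groth.Agent.R2.H43.CutOut.epi_of_repWith_etale_surjective z hze hzs
  haveI : Epi k' := by
    constructor
    intro G a b hab
    rw [← cancel_epi z]
    haveI := hVred
    haveI := hVN
    choose F hF j hj hmem using
      Groth.Agent.R2.H43.DimZero.exists_field_chart_of_dim_zero (V := V.left) hdim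
    let Y : V.left → Over S := fun v => Over.mk (j v ≫ V.hom)
    let g : ∀ v, Y v ⟶ V := fun v => Over.homMk (j v) rfl
    refine Groth.Agent.R2.H83.ElemDist.yon_hom_ext_of_cover _ _ Y g (fun v => ?_)
      (fun w => ⟨w, hmem w⟩) (fun v => ?_)
    · haveI : IsOpenImmersion (j v) := hj v
      exact ⟨(inferInstance : Flat (j v)), (inferInstance : LocallyOfFinitePresentation (j v))⟩
    · -- the pullback of `k'` to the field chart is an epimorphism
      letI := (hF v).toField
      let e : (AlgSp.yon S).obj (Y v) ⟶ T := (AlgSp.yon S).map (g v) ≫ z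
      have hP : AlgSp.IsAlgSpace (pullback k' e) :=
        Groth.Agent.S9874.result S T hT.diag Z
          ⟨(AlgSp.yon S).obj (Y v), AlgSp.IsAlgSpace.yon_obj _⟩ k' e _ _ _
          (IsPullback.of_hasPullback k' e)
      haveI : Mono (pullback.snd k' e) := pullback.snd_of_mono
      have hne : Nonempty (AlgSp.Points (pullback k' e)) := by
        have sqX := Groth.Agent.S9929.isPullback_comp_mono (IsPullback.of_hasPullback k' e) iT
        obtain ⟨ζ, hζ⟩ : x ∈ Set.range (AlgSp.Points.map i.hom) := by rw [hi]; rfl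
        obtain ⟨w⟩ : Nonempty (Y v).left :=
          inferInstanceAs (Nonempty (PrimeSpectrum (F v)))
        have hτ : AlgSp.Points.map (e ≫ iT) (AlgSp.Points.ofScheme (Y v) w) = x := by
          rw [← AlgSp.Points.ofPt_eq_map_ofScheme, Category.assoc,
            Groth.Agent.S10176.ofPt_map_comp]
          exact hpt _
        rw [hk'] at sqX
        obtain ⟨q, -, -⟩ := Groth.Agent.S10175.exists_point_of_isPullback sqX ζ _
          (hζ.trans hτ.symm)
        exact ⟨q⟩
      haveI : Epi (pullback.snd k' e) :=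
        Groth.Agent.S9929.epi_of_mono_to_field (j v ≫ V.hom) hP (pullback.snd k' e) hne
      rw [← cancel_epi (pullback.snd k' e)]
      change pullback.snd k' e ≫ e ≫ a = pullback.snd k' e ≫ e ≫ b
      rw [← pullback.condition_assoc, ← pullback.condition_assoc, hab]
  haveI : IsIso k' := isIso_of_mono_of_epi k'
  rw [← hk']
  exact (MorphismProperty.cancel_left_of_respectsIso (AlgSp.RepWith @IsClosedImmersion) k' iT).2 hiT

end Groth.Agent.S10416
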