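import Mathlib
import Groth.Statements.S10417
import Groth.Agent.R2.H45GrpLocus
import Groth.Agent.R2.H25DecentEtale
import Groth.Agent.Lib.Helper4FibDimF
import Groth.Agent.Lib.Helper3QFinDim
import Groth.Agent.Lib.Helper4DimFormulaU
import Groth.Agent.S9913
import Groth.Agent.S10175
import Groth.Agent.S10177
import Groth.Agent.S9874

set_option autoImplicit false
set_option linter.style.haveILetI false
universe u
open CategoryTheory CategoryTheory.Limits AlgebraicGeometry Topology TopologicalSpace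
open AlgSp

namespace Groth.Agent.S10417
open Groth.Agent.R2.H45.HasAtMor Groth.Agent.R2.H45.HasAt Groth.Agent.R2.H45.RelDim
  Groth.Agent.R2.H45.GrpLocus

/-- in a quasi-compact scheme locally of finite type over a field, the set of points at which the
structure morphism is quasi-finite is finite. -/
theorem finite_setOf_fibreDimAt_le_zero {K : Type u} [Field K] {T : Scheme.{u}}
    (h : T ⟶ Spec (CommRingCat.of K)) [LocallyOfFiniteType h] [CompactSpace ↥T] :
    {t : ↥T | FlatMor.fibreDimAt h t ≤ 0}.Finite := by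
  haveI : IsLocallyNoetherian T := LocallyOfFiniteType.isLocallyNoetherian h
  haveI : IsNoetherian T := {}
  have hopen : IsOpen {t : ↥T | FlatMor.fibreDimAt h t ≤ 0} := by
    have := Groth.Agent.Lib.Helper4.FibDim.isOpen_setOf_fibreDimAt_le h 0
    simpa using this
  let O : T.Opens := ⟨_, hopen⟩
  haveI : CompactSpace ↥(O : Scheme.{u}) :=
    isCompact_iff_compactSpace.1 (TopologicalSpace.NoetherianSpace.isCompact (O : Set ↥T))
  haveI : QuasiCompact (O.ι ≫ h) := quasiCompact_of_compactSpace _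
  haveI : LocallyQuasiFinite (O.ι ≫ h) := by
    apply Groth.Agent.Lib.Helper3.QFinDim.locallyQuasiFinite_of_forall_fibreDimAt_le_zero
    intro v
    rw [Groth.Agent.Lib.Helper4.DimFormula.fibreDimAt_opens_ι_comp]
    exact v.2
  haveI : Finite ↥(O : Scheme.{u}) :=
    Groth.Agent.R2.H25.DecentEtale.finite_of_locallyQuasiFinite (O.ι ≫ h)
  exact Set.finite_coe_iff.1 (inferInstanceAs (Finite ↥(O : Scheme.{u})))

end Groth.Agent.S10417

namespace Groth.Agent.S10417
open Groth.Agent.R2.H45.HasAtMor Groth.Agent.R2.H45.HasAt Groth.Agent.R2.H45.RelDim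
  Groth.Agent.R2.H45.GrpLocus

/-- Let W = X ×_Y Z be a fibre product of algebraic spaces over a scheme S with projections p, q and let
x ∈ |X|, z ∈ |Z| lie over the same point of |Y|. If f : X ⟶ Y is of finite type and quasi-finite at
x, then the set of points of |W| mapping to x and to z is finite. -/
theorem result {S : Scheme.{u}} {X Y Z W : AlgSp.Space S} (f : X ⟶ Y)
    (g : Z ⟶ Y) (p : W ⟶ X) (q : W ⟶ Z) (hW : IsPullback p.hom q.hom f.hom g.hom) (x : AlgSp.Points X.obj)
    (z : AlgSp.Points Z.obj) (hxz : AlgSp.Points.map f.hom x = AlgSp.Points.map g.hom z)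
    (hft : AlgSp.IsFiniteTypeMor f.hom) (hf : AlgSp.HasAtMor (fun U _ h u => ∃ W : U.Opens, u ∈ W ∧ LocallyQuasiFinite (W.ι ≫ h) ∧ LocallyOfFiniteType (W.ι ≫ h)) f.hom x) :
    {w : AlgSp.Points W.obj | AlgSp.Points.map p.hom w = x ∧ AlgSp.Points.map q.hom w = z}.Finite := by
  obtain ⟨hlft, hqc⟩ := hft
  obtain ⟨r, rfl⟩ := AlgSp.Points.mk_surjective z
  have hT : AlgSp.IsAlgSpace ((AlgSp.yon S).obj r.pt) := AlgSp.IsAlgSpace.yon_obj _
  have sqK := IsPullback.of_hasPullback f.hom (r.toHom ≫ g.hom)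
  have hXK : AlgSp.IsAlgSpace (pullback f.hom (r.toHom ≫ g.hom)) :=
    Groth.Agent.S9874.isAlgSpace_of_isPullback Y.property.diag X.property hT sqK
  -- the comparison `X_K ⟶ W`
  let m : pullback f.hom (r.toHom ≫ g.hom) ⟶ W.obj :=
    hW.lift (pullback.fst _ _) (pullback.snd _ _ ≫ r.toHom)
      (by rw [Category.assoc]; exact sqK.w)
  have hm1 : m ≫ p.hom = pullback.fst f.hom (r.toHom ≫ g.hom) := hW.lift_fst _ _ _
  have hm2 : m ≫ q.hom = pullback.snd f.hom (r.toHom ≫ g.hom) ≫ r.toHom := hW.lift_snd _ _ _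
  have sqm : IsPullback m (pullback.snd f.hom (r.toHom ≫ g.hom)) q.hom r.toHom := by
    refine IsPullback.of_right ?_ hm2 hW
    rw [hm1]
    exact sqK
  -- a quasi-compact chart of `X_K`
  haveI : CompactSpace ↥r.pt.left :=
    inferInstanceAs (CompactSpace ↥(Spec (CommRingCat.of r.K)))
  obtain ⟨U', a, hae, has, hU'c⟩ := hqc hT
    (Groth.Agent.S9913.isQuasiCompactSp_yon_of_compact r.pt) (r.toHom ≫ g.hom) _ _ sqK
  haveI : CompactSpace ↥U'.left := hU'c
  obtain ⟨h', hh'⟩ := (AlgSp.yon S).map_surjective (a ≫ pullback.snd f.hom (r.toHom ≫ g.hom))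
  have comm : a ≫ pullback.snd f.hom (r.toHom ≫ g.hom) = (AlgSp.yon S).map h' ≫ 𝟙 _ := by
    rw [hh', Category.comp_id]
  have hsndK : AlgSp.LocP @LocallyOfFiniteType (pullback.snd f.hom (r.toHom ≫ g.hom)) :=
    Groth.Agent.Lib.Helper12.LocPCases.good_lft.locP_baseChange X.property Y.property hT sqK hlft
  haveI hlft' : LocallyOfFiniteType h'.left := hsndK a (𝟙 _) h' hae (AlgSp.repWith_id _ _) comm
  have hfin : {u' : ↥U'.left | FlatMor.fibreDimAt h'.left u' ≤ 0}.Finite :=
    finite_setOf_fibreDimAt_le_zero (K := r.K) (T := U'.left) h'.left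
  refine (hfin.image (fun u' => AlgSp.Points.map m (AlgSp.Points.ofPt a u'))).subset ?_
  rintro w ⟨hw1, hw2⟩
  have hzpt : AlgSp.Points.map r.toHom (AlgSp.Points.ofPt (𝟙 _) (IsLocalRing.closedPoint r.K)) =
      AlgSp.Points.mk r := by
    rw [AlgSp.Points.map_ofPt, Category.id_comp]
    exact Groth.Agent.S10177.ofPt_closedPoint r
  obtain ⟨ξ, hξ1, -⟩ := Groth.Agent.S10175.exists_point_of_isPullback sqm w
    (AlgSp.Points.ofPt (𝟙 _) (IsLocalRing.closedPoint r.K)) (by rw [hw2, hzpt])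
  obtain ⟨u', rfl⟩ := Groth.Agent.S10177.surjective_ofPt a has ξ
  refine ⟨u', ?_, hξ1⟩
  have hx' : AlgSp.Points.map (pullback.fst f.hom (r.toHom ≫ g.hom)) (AlgSp.Points.ofPt a u') = x := by
    rw [← hm1, AlgSp.Points.map_comp, hξ1, hw1]
  have h1 : AlgSp.HasAtMor Qlqf (pullback.snd f.hom (r.toHom ≫ g.hom)) (AlgSp.Points.ofPt a u') := by
    rw [bcInv_qlqf X.property Y.property hT sqK hlft, hx']
    exact hf
  have h2 := (hasAtMor_iff_of_diagram_on etSqInvOn_qlqf _ hsndK a (𝟙 _) h' hae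
    (AlgSp.repWith_id _ _) comm u').1 h1
  exact (qlqf_iff_fibreDimAt_le_zero h'.left u').1 h2

end Groth.Agent.S10417
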