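import Groth.Statements.S10422
import Mathlib

set_option autoImplicit false
set_option linter.style.haveILetI false
universe u
open Topology TopologicalSpace TensorProduct
open AlgSp

namespace Groth.Agent.S10422

/-- finitely many field extensions of `k` have a common extension field. -/
lemma exists_common_ext (k : Type u) [Field k] (K : ℕ → Type u) [∀ n, Field (K n)]
    [∀ n, Algebra k (K n)] (r : ℕ) :
    ∃ (Ω : Type u) (_ : Field Ω) (_ : Algebra k Ω), ∀ n ≤ r, Nonempty (K n →ₐ[k] Ω) := by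
  induction r with
  | zero =>
    refine ⟨K 0, inferInstance, inferInstance, fun n hn => ?_⟩
    obtain rfl := Nat.le_zero.1 hn
    exact ⟨AlgHom.id k _⟩
  | succ r ih =>
    obtain ⟨Ω, _, _, hσ⟩ := ih
    haveI : Nontrivial (Ω ⊗[k] K (r + 1)) :=
      Algebra.TensorProduct.nontrivial_of_algebraMap_injective_of_flat_left _ _ _
        (algebraMap k (K (r + 1))).injective
    obtain ⟨𝔪, h𝔪⟩ := Ideal.exists_maximal (Ω ⊗[k] K (r + 1))
    letI := Ideal.Quotient.field 𝔪
    refine ⟨(Ω ⊗[k] K (r + 1)) ⧸ 𝔪, inferInstance, inferInstance, fun n hn => ?_⟩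
    rcases Nat.lt_or_eq_of_le hn with h | rfl
    · obtain ⟨σ⟩ := hσ n (Nat.lt_succ_iff.1 h)
      exact ⟨(Ideal.Quotient.mkₐ k 𝔪).comp (Algebra.TensorProduct.includeLeft.comp σ)⟩
    · exact ⟨(Ideal.Quotient.mkₐ k 𝔪).comp Algebra.TensorProduct.includeRight⟩

/-- a square identity matrix is not a product through a smaller dimension. -/
lemma not_mul_eq_one {Ω : Type u} [Field Ω] {ι : Type*} [Fintype ι] (r : ℕ)
    (hr : Fintype.card ι ≤ r) (U : Matrix (Fin (r + 1)) ι Ω) (V : Matrix ι (Fin (r + 1)) Ω) :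
    U * V ≠ 1 := by
  intro h
  have h1 : (U * V).rank ≤ U.rank := Matrix.rank_mul_le_left U V
  have h2 : U.rank ≤ Fintype.card ι := Matrix.rank_le_card_width U
  rw [h, Matrix.rank_one, Fintype.card_fin] at h1
  omega

/-- Let A be a ring, k a field, (p_n) a sequence of primes of A which are pairwise distinct, and k →
κ(p_n) field embeddings. Then the closure in Spec(A ⊗ A) of the image of ∐_{n ≠ m} Spec(κ(p_n) ⊗_k
κ(p_m)) meets the diagonal. Here κ(p_n) is any A-algebra K_n which is a field whose structure map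
has kernel p_n and whose elements are quotients of images of elements of A. -/
theorem result (A : Type u) [CommRing A] (k : Type u) [Field k]
    (p : ℕ → PrimeSpectrum A) (hp : Function.Injective p) (K : ℕ → Type u) [∀ n, Field (K n)]
    [∀ n, Algebra A (K n)] [∀ n, Algebra k (K n)]
    (hker : ∀ n, RingHom.ker (algebraMap A (K n)) = (p n).asIdeal)
    (hfrac : ∀ n (x : K n), ∃ a b : A, algebraMap A (K n) b ≠ 0 ∧ x * algebraMap A (K n) b = algebraMap A (K n) a) :
    (closure (⋃ (n : ℕ) (m : ℕ) (_ : n ≠ m),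
        Set.range (PrimeSpectrum.comap
          (Algebra.TensorProduct.lift
            ((Algebra.TensorProduct.includeLeft (R := k) (S := ℤ) (A := K n) (B := K m)).toRingHom.toIntAlgHom.comp
              (Algebra.ofId A (K n)).toRingHom.toIntAlgHom)
            ((Algebra.TensorProduct.includeRight (R := k) (A := K n) (B := K m)).toRingHom.toIntAlgHom.comp
              (Algebra.ofId A (K m)).toRingHom.toIntAlgHom)
            (fun _ _ => Commute.all _ _)).toRingHom)) ∩
      Set.range (PrimeSpectrum.comap (Algebra.TensorProduct.lmul' (S := A) ℤ).toRingHom)).Nonempty := by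
  classical
  -- notation
  let f : ∀ n m : ℕ, A ⊗[ℤ] A →+* K n ⊗[k] K m := fun n m =>
    (Algebra.TensorProduct.lift
      ((Algebra.TensorProduct.includeLeft (R := k) (S := ℤ) (A := K n) (B := K m)).toRingHom.toIntAlgHom.comp
        (Algebra.ofId A (K n)).toRingHom.toIntAlgHom)
      ((Algebra.TensorProduct.includeRight (R := k) (A := K n) (B := K m)).toRingHom.toIntAlgHom.comp
        (Algebra.ofId A (K m)).toRingHom.toIntAlgHom)
      (fun _ _ => Commute.all _ _)).toRingHom
  have hf : ∀ n m (a b : A), f n m (a ⊗ₜ b) =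
      algebraMap A (K n) a ⊗ₜ[k] algebraMap A (K m) b := by
    intro n m a b
    simp [f, Algebra.TensorProduct.tmul_mul_tmul]
  let μ : A ⊗[ℤ] A →+* A := (Algebra.TensorProduct.lmul' (S := A) ℤ).toRingHom
  have hμ : ∀ a b : A, μ (a ⊗ₜ b) = a * b := fun a b => by simp [μ]
  have hμsurj : Function.Surjective μ := fun a => ⟨a ⊗ₜ 1, by simp [hμ]⟩
  change (closure (⋃ (n : ℕ) (m : ℕ) (_ : n ≠ m), Set.range (PrimeSpectrum.comap (f n m))) ∩
    Set.range (PrimeSpectrum.comap μ)).Nonempty
  -- the key claim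
  have key : ∀ ξ ∈ PrimeSpectrum.vanishingIdeal
      (⋃ (n : ℕ) (m : ℕ) (_ : n ≠ m), Set.range (PrimeSpectrum.comap (f n m))), μ ξ ≠ 1 := by
    intro ξ hξ hone
    obtain ⟨s, hs⟩ := TensorProduct.exists_finset ξ
    obtain ⟨Ω, _, _, hσ⟩ := exists_common_ext k K s.card
    let σ : ∀ n : Fin (s.card + 1), K n →ₐ[k] Ω := fun n =>
      (hσ n (Nat.lt_succ_iff.1 n.2)).some
    let g : ∀ n : Fin (s.card + 1), A →+* Ω := fun n =>
      (σ n).toRingHom.comp (algebraMap A (K n))
    let φ : ∀ n m : Fin (s.card + 1), K n ⊗[k] K m →+* Ω := fun n m =>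
      (Algebra.TensorProduct.productMap (σ n) (σ m)).toRingHom
    have hφ : ∀ (n m : Fin (s.card + 1)) (x : K n) (y : K m),
        φ n m (x ⊗ₜ y) = σ n x * σ m y := by
      intro n m x y
      simp [φ]
    -- the value of `φ ∘ f` at `ξ`
    have hval : ∀ n m : Fin (s.card + 1), φ n m (f n m ξ) =
        ∑ i ∈ s, g n i.1 * g m i.2 := by
      intro n m
      rw [hs, map_sum, map_sum]
      refine Finset.sum_congr rfl fun i _ => ?_
      rw [hf, hφ]
      rfl
    -- off-diagonal entries vanish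
    have hoff : ∀ n m : Fin (s.card + 1), n ≠ m → ∑ i ∈ s, g n i.1 * g m i.2 = 0 := by
      intro n m hnm
      rw [← hval]
      have hprime : (RingHom.ker (φ n m)).IsPrime := RingHom.ker_isPrime _
      have hmem : PrimeSpectrum.comap (f n m) ⟨RingHom.ker (φ n m), hprime⟩ ∈
          (⋃ (n : ℕ) (m : ℕ) (_ : n ≠ m), Set.range (PrimeSpectrum.comap (f n m))) := by
        refine Set.mem_iUnion.2 ⟨n, Set.mem_iUnion.2 ⟨m, Set.mem_iUnion.2 ⟨?_, _, rfl⟩⟩⟩
        exact fun h => hnm (Fin.ext h)
      have := (PrimeSpectrum.mem_vanishingIdeal _ _).1 hξ _ hmem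
      exact this
    -- diagonal entries are one
    have hdiag : ∀ n : Fin (s.card + 1), ∑ i ∈ s, g n i.1 * g n i.2 = 1 := by
      intro n
      have h1 : μ ξ = ∑ i ∈ s, i.1 * i.2 := by
        rw [hs, map_sum]
        exact Finset.sum_congr rfl fun i _ => hμ _ _
      have h2 : g n (μ ξ) = 1 := by rw [hone, map_one]
      rw [h1, map_sum] at h2
      rw [← h2]
      exact Finset.sum_congr rfl fun i _ => (map_mul _ _ _).symm
    -- the matrices
    let U : Matrix (Fin (s.card + 1)) s Ω := fun n i => g n i.1.1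
    let V : Matrix s (Fin (s.card + 1)) Ω := fun i m => g m i.1.2
    have hUV : U * V = 1 := by
      ext n m
      rw [Matrix.mul_apply, Matrix.one_apply]
      have : ∑ i : s, U n i * V i m = ∑ i ∈ s, g n i.1 * g m i.2 :=
        (Finset.sum_coe_sort s (fun i => g n i.1 * g m i.2))
      rw [this]
      by_cases hnm : n = m
      · subst hnm; rw [if_pos rfl]; exact hdiag n
      · rw [if_neg hnm]; exact hoff n m hnm
    exact not_mul_eq_one s.card (by simp) U V hUV
  -- conclusion
  have hne : PrimeSpectrum.vanishingIdeal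
      (⋃ (n : ℕ) (m : ℕ) (_ : n ≠ m), Set.range (PrimeSpectrum.comap (f n m))) ⊔
      RingHom.ker μ ≠ ⊤ := by
    intro htop
    have h1 : (1 : A ⊗[ℤ] A) ∈ PrimeSpectrum.vanishingIdeal
      (⋃ (n : ℕ) (m : ℕ) (_ : n ≠ m), Set.range (PrimeSpectrum.comap (f n m))) ⊔
      RingHom.ker μ := htop ▸ Submodule.mem_top
    obtain ⟨ξ, hξ, κ, hκ, hsum⟩ := Submodule.mem_sup.1 h1
    have : μ ξ = 1 := by
      have h2 := congrArg μ hsum
      rwa [map_add, (RingHom.mem_ker).1 hκ, add_zero, map_one] at h2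
    exact key ξ hξ this
  obtain ⟨𝔪, h𝔪max, hle⟩ := Ideal.exists_le_maximal _ hne
  refine ⟨⟨𝔪, h𝔪max.isPrime⟩, ?_, ?_⟩
  · rw [← PrimeSpectrum.zeroLocus_vanishingIdeal_eq_closure, PrimeSpectrum.mem_zeroLocus]
    exact fun x hx => hle (Ideal.mem_sup_left hx)
  · rw [range_comap_of_surjective _ μ hμsurj, PrimeSpectrum.mem_zeroLocus]
    exact fun x hx => hle (Ideal.mem_sup_right hx)

end Groth.Agent.S10422
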