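import Groth.Statements.S10424
import Mathlib
import Groth.Agent.R2.H46UBF
import Groth.Agent.R2.H46FinField4

set_option autoImplicit false
universe u
open CategoryTheory CategoryTheory.Limits AlgebraicGeometry Topology TopologicalSpace
open AlgSp

namespace Groth.Agent.S10424

open Groth.Agent.R2.H46.FinField Groth.Agent.R2.H46.UBF

/-- Let X be an algebraic space over a scheme S, V ⟶ U a morphism of schemes over S and U ⟶ X a
morphism. Suppose that the fibres of V ⟶ U and of U ⟶ X are universally bounded. Then V ⟶ X also has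
universally bounded fibres. -/
theorem result {S : Scheme.{u}} (X : AlgSp.Space S) {U V : Over S} (f : V ⟶ U)
    (g : (AlgSp.yon S).obj U ⟶ X.obj) (hf : W4dec.HasUnivBddFibres ((AlgSp.yon S).map f)) (hg : W4dec.HasUnivBddFibres g) :
    W4dec.HasUnivBddFibres ((AlgSp.yon S).map f ≫ g) := by
  obtain ⟨m, hm⟩ := hf
  obtain ⟨n, hn⟩ := hg
  refine ⟨n * m * n, ?_⟩
  intro q T c snd' sq
  obtain ⟨snd, rfl⟩ := (AlgSp.yon S).map_surjective snd'
  have hrep : AlgSp.Representable g := X.property.representable_from_yon g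
  obtain ⟨T', c', pr', sq'⟩ := hrep q.toHom
  obtain ⟨pr, rfl⟩ := (AlgSp.yon S).map_surjective pr'
  have hdeg' : DegLE n c'.left := hn q T' c' _ sq'.flip
  have hcomm : ((AlgSp.yon S).map snd ≫ (AlgSp.yon S).map f) ≫ g =
      (AlgSp.yon S).map c ≫ q.toHom := by
    rw [Category.assoc]; exact sq.w.symm
  obtain ⟨l, hl⟩ := (AlgSp.yon S).map_surjective (sq'.lift _ _ hcomm)
  have hl1 : (AlgSp.yon S).map l ≫ (AlgSp.yon S).map pr =
      (AlgSp.yon S).map snd ≫ (AlgSp.yon S).map f := by
    rw [hl]; exact sq'.lift_fst _ _ _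
  have hl2 : (AlgSp.yon S).map l ≫ (AlgSp.yon S).map c' = (AlgSp.yon S).map c := by
    rw [hl]; exact sq'.lift_snd _ _ _
  have hlc : l ≫ c' = c := (AlgSp.yon S).map_injective (by rw [Functor.map_comp]; exact hl2)
  have top : IsPullback ((AlgSp.yon S).map snd) ((AlgSp.yon S).map l) ((AlgSp.yon S).map f)
      ((AlgSp.yon S).map pr) :=
    IsPullback.of_bot (by rw [hl2]; exact sq.flip) hl1.symm sq'
  have hmain : DegLE (n * m * n) (l.left ≫ c'.left) := by
    refine DegLE.comp_of_fibres l.left c'.left hdeg' ?_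
    intro L _ x P fst snd₀ hP
    have hw : snd₀ ≫ x ≫ T'.hom = fst ≫ T.hom := by
      rw [← Category.assoc, ← hP.w, Category.assoc, Over.w l]
    let xo : Over.mk (x ≫ T'.hom) ⟶ T' := Over.homMk x rfl
    let fsto : Over.mk (fst ≫ T.hom) ⟶ T := Over.homMk fst rfl
    let sndo : Over.mk (fst ≫ T.hom) ⟶ Over.mk (x ≫ T'.hom) := Over.homMk snd₀ hw
    have hPo : IsPullback fsto sndo l xo := by
      refine IsPullback.of_map (Over.forget S) ?_ hP
      ext
      exact hP.w
    have hPy := hPo.map (AlgSp.yon S)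
    have big := hPy.paste_horiz top
    exact degLE_of_degFibresLE hm (x ≫ T'.hom) _ sndo _ big.flip
  rw [← hlc]
  exact hmain

end Groth.Agent.S10424
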