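import Groth.Statements.S10426
import Mathlib
import Groth.Agent.S10176
import Groth.Agent.R2.H46UBF

set_option autoImplicit false
universe u
open CategoryTheory CategoryTheory.Limits AlgebraicGeometry Topology TopologicalSpace
open AlgSp

namespace Groth.Agent.S10426

open Groth.Agent.R2.H46.FinField Groth.Agent.R2.H46.UBF

/-- Let S be a scheme, X and Y algebraic spaces over S, and g : Y ⟶ X a representable morphism; let U be
a scheme, f : U ⟶ X a morphism, and f′ : U ×_X Y ⟶ Y its base change. Assume the image of |U| → |X|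
is contained in the image of |Y| → |X| and that f′ has universally bounded fibres. Then the morphism
f also has universally bounded fibres. -/
theorem result {S : Scheme.{u}} {X Y : AlgSp.Space S} (g : Y ⟶ X)
    (hg : AlgSp.Representable g.hom) {U V : Over S} (f : (AlgSp.yon S).obj U ⟶ X.obj)
    (fst : (AlgSp.yon S).obj V ⟶ (AlgSp.yon S).obj U) (f' : (AlgSp.yon S).obj V ⟶ Y.obj) (h : IsPullback fst f' f g.hom)
    (him : Set.range (AlgSp.Points.ofPt f) ⊆ Set.range (AlgSp.Points.map g.hom)) (hf' : W4dec.HasUnivBddFibres f') :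
    W4dec.HasUnivBddFibres f := by
  obtain ⟨n, hn⟩ := hf'
  refine ⟨n, ?_⟩
  intro q T c snd' sq
  obtain ⟨snd, rfl⟩ := (AlgSp.yon S).map_surjective snd'
  by_cases hT : IsEmpty ↥T.left
  · exact degLE_of_isEmpty c.left n
  rw [not_isEmpty_iff] at hT
  obtain ⟨t⟩ := hT
  have hu : AlgSp.Points.ofPt f (snd.left t) = AlgSp.Points.mk q := by
    rw [← Groth.Agent.S10176.ofPt_map_comp, ← sq.w, Groth.Agent.S10176.ofPt_map_comp,
      AlgSp.Points.ofPt_toHom]
  obtain ⟨y, hy⟩ := him ⟨_, hu⟩
  obtain ⟨r, rfl⟩ := AlgSp.Points.mk_surjective y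
  rw [AlgSp.Points.map_mk, AlgSp.Points.mk_eq_mk_iff] at hy
  obtain ⟨Ω, _, w, a, b, hab⟩ := hy
  have hρ0 := comp_toHom_eq_of_rel a b hab
  rw [AlgSp.FieldPt.toHom_map] at hρ0
  obtain ⟨ρ, hρdef⟩ : ∃ ρ : (AlgSp.yon S).obj (Over.mk w) ⟶ Y.obj,
      ρ = (AlgSp.yon S).map (show Over.mk w ⟶ r.pt from a) ≫ r.toHom := ⟨_, rfl⟩
  have hρ : ρ ≫ g.hom = (AlgSp.yon S).map b ≫ q.toHom := by
    rw [hρdef, Category.assoc]; exact hρ0
  -- the base change of `T` to `Ω`
  have sqΩ : IsPullback ((AlgSp.yon S).map (pullback.fst c b)) ((AlgSp.yon S).map (pullback.snd c b))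
      ((AlgSp.yon S).map c) ((AlgSp.yon S).map b) :=
    (IsPullback.of_hasPullback c b).map (AlgSp.yon S)
  have sqΩ' : IsPullback (pullback.fst c b).left (pullback.snd c b).left c.left b.left :=
    (IsPullback.of_hasPullback c b).map (Over.forget S)
  have big : IsPullback ((AlgSp.yon S).map (pullback.snd c b))
      ((AlgSp.yon S).map (pullback.fst c b) ≫ (AlgSp.yon S).map snd) (ρ ≫ g.hom) f := by
    rw [hρ]
    exact (sqΩ.paste_horiz sq.flip).flip
  have hcomm : ((AlgSp.yon S).map (pullback.fst c b) ≫ (AlgSp.yon S).map snd) ≫ f =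
      ((AlgSp.yon S).map (pullback.snd c b) ≫ ρ) ≫ g.hom :=
    big.w.symm.trans (Category.assoc _ _ _).symm
  have big' : IsPullback (h.lift _ _ hcomm ≫ fst) ((AlgSp.yon S).map (pullback.snd c b)) f
      (ρ ≫ g.hom) := by
    rw [h.lift_fst]
    exact big.flip
  have small : IsPullback (h.lift _ _ hcomm) ((AlgSp.yon S).map (pullback.snd c b)) f' ρ :=
    IsPullback.of_right big' (h.lift_snd _ _ hcomm) h
  have hdeg : DegLE n (pullback.snd c b).left := degLE_of_degFibresLE hn w ρ _ _ small.flip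
  exact DegLE.of_isPullback_fieldExt b.left c.left (pullback.snd c b).left (pullback.fst c b).left
    sqΩ'.flip hdeg

end Groth.Agent.S10426
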