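import Groth.Statements.S10427
import Mathlib
import Groth.Agent.R2.H46FinField2

set_option autoImplicit false
universe u
open CategoryTheory CategoryTheory.Limits AlgebraicGeometry Topology TopologicalSpace
open AlgSp

namespace Groth.Agent.S10427

/-- Let X be an algebraic space over a scheme S and U ⟶ V ⟶ X with U, V schemes, U ⟶ V surjective and
flat. If U ⟶ X has universally bounded fibres, then so does V ⟶ X. -/
theorem result {S : Scheme.{u}} (X : AlgSp.Space S) {U V : Over S} (f : U ⟶ V)
    [Surjective f.left] [Flat f.left] (h : (AlgSp.yon S).obj V ⟶ X.obj) (hg : W4dec.HasUnivBddFibres ((AlgSp.yon S).map f ≫ h)) :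
    W4dec.HasUnivBddFibres h := by
  obtain ⟨n, hn⟩ := hg
  refine ⟨n, ?_⟩
  intro q T c snd' sq
  obtain ⟨snd, rfl⟩ := (AlgSp.yon S).map_surjective snd'
  -- the fibre product `T ×_V U`
  have sq1 : IsPullback ((AlgSp.yon S).map (pullback.fst snd f)) ((AlgSp.yon S).map (pullback.snd snd f))
      ((AlgSp.yon S).map snd) ((AlgSp.yon S).map f) :=
    (IsPullback.of_hasPullback snd f).map (AlgSp.yon S)
  have sq2 : IsPullback (pullback.fst snd f).left (pullback.snd snd f).left snd.left f.left :=
    (IsPullback.of_hasPullback snd f).map (Over.forget S)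
  have big : IsPullback ((AlgSp.yon S).map (pullback.fst snd f ≫ c)) ((AlgSp.yon S).map (pullback.snd snd f))
      q.toHom ((AlgSp.yon S).map f ≫ h) := by
    rw [Functor.map_comp]
    exact sq1.paste_horiz sq
  have hdeg : Groth.Agent.R2.H46.FinField.DegLE n ((pullback.fst snd f).left ≫ c.left) :=
    hn q _ _ _ big
  haveI : Surjective (pullback.fst snd f).left :=
    MorphismProperty.of_isPullback (P := @Surjective) sq2.flip inferInstance
  haveI : Flat (pullback.fst snd f).left :=
    MorphismProperty.of_isPullback (P := @Flat) sq2.flip inferInstance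
  exact Groth.Agent.R2.H46.FinField.DegLE.of_surjective_flat _ _ hdeg

end Groth.Agent.S10427
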