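import Groth.Statements.S10428
import Mathlib
import Groth.Agent.S10176
import Groth.Agent.R2.H46FinField

set_option autoImplicit false
universe u
open CategoryTheory CategoryTheory.Limits AlgebraicGeometry Topology TopologicalSpace
open AlgSp

namespace Groth.Agent.S10428

/-- Let X be an algebraic space over a scheme S and φ : U ⟶ X a morphism from a scheme with universally
bounded fibres. Then for some integer n, every fibre of |U| → |X| contains at most n elements. -/
theorem result {S : Scheme.{u}} (X : AlgSp.Space S) {U : Over S}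
    (φ : (AlgSp.yon S).obj U ⟶ X.obj) (hφ : W4dec.HasUnivBddFibres φ) :
    ∃ n : ℕ, ∀ x : AlgSp.Points X.obj, (AlgSp.Points.ofPt φ ⁻¹' {x}).encard ≤ n := by
  obtain ⟨n, hn⟩ := hφ
  refine ⟨n, fun x => ?_⟩
  induction x using AlgSp.Points.ind with | h q => ?_
  have hrep : AlgSp.Representable φ := X.property.representable_from_yon φ
  obtain ⟨T, c, pr', sq⟩ := hrep q.toHom
  obtain ⟨pr, rfl⟩ := (AlgSp.yon S).map_surjective pr'
  have hdeg : Groth.Agent.R2.H46.FinField.DegLE n c.left := hn q T c _ sq.flip
  have hsub : AlgSp.Points.ofPt φ ⁻¹' {AlgSp.Points.mk q} ⊆ pr.left '' Set.univ := by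
    intro u hu
    have hu' : AlgSp.Points.ofPt φ u =
        AlgSp.Points.ofPt q.toHom (IsLocalRing.closedPoint q.K) := by
      rw [AlgSp.Points.ofPt_toHom]; exact hu
    obtain ⟨y, hy1, -⟩ := Groth.Agent.S10176.exists_point_of_isPullback_yon sq u _ hu'
    exact ⟨y, trivial, hy1⟩
  calc (AlgSp.Points.ofPt φ ⁻¹' {AlgSp.Points.mk q}).encard
      ≤ (pr.left '' Set.univ).encard := Set.encard_le_encard hsub
    _ ≤ (Set.univ : Set ↥T.left).encard := Set.encard_image_le _ _
    _ ≤ n := hdeg.encard_univ_le

end Groth.Agent.S10428
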