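import Groth.Statements.S10429
import Mathlib
import Groth.Agent.S10176
import Groth.Agent.R2.H46UBF2
import Groth.Agent.R2.H46ZMT

set_option autoImplicit false
set_option linter.style.haveILetI false
universe u
open CategoryTheory CategoryTheory.Limits AlgebraicGeometry Topology TopologicalSpace
open AlgSp

namespace Groth.Agent.S10429

open Groth.Agent.R2.H46.FinField Groth.Agent.R2.H46.UBF

/-- the local step: around every point of `V` there is an affine etale neighbourhood `W ⟶ V`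
whose composite to `X` has bounded fibres. -/
lemma exists_local {S : Scheme.{u}} (X : AlgSp.Space S) {ι : Type u} (U : ι → Over S)
    (φ : ∀ i, (AlgSp.yon S).obj (U i) ⟶ X.obj) (hφ : ∀ i, AlgSp.RepWith @Etale (φ i))
    (hsurj : ∀ x : AlgSp.Points X.obj, ∃ (i : ι) (v : ↥(U i).left), AlgSp.Points.ofPt (φ i) v = x)
    (hb : ∀ i, W4dec.HasUnivBddFibres (φ i)) {V : Over S} (ψ : (AlgSp.yon S).obj V ⟶ X.obj)
    (hψ : AlgSp.RepWith @Etale ψ) (v : ↥V.left) :
    ∃ (W : Over S) (a : W ⟶ V) (M : ℕ), Etale a.left ∧ v ∈ Set.range a.left ∧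
      W4dec.DegFibresLE M ((AlgSp.yon S).map a ≫ ψ) := by
  obtain ⟨i, u, hu⟩ := hsurj (AlgSp.Points.ofPt ψ v)
  obtain ⟨n, hn⟩ := hb i
  obtain ⟨P, q, p', sq⟩ := (hφ i).1 ψ
  obtain ⟨p, rfl⟩ := (AlgSp.yon S).map_surjective p'
  haveI : Etale q.left := (hφ i).2 ψ _ q sq
  haveI : Etale p.left := hψ.2 (φ i) _ p sq.flip
  obtain ⟨z, hz1, hz2⟩ := Groth.Agent.S10176.exists_point_of_isPullback_yon sq u v hu
  obtain ⟨U', hU', hzU'⟩ : ∃ U' : (U i).left.Opens, IsAffineOpen U' ∧ p.left z ∈ U' := by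
    obtain ⟨_, ⟨U', hU', rfl⟩, hzU', -⟩ :=
      (U i).left.isBasis_affineOpens.exists_subset_of_mem_open
        (Set.mem_univ (p.left z)) isOpen_univ
    exact ⟨U', hU', hzU'⟩
  obtain ⟨W', hW', hzW', hle⟩ : ∃ W' : P.left.Opens, IsAffineOpen W' ∧ z ∈ W' ∧
      W' ≤ p.left ⁻¹ᵁ U' := by
    obtain ⟨_, ⟨W', hW', rfl⟩, hzW', hle⟩ :=
      P.left.isBasis_affineOpens.exists_subset_of_mem_open hzU' (p.left ⁻¹ᵁ U').2
    exact ⟨W', hW', hzW', hle⟩
  let incl : Over.mk (W'.ι ≫ P.hom) ⟶ P := Over.homMk W'.ι rfl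
  haveI : IsAffine (W' : Scheme.{u}) := hW'
  haveI : IsAffine (U' : Scheme.{u}) := hU'
  obtain ⟨N, hN⟩ := exists_fibDegLE_of_etale_of_isAffine (p.left.resLE U' W' hle)
  have hfac : (incl ≫ p).left = p.left.resLE U' W' hle ≫ U'.ι := by
    rw [Scheme.Hom.resLE_comp_ι]; rfl
  have hm : FibDegLE (1 * N * 1) (incl ≫ p).left := by
    rw [hfac]
    exact hN.comp (fibDegLE_of_isOpenImmersion _)
  have hfinal := degFibresLE_comp_of_fibDegLE X (incl ≫ p) (φ i) hm hn
  refine ⟨Over.mk (W'.ι ≫ P.hom), incl ≫ q, n * (1 * N * 1) * n, ?_, ?_, ?_⟩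
  · change Etale (W'.ι ≫ q.left)
    infer_instance
  · exact ⟨⟨z, hzW'⟩, hz2⟩
  · have : (AlgSp.yon S).map (incl ≫ q) ≫ ψ = (AlgSp.yon S).map (incl ≫ p) ≫ φ i := by
      rw [Functor.map_comp, Functor.map_comp, Category.assoc, Category.assoc, sq.w]
    rw [this]
    exact hfinal

/-- For an algebraic space X over a scheme S, if there are etale morphisms U_i ⟶ X from schemes with ∐
U_i ⟶ X surjective and each U_i ⟶ X with universally bounded fibres, then every etale morphism U ⟶ X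
from an affine scheme has universally bounded fibres (the converse implication is immediate). -/
theorem result {S : Scheme.{u}} (X : AlgSp.Space S) {ι : Type u} (U : ι → Over S)
    (φ : ∀ i, (AlgSp.yon S).obj (U i) ⟶ X.obj) (hφ : ∀ i, AlgSp.RepWith @Etale (φ i))
    (hsurj : ∀ x : AlgSp.Points X.obj, ∃ (i : ι) (v : ↥(U i).left), AlgSp.Points.ofPt (φ i) v = x)
    (hb : ∀ i, W4dec.HasUnivBddFibres (φ i)) {V : Over S} [IsAffine V.left] (ψ : (AlgSp.yon S).obj V ⟶ X.obj)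
    (hψ : AlgSp.RepWith @Etale ψ) : W4dec.HasUnivBddFibres ψ := by
  choose W a M ha hva hM using exists_local X U φ hφ hsurj hb ψ hψ
  have hcover : (Set.univ : Set ↥V.left) ⊆ ⋃ v, Set.range (a v).left := fun v _ =>
    Set.mem_iUnion.2 ⟨v, hva v⟩
  obtain ⟨t, ht⟩ := isCompact_univ.elim_finite_subcover _
    (fun v => (a v).left.isOpenMap.isOpen_range) hcover
  haveI : ∀ j : t, Flat (a j.1).left := fun j => inferInstance
  refine ⟨∑ j : t, M j.1, degFibresLE_of_family (fun j : t => W j.1) (fun j => a j.1) ?_ ψ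
    (fun j => M j.1) (fun j => hM j.1)⟩
  intro v
  obtain ⟨j, hj, w, hw⟩ := Set.mem_iUnion₂.1 (ht (Set.mem_univ v))
  exact ⟨⟨j, hj⟩, w, hw⟩

end Groth.Agent.S10429
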