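import Groth.Statements.S10431
import Mathlib
import Groth.Agent.S10177
import Groth.Agent.S10425
import Groth.Agent.S10429

set_option autoImplicit false
set_option linter.style.haveILetI false
universe u
open CategoryTheory CategoryTheory.Limits AlgebraicGeometry Topology TopologicalSpace
open AlgSp

namespace Groth.Agent.S10431

/-- points of a fibre product whose corner and one leg are schemes. -/
lemma exists_point_of_isPullback_mixed {S : Scheme.{u}} {F G : AlgSp.Sp S} {W T : Over S}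
    {f : F ⟶ G} {g : (AlgSp.yon S).obj T ⟶ G} {fst : (AlgSp.yon S).obj W ⟶ F} {w : W ⟶ T}
    (sq : IsPullback fst ((AlgSp.yon S).map w) f g) (x : AlgSp.Points F) (t : ↥T.left)
    (e : AlgSp.Points.map f x = AlgSp.Points.ofPt g t) :
    ∃ y : ↥W.left, AlgSp.Points.ofPt fst y = x ∧ w.left y = t := by
  rw [AlgSp.Points.ofPt_eq_map_ofScheme g] at e
  obtain ⟨p, hp1, hp2⟩ := Groth.Agent.S10175.exists_point_of_isPullback sq.flip _ x e.symm
  obtain ⟨y, rfl⟩ := (AlgSp.Points.schemeHomeo W).surjective p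
  refine ⟨y, ?_, ?_⟩
  · rw [AlgSp.Points.ofPt_eq_map_ofScheme]; exact hp2
  · apply (AlgSp.Points.schemeHomeo T).injective
    rw [← AlgSp.Points.map_yon_map_apply]
    exact hp1

/-- Let S be a scheme, X and Y algebraic spaces over S, and X ⟶ Y a representable morphism. If every
etale morphism from an affine scheme to Y has universally bounded fibres, then so does every etale
morphism from an affine scheme to X. -/
theorem result {S : Scheme.{u}} {X Y : AlgSp.Space S} (f : X ⟶ Y)
    (hf : AlgSp.Representable f.hom)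
    (hY : ∀ (V : Over S) (ψ : (AlgSp.yon S).obj V ⟶ Y.obj), IsAffine V.left → AlgSp.RepWith @Etale ψ → W4dec.HasUnivBddFibres ψ)
    (U : Over S) (φ : (AlgSp.yon S).obj U ⟶ X.obj) (hU : IsAffine U.left) (hφ : AlgSp.RepWith @Etale φ) :
    W4dec.HasUnivBddFibres φ := by
  obtain ⟨V, p, hp1, hp2⟩ := Y.property.atlas
  -- the affine opens of the atlas
  let VA : V.left.affineOpens → Over S := fun A => Over.mk (A.1.ι ≫ V.hom)
  let jA : ∀ A : V.left.affineOpens, VA A ⟶ V := fun A => Over.homMk A.1.ι rfl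
  let pA : ∀ A : V.left.affineOpens, (AlgSp.yon S).obj (VA A) ⟶ Y.obj := fun A =>
    (AlgSp.yon S).map (jA A) ≫ p
  have hpA : ∀ A, AlgSp.RepWith @Etale (pA A) := fun A =>
    (AlgSp.RepWith @Etale).comp_mem _ _
      ((AlgSp.repWith_yon_map_iff @Etale (jA A)).2 (by change Etale A.1.ι; infer_instance)) hp1
  have hbA : ∀ A, W4dec.HasUnivBddFibres (pA A) := fun A =>
    hY (VA A) (pA A) A.2 (hpA A)
  choose W w φA sq using fun A : V.left.affineOpens => hf (pA A)
  have hφA : ∀ A, AlgSp.RepWith @Etale (φA A) := fun A =>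
    MorphismProperty.of_isPullback (P := AlgSp.RepWith @Etale) (sq A).flip (hpA A)
  have hbφA : ∀ A, W4dec.HasUnivBddFibres (φA A) := fun A =>
    Groth.Agent.S10425.result f hf (pA A) (hbA A) ((AlgSp.yon S).map (w A)) (φA A) (sq A).flip
  haveI := hU
  refine Groth.Agent.S10429.result X W φA hφA ?_ hbφA φ hφ
  intro x
  obtain ⟨v, hv⟩ := Groth.Agent.S10177.surjective_ofPt p hp2 (AlgSp.Points.map f.hom x)
  obtain ⟨A, hA, hvA⟩ : ∃ A : V.left.Opens, IsAffineOpen A ∧ v ∈ A := by
    obtain ⟨_, ⟨A, hA, rfl⟩, hvA, -⟩ :=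
      V.left.isBasis_affineOpens.exists_subset_of_mem_open (Set.mem_univ v) isOpen_univ
    exact ⟨A, hA, hvA⟩
  have e : AlgSp.Points.map f.hom x = AlgSp.Points.ofPt (pA ⟨A, hA⟩) ⟨v, hvA⟩ := by
    rw [← hv, Groth.Agent.S10176.ofPt_map_comp]
    rfl
  obtain ⟨y, hy, -⟩ := exists_point_of_isPullback_mixed (sq ⟨A, hA⟩) x ⟨v, hvA⟩ e
  exact ⟨⟨A, hA⟩, y, hy⟩

end Groth.Agent.S10431
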