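import Groth.Statements.S10432
import Mathlib
import Groth.Agent.S9928
import Groth.Agent.S10177
import Groth.Agent.S10429

set_option autoImplicit false
set_option linter.style.haveILetI false
universe u
open CategoryTheory CategoryTheory.Limits AlgebraicGeometry Topology TopologicalSpace
open AlgSp

namespace Groth.Agent.S10432

open Groth.Agent.R2.H46.FinField Groth.Agent.R2.H46.UBF

variable {S : Scheme.{u}}

/-- a degree bound for `a : h_U ⟶ F` gives the same bound after composing with an open immersion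
`F ⟶ G`. -/
lemma degFibresLE_comp_openImm {F G : AlgSp.Sp S} (j : F ⟶ G)
    (hj : AlgSp.RepWith @IsOpenImmersion j) {U : Over S} (a : (AlgSp.yon S).obj U ⟶ F) {n : ℕ}
    (h : W4dec.DegFibresLE n a) : W4dec.DegFibresLE n (a ≫ j) := by
  intro q T c snd' sq
  obtain ⟨T₀, c₀, fst₀, sq₀⟩ := hj.1 q.toHom
  haveI : IsOpenImmersion c₀.left := hj.2 _ _ c₀ sq₀
  have hcomm : (snd' ≫ a) ≫ j = (AlgSp.yon S).map c ≫ q.toHom := by
    rw [Category.assoc]; exact sq.w.symm
  obtain ⟨l₀, hl₀⟩ := (AlgSp.yon S).map_surjective (sq₀.lift _ _ hcomm)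
  have hl1 : (AlgSp.yon S).map l₀ ≫ fst₀ = snd' ≫ a := by
    rw [hl₀]; exact sq₀.lift_fst _ _ _
  have hl2 : (AlgSp.yon S).map l₀ ≫ (AlgSp.yon S).map c₀ = (AlgSp.yon S).map c := by
    rw [hl₀]; exact sq₀.lift_snd _ _ _
  by_cases hT : IsEmpty ↥T.left
  · exact degLE_of_isEmpty c.left n
  rw [not_isEmpty_iff] at hT
  obtain ⟨t⟩ := hT
  haveI : Surjective c₀.left := ⟨fun y =>
    ⟨l₀.left t, (inferInstance : Subsingleton (PrimeSpectrum q.K)).elim _ _⟩⟩
  haveI : IsIso c₀.left := (isIso_iff_isOpenImmersion_and_surjective _).2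
    ⟨inferInstance, inferInstance⟩
  haveI : IsIso ((Over.forget S).map c₀) := by change IsIso c₀.left; infer_instance
  haveI : IsIso c₀ := isIso_of_reflects_iso c₀ (Over.forget S)
  have top : IsPullback snd' ((AlgSp.yon S).map l₀) a fst₀ :=
    IsPullback.of_bot (by rw [hl2]; exact sq.flip) hl1.symm sq₀
  have sqρ : IsPullback ((AlgSp.yon S).map c) snd' ((AlgSp.yon S).map (inv c₀) ≫ fst₀) a := by
    refine IsPullback.of_iso top.flip (Iso.refl _) ((AlgSp.yon S).mapIso (asIso c₀)) (Iso.refl _)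
      (Iso.refl _) ?_ ?_ ?_ ?_
    · simpa using hl2
    · simp
    · simp only [Iso.refl_hom, Category.comp_id, Functor.mapIso_hom, asIso_hom]
      rw [← Category.assoc, ← Functor.map_comp, IsIso.hom_inv_id]
      erw [(AlgSp.yon S).map_id T₀]
      rw [Category.id_comp]
    · simp
  exact degLE_of_degFibresLE h q.str _ c snd' sqρ

lemma repWith_mono' {P P' : MorphismProperty Scheme.{u}} (h : P ≤ P') {F G : AlgSp.Sp S}
    {f : F ⟶ G} (hf : AlgSp.RepWith P f) : AlgSp.RepWith P' f :=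
  ⟨hf.1, fun _ _ g fst snd BC => h _ (hf.2 g fst snd BC)⟩

/-- Let X be an algebraic space over a scheme S with a Zariski covering by open subspaces X_i ⟶ X such
that every etale morphism from an affine scheme to X_i has universally bounded fibres. Then every
etale morphism from an affine scheme to X has universally bounded fibres. -/
theorem result {S : Scheme.{u}} (X : AlgSp.Space S) {ι : Type u}
    (Xi : ι → AlgSp.Space S) (j : ∀ i, Xi i ⟶ X) (hj : AlgSp.IsZarCover (fun i => (Xi i).obj) (fun i => (j i).hom))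
    (h : ∀ (i : ι) (V : Over S) (ψ : (AlgSp.yon S).obj V ⟶ (Xi i).obj), IsAffine V.left → AlgSp.RepWith @Etale ψ → W4dec.HasUnivBddFibres ψ)
    (U : Over S) (φ : (AlgSp.yon S).obj U ⟶ X.obj) (hU : IsAffine U.left) (hφ : AlgSp.RepWith @Etale φ) :
    W4dec.HasUnivBddFibres φ := by
  obtain ⟨hjo, hjs⟩ := hj
  choose V p hp1 hp2 using fun i => (Xi i).property.atlas
  let VA : (Σ i, (V i).left.affineOpens) → Over S := fun k => Over.mk (k.2.1.ι ≫ (V k.1).hom)
  let jA : ∀ k : (Σ i, (V i).left.affineOpens), VA k ⟶ V k.1 := fun k => Over.homMk k.2.1.ι rfl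
  let pA : ∀ k : (Σ i, (V i).left.affineOpens), (AlgSp.yon S).obj (VA k) ⟶ (Xi k.1).obj :=
    fun k => (AlgSp.yon S).map (jA k) ≫ p k.1
  have hpA : ∀ k, AlgSp.RepWith @Etale (pA k) := fun k =>
    (AlgSp.RepWith @Etale).comp_mem _ _
      ((AlgSp.repWith_yon_map_iff @Etale (jA k)).2 (by change Etale k.2.1.ι; infer_instance))
      (hp1 k.1)
  have hbA : ∀ k, W4dec.HasUnivBddFibres (pA k) := fun k =>
    h k.1 (VA k) (pA k) k.2.2 (hpA k)
  have hφA : ∀ k, AlgSp.RepWith @Etale (pA k ≫ (j k.1).hom) := fun k =>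
    (AlgSp.RepWith @Etale).comp_mem _ _ (hpA k)
      (repWith_mono' (fun _ _ g hg => by haveI : IsOpenImmersion g := hg; infer_instance)
        (hjo k.1))
  have hbφA : ∀ k, W4dec.HasUnivBddFibres (pA k ≫ (j k.1).hom) := fun k => by
    obtain ⟨n, hn⟩ := hbA k
    exact ⟨n, degFibresLE_comp_openImm _ (hjo k.1) _ hn⟩
  haveI := hU
  refine Groth.Agent.S10429.result X VA (fun k => pA k ≫ (j k.1).hom) hφA ?_ hbφA φ hφ
  intro x
  obtain ⟨i, xi, rfl⟩ := hjs x
  obtain ⟨v, hv⟩ := Groth.Agent.S10177.surjective_ofPt (p i) (hp2 i) xi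
  obtain ⟨A, hA, hvA⟩ : ∃ A : (V i).left.Opens, IsAffineOpen A ∧ v ∈ A := by
    obtain ⟨_, ⟨A, hA, rfl⟩, hvA, -⟩ :=
      (V i).left.isBasis_affineOpens.exists_subset_of_mem_open (Set.mem_univ v) isOpen_univ
    exact ⟨A, hA, hvA⟩
  refine ⟨⟨i, ⟨A, hA⟩⟩, ⟨v, hvA⟩, ?_⟩
  rw [← hv, AlgSp.Points.map_ofPt]
  change AlgSp.Points.ofPt (((AlgSp.yon S).map (jA ⟨i, ⟨A, hA⟩⟩) ≫ p i) ≫ (j i).hom) ⟨v, hvA⟩ = _
  rw [Category.assoc, Groth.Agent.S10176.ofPt_map_comp]
  rfl

end Groth.Agent.S10432
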