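import Groth.Statements.S10433
import Groth.Agent.R2.H93FibDegSp
import Groth.Agent.R2.H48RedInduced

set_option autoImplicit false
universe u
open CategoryTheory CategoryTheory.Limits AlgebraicGeometry Topology TopologicalSpace
open AlgSp

namespace Groth.Agent.S10433

/-- Let S be a scheme, X an algebraic space over S, W a scheme over S, and W ⟶ X a morphism which is
flat, separated, locally of finite presentation and locally quasi-finite, with universally bounded
fibres. Then X has closed subspaces, each reduced, ∅ = Z_{-1} ⊆ Z_0 ⊆ ⋯ ⊆ Z_n with |Z_n| = |X| such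
that, putting X_r = Z_r ∖ Z_{r-1}, for every morphism g : T ⟶ X the second projection W ×_X T ⟶ T is
a finite locally free morphism of degree r exactly when g(|T|) ⊆ |X_r|. (Indexing: Zs 0 = Z_{-1}, Zs
(r+1) = Z_r.) -/
theorem result {S : Scheme.{u}} (X : AlgSp.Space S) {W : Over S}
    (w : (AlgSp.yon S).obj W ⟶ X.obj) (hfl : AlgSp.RepWith @Flat w) (hfp : AlgSp.RepWith @LocallyOfFinitePresentation w)
    (hsep : AlgSp.RepWith @IsSeparated w) (hqf : AlgSp.RepWith @LocallyQuasiFinite w) (hb : W4dec.HasUnivBddFibres w) :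
    ∃ (n : ℕ) (Zs : ℕ → AlgSp.Space S) (i : ∀ r, Zs r ⟶ X),
      (∀ r, AlgSp.IsRedInduced (Set.range (AlgSp.Points.map (i r).hom)) (i r).hom) ∧
      IsEmpty (AlgSp.Points (Zs 0).obj) ∧ Set.range (AlgSp.Points.map (i (n + 1)).hom) = Set.univ ∧
      (∀ r, Set.range (AlgSp.Points.map (i r).hom) ⊆ Set.range (AlgSp.Points.map (i (r + 1)).hom)) ∧
      ∀ (r : ℕ) (T : AlgSp.Space S) (g : T ⟶ X) (P : AlgSp.Sp S) (fst : P ⟶ (AlgSp.yon S).obj W) (snd : P ⟶ T.obj),
        IsPullback fst snd w g.hom →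
          (AlgSp.IsFinLocFreeOfDegMor r snd ↔
            Set.range (AlgSp.Points.map g.hom) ⊆
              Set.range (AlgSp.Points.map (i (r + 1)).hom) \ Set.range (AlgSp.Points.map (i r).hom)) := by
  classical
  obtain ⟨n, hn⟩ := hb
  have hw : Groth.Agent.R2.H93.FibDegSp.Hyp w := ⟨hfl, hfp, hsep, hqf⟩
  have hX : AlgSp.IsAlgSpace X.obj := X.property
  have hcl : ∀ k, IsClosed (Groth.Agent.R2.H93.FibDegSp.DegGE w k)ᶜ := fun k =>
    (Groth.Agent.R2.H93.FibDegSp.isOpen_DegGE hX hw k).isClosed_compl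
  choose Z i hZ hi using fun k =>
    Groth.Agent.R2.H48.RedInduced.exists_isRedInduced hX _ (hcl k)
  have hrange : ∀ k, Set.range (AlgSp.Points.map (i k)) =
      (Groth.Agent.R2.H93.FibDegSp.DegGE w k)ᶜ := fun k => (hi k).2.1
  refine ⟨n, fun k => ⟨Z k, hZ k⟩, fun k => ObjectProperty.homMk (i k), ?_, ?_, ?_, ?_, ?_⟩
  · intro k
    exact ⟨(hi k).1, rfl, (hi k).2.2⟩
  · constructor
    intro z
    have hz : AlgSp.Points.map (i 0) z ∈ Set.range (AlgSp.Points.map (i 0)) := ⟨z, rfl⟩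
    rw [hrange 0, Groth.Agent.R2.H93.FibDegSp.DegGE_zero hX hw] at hz
    exact hz trivial
  · show Set.range (AlgSp.Points.map (i (n + 1))) = Set.univ
    rw [hrange, Groth.Agent.R2.H93.FibDegSp.DegGE_eq_empty_of_bdd hX hw n hn, Set.compl_empty]
  · intro k
    show Set.range (AlgSp.Points.map (i k)) ⊆ Set.range (AlgSp.Points.map (i (k + 1)))
    rw [hrange, hrange, Set.compl_subset_compl]
    exact Groth.Agent.R2.H93.FibDegSp.DegGE_antitone w (Nat.le_succ k)
  · intro r T g P fst snd sq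
    show _ ↔ Set.range (AlgSp.Points.map g.hom) ⊆
      Set.range (AlgSp.Points.map (i (r + 1))) \ Set.range (AlgSp.Points.map (i r))
    rw [hrange, hrange, Groth.Agent.R2.H93.FibDegSp.isFinLocFreeOfDegMor_iff hX hw r g.hom fst snd sq]
    have : (Groth.Agent.R2.H93.FibDegSp.DegGE w (r + 1))ᶜ \
        (Groth.Agent.R2.H93.FibDegSp.DegGE w r)ᶜ =
        Groth.Agent.R2.H93.FibDegSp.DegGE w r \ Groth.Agent.R2.H93.FibDegSp.DegGE w (r + 1) := by
      ext x
      simp only [Set.mem_sdiff, Set.mem_compl_iff, not_not]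
      tauto
    rw [this]

end Groth.Agent.S10433
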