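import Groth.Statements.S10441
import Groth.Agent.R2.H93ElemNbhd4

set_option autoImplicit false
universe u
open CategoryTheory CategoryTheory.Limits AlgebraicGeometry Topology TopologicalSpace
open AlgSp

namespace Groth.Agent.S10441

/-- For a decent algebraic space X over a scheme S and x ∈ |X|, fix an elementary etale neighbourhood
(U₀, u₀) of (X, x) and a henselization R of O_{U₀, u₀} (a model of the henselian local ring at x).
The following are equivalent: (1) O_{U, u} has exactly one minimal prime whenever (U, u) is an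
elementary etale neighbourhood of (X, x); (2) a unique irreducible component of U passes through u
for all such (U, u); (3) O_{U, u} is unibranch for all such (U, u); (4) R has exactly one minimal
prime. -/
theorem result {S : Scheme.{u}} (X : AlgSp.Space S)
    (hX : AlgSp.IsDecent X.obj) (x : AlgSp.Points X.obj) {U₀ : Over S}
    (a₀ : (AlgSp.yon S).obj U₀ ⟶ X.obj) (u₀ : ↥U₀.left) (h₀ : AlgSp.IsElemEtaleNbhd a₀ u₀ x)
    (R : Type u) [CommRing R] [IsLocalRing R] [Algebra ↥(U₀.left.presheaf.stalk u₀) R]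
    [IsLocalHom (algebraMap ↥(U₀.left.presheaf.stalk u₀) R)] [Hensel.IsHenselization ↥(U₀.left.presheaf.stalk u₀) R] :
    ((∀ (U : Over S) (a : (AlgSp.yon S).obj U ⟶ X.obj) (u : ↥U.left), AlgSp.IsElemEtaleNbhd a u x →
        CAlgX.HasUniqueMinimalPrime ↥(U.left.presheaf.stalk u)) ↔
      (∀ (U : Over S) (a : (AlgSp.yon S).obj U ⟶ X.obj) (u : ↥U.left), AlgSp.IsElemEtaleNbhd a u x →
        {Z : Set ↥U.left | Z ∈ irreducibleComponents ↥U.left ∧ u ∈ Z}.encard = 1)) ∧
    ((∀ (U : Over S) (a : (AlgSp.yon S).obj U ⟶ X.obj) (u : ↥U.left), AlgSp.IsElemEtaleNbhd a u x →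
        {Z : Set ↥U.left | Z ∈ irreducibleComponents ↥U.left ∧ u ∈ Z}.encard = 1) ↔
      (∀ (U : Over S) (a : (AlgSp.yon S).obj U ⟶ X.obj) (u : ↥U.left), AlgSp.IsElemEtaleNbhd a u x →
        CAlg2.IsUnibranch ↥(U.left.presheaf.stalk u))) ∧
    ((∀ (U : Over S) (a : (AlgSp.yon S).obj U ⟶ X.obj) (u : ↥U.left), AlgSp.IsElemEtaleNbhd a u x →
        CAlg2.IsUnibranch ↥(U.left.presheaf.stalk u)) ↔ CAlgX.HasUniqueMinimalPrime R) := by
  classical
  -- pointwise comparison of minimal primes and irreducible components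
  have hpt : ∀ (U : Over S) (u : ↥U.left),
      CAlgX.HasUniqueMinimalPrime ↥(U.left.presheaf.stalk u) ↔
        {Z : Set ↥U.left | Z ∈ irreducibleComponents ↥U.left ∧ u ∈ Z}.encard = 1 := by
    intro U u
    rw [Groth.Agent.R2.H93.ElemNbhd.hasUniqueMinimalPrime_iff_encard,
      Groth.Agent.R2.H93.MinPrimes.encard_irreducibleComponents_through]
  -- unibranch at every neighbourhood iff `R` has a unique minimal prime
  have h34 : (∀ (U : Over S) (a : (AlgSp.yon S).obj U ⟶ X.obj) (u : ↥U.left),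
      AlgSp.IsElemEtaleNbhd a u x → CAlg2.IsUnibranch ↥(U.left.presheaf.stalk u)) ↔
      CAlgX.HasUniqueMinimalPrime R := by
    constructor
    · intro H
      exact (Groth.Agent.R2.H93.ElemNbhd.isUnibranch_iff x a₀ a₀ u₀ u₀ h₀ h₀ R).mp (H U₀ a₀ u₀ h₀)
    · intro H U a u h
      exact (Groth.Agent.R2.H93.ElemNbhd.isUnibranch_iff x a a₀ u u₀ h h₀ R).mpr H
  -- unique minimal primes at every neighbourhood iff `R` has a unique minimal prime
  have h14 : (∀ (U : Over S) (a : (AlgSp.yon S).obj U ⟶ X.obj) (u : ↥U.left),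
      AlgSp.IsElemEtaleNbhd a u x → CAlgX.HasUniqueMinimalPrime ↥(U.left.presheaf.stalk u)) ↔
      CAlgX.HasUniqueMinimalPrime R := by
    constructor
    · intro H
      rw [Groth.Agent.R2.H93.ElemNbhd.hasUniqueMinimalPrime_iff_encard]
      have h1 : 1 ≤ (minimalPrimes R).encard :=
        Groth.Agent.R2.H93.ElemNbhd.one_le_encard_minimalPrimes R
      by_contra hne
      have h2 : ((2 : ℕ) : ℕ∞) ≤ (minimalPrimes R).encard := by
        have hlt : 1 < (minimalPrimes R).encard := lt_of_le_of_ne h1 (Ne.symm hne)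
        have h3 := Order.add_one_le_of_lt hlt
        have h4 : ((2 : ℕ) : ℕ∞) = 1 + 1 := by norm_num
        rw [h4]
        exact h3
      obtain ⟨U, a, u, h, hcount⟩ :=
        Groth.Agent.R2.H93.ElemNbhd.exists_isElemEtaleNbhd_le_encard x a₀ u₀ h₀ R 2 h2
      have := (Groth.Agent.R2.H93.ElemNbhd.hasUniqueMinimalPrime_iff_encard _).mp (H U a u h)
      rw [this] at hcount
      norm_num at hcount
    · intro H U a u h
      rw [Groth.Agent.R2.H93.ElemNbhd.hasUniqueMinimalPrime_iff_encard] at H ⊢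
      have h1 := Groth.Agent.R2.H93.ElemNbhd.encard_minimalPrimes_le x a a₀ u u₀ h h₀ R
      rw [H] at h1
      exact le_antisymm h1 (Groth.Agent.R2.H93.ElemNbhd.one_le_encard_minimalPrimes _)
  have h12 : (∀ (U : Over S) (a : (AlgSp.yon S).obj U ⟶ X.obj) (u : ↥U.left),
      AlgSp.IsElemEtaleNbhd a u x → CAlgX.HasUniqueMinimalPrime ↥(U.left.presheaf.stalk u)) ↔
      (∀ (U : Over S) (a : (AlgSp.yon S).obj U ⟶ X.obj) (u : ↥U.left),
        AlgSp.IsElemEtaleNbhd a u x →
        {Z : Set ↥U.left | Z ∈ irreducibleComponents ↥U.left ∧ u ∈ Z}.encard = 1) := by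
    constructor
    · intro H U a u h
      exact (hpt U u).mp (H U a u h)
    · intro H U a u h
      exact (hpt U u).mpr (H U a u h)
  refine ⟨h12, ?_, h34⟩
  rw [← h12, h14, h34]

end Groth.Agent.S10441
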