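import Groth.Statements.S10442
import Groth.Agent.R2.H93ElemNbhd4

set_option autoImplicit false
universe u
open CategoryTheory CategoryTheory.Limits AlgebraicGeometry Topology TopologicalSpace
open AlgSp

namespace Groth.Agent.S10442

/-- For a decent algebraic space X over a scheme S, x ∈ |X| and n ≥ 1, fix an elementary etale
neighbourhood (U₀, u₀) of (X, x) and a henselization R of O_{U₀, u₀} (a model of the henselian local
ring at x). The following are equivalent: (1) over all elementary etale neighbourhoods (U, u) of (X,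
x), O_{U, u} has at most n minimal primes, with the value n attained; (2) the same for the number of
irreducible components of U through u; (3) the same for the branch number of U at u; (4) R has
exactly n minimal primes. -/
theorem result {S : Scheme.{u}} (X : AlgSp.Space S)
    (hX : AlgSp.IsDecent X.obj) (x : AlgSp.Points X.obj) (n : ℕ) (hn : 1 ≤ n) {U₀ : Over S}
    (a₀ : (AlgSp.yon S).obj U₀ ⟶ X.obj) (u₀ : ↥U₀.left) (h₀ : AlgSp.IsElemEtaleNbhd a₀ u₀ x)
    (R : Type u) [CommRing R] [IsLocalRing R] [Algebra ↥(U₀.left.presheaf.stalk u₀) R]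
    [IsLocalHom (algebraMap ↥(U₀.left.presheaf.stalk u₀) R)] [Hensel.IsHenselization ↥(U₀.left.presheaf.stalk u₀) R] :
    (((∀ (U : Over S) (a : (AlgSp.yon S).obj U ⟶ X.obj) (u : ↥U.left), AlgSp.IsElemEtaleNbhd a u x →
        (minimalPrimes ↥(U.left.presheaf.stalk u)).encard ≤ n) ∧
      (∃ (U : Over S) (a : (AlgSp.yon S).obj U ⟶ X.obj) (u : ↥U.left), AlgSp.IsElemEtaleNbhd a u x ∧
        (minimalPrimes ↥(U.left.presheaf.stalk u)).encard = n)) ↔
     ((∀ (U : Over S) (a : (AlgSp.yon S).obj U ⟶ X.obj) (u : ↥U.left), AlgSp.IsElemEtaleNbhd a u x →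
        {Z : Set ↥U.left | Z ∈ irreducibleComponents ↥U.left ∧ u ∈ Z}.encard ≤ n) ∧
      (∃ (U : Over S) (a : (AlgSp.yon S).obj U ⟶ X.obj) (u : ↥U.left), AlgSp.IsElemEtaleNbhd a u x ∧
        {Z : Set ↥U.left | Z ∈ irreducibleComponents ↥U.left ∧ u ∈ Z}.encard = n))) ∧
    (((∀ (U : Over S) (a : (AlgSp.yon S).obj U ⟶ X.obj) (u : ↥U.left), AlgSp.IsElemEtaleNbhd a u x →
        {Z : Set ↥U.left | Z ∈ irreducibleComponents ↥U.left ∧ u ∈ Z}.encard ≤ n) ∧
      (∃ (U : Over S) (a : (AlgSp.yon S).obj U ⟶ X.obj) (u : ↥U.left), AlgSp.IsElemEtaleNbhd a u x ∧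
        {Z : Set ↥U.left | Z ∈ irreducibleComponents ↥U.left ∧ u ∈ Z}.encard = n)) ↔
     ((∀ (U : Over S) (a : (AlgSp.yon S).obj U ⟶ X.obj) (u : ↥U.left), AlgSp.IsElemEtaleNbhd a u x →
        Brnch.numBranchesAt U.left u ≤ n) ∧
      (∃ (U : Over S) (a : (AlgSp.yon S).obj U ⟶ X.obj) (u : ↥U.left), AlgSp.IsElemEtaleNbhd a u x ∧
        Brnch.numBranchesAt U.left u = n))) ∧
    (((∀ (U : Over S) (a : (AlgSp.yon S).obj U ⟶ X.obj) (u : ↥U.left), AlgSp.IsElemEtaleNbhd a u x →
        Brnch.numBranchesAt U.left u ≤ n) ∧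
      (∃ (U : Over S) (a : (AlgSp.yon S).obj U ⟶ X.obj) (u : ↥U.left), AlgSp.IsElemEtaleNbhd a u x ∧
        Brnch.numBranchesAt U.left u = n)) ↔
     (minimalPrimes R).encard = n) := by
  classical
  -- pointwise: irreducible components through `u` and minimal primes of the local ring
  have hpt : ∀ (U : Over S) (u : ↥U.left),
      {Z : Set ↥U.left | Z ∈ irreducibleComponents ↥U.left ∧ u ∈ Z}.encard =
        (minimalPrimes ↥(U.left.presheaf.stalk u)).encard := fun U u =>
    Groth.Agent.R2.H93.MinPrimes.encard_irreducibleComponents_through U.left u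
  -- the number of branches is the number of minimal primes of `R` at every neighbourhood
  have hB : ∀ (U : Over S) (a : (AlgSp.yon S).obj U ⟶ X.obj) (u : ↥U.left),
      AlgSp.IsElemEtaleNbhd a u x → Brnch.numBranchesAt U.left u = (minimalPrimes R).encard :=
    fun U a u h => Groth.Agent.R2.H93.ElemNbhd.numBranchesAt_eq x a a₀ u u₀ h h₀ R
  have hle : ∀ (U : Over S) (a : (AlgSp.yon S).obj U ⟶ X.obj) (u : ↥U.left),
      AlgSp.IsElemEtaleNbhd a u x →
      (minimalPrimes ↥(U.left.presheaf.stalk u)).encard ≤ (minimalPrimes R).encard :=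
    fun U a u h => Groth.Agent.R2.H93.ElemNbhd.encard_minimalPrimes_le x a a₀ u u₀ h h₀ R
  -- the count of minimal primes over all neighbourhoods vs `R`
  have h14 : ((∀ (U : Over S) (a : (AlgSp.yon S).obj U ⟶ X.obj) (u : ↥U.left),
        AlgSp.IsElemEtaleNbhd a u x → (minimalPrimes ↥(U.left.presheaf.stalk u)).encard ≤ n) ∧
      (∃ (U : Over S) (a : (AlgSp.yon S).obj U ⟶ X.obj) (u : ↥U.left),
        AlgSp.IsElemEtaleNbhd a u x ∧ (minimalPrimes ↥(U.left.presheaf.stalk u)).encard = n)) ↔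
      (minimalPrimes R).encard = n := by
    constructor
    · rintro ⟨Hall, U, a, u, h, hn'⟩
      have h1 : (n : ℕ∞) ≤ (minimalPrimes R).encard := hn' ▸ hle U a u h
      by_contra hne
      have hlt : (n : ℕ∞) < (minimalPrimes R).encard := lt_of_le_of_ne h1 (Ne.symm hne)
      have h2 : ((n + 1 : ℕ) : ℕ∞) ≤ (minimalPrimes R).encard := by
        have h3 := Order.add_one_le_of_lt hlt
        have h4 : ((n + 1 : ℕ) : ℕ∞) = (n : ℕ∞) + 1 := by norm_num
        rw [h4]
        exact h3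
      obtain ⟨U', a', u', h', hcount⟩ :=
        Groth.Agent.R2.H93.ElemNbhd.exists_isElemEtaleNbhd_le_encard x a₀ u₀ h₀ R (n + 1) h2
      have h5 := hcount.trans (Hall U' a' u' h')
      have h6 : (n + 1 : ℕ) ≤ n := by exact_mod_cast h5
      omega
    · intro HM
      refine ⟨fun U a u h => HM ▸ hle U a u h, ?_⟩
      obtain ⟨U', a', u', h', hcount⟩ :=
        Groth.Agent.R2.H93.ElemNbhd.exists_isElemEtaleNbhd_le_encard x a₀ u₀ h₀ R n HM.ge
      exact ⟨U', a', u', h', le_antisymm (HM ▸ hle U' a' u' h') hcount⟩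
  have h34 : ((∀ (U : Over S) (a : (AlgSp.yon S).obj U ⟶ X.obj) (u : ↥U.left),
        AlgSp.IsElemEtaleNbhd a u x → Brnch.numBranchesAt U.left u ≤ n) ∧
      (∃ (U : Over S) (a : (AlgSp.yon S).obj U ⟶ X.obj) (u : ↥U.left),
        AlgSp.IsElemEtaleNbhd a u x ∧ Brnch.numBranchesAt U.left u = n)) ↔
      (minimalPrimes R).encard = n := by
    constructor
    · rintro ⟨-, U, a, u, h, hn'⟩
      rw [← hB U a u h]
      exact hn'
    · intro HM
      refine ⟨fun U a u h => ?_, U₀, a₀, u₀, h₀, ?_⟩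
      · rw [hB U a u h, HM]
      · rw [hB U₀ a₀ u₀ h₀, HM]
  have h12 : ((∀ (U : Over S) (a : (AlgSp.yon S).obj U ⟶ X.obj) (u : ↥U.left),
        AlgSp.IsElemEtaleNbhd a u x → (minimalPrimes ↥(U.left.presheaf.stalk u)).encard ≤ n) ∧
      (∃ (U : Over S) (a : (AlgSp.yon S).obj U ⟶ X.obj) (u : ↥U.left),
        AlgSp.IsElemEtaleNbhd a u x ∧ (minimalPrimes ↥(U.left.presheaf.stalk u)).encard = n)) ↔
     ((∀ (U : Over S) (a : (AlgSp.yon S).obj U ⟶ X.obj) (u : ↥U.left), AlgSp.IsElemEtaleNbhd a u x →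
        {Z : Set ↥U.left | Z ∈ irreducibleComponents ↥U.left ∧ u ∈ Z}.encard ≤ n) ∧
      (∃ (U : Over S) (a : (AlgSp.yon S).obj U ⟶ X.obj) (u : ↥U.left), AlgSp.IsElemEtaleNbhd a u x ∧
        {Z : Set ↥U.left | Z ∈ irreducibleComponents ↥U.left ∧ u ∈ Z}.encard = n)) := by
    simp only [hpt]
  refine ⟨h12, ?_, h34⟩
  rw [← h12, h14, h34]

end Groth.Agent.S10442
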