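import Groth.Statements.S10444
import Mathlib
import Groth.Agent.R2.H46FibrePt

set_option autoImplicit false
set_option linter.style.haveILetI false
universe u
open CategoryTheory CategoryTheory.Limits AlgebraicGeometry Topology TopologicalSpace
open AlgSp

namespace Groth.Agent.S10444

open Groth.Agent.R2.H46.FibrePt

/-- Take f : X ⟶ Y locally of finite type between algebraic spaces over a scheme S, a field-valued point
Spec k ⟶ Y whose class y ∈ |Y| lies in the image of |f|, the fibre product X_k = Spec k ×_Y X, and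
the fibre F = |f|⁻¹(y) ⊆ |X| with the induced topology. Numbering the conditions (1) F finite, (2) F
discrete, (3) dim F = 0, (4) |X_k| finite, (5) |X_k| discrete, (6) dim |X_k| = 0, (7) dim X_k = 0,
(8) f quasi-finite at all points over y: (5) ⇔ (7) ⇔ (8); (5) ⇒ (6), with the converse when X_k is
decent; (4) ⇒ (5) when X_k is decent; (4) ⇒ (1); (2) ⇒ (3); if Y is decent then (2) ⇔ (5); if X and
Y are decent then (3) ⇒ (2) and (1) ⇒ (2). (The published statement asserts (5) ⇔ (6) for every f
and (2) ⇔ (3) whenever Y is decent, and does not exclude an empty fibre; for the quotient of the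
affine line over a field of characteristic zero by an infinite cyclic group of translations, mapping
to the point, the space of points is infinite and indiscrete, so (3) and (6) hold while (2) and (5)
fail, and for y outside the image (5) holds while (6) and (7) fail; hence the decency hypotheses on
those two converses and the hypothesis that y is in the image. Finiteness of |X_k| for an arbitrary
field k in the class of y is not derived here from (1).) -/
theorem result {S : Scheme.{u}} {X Y : AlgSp.Space S} (f : X ⟶ Y)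
    (hf : AlgSp.LocP @LocallyOfFiniteType f.hom) (r : AlgSp.FieldPt Y.obj)
    (hy : AlgSp.Points.mk r ∈ Set.range (AlgSp.Points.map f.hom)) (Xk : AlgSp.Space S) (fst : Xk ⟶ X)
    (snd : Xk.obj ⟶ (AlgSp.yon S).obj r.pt) (hsq : IsPullback fst.hom snd f.hom r.toHom) :
    (DiscreteTopology (AlgSp.Points Xk.obj) ↔ AlgSp.dim Xk.obj = 0) ∧
    (AlgSp.dim Xk.obj = 0 ↔
      ∀ x : AlgSp.Points X.obj, AlgSp.Points.map f.hom x = AlgSp.Points.mk r → AlgSp.HasAtMor (fun U _ h u => ∃ W : U.Opens, u ∈ W ∧ LocallyQuasiFinite (W.ι ≫ h) ∧ LocallyOfFiniteType (W.ι ≫ h)) f.hom x) ∧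
    (DiscreteTopology (AlgSp.Points Xk.obj) → topologicalKrullDim (AlgSp.Points Xk.obj) = 0) ∧
    (AlgSp.IsDecent Xk.obj → topologicalKrullDim (AlgSp.Points Xk.obj) = 0 →
      DiscreteTopology (AlgSp.Points Xk.obj)) ∧
    (AlgSp.IsDecent Xk.obj → Finite (AlgSp.Points Xk.obj) → DiscreteTopology (AlgSp.Points Xk.obj)) ∧
    (Finite (AlgSp.Points Xk.obj) → (AlgSp.Points.map f.hom ⁻¹' {AlgSp.Points.mk r}).Finite) ∧
    (DiscreteTopology ↥(AlgSp.Points.map f.hom ⁻¹' {AlgSp.Points.mk r}) → topologicalKrullDim ↥(AlgSp.Points.map f.hom ⁻¹' {AlgSp.Points.mk r}) = 0) ∧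
    (AlgSp.IsDecent Y.obj → (DiscreteTopology ↥(AlgSp.Points.map f.hom ⁻¹' {AlgSp.Points.mk r}) ↔ DiscreteTopology (AlgSp.Points Xk.obj))) ∧
    (AlgSp.IsDecent Y.obj → AlgSp.IsDecent X.obj →
      (topologicalKrullDim ↥(AlgSp.Points.map f.hom ⁻¹' {AlgSp.Points.mk r}) = 0 → DiscreteTopology ↥(AlgSp.Points.map f.hom ⁻¹' {AlgSp.Points.mk r})) ∧
        ((AlgSp.Points.map f.hom ⁻¹' {AlgSp.Points.mk r}).Finite → DiscreteTopology ↥(AlgSp.Points.map f.hom ⁻¹' {AlgSp.Points.mk r}))) := by
  have hch := chartsJN_fibre X.property Y.property hf r hsq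
  have hrange := range_map_fst r hsq
  -- the fibre is nonempty
  obtain ⟨x₀, hx₀⟩ := hy
  have hx₀' : x₀ ∈ Set.range (AlgSp.Points.map fst.hom) := by rw [hrange]; exact hx₀
  obtain ⟨xt₀, hxt₀⟩ := hx₀'
  haveI : Nonempty (AlgSp.Points Xk.obj) := ⟨xt₀⟩
  haveI : Nonempty ↥(AlgSp.Points.map f.hom ⁻¹' {AlgSp.Points.mk r}) := ⟨⟨x₀, hx₀⟩⟩
  have h1 := discreteTopology_iff_dim Xk.property hch
  have h2 := discreteTopology_iff_forall_hasAtMor X.property Y.property Xk.property hf r hsq
  refine ⟨h1, h1.symm.trans h2, fun hd => ?_, fun hd hdim => ?_, fun hd hfin => ?_, fun hfin => ?_,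
    fun hd => ?_, fun hYd => ?_, fun hYd hXd => ?_⟩
  · exact topologicalKrullDim_eq_zero_of_discrete _
  · haveI : T0Space (AlgSp.Points Xk.obj) := Groth.Agent.S10338.result Xk hd
    exact discreteTopology_of_topologicalKrullDim Xk.property hch hdim
  · haveI : T0Space (AlgSp.Points Xk.obj) := Groth.Agent.S10338.result Xk hd
    exact discreteTopology_of_finite Xk.property hch
  · rw [← hrange]
    exact Set.finite_range _
  · exact topologicalKrullDim_eq_zero_of_discrete _
  · exact (discreteTopology_fibre_iff X.property Y.property f.hom hf hYd (AlgSp.Points.mk r)).trans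
      h2.symm
  · haveI : T0Space (AlgSp.Points X.obj) := Groth.Agent.S10338.result X hXd
    exact ⟨discreteTopology_fibre_of_topologicalKrullDim X.property Y.property f.hom hf hYd _,
      discreteTopology_fibre_of_finite X.property Y.property f.hom hf hYd _⟩

end Groth.Agent.S10444
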