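import Groth.Statements.S10448
import Mathlib
import Groth.Agent.R2.H46IntDim
import Groth.Agent.R2.H45Dim
import Groth.Agent.S10175
import Groth.Agent.S10176
import Groth.Agent.S10177

set_option autoImplicit false
set_option linter.style.haveILetI false
universe u
open CategoryTheory CategoryTheory.Limits AlgebraicGeometry Topology TopologicalSpace
open AlgSp

namespace Groth.Agent.S10448

/-- For an integral morphism f : X ⟶ Y of algebraic spaces over a scheme S, the dimension of X is at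
most the dimension of Y. -/
theorem result {S : Scheme.{u}} {X Y : AlgSp.Space S} (f : X ⟶ Y)
    (hf : AlgSp.IsIntegralMor f.hom) : AlgSp.dim X.obj ≤ AlgSp.dim Y.obj := by
  unfold AlgSp.dim
  refine iSup_le fun U => iSup_le fun a => iSup_le fun ha => ?_
  rw [Groth.Agent.R2.H45.Dim.topologicalKrullDim_eq_iSup_stalk]
  refine iSup_le fun u => ?_
  -- an affine etale chart of `Y` through the image of `u`
  obtain ⟨V₀, b₀, hb₀e, hb₀s⟩ := Y.property.atlas
  obtain ⟨v₀, hv₀⟩ := Groth.Agent.S10177.surjective_ofPt b₀ hb₀s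
    (AlgSp.Points.map f.hom (AlgSp.Points.ofPt a u))
  obtain ⟨O, hO, hvO, -⟩ : ∃ V : V₀.left.Opens, V ∈ V₀.left.affineOpens ∧ v₀ ∈ V ∧ V ≤ ⊤ :=
    TopologicalSpace.Opens.isBasis_iff_nbhd.1 V₀.left.isBasis_affineOpens
      (TopologicalSpace.Opens.mem_top v₀)
  let V : Over S := Over.mk (O.ι ≫ V₀.hom)
  let jV : V ⟶ V₀ := Over.homMk O.ι rfl
  obtain ⟨b, hbdef⟩ : ∃ b : (AlgSp.yon S).obj V ⟶ Y.obj, b = (AlgSp.yon S).map jV ≫ b₀ := ⟨_, rfl⟩
  have hbe : AlgSp.RepWith @Etale b := by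
    rw [hbdef]
    exact (AlgSp.RepWith @Etale).comp_mem _ _
      ((AlgSp.repWith_yon_map_iff _ _).2 (inferInstance : Etale O.ι)) hb₀e
  let v : ↥V.left := ⟨v₀, hvO⟩
  have hv : AlgSp.Points.ofPt b v = AlgSp.Points.map f.hom (AlgSp.Points.ofPt a u) := by
    rw [hbdef, Groth.Agent.S10176.ofPt_map_comp]; exact hv₀
  have hVaff : IsAffine V.left := hO
  -- the base change of `f` to `V`
  obtain ⟨W, i, fst, sq, hW, hi⟩ := hf hVaff b
  have hfst : AlgSp.RepWith @Etale fst :=
    MorphismProperty.of_isPullback (P := AlgSp.RepWith @Etale) sq.flip hbe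
  -- a point of `W` over `u` and `v`
  obtain ⟨p, hp1, -⟩ := Groth.Agent.S10175.exists_point_of_isPullback sq
    (AlgSp.Points.ofPt a u) (AlgSp.Points.ofScheme V v) (by
      rw [← AlgSp.Points.ofPt_eq_map_ofScheme]; exact hv.symm)
  obtain ⟨w, rfl⟩ := (AlgSp.Points.schemeHomeo W).surjective p
  have hw : AlgSp.Points.ofPt a u = AlgSp.Points.ofPt fst w := by
    rw [AlgSp.Points.ofPt_eq_map_ofScheme fst]; exact hp1.symm
  -- the fibre product of the two charts of `X`
  obtain ⟨P, pr₂, pr₁', sqP⟩ := ha.1 fst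
  obtain ⟨pr₁, rfl⟩ := (AlgSp.yon S).map_surjective pr₁'
  haveI : Etale pr₂.left := ha.2 fst _ pr₂ sqP
  haveI : Etale pr₁.left := hfst.2 a _ pr₁ sqP.flip
  obtain ⟨ξ, hξ1, hξ2⟩ := Groth.Agent.S10176.exists_point_of_isPullback_yon sqP u w hw
  have e1 := Groth.Agent.R2.H45.Dim.ringKrullDim_stalk_eq_of_etale pr₁.left ξ
  have e2 := Groth.Agent.R2.H45.Dim.ringKrullDim_stalk_eq_of_etale pr₂.left ξ
  rw [hξ1] at e1
  rw [hξ2] at e2
  rw [← e1, e2]
  haveI : IsIntegralHom i.left := hi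
  refine le_trans ?_ (le_iSup₂_of_le V b (le_iSup_of_le hbe le_rfl))
  calc ringKrullDim ↥(W.left.presheaf.stalk w)
      ≤ topologicalKrullDim ↥W.left := by
        rw [Groth.Agent.R2.H45.Dim.topologicalKrullDim_eq_iSup_stalk]
        exact le_iSup (fun x : ↥W.left => ringKrullDim ↥(W.left.presheaf.stalk x)) w
    _ ≤ topologicalKrullDim ↥V.left :=
        Groth.Agent.R2.H46.IntDim.topologicalKrullDim_le_of_isIntegralHom i.left

end Groth.Agent.S10448
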