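import Groth.Statements.S10449
import Mathlib
import Groth.Agent.R2.H46IntDim
import Groth.Agent.R2.H45Dim
import Groth.Agent.S10175
import Groth.Agent.S10176
import Groth.Agent.S10177

set_option autoImplicit false
set_option linter.style.haveILetI false
universe u
open CategoryTheory CategoryTheory.Limits AlgebraicGeometry Topology TopologicalSpace
open AlgSp

namespace Groth.Agent.S10449

/-- For an integral surjective morphism f : X ⟶ Y of algebraic spaces over a scheme S, the dimension of
Y is at most the dimension of X (together with the inequality dim X ≤ dim Y, which holds for every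
integral morphism, the two dimensions are equal). -/
theorem result {S : Scheme.{u}} {X Y : AlgSp.Space S} (f : X ⟶ Y)
    (hf : AlgSp.IsIntegralMor f.hom) (hs : AlgSp.IsSurjectiveMor f.hom) :
    AlgSp.dim Y.obj ≤ AlgSp.dim X.obj := by
  unfold AlgSp.dim
  refine iSup_le fun V₀ => iSup_le fun b₀ => iSup_le fun hb₀e => ?_
  rw [Groth.Agent.R2.H45.Dim.topologicalKrullDim_eq_iSup_stalk]
  refine iSup_le fun v₀ => ?_
  -- an affine open neighbourhood of `v₀`
  obtain ⟨O, hO, hvO, -⟩ : ∃ V : V₀.left.Opens, V ∈ V₀.left.affineOpens ∧ v₀ ∈ V ∧ V ≤ ⊤ :=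
    TopologicalSpace.Opens.isBasis_iff_nbhd.1 V₀.left.isBasis_affineOpens
      (TopologicalSpace.Opens.mem_top v₀)
  let V : Over S := Over.mk (O.ι ≫ V₀.hom)
  let jV : V ⟶ V₀ := Over.homMk O.ι rfl
  obtain ⟨b, hbdef⟩ : ∃ b : (AlgSp.yon S).obj V ⟶ Y.obj, b = (AlgSp.yon S).map jV ≫ b₀ := ⟨_, rfl⟩
  have hbe : AlgSp.RepWith @Etale b := by
    rw [hbdef]
    exact (AlgSp.RepWith @Etale).comp_mem _ _
      ((AlgSp.repWith_yon_map_iff _ _).2 (inferInstance : Etale O.ι)) hb₀e
  let v : ↥V.left := ⟨v₀, hvO⟩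
  have hVaff : IsAffine V.left := hO
  have e0 : ringKrullDim ↥(V.left.presheaf.stalk v) = ringKrullDim ↥(V₀.left.presheaf.stalk v₀) :=
    Groth.Agent.R2.H45.Dim.ringKrullDim_stalk_eq_of_etale O.ι v
  rw [← e0]
  -- the base change of `f` to `V`
  obtain ⟨W, i, fst, sq, hW, hi⟩ := hf hVaff b
  have hfst : AlgSp.RepWith @Etale fst :=
    MorphismProperty.of_isPullback (P := AlgSp.RepWith @Etale) sq.flip hbe
  -- `W ⟶ V` is surjective
  have hsurj : Function.Surjective i.left := by
    intro z
    obtain ⟨x', hx'⟩ := hs (AlgSp.Points.ofPt b z)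
    obtain ⟨p, -, hp2⟩ := Groth.Agent.S10175.exists_point_of_isPullback sq
      x' (AlgSp.Points.ofScheme V z) (by
        rw [← AlgSp.Points.ofPt_eq_map_ofScheme]; exact hx')
    obtain ⟨w, rfl⟩ := (AlgSp.Points.schemeHomeo W).surjective p
    refine ⟨w, ?_⟩
    apply (AlgSp.Points.schemeHomeo V).injective
    rw [← AlgSp.Points.map_yon_map_apply]
    exact hp2
  haveI : IsIntegralHom i.left := hi
  refine le_trans ?_ (le_iSup₂_of_le W fst (le_iSup_of_le hfst le_rfl))
  calc ringKrullDim ↥(V.left.presheaf.stalk v)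
      ≤ topologicalKrullDim ↥V.left := by
        rw [Groth.Agent.R2.H45.Dim.topologicalKrullDim_eq_iSup_stalk]
        exact le_iSup (fun x : ↥V.left => ringKrullDim ↥(V.left.presheaf.stalk x)) v
    _ ≤ topologicalKrullDim ↥W.left :=
        Groth.Agent.R2.H46.IntDim.topologicalKrullDim_le_of_isIntegralHom_of_surjective i.left hsurj

end Groth.Agent.S10449
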