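import Mathlib
import Groth.Statements.S10456
import Groth.Agent.R2.H45CodimOne

set_option autoImplicit false
set_option linter.style.haveILetI false
universe u
open CategoryTheory CategoryTheory.Limits AlgebraicGeometry Topology TopologicalSpace
open AlgSp

namespace Groth.Agent.S10456
open Groth.Agent.R2.H45.HasAtMor Groth.Agent.R2.H45.HasAt Groth.Agent.R2.H45.RelDim
  Groth.Agent.R2.H45.GrpLocus Groth.Agent.R2.H45.CodimOne Groth.Agent.R2.H45.ResTrdeg
  Groth.Agent.Lib.Helper4.DimFormula

/-- Let f : X ⟶ Y be a morphism of algebraic spaces over a scheme S which is locally of finite type,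
with Y locally Noetherian, and let y be a point of Y of codimension at most 1. If the points of |X|
where f is quasi-finite form a dense subset, then every point of X mapping to y is a point where f
is quasi-finite. -/
theorem result {S : Scheme.{u}} {X Y : AlgSp.Space S} (f : X ⟶ Y)
    (hf : AlgSp.LocP @LocallyOfFiniteType f.hom) (hY : AlgSp.IsLocNoethSp Y.obj) (y : AlgSp.Points Y.obj)
    (hy : AlgSp.HasAt (fun U u => ringKrullDim ↥(U.presheaf.stalk u) ≤ 1) Y.obj y)
    (h : Dense {x : AlgSp.Points X.obj | AlgSp.HasAtMor (fun U _ h u => ∃ W : U.Opens, u ∈ W ∧ LocallyQuasiFinite (W.ι ≫ h) ∧ LocallyOfFiniteType (W.ι ≫ h)) f.hom x})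
    (x : AlgSp.Points X.obj) (hx : AlgSp.Points.map f.hom x = y) :
    AlgSp.HasAtMor (fun U _ h u => ∃ W : U.Opens, u ∈ W ∧ LocallyQuasiFinite (W.ι ≫ h) ∧ LocallyOfFiniteType (W.ι ≫ h)) f.hom x := by
  subst hx
  refine hasAtMor_qlqf_of_generic X.property Y.property f.hom hf hY x hy ?_
  intro U V a b h' ha hb comm hlft hN η hmax hsp
  haveI := hlft
  haveI := hN
  have hopen : IsOpen {x : AlgSp.Points X.obj | AlgSp.HasAtMor Qlqf f.hom x} :=
    isOpen_qlqf X.property Y.property f.hom hf
  have hD : Dense (AlgSp.Points.ofPt a ⁻¹' {x : AlgSp.Points X.obj | AlgSp.HasAtMor Qlqf f.hom x}) :=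
    Dense.preimage h (Groth.Agent.S10176.isOpenMap_ofPt a ha)
  have hmem := mem_of_dense_of_maximal _ (hopen.preimage (AlgSp.Points.continuous_ofPt a)) hD η hmax
  exact (hasAtMor_iff_of_diagram_on etSqInvOn_qlqf f.hom hf a b h' ha hb comm η).1 hmem

end Groth.Agent.S10456
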