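import Groth.Statements.S1046
import Groth.Agent.R2.H5RGammaZQCoh

set_option autoImplicit false
universe u
open CategoryTheory CategoryTheory.Limits AlgebraicGeometry
attribute [local instance] HasDerivedCategory.standard
open Perf

namespace Groth.Agent.S1046

/-- Let U ⊆ X be an open subscheme with quasi-compact inclusion and T = X ∖ U. Assuming O_X-modules have
enough injectives (true, not recorded), for every bounded below E ∈ D(O_X) with quasi-coherent
cohomology sheaves, the derived sections with support RΓ_T(E) (right derived functor of F ↦ ker(F →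
j_*(F|_U))) has quasi-coherent cohomology sheaves, all supported on T. -/
theorem result (X : Scheme.{u}) (U : X.Opens) [QuasiCompact U.ι] [EnoughInjectives X.Modules]
    (E : DerivedCategory.Plus X.Modules) (hE : DCoh.IsQCohD E.obj) :
    DCoh.IsQCohD ((DCoh.RgammaZPlus U.ι).obj E).obj ∧
    ∀ i : ℤ, CohB1.support (DCoh.HD ((DCoh.RgammaZPlus U.ι).obj E).obj i) ⊆ (U : Set X)ᶜ := by
  obtain ⟨n, hn⟩ := E.property
  haveI : E.IsGE n := (DerivedCategory.Plus.isGE_ι_obj_iff E n).1 hn
  obtain ⟨L, hL, ⟨e⟩⟩ := DerivedCategory.Plus.exists_injective_nonempty_iso E n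
  let K := (InjectiveObject.ι X.Modules).mapCochainComplexPlus.obj L
  have hinj : ∀ k, Injective (K.obj.X k) := fun k => (L.obj.X k).property
  have hGE : K.obj.IsStrictlyGE n :=
    (CochainComplex.isStrictlyGE_mapHomologicalComplex_obj_iff _ (InjectiveObject.ι _) _).2 hL
  haveI := hGE
  haveI := Groth.Agent.S12229.isIso_τ (DCoh.gammaZ U.ι) K.obj n hGE hinj
  let ε : DerivedCategory.Q.obj
      (((DCoh.gammaZ U.ι).mapHomologicalComplex (ComplexShape.up ℤ)).obj K.obj) ≅
      ((DCoh.RgammaZPlus U.ι).obj E).obj :=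
    asIso (Groth.Agent.S12229.τ (DCoh.gammaZ U.ι) ⟨K.obj, n, hGE⟩) ≪≫
      DerivedCategory.Plus.ι.mapIso ((DCoh.RgammaZPlus U.ι).mapIso e)
  have hK : DCoh.IsQCohD (DerivedCategory.Q.obj K.obj) :=
    Groth.Agent.R2.H5.RGammaZQCoh.isQCohD_of_iso (DerivedCategory.Plus.ι.mapIso e.symm) hE
  have h1 := Groth.Agent.R2.H5.RGammaZQCoh.isQCohD_gammaZ_of_injective U K.obj n hinj hK
  refine ⟨Groth.Agent.R2.H5.RGammaZQCoh.isQCohD_of_iso ε h1, fun i => ?_⟩
  refine Groth.Agent.R2.H28.RGammaZ.support_subset_of_isZero_restrictD U _ ?_ i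
  exact IsZero.of_iso (Groth.Agent.R2.H5.RGammaZQCoh.isZero_restrictD_gammaZ U K.obj)
    ((DCoh.restrictD U.ι).mapIso ε.symm)

end Groth.Agent.S1046
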