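import Groth.Statements.S10466
import Mathlib
import Groth.Agent.R2.H46GeomConn2

set_option autoImplicit false
set_option linter.style.haveILetI false
universe u
open CategoryTheory CategoryTheory.Limits AlgebraicGeometry Topology TopologicalSpace
open AlgSp

namespace Groth.Agent.S10466

open Groth.Agent.Lib.Helper12.FieldBC

/-- the fibre of `X × Y ⟶ Y` over the class of a field point `q` of `Y` is the image of
`X × h_{Spec L}`. -/
lemma preimage_mk_eq_range_snd {S : Scheme.{u}} (X Y : AlgSp.Sp S) (q : AlgSp.FieldPt Y) :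
    AlgSp.Points.map (prod.snd : X ⨯ Y ⟶ Y) ⁻¹' {AlgSp.Points.mk q} =
      Set.range (AlgSp.Points.map (prod.map (𝟙 X) q.toHom)) := by
  have hpt : IsTerminal ((AlgSp.yon S).obj (Over.mk (𝟙 _))) :=
    IsTerminal.isTerminalObj (AlgSp.yon _) _ Over.mkIdTerminal
  have sq := isPullback_prod_map hpt X q.toHom
  ext x'
  constructor
  · intro hx'
    have hx'' : AlgSp.Points.map q.toHom
        (AlgSp.Points.ofScheme q.pt (IsLocalRing.closedPoint q.K)) =
        AlgSp.Points.map (prod.snd : X ⨯ Y ⟶ Y) x' := by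
      rw [← AlgSp.Points.ofPt_eq_map_ofScheme, AlgSp.Points.ofPt_toHom]
      exact hx'.symm
    obtain ⟨p, -, hp2⟩ := Groth.Agent.S10175.exists_point_of_isPullback sq _ _ hx''
    exact ⟨p, hp2⟩
  · rintro ⟨z, rfl⟩
    change AlgSp.Points.map _ _ = _
    rw [← AlgSp.Points.map_comp, prod.map_snd, AlgSp.Points.map_comp]
    obtain ⟨t, ht⟩ := (AlgSp.Points.schemeHomeo q.pt).surjective
      (AlgSp.Points.map (prod.snd : X ⨯ (AlgSp.yon S).obj q.pt ⟶ _) z)
    rw [← ht]
    change AlgSp.Points.map q.toHom (AlgSp.Points.ofScheme q.pt t) = _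
    rw [← AlgSp.Points.ofPt_eq_map_ofScheme, AlgSp.Points.ofPt_toHom]

/-- Let k be a field and X, Y algebraic spaces over k with X geometrically connected over k. Then the
projection X ×_k Y ⟶ Y induces a bijection between connected components of |X ×_k Y| and of |Y|. -/
theorem result (k : Type u) [Field k]
    (X Y : AlgSp.Space (Spec (CommRingCat.of k))) (hX : (∀ (K : Type u) [Field K] [Algebra k K], ConnectedSpace (AlgSp.Points (X.obj ⨯ (AlgSp.yon (Spec (CommRingCat.of k))).obj (Over.mk (Spec.map (CommRingCat.ofHom (algebraMap k K)))))))) :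
    Function.Bijective (Continuous.connectedComponentsMap
      (AlgSp.Points.continuous_map (Limits.prod.snd : X.obj ⨯ Y.obj ⟶ Y.obj))) := by
  have hopen := Groth.Agent.R2.H46.GeomConn2.isOpenMap_map_prod_snd X.property Y.obj
  have hfib : ∀ y : AlgSp.Points Y.obj,
      IsConnected (AlgSp.Points.map (prod.snd : X.obj ⨯ Y.obj ⟶ Y.obj) ⁻¹' {y}) := by
    intro y
    induction y using AlgSp.Points.ind with | h q => ?_
    rw [preimage_mk_eq_range_snd]
    obtain ⟨L, str, val⟩ := q
    obtain ⟨φ, rfl⟩ := Spec.map_surjective str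
    letI : Algebra k L := φ.hom.toAlgebra
    haveI := hX L
    exact isConnected_range (AlgSp.Points.continuous_map _)
  have hsurj : Function.Surjective (AlgSp.Points.map (prod.snd : X.obj ⨯ Y.obj ⟶ Y.obj)) := by
    intro y
    obtain ⟨x, hx⟩ := (hfib y).nonempty
    exact ⟨x, hx⟩
  have hq : Topology.IsQuotientMap (AlgSp.Points.map (prod.snd : X.obj ⨯ Y.obj ⟶ Y.obj)) :=
    hopen.isQuotientMap (AlgSp.Points.continuous_map _) hsurj
  exact hq.isCoinducing.connectedComponentsMap_bijective hfib

end Groth.Agent.S10466
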