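import Groth.Statements.S10468
import Mathlib
import Groth.Agent.S10465
import Groth.Agent.R2.H89SepConn

set_option autoImplicit false
universe u
open CategoryTheory CategoryTheory.Limits AlgebraicGeometry Topology TopologicalSpace
open AlgSp

namespace Groth.Agent.S10468

/-- Let k be a field with separable algebraic closure k̄ and X an algebraic space over k. Then X is
geometrically connected if and only if X_{k̄} is connected. -/
theorem result (k : Type u) [Field k] (X : AlgSp.Space (Spec (CommRingCat.of k)))
    (kbar : Type u) [Field kbar] [Algebra k kbar] [IsSepClosure k kbar] :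
    (∀ (K : Type u) [Field K] [Algebra k K], ConnectedSpace (AlgSp.Points (X.obj ⨯ (AlgSp.yon (Spec (CommRingCat.of k))).obj (Over.mk (Spec.map (CommRingCat.ofHom (algebraMap k K))))))) ↔ ConnectedSpace (AlgSp.Points (X.obj ⨯ (AlgSp.yon (Spec (CommRingCat.of k))).obj (Over.mk (Spec.map (CommRingCat.ofHom (algebraMap k kbar)))))) := by
  constructor
  · intro h
    exact h kbar
  · intro h K _ _
    obtain ⟨Ω, _, _, _, _, ⟨φ⟩⟩ := Groth.Agent.S10465.exists_compositum k K kbar
    have hsc : IsSepClosed kbar := IsSepClosure.sep_closed k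
    let g₁ : Groth.Agent.Lib.Helper12.FieldBC.ptK k Ω ⟶ Groth.Agent.Lib.Helper12.FieldBC.ptK k kbar :=
      Over.homMk (Spec.map (CommRingCat.ofHom (algebraMap kbar Ω))) (by
        change Spec.map _ ≫ Spec.map _ = Spec.map _
        rw [← Spec.map_comp, ← CommRingCat.ofHom_comp, ← IsScalarTower.algebraMap_eq])
    have h1 : ConnectedSpace (AlgSp.Points (X.obj ⨯ (AlgSp.yon (Spec (CommRingCat.of k))).obj
        (Groth.Agent.Lib.Helper12.FieldBC.ptK k Ω))) :=
      Groth.Agent.R2.H89.SepConn.connectedSpace_bc_of_isSepClosed X.obj kbar Ω g₁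
    let g₂ : Groth.Agent.Lib.Helper12.FieldBC.ptK k Ω ⟶ Groth.Agent.Lib.Helper12.FieldBC.ptK k K :=
      Over.homMk (Spec.map (CommRingCat.ofHom φ.toRingHom)) (by
        change Spec.map _ ≫ Spec.map _ = Spec.map _
        rw [← Spec.map_comp, ← CommRingCat.ofHom_comp, AlgHom.toRingHom_eq_coe,
          AlgHom.comp_algebraMap])
    exact (Groth.Agent.Lib.Helper12.FieldBC.surjective_map_prod_map X.obj K Ω g₂).connectedSpace
      (AlgSp.Points.continuous_map _)

end Groth.Agent.S10468
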