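import Groth.Statements.S10482
import Mathlib

set_option autoImplicit false
universe u
open CategoryTheory CategoryTheory.Limits AlgebraicGeometry Topology TopologicalSpace
open AlgSp

namespace Groth.Agent.S10482

/-- A scheme locally of finite type over a field with Krull dimension `≤ 0` is discrete. -/
lemma discreteTopology_of_lft_of_dim_le_zero (k : Type u) [Field k] {Z : Scheme.{u}}
    (f : Z ⟶ Spec (CommRingCat.of k)) [LocallyOfFiniteType f] (h : topologicalKrullDim Z ≤ 0) :
    DiscreteTopology Z := by
  have : IsLocallyNoetherian Z := LocallyOfFiniteType.isLocallyNoetherian f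
  have : IsLocallyArtinian Z := IsLocallyArtinian.of_topologicalKrullDim_le_zero h
  infer_instance

/-- A scheme locally quasi-finite over a field is discrete. -/
lemma discreteTopology_of_lqf (k : Type u) [Field k] {Z : Scheme.{u}}
    (f : Z ⟶ Spec (CommRingCat.of k)) [LocallyQuasiFinite f] : DiscreteTopology Z := by
  rw [← isDiscrete_univ_iff]
  have h := f.isDiscrete_preimage_singleton (IsLocalRing.closedPoint k)
  refine h.mono ?_
  intro z _
  exact Subsingleton.elim _ _

/-- `h_pt` is terminal for `pt = Over.mk (𝟙 S)`. -/
noncomputable def isTerminalYonPt (S : Scheme.{u}) :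
    IsTerminal ((AlgSp.yon S).obj (Over.mk (𝟙 S))) :=
  IsTerminal.isTerminalObj (AlgSp.yon S) _ Over.mkIdTerminal


/-- (1) ⇔ (2): let k be a field and X an algebraic space over k. Then X is locally quasi-finite over k
if and only if X is locally of finite type over k of dimension at most 0. (The published statement
says dimension 0; dimension at most 0 is used so that the empty space, whose dimension is the bottom
element, is covered by both sides.) -/
theorem result (k : Type u) [Field k] (X : AlgSp.Space (Spec (CommRingCat.of k))) (p : X.obj ⟶ (AlgSp.yon (Spec (CommRingCat.of k))).obj (Over.mk (𝟙 _))) :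
    AlgSp.LocP (@LocallyQuasiFinite ⊓ @LocallyOfFiniteType : MorphismProperty Scheme.{u}) p ↔ AlgSp.LocP @LocallyOfFiniteType p ∧ AlgSp.dim X.obj ≤ 0 := by
  -- the canonical diagram of a chart over the point
  have hdiag : ∀ {U : Over (Spec (CommRingCat.of k))}
      (a : (AlgSp.yon (Spec (CommRingCat.of k))).obj U ⟶ X.obj),
      a ≫ p = (AlgSp.yon (Spec (CommRingCat.of k))).map
        (Over.homMk U.hom : U ⟶ Over.mk (𝟙 (Spec (CommRingCat.of k)))) ≫ 𝟙 _ :=
    fun a => (isTerminalYonPt _).hom_ext _ _
  have hid : AlgSp.RepWith @Etale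
      (𝟙 ((AlgSp.yon (Spec (CommRingCat.of k))).obj (Over.mk (𝟙 (Spec (CommRingCat.of k)))))) :=
    AlgSp.repWith_id _ _
  constructor
  · intro H
    refine ⟨fun U V a b h ha hb e => (H a b h ha hb e).2, ?_⟩
    unfold AlgSp.dim
    refine iSup_le fun U => iSup_le fun a => iSup_le fun ha => ?_
    obtain ⟨h1, h2⟩ := H a (𝟙 _) (Over.homMk U.hom) ha hid (hdiag a)
    have h1' : LocallyQuasiFinite U.hom := h1
    have := discreteTopology_of_lqf k U.hom
    exact topologicalKrullDim_zero_of_discreteTopology _
  · rintro ⟨H, hdim⟩ U V a b h ha hb e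
    refine ⟨?_, H a b h ha hb e⟩
    have hft : LocallyOfFiniteType U.hom := H a (𝟙 _) (Over.homMk U.hom) ha hid (hdiag a)
    have hU : topologicalKrullDim ↥U.left ≤ 0 := by
      refine le_trans ?_ hdim
      unfold AlgSp.dim
      exact le_iSup_of_le U (le_iSup_of_le a (le_iSup_of_le ha le_rfl))
    have := discreteTopology_of_lft_of_dim_le_zero k U.hom hU
    have hft' : LocallyOfFiniteType h.left := H a b h ha hb e
    rw [locallyQuasiFinite_iff_isDiscrete_preimage_singleton]
    intro v
    exact (isDiscrete_univ_iff.mpr this).mono (Set.subset_univ _)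

end Groth.Agent.S10482
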