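import Mathlib
import Groth.Statements.S10483
import Groth.Agent.R2.H45ArtQuot
import Groth.Agent.Lib.Helper15Descent
import Groth.Agent.Lib.Helper12LocPGen
import Groth.Agent.S10265

set_option autoImplicit false
set_option linter.style.haveILetI false
universe u
open CategoryTheory CategoryTheory.Limits AlgebraicGeometry Topology TopologicalSpace
open AlgSp

namespace Groth.Agent.S10483

/-- (1) ⇔ (5): let k be a field and X an algebraic space over k. Then X is locally quasi-finite over k
if and only if X decomposes as a disjoint union of spectra of finite-dimensional Artinian local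
k-algebras: X is a scheme every point of which has an affine open neighbourhood with Artinian local
coordinate ring, finite over k. -/
theorem result (k : Type u) [Field k] (X : AlgSp.Space (Spec (CommRingCat.of k))) (p : X.obj ⟶ (AlgSp.yon (Spec (CommRingCat.of k))).obj (Over.mk (𝟙 _))) :
    AlgSp.LocP (@LocallyQuasiFinite ⊓ @LocallyOfFiniteType : MorphismProperty Scheme.{u}) p ↔
      ∃ (U : Over (Spec (CommRingCat.of k))) (_ : (AlgSp.yon (Spec (CommRingCat.of k))).obj U ≅ X.obj), ∀ u : ↥U.left, ∃ V : U.left.Opens,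
        u ∈ V ∧ IsAffineOpen V ∧ IsArtinianRing ↥Γ(U.left, V) ∧ IsLocalRing ↥Γ(U.left, V) ∧
          IsFinite (V.ι ≫ U.hom) := by
  haveI hArt : IsLocallyArtinian (Over.mk (𝟙 (Spec (CommRingCat.of k)))).left := by
    show IsLocallyArtinian (Spec (CommRingCat.of k))
    exact Scheme.isLocallyArtinianScheme_Spec.mpr inferInstance
  haveI hArt' : IsLocallyArtinian (Spec (CommRingCat.of k)) := hArt
  constructor
  · intro hp
    obtain ⟨W, ⟨e⟩⟩ := Groth.Agent.R2.H45.ArtQuot.exists_iso_yon_of_lqf X.property p hp
    refine ⟨W, e, fun u => ?_⟩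
    obtain ⟨g, hg⟩ := (AlgSp.yon _).map_surjective (e.hom ≫ p)
    have hgl : g.left = W.hom := by
      have := Over.w g
      simpa using this
    have hlqf : Groth.Agent.R2.H59.QDesc.lqf g.left := by
      apply AlgSp.locP_yon_map
      rw [hg]
      exact Groth.Agent.Lib.Helper15Descent.locP_precomp_etale _ e.hom p
        (Groth.Agent.Lib.Helper15Descent.repWith_etale_of_isIso e.hom) hp
    rw [hgl] at hlqf
    haveI : LocallyQuasiFinite W.hom := hlqf.1
    haveI : LocallyOfFiniteType W.hom := hlqf.2
    haveI : IsLocallyArtinian W.left := IsLocallyArtinian.of_locallyQuasiFinite W.hom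
    let V : W.left.Opens := ⟨{u}, isOpen_discrete _⟩
    haveI : Subsingleton ↥(V : Scheme.{u}) := inferInstanceAs (Subsingleton ({u} : Set W.left))
    haveI : Finite ↥(V : Scheme.{u}) := Finite.of_subsingleton
    haveI : DiscreteTopology ↥(V : Scheme.{u}) := V.ι.isOpenEmbedding.discreteTopology
    have hV : IsAffineOpen V := (inferInstance : IsAffine (V : Scheme.{u}))
    haveI : IsArtinianRing ↥Γ(W.left, V) :=
      IsLocallyArtinian.isArtinianRing_presheaf_obj ⟨V, hV⟩
    refine ⟨V, rfl, hV, inferInstance, ?_, ?_⟩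
    · haveI : Subsingleton (PrimeSpectrum ↥Γ(W.left, V)) :=
        (hV.isoSpec.inv.homeomorph.injective).subsingleton
      haveI : Nontrivial ↥Γ(W.left, V) :=
        (PrimeSpectrum.nonempty_iff_nontrivial).1 ⟨hV.isoSpec.hom ⟨u, rfl⟩⟩
      obtain ⟨m, hm⟩ := Ideal.exists_maximal ↥Γ(W.left, V)
      exact IsLocalRing.of_unique_max_ideal ⟨m, hm, fun J hJ =>
        congrArg PrimeSpectrum.asIdeal
          (Subsingleton.elim (⟨J, hJ.isPrime⟩ : PrimeSpectrum _) ⟨m, hm.isPrime⟩)⟩
    · haveI : CompactSpace ↥(V : Scheme.{u}) := inferInstance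
      haveI : QuasiCompact (V.ι ≫ W.hom) := inferInstance
      exact IsFinite.of_locallyQuasiFinite (V.ι ≫ W.hom)
  · rintro ⟨U, e, h⟩
    refine Groth.Agent.Lib.Helper15Descent.locP_of_iso_comp _ e p ?_
    obtain ⟨g, hg⟩ := (AlgSp.yon _).map_surjective (e.hom ≫ p)
    have hgl : g.left = U.hom := by
      have := Over.w g
      simpa using this
    rw [← hg]
    choose V hu hVaff hVart hVloc hVfin using h
    have hsup : iSup V = ⊤ := by
      rw [eq_top_iff]
      intro x _
      exact TopologicalSpace.Opens.mem_iSup.2 ⟨x, hu x⟩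
    refine Groth.Agent.Lib.Helper12.LocPGen.locP_yon_map_of Groth.Agent.R2.H59.QDesc.lqf
      (fun g' hg' => ?_) (fun a b hb hab => ?_) g ?_
    · haveI := hg'
      exact ⟨Groth.Agent.S10265.locallyQuasiFinite_of_unramified g', inferInstance⟩
    · haveI := hab.1
      haveI := hab.2
      exact ⟨LocallyQuasiFinite.of_comp a b, locallyOfFiniteType_of_comp a b⟩
    · rw [hgl]
      constructor
      · refine IsZariskiLocalAtSource.of_iSup_eq_top (P := @LocallyQuasiFinite) V hsup
          (fun i => ?_)
        haveI := hVfin i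
        infer_instance
      · refine IsZariskiLocalAtSource.of_iSup_eq_top (P := @LocallyOfFiniteType) V hsup
          (fun i => ?_)
        haveI := hVfin i
        infer_instance

end Groth.Agent.S10483
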