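import Mathlib
import Groth.Statements.S10484
import Groth.Agent.R2.H45ArtQuot
import Groth.Agent.R2.H45KerEt
import Groth.Agent.Lib.Helper15Descent

set_option autoImplicit false
set_option linter.style.haveILetI false
universe u
open CategoryTheory CategoryTheory.Limits AlgebraicGeometry Topology TopologicalSpace
open AlgSp

namespace Groth.Agent.S10484

/-- For a field k, local quasi-finiteness over k passes from the target Y of a monomorphism f : X ⟶ Y of
algebraic spaces over k to its source X. -/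
theorem result (k : Type u) [Field k] {X Y : AlgSp.Space (Spec (CommRingCat.of k))} (f : X ⟶ Y)
    [Mono f.hom] (q : Y.obj ⟶ (AlgSp.yon (Spec (CommRingCat.of k))).obj (Over.mk (𝟙 _))) (hq : AlgSp.LocP (@LocallyQuasiFinite ⊓ @LocallyOfFiniteType : MorphismProperty Scheme.{u}) q) :
    AlgSp.LocP (@LocallyQuasiFinite ⊓ @LocallyOfFiniteType : MorphismProperty Scheme.{u}) (f.hom ≫ q) := by
  haveI hArt : IsLocallyArtinian (Over.mk (𝟙 (Spec (CommRingCat.of k)))).left := by
    show IsLocallyArtinian (Spec (CommRingCat.of k))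
    exact Scheme.isLocallyArtinianScheme_Spec.mpr inferInstance
  obtain ⟨W, ⟨e⟩⟩ := Groth.Agent.R2.H45.ArtQuot.exists_iso_yon_of_lqf Y.property q hq
  obtain ⟨g, hg⟩ := (AlgSp.yon _).map_surjective (e.hom ≫ q)
  have hgl : Groth.Agent.R2.H59.QDesc.lqf g.left := by
    apply AlgSp.locP_yon_map
    rw [hg]
    exact Groth.Agent.Lib.Helper15Descent.locP_precomp_etale _ e.hom q
      (Groth.Agent.Lib.Helper15Descent.repWith_etale_of_isIso e.hom) hq
  haveI : LocallyQuasiFinite g.left := hgl.1
  haveI : LocallyOfFiniteType g.left := hgl.2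
  haveI : IsLocallyArtinian W.left := IsLocallyArtinian.of_locallyQuasiFinite g.left
  intro A B a b h ha hb hcomm
  obtain ⟨μ, hμ⟩ := (AlgSp.yon _).map_surjective (a ≫ f.hom ≫ e.inv)
  haveI : Mono (f.hom ≫ e.inv) := mono_comp _ _
  obtain ⟨R, s, fst, hk⟩ := ha.rep a
  obtain ⟨t, rfl⟩ := (AlgSp.yon _).map_surjective fst
  haveI : Etale t.left := ha.property a _ t hk.flip
  have hk' : IsPullback ((AlgSp.yon _).map t) ((AlgSp.yon _).map s) ((AlgSp.yon _).map μ)
      ((AlgSp.yon _).map μ) := by
    rw [hμ]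
    exact Groth.Agent.R2.H45.KerEt.isPullback_comp_mono (f.hom ≫ e.inv) hk
  have hk'' : IsPullback t s μ μ := IsPullback.of_map_of_faithful (AlgSp.yon _) hk'
  have hkl : IsPullback t.left s.left μ.left μ.left := hk''.map (Over.forget _)
  obtain ⟨h1, h2⟩ := Groth.Agent.R2.H45.KerEt.lqf_of_etale_kernelPair μ.left hkl
  obtain ⟨β, rfl⟩ := (AlgSp.yon _).map_surjective b
  haveI hβ : Etale β.left := (AlgSp.repWith_yon_map_iff _ _).1 hb
  have e1 : μ ≫ g = h ≫ β := by
    apply (AlgSp.yon _).map_injective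
    rw [Functor.map_comp, Functor.map_comp, hμ, hg, ← hcomm]
    simp
  have e2 : μ.left ≫ g.left = h.left ≫ β.left := by
    rw [← Over.comp_left, ← Over.comp_left, e1]
  haveI : LocallyQuasiFinite (h.left ≫ β.left) := by
    rw [← e2]
    infer_instance
  haveI : LocallyOfFiniteType (h.left ≫ β.left) := by
    rw [← e2]
    infer_instance
  exact ⟨LocallyQuasiFinite.of_comp h.left β.left, locallyOfFiniteType_of_comp h.left β.left⟩

end Groth.Agent.S10484
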