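import Groth.Statements.S10485
import Groth.Agent.R2.H25IntSp

set_option autoImplicit false
universe u
open CategoryTheory CategoryTheory.Limits AlgebraicGeometry Topology TopologicalSpace
open AlgSp

namespace Groth.Agent.S10485

/-- (4) ⇔ (5): let f : X ⟶ Y be a dominant morphism locally of finite type between integral algebraic
spaces over a scheme S, with generic points x and y. Then f is quasi-finite at x if and only if x is
the only point of X mapping to y. -/
theorem result {S : Scheme.{u}} {X Y : AlgSp.Space S} (hXi : AlgSp.IsIntegralSp X.obj) (hYi : AlgSp.IsIntegralSp Y.obj)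
    (f : X ⟶ Y) (hft : AlgSp.LocP @LocallyOfFiniteType f.hom) (hd : AlgSp.IsDominantMor f.hom)
    (x : AlgSp.Points X.obj) (hx : IsGenericPoint x (Set.univ : Set (AlgSp.Points X.obj)))
    (y : AlgSp.Points Y.obj) (hy : IsGenericPoint y (Set.univ : Set (AlgSp.Points Y.obj))) :
    AlgSp.HasAtMor (fun U _ h u => ∃ W : U.Opens, u ∈ W ∧ LocallyQuasiFinite (W.ι ≫ h) ∧ LocallyOfFiniteType (W.ι ≫ h)) f.hom x ↔ (∀ x' : AlgSp.Points X.obj, AlgSp.Points.map f.hom x' = y → x' = x) := by
  haveI : T0Space (AlgSp.Points Y.obj) := Groth.Agent.S10338.result Y hYi.2.1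
  constructor
  · rintro ⟨U, V, a, b, h, u, ha, hb, comm, hu, W, huW, hlqf, -⟩ x' hx'
    haveI := hlqf
    have h1 : Groth.Agent.R2.H83.BirSch.AlgAt h.left (W.ι ⟨u, huW⟩) :=
      Groth.Agent.R2.H25.IntSp.algAt_of_comp_left W.ι h.left ⟨u, huW⟩
        (Groth.Agent.R2.H25.IntSp.algAt_of_locallyQuasiFinite (W.ι ≫ h.left) ⟨u, huW⟩)
    exact Groth.Agent.R2.H25.IntSp.unique_of_algAt hXi.2.1 hYi.2.1 f hd x hx y hy
      ⟨U, V, a, b, h, u, ha, hb, comm, hu, h1⟩ x' hx'
  · intro huniq
    obtain ⟨U, V, a, b, g, u₀, hU, hV, ha, hb, comm, hfin, hu₀⟩ :=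
      Groth.Agent.R2.H25.IntSp.exists_finite_charts hXi.2.1 hYi.2.1 f hft x hx y hy
        (Groth.Agent.R2.H25.IntSp.map_generic f.hom hd hx hy) huniq
    haveI := hfin
    exact ⟨U, V, a, b, g, u₀, Groth.Agent.R2.H25.GenFinSp.etale_of_open ha,
      Groth.Agent.R2.H25.GenFinSp.etale_of_open hb, comm, hu₀, ⊤, trivial,
      inferInstance, inferInstance⟩

end Groth.Agent.S10485
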