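import Groth.Statements.S10491
import Mathlib
import Groth.Agent.S10176
import Groth.Agent.S10177
import Groth.Agent.R2.H89TopLocFin

set_option autoImplicit false
universe u
open CategoryTheory CategoryTheory.Limits AlgebraicGeometry Topology TopologicalSpace
open AlgSp

namespace Groth.Agent.S10491

/-- Let X be an algebraic space over a scheme S which is locally Noetherian, and T ⊂ |X| a closed
subset. Then every point of |X| has a neighbourhood meeting only finitely many irreducible
components of T. -/
theorem result {S : Scheme.{u}} (X : AlgSp.Space S)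
    (hX : AlgSp.IsLocNoethSp X.obj) (T : Set (AlgSp.Points X.obj)) (hT : IsClosed T) :
    LocallyFinite (fun Z : ↥(irreducibleComponents ↥T) => ((↑) : ↥T → AlgSp.Points X.obj) '' (Z : Set ↥T)) := by
  obtain ⟨U, p, hpe, hps, hU⟩ := hX
  refine Groth.Agent.R2.H89.TopLocFin.locallyFinite_irreducibleComponents_of_isOpenMap
    (AlgSp.Points.ofPt p) (AlgSp.Points.continuous_ofPt p)
    (Groth.Agent.S10176.isOpenMap_ofPt p hpe) (Groth.Agent.S10177.surjective_ofPt p hps) ?_ T hT
  intro u
  obtain ⟨W, hW, huW⟩ : ∃ W : U.left.Opens, IsAffineOpen W ∧ u ∈ W := by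
    obtain ⟨W, hW, huW, -⟩ := (U.left.isBasis_affineOpens).exists_subset_of_mem_open
      (Set.mem_univ u) isOpen_univ
    obtain ⟨W', hW', rfl⟩ := hW
    exact ⟨W', hW', huW⟩
  have : IsNoetherianRing Γ(U.left, W) := IsLocallyNoetherian.component_noetherian ⟨W, hW⟩
  exact ⟨W, W.2, huW, noetherianSpace_of_isAffineOpen W hW⟩

end Groth.Agent.S10491
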