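import Groth.Statements.S10496
import Groth.Agent.R2.H48RedInduced
import Groth.Agent.S10351
import Groth.Agent.S10191
-- import your own Groth.Agent.* helpers here

set_option autoImplicit false
universe u
open CategoryTheory CategoryTheory.Limits AlgebraicGeometry Topology TopologicalSpace
open AlgSp

namespace Groth.Agent.S10496

/-- a space embedded onto an irreducible subset is irreducible. -/
lemma irreducibleSpace_of_isEmbedding {α β : Type*} [TopologicalSpace α] [TopologicalSpace β]
    (f : α → β) (hf : IsEmbedding f) (h : IsIrreducible (Set.range f)) : IrreducibleSpace α := by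
  have hne : Nonempty α := by
    obtain ⟨_, a, rfl⟩ := h.nonempty
    exact ⟨a⟩
  have hpre : PreirreducibleSpace α := by
    constructor
    intro u v hu hv ⟨a, _, hau⟩ ⟨b, _, hbv⟩
    obtain ⟨u', hu', rfl⟩ := hf.isInducing.isOpen_iff.1 hu
    obtain ⟨v', hv', rfl⟩ := hf.isInducing.isOpen_iff.1 hv
    obtain ⟨_, ⟨c, rfl⟩, hcu, hcv⟩ := h.2 u' v' hu' hv' ⟨f a, ⟨a, rfl⟩, hau⟩ ⟨f b, ⟨b, rfl⟩, hbv⟩
    exact ⟨c, trivial, hcu, hcv⟩
  exact { toPreirreducibleSpace := hpre, toNonempty := hne }

/-- Let X be a decent algebraic space over a scheme S. For every irreducible closed subset T of |X|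
there is an integral closed subspace Z of X with |Z| = T. -/
theorem result {S : Scheme.{u}} (X : AlgSp.Space S)
    (hX : AlgSp.IsDecent X.obj) (T : Set (AlgSp.Points X.obj)) (hT : IsClosed T) (hTi : IsIrreducible T) :
    ∃ (Z : AlgSp.Space S) (i : Z ⟶ X), AlgSp.RepWith @IsClosedImmersion i.hom ∧ AlgSp.IsIntegralSp Z.obj ∧
      Set.range (AlgSp.Points.map i.hom) = T := by
  obtain ⟨Z, i, hZ, hcl, hrange, hred⟩ :=
    Groth.Agent.R2.H48.RedInduced.exists_isRedInduced X.property T hT
  let Z' : AlgSp.Space S := ⟨Z, hZ⟩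
  let i' : Z' ⟶ X := ObjectProperty.homMk i
  have himm : AlgSp.RepWith @IsImmersion i'.hom :=
    ⟨hcl.1, fun U V g fst snd sq => by
      have : IsClosedImmersion snd.left := hcl.2 g fst snd sq
      change IsImmersion snd.left
      infer_instance⟩
  have hemb := (Groth.Agent.S10191.result i' himm).1
  refine ⟨Z', i', hcl, ⟨hred, Groth.Agent.S10351.result i' hcl.1 hX, ?_⟩, hrange⟩
  exact irreducibleSpace_of_isEmbedding _ hemb (by rw [show Set.range (AlgSp.Points.map i'.hom) = T from hrange]; exact hTi)

end Groth.Agent.S10496
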