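import Groth.Statements.S10497
-- import your own Groth.Agent.* helpers here
import Groth.Agent.Lib.Helper12FieldBC2
import Groth.Agent.S10383
import Groth.Agent.R2.H25DecentMor

set_option autoImplicit false
universe u
open CategoryTheory CategoryTheory.Limits AlgebraicGeometry Topology TopologicalSpace
open AlgSp

namespace Groth.Agent.S10497

/-- Let k be a field and X a decent algebraic space over k. Then all base changes X_K to field
extensions K of k are integral exactly when X is geometrically reduced over k and every |X_K| is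
irreducible. -/
theorem result (k : Type u) [Field k] (X : AlgSp.Space (Spec (CommRingCat.of k))) (hX : AlgSp.IsDecent X.obj) :
    (∀ (K : Type u) [Field K] [Algebra k K], AlgSp.IsIntegralSp (X.obj ⨯ (AlgSp.yon (Spec (CommRingCat.of k))).obj (Over.mk (Spec.map (CommRingCat.ofHom (algebraMap k K)))))) ↔
      (∀ x : AlgSp.Points X.obj, (∃ (U : Over (Spec (CommRingCat.of k))) (a : (AlgSp.yon (Spec (CommRingCat.of k))).obj U ⟶ X.obj) (u : ↥U.left),
      AlgSp.RepWith @Etale a ∧ AlgSp.Points.ofPt a u = x ∧ FBase.IsGeomReducedAt U.hom u)) ∧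
        ∀ (K : Type u) [Field K] [Algebra k K], IrreducibleSpace (AlgSp.Points (X.obj ⨯ (AlgSp.yon (Spec (CommRingCat.of k))).obj (Over.mk (Spec.map (CommRingCat.ofHom (algebraMap k K)))))) := by
  classical
  constructor
  · intro h
    refine ⟨?_, fun K _ _ => (h K).2.2⟩
    intro x
    obtain ⟨U, p, hpe, hps⟩ := X.property.atlas
    obtain ⟨u, hu⟩ := Groth.Agent.S10177.surjective_ofPt p hps x
    refine ⟨U, p, u, hpe, hu, ?_⟩
    intro K _ _ x' hx'
    have : IsReduced (FBase.bc U.hom K) :=
      Groth.Agent.Lib.Helper12.FieldBC.isReduced_bc_of_isReducedSp K (h K).1 p hpe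
    infer_instance
  · rintro ⟨h1, h2⟩ K _ _
    refine ⟨?_, ?_, h2 K⟩
    · obtain ⟨U, p, hpe, hps⟩ := X.property.atlas
      refine Groth.Agent.Lib.Helper12.FieldBC.isReducedSp_bc_of_isReduced K p hpe hps ?_
      have : ∀ x' : ↥(FBase.bc U.hom K), _root_.IsReduced ((FBase.bc U.hom K).presheaf.stalk x') := by
        intro x'
        obtain ⟨V, b, v, hb, hv, hgr⟩ := h1 (AlgSp.Points.ofPt p ((FBase.bcπ U.hom K).base x'))
        exact ((Groth.Agent.Lib.Helper12.GeomRed.isGeomReducedAt_iff_of_ofPt_eq p b hpe hb _ v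
          hv.symm).2 hgr) K x' rfl
      exact isReduced_of_isReduced_stalk _
    · have hpt : IsTerminal ((AlgSp.yon (Spec (CommRingCat.of k))).obj (Over.mk (𝟙 _))) :=
        IsTerminal.isTerminalObj (AlgSp.yon _) _ Over.mkIdTerminal
      have hsq : IsPullback (prod.fst : X.obj ⨯ (AlgSp.yon _).obj
          (Groth.Agent.Lib.Helper12.FieldBC.ptK k K) ⟶ X.obj) prod.snd
          (hpt.from _) (hpt.from _) :=
        IsPullback.of_is_product' (prodIsProd _ _) hpt
      exact Groth.Agent.S10383.isDecent_of_isPullback (AlgSp.IsAlgSpace.yon_obj _).diag hsq hX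
        (Groth.Agent.R2.H25.DecentMor.isDecent_yon _)

end Groth.Agent.S10497
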