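import Groth.Statements.S10498
import Mathlib
import Groth.Agent.Lib.Helper3IndEtHz
import Groth.Agent.Lib.Helper3HzP
import Groth.Agent.Lib.Helper3EtRed

set_option autoImplicit false
set_option linter.style.haveILetI false
universe u
open TensorProduct
open Hensel

namespace Groth.Agent.S10498

open Groth.Agent.Lib.Helper3.IndEt

/-- `K ⊗[k] E` is reduced when `E` is étale over `A` and `K ⊗[k] A` is reduced. -/
theorem isReduced_tensor_of_etale (k : Type u) [Field k] (K : Type u) [Field K] [Algebra k K]
    (A E : Type u) [CommRing A] [CommRing E] [Algebra k A] [Algebra A E] [Algebra k E]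
    [IsScalarTower k A E] [Algebra.Etale A E] [IsReduced (K ⊗[k] A)] : IsReduced (K ⊗[k] E) := by
  have h1 : IsReduced (A ⊗[k] K) :=
    isReduced_of_injective (Algebra.TensorProduct.comm k A K).toRingEquiv
      (Algebra.TensorProduct.comm k A K).injective
  have h2 : IsReduced ((A ⊗[k] K) ⊗[A] E) :=
    Groth.Agent.Lib.Helper3.EtRed.isReduced_of_etale (A ⊗[k] K) ((A ⊗[k] K) ⊗[A] E)
  have h3 : IsReduced (E ⊗[A] (A ⊗[k] K)) :=
    isReduced_of_injective (Algebra.TensorProduct.comm A E (A ⊗[k] K)).toRingEquiv
      (Algebra.TensorProduct.comm A E (A ⊗[k] K)).injective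
  have h4 : IsReduced (E ⊗[k] K) :=
    isReduced_of_injective (Algebra.TensorProduct.cancelBaseChange k A A E K).symm.toRingEquiv
      (Algebra.TensorProduct.cancelBaseChange k A A E K).symm.injective
  exact isReduced_of_injective (Algebra.TensorProduct.comm k K E).toRingEquiv
      (Algebra.TensorProduct.comm k K E).injective

/-- If every map from a finitely presented `A`-algebra to `R` factors through an étale `A`-algebra
and `K ⊗[k] A` is reduced, then `K ⊗[k] R` is reduced. -/
theorem isReduced_tensor_of_factor (k : Type u) [Field k] (K : Type u) [Field K] [Algebra k K]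
    (A R : Type u) [CommRing A] [CommRing R] [Algebra k A] [Algebra A R] [Algebra k R]
    [IsScalarTower k A R] (H : Obj.Factor A R) [IsReduced (K ⊗[k] A)] : IsReduced (K ⊗[k] R) := by
  classical
  constructor
  intro z hz
  obtain ⟨n, hn⟩ := hz
  obtain ⟨s, rfl⟩ := TensorProduct.exists_finset z
  -- the polynomial algebra on the second components
  let P := MvPolynomial s A
  let ψ : P →ₐ[A] R := MvPolynomial.aeval (fun p : s => p.1.2)
  let ψk : P →ₐ[k] R := ψ.restrictScalars k
  let w : K ⊗[k] P := ∑ p ∈ s.attach, p.1.1 ⊗ₜ[k] (MvPolynomial.X p : P)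
  have hw : Algebra.TensorProduct.map (AlgHom.id k K) ψk w = ∑ i ∈ s, i.1 ⊗ₜ[k] i.2 := by
    rw [map_sum, ← Finset.sum_attach s]
    refine Finset.sum_congr rfl fun p _ => ?_
    rw [Algebra.TensorProduct.map_tmul]
    show (p.1.1 : K) ⊗ₜ[k] ψ (MvPolynomial.X p) = _
    rw [MvPolynomial.aeval_X]
  -- `w ^ n` lies in the kernel of `K ⊗ ψ`
  have hker : LinearMap.lTensor K ψk.toLinearMap (w ^ n) = 0 := by
    have : LinearMap.lTensor K ψk.toLinearMap (w ^ n)
        = Algebra.TensorProduct.map (AlgHom.id k K) ψk (w ^ n) := rfl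
    rw [this, map_pow, hw, hn]
  have hex : Function.Exact (LinearMap.lTensor K (LinearMap.ker ψk.toLinearMap).subtype)
      (LinearMap.lTensor K ψk.toLinearMap) :=
    Module.Flat.lTensor_exact K (LinearMap.exact_subtype_ker_map ψk.toLinearMap)
  obtain ⟨y, hy⟩ := (hex (w ^ n)).mp hker
  obtain ⟨t, rfl⟩ := TensorProduct.exists_finset y
  -- the finitely generated ideal
  let T : Finset P := t.image (fun q => (q.2 : P))
  have hT : ∀ x ∈ T, ψ x = 0 := by
    intro x hx
    obtain ⟨q, -, rfl⟩ := Finset.mem_image.mp hx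
    exact q.2.2
  let I₀ : Ideal P := Ideal.span (T : Set P)
  have hI₀ : I₀.FG := ⟨T, rfl⟩
  have hI₀ψ : ∀ x ∈ I₀, ψ x = 0 := by
    intro x hx
    have : I₀ ≤ RingHom.ker ψ := Ideal.span_le.mpr (fun x hx => hT x hx)
    exact this hx
  haveI : Algebra.FinitePresentation A (P ⧸ I₀) := Algebra.FinitePresentation.quotient hI₀
  let ψ' : (P ⧸ I₀) →ₐ[A] R := Ideal.Quotient.liftₐ I₀ ψ hI₀ψ
  obtain ⟨E, _, _, _, f, g, hfg⟩ := H (P ⧸ I₀) ψ'
  letI : Algebra k E := ((algebraMap A E).comp (algebraMap k A)).toAlgebra
  haveI : IsScalarTower k A E := IsScalarTower.of_algebraMap_eq (fun _ => rfl)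
  haveI : IsReduced (K ⊗[k] E) := isReduced_tensor_of_etale k K A E
  let mkk : P →ₐ[k] (P ⧸ I₀) := (Ideal.Quotient.mkₐ A I₀).restrictScalars k
  let fk : (P ⧸ I₀) →ₐ[k] E := f.restrictScalars k
  let gk : E →ₐ[k] R := g.restrictScalars k
  -- the image of `w ^ n` in `K ⊗ P/I₀` is zero
  have h0 : Algebra.TensorProduct.map (AlgHom.id k K) mkk (w ^ n) = 0 := by
    rw [← hy, map_sum, map_sum]
    refine Finset.sum_eq_zero fun q hq => ?_
    rw [LinearMap.lTensor_tmul]
    rw [Algebra.TensorProduct.map_tmul]
    have : mkk ((LinearMap.ker ψk.toLinearMap).subtype q.2) = 0 := by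
      show Ideal.Quotient.mk I₀ (q.2 : P) = 0
      rw [Ideal.Quotient.eq_zero_iff_mem]
      exact Ideal.subset_span (Finset.mem_coe.mpr (Finset.mem_image_of_mem _ hq))
    rw [this, TensorProduct.tmul_zero]
  have h1 : Algebra.TensorProduct.map (AlgHom.id k K) fk
      (Algebra.TensorProduct.map (AlgHom.id k K) mkk w) = 0 := by
    apply IsReduced.eq_zero
    refine ⟨n, ?_⟩
    rw [← map_pow, ← map_pow, h0, map_zero]
  have h2 : ψk = gk.comp (fk.comp mkk) := by
    apply AlgHom.ext
    intro x
    have := congr($hfg (Ideal.Quotient.mk I₀ x))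
    simp only [AlgHom.comp_apply] at this
    show ψ x = g (f (Ideal.Quotient.mk I₀ x))
    rw [this]
    rfl
  rw [← hw, h2]
  have : Algebra.TensorProduct.map (AlgHom.id k K) (gk.comp (fk.comp mkk)) w =
      Algebra.TensorProduct.map (AlgHom.id k K) gk (Algebra.TensorProduct.map (AlgHom.id k K) fk
      (Algebra.TensorProduct.map (AlgHom.id k K) mkk w)) := by
    rw [← AlgHom.comp_apply, ← AlgHom.comp_apply, ← Algebra.TensorProduct.map_comp,
      ← Algebra.TensorProduct.map_comp]
    rfl
  rw [this, h1, map_zero]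

/-- (1) ⇔ (2): let k be a field, A a local k-algebra and R a strict henselization of A. Then A is
geometrically reduced over k (K ⊗_k A reduced for every field extension K of k) if and only if R is
geometrically reduced over k. -/
theorem result (k : Type u) [Field k]
    (A : Type u) [CommRing A] [IsLocalRing A] [Algebra k A]
    (R : Type u) [CommRing R] [IsLocalRing R] [Algebra A R] [IsLocalHom (algebraMap A R)]
    [Hensel.IsStrictHenselization A R] [Algebra k R] [IsScalarTower k A R] :
    (∀ (K : Type u) [Field K] [Algebra k K], IsReduced (TensorProduct k K A)) ↔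
      ∀ (K : Type u) [Field K] [Algebra k K], IsReduced (TensorProduct k K R) := by
  constructor
  · intro h K _ _
    haveI := h K
    exact isReduced_tensor_of_factor k K A R
      (factor_of_isIndEtale (isIndEtale_of_isStrictHenselization A R))
  · intro h K _ _
    haveI := h K
    haveI := Groth.Agent.Lib.Helper3.HzP.sh_faithfullyFlat A R
    have hinj : Function.Injective (algebraMap A R) := FaithfulSMul.algebraMap_injective A R
    have hinj' : Function.Injective
        (LinearMap.lTensor K (IsScalarTower.toAlgHom k A R).toLinearMap) :=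
      Module.Flat.lTensor_preserves_injective_linearMap _ hinj
    exact isReduced_of_injective
      (Algebra.TensorProduct.map (AlgHom.id k K) (IsScalarTower.toAlgHom k A R)) hinj'

end Groth.Agent.S10498
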