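import Groth.Statements.S10501
import Mathlib
import Groth.Agent.R2.H46GeomConn

set_option autoImplicit false
set_option linter.style.haveILetI false
universe u
open CategoryTheory CategoryTheory.Limits AlgebraicGeometry Topology TopologicalSpace
open AlgSp

namespace Groth.Agent.S10501

open Groth.Agent.Lib.Helper12.FieldBC

/-- a space whose connected components are in bijection with those of a connected space is
connected. -/
lemma connectedSpace_of_bijective {A B : Type*} [TopologicalSpace A] [TopologicalSpace B]
    [ConnectedSpace B] (f : ConnectedComponents A → ConnectedComponents B)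
    (hf : Function.Bijective f) : ConnectedSpace A := by
  haveI : Nonempty (ConnectedComponents A) := by
    obtain ⟨a, -⟩ := hf.2 (Classical.arbitrary _)
    exact ⟨a⟩
  haveI : Nonempty A := ConnectedComponents.nonempty_iff_nonempty.1 inferInstance
  haveI : PreconnectedSpace A := by
    rw [preconnectedSpace_iff_connectedComponent]
    intro x
    rw [Set.eq_univ_iff_forall]
    intro y
    have h1 : f (ConnectedComponents.mk y) = f (ConnectedComponents.mk x) := Subsingleton.elim _ _
    exact ConnectedComponents.coe_eq_coe'.1 (hf.1 h1)
  exact ConnectedSpace.mk inferInstance

/-- Over a separably closed field k, an algebraic space X is geometrically connected if and only if it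
is connected. -/
theorem result (k : Type u) [Field k] [IsSepClosed k]
    (X : AlgSp.Space (Spec (CommRingCat.of k))) :
    (∀ (K : Type u) [Field K] [Algebra k K], ConnectedSpace (AlgSp.Points (X.obj ⨯ (AlgSp.yon (Spec (CommRingCat.of k))).obj (Over.mk (Spec.map (CommRingCat.ofHom (algebraMap k K))))))) ↔ ConnectedSpace (AlgSp.Points X.obj) := by
  constructor
  · intro h
    haveI := h k
    have hs := surjective_map_prod_fst X.obj k
    have := isConnected_univ.image _
      (AlgSp.Points.continuous_map (prod.fst : X.obj ⨯
        (AlgSp.yon (Spec (CommRingCat.of k))).obj (ptK k k) ⟶ X.obj)).continuousOn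
    rw [Set.image_univ, hs.range_eq] at this
    exact connectedSpace_iff_univ.2 this
  · intro h K _ _
    exact connectedSpace_of_bijective _
      (Groth.Agent.R2.H46.GeomConn.bijective_connectedComponentsMap X.obj K)

end Groth.Agent.S10501
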