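import Groth.Statements.S10549
import Groth.Agent.S10580
import Groth.Agent.S0114
import Mathlib

set_option autoImplicit false
set_option linter.style.haveILetI false
universe u
open CategoryTheory CategoryTheory.Limits AlgebraicGeometry
open AlgSp

namespace Groth.Agent.S10549

theorem of_single {X Y U : Scheme.{u}} (f : X ⟶ Y) (g : U ⟶ X) [Flat g]
    [LocallyOfFinitePresentation g] [LocallyOfFinitePresentation (g ≫ f)] (V : X.Opens)
    (hV : (V : Set X) = Set.range g) :
    LocallyOfFinitePresentation (V.ι ≫ f) := by
  have hsub : Set.range g ⊆ Set.range V.ι := by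
    rw [Scheme.Opens.range_ι, hV]
  let g' : U ⟶ V.toScheme := IsOpenImmersion.lift V.ι g hsub
  have hg' : g' ≫ V.ι = g := IsOpenImmersion.lift_fac _ _ _
  haveI : Flat g' := MorphismProperty.of_postcomp (W := @Flat) (W' := @IsOpenImmersion) g' V.ι
    inferInstance (by rw [hg']; infer_instance)
  haveI : LocallyOfFinitePresentation g' := MorphismProperty.of_postcomp
    (W := @LocallyOfFinitePresentation) (W' := @IsOpenImmersion) g' V.ι
    inferInstance (by rw [hg']; infer_instance)
  haveI : Surjective g' := by
    refine ⟨fun v => ?_⟩
    obtain ⟨u, hu⟩ : (V.ι v) ∈ Set.range g := by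
      rw [← hV]; exact v.2
    refine ⟨u, ?_⟩
    apply V.ι.injective
    rw [← Scheme.Hom.comp_apply, hg', hu]
  haveI : LocallyOfFinitePresentation (g' ≫ V.ι ≫ f) := by
    rw [← Category.assoc, hg']
    infer_instance
  exact Groth.Agent.S0114.result g' (V.ι ≫ f)

/-- Being locally of finite presentation is fppf local on the source. -/
theorem lfp_isLocalAtSource_fppf :
    MorphismProperty.IsLocalAtSource (@LocallyOfFinitePresentation : MorphismProperty Scheme.{u})
      Scheme.fppfPrecoverage := by
  refine { (inferInstance : MorphismProperty.RespectsIso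
    (@LocallyOfFinitePresentation : MorphismProperty Scheme.{u})) with comp := ?_, of_forall_comp := ?_ }
  · intro X Y f R hR U g hg hf
    have hg' : (@Flat ⊓ @LocallyOfFinitePresentation : MorphismProperty Scheme.{u}) g := hR.2 hg
    haveI : LocallyOfFinitePresentation g := hg'.2
    haveI : LocallyOfFinitePresentation f := hf
    exact (inferInstance : LocallyOfFinitePresentation (g ≫ f))
  · intro X Y f R hR H
    have hsurj : ∀ x : X, ∃ (U : Scheme.{u}) (g : U ⟶ X), R g ∧ x ∈ Set.range g := by
      intro x
      obtain ⟨T, t, ht, hx⟩ := hR.1 x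
      obtain ⟨hg⟩ := ht
      exact ⟨_, _, hg, hx⟩
    choose U g hgR hgx using hsurj
    have hP : ∀ x, (@Flat ⊓ @LocallyOfFinitePresentation : MorphismProperty Scheme.{u}) (g x) :=
      fun x => hR.2 (hgR x)
    have hopen : ∀ x, IsOpen (Set.range (g x)) := fun x => by
      haveI : Flat (g x) := (hP x).1
      haveI : LocallyOfFinitePresentation (g x) := (hP x).2
      exact (g x).isOpenMap.isOpen_range
    refine IsZariskiLocalAtSource.of_iSup_eq_top (P := @LocallyOfFinitePresentation)
      (fun x : X => (⟨Set.range (g x), hopen x⟩ : X.Opens)) ?_ fun x => ?_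
    · rw [eq_top_iff]
      intro x _
      exact TopologicalSpace.Opens.mem_iSup.2 ⟨x, hgx x⟩
    · haveI : Flat (g x) := (hP x).1
      haveI : LocallyOfFinitePresentation (g x) := (hP x).2
      haveI : LocallyOfFinitePresentation (g x ≫ f) := H (hgR x)
      exact of_single f (g x) _ rfl

/-- The property of morphisms of algebraic spaces over S given by f is locally of finite presentation
(on etale charts) is fppf local on the source: for a morphism f : X ⟶ Y of algebraic spaces and a
fppf covering of X by algebraic spaces X_i, f has the property if and only if every composite X_i ⟶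
X ⟶ Y has it. -/
theorem result (S : Scheme.{u}) :
    AlgSp.IsLocalOnSource (AlgSp.IsFppfCover (S := S)) (AlgSp.LocP @LocallyOfFinitePresentation) := by
  exact (Groth.Agent.S10580.result S @LocallyOfFinitePresentation).2.1 lfp_isLocalAtSource_fppf

end Groth.Agent.S10549
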