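import Groth.Statements.S10557
import Groth.Agent.R2.H47LocSurj

set_option autoImplicit false
universe u
open CategoryTheory CategoryTheory.Limits AlgebraicGeometry
open AlgSp

namespace Groth.Agent.S10557

/-- Let g : X ⟶ Y and h : Y ⟶ Z be morphisms of algebraic spaces over S with g a surjection of fppf
sheaves (locally surjective for the fppf topology). For P one of flat, locally of finite type,
locally of finite presentation (checked on etale charts): if the composite X ⟶ Z has P then h has P. -/
theorem result {S : Scheme.{u}} {X Y Z : AlgSp.Space S} (g : X ⟶ Y) (h : Y ⟶ Z)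
    (hg : Sheaf.IsLocallySurjective g.hom) :
    (AlgSp.LocP @Flat (g ≫ h).hom → AlgSp.LocP @Flat h.hom) ∧
    (AlgSp.LocP @LocallyOfFiniteType (g ≫ h).hom → AlgSp.LocP @LocallyOfFiniteType h.hom) ∧
    (AlgSp.LocP @LocallyOfFinitePresentation (g ≫ h).hom →
      AlgSp.LocP @LocallyOfFinitePresentation h.hom) := by
  have : Sheaf.IsLocallySurjective g.hom := hg
  refine ⟨?_, ?_, ?_⟩
  · exact Groth.Agent.R2.H47.FppfSrc.locP_of_locallySurjective_comp
      (fun _ _ _ _ f q g' l h1 h2 h3 hl h4 =>
        @Groth.Agent.S1163.result _ _ _ _ f q g' h2 h1 h3 l hl h4) X.property g.hom h.hom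
  · exact Groth.Agent.R2.H47.FppfSrc.locP_of_locallySurjective_comp
      (fun _ _ _ _ f q g' l h1 h2 h3 hl h4 =>
        Groth.Agent.R2.H47.FppfSrc.lft_of_refined f q g' l h1 h2 h3 hl h4) X.property g.hom h.hom
  · exact Groth.Agent.R2.H47.FppfSrc.locP_of_locallySurjective_comp
      (fun _ _ _ _ f q g' l h1 h2 h3 hl h4 =>
        Groth.Agent.R2.H47.FppfSrc.lfp_of_refined f q g' l h1 h2 h3 hl h4) X.property g.hom h.hom

end Groth.Agent.S10557
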