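import Groth.Statements.S10560
import Groth.Agent.R2.H47FppfSrc
import Groth.Agent.S10265
import Groth.Agent.S10266

set_option autoImplicit false
universe u
open CategoryTheory CategoryTheory.Limits AlgebraicGeometry
open AlgSp

namespace Groth.Agent.S10560

/-- Let f : X ⟶ Y and q : Y ⟶ B be morphisms of algebraic spaces over S with f surjective, flat and
locally of finite presentation. If f ≫ q is smooth then q is smooth; if f ≫ q is etale then q is
etale. -/
theorem result {S : Scheme.{u}} {X Y B : AlgSp.Space S} (f : X ⟶ Y) (q : Y ⟶ B)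
    (hs : AlgSp.IsSurjectiveMor f.hom) (hfl : AlgSp.LocP @Flat f.hom)
    (hfp : AlgSp.LocP @LocallyOfFinitePresentation f.hom) :
    (AlgSp.LocP @Smooth (f ≫ q).hom → AlgSp.LocP @Smooth q.hom) ∧
    (AlgSp.IsEtaleMor (f ≫ q).hom → AlgSp.IsEtaleMor q.hom) := by
  constructor
  · exact Groth.Agent.R2.H47.FppfSrc.locP_of_fppf_comp
      (fun _ _ _ g r h1 h2 h3 h4 => @Groth.Agent.S0115.result _ _ _ g r h1 h2 h3 h4)
      X.property f.hom q.hom hs hfl hfp
  · intro h
    obtain ⟨-, -, hflat, hlfp, -, hunr⟩ := Groth.Agent.S10265.result (f ≫ q) h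
    refine Groth.Agent.S10266.result q ?_ ?_ ?_
    · exact Groth.Agent.R2.H47.FppfSrc.locP_of_fppf_comp
        (fun _ _ _ g r h1 h2 h3 h4 => @Groth.Agent.S0114.result _ _ _ g r h1 h2 h3 h4)
        X.property f.hom q.hom hs hfl hfp hlfp
    · exact Groth.Agent.R2.H47.FppfSrc.locP_of_fppf_comp
        (fun _ _ _ g r h1 h2 _ h4 =>
          @Groth.Agent.Lib.Helper12.flat_of_comp_of_flat_of_surjective _ _ _ g r h2 h1 h4)
        X.property f.hom q.hom hs hfl hfp hflat
    · exact Groth.Agent.R2.H47.FppfSrc.locP_of_fppf_comp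
        (fun _ _ _ g r h1 h2 h3 h4 =>
          Groth.Agent.R2.H47.FppfSrc.unramified_of_fppf_comp g r h1 h2 h3 h4)
        X.property f.hom q.hom hs hfl hfp hunr

end Groth.Agent.S10560
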