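import Groth.Statements.S10571
import Mathlib
import Groth.Agent.R2.H47YonSigma
import Groth.Agent.S9874

set_option autoImplicit false
universe u
open CategoryTheory CategoryTheory.Limits AlgebraicGeometry
open AlgSp

namespace Groth.Agent.S10571

/-- Suppose a property P of morphisms between algebraic spaces over S satisfies: (1) if finitely many
morphisms X_i ⟶ Y_i have P then so does the induced morphism ∐ X_i ⟶ ∐ Y_i, (2) f : X ⟶ Y has P
exactly when, for each affine scheme Z and each h_Z ⟶ Y, the base change h_Z ×_Y X ⟶ h_Z has P, and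
(3) for every surjective flat morphism of affine schemes Z' ⟶ Z over S and every f : X ⟶ h_Z, if the
base change h_{Z'} ×_{h_Z} X ⟶ h_{Z'} has P then f has P. Under these hypotheses, P is local on the
base for the fpqc topology. (The published statement asks (1) only for two morphisms; its proof
applies (1) to a disjoint union indexed by a finite set that may be empty, and with (1) for two
morphisms only the property that holds for no morphism satisfies all three hypotheses without being
fpqc local on the base, as the empty covering of the empty algebraic space shows. This row asks (1)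
for all finite families, the empty one included.) -/
theorem result {S : Scheme.{u}} (P : MorphismProperty (AlgSp.Sp S))
    (h1 : ∀ ⦃ι : Type u⦄ [Finite ι] (Xi Yi : ι → AlgSp.Sp S) (fi : ∀ i, Xi i ⟶ Yi i)
      (cX : Cofan Xi) (cY : Cofan Yi) (hcX : IsColimit cX) (hcY : IsColimit cY) (m : cX.pt ⟶ cY.pt),
      (∀ i, AlgSp.IsAlgSpace (Xi i)) → (∀ i, AlgSp.IsAlgSpace (Yi i)) →
      AlgSp.IsAlgSpace cX.pt → AlgSp.IsAlgSpace cY.pt →
      (∀ i, cX.inj i ≫ m = fi i ≫ cY.inj i) → (∀ i, P (fi i)) → P m)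
    (h2 : ∀ ⦃X Y : AlgSp.Sp S⦄, AlgSp.IsAlgSpace X → AlgSp.IsAlgSpace Y → ∀ (f : X ⟶ Y),
      P f ↔ ∀ (Z : Over S), IsAffine Z.left → ∀ (g : (AlgSp.yon S).obj Z ⟶ Y) (W : AlgSp.Sp S)
        (fst : W ⟶ X) (snd : W ⟶ (AlgSp.yon S).obj Z), AlgSp.IsAlgSpace W → IsPullback fst snd f g → P snd)
    (h3 : ∀ ⦃Z Z' : Over S⦄ (c : Z' ⟶ Z), IsAffine Z.left → IsAffine Z'.left → Surjective c.left → Flat c.left →
      ∀ ⦃X X' : AlgSp.Sp S⦄ (f : X ⟶ (AlgSp.yon S).obj Z) (fst : X' ⟶ X) (f' : X' ⟶ (AlgSp.yon S).obj Z'),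
        AlgSp.IsAlgSpace X → AlgSp.IsAlgSpace X' → IsPullback fst f' f ((AlgSp.yon S).map c) → P f' → P f) :
    AlgSp.IsLocalOnBase (AlgSp.IsFpqcCover (S := S)) P := by
  intro ι Y Yi g hY hYi hcov X f hX Xi p q hXi sq
  constructor
  · intro hf i
    rw [h2 (hXi i) (hYi i)]
    intro Z hZ g' W fst snd hW sqW
    exact (h2 hX hY f).1 hf Z hZ (g' ≫ g i) W (fst ≫ q i) snd hW (sqW.paste_horiz (sq i))
  · intro hp
    rw [h2 hX hY]
    intro Z hZ h W fst snd hW sqW
    obtain ⟨m, Wj, c, hWa, hfl, hsurj, hl⟩ := hcov.2 Z hZ h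
    choose ij l hl using hl
    -- the disjoint union of the standard covering
    let W' : ULift.{u} (Fin m) → Over S := fun k => Wj k.down
    let Z' : Over S := Groth.Agent.R2.H47.YonSigma.sigmaOver W'
    let cZ : Z' ⟶ Z := Groth.Agent.R2.H47.YonSigma.sigmaOverDesc W' (fun k => c k.down)
    have hZ' : IsAffine Z'.left := by
      haveI : ∀ k : ULift.{u} (Fin m), IsAffine (W' k).left := fun k => hWa k.down
      change IsAffine (∐ fun k => (W' k).left)
      infer_instance
    have hflat : Flat cZ.left := by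
      change Flat (Sigma.desc (fun k : ULift.{u} (Fin m) => (c k.down).left))
      exact IsZariskiLocalAtSource.sigmaDesc (P := @Flat) (fun k => hfl k.down)
    have hsj : Surjective cZ.left := by
      refine ⟨fun z => ?_⟩
      obtain ⟨j, w, hw⟩ := hsurj z
      refine ⟨(Sigma.ι (fun k : ULift.{u} (Fin m) => (W' k).left) ⟨j⟩) w, ?_⟩
      change (Sigma.desc (fun k : ULift.{u} (Fin m) => (c k.down).left))
        ((Sigma.ι (fun k : ULift.{u} (Fin m) => (W' k).left) ⟨j⟩) w) = z
      rw [← Scheme.Hom.comp_apply, Sigma.ι_desc]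
      exact hw
    -- the base change to `Z'`
    have hX' : AlgSp.IsAlgSpace (pullback snd ((AlgSp.yon S).map cZ)) :=
      Groth.Agent.S9874.isAlgSpace_of_isPullback (AlgSp.IsAlgSpace.yon_obj Z).diag hW
        (AlgSp.IsAlgSpace.yon_obj Z') (IsPullback.of_hasPullback _ _)
    refine h3 cZ hZ hZ' hsj hflat snd (pullback.fst _ _) (pullback.snd _ _) hW hX'
      (IsPullback.of_hasPullback _ _) ?_
    have hV : ∀ k, AlgSp.IsAlgSpace (pullback (pullback.snd snd ((AlgSp.yon S).map cZ))
        ((AlgSp.yon S).map (Groth.Agent.R2.H47.YonSigma.sigmaOverι W' k))) := fun k =>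
      Groth.Agent.S9874.isAlgSpace_of_isPullback (AlgSp.IsAlgSpace.yon_obj Z').diag hX'
        (AlgSp.IsAlgSpace.yon_obj (W' k)) (IsPullback.of_hasPullback _ _)
    obtain ⟨hcX⟩ := Groth.Agent.R2.H47.YonSigma.isColimit_cofan_of_isPullback _
      (Groth.Agent.R2.H47.YonSigma.isColimitYonSigmaOver W')
      (pullback.snd snd ((AlgSp.yon S).map cZ))
      (fun k => pullback (pullback.snd snd ((AlgSp.yon S).map cZ))
        ((AlgSp.yon S).map (Groth.Agent.R2.H47.YonSigma.sigmaOverι W' k)))
      (fun k => pullback.fst _ _) (fun k => pullback.snd _ _)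
      (fun k => IsPullback.of_hasPullback _ _)
    refine h1 _ (fun k => (AlgSp.yon S).obj (W' k)) (fun k => pullback.snd _ _) _ _ hcX
      (Groth.Agent.R2.H47.YonSigma.isColimitYonSigmaOver W')
      (pullback.snd snd ((AlgSp.yon S).map cZ)) hV (fun k => AlgSp.IsAlgSpace.yon_obj _) hX'
      (AlgSp.IsAlgSpace.yon_obj Z') (fun k => pullback.condition) (fun k => ?_)
    -- the summand over `W' k`
    have sqA := IsPullback.of_hasPullback (pullback.snd snd ((AlgSp.yon S).map cZ))
      ((AlgSp.yon S).map (Groth.Agent.R2.H47.YonSigma.sigmaOverι W' k))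
    have sqB := IsPullback.of_hasPullback snd ((AlgSp.yon S).map cZ)
    have big := (sqA.paste_horiz sqB).paste_horiz sqW
    have hbot : ((AlgSp.yon S).map (Groth.Agent.R2.H47.YonSigma.sigmaOverι W' k) ≫
        (AlgSp.yon S).map cZ) ≫ h = l k.down ≫ g (ij k.down) := by
      rw [← Functor.map_comp, Groth.Agent.R2.H47.YonSigma.sigmaOverι_desc, hl]
    rw [hbot] at big
    have hw : ((pullback.fst (pullback.snd snd ((AlgSp.yon S).map cZ))
        ((AlgSp.yon S).map (Groth.Agent.R2.H47.YonSigma.sigmaOverι W' k)) ≫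
        pullback.fst snd ((AlgSp.yon S).map cZ)) ≫ fst) ≫ f =
        (pullback.snd (pullback.snd snd ((AlgSp.yon S).map cZ))
        ((AlgSp.yon S).map (Groth.Agent.R2.H47.YonSigma.sigmaOverι W' k)) ≫ l k.down) ≫
          g (ij k.down) := by
      rw [Category.assoc _ (l k.down)]
      exact big.w
    have sqT : IsPullback ((sq (ij k.down)).lift _ _ hw)
        (pullback.snd (pullback.snd snd ((AlgSp.yon S).map cZ))
        ((AlgSp.yon S).map (Groth.Agent.R2.H47.YonSigma.sigmaOverι W' k))) (p (ij k.down))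
        (l k.down) := by
      refine IsPullback.of_right ?_ ((sq (ij k.down)).lift_snd _ _ hw) (sq (ij k.down))
      rw [(sq (ij k.down)).lift_fst _ _ hw]
      exact big
    exact (h2 (hXi (ij k.down)) (hYi (ij k.down)) (p (ij k.down))).1 (hp (ij k.down))
      (W' k) (hWa k.down) (l k.down) _ _ _ (hV k) sqT

end Groth.Agent.S10571
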