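import Groth.Statements.S10579
import Groth.Agent.R2.H47GeomUni
import Groth.Agent.R2.H45HasAt

set_option autoImplicit false
universe u
open CategoryTheory CategoryTheory.Limits AlgebraicGeometry
open AlgSp

namespace Groth.Agent.S10579

/-- Let f : X ⟶ Y be a morphism of algebraic spaces over S and x ∈ |X|. If X is geometrically unibranch
at x and f is flat at x, then Y is geometrically unibranch at the image point f(x). Here an
algebraic space is geometrically unibranch at a point when for every etale chart from a scheme U and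
every point u of U over it the local ring of U at u is geometrically unibranch. -/
theorem result {S : Scheme.{u}} {X Y : AlgSp.Space S} (f : X ⟶ Y) (x : AlgSp.Points X.obj)
    (hf : AlgSp.IsFlatAtMor f.hom x)
    (hX : ∀ (U : Over S) (a : (AlgSp.yon S).obj U ⟶ X.obj) (v : ↥U.left), AlgSp.RepWith @Etale a →
      AlgSp.Points.ofPt a v = x → CAlg2.IsGeomUnibranch ↥(U.left.presheaf.stalk v))
    (V : Over S) (b : (AlgSp.yon S).obj V ⟶ Y.obj) (w : ↥V.left) (hb : AlgSp.RepWith @Etale b)
    (hw : AlgSp.Points.ofPt b w = AlgSp.Points.map f.hom x) :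
    CAlg2.IsGeomUnibranch ↥(V.left.presheaf.stalk w) := by
  obtain ⟨U, a, u, ha, -, hu⟩ := Groth.Agent.R2.H45.HasAt.exists_chart X.property x
  obtain ⟨W, p, h, w', hp, hpw, hhw, hcomm, het, hof⟩ :=
    Groth.Agent.R2.H45.HasAt.exists_diagram_through f.hom a b ha hb u w (by rw [hu]; exact hw.symm)
  have hflat := hf ((AlgSp.yon S).map p ≫ a) b h w' het hb hcomm (hof.trans hu)
  have hgu := hX W ((AlgSp.yon S).map p ≫ a) w' het (hof.trans hu)
  subst hhw
  exact Groth.Agent.R2.H47.GeomUni.isGeomUnibranch_of_flat_local
    (Scheme.Hom.stalkMap h.left w').hom hflat hgu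

end Groth.Agent.S10579
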