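import Groth.Statements.S10593
import Groth.Agent.R2.H47ThickLoc
import Groth.Agent.S9984
import Groth.Agent.S1312
import Groth.Agent.S1314

set_option autoImplicit false
universe u
open CategoryTheory CategoryTheory.Limits AlgebraicGeometry
open AlgSp

namespace Groth.Agent.S10593

/-- Consider a morphism (f, f') from the thickening X ⊂ X' to the thickening Y ⊂ Y' of algebraic spaces
over S, meaning: i : X ⟶ X' and j : Y ⟶ Y' are thickenings (representable, every base change to a
scheme a surjective closed immersion) and i ≫ f' = f ≫ j. Assume moreover that the square is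
cartesian (X = Y ×_{Y'} X') and that f and f' are locally of finite type. Then f is locally
quasi-finite, resp. unramified, if and only if f' is (etale-local sense, both notions including
locally of finite type). -/
theorem result {S : Scheme.{u}} {X X' Y Y' : AlgSp.Space S} (i : X ⟶ X') (j : Y ⟶ Y')
    (f : X ⟶ Y) (f' : X' ⟶ Y')
    (hi : AlgSp.IsThickMor i.hom)
    (hj : AlgSp.IsThickMor j.hom) (w : i ≫ f' = f ≫ j)
    (hcart : IsPullback i.hom f.hom f'.hom j.hom)
    (hft : AlgSp.LocP @LocallyOfFiniteType f.hom) (hft' : AlgSp.LocP @LocallyOfFiniteType f'.hom) :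
    (AlgSp.LocP (@LocallyQuasiFinite ⊓ @LocallyOfFiniteType) f.hom ↔
      AlgSp.LocP (@LocallyQuasiFinite ⊓ @LocallyOfFiniteType) f'.hom) ∧
    (AlgSp.LocP (@LocallyOfFiniteType ⊓ @FormallyUnramified) f.hom ↔
      AlgSp.LocP (@LocallyOfFiniteType ⊓ @FormallyUnramified) f'.hom) := by
  refine ⟨⟨fun hf => ?_, fun hf' => ?_⟩, ⟨fun hf => ?_, fun hf' => ?_⟩⟩
  · intro U' V' a' b' h' ha' hb' w'
    obtain ⟨U, V, iU, iV, a, b, h, ha, hb, w0, -, hiV, sq, -, -⟩ :=
      Groth.Agent.R2.H47.ThickLoc.exists_chart_square i.hom j.hom f.hom f'.hom hi hj hcart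
        a' b' h' ha' hb' w'
    have h1 : LocallyOfFiniteType h.left := hft a b h ha hb w0
    have h2 : LocallyOfFiniteType h'.left := hft' a' b' h' ha' hb' w'
    have h3 : LocallyQuasiFinite h.left := (hf a b h ha hb w0).1
    exact ⟨(Groth.Agent.S1312.result iU.left iV.left h.left h'.left hiV sq).1 h3, h2⟩
  · exact Groth.Agent.S9984.result (@LocallyQuasiFinite ⊓ @LocallyOfFiniteType)
      (Or.inr (Or.inr (Or.inr (Or.inr (Or.inr (Or.inl (fun _ _ _ => Iff.rfl)))))))
      f' j i f hcart hf'
  · intro U' V' a' b' h' ha' hb' w'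
    obtain ⟨U, V, iU, iV, a, b, h, ha, hb, w0, -, hiV, sq, -, -⟩ :=
      Groth.Agent.R2.H47.ThickLoc.exists_chart_square i.hom j.hom f.hom f'.hom hi hj hcart
        a' b' h' ha' hb' w'
    have h1 : LocallyOfFiniteType h.left := hft a b h ha hb w0
    have h2 : LocallyOfFiniteType h'.left := hft' a' b' h' ha' hb' w'
    have h3 : FormallyUnramified h.left := (hf a b h ha hb w0).2
    exact ⟨h2, (Groth.Agent.S1314.result iU.left iV.left h.left h'.left hiV sq).1 h3⟩
  · exact Groth.Agent.S9984.result (@LocallyOfFiniteType ⊓ @FormallyUnramified)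
      (Or.inr (Or.inr (Or.inr (Or.inr (Or.inr (Or.inr (fun _ _ _ => Iff.rfl)))))))
      f' j i f hcart hf'

end Groth.Agent.S10593
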