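import Groth.Statements.S10591
import Groth.Agent.R2.H47ThickLoc2
import Groth.Agent.S10593

set_option autoImplicit false
universe u
open CategoryTheory CategoryTheory.Limits AlgebraicGeometry
open AlgSp

namespace Groth.Agent.S10591

/-- Consider a morphism (f, f') from the thickening X ⊂ X' to the thickening Y ⊂ Y' of algebraic spaces
over S, meaning: i : X ⟶ X' and j : Y ⟶ Y' are thickenings (representable, every base change to a
scheme a surjective closed immersion) and i ≫ f' = f ≫ j. Assume moreover that the square is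
cartesian (X = Y ×_{Y'} X') and that i is a finite order thickening (for one n, on every affine
etale scheme chart of X' the (n+1)-st power of the ideal of the base change of X vanishes). Then f
is locally of finite type of relative dimension d, resp. locally of finite type, resp. locally
quasi-finite, resp. unramified, if and only if f' is (relative dimension d at a point: some chart
diagram through the point has fibre of local dimension d there) (all in the etale-local sense,
locally quasi-finite and unramified including locally of finite type). -/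
theorem result {S : Scheme.{u}} {X X' Y Y' : AlgSp.Space S} (i : X ⟶ X') (j : Y ⟶ Y')
    (f : X ⟶ Y) (f' : X' ⟶ Y')
    (hi : AlgSp.IsThickMor i.hom)
    (hj : AlgSp.IsThickMor j.hom) (w : i ≫ f' = f ≫ j)
    (hcart : IsPullback i.hom f.hom f'.hom j.hom)
    (hfo : AlgSp.IsFinThickMor i.hom) (d : ℕ) :
    ((AlgSp.LocP @LocallyOfFiniteType f.hom ∧
        ∀ x, AlgSp.HasAtMor (fun _ _ h u => FlatMor.fibreDimAt h u = (d : WithBot ℕ∞)) f.hom x) ↔
      (AlgSp.LocP @LocallyOfFiniteType f'.hom ∧
        ∀ x', AlgSp.HasAtMor (fun _ _ h u => FlatMor.fibreDimAt h u = (d : WithBot ℕ∞)) f'.hom x')) ∧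
    (AlgSp.LocP @LocallyOfFiniteType f.hom ↔ AlgSp.LocP @LocallyOfFiniteType f'.hom) ∧
    (AlgSp.LocP (@LocallyQuasiFinite ⊓ @LocallyOfFiniteType) f.hom ↔
      AlgSp.LocP (@LocallyQuasiFinite ⊓ @LocallyOfFiniteType) f'.hom) ∧
    (AlgSp.LocP (@LocallyOfFiniteType ⊓ @FormallyUnramified) f.hom ↔
      AlgSp.LocP (@LocallyOfFiniteType ⊓ @FormallyUnramified) f'.hom) := by
  have hlft : AlgSp.LocP @LocallyOfFiniteType f.hom ↔ AlgSp.LocP @LocallyOfFiniteType f'.hom :=
    ⟨Groth.Agent.R2.H47.ThickLoc.locP_lft_of_srcFinThick i.hom j.hom f.hom f'.hom hi hj hcart hfo,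
      Groth.Agent.S9984.result (@LocallyOfFiniteType) (Or.inl rfl) f' j i f hcart⟩
  have weak1 : ∀ {A B : AlgSp.Sp S} (g : A ⟶ B),
      AlgSp.LocP (@LocallyQuasiFinite ⊓ @LocallyOfFiniteType) g →
      AlgSp.LocP @LocallyOfFiniteType g :=
    fun g hg U V a b h ha hb w => (hg a b h ha hb w).2
  have weak2 : ∀ {A B : AlgSp.Sp S} (g : A ⟶ B),
      AlgSp.LocP (@LocallyOfFiniteType ⊓ @FormallyUnramified) g →
      AlgSp.LocP @LocallyOfFiniteType g :=
    fun g hg U V a b h ha hb w => (hg a b h ha hb w).1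
  refine ⟨?_, hlft, ⟨fun h => ?_, fun h => ?_⟩, ⟨fun h => ?_, fun h => ?_⟩⟩
  · constructor
    · rintro ⟨h1, h2⟩
      have h1' := hlft.1 h1
      exact ⟨h1', (Groth.Agent.R2.H47.ThickLoc.hasAtMor_fibreDim_iff X'.property Y'.property
        i.hom j.hom f.hom f'.hom hi hj hcart h1' d).1 h2⟩
    · rintro ⟨h1', h2⟩
      exact ⟨hlft.2 h1', (Groth.Agent.R2.H47.ThickLoc.hasAtMor_fibreDim_iff X'.property
        Y'.property i.hom j.hom f.hom f'.hom hi hj hcart h1' d).2 h2⟩
  · have h1 := weak1 _ h
    exact (Groth.Agent.S10593.result i j f f' hi hj w hcart h1 (hlft.1 h1)).1.1 h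
  · have h1 := weak1 _ h
    exact (Groth.Agent.S10593.result i j f f' hi hj w hcart (hlft.2 h1) h1).1.2 h
  · have h1 := weak2 _ h
    exact (Groth.Agent.S10593.result i j f f' hi hj w hcart h1 (hlft.1 h1)).2.1 h
  · have h1 := weak2 _ h
    exact (Groth.Agent.S10593.result i j f f' hi hj w hcart (hlft.2 h1) h1).2.2 h

end Groth.Agent.S10591
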