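import Groth.Statements.S10592
import Groth.Agent.S10594
import Groth.Agent.S9984
import Groth.Agent.S10175
import Groth.Agent.S10176
import Groth.Agent.R2.H47SrcFThick
import Groth.Agent.R2.H93ThickChart
import Groth.Agent.R2.H93FinProps
import Groth.Agent.Lib.Helper12LocPNbhd
import Groth.Agent.Lib.Helper12LocPCases

set_option autoImplicit false
universe u
open CategoryTheory CategoryTheory.Limits AlgebraicGeometry
open AlgSp

namespace Groth.Agent.S10592

set_option linter.style.haveILetI false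

/-- locally of finite type deforms in a cartesian square of thickenings when the source thickening
has finite order. -/
theorem lft_of_finThick {S : Scheme.{u}} {X X' Y Y' : AlgSp.Space S} (i : X ⟶ X') (j : Y ⟶ Y')
    (f : X ⟶ Y) (f' : X' ⟶ Y') (hj : AlgSp.IsThickMor j.hom)
    (hcart : IsPullback i.hom f.hom f'.hom j.hom) (hfo : AlgSp.IsFinThickMor i.hom)
    (hf : AlgSp.LocP @LocallyOfFiniteType f.hom) : AlgSp.LocP @LocallyOfFiniteType f'.hom := by
  obtain ⟨n, hi, hn⟩ := hfo
  rw [Groth.Agent.Lib.Helper12.LocPNbhd.locP_iff_forall_hasAtMor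
    Groth.Agent.Lib.Helper12.LocPCases.good_lft X'.property Y'.property]
  intro x'
  -- a chart of `Y'` and its pullback to `Y`
  obtain ⟨V, b, v, -, hb, hv⟩ := Groth.Agent.R2.H93.ThickChart.exists_affine_chart Y'.property
    (AlgSp.Points.map f'.hom x')
  obtain ⟨V₀, κ, b₀, sqV⟩ := hj.1 b
  have hκ : AlgSp.thick κ.left := hj.2 b b₀ κ sqV
  have hb₀ : AlgSp.RepWith @Etale b₀ :=
    MorphismProperty.of_isPullback (P := AlgSp.RepWith @Etale) sqV.flip hb
  -- an affine chart of `Q = X' ×_{Y'} V`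
  have sqQ := IsPullback.of_hasPullback f'.hom b
  have hQ : AlgSp.IsAlgSpace (pullback f'.hom b) :=
    Groth.Agent.S9874.isAlgSpace_of_isPullback Y'.property.diag X'.property
      (AlgSp.IsAlgSpace.yon_obj V) sqQ
  obtain ⟨q, hq1, -⟩ := Groth.Agent.S10175.exists_point_of_isPullback sqQ x'
    (AlgSp.Points.ofPt (𝟙 _) v) (by rw [AlgSp.Points.map_ofPt, Category.id_comp, hv])
  obtain ⟨U, a0, u, hU, ha0, hu⟩ := Groth.Agent.R2.H93.ThickChart.exists_affine_chart hQ q
  have hfst : AlgSp.RepWith @Etale (pullback.fst f'.hom b) :=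
    MorphismProperty.of_isPullback (P := AlgSp.RepWith @Etale) sqQ.flip hb
  have ha : AlgSp.RepWith @Etale (a0 ≫ pullback.fst f'.hom b) :=
    (AlgSp.repWith_isMultiplicative (S := S) @Etale).comp_mem _ _ ha0 hfst
  obtain ⟨h, hh⟩ := (AlgSp.yon S).map_surjective (a0 ≫ pullback.snd f'.hom b)
  have e1 : (a0 ≫ pullback.fst f'.hom b) ≫ f'.hom = (AlgSp.yon S).map h ≫ b := by
    rw [hh, Category.assoc, Category.assoc, pullback.condition]
  -- the pullback chart of `X`
  have sqZ0 : IsPullback ((AlgSp.yon S).map (pullback.snd h κ))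
      ((AlgSp.yon S).map (pullback.fst h κ)) ((AlgSp.yon S).map κ) ((AlgSp.yon S).map h) :=
    ((IsPullback.of_hasPullback h κ).map (AlgSp.yon S)).flip
  have big : IsPullback ((AlgSp.yon S).map (pullback.snd h κ) ≫ b₀)
      ((AlgSp.yon S).map (pullback.fst h κ)) j.hom ((AlgSp.yon S).map h ≫ b) :=
    sqZ0.paste_horiz sqV
  have hcomm : ((AlgSp.yon S).map (pullback.fst h κ) ≫ a0 ≫ pullback.fst f'.hom b) ≫ f'.hom =
      ((AlgSp.yon S).map (pullback.snd h κ) ≫ b₀) ≫ j.hom := by
    rw [Category.assoc, e1]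
    exact big.w.symm
  obtain ⟨a', ea'1, ea'2⟩ : ∃ a' : (AlgSp.yon S).obj (pullback h κ) ⟶ X.obj,
      a' ≫ i.hom = (AlgSp.yon S).map (pullback.fst h κ) ≫ a0 ≫ pullback.fst f'.hom b ∧
      a' ≫ f.hom = (AlgSp.yon S).map (pullback.snd h κ) ≫ b₀ :=
    ⟨hcart.lift _ _ hcomm, hcart.lift_fst _ _ _, hcart.lift_snd _ _ _⟩
  have sqZ : IsPullback a' ((AlgSp.yon S).map (pullback.fst h κ)) i.hom
      (a0 ≫ pullback.fst f'.hom b) := by
    refine IsPullback.of_right ?_ ea'1 hcart.flip
    rw [ea'2, e1]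
    exact big
  have ha' : AlgSp.RepWith @Etale a' :=
    MorphismProperty.of_isPullback (P := AlgSp.RepWith @Etale) sqZ.flip ha
  -- the chart of `f` is locally of finite type, and the source thickening has finite order
  have hk : LocallyOfFiniteType (pullback.snd h κ).left := hf a' b₀ (pullback.snd h κ) ha' hb₀ ea'2
  have hpow : (pullback.fst h κ).left.ker ^ (n + 1) = ⊥ :=
    hn (a0 ≫ pullback.fst f'.hom b) a' (pullback.fst h κ) hU ha sqZ
  have hc : IsPullback (pullback.fst h κ).left (pullback.snd h κ).left h.left κ.left :=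
    (IsPullback.of_hasPullback h κ).map (Over.forget S)
  have hlft : LocallyOfFiniteType h.left :=
    Groth.Agent.R2.H47.SrcFThick.lft_of_srcfthick (pullback.fst h κ).left κ.left
      (pullback.snd h κ).left h.left hκ hc (n + 1) hpow
  have hpt : AlgSp.Points.ofPt (a0 ≫ pullback.fst f'.hom b) u = x' := by
    rw [← AlgSp.Points.map_ofPt, hu, hq1]
  refine ⟨U, V, a0 ≫ pullback.fst f'.hom b, b, h, u, ha, hb, e1, hpt, ⊤, trivial, ?_⟩
  show LocallyOfFiniteType ((⊤ : U.left.Opens).ι ≫ h.left)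
  infer_instance

/-- Consider a morphism (f, f') from the thickening X ⊂ X' to the thickening Y ⊂ Y' of algebraic spaces
over S, meaning: i : X ⟶ X' and j : Y ⟶ Y' are thickenings (representable, every base change to a
scheme a surjective closed immersion) and i ≫ f' = f ≫ j. Assume moreover that the square is
cartesian (X = Y ×_{Y'} X') and that i is a finite order thickening (for one n, on every affine
etale scheme chart of X' the (n+1)-st power of the ideal of the base change of X vanishes). Then f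
is a closed immersion, resp. proper, resp. finite, resp. an immersion, if and only if f' is
(immersions of algebraic spaces being the representable ones). -/
theorem result {S : Scheme.{u}} {X X' Y Y' : AlgSp.Space S} (i : X ⟶ X') (j : Y ⟶ Y')
    (f : X ⟶ Y) (f' : X' ⟶ Y')
    (hi : AlgSp.IsThickMor i.hom)
    (hj : AlgSp.IsThickMor j.hom) (w : i ≫ f' = f ≫ j)
    (hcart : IsPullback i.hom f.hom f'.hom j.hom)
    (hfo : AlgSp.IsFinThickMor i.hom) :
    (AlgSp.RepWith @IsClosedImmersion f.hom ↔ AlgSp.RepWith @IsClosedImmersion f'.hom) ∧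
    (AlgSp.IsProperMor f.hom ↔ AlgSp.IsProperMor f'.hom) ∧
    (AlgSp.IsFiniteMor f.hom ↔ AlgSp.IsFiniteMor f'.hom) ∧
    (AlgSp.RepWith @IsImmersion f.hom ↔ AlgSp.RepWith @IsImmersion f'.hom) := by
  have hup : AlgSp.LocP @LocallyOfFiniteType f.hom → AlgSp.LocP @LocallyOfFiniteType f'.hom :=
    lft_of_finThick i j f f' hj hcart hfo
  have hdown : AlgSp.LocP @LocallyOfFiniteType f'.hom → AlgSp.LocP @LocallyOfFiniteType f.hom :=
    Groth.Agent.S9984.result _ (Or.inl rfl) f' j i f hcart
  have gen : ∀ {P P' : Prop}, (P → AlgSp.LocP @LocallyOfFiniteType f.hom) →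
      (P' → AlgSp.LocP @LocallyOfFiniteType f'.hom) →
      (AlgSp.LocP @LocallyOfFiniteType f.hom → AlgSp.LocP @LocallyOfFiniteType f'.hom →
        (P ↔ P')) → (P ↔ P') := by
    intro P P' h1 h2 h3
    constructor
    · intro hP
      exact (h3 (h1 hP) (hup (h1 hP))).1 hP
    · intro hP'
      exact (h3 (hdown (h2 hP')) (h2 hP')).2 hP'
  have lft_imm : ∀ {A C : AlgSp.Space S} (φ : A ⟶ C), AlgSp.RepWith @IsImmersion φ.hom →
      AlgSp.LocP @LocallyOfFiniteType φ.hom := fun φ h => Groth.Agent.S9953.result φ h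
  have lft_ci : ∀ {A C : AlgSp.Space S} (φ : A ⟶ C), AlgSp.RepWith @IsClosedImmersion φ.hom →
      AlgSp.LocP @LocallyOfFiniteType φ.hom := fun φ h => lft_imm φ
    (Groth.Agent.Lib.Helper12.OpenSub.repWith_mono
      (fun _ _ g hg => by
        haveI : IsClosedImmersion g := hg
        exact (inferInstance : IsImmersion g)) h)
  have lft_proper : ∀ {A C : AlgSp.Space S} (φ : A ⟶ C), AlgSp.IsProperMor φ.hom →
      AlgSp.LocP @LocallyOfFiniteType φ.hom := fun φ h => h.2.1.1
  have lft_fin : ∀ {A C : AlgSp.Space S} (φ : A ⟶ C), AlgSp.IsFiniteMor φ.hom →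
      AlgSp.LocP @LocallyOfFiniteType φ.hom := fun φ h =>
    lft_proper φ (Groth.Agent.R2.H93.FinProps.isProperMor_of_isFiniteMor φ h)
  refine ⟨gen (lft_ci f) (lft_ci f') fun h1 h2 =>
      (Groth.Agent.S10594.core i j f f' hi hj w hcart h1 h2).2.1,
    gen (lft_proper f) (lft_proper f') fun h1 h2 =>
      (Groth.Agent.S10594.core i j f f' hi hj w hcart h1 h2).2.2,
    gen (lft_fin f) (lft_fin f') fun h1 h2 =>
      (Groth.Agent.S10594.core i j f f' hi hj w hcart h1 h2).1,
    gen (lft_imm f) (lft_imm f') fun h1 h2 =>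
      ⟨Groth.Agent.S10594.immersion_of i j f f' hi hj w hcart h2, fun h =>
        MorphismProperty.of_isPullback (P := AlgSp.RepWith @IsImmersion) hcart h⟩⟩

end Groth.Agent.S10592
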