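import Groth.Statements.S10595
import Groth.Agent.R2.H93ThickChart
import Groth.Agent.Lib.Helper2Deform
import Groth.Agent.S10609
import Groth.Agent.S10642
import Groth.Agent.Lib.Helper5FiberMor

set_option autoImplicit false
set_option linter.style.haveILetI false
universe u
open CategoryTheory CategoryTheory.Limits AlgebraicGeometry
open AlgSp

namespace Groth.Agent.S10595

/-- Let iB : B ⟶ B' be a finite order thickening of algebraic spaces over S (a thickening such that for
one n the (n+1)-st power of the ideal vanishes on every affine etale scheme chart), f' : X' ⟶ Y' a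
morphism of algebraic spaces over B' (via g' : Y' ⟶ B') with X' flat over B', and f : X ⟶ Y, g : Y ⟶
B its base change to B (both squares to iB cartesian, iX ≫ f' = f ≫ iY). If f is flat, then f' is
flat and g' : Y' ⟶ B' is flat at every point of Y' in the image of f'. -/
theorem result {S : Scheme.{u}} {X X' Y Y' B B' : AlgSp.Space S} (iX : X ⟶ X') (iY : Y ⟶ Y') (iB : B ⟶ B')
    (f : X ⟶ Y) (f' : X' ⟶ Y') (g : Y ⟶ B) (g' : Y' ⟶ B')
    (hcX : IsPullback iX.hom (f ≫ g).hom (f' ≫ g').hom iB.hom) (hcY : IsPullback iY.hom g.hom g'.hom iB.hom)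
    (w : iX ≫ f' = f ≫ iY)
    (hB : AlgSp.IsFinThickMor iB.hom) (hflat : AlgSp.LocP @Flat (f' ≫ g').hom)
    (hf : AlgSp.LocP @Flat f.hom) :
    AlgSp.LocP @Flat f'.hom ∧
    ∀ x' : AlgSp.Points X'.obj, AlgSp.IsFlatAtMor g'.hom (AlgSp.Points.map f'.hom x') := by
  obtain ⟨n, hB, hn⟩ := hB
  have hiX : AlgSp.IsThickMor iX.hom :=
    Groth.Agent.R2.H47.ThickTop.isThickMor_of_isPullback hcX.flip hB
  have hsurj : Function.Surjective (AlgSp.Points.map iX.hom) :=
    (Groth.Agent.R2.H47.ThickTop.isHomeomorph_points_map iX.hom hiX).bijective.2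
  have key : ∀ x : AlgSp.Points X.obj,
      AlgSp.IsFlatAtMor f'.hom (AlgSp.Points.map iX.hom x) ∧
        AlgSp.IsFlatAtMor g'.hom (AlgSp.Points.map f'.hom (AlgSp.Points.map iX.hom x)) := by
    intro x
    obtain ⟨U', V', W', W, a', b', c', c, k1, k2, κ, bY, aX, u, hW', ha', hb', hc', hc, hbY, haX,
      sqW, e1, e2, e3, e4, e5, e6, hu⟩ :=
      Groth.Agent.R2.H93.ThickChart.exists_thick_chart iX iY iB f f' g g' hcX hcY w hB x
    have hκ : MoreMor.IsFiniteOrderThickening κ.left :=
      ⟨hB.2 c' c κ sqW, ⟨n + 1, hn c' c κ hW' hc' sqW⟩⟩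
    have hcYs : IsPullback (pullback.fst k2 κ).left (pullback.snd k2 κ).left k2.left κ.left :=
      (IsPullback.of_hasPullback k2 κ).map (Over.forget S)
    have sqLs : IsPullback (pullback.fst k1 (pullback.fst k2 κ)).left
        (pullback.snd k1 (pullback.fst k2 κ)).left k1.left (pullback.fst k2 κ).left :=
      (IsPullback.of_hasPullback k1 (pullback.fst k2 κ)).map (Over.forget S)
    have hcXs := sqLs.paste_vert hcYs
    have e12 : a' ≫ (f' ≫ g').hom = (AlgSp.yon S).map (k1 ≫ k2) ≫ c' := by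
      change a' ≫ f'.hom ≫ g'.hom = _
      rw [← Category.assoc, e1, Category.assoc, e2, ← Category.assoc, ← Functor.map_comp]
    haveI : Flat (k1.left ≫ k2.left) := hflat a' c' (k1 ≫ k2) ha' hc' e12
    haveI : Flat (pullback.snd k1 (pullback.fst k2 κ)).left := hf aX bY _ haX hbY e5
    haveI : Flat k1.left := Groth.Agent.Lib.Helper2.Deform.flat_of_deform _ _ κ.left _ k1.left _
      k2.left hκ hcXs hcYs sqLs.w
    have h1 : (k1.left.stalkMap ((pullback.fst k1 (pullback.fst k2 κ)).left u)).hom.Flat :=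
      Flat.stalkMap _ _
    have hpt : AlgSp.Points.ofPt a' ((pullback.fst k1 (pullback.fst k2 κ)).left u) =
        AlgSp.Points.map iX.hom x := by
      rw [← Groth.Agent.S10176.ofPt_map_comp, ← e6, ← AlgSp.Points.map_ofPt, hu]
    have h12 : ((k1.left ≫ k2.left).stalkMap
        ((pullback.fst k1 (pullback.fst k2 κ)).left u)).hom.Flat := Flat.stalkMap _ _
    have h2 := Groth.Agent.Lib.Helper5.FiberMor.flat_of_comp k1.left k2.left _ h12 h1
    refine ⟨?_, ?_⟩
    · rw [← hpt]
      exact (Groth.Agent.S10609.isFlatAtMor_iff_of_diagram f' a' b' k1 ha' hb' e1 _).mpr h1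
    · rw [← hpt, AlgSp.Points.map_ofPt, e1, Groth.Agent.S10176.ofPt_map_comp]
      exact (Groth.Agent.S10609.isFlatAtMor_iff_of_diagram g' b' c' k2 hb' hc' e2 _).mpr h2
  refine ⟨(Groth.Agent.S10642.locP_flat_iff_forall_isFlatAtMor f').mpr fun x' => ?_, fun x' => ?_⟩
  · obtain ⟨x, rfl⟩ := hsurj x'
    exact (key x).1
  · obtain ⟨x, rfl⟩ := hsurj x'
    exact (key x).2

end Groth.Agent.S10595
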