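import Groth.Statements.S10596
import Groth.Agent.R2.H93ThickLocP
import Groth.Agent.R2.H45GrpLocus
import Groth.Agent.R2.H45RelDim
import Groth.Agent.R2.H47SrcFThick
import Groth.Agent.Lib.Helper2Deform
import Groth.Agent.Lib.Helper2Thick
import Groth.Agent.S10595
import Groth.Agent.S10554
import Groth.Agent.S9984

set_option autoImplicit false
set_option linter.style.haveILetI false
universe u
open CategoryTheory CategoryTheory.Limits AlgebraicGeometry
open AlgSp

namespace Groth.Agent.S10596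

open Groth.Agent.R2.H93.ThickLocP Groth.Agent.Lib.Helper12.LocPCases

/-- Let iB : B ⟶ B' be a finite order thickening of algebraic spaces over S (a thickening such that for
one n the (n+1)-st power of the ideal vanishes on every affine etale scheme chart), f' : X' ⟶ Y' a
morphism of algebraic spaces over B' (via g' : Y' ⟶ B') with X' flat over B', and f : X ⟶ Y, g : Y ⟶
B its base change to B (both squares to iB cartesian, iX ≫ f' = f ≫ iY). Then f is locally of finite
type of relative dimension d, resp. flat, resp. locally of finite type, locally quasi-finite,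
locally of finite presentation, smooth, unramified, etale, if and only if f' is (etale-local sense;
locally quasi-finite and unramified include locally of finite type). -/
theorem result {S : Scheme.{u}} {X X' Y Y' B B' : AlgSp.Space S} (iX : X ⟶ X') (iY : Y ⟶ Y') (iB : B ⟶ B')
    (f : X ⟶ Y) (f' : X' ⟶ Y') (g : Y ⟶ B) (g' : Y' ⟶ B')
    (hcX : IsPullback iX.hom (f ≫ g).hom (f' ≫ g').hom iB.hom) (hcY : IsPullback iY.hom g.hom g'.hom iB.hom)
    (w : iX ≫ f' = f ≫ iY)
    (hB : AlgSp.IsFinThickMor iB.hom) (hflat : AlgSp.LocP @Flat (f' ≫ g').hom) (d : ℕ) :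
    ((AlgSp.LocP @LocallyOfFiniteType f.hom ∧
        ∀ x, AlgSp.HasAtMor (fun _ _ h u => FlatMor.fibreDimAt h u = (d : WithBot ℕ∞)) f.hom x) ↔
      (AlgSp.LocP @LocallyOfFiniteType f'.hom ∧
        ∀ x', AlgSp.HasAtMor (fun _ _ h u => FlatMor.fibreDimAt h u = (d : WithBot ℕ∞)) f'.hom x')) ∧
    (AlgSp.LocP @Flat f.hom ↔ AlgSp.LocP @Flat f'.hom) ∧
    (AlgSp.LocP @LocallyOfFiniteType f.hom ↔ AlgSp.LocP @LocallyOfFiniteType f'.hom) ∧
    (AlgSp.LocP (@LocallyQuasiFinite ⊓ @LocallyOfFiniteType) f.hom ↔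
      AlgSp.LocP (@LocallyQuasiFinite ⊓ @LocallyOfFiniteType) f'.hom) ∧
    (AlgSp.LocP @LocallyOfFinitePresentation f.hom ↔ AlgSp.LocP @LocallyOfFinitePresentation f'.hom) ∧
    (AlgSp.LocP @Smooth f.hom ↔ AlgSp.LocP @Smooth f'.hom) ∧
    (AlgSp.LocP (@LocallyOfFiniteType ⊓ @FormallyUnramified) f.hom ↔
      AlgSp.LocP (@LocallyOfFiniteType ⊓ @FormallyUnramified) f'.hom) ∧
    (AlgSp.IsEtaleMor f.hom ↔ AlgSp.IsEtaleMor f'.hom) := by
  have hfin := hB
  obtain ⟨n, hB, hn⟩ := hB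
  have hw : iX.hom ≫ f'.hom = f.hom ≫ iY.hom := congrArg (fun φ => φ.hom) w
  have sqL : IsPullback iX.hom f.hom f'.hom iY.hom := IsPullback.of_bot hcX hw hcY
  have hsurj := surjective_map_of_thick iX iB (f ≫ g) (f' ≫ g') hcX hB
  -- chart level data
  have cube : ∀ (U' V' W' W : Over S) (a' : (AlgSp.yon S).obj U' ⟶ X'.obj)
      (b' : (AlgSp.yon S).obj V' ⟶ Y'.obj) (c' : (AlgSp.yon S).obj W' ⟶ B'.obj)
      (c : (AlgSp.yon S).obj W ⟶ B.obj) (k1 : U' ⟶ V') (k2 : V' ⟶ W') (κ : W ⟶ W'),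
      IsAffine W'.left → AlgSp.RepWith @Etale a' → AlgSp.RepWith @Etale b' →
      AlgSp.RepWith @Etale c' → IsPullback c ((AlgSp.yon S).map κ) iB.hom c' →
      a' ≫ f'.hom = (AlgSp.yon S).map k1 ≫ b' → b' ≫ g'.hom = (AlgSp.yon S).map k2 ≫ c' →
      MoreMor.IsFiniteOrderThickening κ.left ∧ Flat (k1.left ≫ k2.left) := by
    intro U' V' W' W a' b' c' c k1 k2 κ hW' ha' hb' hc' sqW e1 e2
    refine ⟨⟨hB.2 c' c κ sqW, ⟨n + 1, hn c' c κ hW' hc' sqW⟩⟩, ?_⟩
    have e12 : a' ≫ (f' ≫ g').hom = (AlgSp.yon S).map (k1 ≫ k2) ≫ c' := by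
      change a' ≫ f'.hom ≫ g'.hom = _
      rw [← Category.assoc, e1, Category.assoc, e2, ← Category.assoc, ← Functor.map_comp]
    exact hflat a' c' (k1 ≫ k2) ha' hc' e12
  -- the properties that deform chartwise
  have hlft : AlgSp.LocP @LocallyOfFiniteType f.hom → AlgSp.LocP @LocallyOfFiniteType f'.hom := by
    refine locP_of_thick_chart good_lft iX iY iB f f' g g' hcX hcY w hB ?_
    intro U' V' W' W a' b' c' c k1 k2 κ hW' ha' hb' hc' sqW e1 e2 hP
    obtain ⟨hκ, hfl⟩ := cube U' V' W' W a' b' c' c k1 k2 κ hW' ha' hb' hc' sqW e1 e2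
    obtain ⟨hcXs, hcYs, sqLs⟩ := scheme_squares k1 k2 κ
    haveI : LocallyOfFiniteType (pullback.snd k1 (pullback.fst k2 κ)).left := hP
    have hXs := Groth.Agent.Lib.Helper2.Thick.fthick_baseChange _ _ _ _ hκ hcXs
    have hYs := Groth.Agent.Lib.Helper2.Thick.fthick_baseChange _ _ _ _ hκ hcYs
    obtain ⟨m, hm⟩ := hXs.2
    rw [Scheme.IdealSheafData.zero_eq_bot] at hm
    exact Groth.Agent.R2.H47.SrcFThick.lft_of_srcfthick _ _ _ k1.left hYs.1 sqLs m hm
  have hlfp : AlgSp.LocP @LocallyOfFinitePresentation f.hom →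
      AlgSp.LocP @LocallyOfFinitePresentation f'.hom := by
    refine locP_of_thick_chart good_lfp iX iY iB f f' g g' hcX hcY w hB ?_
    intro U' V' W' W a' b' c' c k1 k2 κ hW' ha' hb' hc' sqW e1 e2 hP
    obtain ⟨hκ, hfl⟩ := cube U' V' W' W a' b' c' c k1 k2 κ hW' ha' hb' hc' sqW e1 e2
    obtain ⟨hcXs, hcYs, sqLs⟩ := scheme_squares k1 k2 κ
    haveI : LocallyOfFinitePresentation (pullback.snd k1 (pullback.fst k2 κ)).left := hP
    exact Groth.Agent.Lib.Helper2.Deform.lfp_of_deform _ _ κ.left _ k1.left _ k2.left hκ hcXs hcYs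
      sqLs.w
  have hsm : AlgSp.LocP @Smooth f.hom → AlgSp.LocP @Smooth f'.hom := by
    refine locP_of_thick_chart good_smooth iX iY iB f f' g g' hcX hcY w hB ?_
    intro U' V' W' W a' b' c' c k1 k2 κ hW' ha' hb' hc' sqW e1 e2 hP
    obtain ⟨hκ, hfl⟩ := cube U' V' W' W a' b' c' c k1 k2 κ hW' ha' hb' hc' sqW e1 e2
    obtain ⟨hcXs, hcYs, sqLs⟩ := scheme_squares k1 k2 κ
    haveI : Smooth (pullback.snd k1 (pullback.fst k2 κ)).left := hP
    exact Groth.Agent.Lib.Helper2.Deform.smooth_of_deform _ _ κ.left _ k1.left _ k2.left hκ hcXs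
      hcYs sqLs.w
  have het : AlgSp.LocP @Etale f.hom → AlgSp.LocP @Etale f'.hom := by
    refine locP_of_thick_chart good_etale iX iY iB f f' g g' hcX hcY w hB ?_
    intro U' V' W' W a' b' c' c k1 k2 κ hW' ha' hb' hc' sqW e1 e2 hP
    obtain ⟨hκ, hfl⟩ := cube U' V' W' W a' b' c' c k1 k2 κ hW' ha' hb' hc' sqW e1 e2
    obtain ⟨hcXs, hcYs, sqLs⟩ := scheme_squares k1 k2 κ
    haveI : Etale (pullback.snd k1 (pullback.fst k2 κ)).left := hP
    exact Groth.Agent.Lib.Helper2.Deform.etale_of_deform _ _ κ.left _ k1.left _ k2.left hκ hcXs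
      hcYs sqLs.w
  have hlftiff : AlgSp.LocP @LocallyOfFiniteType f.hom ↔ AlgSp.LocP @LocallyOfFiniteType f'.hom :=
    ⟨hlft, Groth.Agent.S9984.result _ (Or.inl rfl) f' iY iX f sqL⟩
  -- pointwise properties
  have hpt : ∀ {Q : ∀ (U V : Scheme.{u}), (U ⟶ V) → ↥U → Prop},
      (∀ x : AlgSp.Points X.obj, AlgSp.HasAtMor Q f.hom x ↔
        AlgSp.HasAtMor Q f'.hom (AlgSp.Points.map iX.hom x)) →
      ((∀ x, AlgSp.HasAtMor Q f.hom x) ↔ ∀ x', AlgSp.HasAtMor Q f'.hom x') := by
    intro Q hQ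
    constructor
    · intro H x'
      obtain ⟨x, rfl⟩ := hsurj x'
      exact (hQ x).1 (H x)
    · intro H x
      exact (hQ x).2 (H _)
  refine ⟨?_, ?_, hlftiff, ?_, ?_, ?_, ?_, ?_⟩
  · -- relative dimension d
    constructor
    · rintro ⟨h1, h2⟩
      have h1' := hlft h1
      exact ⟨h1', (hpt fun x => Groth.Agent.R2.H45.RelDim.hasAtMor_fibreDimAt_baseChange_iff
        (fun e => e = (d : WithBot ℕ∞)) X'.property Y'.property Y.property sqL h1' x).1 h2⟩
    · rintro ⟨h1', h2⟩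
      exact ⟨hlftiff.2 h1', (hpt fun x =>
        Groth.Agent.R2.H45.RelDim.hasAtMor_fibreDimAt_baseChange_iff
          (fun e => e = (d : WithBot ℕ∞)) X'.property Y'.property Y.property sqL h1' x).2 h2⟩
  · -- flat
    exact ⟨fun hf => (Groth.Agent.S10595.result iX iY iB f f' g g' hcX hcY w hfin hflat hf).1,
      Groth.Agent.S9984.result _ (Or.inr (Or.inr (Or.inl rfl))) f' iY iX f sqL⟩
  · -- locally quasi-finite
    constructor
    · intro h
      have h1 : AlgSp.LocP @LocallyOfFiniteType f.hom :=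
        Groth.Agent.Lib.Helper12.LargestOpen.locP_mono (fun _ _ _ hg => hg.2) h
      have h1' := hlft h1
      rw [Groth.Agent.R2.H45.GrpLocus.locP_iff_forall_hasAtMor
        Groth.Agent.R2.H45.GrpLocus.etSqInvOn_qlqf Groth.Agent.R2.H45.GrpLocus.detects_qlqf
        X'.property Y'.property f'.hom h1']
      rw [Groth.Agent.R2.H45.GrpLocus.locP_iff_forall_hasAtMor
        Groth.Agent.R2.H45.GrpLocus.etSqInvOn_qlqf Groth.Agent.R2.H45.GrpLocus.detects_qlqf
        X.property Y.property f.hom h1] at h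
      exact (hpt fun x => Groth.Agent.R2.H45.GrpLocus.bcInv_qlqf X'.property Y'.property
        Y.property sqL h1' x).1 h
    · exact Groth.Agent.S9984.result _
        (Or.inr (Or.inr (Or.inr (Or.inr (Or.inr (Or.inl fun _ _ _ => Iff.rfl)))))) f' iY iX f sqL
  · -- locally of finite presentation
    exact ⟨hlfp, Groth.Agent.S9984.result _ (Or.inr (Or.inl rfl)) f' iY iX f sqL⟩
  · -- smooth
    exact ⟨hsm, Groth.Agent.S9984.result _ (Or.inr (Or.inr (Or.inr (Or.inl rfl)))) f' iY iX f sqL⟩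
  · -- unramified
    constructor
    · intro h
      have h1 : AlgSp.LocP @LocallyOfFiniteType f.hom :=
        Groth.Agent.Lib.Helper12.LargestOpen.locP_mono (fun _ _ _ hg => hg.1) h
      have h1' := hlft h1
      rw [Groth.Agent.R2.H45.GrpLocus.locP_iff_forall_hasAtMor
        (Groth.Agent.R2.H45.Unram.etSqInv_qunr.on _) Groth.Agent.R2.H45.GrpLocus.detects_qunr
        X'.property Y'.property f'.hom h1']
      rw [Groth.Agent.R2.H45.GrpLocus.locP_iff_forall_hasAtMor
        (Groth.Agent.R2.H45.Unram.etSqInv_qunr.on _) Groth.Agent.R2.H45.GrpLocus.detects_qunr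
        X.property Y.property f.hom h1] at h
      exact (hpt fun x => Groth.Agent.R2.H45.GrpLocus.bcInv_qunr X'.property Y'.property
        Y.property sqL h1' x).1 h
    · exact Groth.Agent.S9984.result _
        (Or.inr (Or.inr (Or.inr (Or.inr (Or.inr (Or.inr fun _ _ _ => Iff.rfl)))))) f' iY iX f sqL
  · -- etale
    constructor
    · intro h
      exact Groth.Agent.S10554.isEtaleMor_of_locP Y'.property f'.hom
        (het (Groth.Agent.Lib.Helper12.SrcLocal.locP_etale_of_isEtaleMor f.hom h))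
    · intro h
      exact Groth.Agent.S10554.isEtaleMor_of_locP Y.property f.hom
        (Groth.Agent.S9984.result _ (Or.inr (Or.inr (Or.inr (Or.inr (Or.inl rfl))))) f' iY iX f sqL
          (Groth.Agent.Lib.Helper12.SrcLocal.locP_etale_of_isEtaleMor f'.hom h))

end Groth.Agent.S10596
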