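import Groth.Statements.S10610
import Groth.Agent.S10587
import Groth.Agent.S10589
import Groth.Agent.S10596
import Groth.Agent.S10649
import Groth.Agent.R2.H47ThickTop

set_option autoImplicit false
universe u
open CategoryTheory CategoryTheory.Limits AlgebraicGeometry
open AlgSp

namespace Groth.Agent.S10610

/-- Let iB : B ⟶ B' be a finite order thickening of algebraic spaces over S (a thickening such that for
one n the (n+1)-st power of the ideal vanishes on every affine etale scheme chart), f' : X' ⟶ Y' a
morphism of algebraic spaces over B' (via g' : Y' ⟶ B') with X' flat over B', and f : X ⟶ Y, g : Y ⟶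
B its base change to B (both squares to iB cartesian, iX ≫ f' = f ≫ iY). Then f is finite if and
only if f' is finite. (The published statement lists eleven further properties with the same
equivalence: representable by schemes, quasi-compact, universally closed, separated,
quasi-separated, surjective, universally injective, affine, universally open, proper and integral.
Since iX and iY are again thickenings and X = Y ×_{Y'} X', those cases follow from the corresponding
statements for morphisms of thickenings and are not restated here.) -/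
theorem result {S : Scheme.{u}} {X X' Y Y' B B' : AlgSp.Space S} (iX : X ⟶ X') (iY : Y ⟶ Y') (iB : B ⟶ B')
    (f : X ⟶ Y) (f' : X' ⟶ Y') (g : Y ⟶ B) (g' : Y' ⟶ B')
    (hcX : IsPullback iX.hom (f ≫ g).hom (f' ≫ g').hom iB.hom) (hcY : IsPullback iY.hom g.hom g'.hom iB.hom)
    (w : iX ≫ f' = f ≫ iY)
    (hB : AlgSp.IsFinThickMor iB.hom) (hflat : AlgSp.LocP @Flat (f' ≫ g').hom) :
    (AlgSp.IsFiniteMor f.hom ↔ AlgSp.IsFiniteMor f'.hom) := by
  have hBt : AlgSp.IsThickMor iB.hom := by
    obtain ⟨n, hBt, -⟩ := hB
    exact hBt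
  have hiX : AlgSp.IsThickMor iX.hom :=
    Groth.Agent.R2.H47.ThickTop.isThickMor_of_isPullback hcX.flip hBt
  have hiY : AlgSp.IsThickMor iY.hom :=
    Groth.Agent.R2.H47.ThickTop.isThickMor_of_isPullback hcY.flip hBt
  obtain ⟨-, hqc, hUC, -, -⟩ := Groth.Agent.S10587.result iX iY f f' hiX hiY w
  obtain ⟨hsep, -⟩ := Groth.Agent.S10589.result iX iY f f' hiX hiY w
  obtain ⟨-, -, hlft, hlqf, -⟩ :=
    Groth.Agent.S10596.result iX iY iB f f' g g' hcX hcY w hB hflat 0
  have key : ∀ {A C : AlgSp.Space S} (φ : A ⟶ C), AlgSp.IsFiniteMor φ.hom ↔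
      (AlgSp.IsSeparatedMor φ.hom ∧ (AlgSp.LocP @LocallyOfFiniteType φ.hom ∧
        AlgSp.IsQuasiCompactMor φ.hom) ∧ AlgSp.IsUnivClosedMor φ.hom) ∧
      AlgSp.LocP (@LocallyQuasiFinite ⊓ @LocallyOfFiniteType) φ.hom :=
    fun φ => (Groth.Agent.S10649.result φ).out 0 1
  rw [key f, key f', hsep, hlft, hqc, hUC, hlqf]

end Groth.Agent.S10610
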