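import Groth.Statements.S10597
import Groth.Agent.S10596
import Groth.Agent.S10610
import Groth.Agent.S10294
import Groth.Agent.R2.H47ThickTop
import Groth.Agent.R2.H93DeformIso

set_option autoImplicit false
universe u
open CategoryTheory CategoryTheory.Limits AlgebraicGeometry
open AlgSp

namespace Groth.Agent.S10597

/-- the isomorphism and open immersion cases. -/
theorem iso_iff {S : Scheme.{u}} {X X' Y Y' B B' : AlgSp.Space S} (iX : X ⟶ X') (iY : Y ⟶ Y')
    (iB : B ⟶ B') (f : X ⟶ Y) (f' : X' ⟶ Y') (g : Y ⟶ B) (g' : Y' ⟶ B')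
    (hcX : IsPullback iX.hom (f ≫ g).hom (f' ≫ g').hom iB.hom)
    (hcY : IsPullback iY.hom g.hom g'.hom iB.hom) (w : iX ≫ f' = f ≫ iY)
    (hB : AlgSp.IsFinThickMor iB.hom) (hflat : AlgSp.LocP @Flat (f' ≫ g').hom) :
    (IsIso f.hom ↔ IsIso f'.hom) ∧
      (AlgSp.RepWith @IsOpenImmersion f.hom ↔ AlgSp.RepWith @IsOpenImmersion f'.hom) := by
  have hBt : AlgSp.IsThickMor iB.hom := by
    obtain ⟨n, hBt, -⟩ := hB
    exact hBt
  have hiX : AlgSp.IsThickMor iX.hom :=
    Groth.Agent.R2.H47.ThickTop.isThickMor_of_isPullback hcX.flip hBt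
  have hiY : AlgSp.IsThickMor iY.hom :=
    Groth.Agent.R2.H47.ThickTop.isThickMor_of_isPullback hcY.flip hBt
  obtain ⟨-, -, -, -, -, -, -, het⟩ :=
    Groth.Agent.S10596.result iX iY iB f f' g g' hcX hcY w hB hflat 0
  exact Groth.Agent.R2.H93.DeformIso.iso_openImmersion_iff iX iY f f' hiX hiY w het

/-- Let iB : B ⟶ B' be a finite order thickening of algebraic spaces over S (a thickening such that for
one n the (n+1)-st power of the ideal vanishes on every affine etale scheme chart), f' : X' ⟶ Y' a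
morphism of algebraic spaces over B' (via g' : Y' ⟶ B') with X' flat over B', and f : X ⟶ Y, g : Y ⟶
B its base change to B (both squares to iB cartesian, iX ≫ f' = f ≫ iY). Then f is an isomorphism,
resp. an open immersion, resp. a monomorphism, resp. finite locally free, resp. finite locally free
of degree d, if and only if f' is. -/
theorem result {S : Scheme.{u}} {X X' Y Y' B B' : AlgSp.Space S} (iX : X ⟶ X') (iY : Y ⟶ Y') (iB : B ⟶ B')
    (f : X ⟶ Y) (f' : X' ⟶ Y') (g : Y ⟶ B) (g' : Y' ⟶ B')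
    (hcX : IsPullback iX.hom (f ≫ g).hom (f' ≫ g').hom iB.hom) (hcY : IsPullback iY.hom g.hom g'.hom iB.hom)
    (w : iX ≫ f' = f ≫ iY)
    (hB : AlgSp.IsFinThickMor iB.hom) (hflat : AlgSp.LocP @Flat (f' ≫ g').hom) :
    (IsIso f.hom ↔ IsIso f'.hom) ∧
    (AlgSp.RepWith @IsOpenImmersion f.hom ↔ AlgSp.RepWith @IsOpenImmersion f'.hom) ∧
    (Mono f.hom ↔ Mono f'.hom) ∧
    (AlgSp.IsFinLocFreeMor f.hom ↔ AlgSp.IsFinLocFreeMor f'.hom) ∧
    (∀ d : ℕ, AlgSp.IsFinLocFreeOfDegMor d f.hom ↔ AlgSp.IsFinLocFreeOfDegMor d f'.hom) := by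
  have hBt : AlgSp.IsThickMor iB.hom := by
    obtain ⟨n, hBt, -⟩ := hB
    exact hBt
  have hiY : AlgSp.IsThickMor iY.hom :=
    Groth.Agent.R2.H47.ThickTop.isThickMor_of_isPullback hcY.flip hBt
  have hw : iX.hom ≫ f'.hom = f.hom ≫ iY.hom := congrArg (fun φ => φ.hom) w
  have sqL : IsPullback iX.hom f.hom f'.hom iY.hom := IsPullback.of_bot hcX hw hcY
  obtain ⟨hiso, hopen⟩ := iso_iff iX iY iB f f' g g' hcX hcY w hB hflat
  obtain ⟨-, hfl, -, -, hlfp, -, -, -⟩ :=
    Groth.Agent.S10596.result iX iY iB f f' g g' hcX hcY w hB hflat 0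
  have hfin := Groth.Agent.S10610.result iX iY iB f f' g g' hcX hcY w hB hflat
  have hflf : AlgSp.IsFinLocFreeMor f.hom ↔ AlgSp.IsFinLocFreeMor f'.hom := by
    rw [(Groth.Agent.S10294.result f).1, (Groth.Agent.S10294.result f').1, hfin, hfl, hlfp]
  refine ⟨hiso, hopen, ?_, hflf, fun d => ⟨fun h => ?_, fun h => ?_⟩⟩
  · -- monomorphisms, via the diagonal
    obtain ⟨P, P', iP, Δ, Δ', g2, g2', p1', p2', -, -, hcX2, hcP, w2, eΔ', hm, hm'⟩ :=
      Groth.Agent.R2.H93.DeformIso.diag_situation iX iY iB f f' g g' hcX hcY w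
    have hflat2 : AlgSp.LocP @Flat (Δ' ≫ g2').hom := by
      rw [eΔ']
      exact hflat
    rw [hm, hm']
    exact (iso_iff iX iP iB Δ Δ' g2 g2' hcX2 hcP w2 hB hflat2).1
  · -- degree `d`, deformation
    have hf' : AlgSp.IsFinLocFreeMor f'.hom :=
      hflf.1 (Groth.Agent.Lib.Helper12.OpenSub.repWith_mono (fun _ _ _ hk => hk.1) h)
    exact Groth.Agent.R2.H93.DeformIso.finLocFreeOfDeg_of_thick iX iY f f' sqL hiY d h hf'
  · -- degree `d`, base change
    exact MorphismProperty.of_isPullback (P := AlgSp.RepWith (AlgSp.finLocFreeOfDeg d)) sqL h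

end Groth.Agent.S10597
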