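import Groth.Statements.S10599
import Groth.Agent.R2.H93ThickLocP
import Groth.Agent.R2.H45GrpLocus
import Groth.Agent.R2.H45RelDim
import Groth.Agent.S10598
import Groth.Agent.S10554
import Groth.Agent.S9984
import Groth.Agent.S9952
import Groth.Agent.S1384
import Groth.Agent.S1385

set_option autoImplicit false
set_option linter.style.haveILetI false
universe u
open CategoryTheory CategoryTheory.Limits AlgebraicGeometry
open AlgSp

namespace Groth.Agent.S10599

open Groth.Agent.R2.H93.ThickLocP Groth.Agent.Lib.Helper12.LocPCases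

/-- Let iB : B ⟶ B' be a thickening of algebraic spaces over S (representable, every base change to a
scheme a surjective closed immersion), f' : X' ⟶ Y' a morphism of algebraic spaces over B' (via g' :
Y' ⟶ B') with Y' locally of finite type over B' and X' flat and locally of finite presentation over
B', and f : X ⟶ Y, g : Y ⟶ B its base change to B (both squares to iB cartesian, iX ≫ f' = f ≫ iY).
Then f is locally of finite type of relative dimension d, resp. flat, resp. locally quasi-finite,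
smooth, unramified, etale, if and only if f' is (etale-local sense; locally quasi-finite and
unramified include locally of finite type). -/
theorem result {S : Scheme.{u}} {X X' Y Y' B B' : AlgSp.Space S} (iX : X ⟶ X') (iY : Y ⟶ Y') (iB : B ⟶ B')
    (f : X ⟶ Y) (f' : X' ⟶ Y') (g : Y ⟶ B) (g' : Y' ⟶ B')
    (hcX : IsPullback iX.hom (f ≫ g).hom (f' ≫ g').hom iB.hom) (hcY : IsPullback iY.hom g.hom g'.hom iB.hom)
    (w : iX ≫ f' = f ≫ iY)
    (hB : AlgSp.IsThickMor iB.hom)
    (hg' : AlgSp.LocP @LocallyOfFiniteType g'.hom)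
    (hflat : AlgSp.LocP @Flat (f' ≫ g').hom) (hfp : AlgSp.LocP @LocallyOfFinitePresentation (f' ≫ g').hom) (d : ℕ) :
    ((AlgSp.LocP @LocallyOfFiniteType f.hom ∧
        ∀ x, AlgSp.HasAtMor (fun _ _ h u => FlatMor.fibreDimAt h u = (d : WithBot ℕ∞)) f.hom x) ↔
      (AlgSp.LocP @LocallyOfFiniteType f'.hom ∧
        ∀ x', AlgSp.HasAtMor (fun _ _ h u => FlatMor.fibreDimAt h u = (d : WithBot ℕ∞)) f'.hom x')) ∧
    (AlgSp.LocP @Flat f.hom ↔ AlgSp.LocP @Flat f'.hom) ∧
    (AlgSp.LocP (@LocallyQuasiFinite ⊓ @LocallyOfFiniteType) f.hom ↔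
      AlgSp.LocP (@LocallyQuasiFinite ⊓ @LocallyOfFiniteType) f'.hom) ∧
    (AlgSp.LocP @Smooth f.hom ↔ AlgSp.LocP @Smooth f'.hom) ∧
    (AlgSp.LocP (@LocallyOfFiniteType ⊓ @FormallyUnramified) f.hom ↔
      AlgSp.LocP (@LocallyOfFiniteType ⊓ @FormallyUnramified) f'.hom) ∧
    (AlgSp.IsEtaleMor f.hom ↔ AlgSp.IsEtaleMor f'.hom) := by
  have hw : iX.hom ≫ f'.hom = f.hom ≫ iY.hom := congrArg (fun φ => φ.hom) w
  have sqL : IsPullback iX.hom f.hom f'.hom iY.hom := IsPullback.of_bot hcX hw hcY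
  have hsurj := surjective_map_of_thick iX iB (f ≫ g) (f' ≫ g') hcX hB
  have h1' : AlgSp.LocP @LocallyOfFiniteType f'.hom :=
    Groth.Agent.S9952.result f' g' (Groth.Agent.Lib.Helper12.LargestOpen.locP_mono
      (fun _ _ _ hg => by haveI := hg; infer_instance) hfp)
  have h1 : AlgSp.LocP @LocallyOfFiniteType f.hom :=
    Groth.Agent.S9984.result _ (Or.inl rfl) f' iY iX f sqL h1'
  -- chart level data
  have cube : ∀ (U' V' W' W : Over S) (a' : (AlgSp.yon S).obj U' ⟶ X'.obj)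
      (b' : (AlgSp.yon S).obj V' ⟶ Y'.obj) (c' : (AlgSp.yon S).obj W' ⟶ B'.obj)
      (c : (AlgSp.yon S).obj W ⟶ B.obj) (k1 : U' ⟶ V') (k2 : V' ⟶ W') (κ : W ⟶ W'),
      IsAffine W'.left → AlgSp.RepWith @Etale a' → AlgSp.RepWith @Etale b' →
      AlgSp.RepWith @Etale c' → IsPullback c ((AlgSp.yon S).map κ) iB.hom c' →
      a' ≫ f'.hom = (AlgSp.yon S).map k1 ≫ b' → b' ≫ g'.hom = (AlgSp.yon S).map k2 ≫ c' →
      MoreMor.IsThickening κ.left ∧ Flat (k1.left ≫ k2.left) ∧
        LocallyOfFinitePresentation (k1.left ≫ k2.left) ∧ LocallyOfFiniteType k2.left := by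
    intro U' V' W' W a' b' c' c k1 k2 κ hW' ha' hb' hc' sqW e1 e2
    have e12 : a' ≫ (f' ≫ g').hom = (AlgSp.yon S).map (k1 ≫ k2) ≫ c' := by
      change a' ≫ f'.hom ≫ g'.hom = _
      rw [← Category.assoc, e1, Category.assoc, e2, ← Category.assoc, ← Functor.map_comp]
    exact ⟨hB.2 c' c κ sqW, hflat a' c' (k1 ≫ k2) ha' hc' e12, hfp a' c' (k1 ≫ k2) ha' hc' e12,
      hg' b' c' k2 hb' hc' e2⟩
  have hsm : AlgSp.LocP @Smooth f.hom → AlgSp.LocP @Smooth f'.hom := by
    refine locP_of_thick_chart good_smooth iX iY iB f f' g g' hcX hcY w hB ?_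
    intro U' V' W' W a' b' c' c k1 k2 κ hW' ha' hb' hc' sqW e1 e2 hP
    obtain ⟨hκ, i1, i2, i3⟩ := cube U' V' W' W a' b' c' c k1 k2 κ hW' ha' hb' hc' sqW e1 e2
    obtain ⟨hcXs, hcYs, sqLs⟩ := scheme_squares k1 k2 κ
    exact (Groth.Agent.S1384.result _ _ κ.left _ k1.left _ k2.left hκ hcXs hcYs sqLs.w).1 hP
  have het : AlgSp.LocP @Etale f.hom → AlgSp.LocP @Etale f'.hom := by
    refine locP_of_thick_chart good_etale iX iY iB f f' g g' hcX hcY w hB ?_
    intro U' V' W' W a' b' c' c k1 k2 κ hW' ha' hb' hc' sqW e1 e2 hP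
    obtain ⟨hκ, i1, i2, i3⟩ := cube U' V' W' W a' b' c' c k1 k2 κ hW' ha' hb' hc' sqW e1 e2
    obtain ⟨hcXs, hcYs, sqLs⟩ := scheme_squares k1 k2 κ
    exact (Groth.Agent.S1385.result _ _ κ.left _ k1.left _ k2.left hκ hcXs hcYs sqLs.w).1 hP
  -- pointwise properties
  have hpt : ∀ {Q : ∀ (U V : Scheme.{u}), (U ⟶ V) → ↥U → Prop},
      (∀ x : AlgSp.Points X.obj, AlgSp.HasAtMor Q f.hom x ↔
        AlgSp.HasAtMor Q f'.hom (AlgSp.Points.map iX.hom x)) →
      ((∀ x, AlgSp.HasAtMor Q f.hom x) ↔ ∀ x', AlgSp.HasAtMor Q f'.hom x') := by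
    intro Q hQ
    constructor
    · intro H x'
      obtain ⟨x, rfl⟩ := hsurj x'
      exact (hQ x).1 (H x)
    · intro H x
      exact (hQ x).2 (H _)
  refine ⟨?_, ?_, ?_, ?_, ?_, ?_⟩
  · -- relative dimension d
    have e := hpt fun x => Groth.Agent.R2.H45.RelDim.hasAtMor_fibreDimAt_baseChange_iff
      (fun e => e = (d : WithBot ℕ∞)) X'.property Y'.property Y.property sqL h1' x
    exact ⟨fun h => ⟨h1', e.1 h.2⟩, fun h => ⟨h1, e.2 h.2⟩⟩
  · -- flat
    exact ⟨fun hf =>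
      (Groth.Agent.S10598.result iX iY iB f f' g g' hcX hcY w hB hg' hflat hfp hf).1,
      Groth.Agent.S9984.result _ (Or.inr (Or.inr (Or.inl rfl))) f' iY iX f sqL⟩
  · -- locally quasi-finite
    rw [Groth.Agent.R2.H45.GrpLocus.locP_iff_forall_hasAtMor
      Groth.Agent.R2.H45.GrpLocus.etSqInvOn_qlqf Groth.Agent.R2.H45.GrpLocus.detects_qlqf
      X'.property Y'.property f'.hom h1',
      Groth.Agent.R2.H45.GrpLocus.locP_iff_forall_hasAtMor
      Groth.Agent.R2.H45.GrpLocus.etSqInvOn_qlqf Groth.Agent.R2.H45.GrpLocus.detects_qlqf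
      X.property Y.property f.hom h1]
    exact hpt fun x => Groth.Agent.R2.H45.GrpLocus.bcInv_qlqf X'.property Y'.property
      Y.property sqL h1' x
  · -- smooth
    exact ⟨hsm, Groth.Agent.S9984.result _ (Or.inr (Or.inr (Or.inr (Or.inl rfl)))) f' iY iX f sqL⟩
  · -- unramified
    rw [Groth.Agent.R2.H45.GrpLocus.locP_iff_forall_hasAtMor
      (Groth.Agent.R2.H45.Unram.etSqInv_qunr.on _) Groth.Agent.R2.H45.GrpLocus.detects_qunr
      X'.property Y'.property f'.hom h1',
      Groth.Agent.R2.H45.GrpLocus.locP_iff_forall_hasAtMor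
      (Groth.Agent.R2.H45.Unram.etSqInv_qunr.on _) Groth.Agent.R2.H45.GrpLocus.detects_qunr
      X.property Y.property f.hom h1]
    exact hpt fun x => Groth.Agent.R2.H45.GrpLocus.bcInv_qunr X'.property Y'.property
      Y.property sqL h1' x
  · -- etale
    constructor
    · intro h
      exact Groth.Agent.S10554.isEtaleMor_of_locP Y'.property f'.hom
        (het (Groth.Agent.Lib.Helper12.SrcLocal.locP_etale_of_isEtaleMor f.hom h))
    · intro h
      exact Groth.Agent.S10554.isEtaleMor_of_locP Y.property f.hom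
        (Groth.Agent.S9984.result _ (Or.inr (Or.inr (Or.inr (Or.inr (Or.inl rfl))))) f' iY iX f sqL
          (Groth.Agent.Lib.Helper12.SrcLocal.locP_etale_of_isEtaleMor f'.hom h))

end Groth.Agent.S10599
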