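import Groth.Statements.S10611
import Groth.Agent.S10587
import Groth.Agent.S10589
import Groth.Agent.S10599
import Groth.Agent.S10649
import Groth.Agent.S9952
import Groth.Agent.R2.H47ThickTop
import Groth.Agent.Lib.Helper12Proper
import Groth.Agent.Lib.Helper12LargestOpen

set_option autoImplicit false
universe u
open CategoryTheory CategoryTheory.Limits AlgebraicGeometry
open AlgSp

namespace Groth.Agent.S10611

/-- Let iB : B ⟶ B' be a thickening of algebraic spaces over S (representable, every base change to a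
scheme a surjective closed immersion), f' : X' ⟶ Y' a morphism of algebraic spaces over B' (via g' :
Y' ⟶ B') with Y' locally of finite type over B' and X' flat and locally of finite presentation over
B', and f : X ⟶ Y, g : Y ⟶ B its base change to B (both squares to iB cartesian, iX ≫ f' = f ≫ iY).
Then f is proper if and only if f' is proper, and f is finite if and only if f' is finite. (The
published statement lists nine further properties with the same equivalence: representable by
schemes, quasi-compact, universally closed, separated, quasi-separated, surjective, universally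
injective, affine and universally open. Since iX and iY are again thickenings and X = Y ×_{Y'} X',
those cases follow from the corresponding statements for morphisms of thickenings and are not
restated here.) -/
theorem result {S : Scheme.{u}} {X X' Y Y' B B' : AlgSp.Space S} (iX : X ⟶ X') (iY : Y ⟶ Y') (iB : B ⟶ B')
    (f : X ⟶ Y) (f' : X' ⟶ Y') (g : Y ⟶ B) (g' : Y' ⟶ B')
    (hcX : IsPullback iX.hom (f ≫ g).hom (f' ≫ g').hom iB.hom) (hcY : IsPullback iY.hom g.hom g'.hom iB.hom)
    (w : iX ≫ f' = f ≫ iY)
    (hB : AlgSp.IsThickMor iB.hom)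
    (hg' : AlgSp.LocP @LocallyOfFiniteType g'.hom)
    (hflat : AlgSp.LocP @Flat (f' ≫ g').hom) (hfp : AlgSp.LocP @LocallyOfFinitePresentation (f' ≫ g').hom) :
    (AlgSp.IsProperMor f.hom ↔ AlgSp.IsProperMor f'.hom) ∧
    (AlgSp.IsFiniteMor f.hom ↔ AlgSp.IsFiniteMor f'.hom) := by
  have hiX : AlgSp.IsThickMor iX.hom :=
    Groth.Agent.R2.H47.ThickTop.isThickMor_of_isPullback hcX.flip hB
  have hiY : AlgSp.IsThickMor iY.hom :=
    Groth.Agent.R2.H47.ThickTop.isThickMor_of_isPullback hcY.flip hB
  obtain ⟨-, hqc, hUC, -, -⟩ := Groth.Agent.S10587.result iX iY f f' hiX hiY w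
  obtain ⟨hsep, -⟩ := Groth.Agent.S10589.result iX iY f f' hiX hiY w
  obtain ⟨-, -, hlqf, -⟩ :=
    Groth.Agent.S10599.result iX iY iB f f' g g' hcX hcY w hB hg' hflat hfp 0
  -- `f'` and `f` are locally of finite type
  have hlft'c : AlgSp.LocP @LocallyOfFiniteType (f' ≫ g').hom :=
    Groth.Agent.Lib.Helper12.LargestOpen.locP_mono
      (fun _ _ k hk => by
        have : LocallyOfFinitePresentation k := hk
        exact (inferInstance : LocallyOfFiniteType k)) hfp
  have hlft' : AlgSp.LocP @LocallyOfFiniteType f'.hom := Groth.Agent.S9952.result f' g' hlft'c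
  have hlftc : AlgSp.LocP @LocallyOfFiniteType (f ≫ g).hom :=
    Groth.Agent.Lib.Helper12.Proper.locP_lft_baseChange X'.property B'.property B.property hcX hlft'c
  have hlft : AlgSp.LocP @LocallyOfFiniteType f.hom := Groth.Agent.S9952.result f g hlftc
  have hprop : AlgSp.IsProperMor f.hom ↔ AlgSp.IsProperMor f'.hom := by
    constructor
    · rintro ⟨h1, ⟨-, h2⟩, h3⟩
      exact ⟨hsep.1 h1, ⟨hlft', hqc.1 h2⟩, hUC.1 h3⟩
    · rintro ⟨h1, ⟨-, h2⟩, h3⟩
      exact ⟨hsep.2 h1, ⟨hlft, hqc.2 h2⟩, hUC.2 h3⟩
  have key : ∀ {A C : AlgSp.Space S} (φ : A ⟶ C), AlgSp.IsFiniteMor φ.hom ↔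
      AlgSp.IsProperMor φ.hom ∧ AlgSp.LocP (@LocallyQuasiFinite ⊓ @LocallyOfFiniteType) φ.hom :=
    fun φ => (Groth.Agent.S10649.result φ).out 0 1
  refine ⟨hprop, ?_⟩
  rw [key f, key f', hprop, hlqf]

end Groth.Agent.S10611
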