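import Groth.Statements.S10603
import Groth.Agent.R2.H84FibCritSp

set_option autoImplicit false
universe u
open CategoryTheory CategoryTheory.Limits AlgebraicGeometry
open AlgSp

namespace Groth.Agent.S10603

/-- Let f : X ⟶ Y and h : Y ⟶ Z be morphisms of algebraic spaces over S. Suppose X is flat and locally
of finite presentation over Z, Y is locally of finite type over Z, and for every field K and every z
: Spec K ⟶ Z the base change X_z ⟶ Y_z of f is flat (fibres taken as pullback squares of fppf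
sheaves). Then f is flat; if moreover f is surjective, then h is flat. -/
theorem result {S : Scheme.{u}} {X Y Z : AlgSp.Space S} (f : X ⟶ Y) (h : Y ⟶ Z)
    (hfp : AlgSp.LocP @LocallyOfFinitePresentation (f ≫ h).hom) (hfl : AlgSp.LocP @Flat (f ≫ h).hom)
    (hft : AlgSp.LocP @LocallyOfFiniteType h.hom)
    (hfib : ∀ (K : Type u) [Field K] (sK : Spec (CommRingCat.of K) ⟶ S)
      (z : (AlgSp.yon S).obj (Over.mk sK) ⟶ Z.obj) (Xz Yz : AlgSp.Sp S)
      (pX : Xz ⟶ X.obj) (qX : Xz ⟶ (AlgSp.yon S).obj (Over.mk sK))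
      (pY : Yz ⟶ Y.obj) (qY : Yz ⟶ (AlgSp.yon S).obj (Over.mk sK)) (fz : Xz ⟶ Yz),
      IsPullback pX qX (f ≫ h).hom z → IsPullback pY qY h.hom z → fz ≫ pY = pX ≫ f.hom → fz ≫ qY = qX →
      AlgSp.LocP @Flat fz) :
    AlgSp.LocP @Flat f.hom ∧ (AlgSp.IsSurjectiveMor f.hom → AlgSp.LocP @Flat h.hom) := by
  have hcrit : Groth.Agent.R2.H84.FibCritSp.Crit f h := by
    intro U' V' W k' g' a' b' c ha' hb' hc e1 e2 hflat hfibres
    have : LocallyOfFinitePresentation (k'.left ≫ g'.left) :=
      hfp a' c (k' ≫ g') ha' hc (by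
        have hfh : (f ≫ h).hom = f.hom ≫ h.hom := rfl
        rw [hfh, ← Category.assoc, e1, Category.assoc, e2, Functor.map_comp, Category.assoc])
    have : LocallyOfFiniteType g'.left := hft b' c g' hb' hc e2
    have := hflat
    exact Groth.Agent.R2.H84.FibCritSch.flat_of_flat_of_fibres_lfp k'.left g'.left hfibres
  have h1 := Groth.Agent.R2.H84.FibCritSp.locP_flat_of_crit f h hcrit hfl hfib
  exact ⟨h1, fun hs => Groth.Agent.R2.H84.FibCritSp.locP_flat_of_surjective f h h1 hfl hs⟩

end Groth.Agent.S10603
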