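import Groth.Statements.S10628
import Groth.Agent.S10627

set_option autoImplicit false
universe u
open CategoryTheory CategoryTheory.Limits AlgebraicGeometry
open AlgSp

namespace Groth.Agent.S10628

/-- Take a formally smooth morphism f : X ⟶ Y of algebraic spaces over S, and let p : U ⟶ X and q : V ⟶
Y be etale morphisms of algebraic spaces with ψ : U ⟶ V such that ψ ≫ q = p ≫ f. Then ψ is formally
smooth. -/
theorem result {S : Scheme.{u}} {X Y U V : AlgSp.Space S} (f : X ⟶ Y)
    (hf : AlgSp.IsFormallySmoothMor f.hom) (p : U ⟶ X) (q : V ⟶ Y) (hp : AlgSp.IsEtaleMor p.hom) (hq : AlgSp.IsEtaleMor q.hom)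
    (ψ : U ⟶ V) (w : ψ ≫ q = p ≫ f) : AlgSp.IsFormallySmoothMor ψ.hom := by
  have hpe := ((Groth.Agent.S10627.result p).1 hp).2
  have hqe := ((Groth.Agent.S10627.result q).1 hq).2
  rw [Groth.Agent.Lib.Helper15.isFormallyEtaleMor_iff] at hpe hqe
  have h1 : AlgSp.IsFormallySmoothMor (ψ.hom ≫ q.hom) := by
    have h2 : ψ.hom ≫ q.hom = p.hom ≫ f.hom := congrArg (fun m => m.hom) w
    rw [h2]
    exact Groth.Agent.Lib.Helper15.isFormallySmoothMor_comp _ _ hpe.1 hf
  exact Groth.Agent.Lib.Helper15.isFormallySmoothMor_of_comp _ _ hqe.2 h1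

end Groth.Agent.S10628
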