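import Groth.Statements.S10635
import Groth.Agent.R2.H74InfNbhd
-- import your own Groth.Agent.* helpers here

set_option autoImplicit false
set_option linter.style.haveILetI false
universe u
open CategoryTheory CategoryTheory.Limits AlgebraicGeometry
open AlgSp

namespace Groth.Agent.S10635

/-- Take an immersion i : Z ⟶ X of algebraic spaces over S, written as a closed immersion c : Z ⟶ U
followed by an open immersion u : U ⟶ X, and let (j : Z ⟶ Z₁, k : Z₁ ⟶ U) be the first order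
infinitesimal neighbourhood of Z in U. Then (j, k ≫ u) is a universal first order thickening of Z
over X. -/
theorem result {S : Scheme.{u}} {Z U X Z₁ : AlgSp.Space S} (c : Z ⟶ U)
    (hc : AlgSp.RepWith @IsClosedImmersion c.hom) (u : U ⟶ X) (hu : AlgSp.RepWith @IsOpenImmersion u.hom)
    (j : Z ⟶ Z₁) (k : Z₁ ⟶ U) (hN : AlgSp.IsInfNbhd 1 c.hom j.hom k.hom) :
    AlgSp.IsUnivFOThick (c ≫ u).hom j.hom (k ≫ u).hom := by
  have hjk : j.hom ≫ k.hom = c.hom := hN.1
  have hk : AlgSp.RepWith @IsClosedImmersion k.hom := hN.2.2.1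
  haveI : Mono u.hom := Groth.Agent.S10412.mono_of_open u.hom hu
  haveI : Mono k.hom := Groth.Agent.R2.H74.InfNbhd.mono_of_closed k.hom hk
  haveI : Mono (k.hom ≫ u.hom) := mono_comp _ _
  refine ⟨⟨⟨?_, ?_⟩, ?_⟩, ?_, ?_⟩
  · intro V b
    obtain ⟨W, snd, fst, hpb⟩ := hc.1 (b ≫ k.hom)
    rw [← hjk] at hpb
    exact ⟨W, snd, fst, Groth.Agent.S10412.isPullback_of_comp_mono k.hom hpb⟩
  · intro V W b fst snd hpb
    exact (Groth.Agent.R2.H74.InfNbhd.thick_sqZero_of_isInfNbhd U.property hN b fst snd hpb).1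
  · intro V W b fst snd _ _ hpb
    exact (Groth.Agent.R2.H74.InfNbhd.thick_sqZero_of_isInfNbhd U.property hN b fst snd hpb).2
  · change j.hom ≫ k.hom ≫ u.hom = c.hom ≫ u.hom
    rw [← Category.assoc, hjk]
  · intro T T' _ hT' j' a b hj' hab
    have hab' : j' ≫ b = a ≫ c.hom ≫ u.hom := hab
    obtain ⟨a', ha'⟩ := Groth.Agent.R2.H74.InfNbhd.exists_factor_infNbhd U.property hT' hN u.hom hu
      j' hj' a b hab'
    refine ⟨a', ⟨?_, ha'⟩, ?_⟩
    · rw [← cancel_mono (k.hom ≫ u.hom), Category.assoc, ha', hab', Category.assoc,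
        ← Category.assoc j.hom, hjk]
    · rintro a'' ⟨-, h2⟩
      have h2' : a'' ≫ k.hom ≫ u.hom = b := h2
      rw [← cancel_mono (k.hom ≫ u.hom), h2', ha']

end Groth.Agent.S10635
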