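import Groth.Statements.S10636
import Groth.Agent.R2.H74FOThickBC
import Groth.Agent.S9928
import Groth.Agent.Lib.Helper18UT4
-- import your own Groth.Agent.* helpers here

set_option autoImplicit false
set_option linter.style.haveILetI false
universe u
open CategoryTheory CategoryTheory.Limits AlgebraicGeometry
open AlgSp

namespace Groth.Agent.S10636

/-- Take a formally unramified morphism h : Z ⟶ X of algebraic spaces over S and let (i : Z ⟶ Z', h' :
Z' ⟶ X) be a universal first order thickening of Z over X. Then h' is formally unramified. -/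
theorem result {S : Scheme.{u}} {Z Z' X : AlgSp.Space S} (h : Z ⟶ X)
    (hh : AlgSp.IsFormallyUnramifiedMor h.hom) (i : Z ⟶ Z') (h' : Z' ⟶ X) (HU : AlgSp.IsUnivFOThick h.hom i.hom h'.hom) :
    AlgSp.IsFormallyUnramifiedMor h'.hom := by
  intro sq l l' hl1 hl2 hl'1 hl'2
  have hi : AlgSp.IsFOThickMor i.hom := HU.1
  have hih : i.hom ≫ h'.hom = h.hom := HU.2.1
  haveI : Mono i.hom := Groth.Agent.S9928.mono_of_repWith AlgSp.thick
    (fun _ _ f hf => by haveI : IsClosedImmersion f := hf.1; infer_instance) i.hom hi.1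
  -- the pullbacks of `i` along `l` and `l'`
  obtain ⟨Wl, kl, al, hpl⟩ := hi.1.1 l
  obtain ⟨Wl', kl', al', hpl'⟩ := hi.1.1 l'
  have hthl : AlgSp.thick kl.left := hi.1.2 _ _ kl hpl
  have hthl' : AlgSp.thick kl'.left := hi.1.2 _ _ kl' hpl'
  have hsql : AlgSp.sqZero kl.left :=
    Groth.Agent.R2.H74.FOThickBC.sqZero_of_isFOThickMor Z'.property hi l al kl hpl
  have hsql' : AlgSp.sqZero kl'.left :=
    Groth.Agent.R2.H74.FOThickBC.sqZero_of_isFOThickMor Z'.property hi l' al' kl' hpl'
  -- the intersection `T₁`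
  have hPB1 : IsPullback (pullback.fst kl kl') (pullback.snd kl kl') kl kl' :=
    IsPullback.of_hasPullback kl kl'
  have hPB1s := hPB1.map (Over.forget S)
  have hq_sq : AlgSp.sqZero (pullback.fst kl kl').left :=
    Groth.Agent.R2.H47.ThickBC.sqZero_baseChange (pullback.fst kl kl').left kl'.left
      (pullback.snd kl kl').left kl.left hthl'.1 hthl'.2 hsql' hPB1s
  have hq_th : AlgSp.thick (pullback.fst kl kl').left :=
    MorphismProperty.of_isPullback (P := AlgSp.thick) hPB1s.flip hthl'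
  -- the thickening `T₀ ⊂ T₁`
  have hjFO : MoreMor.IsFirstOrderThickening sq.j.left :=
    Groth.Agent.Helper18UT.isFirstOrderThickening_SpecMap
      (CommRingCat.ofHom (Ideal.Quotient.mk sq.I)) Ideal.Quotient.mk_surjective
      (by
        change RingHom.ker (Ideal.Quotient.mk sq.I) ^ 2 = ⊥
        rw [Ideal.mk_ker]; exact sq.sq_zero)
  have hPB0 : IsPullback (pullback.fst sq.j (pullback.fst kl kl' ≫ kl))
      (pullback.snd sq.j (pullback.fst kl kl' ≫ kl)) sq.j (pullback.fst kl kl' ≫ kl) :=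
    IsPullback.of_hasPullback _ _
  have hPB0s := hPB0.map (Over.forget S)
  have hj0_sq : AlgSp.sqZero (pullback.snd sq.j (pullback.fst kl kl' ≫ kl)).left :=
    Groth.Agent.R2.H47.ThickBC.sqZero_baseChange _ sq.j.left
      (pullback.fst sq.j (pullback.fst kl kl' ≫ kl)).left (pullback.fst kl kl' ≫ kl).left
      hjFO.1.1 hjFO.1.2 hjFO.2 hPB0s.flip
  have hj0_th : AlgSp.thick (pullback.snd sq.j (pullback.fst kl kl' ≫ kl)).left :=
    MorphismProperty.of_isPullback (P := AlgSp.thick) hPB0s ⟨hjFO.1.1, hjFO.1.2⟩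
  -- Step B: the two maps `T₁ ⟶ Z` agree
  have hB : (AlgSp.yon S).map (pullback.fst kl kl') ≫ al =
      (AlgSp.yon S).map (pullback.snd kl kl') ≫ al' := by
    refine Groth.Agent.R2.H47.SpThick.uniq_lift_of_unramified hh
      (AlgSp.IsAlgSpace.yon_obj _) ((AlgSp.yon S).map (pullback.snd sq.j (pullback.fst kl kl' ≫ kl)))
      (Groth.Agent.R2.H47.ThickBC.isFOThickMor_yon_map _ hj0_th.1 hj0_th.2 hj0_sq) _ _ ?_ ?_
    · rw [← cancel_mono i.hom]
      simp only [Category.assoc]
      rw [hpl.w, hpl'.w]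
      simp only [← Category.assoc, ← Functor.map_comp]
      have e1 : (pullback.snd sq.j (pullback.fst kl kl' ≫ kl) ≫ pullback.fst kl kl') ≫ kl =
          pullback.fst sq.j (pullback.fst kl kl' ≫ kl) ≫ sq.j := by
        rw [Category.assoc]; exact hPB0.w.symm
      have e2 : (pullback.snd sq.j (pullback.fst kl kl' ≫ kl) ≫ pullback.snd kl kl') ≫ kl' =
          pullback.fst sq.j (pullback.fst kl kl' ≫ kl) ≫ sq.j := by
        rw [Category.assoc, ← hPB1.w]; exact hPB0.w.symm
      rw [e1, e2, Functor.map_comp, Category.assoc, Category.assoc, hl1, hl'1]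
    · simp only [Category.assoc]
      rw [← hih, ← Category.assoc al, ← Category.assoc al', hpl.w, hpl'.w]
      simp only [Category.assoc]
      rw [hl2, hl'2]
      simp only [← Category.assoc, ← Functor.map_comp]
      rw [hPB1.w]
  -- Step C: `l` and `l'` agree on `W_l`
  have hC : (AlgSp.yon S).map kl ≫ l = (AlgSp.yon S).map kl ≫ l' := by
    have hab : (AlgSp.yon S).map (pullback.fst kl kl') ≫ ((AlgSp.yon S).map kl ≫ sq.bot) =
        ((AlgSp.yon S).map (pullback.fst kl kl') ≫ al) ≫ h.hom := by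
      rw [Category.assoc, ← hih, ← Category.assoc al, hpl.w, Category.assoc, hl2]
    refine (HU.2.2 (AlgSp.IsAlgSpace.yon_obj _) (AlgSp.IsAlgSpace.yon_obj _)
      ((AlgSp.yon S).map (pullback.fst kl kl')) _ _
      (Groth.Agent.R2.H47.ThickBC.isFOThickMor_yon_map _ hq_th.1 hq_th.2 hq_sq) hab).unique
      ⟨?_, ?_⟩ ⟨?_, ?_⟩
    · rw [Category.assoc, hpl.w]
    · rw [Category.assoc, hl2]
    · rw [← Category.assoc, ← Functor.map_comp, hPB1.w, Functor.map_comp, Category.assoc,
        ← hpl'.w, ← Category.assoc, ← hB, Category.assoc]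
    · rw [Category.assoc, hl'2]
  -- Step D: conclusion
  have hab' : (AlgSp.yon S).map kl ≫ sq.bot = al ≫ h.hom := by
    rw [← hih, ← Category.assoc, hpl.w, Category.assoc, hl2]
  exact (HU.2.2 (AlgSp.IsAlgSpace.yon_obj _) (AlgSp.IsAlgSpace.yon_obj _) ((AlgSp.yon S).map kl) al
    sq.bot (Groth.Agent.R2.H47.ThickBC.isFOThickMor_yon_map _ hthl.1 hthl.2 hsql) hab').unique
    ⟨hpl.w.symm, hl2⟩ ⟨hC.symm.trans hpl.w.symm, hl'2⟩

end Groth.Agent.S10636
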