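import Groth.Statements.S10638
import Groth.Agent.R2.H47UnivThickLoc
import Groth.Agent.S10618
import Groth.Agent.S10619
import Groth.Agent.S10627
import Groth.Agent.S10631

set_option autoImplicit false
universe u
open CategoryTheory CategoryTheory.Limits AlgebraicGeometry
open AlgSp

namespace Groth.Agent.S10638

/-- Take a formally unramified morphism h : Z ⟶ X of algebraic spaces over S with universal first order
thickening (iZ : Z ⟶ Z', hZ' : Z' ⟶ X). Let v : V ⟶ Z and w : U ⟶ X be etale morphisms of algebraic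
spaces and ψ : V ⟶ U with ψ ≫ w = v ≫ h. Then ψ is formally unramified, and for a universal first
order thickening (iV : V ⟶ V', hV' : V' ⟶ U) of V over U, every e' : V' ⟶ Z' with iV ≫ e' = v ≫ iZ
and e' ≫ hZ' = hV' ≫ w (there is exactly one) is etale. (The published statement also identifies the
conormal sheaf of V over U with the restriction of that of Z over X; this row omits that clause.) -/
theorem result {S : Scheme.{u}} {Z X Z' V U V' : AlgSp.Space S} (h : Z ⟶ X)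
    (hh : AlgSp.IsFormallyUnramifiedMor h.hom) (iZ : Z ⟶ Z') (hZ' : Z' ⟶ X) (HZ : AlgSp.IsUnivFOThick h.hom iZ.hom hZ'.hom)
    (v : V ⟶ Z) (w : U ⟶ X) (hv : AlgSp.IsEtaleMor v.hom) (hw : AlgSp.IsEtaleMor w.hom) (ψ : V ⟶ U)
    (c : ψ ≫ w = v ≫ h) :
    AlgSp.IsFormallyUnramifiedMor ψ.hom ∧
    ∀ (iV : V ⟶ V') (hV' : V' ⟶ U), AlgSp.IsUnivFOThick ψ.hom iV.hom hV'.hom →
      ∀ e' : V' ⟶ Z', iV ≫ e' = v ≫ iZ → e' ≫ hZ' = hV' ≫ w → AlgSp.IsEtaleMor e'.hom := by
  have hvfe : AlgSp.IsFormallyEtaleMor v.hom := ((Groth.Agent.S10627.result v).1 hv).2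
  have hwfe : AlgSp.IsFormallyEtaleMor w.hom := ((Groth.Agent.S10627.result w).1 hw).2
  have hvu : AlgSp.IsFormallyUnramifiedMor v.hom := fun sq l l' a1 a2 b1 b2 =>
    (hvfe sq).unique ⟨a1, a2⟩ ⟨b1, b2⟩
  have hwu : AlgSp.IsFormallyUnramifiedMor w.hom := fun sq l l' a1 a2 b1 b2 =>
    (hwfe sq).unique ⟨a1, a2⟩ ⟨b1, b2⟩
  have c' : ψ.hom ≫ w.hom = v.hom ≫ h.hom := congr($(c).hom)
  refine ⟨?_, ?_⟩
  · apply (Groth.Agent.S10618.result ψ.hom w.hom hwu).1
    rw [c']
    exact (Groth.Agent.S10619.result v.hom h.hom).2.2 hvu hh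
  · intro iV hV' HV e' h1 h2
    have HV' := Groth.Agent.S10631.result ψ w iV hV' HV hwfe
    have e1 : (ψ ≫ w).hom = v.hom ≫ h.hom := c'
    rw [e1] at HV'
    exact Groth.Agent.R2.H47.UnivThickLoc.etale_of_univ Z'.property h.hom iZ.hom hZ'.hom HZ v.hom hv
      iV.hom (hV' ≫ w).hom HV' e'.hom congr($(h1).hom) congr($(h2).hom)

end Groth.Agent.S10638
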