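import Mathlib
import Groth.Statements.S10639
import Groth.Agent.R2.H45GrpLocus
import Groth.Agent.S9952
import Groth.Agent.S10175
import Groth.Agent.S10194

set_option autoImplicit false
set_option linter.style.haveILetI false
universe u
open CategoryTheory CategoryTheory.Limits AlgebraicGeometry
open AlgSp

namespace Groth.Agent.S10639
open Groth.Agent.R2.H45.HasAtMor Groth.Agent.R2.H45.HasAt Groth.Agent.R2.H45.Unram Groth.Agent.R2.H45.GrpLocus

/-- For morphisms f : X ⟶ Y, p : X ⟶ Z and q : Y ⟶ Z of algebraic spaces over S with f ≫ q = p, where p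
is closed (the map on points is closed) and locally of finite type, there is an open subspace W of Z
with the following property: a morphism of algebraic spaces g : Z' ⟶ Z factors through W exactly
when the base change X' ⟶ Y' of f along g is unramified (locally of finite type and formally
unramified, etale locally on source and target). Here the base change of f along g is any f' : X' ⟶
Y' obtained from pullback squares Y' = Y ×_Z Z' and X' = X ×_Y Y' of algebraic spaces over S, and W
⊂ Z is given as a representable open immersion w : W ⟶ Z. -/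
theorem result {S : Scheme.{u}} {X Y Z : AlgSp.Space S}
    (f : X ⟶ Y) (p : X ⟶ Z) (q : Y ⟶ Z) (hc : f ≫ q = p)
    (hp1 : AlgSp.LocP @LocallyOfFiniteType p.hom) (hp2 : AlgSp.IsClosedMor p.hom) :
    ∃ (W : AlgSp.Space S) (w : W ⟶ Z), AlgSp.RepWith @IsOpenImmersion w.hom ∧
      ∀ (Z' : AlgSp.Space S) (g : Z' ⟶ Z),
        (∃ k : Z' ⟶ W, k ≫ w = g) ↔
          ∀ (Y' : AlgSp.Space S) (gY : Y' ⟶ Y) (q' : Y' ⟶ Z'),
            IsPullback gY.hom q'.hom q.hom g.hom →
            ∀ (X' : AlgSp.Space S) (gX : X' ⟶ X) (f' : X' ⟶ Y'),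
              IsPullback gX.hom f'.hom f.hom gY.hom →
                AlgSp.LocP (@LocallyOfFiniteType ⊓ @FormallyUnramified) f'.hom := by
  have hf : AlgSp.LocP @LocallyOfFiniteType f.hom := by
    subst hc
    exact Groth.Agent.S9952.result f q hp1
  have hTopen : IsOpen {x : AlgSp.Points X.obj | AlgSp.HasAtMor Qunr f.hom x} :=
    isOpen_qunr X.property Y.property f.hom hf
  have hW₀ : IsOpen (AlgSp.Points.map p.hom ''
      {x : AlgSp.Points X.obj | AlgSp.HasAtMor Qunr f.hom x}ᶜ)ᶜ :=
    (hp2 _ hTopen.isClosed_compl).isOpen_compl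
  have hw := Groth.Agent.Lib.Helper12.OpenSub.repWith_incl hW₀
  have hrange := Groth.Agent.Lib.Helper12.OpenSub.range_map_incl (AlgSp.Points.map p.hom ''
      {x : AlgSp.Points X.obj | AlgSp.HasAtMor Qunr f.hom x}ᶜ)ᶜ
  refine ⟨⟨Groth.Agent.Lib.Helper12.OpenSub.obj Z.obj _,
    Groth.Agent.Lib.Helper12.OpenSub.isAlgSpace_obj Z.property hW₀⟩,
    ObjectProperty.homMk (Groth.Agent.Lib.Helper12.OpenSub.incl Z.obj _), hw, ?_⟩
  intro Z' g
  rw [Groth.Agent.S10194.result _ hw g]
  change Set.range (AlgSp.Points.map g.hom) ⊆ Set.range (AlgSp.Points.map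
    (Groth.Agent.Lib.Helper12.OpenSub.incl Z.obj _)) ↔ _
  rw [hrange]
  -- unramifiedness of a base change in terms of the unramified locus of `f`
  have key : ∀ (Y' : AlgSp.Space S) (gY : Y' ⟶ Y) (X' : AlgSp.Space S) (gX : X' ⟶ X)
      (f' : X' ⟶ Y'), IsPullback gX.hom f'.hom f.hom gY.hom →
      (AlgSp.LocP (@LocallyOfFiniteType ⊓ @FormallyUnramified) f'.hom ↔
        ∀ x' : AlgSp.Points X'.obj, AlgSp.HasAtMor Qunr f.hom (AlgSp.Points.map gX.hom x')) := by
    intro Y' gY X' gX f' sq2
    have hf' : AlgSp.LocP @LocallyOfFiniteType f'.hom :=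
      Groth.Agent.Lib.Helper12.LocPCases.good_lft.locP_baseChange X.property Y.property
        Y'.property sq2 hf
    rw [locP_iff_forall_hasAtMor (etSqInv_qunr.on _) detects_qunr X'.property Y'.property f'.hom
      hf']
    exact forall_congr' fun x' => bcInv_qunr X.property Y.property Y'.property sq2 hf x'
  -- the unramified locus condition in terms of the image of `Z'`
  have key2 : ∀ (Y' : AlgSp.Space S) (gY : Y' ⟶ Y) (q' : Y' ⟶ Z'),
      IsPullback gY.hom q'.hom q.hom g.hom → ∀ (X' : AlgSp.Space S) (gX : X' ⟶ X) (f' : X' ⟶ Y'),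
      IsPullback gX.hom f'.hom f.hom gY.hom →
      ((∀ x' : AlgSp.Points X'.obj, AlgSp.HasAtMor Qunr f.hom (AlgSp.Points.map gX.hom x')) ↔
        Set.range (AlgSp.Points.map g.hom) ⊆ (AlgSp.Points.map p.hom ''
          {x : AlgSp.Points X.obj | AlgSp.HasAtMor Qunr f.hom x}ᶜ)ᶜ) := by
    intro Y' gY q' sq1 X' gX f' sq2
    have sq : IsPullback gX.hom (f'.hom ≫ q'.hom) p.hom g.hom := by
      have := sq2.paste_vert sq1
      rw [← hc]
      exact this
    constructor
    · rintro H _ ⟨z', rfl⟩ ⟨x, hx, hxz⟩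
      obtain ⟨x', hx'1, -⟩ := Groth.Agent.S10175.exists_point_of_isPullback sq x z' hxz
      exact hx (hx'1 ▸ H x')
    · intro H x'
      by_contra hx
      refine H ⟨AlgSp.Points.map (f'.hom ≫ q'.hom) x', rfl⟩ ⟨AlgSp.Points.map gX.hom x', hx, ?_⟩
      rw [← AlgSp.Points.map_comp, ← AlgSp.Points.map_comp, sq.w]
  constructor
  · intro h Y' gY q' sq1 X' gX f' sq2
    exact (key Y' gY X' gX f' sq2).2 ((key2 Y' gY q' sq1 X' gX f' sq2).2 h)
  · intro H
    have sq1 := IsPullback.of_hasPullback q.hom g.hom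
    let Y' : AlgSp.Space S := ⟨pullback q.hom g.hom,
      Groth.Agent.S9874.isAlgSpace_of_isPullback Z.property.diag Y.property Z'.property sq1⟩
    let gY : Y' ⟶ Y := ObjectProperty.homMk (pullback.fst q.hom g.hom)
    let q' : Y' ⟶ Z' := ObjectProperty.homMk (pullback.snd q.hom g.hom)
    have sq2 := IsPullback.of_hasPullback f.hom gY.hom
    let X' : AlgSp.Space S := ⟨pullback f.hom gY.hom,
      Groth.Agent.S9874.isAlgSpace_of_isPullback Y.property.diag X.property Y'.property sq2⟩
    let gX : X' ⟶ X := ObjectProperty.homMk (pullback.fst f.hom gY.hom)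
    let f' : X' ⟶ Y' := ObjectProperty.homMk (pullback.snd f.hom gY.hom)
    exact (key2 Y' gY q' sq1 X' gX f' sq2).1 ((key Y' gY X' gX f' sq2).1
      (H Y' gY q' sq1 X' gX f' sq2))

end Groth.Agent.S10639
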