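import Groth.Statements.S10653
import Groth.Agent.R2.H45HasAtMor
import Groth.Agent.R2.H45RelDim
import Groth.Agent.Lib.Helper12OpenSub2
import Groth.Agent.S1240
import Groth.Agent.S9912
import Groth.Agent.S10175
import Groth.Agent.S10176

set_option autoImplicit false
set_option linter.style.haveILetI false
universe u
open CategoryTheory CategoryTheory.Limits AlgebraicGeometry
open AlgSp

namespace Groth.Agent.S10653

/-- For a flat morphism f : X ⟶ Y of algebraic spaces over S which is locally of finite type, and an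
open subspace j : V ⟶ Y with |V| dense in |Y| such that the base change X ×_Y V ⟶ V has relative
dimension at most d (at every point some etale chart diagram has top arrow with local fibre
dimension at most d): if either j is quasi-compact or f is locally of finite presentation, then f
has relative dimension at most d at every point of |X|. -/
theorem result {S : Scheme.{u}} {X Y V : AlgSp.Space S} (f : X ⟶ Y) (j : V ⟶ Y) (d : ℕ)
    (hf1 : AlgSp.LocP @Flat f.hom) (hf2 : AlgSp.LocP @LocallyOfFiniteType f.hom)
    (hj1 : AlgSp.RepWith @IsOpenImmersion j.hom) (hj2 : Dense (Set.range (AlgSp.Points.map j.hom)))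
    (P : AlgSp.Space S) (fst : P ⟶ X) (snd : P ⟶ V) (hP : IsPullback fst.hom snd.hom f.hom j.hom)
    (hV : ∀ x, AlgSp.HasAtMor (fun _ _ h u => FlatMor.fibreDimAt h u ≤ (d : WithBot ℕ∞)) snd.hom x)
    (h : AlgSp.LocP @LocallyOfFinitePresentation f.hom ∨ AlgSp.IsQuasiCompactMor j.hom) :
    ∀ x, AlgSp.HasAtMor (fun _ _ h u => FlatMor.fibreDimAt h u ≤ (d : WithBot ℕ∞)) f.hom x := by
  intro x
  obtain ⟨U, Vc, a, b, k, u, ha, hb, comm, hu⟩ :=
    Groth.Agent.R2.H45.HasAtMor.exists_diagram X.property Y.property f.hom x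
  haveI : Flat k.left := hf1 a b k ha hb comm
  haveI : LocallyOfFiniteType k.left := hf2 a b k ha hb comm
  -- the pullback of the open subspace `V` to the chart `Vc`
  obtain ⟨O', ι, fst', sq⟩ := hj1.1 b
  haveI : IsOpenImmersion ι.left := hj1.2 b fst' ι sq
  have hmem : ∀ v : ↥Vc.left, v ∈ Set.range ι.left ↔
      AlgSp.Points.ofPt b v ∈ Set.range (AlgSp.Points.map j.hom) := by
    intro v
    constructor
    · rintro ⟨o, rfl⟩
      refine ⟨AlgSp.Points.ofPt fst' o, ?_⟩
      rw [AlgSp.Points.map_ofPt, sq.w, Groth.Agent.S10176.ofPt_map_comp]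
    · rintro ⟨t, ht⟩
      have e : AlgSp.Points.map j.hom t = AlgSp.Points.map b (AlgSp.Points.ofScheme Vc v) := by
        rw [ht, AlgSp.Points.ofPt_eq_map_ofScheme]
      obtain ⟨p, -, hp⟩ := Groth.Agent.S10175.exists_point_of_isPullback sq t _ e
      refine ⟨AlgSp.Points.toScheme O' p, ?_⟩
      apply (AlgSp.Points.schemeEquiv Vc).injective
      change AlgSp.Points.ofScheme Vc _ = AlgSp.Points.ofScheme Vc v
      rw [← hp, ← AlgSp.Points.ofScheme_toScheme O' p, AlgSp.Points.toScheme_ofScheme,
        ← AlgSp.Points.ofPt_eq_map_ofScheme]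
      have := Groth.Agent.S10176.ofPt_map_comp ι (𝟙 ((AlgSp.yon S).obj Vc))
        (AlgSp.Points.toScheme O' p)
      rw [Category.comp_id] at this
      exact this.symm
  have hOset : (ι.left.opensRange : Set ↥Vc.left) =
      AlgSp.Points.ofPt b ⁻¹' Set.range (AlgSp.Points.map j.hom) := by
    ext v
    exact hmem v
  have hdense : Dense (ι.left.opensRange : Set ↥Vc.left) := by
    rw [hOset]
    exact hj2.preimage (Groth.Agent.S10176.isOpenMap_ofPt b hb)
  -- the hypothesis over the dense open
  have hle : ∀ u' : ↥U.left, k.left u' ∈ ι.left.opensRange →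
      FlatMor.fibreDimAt k.left u' ≤ (d : WithBot ℕ∞) := by
    intro u' hu'
    obtain ⟨t, ht⟩ := (hmem _).1 hu'
    have e : AlgSp.Points.map f.hom (AlgSp.Points.ofPt a u') = AlgSp.Points.map j.hom t := by
      rw [ht, AlgSp.Points.map_ofPt, comm, Groth.Agent.S10176.ofPt_map_comp]
    obtain ⟨p, hp1, -⟩ := Groth.Agent.S10175.exists_point_of_isPullback hP _ t e
    have h1 := (Groth.Agent.R2.H45.RelDim.hasAtMor_fibreDimAt_baseChange_iff
      (fun e => e ≤ (d : WithBot ℕ∞)) X.property Y.property V.property hP hf2 p).1 (hV p)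
    rw [hp1] at h1
    exact (Groth.Agent.R2.H45.HasAtMor.hasAtMor_iff_of_diagram
      (Groth.Agent.R2.H45.HasAtMor.etSqInv_fibreDimAt (fun e => e ≤ (d : WithBot ℕ∞)))
      f.hom a b k ha hb comm u').1 h1
  have hyp : LocallyOfFinitePresentation k.left ∨
      IsRetrocompact (ι.left.opensRange : Set ↥Vc.left) := by
    rcases h with h | h
    · exact Or.inl (h a b k ha hb comm)
    · right
      have hjq := Groth.Agent.S9912.repWith_quasiCompact_of_isQuasiCompactMor j.hom hj1.1 h
      haveI : QuasiCompact ι.left := hjq.2 b fst' ι sq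
      haveI : QuasiCompact ι.left.opensRange.ι := by
        have e := ι.left.isoOpensRange_hom_ι
        have : QuasiCompact (ι.left.isoOpensRange.hom ≫ ι.left.opensRange.ι) := by
          rw [e]; infer_instance
        exact (MorphismProperty.cancel_left_of_respectsIso @QuasiCompact
          ι.left.isoOpensRange.hom _).1 this
      exact IsRetrocompact_iff_isSpectralMap_subtypeVal.mpr ι.left.opensRange.ι.isSpectralMap
  have hres := Groth.Agent.S1240.result k.left ι.left.opensRange hdense d hle hyp u
  exact ⟨U, Vc, a, b, k, u, ha, hb, comm, hu, hres⟩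

end Groth.Agent.S10653
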