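import Groth.Statements.S10654
import Groth.Agent.S10653
import Groth.Agent.S10310
import Groth.Agent.S10649

set_option autoImplicit false
universe u
open CategoryTheory CategoryTheory.Limits AlgebraicGeometry
open AlgSp

namespace Groth.Agent.S10654

/-- For a flat proper morphism f : X ⟶ Y of algebraic spaces over S and an open subspace j : V ⟶ Y with
|V| dense in |Y| such that the base change X ×_Y V ⟶ V is finite: f is finite over all of Y,
provided either j is quasi-compact or f is locally of finite presentation. -/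
theorem result {S : Scheme.{u}} {X Y V : AlgSp.Space S} (f : X ⟶ Y) (j : V ⟶ Y)
    (hf1 : AlgSp.LocP @Flat f.hom) (hf2 : AlgSp.IsProperMor f.hom)
    (hj1 : AlgSp.RepWith @IsOpenImmersion j.hom) (hj2 : Dense (Set.range (AlgSp.Points.map j.hom)))
    (P : AlgSp.Space S) (fst : P ⟶ X) (snd : P ⟶ V) (hP : IsPullback fst.hom snd.hom f.hom j.hom)
    (hV : AlgSp.IsFiniteMor snd.hom)
    (h : AlgSp.LocP @LocallyOfFinitePresentation f.hom ∨ AlgSp.IsQuasiCompactMor j.hom) :
    AlgSp.IsFiniteMor f.hom := by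
  have hlft : AlgSp.LocP @LocallyOfFiniteType f.hom := hf2.2.1.1
  -- the base change is finite, hence locally quasi-finite, hence of relative dimension `0`
  have h2 := ((Groth.Agent.S10649.result snd).out 0 1).1 hV
  have hlftsnd : AlgSp.LocP @LocallyOfFiniteType snd.hom := h2.1.2.1.1
  have h3 := (Groth.Agent.S10310.result snd hlftsnd).1 h2.2
  have h4 : ∀ x, AlgSp.HasAtMor (fun _ _ h u => FlatMor.fibreDimAt h u ≤ ((0 : ℕ) : WithBot ℕ∞))
      snd.hom x := by
    intro x
    obtain ⟨U, W, a, b, k, u, ha, hb, comm, hu, hQ⟩ := h3 x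
    exact ⟨U, W, a, b, k, u, ha, hb, comm, hu, le_of_eq (by simpa using hQ)⟩
  have h5 := Groth.Agent.S10653.result f j 0 hf1 hlft hj1 hj2 P fst snd hP h4 h
  have h6 : ∀ x : AlgSp.Points X.obj,
      AlgSp.HasAtMor (fun _ _ h u => FlatMor.fibreDimAt h u = 0) f.hom x := by
    intro x
    obtain ⟨U, W, a, b, k, u, ha, hb, comm, hu, hQ⟩ := h5 x
    refine ⟨U, W, a, b, k, u, ha, hb, comm, hu, ?_⟩
    exact le_antisymm (by simpa using hQ) (Groth.Agent.Lib.Helper7.TopDim.localDim_nonneg _)
  have h7 := (Groth.Agent.S10310.result f hlft).2 h6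
  have h8 : AlgSp.IsProperMor f.hom ∧
      AlgSp.LocP (@LocallyQuasiFinite ⊓ @LocallyOfFiniteType) f.hom := ⟨hf2, h7⟩
  exact ((Groth.Agent.S10649.result f).out 0 1).2 h8

end Groth.Agent.S10654
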