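import Groth.Statements.S10659

set_option autoImplicit false
universe u
open CategoryTheory CategoryTheory.Limits AlgebraicGeometry
open AlgSp

namespace Groth.Agent.S10659

/-- Descent of `P` along a single etale surjective base change. -/
theorem P_of_isPullback_surj (P : MorphismProperty Scheme.{u})
    [P.IsLocalAtTarget Scheme.etalePrecoverage]
    {W'' W' V'' V' : Scheme.{u}} {r : W'' ⟶ W'} {s'' : W'' ⟶ V''} {s' : W' ⟶ V'} {p : V'' ⟶ V'}
    (sq : IsPullback r s'' s' p) (hp1 : Etale p) (hp2 : Surjective p) (h : P s'') : P s' := by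
  have hR : Presieve.singleton p ∈ Scheme.etalePrecoverage V' := by
    rw [Scheme.etalePrecoverage, Scheme.singleton_mem_precoverage_iff]
    exact ⟨p.surjective, inferInstance⟩
  refine MorphismProperty.IsLocalAtTarget.of_forall_pullbackSnd (K := Scheme.etalePrecoverage) hR ?_
  intro U g _ hg
  cases hg
  have e := sq.isoPullback_inv_snd
  rw [← P.cancel_left_of_respectsIso sq.isoPullback.hom, ← e]
  simpa using h

/-- Etale base change of `P`. -/
theorem P_of_isPullback_etale (P : MorphismProperty Scheme.{u})
    [P.IsLocalAtTarget Scheme.etalePrecoverage]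
    {W'' W V'' V : Scheme.{u}} {r : W'' ⟶ W} {s'' : W'' ⟶ V''} {s : W ⟶ V} {q : V'' ⟶ V}
    (sq : IsPullback r s'' s q) (hq : Etale q) (h : P s) : P s'' := by
  let X : Bool → Scheme.{u} := fun i => if i then V'' else V
  let f : ∀ i, X i ⟶ V := fun i => match i with
    | true => q
    | false => 𝟙 V
  have hR : Presieve.ofArrows X f ∈ Scheme.etalePrecoverage V := by
    rw [Scheme.etalePrecoverage, Scheme.ofArrows_mem_precoverage_iff]
    refine ⟨fun x => ⟨false, ⟨x, rfl⟩⟩, ?_⟩
    intro i
    cases i
    · show Etale (𝟙 V); infer_instance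
    · show Etale q; infer_instance
  have : HasPullback s q := sq.hasPullback
  have h1 : P (pullback.snd s q) :=
    MorphismProperty.IsLocalAtTarget.pullbackSnd (K := Scheme.etalePrecoverage) hR
      (Presieve.ofArrows.mk (f := f) true) h
  exact (P.cancel_left_of_respectsIso sq.isoPullback.inv s'').1
    (by rw [sq.isoPullback_inv_snd]; exact h1)

theorem result {S : Scheme.{u}} (P : MorphismProperty Scheme.{u}) [P.IsLocalAtTarget Scheme.etalePrecoverage]
    {X Y : AlgSp.Space S} (f : X ⟶ Y) (hf : AlgSp.Representable f.hom)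
    {V W : Over S} (b : (AlgSp.yon S).obj V ⟶ Y.obj) (hb1 : AlgSp.RepWith @Etale b) (hb2 : AlgSp.RepWith @Surjective b)
    (fst : (AlgSp.yon S).obj W ⟶ X.obj) (snd : W ⟶ V)
    (sq : IsPullback fst ((AlgSp.yon S).map snd) f.hom b) (hP : P snd.left) :
    AlgSp.RepLocT P f.hom := by
  refine ⟨hf, fun V' W' b' fst' snd' hb' sq' => ?_⟩
  have hb : AlgSp.Representable b := hb1.rep
  let p : hb.pullback b' ⟶ V' := hb.snd b'
  let q : hb.pullback b' ⟶ V := hb.fst' b'
  have sqV : IsPullback ((yon S).map q) ((yon S).map p) b b' := hb.isPullback' b'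
  have hp_et : Etale p.left := hb1.property b' _ _ sqV
  have hp_surj : Surjective p.left := hb2.property b' _ _ sqV
  have hq_et : Etale q.left := hb'.property b _ _ sqV.flip
  have sqW : IsPullback (pullback.fst snd q) (pullback.snd snd q) snd q :=
    IsPullback.of_hasPullback _ _
  have sqW' := sqW.map (yon S)
  have big := sqW'.paste_horiz sq
  rw [sqV.w] at big
  let r' : (yon S).obj (pullback snd q) ⟶ (yon S).obj W' :=
    sq'.lift ((yon S).map (pullback.fst snd q) ≫ fst)
      ((yon S).map (pullback.snd snd q) ≫ (yon S).map p) (by rw [big.w, Category.assoc])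
  have hr1 : r' ≫ fst' = (yon S).map (pullback.fst snd q) ≫ fst := sq'.lift_fst _ _ _
  have hr2 : r' ≫ (yon S).map snd' = (yon S).map (pullback.snd snd q) ≫ (yon S).map p :=
    sq'.lift_snd _ _ _
  rw [← hr1] at big
  have left : IsPullback r' ((yon S).map (pullback.snd snd q)) ((yon S).map snd') ((yon S).map p) :=
    IsPullback.of_right big hr2 sq'
  obtain ⟨r, hr⟩ : ∃ r : pullback snd q ⟶ W', (yon S).map r = r' := ⟨(yon S).preimage r', (yon S).map_preimage r'⟩
  rw [← hr] at left
  have hw : r ≫ snd' = pullback.snd snd q ≫ p := by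
    apply (yon S).map_injective
    rw [Functor.map_comp, Functor.map_comp]
    exact left.w
  have left' : IsPullback r (pullback.snd snd q) snd' p := IsPullback.of_map (yon S) hw left
  have s1 := sqW.map (Over.forget S)
  have s2 := left'.map (Over.forget S)
  have h1 : P (pullback.snd snd q).left := P_of_isPullback_etale P s1 hq_et hP
  exact P_of_isPullback_surj P s2 hp_et hp_surj h1

end Groth.Agent.S10659
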