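import Groth.Statements.S10660
import Groth.Agent.S8905

set_option autoImplicit false
universe u
open CategoryTheory CategoryTheory.Limits AlgebraicGeometry
open AlgSp

namespace Groth.Agent.S10660

/-- For an immersion i : Z ⟶ X of algebraic spaces over S: if i is a Koszul-regular immersion then it is
an H_1-regular immersion, and if it is an H_1-regular immersion then it is a quasi-regular immersion
(all in the representable, etale-local-on-the-target sense). -/
theorem result {S : Scheme.{u}} {Z X : AlgSp.Space S} (i : Z ⟶ X) (hi : AlgSp.RepWith @IsImmersion i.hom) :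
    (AlgSp.IsRegImmMor RegImm.Kind.koszul i.hom → AlgSp.IsRegImmMor RegImm.Kind.h1 i.hom) ∧
      (AlgSp.IsRegImmMor RegImm.Kind.h1 i.hom → AlgSp.IsRegImmMor RegImm.Kind.quasi i.hom) := by
  constructor
  · rintro ⟨hrep, h⟩
    exact ⟨hrep, fun V W b fst snd hb sq =>
      (Groth.Agent.S8905.result snd.left).2.1 (h b fst snd hb sq)⟩
  · rintro ⟨hrep, h⟩
    exact ⟨hrep, fun V W b fst snd hb sq =>
      (Groth.Agent.S8905.result snd.left).2.2 (h b fst snd hb sq)⟩

end Groth.Agent.S10660
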