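import Groth.Statements.S10669
import Groth.Agent.R2.H93DvrRed
import Groth.Agent.S10222
import Groth.Agent.S9874
import Groth.Agent.S10176
import Groth.Agent.S10177
import Groth.Agent.Lib.Helper12Reduced
import Groth.Agent.Lib.Helper12FieldBC
import Groth.Agent.Lib.Helper12SrcLocal

set_option autoImplicit false
set_option linter.style.haveILetI false
universe u
open CategoryTheory CategoryTheory.Limits AlgebraicGeometry
open AlgSp

namespace Groth.Agent.S10669

/-- For a discrete valuation ring R with residue field κ and fraction field K and an algebraic space X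
over Spec R whose structure morphism s (to the terminal sheaf h_{Spec R}) is flat and proper: if the
special fibre X ×_{Spec R} Spec κ is reduced (some etale surjective scheme chart is reduced), then X
is reduced and so is the generic fibre X ×_{Spec R} Spec K. -/
theorem result (R : Type u) [CommRing R] [IsDomain R] [IsDiscreteValuationRing R]
    {X : AlgSp.Space (Spec (CommRingCat.of R))}
    (s : X.obj ⟶ (AlgSp.yon (Spec (CommRingCat.of R))).obj (Over.mk (𝟙 _)))
    (hs1 : AlgSp.IsProperMor s) (hs2 : AlgSp.LocP @Flat s)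
    (h0 : ∀ (X0 : AlgSp.Sp (Spec (CommRingCat.of R))) (fst : X0 ⟶ X.obj)
      (snd : X0 ⟶ (AlgSp.yon (Spec (CommRingCat.of R))).obj
        (Over.mk (Spec.map (CommRingCat.ofHom (IsLocalRing.residue R))))),
      IsPullback fst snd s ((AlgSp.yon (Spec (CommRingCat.of R))).map
        (Over.homMk (Spec.map (CommRingCat.ofHom (IsLocalRing.residue R))) (Category.comp_id _) :
          Over.mk (Spec.map (CommRingCat.ofHom (IsLocalRing.residue R))) ⟶ Over.mk (𝟙 _))) →
      AlgSp.EtaleLocally (fun U => IsReduced U) X0) :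
    AlgSp.EtaleLocally (fun U => IsReduced U) X.obj ∧
      ∀ (Xη : AlgSp.Sp (Spec (CommRingCat.of R))) (fst : Xη ⟶ X.obj)
        (snd : Xη ⟶ (AlgSp.yon (Spec (CommRingCat.of R))).obj
          (Over.mk (Spec.map (CommRingCat.ofHom (algebraMap R (FractionRing R)))))),
        IsPullback fst snd s ((AlgSp.yon (Spec (CommRingCat.of R))).map
          (Over.homMk (Spec.map (CommRingCat.ofHom (algebraMap R (FractionRing R)))) (Category.comp_id _) :
            Over.mk (Spec.map (CommRingCat.ofHom (algebraMap R (FractionRing R)))) ⟶ Over.mk (𝟙 _))) →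
        AlgSp.EtaleLocally (fun U => IsReduced U) Xη := by
  classical
  open Groth.Agent.R2.H93.DvrRed Groth.Agent.Lib.Helper10.DVRFibre in
  -- notation
  let T0 : Over (Spec (CommRingCat.of R)) := Over.mk (𝟙 _)
  obtain ⟨U, a, hae, has⟩ := X.property.atlas
  let h : U ⟶ T0 := Over.homMk U.hom (Category.comp_id _)
  have hcomm' : a ≫ s = (AlgSp.yon _).map h := by
    obtain ⟨h', hh'⟩ := (AlgSp.yon _).map_surjective (a ≫ s)
    rw [← hh']
    congr 1
    ext
    have := Over.w h'
    show h'.left = U.hom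
    simpa using this
  have hcomm : a ≫ s = (AlgSp.yon _).map h ≫ 𝟙 _ := by rw [Category.comp_id, hcomm']
  haveI hflat : Flat U.hom := hs2 a (𝟙 _) h hae (AlgSp.repWith_id _ T0) hcomm
  haveI hlft : LocallyOfFiniteType U.hom :=
    hs1.2.1.1 a (𝟙 _) h hae (AlgSp.repWith_id _ T0) hcomm
  have hgen : GeneralizingMap U.hom := Flat.generalizingMap U.hom
  -- the special fibre of the chart is reduced
  let κ0 : Over (Spec (CommRingCat.of R)) :=
    Over.mk (Spec.map (CommRingCat.ofHom (IsLocalRing.residue R)))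
  let i0 : κ0 ⟶ T0 :=
    Over.homMk (Spec.map (CommRingCat.ofHom (IsLocalRing.residue R))) (Category.comp_id _)
  have hX0 := h0 (pullback s ((AlgSp.yon _).map i0)) (pullback.fst _ _) (pullback.snd _ _)
    (IsPullback.of_hasPullback _ _)
  let U0 : Over (Spec (CommRingCat.of R)) := Over.mk (pullback.fst h.left i0.left ≫ U.hom)
  let pr₁ : U0 ⟶ U := Over.homMk (pullback.fst h.left i0.left) rfl
  let pr₂ : U0 ⟶ κ0 := Over.homMk (pullback.snd h.left i0.left) (by
    show pullback.snd h.left i0.left ≫ κ0.hom = pullback.fst h.left i0.left ≫ U.hom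
    rw [← Over.w i0, ← Over.w h, ← Category.assoc, ← Category.assoc, pullback.condition])
  have sqV : IsPullback pr₁ pr₂ h i0 :=
    IsPullback.of_map (Over.forget _) (Over.OverMorphism.ext pullback.condition)
      (IsPullback.of_hasPullback h.left i0.left)
  have sqVy := (sqV.map (AlgSp.yon _)).flip
  rw [← hcomm'] at sqVy
  obtain ⟨a', sqa⟩ : ∃ a', IsPullback a' ((AlgSp.yon _).map pr₁)
      (pullback.fst s ((AlgSp.yon _).map i0)) a :=
    ⟨_, IsPullback.of_right' sqVy (IsPullback.of_hasPullback s ((AlgSp.yon _).map i0)).flip⟩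
  have ha'e : AlgSp.RepWith @Etale a' :=
    MorphismProperty.of_isPullback (P := AlgSp.RepWith @Etale) sqa.flip hae
  haveI hU0red : IsReduced U0.left := Groth.Agent.Lib.Helper12.FieldBC.isReduced_of_chart hX0 a' ha'e
  haveI : IsReduced (U.hom.fiber (IsLocalRing.closedPoint R)) :=
    isReduced_fiber_closedPoint U.hom hU0red
  -- the structure map on points is closed
  have hcl : IsClosedMap (AlgSp.Points.map s) :=
    hs1.2.2 (AlgSp.IsAlgSpace.yon_obj T0) (𝟙 _) (𝟙 _) s (IsPullback.id_horiz s)
  let τ : AlgSp.Points X.obj → PrimeSpectrum R := fun x =>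
    AlgSp.Points.toScheme T0 (AlgSp.Points.map s x)
  have hτcl : IsClosedMap τ := (AlgSp.Points.schemeHomeo T0).symm.isClosedMap.comp hcl
  have hτu : ∀ u : U.left, τ (AlgSp.Points.ofPt a u) = U.hom u := by
    intro u
    show AlgSp.Points.toScheme T0 (AlgSp.Points.map s (AlgSp.Points.ofPt a u)) = U.hom u
    rw [AlgSp.Points.map_ofPt, hcomm', AlgSp.Points.toScheme_ofPt]
    rfl
  have key : ∀ x : AlgSp.Points X.obj,
      AlgSp.HasAt (fun U u => _root_.IsReduced ↥(U.presheaf.stalk u)) X.obj x := by
    intro x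
    obtain ⟨x0, hx0, hτx0⟩ := exists_mem_closure_map_eq_closedPoint τ hτcl x
    obtain ⟨u0, rfl⟩ := Groth.Agent.S10177.surjective_ofPt a has x0
    have hu0 : U.hom u0 = IsLocalRing.closedPoint R := by rw [← hτu u0]; exact hτx0
    obtain ⟨W, hW, hu0W, hWred⟩ := exists_affine_reduced U.hom hgen u0
      (by rw [hu0]; exact closedPoint_ne_genPt)
    have hopen : IsOpen (AlgSp.Points.ofPt a '' (W : Set U.left)) :=
      Groth.Agent.S10176.isOpenMap_ofPt a hae _ W.isOpen
    have hx : x ∈ AlgSp.Points.ofPt a '' (W : Set U.left) := by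
      obtain ⟨z, hz1, hz2⟩ := mem_closure_iff.1 hx0 _ hopen ⟨u0, hu0W, rfl⟩
      rw [Set.mem_singleton_iff] at hz2
      subst hz2
      exact hz1
    obtain ⟨u', hu'W, hu'x⟩ := hx
    exact ⟨U, a, u', hae, hu'x, isReduced_stalk_of_affine hW hWred u' hu'W⟩
  have hXred : AlgSp.IsReducedSp X.obj := (Groth.Agent.S10222.result X).2 key
  refine ⟨hXred, fun Xη fst snd sq => ?_⟩
  have hXη : AlgSp.IsAlgSpace Xη :=
    Groth.Agent.S9874.isAlgSpace_of_isPullback (AlgSp.IsAlgSpace.yon_obj T0).diag X.property
      (AlgSp.IsAlgSpace.yon_obj _) sq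
  haveI := isOpenImmersion_spec_fractionRing (R := R)
  have hj : AlgSp.RepWith @Etale ((AlgSp.yon (Spec (CommRingCat.of R))).map
      (Over.homMk (Spec.map (CommRingCat.ofHom (algebraMap R (FractionRing R))))
        (Category.comp_id _) :
        Over.mk (Spec.map (CommRingCat.ofHom (algebraMap R (FractionRing R)))) ⟶ Over.mk (𝟙 _))) :=
    (AlgSp.repWith_yon_map_iff _ _).2
      (show Etale (Spec.map (CommRingCat.ofHom (algebraMap R (FractionRing R)))) from inferInstance)
  have hfst : AlgSp.RepWith @Etale fst :=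
    MorphismProperty.of_isPullback (P := AlgSp.RepWith @Etale) sq.flip hj
  have hEt : AlgSp.IsEtaleMor fst := fun V φ hφ => (AlgSp.RepWith @Etale).comp_mem _ _ hφ hfst
  have hLocEt : AlgSp.LocP @Etale fst :=
    Groth.Agent.Lib.Helper12.SrcLocal.locP_etale_of_isEtaleMor fst hEt
  have hLocSm : AlgSp.LocP @Smooth fst := fun V V' a b k ha hb e => by
    haveI : Etale k.left := hLocEt a b k ha hb e
    infer_instance
  exact Groth.Agent.Lib.Helper12.Reduced.isReducedSp_of_smooth hXη fst hLocSm hXred

end Groth.Agent.S10669
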