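import Groth.Statements.S10676
import Groth.Agent.R2.H93SplitMulti
-- import your own Groth.Agent.* helpers here

set_option autoImplicit false
universe u
open CategoryTheory CategoryTheory.Limits AlgebraicGeometry
open AlgSp

namespace Groth.Agent.S10676

/-- For a separated morphism f : X ⟶ Y of algebraic spaces over S which is locally of finite type, a
point y of |Y| and a finite set xs of points of |X| mapping to y at each of which f is quasi-finite
(some etale chart diagram through the point has top arrow locally quasi-finite and locally of finite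
type on an open neighbourhood), assuming moreover that f is quasi-compact or Y is decent: there are
an etale morphism of algebraic spaces a : U ⟶ Y and a point u of |U| over y such that for the base
change P = U ×_Y X there is an open and closed subspace V ⊂ P, finite over U, such that every point
of |V| over u maps into xs and no point of |P| outside |V| lying over u maps into xs. -/
theorem result {S : Scheme.{u}} {X Y : AlgSp.Space S} (f : X ⟶ Y) (y : AlgSp.Points Y.obj)
    (xs : Finset (AlgSp.Points X.obj)) (hxs : ∀ x ∈ xs, AlgSp.Points.map f.hom x = y)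
    (hf1 : AlgSp.LocP @LocallyOfFiniteType f.hom) (hf2 : AlgSp.IsSeparatedMor f.hom)
    (hf3 : ∀ x ∈ xs, AlgSp.HasAtMor (fun U _ h u => ∃ W : U.Opens, u ∈ W ∧ LocallyQuasiFinite (W.ι ≫ h) ∧ LocallyOfFiniteType (W.ι ≫ h)) f.hom x)
    (hf4 : AlgSp.IsQuasiCompactMor f.hom ∨ AlgSp.IsDecent Y.obj) :
    ∃ (U : AlgSp.Space S) (a : U ⟶ Y) (u : AlgSp.Points U.obj), AlgSp.IsEtaleMor a.hom ∧ AlgSp.Points.map a.hom u = y ∧
      ∀ (P : AlgSp.Space S) (prX : P ⟶ X) (prU : P ⟶ U), IsPullback prX.hom prU.hom f.hom a.hom →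
        ∃ (V : AlgSp.Space S) (jV : V ⟶ P), AlgSp.RepWith @IsOpenImmersion jV.hom ∧ AlgSp.RepWith @IsClosedImmersion jV.hom ∧
          AlgSp.IsFiniteMor (jV ≫ prU).hom ∧
          (∀ v : AlgSp.Points V.obj, AlgSp.Points.map (jV ≫ prU).hom v = u → AlgSp.Points.map (jV ≫ prX).hom v ∈ xs) ∧
          ∀ w : AlgSp.Points P.obj, w ∉ Set.range (AlgSp.Points.map jV.hom) → AlgSp.Points.map prU.hom w = u →
            AlgSp.Points.map prX.hom w ∉ xs := by
  have hf3' : ∀ x ∈ xs, AlgSp.HasAtMor Groth.Agent.R2.H45.RelDim.Qlqf f.hom x := hf3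
  refine Groth.Agent.R2.H93.SplitMulti.exists_split_multi f y xs hf1 hf2 hf3' ?_
  intro Y0o b0 hY0aff hb0 X0 prX0 f0 sq0 y0 hy0
  have hY0 : AlgSp.IsAlgSpace ((AlgSp.yon S).obj Y0o) := AlgSp.IsAlgSpace.yon_obj Y0o
  rcases hf4 with hqc | hdec
  · refine (Groth.Agent.R2.H93.SplitMulti.finite_of_quasiCompact f hf1 hqc hY0aff b0 prX0 f0 sq0
      y0).subset ?_
    rintro w ⟨hw1, hw2⟩
    exact ⟨hw1, (Groth.Agent.R2.H45.GrpLocus.bcInv_qlqf X.property Y.property hY0 sq0 hf1 w).2
      (hf3' _ hw2)⟩
  · haveI : IsAffine Y0o.left := hY0aff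
    have hfin : (⋃ x ∈ (xs : Set (AlgSp.Points X.obj)),
        {w : AlgSp.Points X0 | AlgSp.Points.map prX0 w = x}).Finite :=
      Set.Finite.biUnion xs.finite_toSet (fun x _ =>
        Groth.Agent.R2.H93.SplitMulti.finite_fibre_of_decent f hdec b0 hb0 prX0 f0 sq0 x)
    refine hfin.subset ?_
    rintro w ⟨-, hw2⟩
    exact Set.mem_biUnion (Finset.mem_coe.2 hw2) rfl

end Groth.Agent.S10676
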