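import Mathlib
import Groth.Statements.S10678
import Groth.Agent.R2.H45RelDim
import Groth.Agent.R2.H45HasAtMor
import Groth.Agent.R2.H45HasAt
import Groth.Agent.S5341
import Groth.Agent.S5792
import Groth.Agent.S9874
import Groth.Agent.S10175
import Groth.Agent.S10177

set_option autoImplicit false
set_option linter.style.haveILetI false
universe u
open CategoryTheory CategoryTheory.Limits AlgebraicGeometry
open AlgSp

namespace Groth.Agent.S10678
open Groth.Agent.R2.H45.HasAtMor Groth.Agent.R2.H45.HasAt Groth.Agent.R2.H45.RelDim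

/-- For a morphism f : X ⟶ Y of finite type between algebraic spaces over S, a point y of |Y| and any
field point k of Y in the class of y, with fibre X_k (pullback in fppf sheaves): the dimension of
X_k (supremum of the dimensions of its etale scheme charts) is -∞ exactly when y lies outside the
image of |X|, and for every natural number d it is at most d exactly when f has relative dimension
at most d at every point of |X| over y (some etale chart diagram through the point whose top arrow
has local fibre dimension at most d there). -/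
theorem result {S : Scheme.{u}} {X Y : AlgSp.Space S} (f : X ⟶ Y) (hf : AlgSp.IsFiniteTypeMor f.hom)
    (y : AlgSp.Points Y.obj) (k : AlgSp.FieldPt Y.obj) (hk : AlgSp.Points.mk k = y)
    (Xk : AlgSp.Sp S) (fst : Xk ⟶ X.obj) (snd : Xk ⟶ (AlgSp.yon S).obj k.pt) (h : IsPullback fst snd f.hom k.toHom) :
    (AlgSp.dim Xk = ⊥ ↔ y ∉ Set.range (AlgSp.Points.map f.hom)) ∧
      ∀ d : ℕ, (AlgSp.dim Xk ≤ d ↔
        ∀ x : AlgSp.Points X.obj, AlgSp.Points.map f.hom x = y →
          AlgSp.HasAtMor (fun _ _ h u => FlatMor.fibreDimAt h u ≤ (d : WithBot ℕ∞)) f.hom x) := by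
  have hT : AlgSp.IsAlgSpace ((AlgSp.yon S).obj k.pt) := AlgSp.IsAlgSpace.yon_obj _
  have hXk : AlgSp.IsAlgSpace Xk :=
    Groth.Agent.S9874.isAlgSpace_of_isPullback Y.property.diag X.property hT h
  haveI hsub : Subsingleton ↥k.pt.left := inferInstanceAs (Subsingleton (PrimeSpectrum k.K))
  -- every point of `Spec k` maps to `y`
  have hpt : ∀ z : AlgSp.Points ((AlgSp.yon S).obj k.pt), AlgSp.Points.map k.toHom z = y := by
    intro z
    rw [← AlgSp.Points.ofScheme_toScheme k.pt z,
      Subsingleton.elim (AlgSp.Points.toScheme k.pt z) (IsLocalRing.closedPoint k.K),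
      AlgSp.Points.map_ofPt, Category.id_comp, ← hk]
    exact Groth.Agent.S10177.ofPt_closedPoint k
  -- the image of `|X_k|` in `|X|` is the fibre over `y`
  have himg : ∀ x : AlgSp.Points X.obj, AlgSp.Points.map f.hom x = y ↔
      ∃ x' : AlgSp.Points Xk, AlgSp.Points.map fst x' = x := by
    intro x
    constructor
    · intro hx
      obtain ⟨p, hp1, -⟩ := Groth.Agent.S10175.exists_point_of_isPullback h x
        (AlgSp.Points.ofPt (𝟙 _) (IsLocalRing.closedPoint k.K)) (by rw [hx, hpt])
      exact ⟨p, hp1⟩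
    · rintro ⟨x', rfl⟩
      rw [← AlgSp.Points.map_comp, h.w, AlgSp.Points.map_comp, hpt]
  -- relative dimension of `X_k ⟶ Spec k` on a chart is the local dimension of the chart
  have hchart : ∀ (d : ℕ) (U : Over S) (a : (AlgSp.yon S).obj U ⟶ Xk) (u : ↥U.left),
      AlgSp.RepWith @Etale a →
      (AlgSp.HasAtMor (fun _ _ h u => FlatMor.fibreDimAt h u ≤ (d : WithBot ℕ∞)) snd
        (AlgSp.Points.ofPt a u) ↔ FlatMor.localDim ↥U.left u ≤ (d : WithBot ℕ∞)) := by
    intro d U a u ha
    obtain ⟨φ, hφ⟩ := (AlgSp.yon S).map_surjective (a ≫ snd)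
    have comm : a ≫ snd = (AlgSp.yon S).map φ ≫ 𝟙 _ := by rw [hφ, Category.comp_id]
    have e := hasAtMor_iff_of_diagram (etSqInv_fibreDimAt (fun e => e ≤ (d : WithBot ℕ∞))) snd a
      (𝟙 _) φ ha (AlgSp.repWith_id _ _) comm u
    rw [e]
    change FlatMor.fibreDimAt φ.left u ≤ _ ↔ _
    rw [Groth.Agent.S5341.fibreDimAt_eq_localDim_of_subsingleton φ.left u]
  constructor
  · constructor
    · rintro hbot ⟨x, hx⟩
      obtain ⟨x', -⟩ := (himg x).1 hx
      obtain ⟨U, a, u, ha, -, -⟩ := exists_chart hXk x'
      have h1 : topologicalKrullDim ↥U.left ≤ AlgSp.dim Xk := by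
        unfold AlgSp.dim
        exact le_iSup₂_of_le U a (le_iSup_of_le ha le_rfl)
      rw [hbot, le_bot_iff] at h1
      have h2 : IsEmpty (TopologicalSpace.IrreducibleCloseds ↥U.left) :=
        Order.krullDim_eq_bot_iff.1 h1
      exact h2.false ⟨closure {u}, isIrreducible_singleton.closure, isClosed_closure⟩
    · intro hy
      unfold AlgSp.dim
      rw [eq_bot_iff]
      refine iSup_le fun U => iSup_le fun a => iSup_le fun ha => ?_
      rw [Groth.Agent.S5792.result]
      refine iSup_le fun u => ?_
      exfalso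
      apply hy
      refine ⟨AlgSp.Points.map fst (AlgSp.Points.ofPt a u), ?_⟩
      exact (himg _).2 ⟨_, rfl⟩
  · intro d
    have hbc : ∀ x' : AlgSp.Points Xk,
        AlgSp.HasAtMor (fun _ _ h u => FlatMor.fibreDimAt h u ≤ (d : WithBot ℕ∞)) snd x' ↔
        AlgSp.HasAtMor (fun _ _ h u => FlatMor.fibreDimAt h u ≤ (d : WithBot ℕ∞)) f.hom
          (AlgSp.Points.map fst x') := fun x' =>
      hasAtMor_fibreDimAt_baseChange_iff (fun e => e ≤ (d : WithBot ℕ∞)) X.property Y.property hT h
        hf.1 x'
    constructor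
    · intro hd x hx
      obtain ⟨x', rfl⟩ := (himg x).1 hx
      rw [← hbc]
      obtain ⟨U, a, u, ha, -, rfl⟩ := exists_chart hXk x'
      rw [hchart d U a u ha]
      have h1 : topologicalKrullDim ↥U.left ≤ AlgSp.dim Xk := by
        unfold AlgSp.dim
        exact le_iSup₂_of_le U a (le_iSup_of_le ha le_rfl)
      rw [Groth.Agent.S5792.result] at h1
      exact (le_iSup (fun x => FlatMor.localDim ↥U.left x) u).trans (h1.trans hd)
    · intro H
      unfold AlgSp.dim
      refine iSup_le fun U => iSup_le fun a => iSup_le fun ha => ?_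
      rw [Groth.Agent.S5792.result]
      refine iSup_le fun u => ?_
      rw [← hchart d U a u ha, hbc]
      exact H _ ((himg _).2 ⟨_, rfl⟩)

end Groth.Agent.S10678
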