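import Mathlib
import Groth.Statements.S10680
import Groth.Agent.S10678
import Groth.Agent.S10308

set_option autoImplicit false
set_option linter.style.haveILetI false
universe u
open CategoryTheory CategoryTheory.Limits AlgebraicGeometry
open AlgSp

namespace Groth.Agent.S10680

theorem lt_succ_iff' (a : WithBot ℕ∞) (n : ℕ) :
    a < ((n + 1 : ℕ) : WithBot ℕ∞) ↔ a ≤ (n : WithBot ℕ∞) := by
  induction a using WithBot.recBotCoe with
  | bot => simp
  | coe m =>
    have h1 : ((n + 1 : ℕ) : WithBot ℕ∞) = (((n + 1 : ℕ) : ℕ∞) : WithBot ℕ∞) := rfl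
    have h2 : ((n : ℕ) : WithBot ℕ∞) = (((n : ℕ) : ℕ∞) : WithBot ℕ∞) := rfl
    rw [h1, h2, WithBot.coe_lt_coe, WithBot.coe_le_coe]
    push_cast
    exact ENat.lt_add_one_iff (ENat.natCast_ne_top n)

theorem lt_zero_iff' (a : WithBot ℕ∞) : a < ((0 : ℕ) : WithBot ℕ∞) ↔ a = ⊥ := by
  induction a using WithBot.recBotCoe with
  | bot => simp
  | coe m =>
    have h1 : ((0 : ℕ) : WithBot ℕ∞) = (((0 : ℕ) : ℕ∞) : WithBot ℕ∞) := rfl
    rw [h1, WithBot.coe_lt_coe]
    simp

theorem lt_top_iff' (a : WithBot ℕ∞) :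
    a < ((⊤ : ℕ∞) : WithBot ℕ∞) ↔ ∃ n : ℕ, a ≤ (n : WithBot ℕ∞) := by
  induction a using WithBot.recBotCoe with
  | bot => simp
  | coe m =>
    rw [WithBot.coe_lt_coe]
    constructor
    · intro h
      obtain ⟨n, rfl⟩ := ENat.ne_top_iff_exists.1 h.ne
      exact ⟨n, le_rfl⟩
    · rintro ⟨n, hn⟩
      have h2 : ((n : ℕ) : WithBot ℕ∞) = (((n : ℕ) : ℕ∞) : WithBot ℕ∞) := rfl
      rw [h2, WithBot.coe_le_coe] at hn
      exact lt_of_le_of_lt hn (ENat.natCast_lt_top n)

/-- the fibre conditions: `dim X_k = ⊥` iff `y` is not in the image; `dim X_k ≤ n` iff the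
relative dimension is at most `n` at all points over `y`; and fibres exist. -/
theorem fibre_set_eq {S : Scheme.{u}} {X Y : AlgSp.Space S} (f : X ⟶ Y)
    (hf : AlgSp.IsFiniteTypeMor f.hom) (P : WithBot ℕ∞ → Prop) (A : AlgSp.Points Y.obj → Prop)
    (hPA : ∀ (y : AlgSp.Points Y.obj) (k : AlgSp.FieldPt Y.obj), AlgSp.Points.mk k = y →
      ∀ (Xk : AlgSp.Sp S) (fst : Xk ⟶ X.obj) (snd : Xk ⟶ (AlgSp.yon S).obj k.pt),
        IsPullback fst snd f.hom k.toHom → (P (AlgSp.dim Xk) ↔ A y)) :
    {y : AlgSp.Points Y.obj | ∀ (k : AlgSp.FieldPt Y.obj), AlgSp.Points.mk k = y →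
      ∀ (Xk : AlgSp.Sp S) (fst : Xk ⟶ X.obj) (snd : Xk ⟶ (AlgSp.yon S).obj k.pt),
        IsPullback fst snd f.hom k.toHom → P (AlgSp.dim Xk)} = {y | A y} := by
  ext y
  simp only [Set.mem_ofPred_eq]
  constructor
  · intro H
    obtain ⟨k, hk⟩ := AlgSp.Points.mk_surjective y
    have sq := IsPullback.of_hasPullback f.hom k.toHom
    exact (hPA y k hk _ _ _ sq).1 (H k hk _ _ _ sq)
  · intro H k hk Xk fst snd sq
    exact (hPA y k hk Xk fst snd sq).2 H

/-- For a proper morphism f : X ⟶ Y between algebraic spaces over S the fibre dimension function on |Y|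
is upper semi-continuous: for every d the set of y such that every fibre X_k over y (k a field point
in the class of y, X_k any pullback in fppf sheaves) has dimension less than d is open. -/
theorem result {S : Scheme.{u}} {X Y : AlgSp.Space S} (f : X ⟶ Y) (hf : AlgSp.IsProperMor f.hom) (d : WithBot ℕ∞) :
    IsOpen {y : AlgSp.Points Y.obj | ∀ (k : AlgSp.FieldPt Y.obj), AlgSp.Points.mk k = y →
      ∀ (Xk : AlgSp.Sp S) (fst : Xk ⟶ X.obj) (snd : Xk ⟶ (AlgSp.yon S).obj k.pt),
        IsPullback fst snd f.hom k.toHom → AlgSp.dim Xk < d} := by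
  obtain ⟨-, hft, huc⟩ := hf
  have hcl : IsClosedMap (AlgSp.Points.map f.hom) :=
    huc Y.property (𝟙 _) (𝟙 _) f.hom (IsPullback.of_horiz_isIso ⟨by simp⟩)
  have hA : ∀ n : ℕ, IsOpen {y : AlgSp.Points Y.obj | ∀ x : AlgSp.Points X.obj,
      AlgSp.Points.map f.hom x = y →
      AlgSp.HasAtMor (fun _ _ h u => FlatMor.fibreDimAt h u ≤ (n : WithBot ℕ∞)) f.hom x} := by
    intro n
    have h1 := (hcl _ (Groth.Agent.S10308.result f hft.1 n).isClosed_compl).isOpen_compl
    convert h1 using 1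
    ext y
    simp only [Set.mem_ofPred_eq, Set.mem_compl_iff, Set.mem_image, not_exists, not_and]
    constructor
    · intro H x hx hxy
      exact hx (H x hxy)
    · intro H x hxy
      by_contra hx
      exact H x hx hxy
  have hB : IsOpen {y : AlgSp.Points Y.obj | y ∉ Set.range (AlgSp.Points.map f.hom)} :=
    hcl.isClosed_range.isOpen_compl
  induction d using WithBot.recBotCoe with
  | bot =>
    rw [fibre_set_eq f hft (fun a => a < ⊥) (fun _ => False)
      (fun y k hk Xk fst snd sq => by simp)]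
    simp
  | coe d =>
    induction d using ENat.recTopCoe with
    | top =>
      rw [fibre_set_eq f hft (fun a => a < ((⊤ : ℕ∞) : WithBot ℕ∞))
        (fun y => ∃ n : ℕ, ∀ x : AlgSp.Points X.obj, AlgSp.Points.map f.hom x = y →
          AlgSp.HasAtMor (fun _ _ h u => FlatMor.fibreDimAt h u ≤ (n : WithBot ℕ∞)) f.hom x)
        (fun y k hk Xk fst snd sq => by
          rw [lt_top_iff']
          exact exists_congr fun n => (Groth.Agent.S10678.result f hft y k hk Xk fst snd sq).2 n)]
      have : {y : AlgSp.Points Y.obj | ∃ n : ℕ, ∀ x : AlgSp.Points X.obj,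
          AlgSp.Points.map f.hom x = y →
          AlgSp.HasAtMor (fun _ _ h u => FlatMor.fibreDimAt h u ≤ (n : WithBot ℕ∞)) f.hom x} =
          ⋃ n : ℕ, {y : AlgSp.Points Y.obj | ∀ x : AlgSp.Points X.obj,
            AlgSp.Points.map f.hom x = y →
            AlgSp.HasAtMor (fun _ _ h u => FlatMor.fibreDimAt h u ≤ (n : WithBot ℕ∞)) f.hom x} := by
        ext y
        simp
      rw [this]
      exact isOpen_iUnion hA
    | coe m =>
      cases m with
      | zero =>
        rw [fibre_set_eq f hft (fun a => a < (((0 : ℕ) : ℕ∞) : WithBot ℕ∞))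
          (fun y => y ∉ Set.range (AlgSp.Points.map f.hom))
          (fun y k hk Xk fst snd sq => by
            have h0 : (((0 : ℕ) : ℕ∞) : WithBot ℕ∞) = ((0 : ℕ) : WithBot ℕ∞) := rfl
            rw [h0, lt_zero_iff']
            exact (Groth.Agent.S10678.result f hft y k hk Xk fst snd sq).1)]
        exact hB
      | succ n =>
        rw [fibre_set_eq f hft (fun a => a < (((n + 1 : ℕ) : ℕ∞) : WithBot ℕ∞))
          (fun y => ∀ x : AlgSp.Points X.obj, AlgSp.Points.map f.hom x = y →
            AlgSp.HasAtMor (fun _ _ h u => FlatMor.fibreDimAt h u ≤ (n : WithBot ℕ∞)) f.hom x)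
          (fun y k hk Xk fst snd sq => by
            have h0 : (((n + 1 : ℕ) : ℕ∞) : WithBot ℕ∞) = ((n + 1 : ℕ) : WithBot ℕ∞) := rfl
            rw [h0, lt_succ_iff']
            exact (Groth.Agent.S10678.result f hft y k hk Xk fst snd sq).2 n)]
        exact hA n

end Groth.Agent.S10680
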