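import Groth.Statements.S10686
import Groth.Agent.R2.H93RedDesc
import Groth.Agent.R2.H46FinField3
import Groth.Agent.Lib.Helper9SpPoint6
import Groth.Agent.S9874

set_option autoImplicit false
set_option linter.style.haveILetI false
universe u
open CategoryTheory CategoryTheory.Limits AlgebraicGeometry
open AlgSp

namespace Groth.Agent.S10686

variable {S : Scheme.{u}}

/-- a morphism between spectra of fields is flat. -/
lemma flat_of_fields {K K₀ : Type u} [Field K] [Field K₀]
    (c : Spec (CommRingCat.of K) ⟶ Spec (CommRingCat.of K₀)) : Flat c := by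
  rw [← Spec.map_preimage c, HasRingHomProperty.Spec_iff (P := @Flat)]
  algebraize [(Spec.preimage c).hom]
  show Module.Flat K₀ K
  infer_instance

/-- a morphism between spectra of fields is surjective. -/
lemma surjective_of_fields {K K₀ : Type u} [Field K] [Field K₀]
    (c : Spec (CommRingCat.of K) ⟶ Spec (CommRingCat.of K₀)) : Surjective c :=
  ⟨fun _ => ⟨IsLocalRing.closedPoint K, Subsingleton.elim _ _⟩⟩

/-- the geometric reducedness hypothesis, restated for arbitrary restrictions of the field point. -/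
lemma reduced_of_geomReduced {X Y : AlgSp.Space S} (f : X ⟶ Y) (k : AlgSp.FieldPt Y.obj)
    (hGR : ∀ (k' : Type u) [Field k'] (φ : k.K →+* k') (Xk' : AlgSp.Sp S) (a : Xk' ⟶ X.obj)
      (b : Xk' ⟶ (AlgSp.yon S).obj (Over.mk (Spec.map (CommRingCat.ofHom φ) ≫ k.str))),
      IsPullback a b f.hom ((AlgSp.yon S).map (Over.homMk (Spec.map (CommRingCat.ofHom φ)) rfl :
        Over.mk (Spec.map (CommRingCat.ofHom φ) ≫ k.str) ⟶ k.pt) ≫ k.toHom) →
      AlgSp.EtaleLocally (fun U => IsReduced U) Xk')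
    (Ω : Type u) [Field Ω] (l : Spec (CommRingCat.of Ω) ⟶ Spec (CommRingCat.of k.K))
    (w : Spec (CommRingCat.of Ω) ⟶ S) (hl : l ≫ k.str = w) (P : AlgSp.Sp S) (a : P ⟶ X.obj)
    (b : P ⟶ (AlgSp.yon S).obj (Over.mk w))
    (sq : IsPullback a b f.hom ((AlgSp.yon S).map (Over.homMk l hl : Over.mk w ⟶ k.pt) ≫ k.toHom)) :
    AlgSp.EtaleLocally (fun U => IsReduced U) P := by
  subst hl
  obtain ⟨φ, rfl⟩ : ∃ φ : k.K →+* Ω, l = Spec.map (CommRingCat.ofHom φ) :=
    ⟨(Spec.preimage l).hom, by rw [CommRingCat.ofHom_hom, Spec.map_preimage]⟩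
  exact hGR Ω φ P a b sq

/-- For a morphism f : X ⟶ Y between algebraic spaces over S and a point y of |Y|, write X_k for the
fibre (pullback in fppf sheaves) over a field point k of Y and call X_k geometrically reduced when
for every field homomorphism k ⟶ k' the base change X_{k'} is reduced (some etale surjective scheme
chart reduced). The following are equivalent: (1) X_k is geometrically reduced for some k in the
class of y; (2) X_k is geometrically reduced for every k in the class of y; (3) X_k is reduced for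
every k in the class of y. -/
theorem result {S : Scheme.{u}} {X Y : AlgSp.Space S} (f : X ⟶ Y) (y : AlgSp.Points Y.obj) :
    [∃ (k : AlgSp.FieldPt Y.obj), AlgSp.Points.mk k = y ∧
        ∀ (k' : Type u) [Field k'] (φ : k.K →+* k') (Xk' : AlgSp.Sp S) (a : Xk' ⟶ X.obj)
          (b : Xk' ⟶ (AlgSp.yon S).obj (Over.mk (Spec.map (CommRingCat.ofHom φ) ≫ k.str))),
          IsPullback a b f.hom ((AlgSp.yon S).map (Over.homMk (Spec.map (CommRingCat.ofHom φ)) rfl :
            Over.mk (Spec.map (CommRingCat.ofHom φ) ≫ k.str) ⟶ k.pt) ≫ k.toHom) →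
          AlgSp.EtaleLocally (fun U => IsReduced U) Xk',
      ∀ (k : AlgSp.FieldPt Y.obj), AlgSp.Points.mk k = y →
        ∀ (k' : Type u) [Field k'] (φ : k.K →+* k') (Xk' : AlgSp.Sp S) (a : Xk' ⟶ X.obj)
          (b : Xk' ⟶ (AlgSp.yon S).obj (Over.mk (Spec.map (CommRingCat.ofHom φ) ≫ k.str))),
          IsPullback a b f.hom ((AlgSp.yon S).map (Over.homMk (Spec.map (CommRingCat.ofHom φ)) rfl :
            Over.mk (Spec.map (CommRingCat.ofHom φ) ≫ k.str) ⟶ k.pt) ≫ k.toHom) →
          AlgSp.EtaleLocally (fun U => IsReduced U) Xk',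
      ∀ (k : AlgSp.FieldPt Y.obj), AlgSp.Points.mk k = y →
        ∀ (Xk : AlgSp.Sp S) (a : Xk ⟶ X.obj) (b : Xk ⟶ (AlgSp.yon S).obj k.pt), IsPullback a b f.hom k.toHom →
          AlgSp.EtaleLocally (fun U => IsReduced U) Xk].TFAE := by
  tfae_have 2 → 1 := by
    intro h
    obtain ⟨k, hk⟩ := AlgSp.Points.mk_surjective y
    exact ⟨k, hk, h k hk⟩
  tfae_have 3 → 2 := by
    intro h k hk k' _ φ Xk' a b sq
    let c : Over.mk (Spec.map (CommRingCat.ofHom φ) ≫ k.str) ⟶ k.pt :=
      Over.homMk (Spec.map (CommRingCat.ofHom φ)) rfl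
    let k'' : AlgSp.FieldPt Y.obj :=
      ⟨k', Spec.map (CommRingCat.ofHom φ) ≫ k.str, Y.obj.obj.map c.op k.val⟩
    have hk'' : k''.toHom = (AlgSp.yon S).map c ≫ k.toHom :=
      Groth.Agent.R2.H46.FinField.toHom_restrict k _ c
    have hrel : AlgSp.Points.mk k'' = y := by
      rw [← hk]
      refine AlgSp.Points.sound ⟨k', inferInstance, Spec.map (CommRingCat.ofHom φ) ≫ k.str,
        𝟙 _, c, ?_⟩
      simp [k'']
    exact h k'' hrel Xk' a b (by rw [hk'']; exact sq)
  tfae_have 1 → 3 := by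
    rintro ⟨k₀, hk₀, hGR⟩ k hk Xk a b sq
    have hrel : AlgSp.FieldPt.Rel k₀ k := AlgSp.Points.mk_eq_mk_iff.mp (hk₀.trans hk.symm)
    obtain ⟨Ω, _, w, α, β, hαβ⟩ := Groth.Agent.Lib.Helper9.SpPoint.rel_toHom hrel
    have hα : α = Over.homMk α.left (Over.w α) := by ext; rfl
    have sqΩ := IsPullback.of_hasPullback f.hom ((AlgSp.yon S).map α ≫ k₀.toHom)
    have hred : AlgSp.IsReducedSp (pullback f.hom ((AlgSp.yon S).map α ≫ k₀.toHom)) := by
      refine reduced_of_geomReduced f k₀ hGR Ω α.left w (Over.w α) _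
        (pullback.fst f.hom ((AlgSp.yon S).map α ≫ k₀.toHom))
        (pullback.snd f.hom ((AlgSp.yon S).map α ≫ k₀.toHom)) ?_
      rw [← hα]
      exact sqΩ
    have hXk : AlgSp.IsAlgSpace Xk :=
      Groth.Agent.S9874.isAlgSpace_of_isPullback Y.property.diag X.property
        (AlgSp.IsAlgSpace.yon_obj k.pt) sq
    have sqΩ2 : IsPullback (pullback.fst f.hom ((AlgSp.yon S).map α ≫ k₀.toHom))
        (pullback.snd f.hom ((AlgSp.yon S).map α ≫ k₀.toHom)) f.hom
        ((AlgSp.yon S).map β ≫ k.toHom) := by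
      rw [← hαβ]
      exact sqΩ
    have sqΩ' := IsPullback.of_right' sqΩ2 sq
    haveI : Flat β.left := flat_of_fields (K := Ω) (K₀ := k.K) β.left
    haveI : Surjective β.left := surjective_of_fields (K := Ω) (K₀ := k.K) β.left
    exact Groth.Agent.R2.H93.RedDesc.isReducedSp_of_isPullback_flat_surjective β hXk b _ _ sqΩ' hred
  tfae_have 2 → 3 := by
    intro h k hk Xk a b sq
    let c : Over.mk (Spec.map (CommRingCat.ofHom (RingHom.id k.K)) ≫ k.str) ⟶ k.pt :=
      Over.homMk (Spec.map (CommRingCat.ofHom (RingHom.id k.K))) rfl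
    haveI : IsIso c.left := by
      have : c.left = 𝟙 _ := by simp [c]
      rw [this]; infer_instance
    haveI : IsIso ((Over.forget S).map c) := ‹IsIso c.left›
    haveI : IsIso c := isIso_of_reflects_iso c (Over.forget S)
    refine h k hk k.K (RingHom.id k.K) Xk a (b ≫ inv ((AlgSp.yon S).map c)) ?_
    show IsPullback a (b ≫ inv ((AlgSp.yon S).map c)) f.hom ((AlgSp.yon S).map c ≫ k.toHom)
    refine IsPullback.of_iso sq (Iso.refl _) (Iso.refl _) (asIso ((AlgSp.yon S).map c)).symm
      (Iso.refl _) ?_ ?_ ?_ ?_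
    · simp only [Iso.refl_hom, Category.comp_id, Category.id_comp]
    · simp only [Iso.refl_hom, Category.id_comp, Iso.symm_hom, asIso_inv]
    · simp only [Iso.refl_hom, Category.comp_id, Category.id_comp]
    · simp only [Iso.refl_hom, Category.comp_id, Iso.symm_hom, asIso_inv, IsIso.inv_hom_id_assoc]
  tfae_finish

end Groth.Agent.S10686
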