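import Groth.Statements.S10687
import Groth.Agent.R2.H93GorChart
import Groth.Agent.R2.H45HasAtMor
import Groth.Agent.Lib.Helper5FiberMor

set_option autoImplicit false
set_option linter.style.haveILetI false
universe u
open CategoryTheory CategoryTheory.Limits AlgebraicGeometry
open AlgSp

namespace Groth.Agent.S10687

open Groth.Agent.R2.H45.HasAtMor Groth.Agent.R2.H93.GorSch Groth.Agent.R2.H93.GorChart

/-- For morphisms f : X ⟶ Y and g : Y ⟶ Z between algebraic spaces over S whose fibres, and those of f ≫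
g, are locally Noetherian, and a point x of |X|: (1) if g is Gorenstein at the image of x and f is
Gorenstein at x itself, then so is f ≫ g at x; (2) if f ≫ g is Gorenstein at x and f is flat there,
then f is Gorenstein at x and g at the image of x. Here f is Gorenstein at x when in every etale
chart diagram through x the top arrow is Gorenstein at the point over x (flat there, with Gorenstein
local ring of its fibre), and the fibres of a morphism are locally Noetherian when every fibre over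
a field point (pullback in fppf sheaves) is a locally Noetherian algebraic space. -/
theorem result {S : Scheme.{u}} {X Y Z : AlgSp.Space S} (f : X ⟶ Y) (g : Y ⟶ Z)
    (hf : ∀ (k : AlgSp.FieldPt Y.obj) (Xk : AlgSp.Sp S) (a : Xk ⟶ X.obj) (b : Xk ⟶ (AlgSp.yon S).obj k.pt),
        IsPullback a b f.hom k.toHom → AlgSp.IsLocNoethSp Xk)
    (hg : ∀ (k : AlgSp.FieldPt Z.obj) (Xk : AlgSp.Sp S) (a : Xk ⟶ Y.obj) (b : Xk ⟶ (AlgSp.yon S).obj k.pt),
        IsPullback a b g.hom k.toHom → AlgSp.IsLocNoethSp Xk)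
    (hfg : ∀ (k : AlgSp.FieldPt Z.obj) (Xk : AlgSp.Sp S) (a : Xk ⟶ X.obj) (b : Xk ⟶ (AlgSp.yon S).obj k.pt),
        IsPullback a b (f ≫ g).hom k.toHom → AlgSp.IsLocNoethSp Xk)
    (x : AlgSp.Points X.obj) :
    (AlgSp.LocPAt (fun h u => Dual3.IsGorensteinAt h u) f.hom x → AlgSp.LocPAt (fun h u => Dual3.IsGorensteinAt h u) g.hom (AlgSp.Points.map f.hom x) →
        AlgSp.LocPAt (fun h u => Dual3.IsGorensteinAt h u) (f ≫ g).hom x) ∧
      (AlgSp.LocPAt (fun h u => Dual3.IsGorensteinAt h u) (f ≫ g).hom x → AlgSp.IsFlatAtMor f.hom x →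
        AlgSp.LocPAt (fun h u => Dual3.IsGorensteinAt h u) f.hom x ∧ AlgSp.LocPAt (fun h u => Dual3.IsGorensteinAt h u) g.hom (AlgSp.Points.map f.hom x)) := by
  obtain ⟨U, V, W, a, b, c, h, k, u, ha, hb, hc, c1, c2, c3, hu, hu'⟩ :=
    exists_diagram_comp X.property Y.property Z.property f.hom g.hom x
  have hcomp : (f ≫ g).hom = f.hom ≫ g.hom := rfl
  haveI : IsLocallyNoetherian ((h.left ≫ k.left).fiber ((h.left ≫ k.left) u)) :=
    isLocallyNoetherian_fiber_of_chart X.property Z.property (f ≫ g).hom hfg a c (h ≫ k) ha hc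
      (by rw [hcomp]; exact c3) _
  haveI : IsLocallyNoetherian (k.left.fiber (k.left (h.left u))) :=
    isLocallyNoetherian_fiber_of_chart Y.property Z.property g.hom hg b c k hb hc c2 _
  have key := fun hfl => Groth.Agent.Lib.Helper5.FiberMor.comp_iff' h.left k.left u
      Groth.Agent.Lib.Helper5.FiberRing.flatLocalIff_gor
      Groth.Agent.Lib.Helper5.FiberMor.isoInv_gor hfl
  -- passing between all diagrams and one diagram
  have toAll : ∀ {F G : AlgSp.Space S} (φ : F ⟶ G) (y : AlgSp.Points F.obj),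
      AlgSp.HasAtMor (fun _ _ h u => Dual3.IsGorensteinAt h u) φ.hom y →
        AlgSp.LocPAt (fun h u => Dual3.IsGorensteinAt h u) φ.hom y := by
    intro F G φ y hy T T' α β γ t hα hβ hc ht
    exact (hasAtMor_iff_forall_diagram etSqInv_gorAt F.property G.property φ.hom y).1 hy
      T T' α β γ t hα hβ hc ht
  refine ⟨fun H1 H2 => toAll (f ≫ g) x ?_, fun H Hfl => ?_⟩
  · obtain ⟨hf1, hf2⟩ : Dual3.IsGorensteinAt h.left u := H1 a b h u ha hb c1 hu
    obtain ⟨hg1, hg2⟩ : Dual3.IsGorensteinAt k.left (h.left u) := H2 b c k (h.left u) hb hc c2 hu'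
    refine ⟨U, W, a, c, h ≫ k, u, ha, hc, by rw [hcomp]; exact c3, hu, ?_⟩
    exact ⟨Groth.Agent.Lib.Helper5.FiberMor.flat_comp h.left k.left u hf1 hg1,
      (key hf1).mpr ⟨hg2, hf2⟩⟩
  · obtain ⟨h1, h2⟩ : Dual3.IsGorensteinAt (h.left ≫ k.left) u :=
      H a c (h ≫ k) u ha hc (by rw [hcomp]; exact c3) hu
    have hfl : (h.left.stalkMap u).hom.Flat := Hfl a b h u ha hb c1 hu
    obtain ⟨k1, k2⟩ := (key hfl).mp h2
    exact ⟨toAll f x ⟨U, V, a, b, h, u, ha, hb, c1, hu, ⟨hfl, k2⟩⟩,
      toAll g _ ⟨V, W, b, c, k, h.left u, hb, hc, c2, hu',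
        ⟨Groth.Agent.Lib.Helper5.FiberMor.flat_of_comp h.left k.left u h1 hfl, k1⟩⟩⟩

end Groth.Agent.S10687
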