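import Groth.Statements.S10688
import Groth.Agent.R2.H93GorChart
import Groth.Agent.R2.H45HasAtMor
import Groth.Agent.Lib.Helper5FiberBC

set_option autoImplicit false
set_option linter.style.haveILetI false
universe u
open CategoryTheory CategoryTheory.Limits AlgebraicGeometry
open AlgSp

namespace Groth.Agent.S10688

open Groth.Agent.R2.H45.HasAtMor Groth.Agent.R2.H93.GorSch Groth.Agent.R2.H93.GorChart

/-- For a morphism f : X ⟶ Y between algebraic spaces over S with locally Noetherian fibres, g : Y' ⟶ Y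
locally of finite type, f' : X' ⟶ Y' the base change (a pullback square of algebraic spaces) with
projection g' : X' ⟶ X, and x' a point of |X'| with image x: (1) if f is Gorenstein at x then so is
f' at x'; (2) when f is flat at x, Gorensteinness of f' at x' implies that of f at x; (3) the same
conclusion holds if instead g is flat at the image of x' and f' is Gorenstein at x'. Here f is
Gorenstein at x when in every etale chart diagram through x the top arrow is Gorenstein at the point
over x (flat there, with Gorenstein local ring of its fibre), and the fibres of a morphism are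
locally Noetherian when every fibre over a field point (pullback in fppf sheaves) is a locally
Noetherian algebraic space. -/
theorem result {S : Scheme.{u}} {X Y X' Y' : AlgSp.Space S} (f : X ⟶ Y) (g : Y' ⟶ Y) (g' : X' ⟶ X) (f' : X' ⟶ Y')
    (hsq : IsPullback g'.hom f'.hom f.hom g.hom)
    (hf : ∀ (k : AlgSp.FieldPt Y.obj) (Xk : AlgSp.Sp S) (a : Xk ⟶ X.obj) (b : Xk ⟶ (AlgSp.yon S).obj k.pt),
        IsPullback a b f.hom k.toHom → AlgSp.IsLocNoethSp Xk)
    (hg : AlgSp.LocP @LocallyOfFiniteType g.hom) (x' : AlgSp.Points X'.obj) :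
    (AlgSp.LocPAt (fun h u => Dual3.IsGorensteinAt h u) f.hom (AlgSp.Points.map g'.hom x') → AlgSp.LocPAt (fun h u => Dual3.IsGorensteinAt h u) f'.hom x') ∧
      (AlgSp.IsFlatAtMor f.hom (AlgSp.Points.map g'.hom x') → AlgSp.LocPAt (fun h u => Dual3.IsGorensteinAt h u) f'.hom x' →
        AlgSp.LocPAt (fun h u => Dual3.IsGorensteinAt h u) f.hom (AlgSp.Points.map g'.hom x')) ∧
      (AlgSp.IsFlatAtMor g.hom (AlgSp.Points.map f'.hom x') → AlgSp.LocPAt (fun h u => Dual3.IsGorensteinAt h u) f'.hom x' →
        AlgSp.LocPAt (fun h u => Dual3.IsGorensteinAt h u) f.hom (AlgSp.Points.map g'.hom x')) := by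
  obtain ⟨U, V, V', W, a, b, b', h, κ, p1, p2, a', w, ha, hb, hb', ha', c1, c2, c3, c4, sq, hw, hw'⟩ :=
    exists_baseChange_diagram_through X.property Y.property Y'.property hsq x'
  haveI : LocallyOfFiniteType κ.left := hg b' b κ hb' hb c2
  haveI : IsLocallyNoetherian (h.left.fiber (h.left (p1.left w))) :=
    isLocallyNoetherian_fiber_of_chart X.property Y.property f.hom hf a b h ha hb c1 _
  have key := Groth.Agent.Lib.Helper5.FiberBC.fiber_stalk_baseChange_iff
    Groth.Agent.Lib.Helper5.FiberRing.flatLocalIff_gor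
    Groth.Agent.Lib.Helper5.FiberMor.isoInv_gor
    Groth.Agent.Lib.Helper5.FiberBC.fieldFibP_gor sq w (Or.inr inferInstance)
  -- passing between all diagrams and one diagram
  have toAll : ∀ {F G : AlgSp.Space S} (φ : F ⟶ G) (y : AlgSp.Points F.obj),
      AlgSp.HasAtMor (fun _ _ h u => Dual3.IsGorensteinAt h u) φ.hom y →
        AlgSp.LocPAt (fun h u => Dual3.IsGorensteinAt h u) φ.hom y := by
    intro F G φ y hy T T' α β γ t hα hβ hc ht
    exact (hasAtMor_iff_forall_diagram etSqInv_gorAt F.property G.property φ.hom y).1 hy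
      T T' α β γ t hα hβ hc ht
  have hpt' : AlgSp.Points.ofPt b' (p2.left w) = AlgSp.Points.map f'.hom x' := by
    rw [← hw, AlgSp.Points.map_ofPt, c3, Groth.Agent.S10176.ofPt_map_comp]
  refine ⟨fun H => toAll f' x' ?_, fun Hfl H => toAll f _ ?_, fun Hfl H => toAll f _ ?_⟩
  · obtain ⟨h1, h2⟩ : Dual3.IsGorensteinAt h.left (p1.left w) := H a b h (p1.left w) ha hb c1 hw'
    exact ⟨W, V', a', b', p2, w, ha', hb', c3, hw,
      ⟨Groth.Agent.Lib.Helper5.FiberBC.flat_stalkMap_of_isPullback sq w h1, key.mpr h2⟩⟩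
  · obtain ⟨-, h2⟩ : Dual3.IsGorensteinAt p2.left w := H a' b' p2 w ha' hb' c3 hw
    have hfl : (h.left.stalkMap (p1.left w)).hom.Flat := Hfl a b h (p1.left w) ha hb c1 hw'
    exact ⟨U, V, a, b, h, p1.left w, ha, hb, c1, hw', ⟨hfl, key.mp h2⟩⟩
  · obtain ⟨h1, h2⟩ : Dual3.IsGorensteinAt p2.left w := H a' b' p2 w ha' hb' c3 hw
    have hfl : (κ.left.stalkMap (p2.left w)).hom.Flat := Hfl b' b κ (p2.left w) hb' hb c2 hpt'
    exact ⟨U, V, a, b, h, p1.left w, ha, hb, c1, hw',
      ⟨Groth.Agent.Lib.Helper5.FiberBC.flat_stalkMap_of_isPullback_of_flat sq w h1 hfl, key.mp h2⟩⟩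

end Groth.Agent.S10688
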