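import Groth.Statements.S10690
import Groth.Agent.R2.H93FibChart
import Groth.Agent.R2.H93GorChart
import Groth.Agent.R2.H93GorSpace
import Groth.Agent.R2.H45HasAtMor
import Groth.Agent.Lib.Helper5FiberBC

set_option autoImplicit false
set_option linter.style.haveILetI false
universe u
open CategoryTheory CategoryTheory.Limits AlgebraicGeometry
open AlgSp

namespace Groth.Agent.S10690

open Groth.Agent.R2.H45.HasAt Groth.Agent.R2.H45.HasAtMor Groth.Agent.R2.H93.GorSch
  Groth.Agent.R2.H93.GorChart Groth.Agent.R2.H93.GorSpace Groth.Agent.R2.H93.FibChart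

/-- For a morphism f : X ⟶ Y between algebraic spaces over S whose fibres are locally Noetherian, the
following are equivalent: (1) f is Gorenstein at every point of |X|; (2) f is flat and for some
scheme V with a representable etale surjective b : h_V ⟶ Y every fibre of X ×_Y V ⟶ V over a point v
of V (pullback along the residue field point of v) is a Gorenstein algebraic space (some etale
surjective scheme chart is a Gorenstein scheme); (3) f is flat and the same holds for every scheme V
with a representable etale b : h_V ⟶ Y. Here f is Gorenstein at x when in every etale chart diagram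
through x the top arrow is Gorenstein at the point over x (flat there, with Gorenstein local ring of
its fibre), and the fibres of a morphism are locally Noetherian when every fibre over a field point
(pullback in fppf sheaves) is a locally Noetherian algebraic space. (The published statement also
characterises being Gorenstein at a single point through strict henselizations; that part is stated
separately and not included here.) -/
theorem result {S : Scheme.{u}} {X Y : AlgSp.Space S} (f : X ⟶ Y)
    (hf : ∀ (k : AlgSp.FieldPt Y.obj) (Xk : AlgSp.Sp S) (a : Xk ⟶ X.obj) (b : Xk ⟶ (AlgSp.yon S).obj k.pt),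
        IsPullback a b f.hom k.toHom → AlgSp.IsLocNoethSp Xk) :
    [∀ x : AlgSp.Points X.obj, AlgSp.LocPAt (fun h u => Dual3.IsGorensteinAt h u) f.hom x,
      AlgSp.LocP @Flat f.hom ∧ ∃ (V : Over S) (b : (AlgSp.yon S).obj V ⟶ Y.obj),
        AlgSp.RepWith @Etale b ∧ AlgSp.RepWith @Surjective b ∧
          ∀ (v : ↥V.left) (Xv : AlgSp.Sp S) (a : Xv ⟶ X.obj)
            (c : Xv ⟶ (AlgSp.yon S).obj (Over.mk (V.left.fromSpecResidueField v ≫ V.hom))),
            IsPullback a c f.hom ((AlgSp.yon S).map (Over.homMk (V.left.fromSpecResidueField v) rfl :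
              Over.mk (V.left.fromSpecResidueField v ≫ V.hom) ⟶ V) ≫ b) →
            AlgSp.EtaleLocally Dual3.IsGorenstein Xv,
      AlgSp.LocP @Flat f.hom ∧ ∀ (V : Over S) (b : (AlgSp.yon S).obj V ⟶ Y.obj), AlgSp.RepWith @Etale b →
          ∀ (v : ↥V.left) (Xv : AlgSp.Sp S) (a : Xv ⟶ X.obj)
            (c : Xv ⟶ (AlgSp.yon S).obj (Over.mk (V.left.fromSpecResidueField v ≫ V.hom))),
            IsPullback a c f.hom ((AlgSp.yon S).map (Over.homMk (V.left.fromSpecResidueField v) rfl :
              Over.mk (V.left.fromSpecResidueField v ≫ V.hom) ⟶ V) ≫ b) →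
            AlgSp.EtaleLocally Dual3.IsGorenstein Xv].TFAE := by
  tfae_have 3 → 2 := by
    rintro ⟨hfl, H⟩
    obtain ⟨V, b, hbe, hbs⟩ := Y.property.atlas
    exact ⟨hfl, V, b, hbe, hbs, H V b hbe⟩
  tfae_have 2 → 1 := by
    rintro ⟨hfl, V, b, hbe, hbs, H⟩ x
    have toAll : AlgSp.HasAtMor (fun _ _ h u => Dual3.IsGorensteinAt h u) f.hom x →
        AlgSp.LocPAt (fun h u => Dual3.IsGorensteinAt h u) f.hom x := by
      intro hy T T' α β γ t hα hβ hc ht
      exact (hasAtMor_iff_forall_diagram etSqInv_gorAt X.property Y.property f.hom x).1 hy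
        T T' α β γ t hα hβ hc ht
    apply toAll
    obtain ⟨v, hv⟩ := Groth.Agent.S10177.surjective_ofPt b hbs (AlgSp.Points.map f.hom x)
    obtain ⟨U0, a0, u0, ha0, -, hu0⟩ := exists_chart X.property x
    obtain ⟨W, p, h, w, hp, hw, hhw, comm, hpa, hpt⟩ :=
      exists_diagram_through f.hom a0 b ha0 hbe u0 v (by rw [hu0, hv])
    refine ⟨W, V, _, b, h, w, hpa, hbe, comm, hpt.trans hu0, ?_⟩
    haveI : Flat h.left := hfl _ b h hpa hbe comm
    refine ⟨Flat.stalkMap h.left w, ?_⟩
    have sqv := IsPullback.of_hasPullback f.hom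
      ((AlgSp.yon S).map (ptHom V (h.left w)) ≫ b)
    have hG := H (h.left w) _ _ _ sqv
    obtain ⟨ι, hι, -⟩ := exists_etale_fiber_chart X.property Y.property f.hom _ b h hpa hbe comm
      (h.left w) _ _ sqv
    exact gor_stalk_of_chart hG ι hι (h.left.asFiber w)
  tfae_have 1 → 3 := by
    intro H
    have hfl : AlgSp.LocP @Flat f.hom := by
      intro U V a b h ha hb c
      rw [Flat.iff_flat_stalkMap]
      intro u
      exact (H _ a b h u ha hb c rfl).1
    refine ⟨hfl, fun V b hb v Xv a₁ c₁ sq => ?_⟩
    -- an atlas of `X ×_Y V`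
    have sqW := IsPullback.of_hasPullback f.hom b
    have hW : AlgSp.IsAlgSpace (pullback f.hom b) :=
      Groth.Agent.S9874.isAlgSpace_of_isPullback Y.property.diag X.property
        (AlgSp.IsAlgSpace.yon_obj V) sqW
    obtain ⟨U, e, hee, hes⟩ := hW.atlas
    obtain ⟨h, hh⟩ := (AlgSp.yon S).map_surjective (e ≫ pullback.snd f.hom b)
    have hwX : AlgSp.RepWith @Etale (pullback.fst f.hom b) :=
      MorphismProperty.of_isPullback (P := AlgSp.RepWith @Etale) sqW.flip hb
    have ha : AlgSp.RepWith @Etale (e ≫ pullback.fst f.hom b) :=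
      (AlgSp.repWith_isMultiplicative (S := S) @Etale).comp_mem _ _ hee hwX
    have comm : (e ≫ pullback.fst f.hom b) ≫ f.hom = (AlgSp.yon S).map h ≫ b := by
      rw [Category.assoc, pullback.condition, ← Category.assoc, hh]
    have hlift : pullback.lift (e ≫ pullback.fst f.hom b) ((AlgSp.yon S).map h) comm = e := by
      apply pullback.hom_ext
      · rw [pullback.lift_fst]
      · rw [pullback.lift_snd, hh]
    obtain ⟨ι, hι, hιs⟩ := exists_etale_fiber_chart X.property Y.property f.hom _ b h ha hb comm
      v a₁ c₁ sq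
    refine ⟨fibOver h v, ι, hι, hιs (by rw [hlift]; exact hes), ?_, ?_⟩
    · exact isLocallyNoetherian_fiber_of_chart X.property Y.property f.hom hf _ b h ha hb comm v
    · intro z
      have hz : h.left (h.left.fiberι v z) = v := by
        have : h.left.fiberι v z ∈ Set.range (h.left.fiberι v) := ⟨z, rfl⟩
        rw [Scheme.Hom.range_fiberι] at this
        exact this
      have hG : Dual3.IsGorensteinAt h.left (h.left.fiberι v z) :=
        H _ _ b h (h.left.fiberι v z) ha hb comm rfl
      obtain ⟨e'⟩ := Groth.Agent.Lib.Helper5.FiberBC.fiber_stalk_transport h.left hz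
        (h.left.asFiber (h.left.fiberι v z)) z (h.left.fiberι_asFiber _)
      exact Groth.Agent.Lib.Helper5.FiberMor.isoInv_gor _ _ e' hG.2
  tfae_finish

end Groth.Agent.S10690
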