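import Groth.Statements.S10691
import Groth.Agent.R2.H93GorSpace
import Groth.Agent.R2.H45HasAt
import Groth.Agent.Lib.Helper12FibreSpec

set_option autoImplicit false
set_option linter.style.haveILetI false
universe u
open CategoryTheory CategoryTheory.Limits AlgebraicGeometry
open AlgSp

namespace Groth.Agent.S10691

open Groth.Agent.R2.H45.HasAt Groth.Agent.R2.H93.GorSpace

/-- the pointwise form of "flat from Gorenstein": on a chart diagram with Gorenstein source local
ring and locally Noetherian charts, the top arrow is Gorenstein at the point and the target local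
ring is Gorenstein. -/
lemma gorAt_of_flat {U V : Scheme.{u}} [IsLocallyNoetherian U] [IsLocallyNoetherian V] (h : U ⟶ V)
    [Flat h] (u : U) (hu : LocCoh.IsGorensteinLocalRing (U.presheaf.stalk u)) :
    Dual3.IsGorensteinAt h u ∧ LocCoh.IsGorensteinLocalRing (V.presheaf.stalk (h u)) := by
  have hfl := AlgebraicGeometry.Flat.stalkMap h u
  have hh := (Groth.Agent.Lib.Helper5.FiberMor.flat_iff h u
    Groth.Agent.Lib.Helper5.FiberRing.flatLocalIff_gor
    Groth.Agent.Lib.Helper5.FiberMor.isoInv_gor hfl).mp hu
  exact ⟨⟨hfl, hh.2⟩, hh.1⟩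

/-- For locally Noetherian algebraic spaces X, Y over S and a flat morphism f : X ⟶ Y, with X Gorenstein
(some etale surjective scheme chart is a Gorenstein scheme): f is Gorenstein at every point of |X|,
and for every point x of |X| the etale local ring of Y at a geometric point over f(x), presented as
a strict henselization R of the local ring of an etale scheme chart V of Y at a point v over f(x),
is a Gorenstein local ring. Here f is Gorenstein at x when in every etale chart diagram through x
the top arrow is Gorenstein at the point over x (flat there, with Gorenstein local ring of its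
fibre), and the fibres of a morphism are locally Noetherian when every fibre over a field point
(pullback in fppf sheaves) is a locally Noetherian algebraic space. -/
theorem result {S : Scheme.{u}} {X Y : AlgSp.Space S} (f : X ⟶ Y) (hf : AlgSp.LocP @Flat f.hom)
    (hX1 : AlgSp.IsLocNoethSp X.obj) (hY1 : AlgSp.IsLocNoethSp Y.obj)
    (hX2 : AlgSp.EtaleLocally Dual3.IsGorenstein X.obj) :
    (∀ x : AlgSp.Points X.obj, AlgSp.LocPAt (fun h u => Dual3.IsGorensteinAt h u) f.hom x) ∧
      ∀ (x : AlgSp.Points X.obj) (V : Over S) (b : (AlgSp.yon S).obj V ⟶ Y.obj), AlgSp.RepWith @Etale b →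
        ∀ (v : ↥V.left), AlgSp.Points.ofPt b v = AlgSp.Points.map f.hom x →
          ∀ (R : Type u) [CommRing R] [IsLocalRing R] [Algebra ↥(V.left.presheaf.stalk v) R]
            [IsLocalHom (algebraMap ↥(V.left.presheaf.stalk v) R)]
            [Hensel.IsStrictHenselization ↥(V.left.presheaf.stalk v) R],
            LocCoh.IsGorensteinLocalRing R := by
  have main : ∀ {U V : Over S} (a : (AlgSp.yon S).obj U ⟶ X.obj) (b : (AlgSp.yon S).obj V ⟶ Y.obj)
      (h : U ⟶ V) (u : ↥U.left), AlgSp.RepWith @Etale a → AlgSp.RepWith @Etale b →
      a ≫ f.hom = (AlgSp.yon S).map h ≫ b →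
      Dual3.IsGorensteinAt h.left u ∧
        LocCoh.IsGorensteinLocalRing (V.left.presheaf.stalk (h.left u)) := by
    intro U V a b h u ha hb c
    haveI : IsLocallyNoetherian U.left :=
      Groth.Agent.Lib.Helper12.FibreSpec.isLocallyNoetherian_of_chart hX1 a ha
    haveI : IsLocallyNoetherian V.left :=
      Groth.Agent.Lib.Helper12.FibreSpec.isLocallyNoetherian_of_chart hY1 b hb
    haveI : Flat h.left := hf a b h ha hb c
    exact gorAt_of_flat h.left u (gor_stalk_of_chart hX2 a ha u)
  refine ⟨fun x U V a b h u ha hb c _ => (main a b h u ha hb c).1, ?_⟩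
  intro x V b hb v hv R _ _ _ _ _
  obtain ⟨U0, a0, u0, ha0, -, hu0⟩ := exists_chart X.property x
  obtain ⟨W, p, h, w, hp, hw, hhw, comm, hpa, hpt⟩ :=
    exists_diagram_through f.hom a0 b ha0 hb u0 v (by rw [hu0, hv])
  subst hhw
  exact gor_of_isStrictHenselization _ R (main _ b h w hpa hb comm).2

end Groth.Agent.S10691
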