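import Groth.Statements.S10695
import Groth.Agent.R2.H83ElemDist

set_option autoImplicit false
universe u
open CategoryTheory CategoryTheory.Limits AlgebraicGeometry
open AlgSp

namespace Groth.Agent.S10695

/-- Suppose `(U ⊂ W, f : V → W)`, a square of algebraic spaces over `S`, is elementary distinguished
(`j` an open immersion, `f` etale and an isomorphism over the reduced closed complement of `U`) and
let `P` with its two projections be a fibre product `U ×_W V`. Then `W` is the pushout of `U` and
`V` along `P` among algebraic spaces over `S`. -/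
theorem result {S : Scheme.{u}} {U V W P : AlgSp.Space S} (j : U ⟶ W) (f : V ⟶ W)
    (hsq : AlgSp.IsElemDistSq j.hom f.hom) (p : P ⟶ U) (q : P ⟶ V)
    (hP : IsPullback p.hom q.hom j.hom f.hom) : IsPushout p q j f := by
  have w : p ≫ j = q ≫ f := ObjectProperty.hom_ext _ hP.w
  have hex : ∀ s : PushoutCocone p q, ∃ c : W.obj ⟶ s.pt.obj,
      j.hom ≫ c = s.inl.hom ∧ f.hom ≫ c = s.inr.hom := fun s =>
    Groth.Agent.R2.H83.ElemDist.exists_desc V.property hsq hP s.inl.hom s.inr.hom
      (congrArg (fun m => m.hom) s.condition)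
  choose c hc1 hc2 using hex
  refine ⟨⟨w⟩, ⟨PushoutCocone.IsColimit.mk _ (fun s => ObjectProperty.homMk (c s))
    (fun s => ObjectProperty.hom_ext _ (hc1 s)) (fun s => ObjectProperty.hom_ext _ (hc2 s)) ?_⟩⟩
  intro s m h1 h2
  apply ObjectProperty.hom_ext
  exact Groth.Agent.R2.H83.ElemDist.hom_ext V.property hsq m.hom (c s)
    ((congrArg (fun m => m.hom) h1).trans (hc1 s).symm)
    ((congrArg (fun m => m.hom) h2).trans (hc2 s).symm)

end Groth.Agent.S10695
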