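import Groth.Statements.S1071
import Groth.Agent.R2.H82KoszulPn2

set_option autoImplicit false
universe u
open CategoryTheory CategoryTheory.Limits AlgebraicGeometry
open Perf

namespace Groth.Agent.S1071

/-- Let A be a ring, X = P^n_A and a ∈ ℤ. There is a cochain complex of O_X-modules, exact in every
degree, whose term in degree i is isomorphic to the direct sum of (n+1 choose i) copies of O_X(a +
i) for 0 ≤ i ≤ n + 1 and is zero in all other degrees. -/
theorem result (n : ℕ) (A : Type u) [CommRing A] (a : ℤ) :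
    ∃ C : CochainComplex (CohB1.ProjSpace n A).Modules ℤ, (∀ i : ℤ, C.ExactAt i) ∧
      (∀ i : ℕ, i ≤ n + 1 → Nonempty (C.X (i : ℤ) ≅ ∐ fun _ : Fin (Nat.choose (n + 1) i) => Twist.twistProjSpace n A (a + i))) ∧
      (∀ i : ℤ, i < 0 ∨ (n : ℤ) + 1 < i → IsZero (C.X i)) := by
  refine ⟨Groth.Agent.R2.H82.KoszulPn.kosPn n A (𝟭 _) a,
    Groth.Agent.R2.H82.KoszulPn.acyclic_kosPn n A (𝟭 _)
      (Groth.Agent.R2.H82.KoszulPn.preservesStalkIso_id n A) a, fun i hi => ?_, fun i hi => ?_⟩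
  · exact (Groth.Agent.R2.H82.KoszulPn.isSum_kosPn_X n A (𝟭 _) a (i : ℤ)).congr rfl
      (Groth.Agent.R2.H82.KoszulPn.cnt_of_le n i hi)
  · exact ((Groth.Agent.R2.H82.KoszulPn.isSum_kosPn_X n A (𝟭 _) a i).congr rfl
      (Groth.Agent.R2.H82.KoszulPn.cnt_of_out n i hi)).isZero

end Groth.Agent.S1071
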