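import Groth.Statements.S10792
import Groth.Agent.R2.H48CartierChart
import Groth.Agent.S10177

set_option autoImplicit false
set_option backward.isDefEq.respectTransparency false
universe u
open CategoryTheory CategoryTheory.Limits AlgebraicGeometry Topology TopologicalSpace
open AlgSp

namespace Groth.Agent.S10792

open Groth.Agent.R2.H48.Chart Groth.Agent.R2.H48.CartierDescent Groth.Agent.R2.H48.CartierChart

/-- an ideal sheaf on an affine scheme whose global ideal is generated by a nonzerodivisor is effective Cartier. -/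
lemma isEffCartierIdeal_of_top {U : Scheme.{u}} [IsAffine U] (I : U.IdealSheafData) (f : Γ(U, ⊤))
    (hf : f ∈ nonZeroDivisors Γ(U, ⊤)) (hI : I.ideal ⟨⊤, isAffineOpen_top U⟩ = Ideal.span {f}) :
    BlowUp.IsEffCartierIdeal I :=
  fun _ => ⟨⟨⊤, isAffineOpen_top U⟩, trivial, f, hf, hI⟩

/-- (2) ⇔ (4): let X be an algebraic space over a scheme S and D ⟶ X a closed subspace (representable by
closed immersions). Then D is an effective Cartier divisor in the one-chart sense if and only if for
every point x of |D| there are an affine scheme U over S, a representable etale h_U ⟶ X, a point u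
of U mapping to the image of x in |X|, and a nonzerodivisor f of the ring A of global functions of U
such that the inverse image of D in U is the closed subscheme Spec (A/(f)), that is, the closed
subscheme of the quasi-coherent ideal sheaf of U whose ideal of global sections is generated by f. -/
theorem result {S : Scheme.{u}} (X D : AlgSp.Space S) (i : D ⟶ X)
    (hi : AlgSp.RepWith @IsClosedImmersion i.hom) :
    AlgSp.IsEffCartierSub i.hom ↔
      ∀ x : AlgSp.Points D.obj,
        ∃ (U : Over S) (_ : IsAffine U.left) (a : (AlgSp.yon S).obj U ⟶ X.obj) (u : ↥U.left)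
          (f : Γ(U.left, ⊤)) (I : U.left.IdealSheafData)
          (fst : (AlgSp.yon S).obj (Over.mk (I.subschemeι ≫ U.hom)) ⟶ D.obj),
          AlgSp.RepWith @Etale a ∧ AlgSp.Points.ofPt a u = AlgSp.Points.map i.hom x ∧
            f ∈ nonZeroDivisors Γ(U.left, ⊤) ∧
            I.ideal ⟨⊤, isAffineOpen_top U.left⟩ = Ideal.span {f} ∧
            IsPullback fst ((AlgSp.yon S).map (Over.homMk I.subschemeι rfl : Over.mk (I.subschemeι ≫ U.hom) ⟶ U)) i.hom a := by
  constructor
  · rintro ⟨-, V, φ, I, fst₀, hφe, hφs, sq, hI⟩ x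
    obtain ⟨v, hv⟩ := Groth.Agent.S10177.surjective_ofPt φ hφs (AlgSp.Points.map i.hom x)
    obtain ⟨V', hvV', f, hf, hIf⟩ := hI v
    let U : Over S := Over.mk (V'.1.ι ≫ V.hom)
    let α : U ⟶ V := Over.homMk V'.1.ι rfl
    haveI hUaff : IsAffine U.left := V'.2
    let e : Γ(V.left, V'.1) ≅ Γ(U.left, ⊤) := asIso (V'.1.ι.appLE V'.1 ⊤ V'.1.ι_preimage_self.ge)
    have hae : AlgSp.RepWith @Etale ((AlgSp.yon S).map α ≫ φ) :=
      (AlgSp.RepWith @Etale).comp_mem _ _
        ((AlgSp.repWith_yon_map_iff _ _).2 (inferInstanceAs (Etale V'.1.ι))) hφe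
    refine ⟨U, hUaff, (AlgSp.yon S).map α ≫ φ, ⟨v, hvV'⟩, e.hom.hom f, I.comap V'.1.ι,
      (AlgSp.yon S).map (comapSubMap α I) ≫ fst₀, hae, ?_, ?_, ?_, isPullback_chart_comap sq α⟩
    · rw [Groth.Agent.S10176.ofPt_map_comp]
      exact hv
    · have := MulEquivClass.map_nonZeroDivisors e.commRingCatIsoToRingEquiv
      rw [← this]
      exact Submonoid.mem_map_of_mem _ hf
    · have h1 := Groth.Agent.Lib.Helper20.EffCartier.ideal_comap_eq_map V'.1.ι I
        (isAffineOpen_top U.left) V'.2 V'.1.ι_preimage_self.ge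
      have hIf' : I.ideal ⟨V'.1, V'.2⟩ = Ideal.span {f} := hIf
      rw [hIf', Ideal.map_span, Set.image_singleton] at h1
      exact h1
  · intro h
    obtain ⟨V, φ, hφe, hφs⟩ := X.property.atlas
    obtain ⟨I₀, fst₀, sq₀⟩ := exists_ideal_chart hi φ
    refine ⟨hi, V, φ, I₀, fst₀, hφe, hφs, sq₀, ?_⟩
    intro v
    by_cases hv : v ∈ I₀.support
    · -- `v` comes from a point `z` of the closed subscheme
      have hv' : v ∈ Set.range I₀.subschemeι := by
        rw [Scheme.IdealSheafData.range_subschemeι]; exact hv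
      obtain ⟨z, rfl⟩ := hv'
      obtain ⟨U, hUaff, a, u, f, I', fst, hae, hu, hf, hI', sq'⟩ :=
        h (AlgSp.Points.ofPt fst₀ z)
      have hI'c : BlowUp.IsEffCartierIdeal I' := isEffCartierIdeal_of_top I' f hf hI'
      refine isEffCartierAt_of_charts hφe hae sq₀ sq' hI'c _ u ?_
      rw [hu, AlgSp.Points.map_ofPt, sq₀.w, Groth.Agent.S10176.ofPt_map_comp]
      rfl
    · exact isEffCartierAt_of_notMem_support I₀ v hv

end Groth.Agent.S10792
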