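import Groth.Statements.S10793
import Groth.Agent.R2.H48OpenCompl

set_option autoImplicit false
set_option backward.isDefEq.respectTransparency false
universe u
open CategoryTheory CategoryTheory.Limits AlgebraicGeometry Topology TopologicalSpace
open AlgSp

namespace Groth.Agent.S10793

open Groth.Agent.R2.H48.OpenCompl

/-- For an algebraic space X over a scheme S, an effective Cartier divisor D ⟶ X (in the one-chart
sense) and the open subspace U ⟶ X complementary to D, that is, a morphism representable by open
immersions whose image in |X| is the complement of the image of |D|: the inclusion of U in X is an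
affine morphism, and in the scheme-theoretic sense (one-chart form) U is dense in X. -/
theorem result {S : Scheme.{u}} (X D U : AlgSp.Space S)
    (i : D ⟶ X) (hD : AlgSp.IsEffCartierSub i.hom) (j : U ⟶ X) (hj : AlgSp.RepWith @IsOpenImmersion j.hom)
    (hU : Set.range (AlgSp.Points.map j.hom) = (Set.range (AlgSp.Points.map i.hom))ᶜ) :
    AlgSp.IsAffineMor j.hom ∧ AlgSp.IsSchDense j.hom := by
  obtain ⟨hi, V, φ, I, fst₀, hφe, hφs, sq, hI⟩ := hD
  have hcmpl : ∀ v : ↥V.left, v ∈ cmpl I ↔
      AlgSp.Points.ofPt φ v ∈ Set.range (AlgSp.Points.map j.hom) := by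
    intro v
    rw [mem_cmpl_iff, hU, Set.mem_compl_iff, ← mem_range_iff_of_isPullback sq v]
    show v ∉ I.support ↔ v ∉ Set.range I.subschemeι
    rw [Scheme.IdealSheafData.range_subschemeι]
    rfl
  have hIlp : Curv2.IsLocPrincipal I := by
    intro x _
    obtain ⟨W, hxW, f, -, hf⟩ := hI x
    exact ⟨W, hxW, f, hf⟩
  refine ⟨isAffineMor_of_chart hj hφe hφs (cmpl I) hcmpl (isAffineHom_cmpl_ι I hIlp), hj, ?_⟩
  obtain ⟨W, fst, sqW, hW⟩ := exists_open_chart hj φ
  have hWeq : W = cmpl I := by
    ext v
    exact (hW v).trans (hcmpl v).symm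
  subst hWeq
  exact ⟨V, φ, cmpl I, fst, hφe, hφs, sqW, isSchematicallyDense_cmpl I hI⟩

end Groth.Agent.S10793
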