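import Groth.Statements.S10794
import Groth.Agent.R2.H48Chart
import Groth.Agent.S10175
import Groth.Agent.S10855
import Groth.Agent.Lib.Helper6CartDim
import Groth.Agent.Lib.Helper6EtDim
import Groth.Agent.Lib.Helper9SpPoint5

set_option autoImplicit false
universe u
open CategoryTheory CategoryTheory.Limits AlgebraicGeometry
open AlgSp

namespace Groth.Agent.S10794

open Groth.Agent.R2.H48.Chart

/-- Let X be an algebraic space over a scheme S, D ⟶ X an effective Cartier divisor (one-chart sense)
and x a point of |D|. If the dimension of X at the image of x is d, in the sense that some etale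
scheme chart of X has local dimension d at a point over it, and d is finite, then the dimension of D
at x is strictly smaller: some etale scheme chart of D has local dimension less than d at a point
over x. -/
theorem result {S : Scheme.{u}} (X D : AlgSp.Space S) (i : D ⟶ X)
    (hD : AlgSp.IsEffCartierSub i.hom) (x : AlgSp.Points D.obj) (d : WithBot ℕ∞)
    (hd : AlgSp.HasAt (fun U u => FlatMor.localDim ↥U u = d) X.obj (AlgSp.Points.map i.hom x)) (hfin : d ≠ ⊤) :
    AlgSp.HasAt (fun V v => FlatMor.localDim ↥V v < d) D.obj x := by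
  obtain ⟨hi, V, φ, I, fst₀, hφe, hφs, hsq, hI⟩ := hD
  obtain ⟨U, a, u, hae, hau, hdim⟩ := hd
  obtain ⟨W, w₁, w₂', sqW⟩ := hφe.1 a
  obtain ⟨w₂, rfl⟩ := (AlgSp.yon S).map_surjective w₂'
  haveI : Etale w₁.left := hφe.2 _ _ w₁ sqW
  haveI : Surjective w₁.left := hφs.2 _ _ w₁ sqW
  haveI : Etale w₂.left := hae.2 _ _ w₂ sqW.flip
  have hb : AlgSp.RepWith @Etale ((AlgSp.yon S).map w₂ ≫ φ) :=
    (AlgSp.RepWith @Etale).comp_mem _ _ ((AlgSp.repWith_yon_map_iff _ _).2 inferInstance) hφe
  have h1 := isPullback_chart_comap hsq w₂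
  have hge : AlgSp.RepWith @Etale ((AlgSp.yon S).map (comapSubMap w₂ I) ≫ fst₀) :=
    MorphismProperty.of_isPullback (P := AlgSp.RepWith @Etale) h1.flip hb
  have hIW : BlowUp.IsEffCartierIdeal (I.comap w₂.left) := Groth.Agent.S10855.result w₂.left I hI
  obtain ⟨w, hw⟩ := (inferInstance : Surjective w₁.left).surj u
  have hbw : AlgSp.Points.map i.hom x =
      AlgSp.Points.map ((AlgSp.yon S).map w₂ ≫ φ) (AlgSp.Points.ofScheme W w) := by
    rw [← AlgSp.Points.ofPt_eq_map_ofScheme, sqW.w,
      Groth.Agent.Lib.Helper9.SpPoint.ofPt_yon_map_comp, hw, hau]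
  obtain ⟨p, hp1, hp2⟩ := Groth.Agent.S10175.exists_point_of_isPullback h1 x _ hbw
  have hpz : AlgSp.Points.ofScheme (subOver (I.comap w₂.left))
      (AlgSp.Points.toScheme (subOver (I.comap w₂.left)) p) = p :=
    AlgSp.Points.ofScheme_toScheme _ p
  have hιz : (I.comap w₂.left).subschemeι (AlgSp.Points.toScheme (subOver (I.comap w₂.left)) p) = w := by
    have e1 : AlgSp.Points.toScheme W (AlgSp.Points.map ((AlgSp.yon S).map (subι (I.comap w₂.left))) p) = w := by
      rw [hp2, AlgSp.Points.toScheme_ofScheme]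
    rw [← hpz, ← AlgSp.Points.ofPt_eq_map_ofScheme, AlgSp.Points.toScheme_ofPt] at e1
    exact e1
  refine ⟨subOver (I.comap w₂.left), _, AlgSp.Points.toScheme (subOver (I.comap w₂.left)) p, hge, ?_, ?_⟩
  · rw [AlgSp.Points.ofPt_eq_map_ofScheme, hpz, hp1]
  · have hdW : FlatMor.localDim ↥W.left w = d := by
      rw [Groth.Agent.Lib.Helper6.EtDim.localDim_eq_of_etale w₁.left w]
      rw [show w₁.left.base w = u from hw]
      exact hdim
    have hlt := Groth.Agent.Lib.Helper6.CartDim.localDim_lt_of_isEffCartier W.left (I.comap w₂.left) hIW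
      (AlgSp.Points.toScheme (subOver (I.comap w₂.left)) p) (by rw [hιz, hdW]; exact hfin)
    rw [hιz, hdW] at hlt
    exact hlt

end Groth.Agent.S10794
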