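import Groth.Statements.S10795
import Groth.Agent.R2.H48Chart
import Groth.Agent.S9887
import Groth.Agent.S10855

set_option autoImplicit false
universe u
open CategoryTheory CategoryTheory.Limits AlgebraicGeometry
open AlgSp

namespace Groth.Agent.S10795

open Groth.Agent.R2.H48.Chart

/-- For algebraic spaces X and Y over a scheme S, a flat morphism f : X ⟶ Y and an effective Cartier
divisor D ⟶ Y (one-chart sense), the inverse image of D under f is an effective Cartier divisor on
X: for every pullback square of D ⟶ Y along f, the projection to X is an effective Cartier divisor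
(one-chart sense). -/
theorem result {S : Scheme.{u}} (X Y D P : AlgSp.Space S) (f : X ⟶ Y)
    (hf : AlgSp.LocP @Flat f.hom) (i : D ⟶ Y) (hD : AlgSp.IsEffCartierSub i.hom)
    (fst : P ⟶ D) (snd : P ⟶ X) (hP : IsPullback fst.hom snd.hom i.hom f.hom) :
    AlgSp.IsEffCartierSub snd.hom := by
  obtain ⟨hi, V, φ, I, fst₀, hφe, hφs, hsq, hI⟩ := hD
  refine ⟨MorphismProperty.of_isPullback (P := AlgSp.RepWith @IsClosedImmersion) hP hi, ?_⟩
  obtain ⟨U, p, α, hpe, hps, hcomm⟩ := Groth.Agent.S9887.result S X Y f φ hφe hφs
  have hflat : Flat α.left := hf p φ α hpe hφe hcomm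
  have h1 := isPullback_chart_comap hsq α
  rw [← hcomm] at h1
  obtain ⟨g', -, hg'⟩ := exists_isPullback_baseChange hP h1
  exact ⟨U, p, I.comap α.left, g', hpe, hps, hg', Groth.Agent.S10855.result α.left I hI⟩

end Groth.Agent.S10795
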