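import Groth.Statements.S10796
import Groth.Agent.R2.H48Chart
import Groth.Agent.R2.H48WeakAss
import Groth.Agent.R2.H48EffCartier
import Groth.Agent.S9887
import Groth.Agent.Lib.Helper9SpPoint5

set_option autoImplicit false
set_option backward.isDefEq.respectTransparency false
universe u
open CategoryTheory CategoryTheory.Limits AlgebraicGeometry
open AlgSp

namespace Groth.Agent.S10796

open Groth.Agent.R2.H48.Chart Groth.Agent.R2.H48.WeakAss Groth.Agent.R2.H48.EffCartier

/-- For algebraic spaces X and Y over a scheme S, a morphism f : X ⟶ Y and an effective Cartier divisor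
D ⟶ Y (one-chart sense), assume that no weakly associated point of X (weakly associated point of the
structure sheaf O_X on the small etale site of X) is mapped into |D|. Then the inverse image of D
under f is an effective Cartier divisor on X: for every pullback square of D ⟶ Y along f, the
projection to X is an effective Cartier divisor (one-chart sense). -/
theorem result {S : Scheme.{u}} (X Y D P : AlgSp.Space S) (f : X ⟶ Y)
    (i : D ⟶ Y) (hD : AlgSp.IsEffCartierSub i.hom) [(AlgSp.unitModEt X.obj).IsQuasicoherent]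
    (h : ∀ x ∈ AlgSp.WeakAssEt (AlgSp.unitModEt X.obj),
      AlgSp.Points.map f.hom x ∉ Set.range (AlgSp.Points.map i.hom))
    (fst : P ⟶ D) (snd : P ⟶ X) (hP : IsPullback fst.hom snd.hom i.hom f.hom) :
    AlgSp.IsEffCartierSub snd.hom := by
  obtain ⟨hi, V, φ, I, fst₀, hφe, hφs, hsq, hI⟩ := hD
  refine ⟨MorphismProperty.of_isPullback (P := AlgSp.RepWith @IsClosedImmersion) hP hi, ?_⟩
  obtain ⟨U, p, α, hpe, hps, hcomm⟩ := Groth.Agent.S9887.result S X Y f φ hφe hφs
  have h1 := isPullback_chart_comap hsq α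
  rw [← hcomm] at h1
  obtain ⟨g', -, hg'⟩ := exists_isPullback_baseChange hP h1
  refine ⟨U, p, I.comap α.left, g', hpe, hps, hg', ?_⟩
  apply isEffCartierIdeal_comap_of_witness α.left I hI
  intro U₀ hU₀ y β hyβ hy0
  have hyβ' : U₀.topIso.inv.hom y * U₀.topIso.inv.hom β = 0 := by
    rw [← map_mul, hyβ, map_zero]
  have hy0' : U₀.topIso.inv.hom y ≠ 0 := fun h0 => hy0 ((map_eq_zero_iff _
      (ConcreteCategory.bijective_of_isIso U₀.topIso.inv).1).1 h0)
  -- the affine open `U₀` as an object of the small etale site of `X`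
  let T : Over S := Over.mk (U₀.ι ≫ U.hom)
  let ι₀ : T ⟶ U := Over.homMk U₀.ι rfl
  have hιe : AlgSp.RepWith @Etale ((AlgSp.yon S).map ι₀ ≫ p) :=
    (AlgSp.RepWith @Etale).comp_mem _ _
      ((AlgSp.repWith_yon_map_iff _ _).2 (show Etale U₀.ι from inferInstance)) hpe
  let E : AlgSp.EtOver X.obj := AlgSp.EtOver.mk ((AlgSp.yon S).map ι₀ ≫ p) hιe
  haveI : IsAffine E.obj.left.left := hU₀
  obtain ⟨u, hu1, hu2⟩ := exists_mem_weakAssEt_unit E (U₀.topIso.inv y) (U₀.topIso.inv β) hyβ' hy0'
  refine ⟨U₀.ι u, u.2, ?_, ?_⟩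
  · intro hmem
    apply hu1
    rw [← Scheme.Opens.ι_image_basicOpen_topIso_inv] at hmem
    obtain ⟨u', hu', e⟩ := hmem
    have : u' = u := U₀.ι.isOpenEmbedding.injective e
    rw [← this]
    exact hu'
  · intro hsupp
    apply h _ hu2
    have e1 : AlgSp.Points.map f.hom (AlgSp.Points.ofPt E.obj.hom u) =
        AlgSp.Points.ofPt φ (α.left (U₀.ι u)) := by
      rw [AlgSp.Points.map_ofPt]
      show AlgSp.Points.ofPt (((AlgSp.yon S).map ι₀ ≫ p) ≫ f.hom) u = _
      rw [Category.assoc, hcomm, ← Category.assoc, ← Functor.map_comp,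
        Groth.Agent.Lib.Helper9.SpPoint.ofPt_yon_map_comp]
      rfl
    rw [← SetLike.mem_coe, ← Scheme.IdealSheafData.range_subschemeι] at hsupp
    obtain ⟨z, hz⟩ := hsupp
    rw [e1, ← hz]
    refine ⟨AlgSp.Points.ofPt fst₀ z, ?_⟩
    rw [AlgSp.Points.map_ofPt, hsq.w, Groth.Agent.Lib.Helper9.SpPoint.ofPt_yon_map_comp]
    rfl

end Groth.Agent.S10796
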