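import Groth.Statements.S10797
import Groth.Agent.R2.H48Chart
import Groth.Agent.S9887
import Groth.Agent.S10855
import Groth.Agent.S1662

set_option autoImplicit false
universe u
open CategoryTheory CategoryTheory.Limits AlgebraicGeometry
open AlgSp

namespace Groth.Agent.S10797

open Groth.Agent.R2.H48.Chart

/-- Let f : X ⟶ Y be a morphism of algebraic spaces over a scheme S and D ⟶ X an effective Cartier
divisor (one-chart sense) such that the composite D ⟶ Y is flat. Then for every morphism g : Y' ⟶ Y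
and every pullback square exhibiting X' as Y' ×_Y X with projection g' : X' ⟶ X, the inverse image
of D under g' (the projection to X' from any pullback of D ⟶ X along g') is an effective Cartier
divisor on X'. (The published statement takes g to be a morphism from a scheme Y'; this row allows
Y' to be an algebraic space, to which the same etale-local reduction to schemes applies.) -/
theorem result {S : Scheme.{u}} (X Y D Y' X' D' : AlgSp.Space S)
    (f : X ⟶ Y) (i : D ⟶ X) (hD : AlgSp.IsEffCartierSub i.hom) (hflat : AlgSp.LocP @Flat (i ≫ f).hom)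
    (g : Y' ⟶ Y) (g' : X' ⟶ X) (f' : X' ⟶ Y') (hX' : IsPullback g'.hom f'.hom f.hom g.hom)
    (k : D' ⟶ D) (i' : D' ⟶ X') (hD' : IsPullback k.hom i'.hom i.hom g'.hom) :
    AlgSp.IsEffCartierSub i'.hom := by
  obtain ⟨hi, W, ψ, I, fst₀, hψe, hψs, hsq, hI⟩ := hD
  refine ⟨MorphismProperty.of_isPullback (P := AlgSp.RepWith @IsClosedImmersion) hD' hi, ?_⟩
  obtain ⟨V, φ, hφe, hφs⟩ := Y.property.atlas
  obtain ⟨V', q', β, hq'e, hq's, hβ⟩ := Groth.Agent.S9887.result S Y' Y g φ hφe hφs
  obtain ⟨U, γ, α', sqU⟩ := hφe.1 (ψ ≫ f.hom)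
  obtain ⟨α, rfl⟩ := (AlgSp.yon S).map_surjective α'
  haveI : Etale γ.left := hφe.2 _ _ γ sqU
  haveI : Surjective γ.left := hφs.2 _ _ γ sqU
  -- the scheme `U' = U ×_V V'` over `S`
  let U' : Over S := Over.mk (pullback.fst α.left β.left ≫ U.hom)
  let pr₁ : U' ⟶ U := Over.homMk (pullback.fst α.left β.left) rfl
  let pr₂ : U' ⟶ V' := Over.homMk (pullback.snd α.left β.left) (by
    show pullback.snd α.left β.left ≫ V'.hom = pullback.fst α.left β.left ≫ U.hom
    rw [← Over.w β, ← Over.w α, ← Category.assoc, ← Category.assoc, pullback.condition])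
  have sqU' : IsPullback pr₁ pr₂ α β :=
    IsPullback.of_map (Over.forget S) (Over.OverMorphism.ext pullback.condition)
      (IsPullback.of_hasPullback α.left β.left)
  have sqU'y := sqU'.map (AlgSp.yon S)
  have outer : IsPullback ((AlgSp.yon S).map pr₂) ((AlgSp.yon S).map pr₁ ≫ (AlgSp.yon S).map γ)
      ((AlgSp.yon S).map β ≫ φ) (ψ ≫ f.hom) := sqU'y.flip.paste_vert sqU
  rw [← hβ] at outer
  -- `E = X' ×_{Y'} V'`
  have sqE := IsPullback.of_hasPullback f'.hom q'
  have he₁e : AlgSp.RepWith @Etale (pullback.fst f'.hom q') :=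
    MorphismProperty.of_isPullback (P := AlgSp.RepWith @Etale) sqE.flip hq'e
  have he₁s : AlgSp.RepWith @Surjective (pullback.fst f'.hom q') :=
    MorphismProperty.of_isPullback (P := AlgSp.RepWith @Surjective) sqE.flip hq's
  have sqEX : IsPullback (pullback.fst f'.hom q' ≫ g'.hom) (pullback.snd f'.hom q') f.hom (q' ≫ g.hom) :=
    sqE.paste_horiz hX'
  obtain ⟨c, sqc⟩ : ∃ c, IsPullback c ((AlgSp.yon S).map pr₁ ≫ (AlgSp.yon S).map γ)
      (pullback.fst f'.hom q' ≫ g'.hom) ψ := ⟨_, IsPullback.of_right' outer sqEX.flip⟩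
  have hce : AlgSp.RepWith @Etale c :=
    MorphismProperty.of_isPullback (P := AlgSp.RepWith @Etale) sqc.flip hψe
  have hcs : AlgSp.RepWith @Surjective c :=
    MorphismProperty.of_isPullback (P := AlgSp.RepWith @Surjective) sqc.flip hψs
  have hp'e : AlgSp.RepWith @Etale (c ≫ pullback.fst f'.hom q') :=
    (AlgSp.RepWith @Etale).comp_mem _ _ hce he₁e
  have hp's : AlgSp.RepWith @Surjective (c ≫ pullback.fst f'.hom q') :=
    (AlgSp.RepWith @Surjective).comp_mem _ _ hcs he₁s
  have hp'g' : (c ≫ pullback.fst f'.hom q') ≫ g'.hom = (AlgSp.yon S).map (pr₁ ≫ γ) ≫ ψ := by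
    rw [Category.assoc, sqc.w, Functor.map_comp]
  -- the chart of `D'`
  have h := isPullback_chart_comap hsq (pr₁ ≫ γ)
  rw [← hp'g'] at h
  obtain ⟨g'', -, hg''⟩ := exists_isPullback_baseChange hD' h
  refine ⟨U', c ≫ pullback.fst f'.hom q', I.comap (pr₁ ≫ γ).left, g'', hp'e, hp's, hg'', ?_⟩
  -- the ideal is effective Cartier
  have hIU : BlowUp.IsEffCartierIdeal (I.comap γ.left) := Groth.Agent.S10855.result γ.left I hI
  have hD_U := isPullback_chart_comap hsq γ
  have haDe : AlgSp.RepWith @Etale ((AlgSp.yon S).map (comapSubMap γ I) ≫ fst₀) :=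
    MorphismProperty.of_isPullback (P := AlgSp.RepWith @Etale) hD_U.flip
      ((AlgSp.RepWith @Etale).comp_mem _ _ ((AlgSp.repWith_yon_map_iff _ _).2 inferInstance) hψe)
  haveI hfl : Flat ((I.comap γ.left).subschemeι ≫ α.left) := by
    refine hflat ((AlgSp.yon S).map (comapSubMap γ I) ≫ fst₀) φ (subι (I.comap γ.left) ≫ α) haDe hφe ?_
    show ((AlgSp.yon S).map (comapSubMap γ I) ≫ fst₀) ≫ i.hom ≫ f.hom = _
    rw [← Category.assoc, hD_U.w, Functor.map_comp, Category.assoc, Category.assoc, Category.assoc, sqU.w]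
  have := Groth.Agent.S1662.result α.left (I.comap γ.left) hIU β.left
  rw [← Scheme.IdealSheafData.comap_comp] at this
  exact this

end Groth.Agent.S10797
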