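import Groth.Statements.S10799
import Groth.Agent.R2.H48CartierChart
import Groth.Agent.S10791
import Groth.Agent.S1685
import Groth.Agent.Lib.Helper28FlatNormal

set_option autoImplicit false
set_option backward.isDefEq.respectTransparency false
universe u
open CategoryTheory CategoryTheory.Limits AlgebraicGeometry Topology TopologicalSpace
open AlgSp

namespace Groth.Agent.S10799

open Groth.Agent.R2.H48.Chart Groth.Agent.R2.H48.CartierChart

/-- A normal Noetherian local domain satisfies `(S_2)`. -/
lemma s2_of_normal (F : Type u) [CommRing F] [IsNoetherianRing F] [IsLocalRing F] [IsDomain F]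
    [IsIntegrallyClosed F] :
    min ((2 : ℕ) : WithBot ℕ∞) (ringKrullDim F) ≤ ((LocCoh.depth F F : ℕ∞) : WithBot ℕ∞) := by
  have h := Groth.Agent.Lib.Helper28.min_two_height_le_depth_of_isIntegrallyClosed (F := F)
  rw [← IsLocalRing.maximalIdeal_height_eq_ringKrullDim]
  have h' : ((min 2 (IsLocalRing.maximalIdeal F).height : ℕ∞) : WithBot ℕ∞) ≤
      ((LocCoh.depth F F : ℕ∞) : WithBot ℕ∞) := WithBot.coe_le_coe.mpr h
  refine le_trans (le_of_eq ?_) h'
  rw [WithBot.coe_min]
  rfl

/-- Let X be an algebraic space over a scheme S which is locally Noetherian and normal in the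
etale-local sense: some etale surjective chart of X from a locally Noetherian scheme all of whose
local rings are integrally closed domains. Let D ⟶ X be an effective Cartier divisor (one-chart
sense). Then D is (S_1): some etale surjective chart of D from a locally Noetherian scheme all of
whose local rings O satisfy min(1, dim O) ≤ depth O. -/
theorem result {S : Scheme.{u}} (X D : AlgSp.Space S)
    (hX : AlgSp.EtaleLocally (fun U => IsLocallyNoetherian U ∧ Pi1.IsNormalScheme U) X.obj)
    (i : D ⟶ X) (hD : AlgSp.IsEffCartierSub i.hom) :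
    AlgSp.EtaleLocally (fun V => IsLocallyNoetherian V ∧ ∀ v : ↥V,
        min ((1 : ℕ) : WithBot ℕ∞) (ringKrullDim ↥(V.presheaf.stalk v)) ≤
          ((LocCoh.depth ↥(V.presheaf.stalk v) ↥(V.presheaf.stalk v) : ℕ∞) : WithBot ℕ∞)) D.obj := by
  obtain ⟨U₀, p, hpe, hps, hNoeth, hnormal⟩ := hX
  obtain ⟨I₀, fst₀, sq₀⟩ := exists_ideal_chart hD.1 p
  have hI₀ : BlowUp.IsEffCartierIdeal I₀ :=
    (Groth.Agent.S10791.result X D i hD.1).mp hD U₀ p hpe I₀ fst₀ sq₀
  haveI : IsLocallyNoetherian U₀.left := hNoeth
  have hS2 : ∀ x : ↥U₀.left, min ((2 : ℕ) : WithBot ℕ∞) (ringKrullDim (U₀.left.presheaf.stalk x)) ≤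
      ((LocCoh.depth (U₀.left.presheaf.stalk x) (U₀.left.presheaf.stalk x) : ℕ∞) : WithBot ℕ∞) := by
    intro x
    haveI := (hnormal x).1
    haveI := (hnormal x).2
    exact s2_of_normal (U₀.left.presheaf.stalk x)
  refine ⟨subOver I₀, fst₀,
    MorphismProperty.of_isPullback (P := AlgSp.RepWith @Etale) sq₀.flip hpe,
    MorphismProperty.of_isPullback (P := AlgSp.RepWith @Surjective) sq₀.flip hps, ?_, ?_⟩
  · exact LocallyOfFiniteType.isLocallyNoetherian I₀.subschemeι
  · intro v
    exact Groth.Agent.S1685.result U₀.left 2 hS2 I₀ hI₀ v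

end Groth.Agent.S10799
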