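import Groth.Statements.S10803
import Groth.Agent.R2.H48FibreNoeth
import Groth.Agent.S9874
import Groth.Agent.S10176

set_option autoImplicit false
set_option backward.isDefEq.respectTransparency false
universe u
open CategoryTheory CategoryTheory.Limits AlgebraicGeometry Topology TopologicalSpace
open AlgSp

namespace Groth.Agent.S10803

open Groth.Agent.R2.H48.FibreNoeth

/-- (3) ⇒ (2) (with (2) ⇒ (1) ⇒ (3) immediate, this gives the equivalence of the three conditions
defining a locally Noetherian fibre over y): take a morphism f : X ⟶ Y of algebraic spaces over a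
scheme S and a point y of |Y|. Suppose that for some field k and some point p : Spec k ⟶ Y
representing y the fibre X_p (any pullback of f along the morphism of p) is locally Noetherian. Then
for every scheme V, every representable etale h_V ⟶ Y and every point v of V mapping to y, the fibre
X_v = Spec κ(v) ×_Y X is locally Noetherian. -/
theorem result {S : Scheme.{u}} (X Y : AlgSp.Space S) (f : X ⟶ Y)
    (y : AlgSp.Points Y.obj) (p : AlgSp.FieldPt Y.obj) (hp : AlgSp.Points.mk p = y)
    (hNoeth : ∀ ⦃P : AlgSp.Sp S⦄ (fst : P ⟶ X.obj) (snd : P ⟶ (AlgSp.yon S).obj p.pt),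
      IsPullback fst snd f.hom p.toHom → AlgSp.IsLocNoethSp P)
    (V : Over S) (b : (AlgSp.yon S).obj V ⟶ Y.obj) (hb : AlgSp.RepWith @Etale b) (v : ↥V.left)
    (hv : AlgSp.Points.ofPt b v = y)
    {Q : AlgSp.Sp S} (qfst : Q ⟶ X.obj) (qsnd : Q ⟶ (AlgSp.yon S).obj (AlgSp.FieldPt.ofPt b v).pt)
    (hQ : IsPullback qfst qsnd f.hom (AlgSp.FieldPt.ofPt b v).toHom) :
    AlgSp.IsLocNoethSp Q := by
  have hQalg : AlgSp.IsAlgSpace Q :=
    Groth.Agent.S9874.isAlgSpace_of_isPullback Y.property.diag X.property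
      (AlgSp.IsAlgSpace.yon_obj (AlgSp.FieldPt.ofPt b v).pt) hQ
  -- the scheme `W = V ×_Y Spec k`, étale over `Spec k`
  obtain ⟨W, w₁, w₂', sqW⟩ := hb.1 p.toHom
  obtain ⟨w₂, rfl⟩ := (AlgSp.yon S).map_surjective w₂'
  haveI : Etale w₁.left := hb.2 _ _ w₁ sqW
  have e : AlgSp.Points.ofPt b v = AlgSp.Points.ofPt p.toHom (IsLocalRing.closedPoint p.K) := by
    rw [hv, AlgSp.Points.ofPt_toHom, hp]
  obtain ⟨w, rfl, hw⟩ := Groth.Agent.S10176.exists_point_of_isPullback_yon sqW v _ e
  -- the point `Spec κ(w) ⟶ W`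
  let ιw : Over.mk (W.left.fromSpecResidueField w ≫ W.hom) ⟶ W :=
    Over.homMk (W.left.fromSpecResidueField w) rfl
  let ιv : (AlgSp.FieldPt.ofPt b (w₂.left w)).pt ⟶ V :=
    Over.homMk (V.left.fromSpecResidueField (w₂.left w)) rfl
  have hvt : (AlgSp.FieldPt.ofPt b (w₂.left w)).toHom = (AlgSp.yon S).map ιv ≫ b :=
    AlgSp.FieldPt.toHom_ofPt b (w₂.left w)
  -- the morphisms `Spec κ(w) ⟶ Spec k` and `Spec κ(w) ⟶ Spec κ(v)`
  let c₁ : Over.mk (W.left.fromSpecResidueField w ≫ W.hom) ⟶ p.pt := ιw ≫ w₁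
  have hfs : Spec.map (w₂.left.residueFieldMap w) ≫ V.left.fromSpecResidueField (w₂.left w) =
      W.left.fromSpecResidueField w ≫ w₂.left :=
    Scheme.Hom.SpecMap_residueFieldMap_fromSpecResidueField w₂.left w
  let c₂ : Over.mk (W.left.fromSpecResidueField w ≫ W.hom) ⟶ (AlgSp.FieldPt.ofPt b (w₂.left w)).pt :=
    Over.homMk (Spec.map (w₂.left.residueFieldMap w)) (by
      show Spec.map (w₂.left.residueFieldMap w) ≫ V.left.fromSpecResidueField (w₂.left w) ≫ V.hom =
        W.left.fromSpecResidueField w ≫ W.hom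
      rw [← Category.assoc, hfs, Category.assoc, Over.w w₂])
  have hc₂ : c₂ ≫ ιv = ιw ≫ w₂ := Over.OverMorphism.ext hfs
  have hc : (AlgSp.yon S).map c₂ ≫ (AlgSp.FieldPt.ofPt b (w₂.left w)).toHom =
      (AlgSp.yon S).map c₁ ≫ p.toHom := by
    rw [hvt, ← Category.assoc, ← Functor.map_comp, hc₂, Functor.map_comp, Functor.map_comp,
      Category.assoc, Category.assoc, sqW.w]
  haveI : LocallyOfFiniteType c₁.left := lft_of_etale_point w₁.left w
  haveI : Flat c₂.left := flat_of_fields (K := W.left.residueField w)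
    (K₀ := V.left.residueField (w₂.left w)) c₂.left
  haveI : Surjective c₂.left := surjective_of_fields (K := W.left.residueField w)
    (K₀ := V.left.residueField (w₂.left w)) c₂.left
  haveI : IsAffineHom c₂.left :=
    isAffineHom_of_isAffine (X := Spec (W.left.residueField w))
      (Y := Spec (V.left.residueField (w₂.left w))) c₂.left
  refine isLocNoethSp_fibre_of_flat_affine_surjective f.hom _ c₂ ?_ hQalg hQ
  intro P fst snd hP
  rw [hc] at hP
  exact isLocNoethSp_fibre_of_lft f.hom p.toHom c₁ (IsPullback.of_hasPullback f.hom p.toHom)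
    (hNoeth _ _ (IsPullback.of_hasPullback f.hom p.toHom)) hP

end Groth.Agent.S10803
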