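import Groth.Statements.S10804
import Groth.Agent.R2.H48NoethDescent
import Groth.Agent.Lib.Helper12FibreSpec
import Groth.Agent.S9874
import Groth.Agent.S10215

set_option autoImplicit false
universe u
open CategoryTheory CategoryTheory.Limits AlgebraicGeometry
open AlgSp

namespace Groth.Agent.S10804

/-- A morphism between spectra of fields is flat. -/
lemma flat_of_fields {K K₀ : Type u} [Field K] [Field K₀]
    (c : Spec (CommRingCat.of K) ⟶ Spec (CommRingCat.of K₀)) : Flat c := by
  rw [← Spec.map_preimage c, HasRingHomProperty.Spec_iff (P := @Flat)]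
  algebraize [(Spec.preimage c).hom]
  show Module.Flat K₀ K
  infer_instance

/-- A morphism between spectra of fields is surjective. -/
lemma surjective_of_fields {K K₀ : Type u} [Field K] [Field K₀]
    (c : Spec (CommRingCat.of K) ⟶ Spec (CommRingCat.of K₀)) : Surjective c := by
  refine ⟨fun y => ⟨IsLocalRing.closedPoint K, Subsingleton.elim _ _⟩⟩

/-- (3) ⇒ (4): let f : X ⟶ Y be a morphism of algebraic spaces over a scheme S, and let p : Spec k ⟶ Y
and p₀ : Spec k₀ ⟶ Y be field-valued points defining the same point of |Y|, with h_{Spec k₀} ⟶ Y a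
monomorphism. If the fibre X_p = Spec k ×_Y X (any pullback of f along the morphism of p) is locally
Noetherian, then the fibre X_{p₀} is locally Noetherian. -/
theorem result {S : Scheme.{u}} (X Y : AlgSp.Space S) (f : X ⟶ Y)
    (p p₀ : AlgSp.FieldPt Y.obj) (hpp : AlgSp.Points.mk p = AlgSp.Points.mk p₀) (hmono : Mono p₀.toHom)
    (hNoeth : ∀ ⦃P : AlgSp.Sp S⦄ (fst : P ⟶ X.obj) (snd : P ⟶ (AlgSp.yon S).obj p.pt),
      IsPullback fst snd f.hom p.toHom → AlgSp.IsLocNoethSp P)
    {Q : AlgSp.Sp S} (qfst : Q ⟶ X.obj) (qsnd : Q ⟶ (AlgSp.yon S).obj p₀.pt)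
    (hQ : IsPullback qfst qsnd f.hom p₀.toHom) :
    AlgSp.IsLocNoethSp Q := by
  obtain ⟨c, hc, -⟩ := Groth.Agent.S10215.result Y p₀ p hpp.symm
  have hQalg : AlgSp.IsAlgSpace Q :=
    Groth.Agent.S9874.isAlgSpace_of_isPullback Y.property.diag X.property
      (AlgSp.IsAlgSpace.yon_obj p₀.pt) hQ
  obtain ⟨V₀, a₀, ha₀e, ha₀s⟩ := hQalg.atlas
  obtain ⟨b₀, hb₀⟩ := (AlgSp.yon S).map_surjective (a₀ ≫ qsnd)
  -- the scheme `V = V₀ ×_{k₀} k` over `S`
  let V : Over S := Over.mk (pullback.fst b₀.left c.left ≫ V₀.hom)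
  let pr₁ : V ⟶ V₀ := Over.homMk (pullback.fst b₀.left c.left) rfl
  let pr₂ : V ⟶ p.pt := Over.homMk (pullback.snd b₀.left c.left) (by
    show pullback.snd b₀.left c.left ≫ p.pt.hom = pullback.fst b₀.left c.left ≫ V₀.hom
    rw [← Over.w c, ← Over.w b₀, ← Category.assoc, ← Category.assoc, pullback.condition])
  have sqV : IsPullback pr₁ pr₂ b₀ c :=
    IsPullback.of_map (Over.forget S) (Over.OverMorphism.ext pullback.condition)
      (IsPullback.of_hasPullback b₀.left c.left)
  have sqVy := (sqV.map (AlgSp.yon S)).flip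
  rw [hb₀] at sqVy
  -- the fibre over `p`
  have sqP := IsPullback.of_hasPullback qsnd ((AlgSp.yon S).map c)
  have sqPX := sqP.paste_horiz hQ
  rw [hc] at sqPX
  have hP : AlgSp.IsLocNoethSp (pullback qsnd ((AlgSp.yon S).map c)) := hNoeth _ _ sqPX
  obtain ⟨a, sqa⟩ : ∃ a, IsPullback a ((AlgSp.yon S).map pr₁)
      (pullback.fst qsnd ((AlgSp.yon S).map c)) a₀ := ⟨_, IsPullback.of_right' sqVy sqP.flip⟩
  have hae : AlgSp.RepWith @Etale a :=
    MorphismProperty.of_isPullback (P := AlgSp.RepWith @Etale) sqa.flip ha₀e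
  haveI : IsLocallyNoetherian V.left :=
    Groth.Agent.Lib.Helper12.FibreSpec.isLocallyNoetherian_of_chart hP a hae
  haveI : Flat c.left := flat_of_fields c.left
  haveI : Surjective c.left := surjective_of_fields c.left
  haveI : IsAffineHom c.left :=
    isAffineHom_of_isAffine (X := Spec (CommRingCat.of p.K)) (Y := Spec (CommRingCat.of p₀.K)) c.left
  haveI : IsLocallyNoetherian (pullback b₀.left c.left) := ‹IsLocallyNoetherian V.left›
  haveI : IsAffineHom (pullback.fst b₀.left c.left) := MorphismProperty.pullback_fst _ _ ‹_›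
  have : IsLocallyNoetherian V₀.left :=
    Groth.Agent.R2.H48.NoethDescent.isLocallyNoetherian_of_flat_affine_surjective
      (pullback.fst b₀.left c.left)
  exact ⟨V₀, a₀, ha₀e, ha₀s, this⟩

end Groth.Agent.S10804
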