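import Groth.Statements.S10805
import Groth.Agent.R2.H48ModEt
import Groth.Agent.Lib.Helper12FieldBC
import Groth.Agent.S10176

set_option autoImplicit false
set_option backward.isDefEq.respectTransparency false
universe u
open CategoryTheory CategoryTheory.Limits AlgebraicGeometry Topology TopologicalSpace
open AlgSp

namespace Groth.Agent.S10805

open Groth.Agent.R2.H48.ModEt Groth.Agent.R2.H48.WeakAss Opposite

/-- elements of a minimal prime over `I` are nilpotent modulo `I` up to an element outside the prime. -/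
lemma exists_mul_pow_mem {A : Type*} [CommRing A] {I 𝔭 : Ideal A} (h𝔭 : 𝔭 ∈ I.minimalPrimes) {x : A}
    (hx : x ∈ 𝔭) : ∃ c ∉ 𝔭, ∃ n : ℕ, c * x ^ n ∈ I := by
  obtain ⟨⟨hp₁, hp₂⟩, hp₃⟩ := h𝔭
  haveI := hp₁
  have : 𝔭.map (algebraMap A (Localization.AtPrime 𝔭)) ≤ (I.map (algebraMap _ _)).radical := by
    rw [Ideal.radical_eq_sInf, le_sInf_iff]
    rintro q ⟨hq', hq⟩
    obtain ⟨h₁, h₂⟩ := ((IsLocalization.AtPrime.orderIsoOfPrime _ 𝔭) ⟨q, hq⟩).2
    rw [Ideal.map_le_iff_le_comap] at hq' ⊢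
    exact hp₃ ⟨h₁, hq'⟩ h₂
  obtain ⟨n, hn⟩ := this (Ideal.mem_map_of_mem _ hx)
  rw [IsLocalization.mem_map_algebraMap_iff (M := 𝔭.primeCompl)] at hn
  obtain ⟨⟨a, b⟩, hn⟩ := hn
  rw [← map_pow, ← map_mul, IsLocalization.eq_iff_exists 𝔭.primeCompl] at hn
  obtain ⟨t, ht⟩ := hn
  refine ⟨t * b, (t * b).2, n, ?_⟩
  simp only at ht
  have : t.1 * b.1 * x ^ n = t.1 * a.1 := by
    rw [mul_assoc, mul_comm b.1, ht]
  show t.1 * b.1 * x ^ n ∈ I
  rw [this]
  exact I.mul_mem_left _ a.2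

/-- in a reduced ring, a prime minimal over the annihilator of an element is a minimal prime. -/
lemma mem_minimalPrimes_of_reduced {A : Type*} [CommRing A] [IsReduced A] (y : A) (J : Ideal A)
    (hJ : ∀ a, a ∈ J ↔ a * y = 0) {𝔭 : Ideal A} (h𝔭 : 𝔭 ∈ J.minimalPrimes) : 𝔭 ∈ minimalPrimes A := by
  haveI := h𝔭.1.1
  have key : ∀ t ∈ 𝔭, ∃ c ∉ 𝔭, c * t * y = 0 := by
    intro t ht
    obtain ⟨c, hc, n, hn⟩ := exists_mul_pow_mem h𝔭 ht
    refine ⟨c, hc, ?_⟩
    rw [hJ] at hn
    have h1 : (c * t * y) ^ (n + 1) = 0 := by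
      have : (c * t * y) ^ (n + 1) = (c * t ^ n * y) * (c ^ n * t * y ^ n) := by ring
      rw [this, hn, zero_mul]
    exact IsReduced.eq_zero _ ⟨n + 1, h1⟩
  have hy : y ∉ 𝔭 := by
    intro hy
    obtain ⟨c, hc, h⟩ := key y hy
    have h1 : (c * y) ^ 2 = 0 := by
      have : (c * y) ^ 2 = c * (c * y * y) := by ring
      rw [this, h, mul_zero]
    have h2 : c * y = 0 := IsReduced.eq_zero _ ⟨2, h1⟩
    exact hc (h𝔭.1.2 ((hJ c).2 h2))
  refine ⟨⟨h𝔭.1.1, bot_le⟩, ?_⟩
  rintro 𝔮 ⟨h𝔮, -⟩ h𝔮𝔭 t ht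
  obtain ⟨c, hc, h⟩ := key t ht
  have h1 : c * y * t ∈ 𝔮 := by
    have : c * y * t = c * t * y := by ring
    rw [this, h]
    exact 𝔮.zero_mem
  rcases h𝔮.mem_or_mem h1 with h2 | h2
  · rcases h𝔮.mem_or_mem h2 with h3 | h3
    · exact absurd (h𝔮𝔭 h3) hc
    · exact absurd (h𝔮𝔭 h3) hy
  · exact h2

/-- on an affine scheme, the prime of a point is the prime ideal of the point. -/
lemma primeAtPt_eq (U : Scheme.{u}) [IsAffine U] (u : U) :
    AlgSp.primeAtPt U u = ((isAffineOpen_top U).primeIdealOf ⟨u, trivial⟩).asIdeal := by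
  ext a
  rw [mem_primeAtPt_iff,
    Groth.Agent.Lib.Helper14.mem_basicOpen_iff_notMem_primeIdealOf (isAffineOpen_top U) u trivial a,
    not_not]

/-- on an affine scheme, the local ring at a point has dimension zero iff the prime of the point is minimal. -/
lemma ringKrullDim_stalk_eq_zero_iff (U : Scheme.{u}) [IsAffine U] (u : U) :
    ringKrullDim (U.presheaf.stalk u) = 0 ↔ AlgSp.primeAtPt U u ∈ minimalPrimes Γ(U, ⊤) := by
  rw [primeAtPt_eq]
  letI := U.presheaf.algebra_section_stalk (U := ⊤) ⟨u, trivial⟩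
  haveI := (isAffineOpen_top U).isLocalization_stalk ⟨u, trivial⟩
  rw [IsLocalization.AtPrime.ringKrullDim_eq_height
    ((isAffineOpen_top U).primeIdealOf ⟨u, trivial⟩).asIdeal (U.presheaf.stalk u),
    ← Ideal.height_eq_zero_iff]
  exact_mod_cast Iff.rfl

/-- Let X be a reduced algebraic space over a scheme S and x a point of |X|. Then x is a weakly
associated point of X (a weakly associated point of the structure sheaf O_X on the small etale site)
if and only if x is a point of codimension 0 of X (for some scheme U with a representable etale h_U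
⟶ X and some point u of U over x, the local ring of U at u has Krull dimension 0). -/
theorem result {S : Scheme.{u}} (X : AlgSp.Space S)
    (hX : AlgSp.IsReducedSp X.obj) [(AlgSp.unitModEt X.obj).IsQuasicoherent] (x : AlgSp.Points X.obj) :
    x ∈ AlgSp.WeakAssEt (AlgSp.unitModEt X.obj) ↔
      AlgSp.HasAt (fun U u => ringKrullDim ↥(U.presheaf.stalk u) = 0) X.obj x := by
  constructor
  · rintro ⟨E, hE, u, hux, s, hs⟩
    haveI : IsReduced E.obj.left.left :=
      Groth.Agent.Lib.Helper12.FieldBC.isReduced_of_chart hX E.obj.hom E.property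
    refine ⟨E.obj.left, E.obj.hom, u, E.property, hux, ?_⟩
    refine (ringKrullDim_stalk_eq_zero_iff _ u).2 ?_
    haveI : _root_.IsReduced Γ(E.obj.left.left, ⊤) := inferInstance
    exact mem_minimalPrimes_of_reduced (A := Γ(E.obj.left.left, ⊤)) (ULift.down s) (AlgSp.annSect s)
      (fun a => mem_annSect_unit_iff E (ULift.down s) a) hs
  · rintro ⟨U, a, u, ha, hux, hdim⟩
    obtain ⟨_, ⟨W, hW, rfl⟩, huW, -⟩ := U.left.isBasis_affineOpens.exists_subset_of_mem_open
      (Set.mem_univ u) isOpen_univ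
    let E₀ : AlgSp.EtOver X.obj := AlgSp.EtOver.mk a ha
    let E : AlgSp.EtOver X.obj := openSub E₀ W
    haveI hEaff : IsAffine E.obj.left.left := hW
    let u' : E.obj.left.left := (⟨u, huW⟩ : W)
    have hpt : AlgSp.Points.ofPt E.obj.hom u' = AlgSp.Points.ofPt a u :=
      Groth.Agent.S10176.ofPt_map_comp (Over.homMk (Scheme.Opens.ι W) rfl :
        Over.mk (Scheme.Opens.ι W ≫ U.hom) ⟶ U) a (⟨u, huW⟩ : W)
    have hdim' : ringKrullDim (E.obj.left.left.presheaf.stalk u') = 0 := by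
      rw [← hdim]
      exact ringKrullDim_eq_of_ringEquiv
        (Scheme.Opens.stalkIso (X := U.left) W ⟨u, huW⟩).commRingCatIsoToRingEquiv
    have hmin := (ringKrullDim_stalk_eq_zero_iff E.obj.left.left u').1 hdim'
    refine ⟨E, hEaff, u', hpt.trans hux, (AlgSp.upΓ E 1 : (AlgSp.OEtRing X.obj).obj.obj (op E)), ?_⟩
    have hann : AlgSp.annSect (M := AlgSp.unitModEt X.obj) (E := E)
        (AlgSp.upΓ E 1 : (AlgSp.OEtRing X.obj).obj.obj (op E)) = ⊥ := by
      ext b
      rw [mem_annSect_unit_iff E 1 b, mul_one]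
      rfl
    rw [hann]
    exact hmin

end Groth.Agent.S10805
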