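import Groth.Statements.S10810
import Groth.Agent.R2.H48ModEt

set_option autoImplicit false
set_option backward.isDefEq.respectTransparency false
universe u
open CategoryTheory CategoryTheory.Limits AlgebraicGeometry Topology TopologicalSpace
open AlgSp

namespace Groth.Agent.S10810

open Groth.Agent.R2.H48.ModEt

/-- Let X be an algebraic space over a scheme S and F a quasi-coherent O_X-module on the small etale
site of X. Then F = 0 if and only if the set of weakly associated points of F is empty. -/
theorem result {S : Scheme.{u}} (X : AlgSp.Space S)
    (M : AlgSp.ModEt X.obj) [M.IsQuasicoherent] :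
    IsZero M ↔ AlgSp.WeakAssEt M = ∅ := by
  constructor
  · intro hM
    rw [Set.eq_empty_iff_forall_notMem]
    rintro x ⟨E, hE, u, -, s, hs⟩
    have h0 : s = 0 := section_eq_zero_of_isZero M hM E s
    have htop : AlgSp.annSect s = ⊤ := (annSect_eq_top_iff s).2 h0
    rw [htop] at hs
    exact hs.1.1.ne_top (top_le_iff.mp hs.1.2)
  · intro h
    apply isZero_of_forall_section_eq_zero
    intro E s
    apply section_eq_zero_of_affine_cover
    intro W
    by_contra hne
    haveI : IsAffine (openSub E W.1).obj.left.left := W.2
    obtain ⟨u, hu⟩ := exists_mem_weakAssEt_of_ne_zero M (openSub E W.1) _ hne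
    rw [h] at hu
    exact hu

end Groth.Agent.S10810
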