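import Groth.Statements.S10811
import Groth.Agent.R2.H48ModEt

set_option autoImplicit false
set_option backward.isDefEq.respectTransparency false
universe u
open CategoryTheory CategoryTheory.Limits AlgebraicGeometry Topology TopologicalSpace
open AlgSp

namespace Groth.Agent.S10811

open Groth.Agent.R2.H48.ModEt Opposite

lemma minimalPrimes_of_le_of_le {R : Type*} [CommRing R] {I J 𝔭 : Ideal R}
    (h𝔭 : 𝔭 ∈ I.minimalPrimes) (hIJ : I ≤ J) (hJ𝔭 : J ≤ 𝔭) : 𝔭 ∈ J.minimalPrimes :=
  ⟨⟨h𝔭.1.1, hJ𝔭⟩, fun _ hq hq𝔭 => h𝔭.2 ⟨hq.1, hIJ.trans hq.2⟩ hq𝔭⟩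

variable {S : Scheme.{u}} {X : AlgSp.Sp S}

/-- sectionwise injectivity of the first map of a short exact sequence of modules. -/
lemma injective_app (C : ShortComplex (AlgSp.ModEt X)) (hC : C.ShortExact) (E : AlgSp.EtOver X) :
    Function.Injective (C.f.val.app (op E)) := by
  haveI := hC.mono_f
  have : Mono ((SheafOfModules.evaluation (AlgSp.OEtRing X) (op E)).map C.f) := inferInstance
  exact (ModuleCat.mono_iff_injective _).1 this

/-- sectionwise exactness in the middle of a short exact sequence of modules. -/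
lemma exact_app (C : ShortComplex (AlgSp.ModEt X)) (hC : C.ShortExact) (E : AlgSp.EtOver X)
    (y : AlgSp.sectModEt C.X₂ E) (hy : C.g.val.app (op E) y = 0) :
    ∃ x : AlgSp.sectModEt C.X₁ E, C.f.val.app (op E) x = y := by
  haveI : (SheafOfModules.evaluation (AlgSp.OEtRing X) (op E)).Additive :=
    inferInstanceAs ((SheafOfModules.forget _ ⋙ PresheafOfModules.evaluation _ _).Additive)
  have hex : (C.map (SheafOfModules.evaluation (AlgSp.OEtRing X) (op E))).Exact :=
    hC.exact.map_of_mono_of_preservesKernel _ hC.mono_f inferInstance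
  exact (ShortComplex.moduleCat_exact_iff _).1 hex y hy

/-- annihilators are preserved by sectionwise injective morphisms of modules. -/
lemma annSect_app_eq {M N : AlgSp.ModEt X} (φ : M ⟶ N) (E : AlgSp.EtOver X)
    (hφ : Function.Injective (φ.val.app (op E))) (s : AlgSp.sectModEt M E) :
    AlgSp.annSect (φ.val.app (op E) s) = AlgSp.annSect s := by
  ext a
  rw [AlgSp.mem_annSect_iff, AlgSp.mem_annSect_iff, ← map_smul]
  constructor
  · intro h
    apply hφ
    rw [h, map_zero]
  · intro h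
    rw [h, map_zero]

/-- annihilators grow under morphisms of modules. -/
lemma annSect_le_app {M N : AlgSp.ModEt X} (φ : M ⟶ N) (E : AlgSp.EtOver X)
    (s : AlgSp.sectModEt M E) :
    AlgSp.annSect s ≤ AlgSp.annSect (φ.val.app (op E) s) := by
  intro a ha
  rw [AlgSp.mem_annSect_iff] at ha ⊢
  rw [← map_smul, ha, map_zero]

/-- Let X be an algebraic space over a scheme S and 0 ⟶ F₁ ⟶ F₂ ⟶ F₃ ⟶ 0 a short exact sequence of
quasi-coherent O_X-modules on the small etale site of X. Then the weakly associated points satisfy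
WeakAss(F₂) ⊆ WeakAss(F₁) ∪ WeakAss(F₃) and WeakAss(F₁) ⊆ WeakAss(F₂). -/
theorem result {S : Scheme.{u}} (X : AlgSp.Space S)
    (C : ShortComplex (AlgSp.ModEt X.obj)) (hC : C.ShortExact)
    [C.X₁.IsQuasicoherent] [C.X₂.IsQuasicoherent] [C.X₃.IsQuasicoherent] :
    AlgSp.WeakAssEt C.X₂ ⊆ AlgSp.WeakAssEt C.X₁ ∪ AlgSp.WeakAssEt C.X₃ ∧
      AlgSp.WeakAssEt C.X₁ ⊆ AlgSp.WeakAssEt C.X₂ := by
  constructor
  · rintro x ⟨E, hE, u, hux, s, hs⟩
    set 𝔭 := AlgSp.primeAtPt E.obj.left.left u with h𝔭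
    by_cases hle : AlgSp.annSect (C.g.val.app (op E) s) ≤ 𝔭
    · right
      exact ⟨E, hE, u, hux, C.g.val.app (op E) s,
        minimalPrimes_of_le_of_le hs (annSect_le_app C.g E s) hle⟩
    · left
      obtain ⟨a, ha, ha𝔭⟩ := SetLike.not_le_iff_exists.mp hle
      rw [AlgSp.mem_annSect_iff, ← map_smul] at ha
      obtain ⟨r, hr⟩ := exact_app C hC E _ ha
      refine ⟨E, hE, u, hux, r, ?_⟩
      rw [← annSect_app_eq C.f E (injective_app C hC E) r, hr]
      refine minimalPrimes_of_le_of_le hs ?_ ?_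
      · intro b hb
        rw [AlgSp.mem_annSect_iff] at hb ⊢
        rw [← mul_smul, ← map_mul, mul_comm, map_mul, mul_smul, hb, smul_zero]
      · intro b hb
        rw [AlgSp.mem_annSect_iff, ← mul_smul, ← map_mul] at hb
        have hba : b * a ∈ 𝔭 := hs.1.2 ((AlgSp.mem_annSect_iff s (b * a)).2 hb)
        rcases hs.1.1.mem_or_mem hba with h | h
        · exact h
        · exact absurd h ha𝔭
  · rintro x ⟨E, hE, u, hux, s, hs⟩
    refine ⟨E, hE, u, hux, C.f.val.app (op E) s, ?_⟩
    rw [annSect_app_eq C.f E (injective_app C hC E) s]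
    exact hs

end Groth.Agent.S10811
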