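import Groth.Statements.S10813
import Groth.Agent.R2.H48IdealEt
import Groth.Agent.R2.H48CartierChart
import Groth.Agent.R2.H48CartierMul
import Groth.Agent.S10791

set_option autoImplicit false
set_option backward.isDefEq.respectTransparency false
universe u
open CategoryTheory CategoryTheory.Limits AlgebraicGeometry Topology TopologicalSpace
open AlgSp

namespace Groth.Agent.S10813

open Groth.Agent.R2.H48.Chart Groth.Agent.R2.H48.CartierChart Groth.Agent.R2.H48.IdealEt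
  Groth.Agent.R2.H48.CartierMul

/-- Let X be an algebraic space over a scheme S, let Z ⟶ X and Y ⟶ X be closed subspaces cut out by
quasi-coherent sheaves of ideals I and J, and let D ⟶ X be the closed subspace which the product I·J
cuts out. If D is an effective Cartier divisor (one-chart sense), then so are Z and Y, and D is
their sum. -/
theorem result {S : Scheme.{u}} (X Z Y D : AlgSp.Space S)
    (iZ : Z ⟶ X) (iY : Y ⟶ X) (iD : D ⟶ X) (I J : AlgSp.IdealEt X.obj) (hI : I.IsQCoh) (hJ : J.IsQCoh)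
    (hZ : AlgSp.IsCutOutBy I iZ.hom) (hY : AlgSp.IsCutOutBy J iY.hom) (hD : AlgSp.IsCutOutBy (I * J) iD.hom)
    (hDc : AlgSp.IsEffCartierSub iD.hom) :
    AlgSp.IsEffCartierSub iZ.hom ∧ AlgSp.IsEffCartierSub iY.hom := by
  obtain ⟨hi₁, hJ₁⟩ := hZ
  obtain ⟨hi₂, hJ₂⟩ := hY
  obtain ⟨hiD, hJD⟩ := hD
  obtain ⟨V, φ, hφe, hφs⟩ := X.property.atlas
  obtain ⟨K, fst, sq⟩ := exists_ideal_chart hiD φ
  obtain ⟨K₁, fst₁, sq₁⟩ := exists_ideal_chart hi₁ φ
  obtain ⟨K₂, fst₂, sq₂⟩ := exists_ideal_chart hi₂ φ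
  have hc : BlowUp.IsEffCartierIdeal K :=
    (Groth.Agent.S10791.result X D iD hiD).mp hDc V φ hφe K fst sq
  have hmul : K = K₁ * K₂ :=
    chart_ideal_eq_mul hiD.1 hi₁.1 hi₂.1 (by rw [hJD, hJ₁, hJ₂]) (AlgSp.EtOver.mk φ hφe)
      K K₁ K₂ fst fst₁ fst₂ sq sq₁ sq₂
  rw [hmul] at hc
  exact ⟨⟨hi₁, V, φ, K₁, fst₁, hφe, hφs, sq₁, isEffCartierIdeal_of_mul_left hc⟩,
    ⟨hi₂, V, φ, K₂, fst₂, hφe, hφs, sq₂, isEffCartierIdeal_of_mul_right hc⟩⟩

end Groth.Agent.S10813
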