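import Groth.Statements.S10814
import Groth.Agent.R2.H48IdealEt
import Groth.Agent.R2.H48CartierChart
import Groth.Agent.S10791
import Groth.Agent.Lib.Helper20BlowUp

set_option autoImplicit false
set_option backward.isDefEq.respectTransparency false
universe u
open CategoryTheory CategoryTheory.Limits AlgebraicGeometry Topology TopologicalSpace
open AlgSp

namespace Groth.Agent.S10814

open Groth.Agent.R2.H48.Chart Groth.Agent.R2.H48.CartierChart Groth.Agent.R2.H48.IdealEt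

/-- Let X be an algebraic space over a scheme S and D₁, D₂ ⟶ X effective Cartier divisors (one-chart
sense) with quasi-coherent ideal sheaves I₁, I₂ on the small etale site. Then their sum, the closed
subspace D ⟶ X cut out by the product ideal I₁·I₂, is an effective Cartier divisor. -/
theorem result {S : Scheme.{u}} (X D₁ D₂ D : AlgSp.Space S)
    (i₁ : D₁ ⟶ X) (i₂ : D₂ ⟶ X) (i : D ⟶ X) (I₁ I₂ : AlgSp.IdealEt X.obj) (hI₁ : I₁.IsQCoh) (hI₂ : I₂.IsQCoh)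
    (h₁ : AlgSp.IsCutOutBy I₁ i₁.hom) (h₂ : AlgSp.IsCutOutBy I₂ i₂.hom) (hD : AlgSp.IsCutOutBy (I₁ * I₂) i.hom)
    (e₁ : AlgSp.IsEffCartierSub i₁.hom) (e₂ : AlgSp.IsEffCartierSub i₂.hom) :
    AlgSp.IsEffCartierSub i.hom := by
  obtain ⟨hi₁, hJ₁⟩ := h₁
  obtain ⟨hi₂, hJ₂⟩ := h₂
  obtain ⟨hiD, hJD⟩ := hD
  obtain ⟨V, φ, hφe, hφs⟩ := X.property.atlas
  obtain ⟨J, fst, sq⟩ := exists_ideal_chart hiD φ
  obtain ⟨J₁, fst₁, sq₁⟩ := exists_ideal_chart hi₁ φ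
  obtain ⟨J₂, fst₂, sq₂⟩ := exists_ideal_chart hi₂ φ
  have hc₁ : BlowUp.IsEffCartierIdeal J₁ :=
    (Groth.Agent.S10791.result X D₁ i₁ hi₁).mp e₁ V φ hφe J₁ fst₁ sq₁
  have hc₂ : BlowUp.IsEffCartierIdeal J₂ :=
    (Groth.Agent.S10791.result X D₂ i₂ hi₂).mp e₂ V φ hφe J₂ fst₂ sq₂
  have hmul : J = J₁ * J₂ :=
    chart_ideal_eq_mul hiD.1 hi₁.1 hi₂.1 (by rw [hJD, hJ₁, hJ₂]) (AlgSp.EtOver.mk φ hφe)
      J J₁ J₂ fst fst₁ fst₂ sq sq₁ sq₂
  refine ⟨hiD, V, φ, J, fst, hφe, hφs, sq, ?_⟩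
  rw [hmul]
  exact Groth.Agent.Lib.Helper20.BlowUpBasic.isEffCartierIdeal_mul hc₁ hc₂

end Groth.Agent.S10814
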