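import Groth.Statements.S10835
import Groth.Agent.R2.H49SepHyp
import Groth.Agent.R2.H49SepHypGeom

set_option autoImplicit false
universe u
open CategoryTheory AlgebraicGeometry
attribute [local instance] Curv2.stalkAlgebra
open Variety

namespace Groth.Agent.S10835

/-- Let k be a field and X an integral scheme of finite type over k whose function field admits a
transcendence basis s_1, …, s_d over k over which it is separable algebraic (this holds whenever the
function field is a separable extension of k in the sense of field theory, e.g. for k perfect, and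
then d = dim X). Then some nonempty open subscheme of X is isomorphic, over k, to a nonempty open
subscheme of Spec k[T_1, …, T_d][T]/(g) for a monic polynomial g over k[T_1, …, T_d] which is
irreducible and separable over the fraction field k(T_1, …, T_d). -/
theorem result (k : Type u) [Field k]
    (X : Scheme.{u}) [X.Over (Spec (CommRingCat.of k))] [IsIntegral X]
    [LocallyOfFiniteType (X ↘ Spec (CommRingCat.of k))] [QuasiCompact (X ↘ Spec (CommRingCat.of k))]
    (d : ℕ) (s : Fin d → X.presheaf.stalk (genericPoint X)) (hs : IsTranscendenceBasis k s)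
    (hsep : Algebra.IsSeparable ↥(IntermediateField.adjoin k (Set.range s)) (X.presheaf.stalk (genericPoint X))) :
    ∃ (g : Polynomial (MvPolynomial (Fin d) k)), g.Monic ∧
      Irreducible (g.map (algebraMap (MvPolynomial (Fin d) k) (FractionRing (MvPolynomial (Fin d) k)))) ∧
      (g.map (algebraMap (MvPolynomial (Fin d) k) (FractionRing (MvPolynomial (Fin d) k)))).Separable ∧
      ∃ (U : X.Opens) (V : (Spec (CommRingCat.of (AdjoinRoot g))).Opens) (e : (U : Scheme.{u}) ≅ (V : Scheme.{u})),
        (U : Set X).Nonempty ∧ (V : Set (Spec (CommRingCat.of (AdjoinRoot g)))).Nonempty ∧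
        e.hom ≫ V.ι ≫ Spec.map (CommRingCat.ofHom (algebraMap k (AdjoinRoot g))) =
          U.ι ≫ (X ↘ Spec (CommRingCat.of k)) := by
  classical
  have hEss : Algebra.EssFiniteType k (X.presheaf.stalk (genericPoint X)) :=
    Groth.Agent.R2.H49.SepHypGeom.essFiniteType_stalk k X _
  have hEssF : Algebra.EssFiniteType ↥(IntermediateField.adjoin k (Set.range s))
      (X.presheaf.stalk (genericPoint X)) := Algebra.EssFiniteType.of_comp k _ _
  have hfd : FiniteDimensional ↥(IntermediateField.adjoin k (Set.range s))
      (X.presheaf.stalk (genericPoint X)) := Algebra.finite_of_essFiniteType_of_isAlgebraic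
  obtain ⟨g, ψ, hmonic, hirr, hsep, hinj, hfrac⟩ :=
    Groth.Agent.R2.H49.SepHyp.exists_hypersurface_model k s hs.1
  refine ⟨g, hmonic, hirr, hsep, ?_⟩
  have hdom : IsDomain (AdjoinRoot g) := hinj.isDomain ψ.toRingHom
  obtain ⟨P, hP⟩ := Groth.Agent.R2.H49.SepHypGeom.birationalOver_of_fractions k X (AdjoinRoot g)
    ψ hinj hfrac
  exact ⟨P.source, P.target, P.iso, P.dense_source.nonempty, P.dense_target.nonempty, hP⟩

end Groth.Agent.S10835
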