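import Groth.Statements.S10859
import Groth.Agent.R2.H57ClosedFun
import Groth.Agent.R2.H57AffYoneda
import Groth.Agent.R2.H57GrassSub
import Groth.Agent.R2.H57GrassRep

set_option autoImplicit false
universe u
open Grass

namespace Groth.Agent.S10859

section Helpers

open AlgebraicGeometry CategoryTheory TensorProduct
open Groth.Agent.R2.H57

variable {R : Type u} [CommRing R]
    {M₁ M₂ : Type u} [AddCommGroup M₁] [Module R M₁]
    [AddCommGroup M₂] [Module R M₂]
    (v : M₁ →ₗ[R] M₂) (hv : Function.Surjective v) {k : ℕ}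
    {X₁ X₂ : Over (Spec (CommRingCat.of R))}
    (e₁ : ∀ A : CommAlgCat.{u} R,
      (Over.mk (Spec.map (CommRingCat.ofHom (algebraMap R A))) ⟶ X₁) ≃
        (Module.Grassmannian.functor (R := R) (M := M₁) k).obj A)
    (he₁ : ∀ (A B : CommAlgCat.{u} R) (φ : A ⟶ B)
      (g : Over.mk (Spec.map (CommRingCat.ofHom (algebraMap R A))) ⟶ X₁)
      (g' : Over.mk (Spec.map (CommRingCat.ofHom (algebraMap R B))) ⟶ X₁),
      g'.left = Spec.map (CommRingCat.ofHom φ.hom.toRingHom) ≫ g.left →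
        e₁ B g' = (Module.Grassmannian.functor (R := R) (M := M₁) k).map φ (e₁ A g))
    (e₂ : ∀ A : CommAlgCat.{u} R,
      (Over.mk (Spec.map (CommRingCat.ofHom (algebraMap R A))) ⟶ X₂) ≃
        (Module.Grassmannian.functor (R := R) (M := M₂) k).obj A)
    (he₂ : ∀ (A B : CommAlgCat.{u} R) (φ : A ⟶ B)
      (g : Over.mk (Spec.map (CommRingCat.ofHom (algebraMap R A))) ⟶ X₂)
      (g' : Over.mk (Spec.map (CommRingCat.ofHom (algebraMap R B))) ⟶ X₂),
      g'.left = Spec.map (CommRingCat.ofHom φ.hom.toRingHom) ≫ g.left →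
        e₂ B g' = (Module.Grassmannian.functor (R := R) (M := M₂) k).map φ (e₂ A g))

/-- the map on absolute affine points `X₂ → X₁` given by taking preimages under `v`. -/
noncomputable def F (B₀ : CommRingCat.{u}) (p : Spec B₀ ⟶ X₂.left) : Spec B₀ ⟶ X₁.left :=
  letI := GrassRep.algOf (p ≫ X₂.hom)
  ((e₁ (CommAlgCat.of R B₀)).symm (GrassSub.comapG v hv
    (e₂ (CommAlgCat.of R B₀) (Over.homMk p (GrassRep.algOf_spec (p ≫ X₂.hom)))))).left

lemma F_eq (B₀ : CommRingCat.{u}) (p : Spec B₀ ⟶ X₂.left) (alg : Algebra R B₀)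
    (hp : p ≫ X₂.hom = Spec.map (CommRingCat.ofHom (algebraMap R B₀))) :
    F v hv e₁ e₂ B₀ p = ((e₁ (CommAlgCat.of R B₀)).symm (GrassSub.comapG v hv
      (e₂ (CommAlgCat.of R B₀) (Over.homMk p hp)))).left := by
  have h : alg = GrassRep.algOf (p ≫ X₂.hom) :=
    GrassRep.algebra_eq _ _ (hp.symm.trans (GrassRep.algOf_spec (p ≫ X₂.hom)))
  subst h
  rfl

include he₁ he₂ in
lemma F_nat (B₀ B₁ : CommRingCat.{u}) (τ : B₀ ⟶ B₁) (p : Spec B₀ ⟶ X₂.left) :
    F v hv e₁ e₂ B₁ (Spec.map τ ≫ p) = Spec.map τ ≫ F v hv e₁ e₂ B₀ p := by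
  letI alg₀ := GrassRep.algOf (p ≫ X₂.hom)
  have h₀ := GrassRep.algOf_spec (p ≫ X₂.hom)
  letI alg₁ := GrassRep.algOf ((Spec.map τ ≫ p) ≫ X₂.hom)
  have h₁ := GrassRep.algOf_spec ((Spec.map τ ≫ p) ≫ X₂.hom)
  have hcomm : ∀ c : R, τ.hom (algebraMap R B₀ c) = algebraMap R B₁ c := by
    apply GrassRep.comm_of_compat
    rw [← h₀, ← h₁, Category.assoc]
  rw [F_eq v hv e₁ e₂ B₀ p alg₀ h₀, F_eq v hv e₁ e₂ B₁ (Spec.map τ ≫ p) alg₁ h₁]
  set N₂ := e₂ (CommAlgCat.of R B₀) (Over.homMk p h₀) with hN₂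
  set g := (e₁ (CommAlgCat.of R B₀)).symm (GrassSub.comapG v hv N₂) with hg
  have h2 : e₂ (CommAlgCat.of R B₁) (Over.homMk (Spec.map τ ≫ p) h₁) =
      Module.Grassmannian.map (GrassRep.algHomOf τ hcomm) N₂ :=
    GrassRep.nat e₂ he₂ τ hcomm (Over.homMk p h₀) (Over.homMk (Spec.map τ ≫ p) h₁) rfl
  have hg' : (Spec.map τ ≫ g.left) ≫ X₁.hom = Spec.map (CommRingCat.ofHom (algebraMap R B₁)) :=
    GrassRep.comp_compat τ hcomm g.left (Over.w g)
  have h1 : e₁ (CommAlgCat.of R B₁) (Over.homMk (Spec.map τ ≫ g.left) hg') =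
      Module.Grassmannian.map (GrassRep.algHomOf τ hcomm) (e₁ (CommAlgCat.of R B₀) g) :=
    GrassRep.nat e₁ he₁ τ hcomm g _ rfl
  rw [h2, GrassSub.comapG_map]
  have h3 : e₁ (CommAlgCat.of R B₀) g = GrassSub.comapG v hv N₂ := Equiv.apply_symm_apply _ _
  rw [← h3, ← h1, Equiv.symm_apply_apply]
  rfl

include hv he₁ he₂ in
theorem exists_hom : ∃ c : X₂ ⟶ X₁, ∀ (A : CommAlgCat.{u} R)
    (g : Over.mk (Spec.map (CommRingCat.ofHom (algebraMap R A))) ⟶ X₂),
    (e₁ A (g ≫ c)).toSubmodule = (e₂ A g).toSubmodule.comap (v.baseChange A) := by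
  obtain ⟨c₀, hc₀⟩ := AffYoneda.exists_hom_of_affine (F v hv e₁ e₂) (F_nat v hv e₁ he₁ e₂ he₂)
  have hover : c₀ ≫ X₁.hom = X₂.hom := by
    apply AffYoneda.hom_ext_of_affine
    intro B₀ p
    rw [← Category.assoc, hc₀]
    letI alg₀ := GrassRep.algOf (p ≫ X₂.hom)
    have h₀ := GrassRep.algOf_spec (p ≫ X₂.hom)
    rw [F_eq v hv e₁ e₂ B₀ p alg₀ h₀]
    exact (Over.w _).trans h₀.symm
  refine ⟨Over.homMk c₀ hover, ?_⟩
  intro A g
  have hgc : g ≫ Over.homMk c₀ hover = (e₁ A).symm (GrassSub.comapG v hv (e₂ A g)) := by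
    apply Over.OverMorphism.ext
    show g.left ≫ c₀ = _
    rw [hc₀ _ g.left, F_eq v hv e₁ e₂ _ g.left A.algebra (Over.w g)]
    rfl
  rw [hgc, Equiv.apply_symm_apply]
  rfl

include hv he₁ in
theorem isClosedImmersion_of (c : X₂ ⟶ X₁)
    (hc : ∀ (A : CommAlgCat.{u} R)
      (g : Over.mk (Spec.map (CommRingCat.ofHom (algebraMap R A))) ⟶ X₂),
      (e₁ A (g ≫ c)).toSubmodule = (e₂ A g).toSubmodule.comap (v.baseChange A)) :
    IsClosedImmersion c.left := by
  classical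
  -- the closed subfunctor of `X₁`: points whose submodule contains the kernel of `v`
  let P : ClosedFun.AffPred X₁.left := fun B₀ p =>
    ∀ (alg : Algebra R B₀) (hp : p ≫ X₁.hom = Spec.map (CommRingCat.ofHom (algebraMap R B₀))),
      LinearMap.ker (v.baseChange B₀) ≤ (e₁ (CommAlgCat.of R B₀) (Over.homMk p hp)).toSubmodule
  have nat : ∀ (B₀ B₁ : CommRingCat.{u}) (τ : B₀ ⟶ B₁) (g : Spec B₀ ⟶ X₁.left)
      (alg₀ : Algebra R B₀)
      (h₀ : g ≫ X₁.hom = Spec.map (CommRingCat.ofHom (algebraMap R B₀)))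
      (alg₁ : Algebra R B₁)
      (h₁ : (Spec.map τ ≫ g) ≫ X₁.hom = Spec.map (CommRingCat.ofHom (algebraMap R B₁))),
      ∃ f : B₀ →ₐ[R] B₁, f.toRingHom = τ.hom ∧
        e₁ (CommAlgCat.of R B₁) (Over.homMk (Spec.map τ ≫ g) h₁) =
          Module.Grassmannian.map f (e₁ (CommAlgCat.of R B₀) (Over.homMk g h₀)) := by
    intro B₀ B₁ τ g alg₀ h₀ alg₁ h₁
    have hcomm := GrassRep.comm_of_compat τ (by rw [← h₀, ← h₁, Category.assoc])
    exact ⟨GrassRep.algHomOf τ hcomm, rfl, GrassRep.nat e₁ he₁ τ hcomm _ _ rfl⟩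
  have exAlg : ∀ (B₀ : CommRingCat.{u}) (g : Spec B₀ ⟶ X₁.left),
      ∃ (alg : Algebra R B₀), g ≫ X₁.hom = Spec.map (CommRingCat.ofHom (algebraMap R B₀)) :=
    fun B₀ g => ⟨GrassRep.algOf (g ≫ X₁.hom), GrassRep.algOf_spec _⟩
  -- base change
  have hP2 : ∀ (B B' : CommRingCat.{u}) (τ : B ⟶ B') (g : Spec B ⟶ X₁.left),
      P B g → P B' (Spec.map τ ≫ g) := by
    intro B₀ B₁ τ g hP alg₁ h₁
    obtain ⟨alg₀, h₀⟩ := exAlg B₀ g
    obtain ⟨f, -, hf⟩ := nat B₀ B₁ τ g alg₀ h₀ alg₁ h₁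
    rw [hf]
    exact GrassSub.ker_le_map_of_ker_le v hv f _ (hP alg₀ h₀)
  -- locality
  have hP3 : ∀ (B : CommRingCat.{u}) (g : Spec B ⟶ X₁.left) (s : Set B), Ideal.span s = ⊤ →
      (∀ b ∈ s, ∃ (B' : CommRingCat.{u}) (τ : B ⟶ B'),
        (letI := τ.hom.toAlgebra; IsLocalization.Away b B') ∧ P B' (Spec.map τ ≫ g)) → P B g := by
    intro B₀ g s hs hloc alg₀ h₀
    apply GrassSub.ker_le_of_map_localizations v hv _ s hs
    intro b hb
    obtain ⟨B₁, τ, hAway, hPb⟩ := hloc b hb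
    obtain ⟨alg₁, h₁⟩ := exAlg B₁ (Spec.map τ ≫ g)
    obtain ⟨f, hfτ, hf⟩ := nat B₀ B₁ τ g alg₀ h₀ alg₁ h₁
    refine ⟨B₁, inferInstance, alg₁, f, ?_, ?_⟩
    · have : f.toAlgebra = τ.hom.toAlgebra := by
        show f.toRingHom.toAlgebra = τ.hom.toAlgebra
        rw [hfτ]
      rw [this]
      exact hAway
    · rw [← hf]
      exact hPb alg₁ h₁
  -- the local ideals
  have hP1 : ∀ W : X₁.left.affineOpens, ∃ I : Ideal Γ(X₁.left, W), ∀ (B : CommRingCat.{u})
      (σ : Γ(X₁.left, W) ⟶ B), P B (Spec.map σ ≫ W.2.fromSpec) ↔ I ≤ RingHom.ker σ.hom := by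
    intro W
    obtain ⟨algW, hW⟩ := exAlg Γ(X₁.left, W) W.2.fromSpec
    refine ⟨GrassSub.cT (R := R)
      (e₁ (CommAlgCat.of R Γ(X₁.left, W)) (Over.homMk W.2.fromSpec hW)).toSubmodule
      (GrassSub.kerSet v Γ(X₁.left, W)), ?_⟩
    intro B₁ σ
    constructor
    · intro hP
      obtain ⟨alg₁, h₁⟩ := exAlg B₁ (Spec.map σ ≫ W.2.fromSpec)
      obtain ⟨f, hfσ, hf⟩ := nat _ B₁ σ W.2.fromSpec algW hW alg₁ h₁
      have h2 := hP alg₁ h₁
      rw [hf, GrassSub.ker_le_map_iff v hv, hfσ] at h2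
      exact h2
    · intro hI alg₁ h₁
      obtain ⟨f, hfσ, hf⟩ := nat _ B₁ σ W.2.fromSpec algW hW alg₁ h₁
      rw [hf, GrassSub.ker_le_map_iff v hv, hfσ]
      exact hI
  obtain ⟨Z, ι, hι, hZ⟩ := ClosedFun.exists_closedImmersion P hP1 hP2 hP3
  -- the hypothesis on `c`, in absolute form
  have hcl : ∀ (B₀ : CommRingCat.{u}) (alg : Algebra R B₀) (q : Spec B₀ ⟶ X₂.left)
      (hq : q ≫ X₂.hom = Spec.map (CommRingCat.ofHom (algebraMap R B₀)))
      (hqc : (q ≫ c.left) ≫ X₁.hom = Spec.map (CommRingCat.ofHom (algebraMap R B₀))),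
      (e₁ (CommAlgCat.of R B₀) (Over.homMk (q ≫ c.left) hqc)).toSubmodule =
        (e₂ (CommAlgCat.of R B₀) (Over.homMk q hq)).toSubmodule.comap (v.baseChange B₀) := by
    intro B₀ alg q hq hqc
    exact hc (CommAlgCat.of R B₀) (Over.homMk q hq)
  have hcw : c.left ≫ X₁.hom = X₂.hom := Over.w c
  -- `c` is a monomorphism
  haveI : Mono c.left := by
    apply AffYoneda.mono_of_affine
    intro B₀ p p' hpp'
    letI alg := GrassRep.algOf (p ≫ X₂.hom)
    have hp := GrassRep.algOf_spec (p ≫ X₂.hom)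
    have hp' : p' ≫ X₂.hom = Spec.map (CommRingCat.ofHom (algebraMap R B₀)) := by
      refine Eq.trans ?_ hp
      rw [← hcw, ← Category.assoc, ← hpp', Category.assoc]
    have hpc : (p ≫ c.left) ≫ X₁.hom = Spec.map (CommRingCat.ofHom (algebraMap R B₀)) := by
      rw [Category.assoc, hcw]; exact hp
    have hp'c : (p' ≫ c.left) ≫ X₁.hom = Spec.map (CommRingCat.ofHom (algebraMap R B₀)) := by
      rw [Category.assoc, hcw]; exact hp'
    have h1 := hcl B₀ alg p hp hpc
    have h2 := hcl B₀ alg p' hp' hp'c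
    have h3 : (Over.homMk (p ≫ c.left) hpc :
        Over.mk (Spec.map (CommRingCat.ofHom (algebraMap R B₀))) ⟶ X₁) =
        Over.homMk (p' ≫ c.left) hp'c := by
      apply Over.OverMorphism.ext
      exact hpp'
    rw [h3] at h1
    have h4 : (e₂ (CommAlgCat.of R B₀) (Over.homMk p hp)).toSubmodule =
        (e₂ (CommAlgCat.of R B₀) (Over.homMk p' hp')).toSubmodule :=
      Submodule.comap_injective_of_surjective (LinearMap.baseChange_surjective B₀ hv)
        (h1.symm.trans h2)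
    have h5 : (Over.homMk p hp :
        Over.mk (Spec.map (CommRingCat.ofHom (algebraMap R B₀))) ⟶ X₂) = Over.homMk p' hp' :=
      (e₂ (CommAlgCat.of R B₀)).injective (Module.Grassmannian.ext h4)
    exact congrArg (fun g => g.left) h5
  haveI : IsClosedImmersion ι := hι
  obtain ⟨a, ha⟩ := AffYoneda.exists_iso_of_affine ι c.left (by
    intro B₀ p
    rw [hZ B₀ p]
    constructor
    · intro hP
      letI alg := GrassRep.algOf (p ≫ X₁.hom)
      have hp := GrassRep.algOf_spec (p ≫ X₁.hom)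
      obtain ⟨N₂, hN₂⟩ := GrassSub.exists_comapG_eq v hv _ (hP alg hp)
      let gq := (e₂ (CommAlgCat.of R B₀)).symm N₂
      refine ⟨gq.left, ?_⟩
      have hq : gq.left ≫ X₂.hom = Spec.map (CommRingCat.ofHom (algebraMap R B₀)) := Over.w gq
      have hqc : (gq.left ≫ c.left) ≫ X₁.hom = Spec.map (CommRingCat.ofHom (algebraMap R B₀)) := by
        rw [Category.assoc, hcw]; exact hq
      have h1 := hcl B₀ alg gq.left hq hqc
      have h2 : e₂ (CommAlgCat.of R B₀) (Over.homMk gq.left hq) = N₂ :=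
        Equiv.apply_symm_apply _ _
      rw [h2, ← GrassSub.comapG_toSubmodule v hv, hN₂] at h1
      have h3 : (Over.homMk (gq.left ≫ c.left) hqc :
          Over.mk (Spec.map (CommRingCat.ofHom (algebraMap R B₀))) ⟶ X₁) = Over.homMk p hp :=
        (e₁ (CommAlgCat.of R B₀)).injective (Module.Grassmannian.ext h1)
      exact congrArg (fun g => g.left) h3
    · rintro ⟨q, rfl⟩ alg hp
      have hq : q ≫ X₂.hom = Spec.map (CommRingCat.ofHom (algebraMap R B₀)) := by
        rw [← hcw, ← Category.assoc]; exact hp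
      rw [hcl B₀ alg q hq hp]
      exact Submodule.comap_mono bot_le)
  rw [← ha]
  infer_instance

end Helpers


open AlgebraicGeometry CategoryTheory in
/-- Let R be a commutative ring, v : M₁ → M₂ a surjective homomorphism of R-modules and k a natural
number. Suppose X₁ and X₂ are schemes over Spec R representing the Grassmannian functors of rank-k
locally free quotients of M₁ and of M₂ (bijections e₁, e₂ between Spec R-morphisms Spec A → X_i and
submodules of A ⊗_R M_i with finite projective quotient of constant rank k, compatible with base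
change along R-algebra maps). Then there is a Spec R-morphism c : X₂ → X₁ which on A-valued points
sends a submodule N of A ⊗_R M₂ to its preimage under A ⊗ v, and every such c is a closed immersion.
(The published statement is for a surjection of quasi-coherent modules over an arbitrary base
scheme, where the two Grassmannians are known to be schemes; this row takes the base affine and the
two representing schemes as hypotheses, with no finiteness condition on the modules.) -/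
theorem result (R : Type u) [CommRing R]
    (M₁ M₂ : Type u) [AddCommGroup M₁] [Module R M₁]
    [AddCommGroup M₂] [Module R M₂]
    (v : M₁ →ₗ[R] M₂) (hv : Function.Surjective v) (k : ℕ)
    (X₁ X₂ : Over (Spec (CommRingCat.of R)))
    (e₁ : ∀ A : CommAlgCat.{u} R,
      (Over.mk (Spec.map (CommRingCat.ofHom (algebraMap R A))) ⟶ X₁) ≃
        (Module.Grassmannian.functor (R := R) (M := M₁) k).obj A)
    (he₁ : ∀ (A B : CommAlgCat.{u} R) (φ : A ⟶ B)
      (g : Over.mk (Spec.map (CommRingCat.ofHom (algebraMap R A))) ⟶ X₁)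
      (g' : Over.mk (Spec.map (CommRingCat.ofHom (algebraMap R B))) ⟶ X₁),
      g'.left = Spec.map (CommRingCat.ofHom φ.hom.toRingHom) ≫ g.left →
        e₁ B g' = (Module.Grassmannian.functor (R := R) (M := M₁) k).map φ (e₁ A g))
    (e₂ : ∀ A : CommAlgCat.{u} R,
      (Over.mk (Spec.map (CommRingCat.ofHom (algebraMap R A))) ⟶ X₂) ≃
        (Module.Grassmannian.functor (R := R) (M := M₂) k).obj A)
    (he₂ : ∀ (A B : CommAlgCat.{u} R) (φ : A ⟶ B)
      (g : Over.mk (Spec.map (CommRingCat.ofHom (algebraMap R A))) ⟶ X₂)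
      (g' : Over.mk (Spec.map (CommRingCat.ofHom (algebraMap R B))) ⟶ X₂),
      g'.left = Spec.map (CommRingCat.ofHom φ.hom.toRingHom) ≫ g.left →
        e₂ B g' = (Module.Grassmannian.functor (R := R) (M := M₂) k).map φ (e₂ A g)) :
    (∃ c : X₂ ⟶ X₁, ∀ (A : CommAlgCat.{u} R)
        (g : Over.mk (Spec.map (CommRingCat.ofHom (algebraMap R A))) ⟶ X₂),
        (e₁ A (g ≫ c)).toSubmodule = (e₂ A g).toSubmodule.comap (v.baseChange A)) ∧
      ∀ c : X₂ ⟶ X₁, (∀ (A : CommAlgCat.{u} R)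
        (g : Over.mk (Spec.map (CommRingCat.ofHom (algebraMap R A))) ⟶ X₂),
        (e₁ A (g ≫ c)).toSubmodule = (e₂ A g).toSubmodule.comap (v.baseChange A)) →
        IsClosedImmersion c.left := by
  exact ⟨exists_hom v hv e₁ he₁ e₂ he₂, fun c hc => isClosedImmersion_of v hv e₁ he₁ e₂ c hc⟩

end Groth.Agent.S10859
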