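import Groth.Statements.S10865
import Groth.Agent.R2.H54DevKer
import Groth.Agent.R2.H14FinSurj

set_option autoImplicit false
universe u
open Coherent

namespace Groth.Agent.S10865

open CategoryTheory CategoryTheory.Limits AlgebraicGeometry in
/-- Let X be a nonempty Noetherian scheme and K an isomorphism-closed class of O_X-modules such that (a)
in a short exact sequence of coherent modules, if the middle and right terms lie in K so does the
left one, and if the two outer terms lie in K so does the middle one; (b) if a coherent F has some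
d-fold direct sum (d ≥ 1) in K then F lies in K. If for every integral closed subscheme i : Z → X
there is a coherent O_Z-module with nonzero stalk at the generic point whose direct image under i
lies in K, then every coherent O_X-module lies in K. (For the empty scheme the hypotheses hold for
the empty class, so X is taken nonempty here.) -/
theorem result (X : Scheme.{u}) [IsNoetherian X] [Nonempty X]
    (K : ObjectProperty X.Modules) [K.IsClosedUnderIsomorphisms]
    (ha : ∀ S : ShortComplex X.Modules, S.ShortExact → Coh.IsCoh S.X₁ → Coh.IsCoh S.X₂ → Coh.IsCoh S.X₃ →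
      (K S.X₂ → K S.X₃ → K S.X₁) ∧ (K S.X₁ → K S.X₃ → K S.X₂))
    (hb : ∀ (F : X.Modules) (d : ℕ), 1 ≤ d → Coh.IsCoh F → K (∐ fun _ : Fin d => F) → K F)
    (hgen : ∀ (Z : Scheme.{u}) (i : Z ⟶ X) [IsClosedImmersion i] [IsIntegral Z],
      ∃ H : Z.Modules, Coh.IsCoh H ∧ Nontrivial (H.presheaf.stalk (genericPoint Z)) ∧
        K ((Scheme.Modules.pushforward i).obj H))
    (F : X.Modules) (hF : Coh.IsCoh F) : K F := by
  -- `K` contains the zero modules
  have h0 : ∀ M : X.Modules, IsZero M → K M := by
    intro M hM
    obtain ⟨x⟩ := ‹Nonempty X›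
    obtain ⟨Z, i, hi, hZ, -⟩ : ∃ (Z : Scheme.{u}) (i : Z ⟶ X), IsClosedImmersion i ∧ IsIntegral Z ∧ True := by
      refine ⟨_, (Scheme.IdealSheafData.vanishingIdeal
        (⟨closure {x}, isClosed_closure⟩ : TopologicalSpace.Closeds X)).subschemeι, inferInstance,
        Groth.Agent.R2.H14.FinSurj.isIntegral_subscheme_closure_singleton x, trivial⟩
    obtain ⟨H, hH, -, hKH⟩ := hgen Z i
    have hc : Coh.IsCoh ((Scheme.Modules.pushforward i).obj H) := Groth.Agent.S0019.result i H hH
    have hS : (ShortComplex.mk (0 : M ⟶ (Scheme.Modules.pushforward i).obj H)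
        (𝟙 ((Scheme.Modules.pushforward i).obj H)) zero_comp).ShortExact := by
      have : Mono (0 : M ⟶ (Scheme.Modules.pushforward i).obj H) := ⟨fun g h _ => hM.eq_of_tgt g h⟩
      refine ShortComplex.ShortExact.mk' ?_ inferInstance inferInstance
      exact ShortComplex.exact_of_f_is_kernel _ (KernelFork.IsLimit.ofMonoOfIsZero _ inferInstance hM)
    exact (ha _ hS (Groth.Agent.R2.H5.CohThick.isCoh_of_isZero X hM) hc hc).1 hKH hKH
  refine Groth.Agent.R2.H54.DevKer.devissage_ker K (fun M N ⟨e⟩ h => K.prop_of_iso e h) h0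
    (fun S hS h1 h2 h3 => (ha S hS h1 h2 h3).1) (fun S hS h1 h2 h3 => (ha S hS h1 h2 h3).2) hb ?_ F hF
  intro Z i _ _
  obtain ⟨H, hH, hnt, hKH⟩ := hgen Z i
  exact ⟨H, hH, not_subsingleton_iff_nontrivial.2 hnt, hKH⟩

end Groth.Agent.S10865
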