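import Groth.Statements.S10866
import Groth.Agent.R2.H54DevKer
import Groth.Agent.R2.H5CohThick

set_option autoImplicit false
set_option linter.style.haveILetI false
universe u
open Coherent

namespace Groth.Agent.S10866

open AlgebraicGeometry CategoryTheory CategoryTheory.Limits Groth.Agent.R2.H12.Dev
  Groth.Agent.Lib.Helper23.QCohLocal in
/-- Let f : X → Y be a morphism of Noetherian schemes such that for every integral closed subscheme i :
Z → X there is a coherent O_Z-module with nonzero stalk at the generic point of Z whose direct image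
under i followed by f is coherent on Y. Then the direct image f_*F of every coherent O_X-module F is
coherent. -/
theorem result {X Y : Scheme.{u}} [IsNoetherian X] [IsNoetherian Y]
    (f : X ⟶ Y)
    (hgen : ∀ (Z : Scheme.{u}) (i : Z ⟶ X) [IsClosedImmersion i] [IsIntegral Z],
      ∃ H : Z.Modules, Coh.IsCoh H ∧ Nontrivial (H.presheaf.stalk (genericPoint Z)) ∧
        Coh.IsCoh ((Scheme.Modules.pushforward (i ≫ f)).obj H))
    (F : X.Modules) (hF : Coh.IsCoh F) : Coh.IsCoh ((Scheme.Modules.pushforward f).obj F) := by
  haveI : QuasiCompact f := inferInstance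
  haveI : QuasiSeparated f := inferInstance
  have hq : ∀ M : X.Modules, Coh.IsCoh M → ((Scheme.Modules.pushforward f).obj M).IsQuasicoherent := by
    intro M hM
    haveI : M.IsQuasicoherent := hM.1
    exact isQuasicoherent_pushforward f M
  refine Groth.Agent.R2.H54.DevKer.devissage_ker
    (fun M : X.Modules => Coh.IsCoh ((Scheme.Modules.pushforward f).obj M)) ?_ ?_ ?_ ?_ ?_ ?_ F hF
  · -- isomorphisms
    rintro M N ⟨e⟩ h
    exact isCoh_of_iso ((Scheme.Modules.pushforward f).mapIso e) h
  · -- zero
    intro M hM
    exact Groth.Agent.R2.H5.CohThick.isCoh_of_isZero Y ((Scheme.Modules.pushforward f).map_isZero hM)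
  · -- kernels
    intro S hS h1 _ _ h2 h3
    haveI := hS.mono_f
    have hk : IsLimit (KernelFork.ofι S.f S.zero) := hS.fIsKernel
    have hk' := isLimitForkMapOfIsLimit' (Scheme.Modules.pushforward f) S.zero hk
    let e : (Scheme.Modules.pushforward f).obj S.X₁ ≅
        kernel ((Scheme.Modules.pushforward f).map S.g) :=
      hk'.conePointUniqueUpToIso (limit.isLimit _)
    exact isCoh_of_iso e.symm (isCoh_kernel h2 h3 _)
  · -- extensions
    intro S hS _ h2c _ h1 h3
    haveI := hS.mono_f
    have hk : IsLimit (KernelFork.ofι S.f S.zero) := hS.fIsKernel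
    have hk' := isLimitForkMapOfIsLimit' (Scheme.Modules.pushforward f) S.zero hk
    have hq2 := hq S.X₂ h2c
    have hq3 : ((Scheme.Modules.pushforward f).obj S.X₃).IsQuasicoherent := h3.1
    -- the image of `f_* g`
    have himq : (Abelian.image ((Scheme.Modules.pushforward f).map S.g)).IsQuasicoherent := by
      haveI := isQuasicoherent_cokernel ((Scheme.Modules.pushforward f).map S.g)
      exact isQuasicoherent_kernel (cokernel.π ((Scheme.Modules.pushforward f).map S.g))
    have him : Coh.IsCoh (Abelian.image ((Scheme.Modules.pushforward f).map S.g)) :=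
      Groth.Agent.S0046.result Y _ _ (Abelian.image.ι _) h3 himq
    have hS' : (ShortComplex.mk ((Scheme.Modules.pushforward f).map S.f)
        (Abelian.factorThruImage ((Scheme.Modules.pushforward f).map S.g)) (by
          rw [← cancel_mono (Abelian.image.ι _), Category.assoc, Abelian.image.fac, zero_comp,
            ← Functor.map_comp, S.zero, Functor.map_zero])).ShortExact := by
      haveI : Mono ((Scheme.Modules.pushforward f).map S.f) := inferInstance
      refine ShortComplex.ShortExact.mk' ?_ inferInstance inferInstance
      refine ShortComplex.exact_of_f_is_kernel _ ?_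
      refine KernelFork.IsLimit.ofι _ _ (fun {W'} g hg => hk'.lift (KernelFork.ofι g ?_)) ?_ ?_
      · have := hg =≫ Abelian.image.ι ((Scheme.Modules.pushforward f).map S.g)
        simpa using this
      · intro W' g hg
        exact hk'.fac _ WalkingParallelPair.zero
      · intro W' g hg m hm
        refine Fork.IsLimit.hom_ext hk' ?_
        rw [Fork.IsLimit.lift_ι]
        exact hm
    exact (Groth.Agent.R2.H5.CohThick.cohP Y).prop_X₂_of_shortExact hS' h1 him
  · -- power roots
    intro M d hd hM h
    obtain ⟨e⟩ := Groth.Agent.R2.H54.DevKer.nonempty_push_sigma_iso f d M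
    have hqM := hq M hM
    haveI : Mono ((Scheme.Modules.pushforward f).map (Sigma.ι (fun _ : Fin d => M) ⟨0, hd⟩)) := by
      classical
      have hfac : (Scheme.Modules.pushforward f).map (Sigma.ι (fun _ : Fin d => M) ⟨0, hd⟩) ≫
          (Scheme.Modules.pushforward f).map
            (Sigma.desc (fun k : Fin d => if k = ⟨0, hd⟩ then 𝟙 M else 0)) = 𝟙 _ := by
        rw [← Functor.map_comp, Sigma.ι_desc, if_pos rfl, CategoryTheory.Functor.map_id]
      exact mono_of_mono_fac hfac
    exact Groth.Agent.S0046.result Y _ _
      ((Scheme.Modules.pushforward f).map (Sigma.ι (fun _ : Fin d => M) ⟨0, hd⟩)) h hqM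
  · -- generators
    intro Z i _ _
    obtain ⟨H, hH, hnt, hc⟩ := hgen Z i
    exact ⟨H, hH, not_subsingleton_iff_nontrivial.2 hnt,
      isCoh_of_iso ((Scheme.Modules.pushforwardComp i f).symm.app H) hc⟩

end Groth.Agent.S10866
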