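import Groth.Statements.S11259
import Groth.Agent.R2.H50PlCell
import Groth.Agent.R2.H50Normal
import Groth.Agent.R2.H50PlRadical
-- import your own Groth.Agent.* helpers here

set_option autoImplicit false
universe u
open W4bk4grassmannian

namespace Groth.Agent.S11259

open W4bk4grassmannian in
/-- Let K be an algebraically closed field, 0 < d < n, and I(d,n) the strictly increasing maps Fin d →
Fin n ordered entrywise; S = K[X_θ : θ ∈ I(d,n)] is the Plücker polynomial ring and, for τ ∈ I(d,n),
J(τ) ⊆ S is the ideal of polynomials vanishing at the d × d row-minors of every n × d matrix over K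
whose minors on rows φ ≰ τ are zero (the homogeneous ideal of the Schubert variety X(τ) ⊆ G(d,n)).
Then S/J(τ), the coordinate ring of the cone over X(τ), is a domain that is integrally closed in its
field of fractions. -/
theorem result (K : Type u) [Field K] [IsAlgClosed K] (d n : ℕ)
    (hd : 0 < d) (hdn : d < n) (τ : Idx d n) :
    IsDomain (PlRing K d n ⧸ schubertVanishing K d n τ) ∧
      IsIntegrallyClosed (PlRing K d n ⧸ schubertVanishing K d n τ) := by
  have hdom := Groth.Agent.R2.H50.PlCell.isDomain_schubertRing K τ hd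
  refine ⟨hdom, ?_⟩
  have hs : Groth.Agent.R2.H50.PlCell.cellQuot K τ hd
      (Ideal.Quotient.mk (schubertVanishing K d n τ) (MvPolynomial.X τ)) = MvPolynomial.X none := by
    rw [Groth.Agent.R2.H50.PlCell.cellQuot_mk, Groth.Agent.R2.H50.PlCell.cellMap_X_self]
  refine Groth.Agent.R2.H50.Normal.isIntegrallyClosed_of_embedding
    (Groth.Agent.R2.H50.PlCell.cellQuot K τ hd).toRingHom
    (Groth.Agent.R2.H50.PlCell.cellQuot_injective K τ hd)
    (Ideal.Quotient.mk (schubertVanishing K d n τ) (MvPolynomial.X τ)) ?_
    (Groth.Agent.R2.H50.PlRadical.span_mk_X_isRadical K τ hd) ?_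
  · intro h0
    rw [Ideal.Quotient.eq_zero_iff_mem] at h0
    exact Groth.Agent.R2.H50.PlCell.X_notMem_schubertVanishing K τ τ hd le_rfl h0
  · intro q
    obtain ⟨k, r, hr⟩ := Groth.Agent.R2.H50.PlCell.exists_pow_mul_eq_cellQuot K τ hd q
    refine ⟨k, r, ?_⟩
    show Groth.Agent.R2.H50.PlCell.cellQuot K τ hd r =
      Groth.Agent.R2.H50.PlCell.cellQuot K τ hd
        (Ideal.Quotient.mk (schubertVanishing K d n τ) (MvPolynomial.X τ)) ^ k * q
    rw [hr, hs]

end Groth.Agent.S11259
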