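import Groth.Statements.S11264
import Groth.Agent.R2.H50DetCM
import Groth.Agent.S11259

set_option autoImplicit false
universe u
open W4bk4grassmannian

namespace Groth.Agent.S11264

open W4bk4grassmannian in
/-- Determinantal varieties are normal Cohen–Macaulay and integral, with their dimension: let K be an
algebraically closed field, m, n ≥ 1, 1 ≤ t ≤ min(m, n), R = K[x_{ij}] the coordinate ring of m × n
matrices and I_t ⊆ R the ideal generated by the t × t minors of the generic matrix. Then R/I_t is an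
integral domain, integrally closed, Cohen–Macaulay, and of Krull dimension (t - 1)(m + n - t + 1). -/
theorem result (K : Type u) [Field K] [IsAlgClosed K] (m n t : ℕ)
    (hm : 0 < m) (hn : 0 < n) (ht : 1 ≤ t) (htm : t ≤ m) (htn : t ≤ n) :
    IsDomain (MvPolynomial (Fin m × Fin n) K ⧸ CAlgX.minorIdeal (genMatrix K m n) t) ∧
      IsIntegrallyClosed (MvPolynomial (Fin m × Fin n) K ⧸ CAlgX.minorIdeal (genMatrix K m n) t) ∧
      LocCoh.IsCohenMacaulayRing (MvPolynomial (Fin m × Fin n) K ⧸ CAlgX.minorIdeal (genMatrix K m n) t) ∧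
      ringKrullDim (MvPolynomial (Fin m × Fin n) K ⧸ CAlgX.minorIdeal (genMatrix K m n) t) =
        (((t - 1) * (m + n - t + 1) : ℕ) : WithBot ℕ∞) := by
  have hdn : n < n + m := by omega
  have hφ := Groth.Agent.S11259.result K n (n + m) hn hdn (Groth.Agent.R2.H50.DetIdx.detIdx n m t ht htm)
  haveI : IsIntegrallyClosed (Groth.Agent.R2.H50.PlCell.SchubertRing K
      (Groth.Agent.R2.H50.DetIdx.detIdx n m t ht htm)) := hφ.2
  have hdom : IsDomain (Groth.Agent.R2.H50.DetCell.DetRing K n m t) :=
    Groth.Agent.R2.H50.DetRing.isDomain_detRing K n m hn ht htn htm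
  have hgood := Groth.Agent.R2.H50.DetCM.good_detIdeal K n m hn ht htm
    (Groth.Agent.R2.H50.PlCM.good_schubert K hn hdn (Groth.Agent.R2.H50.DetIdx.detIdx n m t ht htm))
  have hne : Groth.Agent.R2.H50.DetCM.detIdeal K n m ht htm ≠ ⊤ := by
    rw [← Groth.Agent.R2.H50.DetCM.ker_pi0 K n m hn ht htn htm]
    exact RingHom.ker_ne_top _
  refine ⟨hdom, Groth.Agent.R2.H50.DetRing.isIntegrallyClosed_detRing K n m hn ht htn htm, ?_, ?_⟩
  · haveI := Groth.Agent.R2.H50.PlCM.cmRing_of_good K _ _ hgood
    exact Groth.Agent.Lib.Helper28.isCohenMacaulayRing_of_ringEquiv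
      (Groth.Agent.R2.H50.DetCM.detEquiv K n m hn ht htn htm)
  · have h1 := Groth.Agent.R2.H50.DetCM.ringKrullDim_of_good K _ _ hgood hne
    rw [Groth.Agent.R2.H50.DetIdx.codeg_detIdx n m t ht htn htm] at h1
    rw [← h1]
    exact (ringKrullDim_eq_of_ringEquiv (Groth.Agent.R2.H50.DetCM.detEquiv K n m hn ht htn htm)).symm

end Groth.Agent.S11264
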