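import Groth.Statements.S10870
import Groth.Agent.R2.H50DetBaseChange
import Groth.Agent.S11264

set_option autoImplicit false
universe u
open CAlgX

namespace Groth.Agent.S10870

/-- For a field k and 0 ≤ r ≤ min(n, m), the affine determinantal scheme of n × m matrices of rank at
most r over k — the spectrum of the polynomial ring on the entries of the generic n × m matrix
modulo the ideal of its (r+1) × (r+1) minors — has dimension r(m + n − r). -/
theorem result (k : Type u) [Field k] (n m r : ℕ) (hr : r ≤ min n m) :
    ringKrullDim (MvPolynomial (Fin n × Fin m) k ⧸ CAlgX.minorIdeal (Matrix.of fun (i : Fin n) (j : Fin m) => (MvPolynomial.X (i, j) : MvPolynomial (Fin n × Fin m) k)) (r + 1)) =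
      ((r * (m + n - r) : ℕ) : WithBot ℕ∞) := by
  classical
  have hgen : (Matrix.of fun (i : Fin n) (j : Fin m) => (MvPolynomial.X (i, j) : MvPolynomial (Fin n × Fin m) k)) =
      W4bk4grassmannian.genMatrix k n m := rfl
  rw [hgen]
  rcases Nat.lt_or_ge r (min n m) with hlt | hge
  · -- the generic case: base change to the algebraic closure
    have hn : 0 < n := by omega
    have hm : 0 < m := by omega
    have htn : r + 1 ≤ n := by omega
    have htm : r + 1 ≤ m := by omega
    have h1 := (Groth.Agent.S11264.result (AlgebraicClosure k) n m (r + 1) hn hm (by omega) htn htm).2.2.2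
    rw [← Groth.Agent.R2.H50.DetBaseChange.map_minorIdeal k (AlgebraicClosure k) n m (r + 1),
      Groth.Agent.R2.H50.DetBaseChange.ringKrullDim_quotient_map_eq] at h1
    rw [h1]
    have e1 : r + 1 - 1 = r := by omega
    have e2 : n + m - (r + 1) + 1 = m + n - r := by omega
    rw [e1, e2]
  · -- no minors of size `r + 1`
    have hr' : r = min n m := le_antisymm hr hge
    rw [Groth.Agent.R2.H50.DetBaseChange.minorIdeal_eq_bot_of_lt k n m (r + 1) (by omega)]
    rw [ringKrullDim_eq_of_ringEquiv (RingEquiv.quotientBot _)]
    rw [MvPolynomial.ringKrullDim_of_isNoetherianRing, ringKrullDim_eq_zero_of_field, zero_add]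
    rw [Nat.card_eq_fintype_card, Fintype.card_prod, Fintype.card_fin, Fintype.card_fin]
    congr 1
    rcases le_total n m with h | h
    · rw [hr', min_eq_left h]
      have : m + n - n = m := by omega
      rw [this]
    · rw [hr', min_eq_right h]
      have : m + n - m = n := by omega
      rw [this, mul_comm]

end Groth.Agent.S10870
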