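import Groth.Statements.S10883
import Groth.Agent.R2.H50DetSmooth

set_option autoImplicit false
universe u
open CAlgX

namespace Groth.Agent.S10883

open Groth.Agent.R2.H50.DetSmooth W4bk4grassmannian in
theorem aux (k : Type u) [Field k] (n m r : ℕ) (hn : r + 1 ≤ n) (hm : r + 1 ≤ m)
    (P : Ideal (MvPolynomial (Fin n × Fin m) k ⧸ CAlgX.minorIdeal (genMatrix k n m) (r + 1))) [hP : P.IsPrime] :
    Algebra.FormallySmooth k (Localization.AtPrime P) ↔
      ¬ (CAlgX.minorIdeal (genMatrix k n m) r).map
          (Ideal.Quotient.mk (CAlgX.minorIdeal (genMatrix k n m) (r + 1))) ≤ P := by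
  have hqp : (P.comap (Ideal.Quotient.mk (CAlgX.minorIdeal (genMatrix k n m) (r + 1)))).IsPrime :=
    Ideal.comap_isPrime _ _
  have hJq : CAlgX.minorIdeal (genMatrix k n m) (r + 1) ≤
      P.comap (Ideal.Quotient.mk (CAlgX.minorIdeal (genMatrix k n m) (r + 1))) := by
    intro x hx
    rw [Ideal.mem_comap, Ideal.Quotient.eq_zero_iff_mem.mpr hx]
    exact Ideal.zero_mem _
  have hPq : (P.comap (Ideal.Quotient.mk (CAlgX.minorIdeal (genMatrix k n m) (r + 1)))).map
      (Ideal.Quotient.mk (CAlgX.minorIdeal (genMatrix k n m) (r + 1))) = P :=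
    Ideal.map_comap_of_surjective _ Ideal.Quotient.mk_surjective P
  rw [Ideal.map_le_iff_le_comap]
  have key : ∀ (q : Ideal (MvPolynomial (Fin n × Fin m) k)) [q.IsPrime]
      (_ : CAlgX.minorIdeal (genMatrix k n m) (r + 1) ≤ q)
      (P' : Ideal (MvPolynomial (Fin n × Fin m) k ⧸ CAlgX.minorIdeal (genMatrix k n m) (r + 1))) [P'.IsPrime],
      P' = q.map (Ideal.Quotient.mk (CAlgX.minorIdeal (genMatrix k n m) (r + 1))) →
      (Algebra.FormallySmooth k (Localization.AtPrime P') ↔ ¬ CAlgX.minorIdeal (genMatrix k n m) r ≤ q) := by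
    intro q hq hJq' P' hP' h
    subst h
    constructor
    · intro hsm hle'
      exact not_formallySmooth_of_le hn hm q hJq' hle' hsm
    · intro hle'
      exact formallySmooth_of_not_le q hJq' hle'
  exact key _ hJq P hPq.symm

/-- Let k be a field and 0 < r < min(n, m), and let B be the coordinate ring of the affine determinantal
scheme of n × m matrices of rank at most r over k (polynomial ring on the entries of the generic
matrix modulo its (r+1) × (r+1) minors). A prime P of B is a smooth point over k (the localization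
B_P is formally smooth over k) exactly when it corresponds to a matrix of rank exactly r, i.e. when
P does not contain the image of the ideal generated by the r × r minors. -/
theorem result (k : Type u) [Field k] (n m r : ℕ) (hr0 : 0 < r)
    (hr : r < min n m)
    (P : PrimeSpectrum (MvPolynomial (Fin n × Fin m) k ⧸ CAlgX.minorIdeal (Matrix.of fun (i : Fin n) (j : Fin m) => (MvPolynomial.X (i, j) : MvPolynomial (Fin n × Fin m) k)) (r + 1))) :
    P ∈ Algebra.smoothLocus k (MvPolynomial (Fin n × Fin m) k ⧸ CAlgX.minorIdeal (Matrix.of fun (i : Fin n) (j : Fin m) => (MvPolynomial.X (i, j) : MvPolynomial (Fin n × Fin m) k)) (r + 1)) ↔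
      ¬ (CAlgX.minorIdeal (Matrix.of fun (i : Fin n) (j : Fin m) => (MvPolynomial.X (i, j) : MvPolynomial (Fin n × Fin m) k)) r).map
          (Ideal.Quotient.mk (CAlgX.minorIdeal (Matrix.of fun (i : Fin n) (j : Fin m) => (MvPolynomial.X (i, j) : MvPolynomial (Fin n × Fin m) k)) (r + 1))) ≤ P.asIdeal := by
  have hn : r + 1 ≤ n := by have := lt_of_lt_of_le hr (min_le_left n m); omega
  have hm : r + 1 ≤ m := by have := lt_of_lt_of_le hr (min_le_right n m); omega
  exact aux k n m r hn hm P.asIdeal (hP := P.isPrime)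

end Groth.Agent.S10883
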