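import Groth.Statements.S10912
import Groth.Agent.R2.H49OrdOpen

set_option autoImplicit false
universe u
open CategoryTheory CategoryTheory.Limits AlgebraicGeometry TopologicalSpace
open WDiv

namespace Groth.Agent.S10912

/-- Let X be an integral Noetherian separated scheme which is regular in codimension 1, and U a nonempty
open subscheme whose complement has codimension at least 2: every point not in U has coheight ≥ 2 in
the specialization order. Then restriction identifies the divisor class groups of X and U;
concretely, since all points of coheight 1 lie in U, a Weil divisor D on X (integer-valued function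
with finite support inside the coheight-1 points) is the divisor of a nonzero rational function on X
if and only if its restriction to U is the divisor of a nonzero rational function on U. -/
theorem result (X : Scheme.{u}) [IsIntegral X]
    [IsNoetherian X] [X.IsSeparated]
    (hR1 : ∀ x : ↥X, Order.coheight x = 1 → IsDiscreteValuationRing ↑(X.presheaf.stalk x))
    (U : X.Opens) [Nonempty U] (hcod : ∀ x : ↥X, x ∉ U → 2 ≤ Order.coheight x)
    (D : ↥X → ℤ) (hD : ∀ x, Order.coheight x ≠ 1 → D x = 0) (hfin : {x | D x ≠ 0}.Finite) :
    (∃ f : ↑X.functionField, f ≠ 0 ∧ ∀ x : ↥X, Order.coheight x = 1 → Scheme.ord f x = D x) ↔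
      ∃ g : ↑(U : Scheme.{u}).functionField, g ≠ 0 ∧
        ∀ u : ↥(U : Scheme.{u}), Order.coheight u = 1 → Scheme.ord g u = D u.1 := by
  constructor
  · rintro ⟨f, hf, hfD⟩
    refine ⟨(Groth.Agent.R2.H49.OrdOpen.ffMap U.ι).hom f, ?_, ?_⟩
    · intro h0
      apply hf
      apply Groth.Agent.R2.H49.OrdOpen.ffMap_injective U.ι
      rw [h0, map_zero]
    · intro u hu
      rw [Groth.Agent.R2.H49.OrdOpen.ord_ffMap U.ι u f]
      have h1 : Order.coheight (U.ι u) = 1 := by
        rw [Groth.Agent.R2.H49.OrdOpen.coheight_eq]; exact hu
      exact hfD _ h1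
  · rintro ⟨g, hg, hgD⟩
    obtain ⟨f, rfl⟩ := Groth.Agent.R2.H49.OrdOpen.ffMap_surjective U.ι g
    refine ⟨f, ?_, ?_⟩
    · rintro rfl
      exact hg (map_zero _)
    · intro x hx
      have hxU : x ∈ U := by
        by_contra hxU
        have := hcod x hxU
        rw [hx] at this
        exact absurd this (by norm_num)
      obtain ⟨u, hu⟩ : ∃ u : ↥(U : Scheme.{u}), U.ι u = x := ⟨⟨x, hxU⟩, rfl⟩
      subst hu
      have h1 : Order.coheight u = 1 :=
        (Groth.Agent.R2.H49.OrdOpen.coheight_eq U.ι u).symm.trans hx
      have h2 := hgD u h1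
      rw [Groth.Agent.R2.H49.OrdOpen.ord_ffMap U.ι u f] at h2
      exact h2

end Groth.Agent.S10912
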