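import Groth.Statements.S10930
import Groth.Agent.R2.H34GenSmooth
import Groth.Agent.Lib.Helper6SmRegSch

set_option autoImplicit false
set_option linter.style.haveILetI false
universe u
open CategoryTheory CategoryTheory.Limits AlgebraicGeometry
open Variety

namespace Groth.Agent.S10930

/-- Let k be an algebraically closed field of characteristic zero, X and Y varieties over k (integral,
separated and of finite type over k) with X nonsingular, i.e. smooth over k, and f : X → Y a
k-morphism. Then there is a nonempty open subscheme V of Y such that the restriction f⁻¹(V) → V of f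
is smooth. -/
theorem result (k : Type u) [Field k] [IsAlgClosed k] [CharZero k]
    {X Y : Scheme.{u}} (qX : X ⟶ Spec (CommRingCat.of k)) (qY : Y ⟶ Spec (CommRingCat.of k))
    [LocallyOfFiniteType qX] [QuasiCompact qX] [IsSeparated qX] [Smooth qX]
    [LocallyOfFiniteType qY] [QuasiCompact qY] [IsSeparated qY]
    [IsIntegral X] [IsIntegral Y] (f : X ⟶ Y) (hf : f ≫ qY = qX) :
    ∃ V : Y.Opens, (V : Set ↥Y).Nonempty ∧ Smooth (f ∣_ V) := by
  haveI : IsLocallyNoetherian X := LocallyOfFiniteType.isLocallyNoetherian qX
  haveI : IsLocallyNoetherian Y := LocallyOfFiniteType.isLocallyNoetherian qY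
  have hreg : ∀ x : X, IsRegularLocalRing (X.presheaf.stalk x) := fun x =>
    Groth.Agent.Lib.Helper6.SmRegSch.isRegularLocalRing_stalk_of_smooth_over_field k X qX x
  haveI : LocallyOfFiniteType (f ≫ qY) := by rw [hf]; infer_instance
  haveI : LocallyOfFiniteType f := locallyOfFiniteType_of_comp f qY
  haveI : LocallyOfFinitePresentation f := inferInstance
  haveI : QuasiCompact (f ≫ qY) := by rw [hf]; infer_instance
  haveI : QuasiCompact f := QuasiCompact.of_comp f qY
  -- the function field has characteristic zero
  haveI : Nonempty Y := inferInstance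
  obtain ⟨W, hW, hξW, -⟩ :=
    exists_isAffineOpen_mem_and_subset (X := Y) (x := genericPoint Y) (U := ⊤) trivial
  let φ : k →+* Y.functionField :=
    ((Y.presheaf.germ W (genericPoint Y) hξW).hom.comp (qY.appLE ⊤ W le_top).hom).comp
      (Scheme.ΓSpecIso (CommRingCat.of k)).inv.hom
  have h0 : CharZero Y.functionField := charZero_of_injective_ringHom φ.injective
  haveI : PerfectField Y.functionField := @PerfectField.ofCharZero _ _ h0
  obtain ⟨V, hV, hsm⟩ := Groth.Agent.R2.H34.GenSmooth.exists_dense_open_smooth X Y hreg f
  exact ⟨V, hV.nonempty, hsm⟩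

end Groth.Agent.S10930
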