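import Groth.Statements.S10940
import Groth.Agent.S10939
import Groth.Agent.S9705
import Groth.Agent.Lib.Helper6DimAff

set_option autoImplicit false
universe u
open CategoryTheory CategoryTheory.Limits AlgebraicGeometry
open Variety

namespace Groth.Agent.S10940

/-- Let k be a field and X a quasi-projective variety over k of dimension r: an integral scheme with an
immersion j : X → P^n_k. Then X admits a cover by r + 1 affine open subschemes. (Consequently the
cohomology of every quasi-coherent O_X-module vanishes above degree r; that consequence is the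
general vanishing above the number of affines in a cover and is not restated here. The published
statement is for varieties over an algebraically closed field; the argument, r + 1 hypersurfaces
through the boundary of the closure of X, works over any field, so k is an arbitrary field here.) -/
theorem result (k : Type u) [Field k] (n r : ℕ)
    {X : Scheme.{u}} (j : X ⟶ CohB1.ProjSpace n k) [IsImmersion j] [IsIntegral X]
    (hX : topologicalKrullDim ↥X = r) :
    ∃ U : Fin (r + 1) → X.Opens, (∀ i, IsAffineOpen (U i)) ∧ ⨆ i, U i = ⊤ := by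
  have hP : IsProper (CohB1.ProjSpace.toSpec n k) := Groth.Agent.S9705.isProper_projSpace_toSpec n k
  have hPN : IsLocallyNoetherian (CohB1.ProjSpace n k) :=
    LocallyOfFiniteType.isLocallyNoetherian (CohB1.ProjSpace.toSpec n k)
  have hPC : CompactSpace (CohB1.ProjSpace n k) :=
    QuasiCompact.compactSpace_of_compactSpace (CohB1.ProjSpace.toSpec n k)
  have hPNoe : IsNoetherian (CohB1.ProjSpace n k) := {}
  have hXN : TopologicalSpace.NoetherianSpace X :=
    j.isEmbedding.isInducing.noetherianSpace
  have hjqc : QuasiCompact j := inferInstance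
  -- the scheme-theoretic closure
  let iX : j.image ⟶ CohB1.ProjSpace n k := j.imageι
  let g : X ⟶ j.image := j.toImage
  have hg : IsOpenImmersion g := inferInstance
  have hgi : g ≫ iX = j := j.toImage_imageι
  -- the boundary
  let Z : TopologicalSpace.Closeds (CohB1.ProjSpace n k) :=
    ⟨iX '' (Set.range g)ᶜ, iX.isClosedEmbedding.isClosedMap _ g.isOpenEmbedding.isOpen_range.isClosed_compl⟩
  let I := Scheme.IdealSheafData.vanishingIdeal Z
  let iY : I.subscheme ⟶ CohB1.ProjSpace n k := I.subschemeι
  have hrY : Set.range iY = iX '' (Set.range g)ᶜ := by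
    rw [Scheme.IdealSheafData.range_subschemeι]
    simp [I, Z]
  -- dimension of the closure
  have hdim : topologicalKrullDim ↥j.image = r := by
    have hc : CompactSpace ↥j.image := iX.isClosedEmbedding.compactSpace
    have hlft : LocallyOfFiniteType (iX ≫ CohB1.ProjSpace.toSpec n k) := inferInstance
    have hdense : Dense (g.opensRange : Set ↥j.image) := by
      have : IsDominant g := inferInstance
      exact g.denseRange
    rw [Groth.Agent.Lib.Helper6.DimAff.topologicalKrullDim_eq_of_dense k
      (iX ≫ CohB1.ProjSpace.toSpec n k) g.opensRange hdense, ← hX]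
    symm
    exact IsHomeomorph.topologicalKrullDim_eq _
      (g.isOpenEmbedding.isEmbedding.toHomeomorph).isHomeomorph
  obtain ⟨h, D, hD, hh, hDY, hDX, hDaff⟩ :=
    Groth.Agent.S10939.result k n r iX iY hdim
  refine ⟨fun i => j ⁻¹ᵁ (D i), fun i => ?_, ?_⟩
  · -- affine
    have h1 : j ⁻¹ᵁ (D i) = g ⁻¹ᵁ (iX ⁻¹ᵁ (D i)) :=
      (congrArg (fun f : X ⟶ CohB1.ProjSpace n k => f ⁻¹ᵁ (D i)) hgi.symm).trans rfl
    show IsAffineOpen (j ⁻¹ᵁ (D i))
    rw [h1]
    apply (hDaff i).preimage_of_isOpenImmersion g
    intro y hy
    by_contra hyg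
    have : iX y ∈ Set.range iY := by
      rw [hrY]
      exact ⟨y, hyg, rfl⟩
    exact hDY i this hy
  · rw [eq_top_iff]
    intro x _
    have hjx : j x = iX (g x) := by
      show j x = (g ≫ iX) x
      rw [hgi]
    have hx1 : j x ∈ Set.range iX := ⟨g x, hjx.symm⟩
    have hx2 : j x ∉ Set.range iY := by
      rw [hrY]
      rintro ⟨y, hy, hyx⟩
      apply hy
      have : iX y = iX (g x) := by rw [hyx, hjx]
      exact ⟨x, (iX.isClosedEmbedding.injective this).symm⟩
    have := hDX ⟨hx1, hx2⟩
    obtain ⟨i, hi⟩ := Set.mem_iUnion.mp this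
    exact TopologicalSpace.Opens.mem_iSup.mpr ⟨i, hi⟩

end Groth.Agent.S10940
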