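import Groth.Statements.S10946
import Groth.Agent.S9819
import Groth.Agent.S0016
import Groth.Agent.Lib.Helper13ModAffine
import Groth.Agent.R2.H1CohSum
import Groth.Agent.R2.H62CohDelta
import Groth.Agent.Lib.Helper23QCohAbelian

set_option autoImplicit false
universe u
open CategoryTheory AlgebraicGeometry
open Coherent

namespace Groth.Agent.S10946

/-- Let X be a Noetherian separated scheme and n a natural number such that H^i(X, F) = 0 for all
coherent O_X-modules F and all i > n. Then H^i(X, G) = 0 for all quasi-coherent O_X-modules G and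
all i > n. -/
theorem result (X : Scheme.{u}) [IsNoetherian X]
    [X.IsSeparated] (n : ℕ)
    (h : ∀ F : X.Modules, Coh.IsCoh F → ∀ i : ℕ, n < i → Subsingleton (Coh.HH X F i))
    (G : X.Modules) (hG : Coh.IsQCoh G) (i : ℕ) (hi : n < i) :
    Subsingleton (Coh.HH X G i) := by
  have hXC : CompactSpace X := inferInstance
  have hqs : QuasiSeparatedSpace X := inferInstance
  obtain ⟨d, hd⟩ := Groth.Agent.S0016.result X
  have key : ∀ m p : ℕ, n < p → d ≤ p + m → ∀ K : X.Modules, Coh.IsQCoh K →
      Subsingleton (Coh.HH X K p) := by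
    intro m
    induction m with
    | zero =>
      intro p hp hdp K hK
      exact hd K hK p (by omega)
    | succ m ih =>
      intro p hp hdp K hK
      have hKq : K.IsQuasicoherent := hK
      -- the family of coherent submodules through sections over affine opens
      let I : Type u := Σ U : X.affineOpens, K.val.obj (Opposite.op (U : X.Opens))
      have hch : ∀ a : I, ∃ (F : X.Modules) (j : F ⟶ K), Mono j ∧ Coh.IsQCoh F ∧ CohB1.IsFT F ∧
          ∃ g : F.val.obj (Opposite.op (a.1 : X.Opens)),
            (j.val.app (Opposite.op (a.1 : X.Opens))).hom g = a.2 :=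
        fun a => Groth.Agent.S9819.result K a.1 a.2
      choose Fa ja hjm hFq hFt ga hga using hch
      let π : (∐ Fa) ⟶ K := CategoryTheory.Limits.Sigma.desc ja
      have hπ : Epi π := by
        apply CategoryTheory.Preadditive.epi_of_cancel_zero
        intro Z g hg
        apply Groth.Agent.Helper13ModAffine.hom_ext_affine
        intro U hU
        ext s
        have h1 : ja ⟨⟨U, hU⟩, s⟩ ≫ g = 0 := by
          have h2 : CategoryTheory.Limits.Sigma.ι Fa ⟨⟨U, hU⟩, s⟩ ≫ π = ja ⟨⟨U, hU⟩, s⟩ :=
            CategoryTheory.Limits.Sigma.ι_desc ja _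
          rw [← h2, Category.assoc, hg, CategoryTheory.Limits.comp_zero]
        have h3 := hga ⟨⟨U, hU⟩, s⟩
        have h4 := congrArg (fun φ : Fa ⟨⟨U, hU⟩, s⟩ ⟶ Z => φ.app U (ga ⟨⟨U, hU⟩, s⟩)) h1
        change g.app U ((ja ⟨⟨U, hU⟩, s⟩).app U (ga ⟨⟨U, hU⟩, s⟩)) = 0 at h4
        change g.app U s = 0
        rw [← h4]
        exact congrArg _ h3.symm
      let S : CategoryTheory.ShortComplex X.Modules :=
        CategoryTheory.ShortComplex.mk (CategoryTheory.Limits.kernel.ι π) π
          (CategoryTheory.Limits.kernel.condition π)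
      have hS : S.ShortExact :=
        { exact := CategoryTheory.ShortComplex.exact_kernel π
          mono_f := inferInstanceAs (Mono (CategoryTheory.Limits.kernel.ι π))
          epi_g := hπ }
      have hG : Subsingleton (Coh.HH X (∐ Fa) p) :=
        Groth.Agent.R2.H1.CohSum.subsingleton_HH_sigma X p _
          (fun a => h (Fa a) ⟨hFq a, hFt a⟩ p hp)
      have hGq : (∐ Fa).IsQuasicoherent :=
        Groth.Agent.Lib.Helper23.QCohLocal.isQuasicoherent_colimit _ (fun a => hFq a.as)
      have hKerq : (CategoryTheory.Limits.kernel π).IsQuasicoherent :=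
        Groth.Agent.Lib.Helper23.QCohLocal.isQuasicoherent_kernel π
      have hKer : Subsingleton (Coh.HH X (CategoryTheory.Limits.kernel π) (p + 1)) :=
        ih (p + 1) (by omega) (by omega) _ hKerq
      have hz : ∀ a : Coh.HH X K p, a = 0 := by
        intro a
        have h1 : Groth.Agent.R2.H62.CohLES.δ hS p a = 0 := @Subsingleton.elim _ hKer _ _
        obtain ⟨y, hy⟩ := (Groth.Agent.R2.H62.CohLES.exact_g_δ hS p a).1 h1
        have hy0 : y = 0 := @Subsingleton.elim _ hG _ _
        rw [← hy, hy0, map_zero]
      exact ⟨fun a b => (hz a).trans (hz b).symm⟩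
  exact key d i hi (by omega) G hG

end Groth.Agent.S10946
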