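import Groth.Statements.S10947
import Groth.Agent.R2.H91PnAffine
import Groth.Agent.Lib.Helper23PB2
import Groth.Agent.S9705
import Groth.Agent.S1108
import Groth.Agent.S0046
import Groth.Agent.S0016
import Groth.Agent.R2.H89RankAdd
import Groth.Agent.R2.H62CohDelta
import Groth.Agent.Lib.Helper23QCohAbelian

set_option autoImplicit false
universe u
open CategoryTheory AlgebraicGeometry
open Coherent

namespace Groth.Agent.S10947

/-- Let k be a field and X a quasi-projective scheme over k, given with an immersion ι : X → P^N_k into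
a projective space. If n is a natural number with H^i(X, E) = 0 for all finite locally free
O_X-modules E and all i > n, then H^i(X, F) = 0 for all coherent O_X-modules F (quasi-coherent of
finite type) and all i > n. -/
theorem result
    (k : Type u) [Field k] (N : ℕ) {X : Scheme.{u}} (ι : X ⟶ CohB1.ProjSpace N k) [IsImmersion ι]
    (n : ℕ) (h : ∀ E : X.Modules, FlatMod.IsFinLocFree E → ∀ i : ℕ, n < i → Subsingleton (Coh.HH X E i))
    (F : X.Modules) (hF : Coh.IsCoh F) (i : ℕ) (hi : n < i) :
    Subsingleton (Coh.HH X F i) := by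
  -- `P^N_k` is a Noetherian scheme, hence so is `X`
  have hP : IsProper (CohB1.ProjSpace.toSpec N k) :=
    Groth.Agent.S9705.isProper_projSpace_toSpec N k
  have hPN : IsLocallyNoetherian (CohB1.ProjSpace N k) :=
    LocallyOfFiniteType.isLocallyNoetherian (CohB1.ProjSpace.toSpec N k)
  have hPC : CompactSpace (CohB1.ProjSpace N k) :=
    QuasiCompact.compactSpace_of_compactSpace (CohB1.ProjSpace.toSpec N k)
  have hPNoe : IsNoetherian (CohB1.ProjSpace N k) := {}
  have hXN : TopologicalSpace.NoetherianSpace X := ι.isEmbedding.isInducing.noetherianSpace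
  have hXC : CompactSpace X := inferInstance
  have hXLN : IsLocallyNoetherian X := LocallyOfFiniteType.isLocallyNoetherian ι
  -- the pullback of `O(1)` is ample
  have hO : CohB1.IsAmple (Twist.twistProjSpace N k 1) :=
    Groth.Agent.R2.H91.PnAffine.isAmple_twistProjSpace_one N k
  have hL : CohB1.IsAmple ((Scheme.Modules.pullback ι).obj (Twist.twistProjSpace N k 1)) := by
    refine Groth.Agent.Lib.Helper23.PB.isAmple_pullback_of_quasiAffine ι _ hO fun W hW => ?_
    have : IsAffine (W : Scheme.{u}) := hW
    have : CompactSpace ((ι ⁻¹ᵁ W : X.Opens) : Scheme.{u}) := by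
      have : TopologicalSpace.NoetherianSpace ((ι ⁻¹ᵁ W : X.Opens) : Scheme.{u}) :=
        (ι ⁻¹ᵁ W).ι.isEmbedding.isInducing.noetherianSpace
      infer_instance
    exact Scheme.IsQuasiAffine.of_isImmersion (ι ∣_ W)
  have hres : PerfAux.HasResolutionProperty X := Groth.Agent.S1108.result X _ hL
  have hqs : QuasiSeparatedSpace X := inferInstance
  obtain ⟨d, hd⟩ := Groth.Agent.S0016.result X
  have key : ∀ m p : ℕ, n < p → d ≤ p + m → ∀ G : X.Modules, Coh.IsCoh G →
      Subsingleton (Coh.HH X G p) := by
    intro m
    induction m with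
    | zero =>
      intro p hp hdp G hG
      exact hd G hG.1 p (by omega)
    | succ m ih =>
      intro p hp hdp G hG
      have hGq : G.IsQuasicoherent := hG.1
      obtain ⟨E, π, hE, hπ⟩ := hres G hG.1 hG.2
      have hEc : Coh.IsCoh E := Groth.Agent.R2.H89.RankAdd.isCoh_of_isFinLocFree hE
      have hEq : E.IsQuasicoherent := hEc.1
      let S : CategoryTheory.ShortComplex X.Modules :=
        CategoryTheory.ShortComplex.mk (CategoryTheory.Limits.kernel.ι π) π
          (CategoryTheory.Limits.kernel.condition π)
      have hS : S.ShortExact :=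
        { exact := CategoryTheory.ShortComplex.exact_kernel π
          mono_f := inferInstanceAs (Mono (CategoryTheory.Limits.kernel.ι π))
          epi_g := hπ }
      have hKq : (CategoryTheory.Limits.kernel π).IsQuasicoherent :=
        Groth.Agent.Lib.Helper23.QCohLocal.isQuasicoherent_kernel π
      have hKc : Coh.IsCoh (CategoryTheory.Limits.kernel π) :=
        Groth.Agent.S0046.result X E _ (CategoryTheory.Limits.kernel.ι π) hEc hKq
      have hK : Subsingleton (Coh.HH X (CategoryTheory.Limits.kernel π) (p + 1)) :=
        ih (p + 1) (by omega) (by omega) _ hKc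
      have hEv : Subsingleton (Coh.HH X E p) := h E hE p hp
      have hz : ∀ a : Coh.HH X G p, a = 0 := by
        intro a
        have h1 : Groth.Agent.R2.H62.CohLES.δ hS p a = 0 := @Subsingleton.elim _ hK _ _
        obtain ⟨y, hy⟩ := (Groth.Agent.R2.H62.CohLES.exact_g_δ hS p a).1 h1
        have hy0 : y = 0 := @Subsingleton.elim _ hEv _ _
        rw [← hy, hy0, map_zero]
      exact ⟨fun a b => (hz a).trans (hz b).symm⟩
  exact key d i hi (by omega) F hF

end Groth.Agent.S10947
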