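import Groth.Statements.S10954
import Groth.Agent.Lib.Helper23Serre2
import Groth.Agent.Lib.Helper23QCohAbelian

set_option autoImplicit false
universe u
open Coherent

namespace Groth.Agent.S10954

open AlgebraicGeometry CategoryTheory CategoryTheory.Limits Opposite in
/-- Let X be a quasi-compact scheme such that, for every short exact sequence 0 → F' → F → F'' → 0 of
quasi-coherent O_X-modules whose first term F' admits a monomorphism into a finite direct sum of
copies of O_X, taking global sections gives a surjection F(X) → F''(X). Then X is affine. (The
published statement is an equivalence of three conditions on a quasi-compact scheme; this row states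
the implication from exactness of global sections on such sequences to affineness.) -/
theorem result (X : Scheme.{u}) [CompactSpace X]
    (h : ∀ (S : ShortComplex X.Modules) (n : ℕ)
      (j : S.X₁ ⟶ ∏ᶜ (fun _ : Fin n => Coh.structureModule X)),
      S.ShortExact → Mono j → Coh.IsQCoh S.X₁ → Coh.IsQCoh S.X₂ → Coh.IsQCoh S.X₃ →
        Function.Surjective (S.g.val.app (op ⊤)).hom) :
    IsAffine X := by
  open Groth.Agent.Lib.Helper23.Serre in
  apply isAffine_of_surjHyp
  · intro Q π hQ hπ
    have hO : (Coh.structureModule X).IsQuasicoherent := isQuasicoherent_structureModule' X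
    have hK : (kernel π).IsQuasicoherent :=
      Groth.Agent.Lib.Helper23.QCohLocal.isQuasicoherent_kernel π
    let S : ShortComplex X.Modules := ShortComplex.mk (kernel.ι π) π (kernel.condition π)
    have hS : S.ShortExact :=
      { exact := ShortComplex.exact_kernel π
        mono_f := inferInstanceAs (Mono (kernel.ι π))
        epi_g := hπ }
    let d : Coh.structureModule X ⟶ ∏ᶜ (fun _ : Fin 1 => Coh.structureModule X) :=
      Pi.lift (fun _ => 𝟙 _)
    have hd : Mono d := by
      have h1 : d ≫ Pi.π (fun _ : Fin 1 => Coh.structureModule X) 0 = 𝟙 _ := Pi.lift_π _ _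
      exact mono_of_mono_fac h1
    have hj : Mono (kernel.ι π ≫ d) := mono_comp _ _
    exact h S 1 (kernel.ι π ≫ d) hS hj hK hO hQ
  · intro n f hepi
    have hO : (Coh.structureModule X).IsQuasicoherent := isQuasicoherent_structureModule' X
    have hF : (FlatMod.freeMod X n).IsQuasicoherent := isQuasicoherent_freeMod n
    have hK : (kernel (psiF f)).IsQuasicoherent :=
      Groth.Agent.Lib.Helper23.QCohLocal.isQuasicoherent_kernel (psiF f)
    let S : ShortComplex X.Modules :=
      ShortComplex.mk (kernel.ι (psiF f)) (psiF f) (kernel.condition (psiF f))
    have hS : S.ShortExact :=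
      { exact := ShortComplex.exact_kernel (psiF f)
        mono_f := inferInstanceAs (Mono (kernel.ι (psiF f)))
        epi_g := hepi }
    let O : X.Modules := Coh.structureModule X
    have : HasFiniteBiproducts X.Modules := Abelian.hasFiniteBiproducts
    let e : FlatMod.freeMod X n ≅ ∏ᶜ (fun _ : Fin n => Coh.structureModule X) :=
      (biproduct.isoCoproduct (fun _ : Fin n => O)).symm ≪≫
        biproduct.isoProduct (fun _ : Fin n => O)
    have hj : Mono (kernel.ι (psiF f) ≫ e.hom) := mono_comp _ _
    exact h S n (kernel.ι (psiF f) ≫ e.hom) hS hj hK hF hO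

end Groth.Agent.S10954
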