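import Groth.Statements.S10959
import Groth.Agent.R2.H80AbVarK

set_option autoImplicit false
universe u
open CategoryTheory MonoidalCategory CartesianMonoidalCategory MonObj GrpObj AlgebraicGeometry
open AbVar

namespace Groth.Agent.S10959

/-- Let K be an algebraically closed field and A an abelian variety over K (a group scheme over Spec K
with proper smooth structure morphism and irreducible underlying space). Let Z be a closed subset of
A which is not all of A, and z a K-valued point of A. Then there is a K-valued point x of A such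
that the point underlying z lies neither in the translate of Z by x nor in the translate of Z by the
inverse of x; here the translation by x is the morphism A → A given on points by a ↦ a·x, the
product of the identity and the constant map x in the group of morphisms into A. (The published
statement takes Z to be the support of an effective divisor; this row allows any closed subset other
than A.) -/
theorem result
    (K : Type u) [Field K] [IsAlgClosed K] (A : Over (Spec (CommRingCat.of K)))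
    [GrpObj A] [IsProper A.hom] [Smooth A.hom] [IrreducibleSpace A.left]
    (Z : Set A.left) (hZ : IsClosed Z) (hZne : Z ≠ Set.univ)
    (z : 𝟙_ (Over (Spec (CommRingCat.of K))) ⟶ A) :
    ∃ x : 𝟙_ (Over (Spec (CommRingCat.of K))) ⟶ A,
      Disjoint (Set.range z.left.base)
        ((𝟙 A * (toUnit A ≫ x)).left.base '' Z ∪ (𝟙 A * (toUnit A ≫ x)⁻¹).left.base '' Z) := by
  classical
  have hLFT : LocallyOfFiniteType A.hom := inferInstance
  have hJ : JacobsonSpace ↥A.left := LocallyOfFiniteType.jacobsonSpace A.hom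
  -- every nonempty open subset contains a rational point
  have key : ∀ U : Set ↥A.left, IsOpen U → U.Nonempty →
      ∃ w : 𝟙_ (Over (Spec (CommRingCat.of K))) ⟶ A, Groth.Agent.R2.H80.AbVarK.pt w ∈ U := by
    intro U hU hUne
    obtain ⟨p, hpU, hp⟩ := nonempty_inter_closedPoints hUne hU.isLocallyClosed
    obtain ⟨w, hw⟩ := Groth.Agent.R2.H80.AbVarK.exists_pt_eq (k := K) (A := A) p hp
    exact ⟨w, hw ▸ hpU⟩
  have hUo : IsOpen Zᶜ := hZ.isOpen_compl
  have hUne : (Zᶜ).Nonempty := Set.nonempty_compl.mpr hZne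
  obtain ⟨w, hw⟩ := key _ hUo hUne
  -- the inverse map on points
  have hinv : ∀ x : 𝟙_ (Over (Spec (CommRingCat.of K))) ⟶ A,
      (ι[A]).left.base (Groth.Agent.R2.H80.AbVarK.pt x) = Groth.Agent.R2.H80.AbVarK.pt x⁻¹ := by
    intro x
    have : x⁻¹ = x ≫ ι[A] := Hom.inv_def x
    rw [this]
    rfl
  let f₁ : ↥A.left → ↥A.left := fun p => Groth.Agent.R2.H80.AbVarK.lamh z p
  let f₂ : ↥A.left → ↥A.left := fun p => Groth.Agent.R2.H80.AbVarK.lamh z ((ι[A]).left.base p)
  have hf₁ : Continuous f₁ := (Groth.Agent.R2.H80.AbVarK.lamh z).continuous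
  have hf₂ : Continuous f₂ :=
    (Groth.Agent.R2.H80.AbVarK.lamh z).continuous.comp (ι[A]).left.base.hom.continuous
  have h₁o : IsOpen (f₁ ⁻¹' Zᶜ) := hUo.preimage hf₁
  have h₂o : IsOpen (f₂ ⁻¹' Zᶜ) := hUo.preimage hf₂
  have h₁ne : (f₁ ⁻¹' Zᶜ).Nonempty := by
    refine ⟨Groth.Agent.R2.H80.AbVarK.pt (z⁻¹ * w), ?_⟩
    show Groth.Agent.R2.H80.AbVarK.lamh z (Groth.Agent.R2.H80.AbVarK.pt (z⁻¹ * w)) ∈ Zᶜ
    rw [Groth.Agent.R2.H80.AbVarK.lamh_pt, mul_inv_cancel_left]
    exact hw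
  have h₂ne : (f₂ ⁻¹' Zᶜ).Nonempty := by
    refine ⟨Groth.Agent.R2.H80.AbVarK.pt (w⁻¹ * z), ?_⟩
    show Groth.Agent.R2.H80.AbVarK.lamh z
      ((ι[A]).left.base (Groth.Agent.R2.H80.AbVarK.pt (w⁻¹ * z))) ∈ Zᶜ
    rw [hinv, Groth.Agent.R2.H80.AbVarK.lamh_pt, _root_.mul_inv_rev, _root_.inv_inv, mul_inv_cancel_left]
    exact hw
  have hne : (f₁ ⁻¹' Zᶜ ∩ f₂ ⁻¹' Zᶜ).Nonempty := nonempty_preirreducible_inter h₁o h₂o h₁ne h₂ne
  obtain ⟨x, hx₁, hx₂⟩ := key _ (h₁o.inter h₂o) hne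
  have hx₁' : Groth.Agent.R2.H80.AbVarK.pt (z * x) ∉ Z := by
    have : Groth.Agent.R2.H80.AbVarK.lamh z (Groth.Agent.R2.H80.AbVarK.pt x) ∈ Zᶜ := hx₁
    rwa [Groth.Agent.R2.H80.AbVarK.lamh_pt] at this
  have hx₂' : Groth.Agent.R2.H80.AbVarK.pt (z * x⁻¹) ∉ Z := by
    have : Groth.Agent.R2.H80.AbVarK.lamh z
      ((ι[A]).left.base (Groth.Agent.R2.H80.AbVarK.pt x)) ∈ Zᶜ := hx₂
    rwa [hinv, Groth.Agent.R2.H80.AbVarK.lamh_pt] at this
  refine ⟨x, ?_⟩
  rw [Groth.Agent.R2.H80.AbVarK.range_eq, Set.disjoint_singleton_left]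
  have hcomp : (toUnit A ≫ x)⁻¹ = toUnit A ≫ x⁻¹ := by
    rw [Hom.inv_def, Hom.inv_def, Category.assoc]
  rw [hcomp]
  -- translate back
  have hback : ∀ (b : 𝟙_ (Over (Spec (CommRingCat.of K))) ⟶ A) (q : ↥A.left),
      (𝟙 A * (toUnit A ≫ b)).left.base q = Groth.Agent.R2.H80.AbVarK.pt z →
        q = Groth.Agent.R2.H80.AbVarK.pt (z * b⁻¹) := by
    intro b q hq
    have h1 : Groth.Agent.R2.H80.AbVarK.ρh b q = Groth.Agent.R2.H80.AbVarK.pt z := hq
    have h2 : q = (Groth.Agent.R2.H80.AbVarK.ρh b).symm (Groth.Agent.R2.H80.AbVarK.pt z) := by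
      rw [← h1, Homeomorph.symm_apply_apply]
    have h3 : (Groth.Agent.R2.H80.AbVarK.ρh b).symm (Groth.Agent.R2.H80.AbVarK.pt z) =
        Groth.Agent.R2.H80.AbVarK.ρh b⁻¹ (Groth.Agent.R2.H80.AbVarK.pt z) := rfl
    rw [h2, h3, Groth.Agent.R2.H80.AbVarK.ρh_pt]
  rintro (⟨q, hqZ, hq⟩ | ⟨q, hqZ, hq⟩)
  · have := hback x q hq
    exact hx₂' (this ▸ hqZ)
  · have := hback x⁻¹ q hq
    rw [_root_.inv_inv] at this
    exact hx₁' (this ▸ hqZ)

end Groth.Agent.S10959
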