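import Groth.Statements.S11081
import Groth.Agent.R2.H67TraceRam

set_option autoImplicit false
set_option linter.style.haveILetI false
set_option linter.deprecated false
universe u
attribute [local instance] FractionRing.liftAlgebra
open CAlg

namespace Groth.Agent.S11081

/-- Let A be a Dedekind domain, B a Dedekind domain which is a finitely generated torsion-free A-algebra
whose fraction field is separable over that of A (B is the integral closure of A in a finite
separable extension), p a nonzero prime ideal of A and y an element of B. Then the class modulo p of
the trace of y from B to A is the sum over the primes Q of B lying over p of e(Q|p) times the trace,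
from B/Q to A/p, of the class of y modulo Q. -/
theorem result (A B : Type u) [CommRing A] [CommRing B]
    [IsDedekindDomain A] [IsDedekindDomain B] [Algebra A B] [Module.Finite A B] [Module.IsTorsionFree A B]
    [Algebra.IsSeparable (FractionRing A) (FractionRing B)]
    (p : Ideal A) [p.IsMaximal] (hp : p ≠ ⊥) (y : B) :
    Ideal.Quotient.mk p (Algebra.intTrace A B y) =
      ∑ᶠ Q : p.primesOver B,
        Q.1.ramificationIdx A •
          Algebra.trace (A ⧸ p) (B ⧸ Q.1) (Ideal.Quotient.mk Q.1 y) := by
  classical
  rw [← Algebra.trace_quotient_eq_of_isDedekindDomain B p y,
    Groth.Agent.R2.H67.TraceRam.trace_quotient_map_eq_sum A B p hp y]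
  have hset : ((UniqueFactorizationMonoid.factors (p.map (algebraMap A B))).toFinset : Set (Ideal B)) =
      p.primesOver B := IsDedekindDomain.coe_primesOverFinset hp B
  let σ : (UniqueFactorizationMonoid.factors (p.map (algebraMap A B))).toFinset ≃ p.primesOver B :=
    Equiv.setCongr hset
  rw [← finsum_comp_equiv σ, finsum_eq_sum_of_fintype]
  refine Finset.sum_congr rfl fun P _ => ?_
  have hσ : (σ P).1 = P.1 := rfl
  have he : p.ramificationIdx' P.1 = (σ P).1.ramificationIdx A :=
    Ideal.ramificationIdx'_eq_ramificationIdx p (σ P).1 hp
  rw [he]
  rfl

end Groth.Agent.S11081
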