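import Groth.Statements.S11086
import Groth.Agent.R2.H67DiffLoc

set_option autoImplicit false
set_option linter.style.haveILetI false
universe u
attribute [local instance] FractionRing.liftAlgebra
open CAlg

namespace Groth.Agent.S11086

/-- Let A be a Dedekind domain, B a Dedekind domain which is a finitely generated torsion-free A-algebra
with fraction field separable over that of A (the integral closure of A in a finite separable
extension), and S a submonoid of A consisting of non-zero-divisors. Let A_S and B_S be localizations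
of A at S and of B at the image of S, with B_S an algebra over A_S compatibly with A and B (so A_S
is integrally closed and B_S is a Dedekind domain, torsion-free over A_S). Then the ideal of B_S
generated by the different of B over A is the different of B_S over A_S. -/
theorem result (A B : Type u) [CommRing A] [CommRing B]
    [IsDedekindDomain A] [IsDedekindDomain B] [Algebra A B] [Module.Finite A B] [Module.IsTorsionFree A B]
    [Algebra.IsSeparable (FractionRing A) (FractionRing B)]
    (S : Submonoid A) (hS : S ≤ nonZeroDivisors A)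
    (Aₛ Bₛ : Type u) [CommRing Aₛ] [CommRing Bₛ] [Algebra A Aₛ] [Algebra B Bₛ] [Algebra Aₛ Bₛ]
    [Algebra A Bₛ] [IsScalarTower A Aₛ Bₛ] [IsScalarTower A B Bₛ]
    [IsLocalization S Aₛ] [IsLocalization (Algebra.algebraMapSubmonoid B S) Bₛ]
    [IsDomain Aₛ] [IsIntegrallyClosed Aₛ] [IsDedekindDomain Bₛ] [Module.IsTorsionFree Aₛ Bₛ] :
    Ideal.map (algebraMap B Bₛ) (differentIdeal A B) = differentIdeal Aₛ Bₛ := by
  classical
  let K := FractionRing A
  let L := FractionRing B
  have hinjAB : Function.Injective (algebraMap A B) := FaithfulSMul.algebraMap_injective A B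
  -- `K` as an `Aₛ`-algebra
  have hunitA : ∀ y : S, IsUnit (algebraMap A K y) := fun y =>
    IsUnit.mk0 _ ((map_ne_zero_iff _ (IsFractionRing.injective A K)).mpr
      (nonZeroDivisors.ne_zero (hS y.2)))
  letI algAK : Algebra Aₛ K := (IsLocalization.lift (M := S) hunitA).toAlgebra
  haveI : IsScalarTower A Aₛ K := IsScalarTower.of_algebraMap_eq fun a =>
    (IsLocalization.lift_eq (M := S) hunitA a).symm
  -- `L` as a `Bₛ`-algebra
  have hunitB : ∀ y : Algebra.algebraMapSubmonoid B S, IsUnit (algebraMap B L y) := by
    rintro ⟨_, s, hs, rfl⟩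
    refine IsUnit.mk0 _ ((map_ne_zero_iff _ (IsFractionRing.injective B L)).mpr ?_)
    exact (map_ne_zero_iff _ hinjAB).mpr (nonZeroDivisors.ne_zero (hS hs))
  letI algBL : Algebra Bₛ L :=
    (IsLocalization.lift (M := Algebra.algebraMapSubmonoid B S) hunitB).toAlgebra
  haveI : IsScalarTower B Bₛ L := IsScalarTower.of_algebraMap_eq fun b =>
    (IsLocalization.lift_eq (M := Algebra.algebraMapSubmonoid B S) hunitB b).symm
  letI algAL : Algebra Aₛ L := ((algebraMap K L).comp (algebraMap Aₛ K)).toAlgebra
  haveI : IsScalarTower Aₛ K L := IsScalarTower.of_algebraMap_eq fun _ => rfl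
  haveI : IsScalarTower Aₛ Bₛ L := by
    refine IsScalarTower.of_algebraMap_eq' ?_
    apply IsLocalization.ringHom_ext S
    ext a
    change algebraMap K L (algebraMap Aₛ K (algebraMap A Aₛ a)) =
      algebraMap Bₛ L (algebraMap Aₛ Bₛ (algebraMap A Aₛ a))
    rw [← IsScalarTower.algebraMap_apply A Aₛ K, ← IsScalarTower.algebraMap_apply A Aₛ Bₛ,
      IsScalarTower.algebraMap_apply A B Bₛ, ← IsScalarTower.algebraMap_apply B Bₛ L,
      ← IsScalarTower.algebraMap_apply A K L, ← IsScalarTower.algebraMap_apply A B L]
  haveI : IsFractionRing Aₛ K :=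
    IsFractionRing.isFractionRing_of_isDomain_of_isLocalization S Aₛ K
  haveI : IsFractionRing Bₛ L :=
    IsFractionRing.isFractionRing_of_isDomain_of_isLocalization
      (Algebra.algebraMapSubmonoid B S) Bₛ L
  haveI : Module.Finite Aₛ Bₛ := Module.Finite.of_isLocalization A B S
  haveI : IsIntegralClosure Bₛ Aₛ L := IsIntegralClosure.of_isIntegrallyClosed Bₛ Aₛ L
  exact Groth.Agent.R2.H67.DiffLoc.map_differentIdeal_eq A B K L Aₛ Bₛ S hS

end Groth.Agent.S11086
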