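import Groth.Statements.S11090
import Groth.Agent.Lib.Helper11KExt
import Groth.Agent.Lib.Helper12Reduced
import Groth.Agent.R2.H90QuotUnique
import Groth.Agent.R2.H90KerDescent

set_option autoImplicit false
universe u
open CategoryTheory CategoryTheory.Limits MonoidalCategory CartesianMonoidalCategory MonObj GrpObj AlgebraicGeometry
open AbVar

namespace Groth.Agent.S11090

/-- Let k be an algebraically closed field and E, E′, E″ elliptic curves over k, i.e. group schemes over
Spec k whose underlying schemes are proper, smooth, integral and one-dimensional. Let φ : E → E′ be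
a homomorphism which is finite, surjective and étale (a separable isogeny) and ψ : E → E″ a
homomorphism such that every k-valued point of E sent to the unit by φ is sent to the unit by ψ.
Then there is a unique homomorphism ρ : E′ → E″ with ψ = ρ ∘ φ. (The published statement prints ψ as
a map from E″ to E and calls it an isogeny; its proof treats ψ as a map from E to E″, as here, and
this row allows any homomorphism ψ, the extra case of trivial ψ being immediate.) -/
theorem result (k : Type u) [Field k] [IsAlgClosed k]
    (E E' E'' : Over (Spec (CommRingCat.of k)))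
    [GrpObj E] [IsProper E.hom] [Smooth E.hom] [IsIntegral E.left] (hE : topologicalKrullDim E.left = 1)
    [GrpObj E'] [IsProper E'.hom] [Smooth E'.hom] [IsIntegral E'.left] (hE' : topologicalKrullDim E'.left = 1)
    [GrpObj E''] [IsProper E''.hom] [Smooth E''.hom] [IsIntegral E''.left] (hE'' : topologicalKrullDim E''.left = 1)
    (φ : E ⟶ E') [IsMonHom φ] [IsFinite φ.left] [Surjective φ.left] [Etale φ.left]
    (ψ : E ⟶ E'') [IsMonHom ψ]
    (hker : ∀ P : 𝟙_ (Over (Spec (CommRingCat.of k))) ⟶ E, P ≫ φ = η[E'] → P ≫ ψ = η[E'']) :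
    ∃! ρ : E' ⟶ E'', IsMonHom ρ ∧ φ ≫ ρ = ψ := by
  -- the kernel of `φ`
  let N := pullback φ η[E']
  let i : N ⟶ E := pullback.fst φ η[E']
  have hk : AlgGrp.IsKernel i φ := by
    unfold AlgGrp.IsKernel
    have h := IsPullback.of_hasPullback φ η[E']
    rwa [toUnit_unique (pullback.snd φ η[E']) (toUnit N)] at h
  haveI : Etale N.hom :=
    Groth.Agent.R2.H90.KerDescent.prop_of_kernel @Etale i φ hk inferInstance
  haveI : IsFinite N.hom :=
    Groth.Agent.R2.H90.KerDescent.prop_of_kernel @IsFinite i φ hk inferInstance
  haveI : IsReduced N.left := Groth.Agent.Lib.Helper12.Reduced.isReduced_of_smooth N.hom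
  -- `ψ` kills the kernel, since it does so on rational points
  have hkill : i ≫ ψ = toUnit N ≫ η[E''] := by
    haveI : LocallyOfFiniteType (toUnit N).left := by
      rw [Over.toUnit_left]; infer_instance
    refine Groth.Agent.Lib.Helper11KExt.ext_of_sections k k
      (𝟙 (Spec (CommRingCat.of k))) (toUnit N) (i ≫ ψ) (toUnit N ≫ η[E'']) ?_
    intro s _
    have h1 : (s ≫ i) ≫ φ = η[E'] := by
      rw [Category.assoc, hk.w, ← Category.assoc, toUnit_unique (s ≫ toUnit N) (𝟙 _),
        Category.id_comp]
    rw [← Category.assoc, hker (s ≫ i) h1, ← Category.assoc,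
      toUnit_unique (s ≫ toUnit N) (𝟙 _), Category.id_comp]
  obtain ⟨ρ, hρ, hρm⟩ := Groth.Agent.R2.H90.QuotUnique.exists_desc i φ hk ψ hkill
  haveI : Epi φ := Groth.Agent.Lib.Helper12.epi_of_flat_of_surjective_left φ
  refine ⟨ρ, ⟨hρm, hρ⟩, fun ρ' hρ' => ?_⟩
  rw [← cancel_epi φ, hρ'.2, hρ]

end Groth.Agent.S11090
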