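import Groth.Statements.S1110
import Groth.Agent.Lib.Helper23FTsub
import Groth.Agent.Lib.Helper23ModLocal
import Groth.Agent.Lib.Helper23FinType2
import Groth.Agent.Lib.Helper23QCohLocal
import Groth.Agent.Lib.Helper2PullbackSec
import Groth.Agent.Lib.Helper2LocFree
import Groth.Agent.Lib.Helper26ModLocFree

set_option autoImplicit false
set_option linter.style.haveILetI false
universe u
open CategoryTheory AlgebraicGeometry
open Perf

namespace Groth.Agent.S1110

open TopologicalSpace Groth.Agent.Lib.Helper23.ModLocal Groth.Agent.Lib.Helper23.QCohLocal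
  Groth.Agent.Lib.Helper23.FinType Groth.Agent.Lib.Helper23.FTsub

private theorem surjective_app_of_eq {X : Scheme.{u}} {M N : X.Modules} (φ : M ⟶ N) {A B : X.Opens}
    (h : A = B) (hb : Function.Surjective (φ.app B)) : Function.Surjective (φ.app A) := by
  subst h; exact hb

/-- a morphism of quasi-coherent modules which is surjective on sections over the members of an
affine open cover is an epimorphism. -/
private theorem epi_of_surjective_app_cover {X : Scheme.{u}} {M N : X.Modules} [M.IsQuasicoherent]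
    [N.IsQuasicoherent] (φ : M ⟶ N) {ι : Type*} (V : ι → X.Opens) (hV : IsOpenCover V)
    (hVa : ∀ i, IsAffineOpen (V i)) (h : ∀ i, Function.Surjective (φ.app (V i))) : Epi φ := by
  refine epi_of_surjective_ΓU φ V hV hVa fun i => ?_
  have h1 : (hVa i).fromSpec ''ᵁ ⊤ = V i :=
    (Scheme.Hom.image_top_eq_opensRange _).trans (hVa i).opensRange_fromSpec
  exact surjective_app_of_eq φ h1 (h i)

/-- For an affine morphism f : X ⟶ Y over a quasi-compact, quasi-separated Y, the resolution property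
passes from Y up to X. (The source also treats quasi-affine f.) -/
theorem result {X Y : Scheme.{u}} (f : X ⟶ Y) [IsAffineHom f] [CompactSpace ↥Y] [QuasiSeparatedSpace ↥Y]
    (hY : PerfAux.HasResolutionProperty Y) : PerfAux.HasResolutionProperty X := by
  classical
  intro M hMq hMf
  haveI : M.IsQuasicoherent := hMq
  haveI : SheafOfModules.IsFiniteType (R := X.ringCatSheaf) M := hMf
  -- the direct image
  let P : Y.Modules := (Scheme.Modules.pushforward f).obj M
  haveI hP : P.IsQuasicoherent := isQuasicoherent_pushforward f M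
  -- a finite affine cover of `Y`
  have hloc : ∀ y : Y, ∃ V : Y.Opens, IsAffineOpen V ∧ y ∈ V := by
    intro y
    obtain ⟨V, hV, hyV, -⟩ := (Opens.isBasis_iff_nbhd.1 Y.isBasis_affineOpens) (Opens.mem_top y)
    exact ⟨V, hV, hyV⟩
  choose Vy hVa hyV using hloc
  obtain ⟨s, hs⟩ := isCompact_univ.elim_finite_subcover (fun y : Y => (Vy y : Set Y))
    (fun y => (Vy y).2) (fun y _ => Set.mem_iUnion.2 ⟨y, hyV y⟩)
  -- generators of the sections over the preimages
  have hUa : ∀ y, IsAffineOpen (f ⁻¹ᵁ Vy y) := fun y => (hVa y).preimage f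
  have hfin : ∀ y, Module.Finite Γ(X, f ⁻¹ᵁ Vy y) Γ(M, f ⁻¹ᵁ Vy y) := fun y =>
    finite_of_isFiniteType M (hUa y)
  have hgen : ∀ y, ∃ S : Finset Γ(M, f ⁻¹ᵁ Vy y),
      Submodule.span Γ(X, f ⁻¹ᵁ Vy y) (S : Set Γ(M, f ⁻¹ᵁ Vy y)) = ⊤ := fun y => (hfin y).1
  choose S hS using hgen
  -- the list of all generators, as sections of `P`
  let l : List (Σ U : Y.affineOpens, Γ(P, U.1)) :=
    s.toList.flatMap (fun y => (S y).toList.map (fun g => ⟨⟨Vy y, hVa y⟩, g⟩))
  let a₀ : Σ U : Y.affineOpens, Γ(P, U.1) := ⟨⟨⊥, isAffineOpen_bot Y⟩, 0⟩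
  obtain ⟨N, ι, hι, hNq, hNf, hN⟩ := exists_ft_sub_list P a₀ l
  haveI : N.IsQuasicoherent := hNq
  -- the adjoint map
  let adj := Scheme.Modules.pullbackPushforwardAdjunction f
  let φ : (Scheme.Modules.pullback f).obj N ⟶ M := (adj.homEquiv N M).symm ι
  have hφ : adj.unit.app N ≫ (Scheme.Modules.pushforward f).map φ = ι := by
    have h1 := (Adjunction.homEquiv_unit adj N M φ).symm
    exact h1.trans (Equiv.apply_symm_apply _ _)
  haveI : ((Scheme.Modules.pullback f).obj N).IsQuasicoherent :=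
    Groth.Agent.Lib.Helper2.PullbackSec.isQuasicoherent_pullback f N
  -- `φ` is surjective over each `f⁻¹ V_y`
  have hsurj : ∀ y ∈ s, Function.Surjective (φ.app (f ⁻¹ᵁ Vy y)) := by
    intro y hy
    let L : Γ((Scheme.Modules.pullback f).obj N, f ⁻¹ᵁ Vy y) →ₗ[Γ(X, f ⁻¹ᵁ Vy y)] Γ(M, f ⁻¹ᵁ Vy y) :=
      { toFun := fun x => φ.app (f ⁻¹ᵁ Vy y) x
        map_add' := fun a b => map_add _ a b
        map_smul' := fun r a => Scheme.Modules.Hom.app_smul φ r a }
    have hle : Submodule.span Γ(X, f ⁻¹ᵁ Vy y) (S y : Set Γ(M, f ⁻¹ᵁ Vy y)) ≤ LinearMap.range L := by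
      rw [Submodule.span_le]
      intro g hg
      have hmem : (⟨⟨Vy y, hVa y⟩, g⟩ : Σ U : Y.affineOpens, Γ(P, U.1)) ∈ a₀ :: l := by
        refine List.mem_cons_of_mem _ ?_
        refine List.mem_flatMap.2 ⟨y, Finset.mem_toList.2 hy, ?_⟩
        exact List.mem_map.2 ⟨g, Finset.mem_toList.2 hg, rfl⟩
      obtain ⟨n, hn⟩ := hN _ hmem
      refine ⟨(adj.unit.app N).app (Vy y) n, ?_⟩
      have h2 : ι.app (Vy y) n = g := hn
      rw [← h2, ← hφ]
      rfl
    rw [hS y, top_le_iff] at hle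
    intro m
    have : m ∈ LinearMap.range L := by rw [hle]; trivial
    obtain ⟨x, hx⟩ := this
    exact ⟨x, hx⟩
  -- hence `φ` is an epimorphism
  haveI hφepi : Epi φ := by
    refine epi_of_surjective_app_cover φ (fun y : s => f ⁻¹ᵁ Vy y.1) ?_ (fun y => hUa y.1)
      (fun y => hsurj y.1 y.2)
    rw [IsOpenCover, eq_top_iff]
    intro x _
    obtain ⟨y, hy⟩ := Set.mem_iUnion.1 (hs (Set.mem_univ (f x)))
    obtain ⟨hys, hxy⟩ := Set.mem_iUnion.1 hy
    exact Opens.mem_iSup.2 ⟨⟨y, hys⟩, hxy⟩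
  -- resolve `N` on `Y` and pull back
  obtain ⟨E, π, hE, hπ⟩ := hY N hNq hNf
  haveI : Epi π := hπ
  haveI : E.IsQuasicoherent := Groth.Agent.Helper18Strict.isQCoh_of_isFP E
    (Groth.Agent.Lib.Helper2.LocFree.isFP_of_isFinLocFree E hE)
  refine ⟨(Scheme.Modules.pullback f).obj E, (Scheme.Modules.pullback f).map π ≫ φ,
    Groth.Agent.Lib.Helper26.ModLocFree.isFinLocFree_pullback f E hE, ?_⟩
  haveI : Epi ((Scheme.Modules.pullback f).map π) := inferInstance
  exact epi_comp _ _

end Groth.Agent.S1110
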