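import Groth.Statements.S11104
import Groth.Agent.R2.H67HypReg
import Groth.Agent.Lib.Helper10Weier

set_option autoImplicit false
set_option linter.style.haveILetI false
universe u
open Neron

namespace Groth.Agent.S11104

/-- Let R be a discrete valuation ring with maximal ideal m and y² + a₁xy + a₃y = x³ + a₂x² + a₄x + a₆ a
Weierstrass equation over R with nonzero discriminant (an elliptic curve over the fraction field)
such that a₃, a₄, a₆ ∈ m and a₆ ∉ m². Then the affine scheme over R defined by the equation is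
regular: every localization of its coordinate ring at a prime ideal is a regular local ring. (The
published statement asserts regularity of the projective Weierstrass scheme in P²_R; this row states
it for the affine part.) -/
theorem result (R : Type u) [CommRing R] [IsDomain R]
    [IsDiscreteValuationRing R] (W : WeierstrassCurve.Affine R) (hΔ : W.Δ ≠ 0)
    (h3 : W.a₃ ∈ IsLocalRing.maximalIdeal R) (h4 : W.a₄ ∈ IsLocalRing.maximalIdeal R)
    (h6 : W.a₆ ∈ IsLocalRing.maximalIdeal R) (h6' : W.a₆ ∉ IsLocalRing.maximalIdeal R ^ 2)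
    (P : Ideal W.CoordinateRing) [P.IsPrime] :
    IsRegularLocalRing (Localization.AtPrime P) := by
  classical
  open Polynomial Groth.Agent.R2.H67.HypReg in
  -- the prime of `R[X][Y]` below `P`
  by_cases hDY : DY R W.polynomial ∉
      Ideal.comap (Ideal.Quotient.mk (Ideal.span ({W.polynomial} : Set (Polynomial (Polynomial R))))) P
  · exact isRegularLocalRing_localization_of_derivation W.polynomial (DY R) P (hq := ‹P.IsPrime›) hDY
  by_cases hDX : DX R W.polynomial ∉
      Ideal.comap (Ideal.Quotient.mk (Ideal.span ({W.polynomial} : Set (Polynomial (Polynomial R))))) P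
  · exact isRegularLocalRing_localization_of_derivation W.polynomial (DX R) P (hq := ‹P.IsPrime›) hDX
  rw [not_not, Ideal.mem_comap, DY_polynomial] at hDY
  rw [not_not, Ideal.mem_comap, DX_polynomial] at hDX
  -- the evaluation hom to the domain `C ⧸ P`
  let ψ : Polynomial (Polynomial R) →+* (W.CoordinateRing ⧸ P) :=
    (Ideal.Quotient.mk P).comp (AdjoinRoot.mk W.polynomial)
  have hψ : ∀ g, ψ g = Ideal.Quotient.mk P (AdjoinRoot.mk W.polynomial g) := fun g => rfl
  have hf : ψ W.polynomial = 0 := by rw [hψ, AdjoinRoot.mk_self, map_zero]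
  have hX : ψ W.polynomialX = 0 := Ideal.Quotient.eq_zero_iff_mem.mpr hDX
  have hY : ψ W.polynomialY = 0 := Ideal.Quotient.eq_zero_iff_mem.mpr hDY
  let ψ₀ : R →+* (W.CoordinateRing ⧸ P) :=
    ψ.comp ((C : Polynomial R →+* Polynomial (Polynomial R)).comp C)
  let W' : WeierstrassCurve.Affine (W.CoordinateRing ⧸ P) := WeierstrassCurve.map W ψ₀
  have e1 : W'.polynomial.evalEval (ψ (C X)) (ψ X) = 0 := by
    rw [show W'.polynomial = W.polynomial.map (mapRingHom ψ₀) from
      WeierstrassCurve.Affine.map_polynomial W ψ₀, ← ringHom_eq_evalEval ψ, hf]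
  have e2 : W'.polynomialX.evalEval (ψ (C X)) (ψ X) = 0 := by
    rw [show W'.polynomialX = W.polynomialX.map (mapRingHom ψ₀) from
      WeierstrassCurve.Affine.map_polynomialX W ψ₀, ← ringHom_eq_evalEval ψ, hX]
  have e3 : W'.polynomialY.evalEval (ψ (C X)) (ψ X) = 0 := by
    rw [show W'.polynomialY = W.polynomialY.map (mapRingHom ψ₀) from
      WeierstrassCurve.Affine.map_polynomialY W ψ₀, ← ringHom_eq_evalEval ψ, hY]
  by_cases hm : ∀ r ∈ IsLocalRing.maximalIdeal R, ψ₀ r = 0
  · -- special fibre: the point is the origin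
    have ha3 : W'.a₃ = 0 := hm _ h3
    have ha4 : W'.a₄ = 0 := hm _ h4
    have ha6 : W'.a₆ = 0 := hm _ h6
    obtain ⟨hx0, hy0⟩ := eq_zero_of_singular W' ha3 ha4 ha6 _ _ e1 e2 e3
    have hxP : WeierstrassCurve.Affine.CoordinateRing.mk W (C X) ∈ P :=
      Ideal.Quotient.eq_zero_iff_mem.mp hx0
    have hyP : WeierstrassCurve.Affine.CoordinateRing.mk W X ∈ P :=
      Ideal.Quotient.eq_zero_iff_mem.mp hy0
    have hPm : ∀ r ∈ IsLocalRing.maximalIdeal R, algebraMap R W.CoordinateRing r ∈ P :=
      fun r hr => Ideal.Quotient.eq_zero_iff_mem.mp (hm r hr)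
    have hJP : Ideal.span {WeierstrassCurve.Affine.CoordinateRing.mk W (C X),
        WeierstrassCurve.Affine.CoordinateRing.mk W X} ≤ P := by
      rw [Ideal.span_le]
      rintro _ (rfl | rfl)
      · exact hxP
      · exact hyP
    haveI : P.IsMaximal := by
      rw [Ideal.isMaximal_iff]
      refine ⟨fun h1 => (‹P.IsPrime›).ne_top ((Ideal.eq_top_iff_one P).mpr h1), ?_⟩
      intro J a hPJ haP haJ
      obtain ⟨r, hr⟩ := Groth.Agent.Lib.Helper10.Weier.exists_decomp W a
      have hrP : a - algebraMap R W.CoordinateRing r ∈ P := hJP hr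
      have hru : IsUnit r := by
        by_contra hnu
        have hrm : r ∈ IsLocalRing.maximalIdeal R := (IsLocalRing.mem_maximalIdeal _).mpr hnu
        apply haP
        have := P.add_mem hrP (hPm r hrm)
        rwa [sub_add_cancel] at this
      have hrJ : algebraMap R W.CoordinateRing r ∈ J := by
        have := J.sub_mem haJ (hPJ hrP)
        rwa [sub_sub_cancel] at this
      have := Ideal.eq_top_of_isUnit_mem J hrJ (hru.map _)
      rw [this]
      trivial
    exact Groth.Agent.Lib.Helper10.Weier.main h6 h6' P hPm hxP hyP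
  · -- generic fibre: contradiction with `Δ ≠ 0`
    exfalso
    push Not at hm
    obtain ⟨r, hrm, hr0⟩ := hm
    have hker : RingHom.ker ψ₀ = ⊥ := by
      by_contra hne
      have hprime : (RingHom.ker ψ₀).IsPrime := RingHom.ker_isPrime ψ₀
      have hmax : (RingHom.ker ψ₀).IsMaximal := hprime.isMaximal hne
      have : RingHom.ker ψ₀ = IsLocalRing.maximalIdeal R := IsLocalRing.eq_maximalIdeal hmax
      apply hr0
      rw [← RingHom.mem_ker, this]
      exact hrm
    have hinj : Function.Injective ψ₀ := (RingHom.injective_iff_ker_eq_bot ψ₀).mpr hker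
    have hΔ' : W'.Δ ≠ 0 := by
      rw [show W'.Δ = ψ₀ W.Δ from WeierstrassCurve.map_Δ W ψ₀]
      exact (map_ne_zero_iff ψ₀ hinj).mpr hΔ
    exact false_of_singular W' hΔ' _ _ e1 e2 e3

end Groth.Agent.S11104
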