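import Groth.Statements.S1111
import Groth.Agent.R2.H99RegPerf
import Groth.Agent.R2.H99PCNoeth
import Groth.Agent.R2.H99PCQCoh
import Groth.Agent.R2.H4FlatPerf
import Groth.Agent.R2.H4PCTop
import Groth.Agent.Lib.Helper26FpqcMod

set_option autoImplicit false
universe u
open CategoryTheory CategoryTheory.Limits AlgebraicGeometry
attribute [local instance] HasDerivedCategory.standard
open KZero

namespace Groth.Agent.S1111

open DerivedCategory Groth.Agent.R2.H4.Perf Groth.Agent.R2.H4.Conn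

section Aux

variable {X : Scheme.{u}}

lemma SPRep.exists_isGE {U : Scheme.{u}} {P : DCoh.D U} (h : SPRep P) : ∃ a : ℤ, P.IsGE a := by
  obtain ⟨E, ⟨⟨a, b, hv⟩, -⟩, ⟨e⟩⟩ := h
  refine ⟨a, ?_⟩
  have : E.IsStrictlyGE a := by
    rw [CochainComplex.isStrictlyGE_iff]
    exact fun i hi => hv i (Or.inl hi)
  have : (Q.obj E).IsGE a := inferInstance
  exact DerivedCategory.TStructure.t.isGE_of_iso e a

/-- a perfect object on a quasi-compact scheme is bounded below. -/
lemma exists_isGE_of_isPerfect [CompactSpace X] (K : DCoh.D X) (h : DCoh.IsPerfect K) :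
    ∃ a : ℤ, K.IsGE a := by
  rw [isPerfect_iff, loc_iff_opens isLocalPred_spRep] at h
  choose W hyW hW using h
  choose aa haa using fun y => SPRep.exists_isGE (hW y)
  obtain ⟨t, ht⟩ := isCompact_univ.elim_finite_subcover (fun y => ((W y : X.Opens) : Set X))
    (fun y => (W y).isOpen) (fun y _ => Set.mem_iUnion.2 ⟨y, hyW y⟩)
  obtain ⟨b, hb⟩ := (t.image (fun y => - aa y)).exists_le
  refine ⟨-b, ?_⟩
  rw [DerivedCategory.isGE_iff]
  intro i hi
  rw [IsZero.iff_id_eq_zero]
  let hh : ∀ y : t, ((W y.1 : X.Opens) : Scheme.{u}) ⟶ X := fun y => (W y.1).ι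
  refine Groth.Agent.Lib.Helper26.FpqcMod.eq_zero_of_family hh ?_ _ ?_
  · intro x
    have h5 := ht (Set.mem_univ x)
    simp only [Set.mem_iUnion] at h5
    obtain ⟨y, hyt, hy⟩ := h5
    exact ⟨⟨y, hyt⟩, ⟨x, hy⟩, rfl⟩
  · intro y
    have h6 : ((DCoh.restrictD (W y.1).ι).obj K).IsGE (-b) :=
      DerivedCategory.TStructure.t.isGE_of_ge _ (-b) (aa y.1) (by
        have := hb _ (Finset.mem_image_of_mem (fun y => - aa y) y.2)
        omega)
    obtain ⟨e⟩ := Groth.Agent.R2.H4.PCTop.nonempty_HD_restrict_iso (W y.1).ι K i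
    have hz1 : IsZero ((Scheme.Modules.restrictFunctor (W y.1).ι).obj (DCoh.HD K i)) :=
      (DerivedCategory.isZero_of_isGE _ (-b) i hi).of_iso e.symm
    have hzero : IsZero ((Scheme.Modules.pullback (hh y)).obj (DCoh.HD K i)) :=
      hz1.of_iso ((Scheme.Modules.restrictFunctorIsoPullback (W y.1).ι).app _).symm
    exact hzero.eq_of_src _ _

/-- on a Noetherian scheme with regular local rings, perfect = bounded with coherent
cohomology. -/
theorem isPerfect_iff_bounded_coherent [IsNoetherian X]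
    (hreg : ∀ x : X, IsRegularLocalRing (X.presheaf.stalk x)) (K : DCoh.D X) :
    DCoh.IsPerfect K ↔ (DCoh.IsCohD K ∧ ∃ a b : ℤ, K.IsGE a ∧ K.IsLE b) := by
  constructor
  · intro h
    have hpc : ∀ m : ℤ, DCoh.IsPseudoCoherentD m K :=
      Groth.Agent.R2.H4.FlatPerf.isPseudoCoherentD_of_isPerfect K h
    have hq : DCoh.IsQCohD K := fun i =>
      Groth.Agent.R2.H99.PCQCoh.isQCoh_HD_of_isPseudoCoherentD (i - 1) K (hpc (i - 1)) i (by omega)
    have h1 := fun m => (Groth.Agent.R2.H99.PCNoeth.isPseudoCoherentD_iff_coherent K hq m).1 (hpc m)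
    obtain ⟨b, hb⟩ := (h1 0).2
    obtain ⟨a, ha⟩ := exists_isGE_of_isPerfect K h
    exact ⟨fun i => (h1 i).1 i le_rfl, a, b, ha, hb⟩
  · rintro ⟨hK, a, b, ha, hb⟩
    exact Groth.Agent.R2.H99.RegPerf.isPerfect_of_regular hreg K a b hK

end Aux

section K0

variable {D : Type (u + 1)} [Category.{u + 1} D] [Preadditive D] [Limits.HasZeroObject D] [HasShift D ℤ]
  [∀ n : ℤ, (shiftFunctor D n).Additive] [Pretriangulated D]

lemma exists_K0tr_equiv (P Q : ObjectProperty D) (h : P = Q) :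
    ∃ φ : KZero.K0tr P ≃+ KZero.K0tr Q, ∀ K : D, P K → φ (KZero.clTr P K) = KZero.clTr Q K := by
  subst h
  exact ⟨AddEquiv.refl _, fun _ _ => rfl⟩

end K0

/-- Let X be a Noetherian scheme all of whose local rings are regular. The map K₀(X) = K₀(D_perf(O_X)) ⟶
K'₀(X) = K₀(D^b_Coh(O_X)) induced by the inclusion of perfect objects into bounded objects with
coherent cohomology is an isomorphism: there is an isomorphism of the two Grothendieck groups
sending the class of each perfect K to the class of K. -/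
theorem result (X : Scheme.{u}) [IsNoetherian X] (hreg : ∀ x : X, IsRegularLocalRing (X.presheaf.stalk x)) :
    ∃ φ : KZero.K0tr (fun K : DCoh.D X => DCoh.IsPerfect K) ≃+ KZero.K0tr (fun K : DCoh.D X => DCoh.IsCohD K ∧ ∃ a b : ℤ, K.IsGE a ∧ K.IsLE b),
      ∀ K : DCoh.D X, DCoh.IsPerfect K →
        φ (KZero.clTr (fun K : DCoh.D X => DCoh.IsPerfect K) K) = KZero.clTr (fun K : DCoh.D X => DCoh.IsCohD K ∧ ∃ a b : ℤ, K.IsGE a ∧ K.IsLE b) K :=
  exists_K0tr_equiv _ _ (funext fun K => propext (isPerfect_iff_bounded_coherent hreg K))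

end Groth.Agent.S1111
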