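import Groth.Statements.S11122
import Groth.Agent.R2.H28PCPush
import Groth.Agent.R2.H5RpushQCohD
import Groth.Agent.R2.H99PCQCoh
import Groth.Agent.R2.H28RelPC

set_option autoImplicit false
universe u
open CategoryTheory CategoryTheory.Limits AlgebraicGeometry
attribute [local instance] HasDerivedCategory.standard
open Perf
open Groth.Agent.R2.H28.PCPush Groth.Agent.R2.H5.RpushQCohD Groth.Agent.R2.H5.RpushBdd
  Groth.Agent.R2.H99.PCQCoh Groth.Agent.R2.H28.RelPC Groth.Agent.R2.H4.Conn Groth.Agent.R2.H4.Perf
  Groth.Agent.R2.H99.PCDescent2 Groth.Agent.S14388 Groth.Agent.R2.H61.DT2 DerivedCategory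
  Groth.Agent.R2.H28.RpushQCoh
  CategoryTheory.Pretriangulated

namespace Groth.Agent.S11122

/-- Let f : X ⟶ Y be a quasi-compact quasi-separated morphism of schemes with Y quasi-compact, and
assume the unbounded derived direct image Rf_* exists. Suppose there is an integer k such that for
every integer n and every object F of D(O_X) with bounded cohomology that is n-pseudo-coherent, Rf_*
F is (n + k)-pseudo-coherent. Then for every object F of D(O_X) that is n-pseudo-coherent for all n
(no boundedness assumed), Rf_* F is n-pseudo-coherent for all n. (The published statement obtains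
the bound for proper pseudo-coherent f from a cited finiteness theorem; this row assumes the bound.) -/
theorem result {X Y : Scheme.{u}} (f : X ⟶ Y) [QuasiCompact f]
    [QuasiSeparated f] [CompactSpace Y] [DCoh.HasRpush f] (k : ℤ)
    (hK : ∀ (F : DCoh.D X) (n a b : ℤ), F.IsGE a → F.IsLE b → DCoh.IsPseudoCoherentD n F →
      DCoh.IsPseudoCoherentD (n + k) ((DCoh.Rpush f).obj F))
    (F : DCoh.D X) (hF : ∀ m : ℤ, DCoh.IsPseudoCoherentD m F) (m : ℤ) :
    DCoh.IsPseudoCoherentD m ((DCoh.Rpush f).obj F) := by
  classical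
  have : CompactSpace ↥X := QuasiCompact.compactSpace_of_compactSpace f
  obtain ⟨N, hN⟩ := rpush_uniform_bound f
  -- `F` has quasi-coherent cohomology and is bounded above
  have hFq : DCoh.IsQCohD F := fun i =>
    isQCoh_HD_of_isPseudoCoherentD (i - 1) F (hF (i - 1)) i (by omega)
  obtain ⟨b, hb⟩ := exists_isLE_of_isPseudoCoherentD m F (hF m)
  -- the truncation level
  let a : ℤ := m + 1 - max N k
  have ha1 : N + a - 1 ≤ m := by have := le_max_left N k; omega
  have ha2 : a - 1 + k ≤ m := by have := le_max_right N k; omega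
  have hT := tt.triangleLTGE_distinguished a F
  obtain ⟨δ, hδ⟩ := weak_rpush f _ hT
  -- the bounded piece
  have h3 : DCoh.IsPseudoCoherentD m ((DCoh.Rpush f).obj ((tt.truncGE a).obj F)) := by
    have hconn : Conn (a - 1) ((tt.truncGEπ a).app F) := by
      refine ⟨fun i hi => isIso_homology_truncGEπ a i (by omega) F, ?_⟩
      have hz : IsZero ((homologyFunctor X.Modules (a - 1)).obj ((tt.truncGE a).obj F)) :=
        isZero_of_isGE _ a (a - 1) (by omega)
      exact ⟨fun _ _ _ => hz.eq_of_src _ _⟩
    have hpc : DCoh.IsPseudoCoherentD (a - 1) ((tt.truncGE a).obj F) :=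
      isPC_of_conn _ hconn (hF (a - 1))
    have : F.IsLE b := hb
    have hle : ((tt.truncGE a).obj F).IsLE b := inferInstance
    have hge : ((tt.truncGE a).obj F).IsGE a := inferInstance
    exact isPC_mono ha2 (hK _ (a - 1) a b hge hle hpc)
  -- the unbounded below piece is sent into `D^{≤ N + a - 2}`
  have h1 : DCoh.IsPseudoCoherentD m ((DCoh.Rpush f).obj ((tt.truncLT a).obj F)) := by
    apply pcAll_of_isLE
    rw [DerivedCategory.isLE_iff]
    intro i hi
    set G := (tt.truncLT a).obj F with hG
    have hGq : DCoh.IsQCohD G := by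
      intro j
      by_cases hj : j < a
      · have := isIso_homology_truncLTι a j hj F
        exact isQCoh_of_iso
          (asIso ((homologyFunctor X.Modules j).map ((tt.truncLTι a).app F))).symm (hFq j)
      · exact isQCoh_of_isZero (isZero_of_isLE G (a - 1) j (by omega))
    have hG0 : (G⟦a - 1⟧).IsLE 0 := tt.isLE_shift G (a - 1) (a - 1) 0 (by omega)
    have hGq' : DCoh.IsQCohD (G⟦a - 1⟧) := fun j =>
      isQCoh_of_iso (hShiftIso G (a - 1) j (a - 1 + j) rfl).symm (hGq _)
    have hz := hN (G⟦a - 1⟧) hGq' hG0 (i - (a - 1)) (by omega)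
    obtain ⟨e⟩ := nonempty_rpush_shift_iso f G (a - 1)
    exact IsZero.of_iso hz (((homologyFunctor Y.Modules (i - (a - 1))).mapIso e ≪≫
      hShiftIso ((DCoh.Rpush f).obj G) (a - 1) (i - (a - 1)) i (by omega)).symm)
  exact (isPseudoCoherentD_triangle m _ hδ).2.1 h1 h3

end Groth.Agent.S11122
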