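import Groth.Statements.S11124
import Groth.Agent.R2.H28GammaKey
import Groth.Agent.R2.H28OpenBC
import Groth.Agent.R2.H28HasRpush

set_option autoImplicit false
universe u
open CategoryTheory CategoryTheory.Limits AlgebraicGeometry
attribute [local instance] HasDerivedCategory.standard
open Perf

namespace Groth.Agent.S11124

section Transfer

open Groth.Agent.Lib.Helper17.KInj

variable {A : Type*} [Category A] [Abelian A] {B : Type*} [Category B] [Abelian B]
  [HasDerivedCategory A] [HasDerivedCategory B]
  (G : B ⥤ A) [G.Additive]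
  (RG : DerivedCategory B ⥤ DerivedCategory A)
  (βK : G.mapHomotopyCategory (ComplexShape.up ℤ) ⋙ DerivedCategory.Qh ⟶
    DerivedCategory.Qh ⋙ RG)

/-- the unit on the homotopy category is invertible at the image of a complex as soon as the unit on
complexes is. -/
lemma isIso_app_quotient_of_isIso_unitOfK (M : CochainComplex B ℤ)
    (h : IsIso ((unitOfK G RG βK).app M)) :
    IsIso (βK.app ((HomotopyCategory.quotient B (ComplexShape.up ℤ)).obj M)) := by
  have e : (unitOfK G RG βK).app M = (isoF₀ G).inv.app M ≫
      βK.app ((HomotopyCategory.quotient B (ComplexShape.up ℤ)).obj M) ≫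
      RG.map ((DerivedCategory.quotientCompQhIso B).hom.app M) := by
    simp [unitOfK, γOfK]
  rw [e] at h
  haveI := h
  haveI h2 : IsIso (βK.app ((HomotopyCategory.quotient B (ComplexShape.up ℤ)).obj M) ≫
      RG.map ((DerivedCategory.quotientCompQhIso B).hom.app M)) :=
    IsIso.of_isIso_comp_left ((isoF₀ G).inv.app M) _
  exact IsIso.of_isIso_comp_right _ (RG.map ((DerivedCategory.quotientCompQhIso B).hom.app M))

end Transfer

/-- Let f : X ⟶ Y be a morphism of schemes, B a K-injective cochain complex of O_X-modules and U an open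
subset of Y, and assume the unbounded derived functor of global sections on U exists. Then the
termwise direct image f_*B, restricted to U, is acyclic for global sections: the canonical map Γ(U,
f_*B) ⟶ RΓ(U, (f_*B)|_U) in D(Ab), the unit of the total right derived functor at this complex, is
an isomorphism. (The published statement is for ringed spaces; this row is the case of schemes.) -/
theorem result {X Y : Scheme.{u}} (f : X ⟶ Y) (B : CochainComplex X.Modules ℤ)
    [B.IsKInjective] (U : Y.Opens) [DCoh.HasRΓ (U : Scheme.{u})] :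
    IsIso (((DCoh.gammaKh (U : Scheme.{u})).totalRightDerivedUnit DerivedCategory.Qh
      (HomotopyCategory.quasiIso (U : Scheme.{u}).Modules (ComplexShape.up ℤ))).app
      ((HomotopyCategory.quotient (U : Scheme.{u}).Modules (ComplexShape.up ℤ)).obj
        ((DCoh.restrictCx U).obj (((Scheme.Modules.pushforward f).mapHomologicalComplex (ComplexShape.up ℤ)).obj B)))) := by
  open Groth.Agent.R2.H28.DerBase Groth.Agent.R2.H28.GammaKey Groth.Agent.R2.H28.OpenBC
    Groth.Agent.R2.H4.DerivedAdj in
  haveI : DCoh.HasLpull (f ∣_ U) := Groth.Agent.Lib.Helper1.Sky.hasLpull _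
  haveI : DCoh.HasRpush (f ∣_ U) := Groth.Agent.R2.H28.HasRpush.hasRpush _
  haveI := isKInjective_restrict (f ⁻¹ᵁ U) B
  have key := isIso_unitΓ_push (f ∣_ U) ((DCoh.restrictCx (f ⁻¹ᵁ U)).obj B)
  let θ : (DCoh.restrictCx U).obj ((pushC f).obj B) ≅
      (pushC (f ∣_ U)).obj ((DCoh.restrictCx (f ⁻¹ᵁ U)).obj B) :=
    (compCxIso (Scheme.Modules.pushforward f) (Scheme.Modules.restrictFunctor U.ι)).symm.app B ≪≫
      (NatIso.mapHomologicalComplex (baseChangeIso f U) (ComplexShape.up ℤ)).app B ≪≫
      (compCxIso (Scheme.Modules.restrictFunctor (f ⁻¹ᵁ U).ι)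
        (Scheme.Modules.pushforward (f ∣_ U))).app B
  have nat := (unitΓ (U : Scheme.{u})).naturality θ.hom
  have h1 : IsIso ((unitΓ (U : Scheme.{u})).app ((DCoh.restrictCx U).obj ((pushC f).obj B))) := by
    haveI := key
    have h2 : IsIso ((unitΓ (U : Scheme.{u})).app ((DCoh.restrictCx U).obj ((pushC f).obj B)) ≫
        (DerivedCategory.Q ⋙ DCoh.RΓ (U : Scheme.{u})).map θ.hom) := by
      rw [← nat]; infer_instance
    exact IsIso.of_isIso_comp_right _
      ((DerivedCategory.Q ⋙ DCoh.RΓ (U : Scheme.{u})).map θ.hom)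
  exact isIso_app_quotient_of_isIso_unitOfK _ _ _ _ h1

end Groth.Agent.S11124
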