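import Groth.Statements.S11252
import Groth.Agent.R2.H50PlUnion
-- import your own Groth.Agent.* helpers here

set_option autoImplicit false
universe u
open W4bk4grassmannian

namespace Groth.Agent.S11252

open W4bk4grassmannian in
/-- Standard monomial basis for a union of Schubert varieties: let K be an algebraically closed field, 0
< d < n, and I(d,n) the strictly increasing maps Fin d → Fin n ordered entrywise; S = K[X_θ : θ ∈
I(d,n)] is the Plücker polynomial ring and, for τ ∈ I(d,n), J(τ) ⊆ S is the ideal of polynomials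
vanishing at the d × d row-minors of every n × d matrix over K whose minors on rows φ ≰ τ are zero
(the homogeneous ideal of the Schubert variety X(τ) ⊆ G(d,n)). Let τ_1, …, τ_r ∈ I(d,n) and let J =
⋂_i J(τ_i) be the homogeneous ideal of the union ⋃_i X(τ_i). Then the classes in S/J of the
monomials X_{θ_1} ⋯ X_{θ_m} (m ≥ 0) along chains θ_1 ≥ ⋯ ≥ θ_m all of whose members lie below some
τ_i are linearly independent over K and span S/J. -/
theorem result (K : Type u) [Field K] [IsAlgClosed K] (d n : ℕ)
    (hd : 0 < d) (hdn : d < n) (r : ℕ) (τs : Fin r → Idx d n) :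
    LinearIndependent K (fun c : (Σ m : ℕ, {c : Fin m → Idx d n // Antitone c ∧ ∃ i, ∀ k, c k ≤ τs i}) =>
        Ideal.Quotient.mk (⨅ i, schubertVanishing K d n (τs i)) (chainMon K c.2.1)) ∧
      Submodule.span K (Set.range fun c : (Σ m : ℕ, {c : Fin m → Idx d n // Antitone c ∧ ∃ i, ∀ k, c k ≤ τs i}) =>
        Ideal.Quotient.mk (⨅ i, schubertVanishing K d n (τs i)) (chainMon K c.2.1)) = ⊤ := by
  classical
  -- the embedding of the index type into all chains
  let emb : (Σ m : ℕ, {c : Fin m → Idx d n // Antitone c ∧ ∃ i, ∀ k, c k ≤ τs i}) →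
      Groth.Agent.R2.H50.PlMain.AllStd d n := fun c => ⟨c.1, ⟨c.2.1, c.2.2.1⟩⟩
  have hemb : Function.Injective emb := by
    rintro ⟨m, c, hc⟩ ⟨m', c', hc'⟩ h
    simp only [emb, Sigma.mk.injEq] at h
    obtain ⟨rfl, h2⟩ := h
    have h3 := eq_of_heq h2
    have h4 : c = c' := congrArg Subtype.val h3
    subst h4
    rfl
  have hon : ∀ c, emb c ∈ Groth.Agent.R2.H50.PlUnion.onUnion τs := fun c => c.2.2.2
  set J := ⨅ i, schubertVanishing K d n (τs i) with hJ
  have hmk : ∀ l : Groth.Agent.R2.H50.PlMain.AllStd d n →₀ K,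
      Ideal.Quotient.mk J (Finsupp.linearCombination K (Groth.Agent.R2.H50.PlMain.stdMon K) l) =
        l.sum fun c a => a • Ideal.Quotient.mk J (Groth.Agent.R2.H50.PlMain.stdMon K c) := by
    intro l
    rw [Finsupp.linearCombination_apply, Finsupp.sum, Finsupp.sum, map_sum]
    refine Finset.sum_congr rfl fun c _ => ?_
    exact map_smul (Ideal.Quotient.mkₐ K J) (l c) _
  constructor
  · rw [linearIndependent_iff]
    intro l hl
    have h1 : Finsupp.linearCombination K (Groth.Agent.R2.H50.PlMain.stdMon K) (l.mapDomain emb) ∈ J := by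
      rw [← Ideal.Quotient.eq_zero_iff_mem, hmk, Finsupp.sum_mapDomain_index (by intros; simp)
        (by intros; simp [add_smul])]
      rw [Finsupp.linearCombination_apply] at hl
      exact hl
    have h2 := Groth.Agent.R2.H50.PlUnion.coeff_eq_zero_of_mem_iInf K τs hd _ h1
    ext c
    have := h2 (emb c) (hon c)
    rw [Finsupp.mapDomain_apply hemb] at this
    simpa using this
  · rw [eq_top_iff]
    rintro x -
    obtain ⟨f, rfl⟩ := Ideal.Quotient.mk_surjective x
    obtain ⟨l, hl⟩ := Groth.Agent.R2.H50.PlMain.exists_rep K f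
    have h1 : Ideal.Quotient.mk J f =
        Ideal.Quotient.mk J (Finsupp.linearCombination K (Groth.Agent.R2.H50.PlMain.stdMon K) l) := by
      rw [Ideal.Quotient.eq]
      exact Groth.Agent.R2.H50.PlUnion.plIdealTop_le_iInf K τs hl
    rw [h1, hmk, Finsupp.sum]
    refine Submodule.sum_mem _ fun c _ => Submodule.smul_mem _ _ ?_
    by_cases hc : c ∈ Groth.Agent.R2.H50.PlUnion.onUnion τs
    · refine Submodule.subset_span ⟨⟨c.1, ⟨c.2.1, c.2.2, hc⟩⟩, rfl⟩
    · have : Ideal.Quotient.mk J (Groth.Agent.R2.H50.PlMain.stdMon K c) = 0 := by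
        rw [Ideal.Quotient.eq_zero_iff_mem]
        exact Groth.Agent.R2.H50.PlUnion.stdMon_mem_iInf K τs c hc
      rw [this]
      exact Submodule.zero_mem _

end Groth.Agent.S11252
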