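import Groth.Statements.S11253
import Groth.Agent.R2.H50PlUnion
-- import your own Groth.Agent.* helpers here

set_option autoImplicit false
universe u
open W4bk4grassmannian

namespace Groth.Agent.S11253

open W4bk4grassmannian in
/-- Intersections of Schubert varieties are reduced: let K be an algebraically closed field, 0 < d < n,
and I(d,n) the strictly increasing maps Fin d → Fin n ordered entrywise; S = K[X_θ : θ ∈ I(d,n)] is
the Plücker polynomial ring and, for τ ∈ I(d,n), J(τ) ⊆ S is the ideal of polynomials vanishing at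
the d × d row-minors of every n × d matrix over K whose minors on rows φ ≰ τ are zero (the
homogeneous ideal of the Schubert variety X(τ) ⊆ G(d,n)). Then for all w₁, w₂ ∈ I(d,n) the ideal
J(w₁) + J(w₂) of S is radical. -/
theorem result (K : Type u) [Field K] [IsAlgClosed K] (d n : ℕ)
    (hd : 0 < d) (hdn : d < n) (w₁ w₂ : Idx d n) :
    (schubertVanishing K d n w₁ ⊔ schubertVanishing K d n w₂).IsRadical := by
  have hinf1 : inf w₁ w₂ ≤ w₁ := fun t => min_le_left _ _
  have hinf2 : inf w₁ w₂ ≤ w₂ := fun t => min_le_right _ _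
  have key : schubertVanishing K d n w₁ ⊔ schubertVanishing K d n w₂ =
      schubertVanishing K d n (inf w₁ w₂) := by
    apply le_antisymm
    · exact sup_le (Groth.Agent.R2.H50.PlMain.schubertVanishing_mono K hinf1)
        (Groth.Agent.R2.H50.PlMain.schubertVanishing_mono K hinf2)
    · have h := Groth.Agent.R2.H50.PlUnion.iInf_le_of_stdMon_mem K (fun _ : Unit => inf w₁ w₂) hd
        (schubertVanishing K d n w₁ ⊔ schubertVanishing K d n w₂)
        (le_trans (Groth.Agent.R2.H50.PlMain.plIdealTop_le_schubertVanishing K w₁) le_sup_left) ?_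
      · rwa [iInf_const] at h
      · intro c hc
        have hc' : ¬ ∀ k, c.2.1 k ≤ inf w₁ w₂ := fun h => hc ⟨(), h⟩
        push Not at hc'
        obtain ⟨k, hk⟩ := hc'
        have hk' : ¬ c.2.1 k ≤ w₁ ∨ ¬ c.2.1 k ≤ w₂ := by
          by_contra hcon
          push Not at hcon
          exact hk (fun t => le_min (hcon.1 t) (hcon.2 t))
        rcases hk' with h1 | h2
        · refine (le_sup_left : schubertVanishing K d n w₁ ≤ _) ?_
          exact Groth.Agent.R2.H50.PlMain.chainMon_mem_of_X_mem K _ c.2.1 k
            (Groth.Agent.R2.H50.PlMain.X_mem_schubertVanishing K w₁ _ h1)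
        · refine (le_sup_right : schubertVanishing K d n w₂ ≤ _) ?_
          exact Groth.Agent.R2.H50.PlMain.chainMon_mem_of_X_mem K _ c.2.1 k
            (Groth.Agent.R2.H50.PlMain.X_mem_schubertVanishing K w₂ _ h2)
  rw [key]
  exact Groth.Agent.R2.H50.PlUnion.schubertVanishing_isRadical K _

end Groth.Agent.S11253
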