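import Groth.Statements.S11263
import Groth.Agent.R2.H50FFT

set_option autoImplicit false
universe u
open W4bk4grassmannian

namespace Groth.Agent.S11263

open W4bk4grassmannian in
/-- First Fundamental Theorem of invariant theory for the special linear group acting on matrices by
right multiplication: let K be an algebraically closed field, 0 < d < n, and R = K[x_{ij}] the
coordinate ring of n × d matrices, on which g ∈ SL_d(K) acts by (g • f)(A) = f(A g). Then f ∈ R is
fixed by every g ∈ SL_d(K) if and only if f belongs to the K-subalgebra of R generated by the d × d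
minors on the rows θ ∈ I(d,n). -/
theorem result (K : Type u) [Field K] [IsAlgClosed K] (d n : ℕ)
    (hd : 0 < d) (hdn : d < n) (f : MatRing K d n) :
    (∀ g : Matrix.SpecialLinearGroup (Fin d) K, rightTranslate K d n g f = f) ↔
      f ∈ Algebra.adjoin K (Set.range fun θ : Idx d n => minor K d n θ.1) := by
  constructor
  · intro hf
    obtain ⟨r, rfl⟩ : ∃ r, n = d + r := ⟨n - d, by omega⟩
    have hr : 0 < r := by omega
    rw [Groth.Agent.R2.H50.FFT.adjoin_eq_range]
    obtain ⟨k, F, hF⟩ := Groth.Agent.R2.H50.FFT.exists_pluckerMap_eq K d r hd f hf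
    exact Groth.Agent.R2.H50.FFT.mem_range_of_pow_mul K d r hd hr k F f hF
  · intro hf g
    exact Groth.Agent.R2.H50.FFT.mem_adjoin_invariant K d n f hf g

end Groth.Agent.S11263
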