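import Groth.Statements.S11265
import Groth.Agent.R2.H50DetBitab

set_option autoImplicit false
universe u
open W4bk4grassmannian

namespace Groth.Agent.S11265

open W4bk4grassmannian in
/-- Standard monomial basis of a determinantal ring in bitableaux, which at the zero determinantal ideal
is the straightening basis of the polynomial ring: let K be an algebraically closed field, m, n ≥ 1,
1 ≤ t ≤ min(m, n) + 1, R = K[x_{ij}] the coordinate ring of m × n matrices, I_t the ideal of t × t
minors of the generic matrix. Order the minors of positive size by [A | B] ⪰ [A' | B'] when the size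
of [A | B] is at most that of [A' | B'] and a_j ≥ a'_j, b_j ≥ b'_j for every j below the size of [A
| B] (row and column indices listed increasingly). Then the classes in R/I_t of the products [A_1 |
B_1] ⋯ [A_k | B_k] (k ≥ 0) of minors of size at most t - 1 with [A_1 | B_1] ⪰ [A_2 | B_2] ⪰ ⋯ ⪰ [A_k
| B_k] are linearly independent over K and span R/I_t. -/
theorem result (K : Type u) [Field K] [IsAlgClosed K]
    (m n t : ℕ) (hm : 0 < m) (hn : 0 < n) (ht : 1 ≤ t) (htmn : t ≤ min m n + 1) :
    LinearIndependent K (fun c : (Σ k : ℕ, {c : Fin k → MinorIdx m n //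
        (∀ i, (c i).1 + 1 ≤ t - 1) ∧ ∀ i j, i < j → MinorGE (c i) (c j)}) =>
        Ideal.Quotient.mk (CAlgX.minorIdeal (genMatrix K m n) t)
          (Finset.univ.prod fun i => minorOf K (c.2.1 i))) ∧
      Submodule.span K (Set.range fun c : (Σ k : ℕ, {c : Fin k → MinorIdx m n //
        (∀ i, (c i).1 + 1 ≤ t - 1) ∧ ∀ i j, i < j → MinorGE (c i) (c j)}) =>
        Ideal.Quotient.mk (CAlgX.minorIdeal (genMatrix K m n) t)
          (Finset.univ.prod fun i => minorOf K (c.2.1 i))) = ⊤ := by
  have : Infinite K := IsAlgClosed.instInfinite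
  by_cases h : t ≤ min m n
  · have htd : t ≤ n := le_trans h (min_le_right _ _)
    have htr : t ≤ m := le_trans h (min_le_left _ _)
    have hker := Groth.Agent.R2.H50.DetBasis.ker_psi0_detIdx K n m t hn ht htd htr
    have hφ : ∀ M : MinorIdx m n, Groth.Agent.R2.H50.MinorComb.Mθ M ≤
        Groth.Agent.R2.H50.DetIdx.detIdx n m t ht htr ↔ M.1 + 1 ≤ t - 1 :=
      fun M => Groth.Agent.R2.H50.MinorComb.Mθ_le_detIdx_iff M t hn ht htd htr
    exact Groth.Agent.R2.H50.DetBitab.basis_F K _ hφ
      (Groth.Agent.R2.H50.DetBasis.linearIndependent_G K t hn _ hker.le)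
      (Groth.Agent.R2.H50.DetBasis.span_G K t _ hker.ge)
  · have ht' : m < t ∨ n < t := by
      rcases le_total m n with hmn | hmn
      · rw [min_eq_left hmn] at h
        left
        omega
      · rw [min_eq_right hmn] at h
        right
        omega
    have hker := Groth.Agent.R2.H50.DetBasis.ker_psi0_top K n m t hn ht'
    have hφ : ∀ M : MinorIdx m n, Groth.Agent.R2.H50.MinorComb.Mθ M ≤
        Groth.Agent.R2.H50.FFT.top n m ↔ M.1 + 1 ≤ t - 1 := by
      intro M
      constructor
      · intro _
        have h1 := Groth.Agent.R2.H50.MinorComb.size_le_cols M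
        have h2 := Groth.Agent.R2.H50.MinorComb.size_le_rows M
        have h3 : M.1 + 1 ≤ min m n := le_min h2 h1
        omega
      · intro _
        exact Groth.Agent.R2.H50.FFT.le_top' n m _
    exact Groth.Agent.R2.H50.DetBitab.basis_F K _ hφ
      (Groth.Agent.R2.H50.DetBasis.linearIndependent_G K t hn _ hker.le)
      (Groth.Agent.R2.H50.DetBasis.span_G K t _ hker.ge)

end Groth.Agent.S11265
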