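import Groth.Statements.S11267
import Groth.Agent.R2.H50DetVanish
import Groth.Agent.R2.H50Skeleton

set_option autoImplicit false
universe u
open W4bk4grassmannian

namespace Groth.Agent.S11267

open MvPolynomial in
/-- evaluation of the comorphism of the product map at a pair of matrices -/
theorem eval_pairingMap (K : Type u) [Field K] (m n q : ℕ)
    (x : (Fin m × Fin n) ⊕ (Fin n × Fin q) → K) (h : MvPolynomial (Fin m × Fin q) K) :
    MvPolynomial.eval x (pairingMap K n m q h) =
      MvPolynomial.eval (fun p : Fin m × Fin q =>
        ((Matrix.of fun i k => x (Sum.inl (i, k)) : Matrix (Fin m) (Fin n) K) *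
          (Matrix.of fun k j => x (Sum.inr (k, j)) : Matrix (Fin n) (Fin q) K)) p.1 p.2) h := by
  have hh : (MvPolynomial.eval x).comp (pairingMap K n m q).toRingHom =
      MvPolynomial.eval (fun p : Fin m × Fin q =>
        ((Matrix.of fun i k => x (Sum.inl (i, k)) : Matrix (Fin m) (Fin n) K) *
          (Matrix.of fun k j => x (Sum.inr (k, j)) : Matrix (Fin n) (Fin q) K)) p.1 p.2) := by
    refine MvPolynomial.ringHom_ext (fun c => ?_) (fun p => ?_)
    · simp
    · simp only [RingHom.comp_apply, AlgHom.toRingHom_eq_coe, RingHom.coe_coe, eval_X]
      unfold pairingMap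
      rw [aeval_X, map_sum, Matrix.mul_apply]
      simp only [map_mul, eval_X, Matrix.of_apply]
  exact RingHom.congr_fun hh h

open MvPolynomial in
/-- evaluation of a minor of the generic matrix -/
theorem eval_genMinor (K : Type u) [Field K] (m q t : ℕ) (z : Fin m × Fin q → K)
    (f : Fin t → Fin m) (g : Fin t → Fin q) :
    MvPolynomial.eval z ((genMatrix K m q).submatrix f g).det =
      ((Matrix.of fun i j => z (i, j) : Matrix (Fin m) (Fin q) K).submatrix f g).det := by
  rw [RingHom.map_det]
  congr 1
  ext a b
  simp [genMatrix]


open W4bk4grassmannian in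
/-- Second Fundamental Theorem of invariant theory for the general linear group acting on pairs of
matrices: let K be an algebraically closed field and m, n, q natural numbers. The kernel of the
K-algebra map K[y_{ij}] → K[u_{ik}, ξ_{kj}] (coordinate rings of M_{m,q} and of M_{m,n} × M_{n,q})
sending y_{ij} to Σ_k u_{ik} ξ_{kj}, the (i, j) entry of the product matrix, is the ideal generated
by the (n + 1) × (n + 1) minors of the generic m × q matrix (y_{ij}). -/
theorem result (K : Type u) [Field K] [IsAlgClosed K] (m n q : ℕ) :
    RingHom.ker (pairingMap K n m q).toRingHom = CAlgX.minorIdeal (genMatrix K m q) (n + 1) := by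
  haveI : Infinite K := IsAlgClosed.instInfinite
  apply le_antisymm
  · -- a polynomial vanishing at all products lies in the ideal of minors
    intro h hh
    have hker : pairingMap K n m q h = 0 := hh
    -- the values of `h` at matrices with vanishing `(n+1)`-minors
    have hval : ∀ z : Fin m × Fin q → K,
        (∀ (f : Fin (n + 1) → Fin m) (g : Fin (n + 1) → Fin q),
          ((Matrix.of fun i j => z (i, j) : Matrix (Fin m) (Fin q) K).submatrix f g).det = 0) →
        MvPolynomial.eval z h = 0 := by
      intro z hz
      obtain ⟨U, W, hUW⟩ := Groth.Agent.R2.H50.Skeleton.exists_mul_eq_of_minors _ hz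
      have h1 := eval_pairingMap K m n q
        (Sum.elim (fun p : Fin m × Fin n => U p.1 p.2) (fun p : Fin n × Fin q => W p.1 p.2)) h
      rw [hker, map_zero] at h1
      have h2 : (fun p : Fin m × Fin q =>
          ((Matrix.of fun i k => Sum.elim (fun p : Fin m × Fin n => U p.1 p.2)
            (fun p : Fin n × Fin q => W p.1 p.2) (Sum.inl (i, k)) : Matrix (Fin m) (Fin n) K) *
          (Matrix.of fun k j => Sum.elim (fun p : Fin m × Fin n => U p.1 p.2)
            (fun p : Fin n × Fin q => W p.1 p.2) (Sum.inr (k, j)) : Matrix (Fin n) (Fin q) K)) p.1 p.2) = z := by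
        funext p
        have : (Matrix.of fun i k => Sum.elim (fun p : Fin m × Fin n => U p.1 p.2)
            (fun p : Fin n × Fin q => W p.1 p.2) (Sum.inl (i, k)) : Matrix (Fin m) (Fin n) K) *
          (Matrix.of fun k j => Sum.elim (fun p : Fin m × Fin n => U p.1 p.2)
            (fun p : Fin n × Fin q => W p.1 p.2) (Sum.inr (k, j)) : Matrix (Fin n) (Fin q) K) = U * W := rfl
        rw [this, ← hUW]
        rfl
      rw [h2] at h1
      exact h1.symm
    by_cases hcase : n + 1 ≤ q ∧ n + 1 ≤ m
    · have hq : 0 < q := by omega
      refine Groth.Agent.R2.H50.DetVanish.mem_minorIdeal_of_forall_eval K q m hq (Nat.succ_pos n) hcase.1 hcase.2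
        h ?_
      intro z hz
      apply hval z
      intro f g
      rw [← eval_genMinor]
      exact hz _ (Ideal.subset_span ⟨(f, g), rfl⟩)
    · have h0 : h = 0 := by
        apply MvPolynomial.funext
        intro z
        rw [map_zero]
        apply hval z
        intro f g
        by_cases hq : n + 1 ≤ q
        · have hm : ¬ n + 1 ≤ m := fun hm => hcase ⟨hq, hm⟩
          have hninj : ¬ Function.Injective f := by
            intro hinj
            have := Fintype.card_le_of_injective f hinj
            simp only [Fintype.card_fin] at this
            omega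
          rw [Function.not_injective_iff] at hninj
          obtain ⟨a, b, hab, hne⟩ := hninj
          apply Matrix.det_zero_of_row_eq hne
          ext c
          simp [Matrix.submatrix_apply, hab]
        · have hninj : ¬ Function.Injective g := by
            intro hinj
            have := Fintype.card_le_of_injective g hinj
            simp only [Fintype.card_fin] at this
            omega
          rw [Function.not_injective_iff] at hninj
          obtain ⟨a, b, hab, hne⟩ := hninj
          apply Matrix.det_zero_of_column_eq hne
          intro c
          simp [Matrix.submatrix_apply, hab]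
      rw [h0]
      exact Ideal.zero_mem _
  · -- the minors of a product vanish
    unfold CAlgX.minorIdeal
    rw [Ideal.span_le]
    rintro _ ⟨⟨f, g⟩, rfl⟩
    rw [SetLike.mem_coe, RingHom.mem_ker]
    show pairingMap K n m q _ = 0
    apply MvPolynomial.funext
    intro x
    rw [map_zero, eval_pairingMap, eval_genMinor]
    exact Groth.Agent.R2.H50.Skeleton.det_submatrix_mul_eq_zero _ _ f g

end Groth.Agent.S11267
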