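import Groth.Statements.S11276
import Groth.Agent.R2.H50GradedDim

set_option autoImplicit false
universe u v
open W4bk4grassmannian
open Groth.Agent.R2.H50 Groth.Agent.R2.H50.CM Groth.Agent.Lib.Helper28

namespace Groth.Agent.S11276

theorem ringKrullDim_LQ' {A : Type v} [CommRing A] (𝔞 p : Ideal A) [p.IsPrime] (h : 𝔞 ≤ p) :
    ringKrullDim (LQ 𝔞 p) = ((p.map (Ideal.Quotient.mk 𝔞)).height : WithBot ℕ∞) := by
  obtain ⟨P, hP, rfl⟩ := exists_comap_eq 𝔞 p h
  rw [ringKrullDim_LQ, Ideal.map_comap_of_surjective _ Ideal.Quotient.mk_surjective]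

theorem ne_top_of_dim {A : Type v} [CommRing A] (I : Ideal A) (n : ℕ)
    (h : ringKrullDim (A ⧸ I) = (n : WithBot ℕ∞)) : I ≠ ⊤ := by
  rintro rfl
  rw [ringKrullDim_eq_bot_of_subsingleton] at h
  exact absurd h (by simp)

end Groth.Agent.S11276

namespace Groth.Agent.S11276

/-- With the conclusion at the irrelevant ideal: let K be a field, A a commutative Noetherian K-algebra
graded by ℕ with degree-zero part K, I and J homogeneous ideals of A such that A/I and A/J are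
Cohen–Macaulay rings of Krull dimension e and A/(I + J) is a Cohen–Macaulay ring of Krull dimension
e - 1, where e ≥ 1. Let m be the image in A/(I ∩ J) of the irrelevant ideal A_+ (assumed prime; it
is maximal). Then the local ring (A/(I ∩ J))_m is Cohen–Macaulay of Krull dimension e. (The
published lemma concludes that A/(I ∩ J) itself is Cohen–Macaulay of dimension e; this row states
the conclusion at the irrelevant ideal only, from which the global one follows by the graded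
local–global principle.) -/
theorem result (K : Type u) [Field K] (A : Type v) [CommRing A]
    [Algebra K A] [IsNoetherianRing A] (𝒜 : ℕ → Submodule K A) [GradedAlgebra 𝒜]
    (h0 : ∀ a ∈ 𝒜 0, ∃ c : K, algebraMap K A c = a) (I J : Ideal A) (hI : I.IsHomogeneous 𝒜)
    (hJ : J.IsHomogeneous 𝒜) (e : ℕ) (he : 1 ≤ e)
    (hIcm : LocCoh.IsCohenMacaulayRing (A ⧸ I)) (hJcm : LocCoh.IsCohenMacaulayRing (A ⧸ J))
    (hIJcm : LocCoh.IsCohenMacaulayRing (A ⧸ (I ⊔ J)))
    (hIdim : ringKrullDim (A ⧸ I) = (e : WithBot ℕ∞)) (hJdim : ringKrullDim (A ⧸ J) = (e : WithBot ℕ∞))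
    (hIJdim : ringKrullDim (A ⧸ (I ⊔ J)) = ((e - 1 : ℕ) : WithBot ℕ∞))
    [hm : ((HomogeneousIdeal.irrelevant 𝒜).toIdeal.map (Ideal.Quotient.mk (I ⊓ J))).IsPrime] :
    LocCoh.IsCohenMacaulayLocalRing (Localization.AtPrime
        ((HomogeneousIdeal.irrelevant 𝒜).toIdeal.map (Ideal.Quotient.mk (I ⊓ J)))) ∧
      ringKrullDim (Localization.AtPrime
        ((HomogeneousIdeal.irrelevant 𝒜).toIdeal.map (Ideal.Quotient.mk (I ⊓ J)))) = (e : WithBot ℕ∞) := by
  classical
  have hIne := ne_top_of_dim I e hIdim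
  have hJne := ne_top_of_dim J e hJdim
  have hIJne := ne_top_of_dim (I ⊔ J) (e - 1) hIJdim
  haveI : Nontrivial A := by
    by_contra h
    rw [not_nontrivial_iff_subsingleton] at h
    exact hIne (Subsingleton.elim _ _)
  have hIJhom : (I ⊔ J).IsHomogeneous 𝒜 := hI.sup hJ
  have hmax := GradedDim.irrelevant_isMaximal 𝒜 h0
  haveI hmp : (HomogeneousIdeal.irrelevant 𝒜).toIdeal.IsPrime := hmax.isPrime
  have hIle := GradedDim.le_irrelevant_of_ne_top 𝒜 h0 I hI hIne
  have hJle := GradedDim.le_irrelevant_of_ne_top 𝒜 h0 J hJ hJne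
  have hIJle := GradedDim.le_irrelevant_of_ne_top 𝒜 h0 (I ⊔ J) hIJhom hIJne
  have hinfle : I ⊓ J ≤ (HomogeneousIdeal.irrelevant 𝒜).toIdeal := inf_le_left.trans hIle
  have hcI := cmLocal_LQ_of_cmRing I (HomogeneousIdeal.irrelevant 𝒜).toIdeal hIle
  have hcJ := cmLocal_LQ_of_cmRing J (HomogeneousIdeal.irrelevant 𝒜).toIdeal hJle
  have hcIJ := cmLocal_LQ_of_cmRing (I ⊔ J) (HomogeneousIdeal.irrelevant 𝒜).toIdeal hIJle
  have hdI : ringKrullDim (LQ I (HomogeneousIdeal.irrelevant 𝒜).toIdeal) = (e : WithBot ℕ∞) := by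
    rw [ringKrullDim_LQ' _ _ hIle, GradedDim.height_map_irrelevant 𝒜 h0 I hI hIne, hIdim]
  have hdJ : ringKrullDim (LQ J (HomogeneousIdeal.irrelevant 𝒜).toIdeal) = (e : WithBot ℕ∞) := by
    rw [ringKrullDim_LQ' _ _ hJle, GradedDim.height_map_irrelevant 𝒜 h0 J hJ hJne, hJdim]
  have hdIJ : ringKrullDim (LQ (I ⊔ J) (HomogeneousIdeal.irrelevant 𝒜).toIdeal) = ((e - 1 : ℕ) : WithBot ℕ∞) := by
    rw [ringKrullDim_LQ' _ _ hIJle, GradedDim.height_map_irrelevant 𝒜 h0 (I ⊔ J) hIJhom hIJne, hIJdim]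
  have hle : (e : WithBot ℕ∞) ≤ ringKrullDim (LQ (I ⊔ J) (HomogeneousIdeal.irrelevant 𝒜).toIdeal) + 1 := by
    rw [hdIJ]
    have : e = (e - 1) + 1 := by omega
    conv_lhs => rw [this]
    push_cast
    exact le_rfl
  have main := cmLocal_LQ_inf I J (HomogeneousIdeal.irrelevant 𝒜).toIdeal hIle hJle hcI hcJ hcIJ e hdI hdJ hle
  have hcomap : ((HomogeneousIdeal.irrelevant 𝒜).toIdeal.map (Ideal.Quotient.mk (I ⊓ J))).comap
      (Ideal.Quotient.mk (I ⊓ J)) = (HomogeneousIdeal.irrelevant 𝒜).toIdeal := Ideal.comap_map_mk hinfle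
  have key : ∀ (p' : Ideal A) [p'.IsPrime], p' = (HomogeneousIdeal.irrelevant 𝒜).toIdeal →
      LocCoh.IsCohenMacaulayLocalRing (LQ (I ⊓ J) p') ∧ ringKrullDim (LQ (I ⊓ J) p') = (e : WithBot ℕ∞) := by
    intro p' _ hp'
    subst hp'
    exact main
  obtain ⟨k1, k2⟩ := key _ hcomap
  refine ⟨isCohenMacaulayLocalRing_of_ringEquiv (locQuotEquiv (I ⊓ J) _).symm, ?_⟩
  rw [ringKrullDim_eq_of_ringEquiv (locQuotEquiv (I ⊓ J) _)]
  exact k2

end Groth.Agent.S11276
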