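import Groth.Statements.S11279
import Groth.Agent.R2.H50PlCMMain

set_option autoImplicit false
universe u
open W4bk4grassmannian

namespace Groth.Agent.S11279

open W4bk4grassmannian in
/-- The cone over a union of Schubert divisors of a Schubert variety is Cohen–Macaulay: let K be an
algebraically closed field, 0 < d < n, and I(d,n) the strictly increasing maps Fin d → Fin n ordered
entrywise; S = K[X_θ : θ ∈ I(d,n)] is the Plücker polynomial ring and, for τ ∈ I(d,n), J(τ) ⊆ S is
the ideal of polynomials vanishing at the d × d row-minors of every n × d matrix over K whose minors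
on rows φ ≰ τ are zero (the homogeneous ideal of the Schubert variety X(τ) ⊆ G(d,n)). Let τ ∈ I(d,n)
and let φ_1, …, φ_s be Schubert divisors of τ (φ_i < τ with Σ_t ((φ_i)_t - t) + 1 = Σ_t (τ_t - t)).
Then S/⋂_i J(φ_i), the coordinate ring of the cone over the union ⋃_i X(φ_i), is a Cohen–Macaulay
ring. (The published proposition assumes the Schubert varieties of smaller dimension arithmetically
Cohen–Macaulay; this row drops that hypothesis, which holds for all Schubert varieties.) -/
theorem result (K : Type u) [Field K] [IsAlgClosed K] (d n : ℕ)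
    (hd : 0 < d) (hdn : d < n) (τ : Idx d n) (s : ℕ) (φ : Fin s → Idx d n) (hφ : ∀ i, φ i ∈ divisors τ) :
    LocCoh.IsCohenMacaulayRing (PlRing K d n ⧸ ⨅ i, schubertVanishing K d n (φ i)) := by
  classical
  rcases Nat.eq_zero_or_pos s with hs | hs
  · subst hs
    refine Groth.Agent.R2.H50.CM.cmRing_quotient_of_forall _ fun p hp hle => ?_
    rw [iInf_of_empty] at hle
    exact absurd (top_le_iff.1 hle) (Ideal.IsPrime.ne_top hp)
  · haveI : Nonempty (Fin s) := ⟨⟨0, hs⟩⟩
    have e1 : (⨅ i, schubertVanishing K d n (φ i)) =
        (Finset.univ.image φ).inf fun ψ => schubertVanishing K d n ψ := by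
      rw [Finset.inf_image, Finset.inf_univ_eq_iInf]
      rfl
    rw [e1]
    refine Groth.Agent.R2.H50.PlCM.cmRing_of_good K _ _
      (Groth.Agent.R2.H50.PlCM.good_divisors K hd hdn τ _ (Finset.univ_nonempty.image φ) ?_)
    intro ψ hψ
    obtain ⟨i, -, rfl⟩ := Finset.mem_image.1 hψ
    exact hφ i

end Groth.Agent.S11279
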