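import Groth.Statements.S11393
import Groth.Agent.R2.H51FormalLocal
-- import your own Groth.Agent.* helpers here

set_option autoImplicit false
universe u
open CategoryTheory CategoryTheory.Limits AlgebraicGeometry TopologicalSpace
open Variety

namespace Groth.Agent.S11393

/-- Let X be proper over an algebraically closed field k and 𝓘 a quasi-coherent ideal whose closed
subscheme Y is connected (and nonempty); let Y_m be the closed subscheme of 𝓘^{m+1} and A = lim_m
Γ(Y_m, O_{Y_m}) the ring of formal-regular functions along Y (global sections of the structure sheaf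
of the formal completion), formed as the limit in commutative rings along the restriction maps
Γ(Y_{m+1}, O) → Γ(Y_m, O). Then A is a local ring, and every element a of A differs from the image
of some constant c ∈ k by an element whose image in each Γ(Y_m, O_{Y_m}) is nilpotent (so the
residue field of A is k through the structure map). (The published statement also asserts that A is
a complete local ring; that clause is not included here.) -/
theorem result (k : Type u) [Field k] [IsAlgClosed k] (X : Scheme.{u})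
    [X.Over (Spec (CommRingCat.of k))] [IsProper (X ↘ (Spec (CommRingCat.of k)))]
    (𝓘 : X.IdealSheafData) (hY : _root_.IsConnected (𝓘.support : Set X)) :
    IsLocalRing ↑(limit (Functor.ofOpSequence
        (X := fun m : ℕ => Γ((𝓘 ^ (m + 1)).subscheme, ⊤))
        (fun m : ℕ => (Scheme.IdealSheafData.inclusion (Lef.pow_succ_le 𝓘 m)).appTop))) ∧
      ∀ a : ↑(limit (Functor.ofOpSequence
        (X := fun m : ℕ => Γ((𝓘 ^ (m + 1)).subscheme, ⊤))
        (fun m : ℕ => (Scheme.IdealSheafData.inclusion (Lef.pow_succ_le 𝓘 m)).appTop))),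
        ∃ c : k, ∀ m : ℕ, IsNilpotent (Sub.sub (α := ↑Γ((𝓘 ^ (m + 1)).subscheme, ⊤))
          ((limit.π (Functor.ofOpSequence
              (X := fun m : ℕ => Γ((𝓘 ^ (m + 1)).subscheme, ⊤))
              (fun m : ℕ => (Scheme.IdealSheafData.inclusion (Lef.pow_succ_le 𝓘 m)).appTop)) (Opposite.op m)).hom a)
          (((𝓘 ^ (m + 1)).subschemeι ≫ (X ↘ Spec (CommRingCat.of k))).appTop.hom
            ((Scheme.ΓSpecIso (CommRingCat.of k)).inv.hom c))) := by
  let F : ℕᵒᵖ ⥤ CommRingCat.{u} := Functor.ofOpSequence
    (X := fun m : ℕ => Γ((𝓘 ^ (m + 1)).subscheme, ⊤))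
    (fun m : ℕ => (Scheme.IdealSheafData.inclusion (Lef.pow_succ_le 𝓘 m)).appTop)
  have hcomp : ∀ m : ℕ,
      ((𝓘 ^ (m + 1 + 1)).subschemeι ≫ (X ↘ Spec (CommRingCat.of k))).appTop ≫
        (Scheme.IdealSheafData.inclusion (Lef.pow_succ_le 𝓘 m)).appTop =
      ((𝓘 ^ (m + 1)).subschemeι ≫ (X ↘ Spec (CommRingCat.of k))).appTop := by
    intro m
    rw [← Scheme.Hom.comp_appTop, ← Category.assoc, Scheme.IdealSheafData.inclusion_subschemeι]
  let ψ : (Functor.const ℕᵒᵖ).obj (CommRingCat.of k) ⟶ F :=
    NatTrans.ofOpSequence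
      (fun m => (Scheme.ΓSpecIso (CommRingCat.of k)).inv ≫
        ((𝓘 ^ (m + 1)).subschemeι ≫ (X ↘ Spec (CommRingCat.of k))).appTop)
      (by
        intro m
        rw [Functor.ofOpSequence_map_homOfLE_succ]
        simp only [Functor.const_obj_obj, Functor.const_obj_map, Category.id_comp]
        exact ((congrArg (fun t => (Scheme.ΓSpecIso (CommRingCat.of k)).inv ≫ t)
          (hcomp m)).symm.trans (Category.assoc _ _ _).symm))
  have hconn : ∀ m : ℕ, ConnectedSpace ↥((𝓘 ^ (m + 1)).subscheme) := by
    intro m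
    have hr : Set.range (𝓘 ^ (m + 1)).subschemeι = (𝓘.support : Set X) := by
      rw [Scheme.IdealSheafData.range_subschemeι, Scheme.IdealSheafData.support_pow_succ]
    have hemb : Topology.IsEmbedding (𝓘 ^ (m + 1)).subschemeι :=
      (𝓘 ^ (m + 1)).subschemeι.isEmbedding
    have hpre : _root_.IsPreconnected (Set.univ : Set ↥((𝓘 ^ (m + 1)).subscheme)) := by
      apply hemb.isInducing.isPreconnected_image.mp
      rw [Set.image_univ, hr]
      exact hY.isPreconnected
    have hne : Nonempty ↥((𝓘 ^ (m + 1)).subscheme) := by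
      obtain ⟨x, hx⟩ := hY.nonempty
      rw [← hr] at hx
      obtain ⟨y, _⟩ := hx
      exact ⟨y⟩
    exact { isPreconnected_univ := hpre, toNonempty := hne }
  have hnt : Nontrivial (F.obj (Opposite.op 0)) := by
    have := hconn 0
    obtain ⟨y⟩ := (inferInstance : Nonempty ↥((𝓘 ^ (0 + 1)).subscheme))
    have : Nonempty ↥(⊤ : ((𝓘 ^ (0 + 1)).subscheme).Opens) := ⟨⟨y, trivial⟩⟩
    change Nontrivial Γ((𝓘 ^ (0 + 1)).subscheme, ⊤)
    infer_instance
  have hnil : ∀ (m : ℕ) (a : F.obj (Opposite.op m)), ∃ c : k,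
      IsNilpotent (a - (ψ.app (Opposite.op m)).hom c) := by
    intro m a
    have := hconn m
    exact Groth.Agent.R2.H51.FormalLocal.exists_const_sub_isNilpotent k
      ((𝓘 ^ (m + 1)).subschemeι ≫ (X ↘ Spec (CommRingCat.of k))) a
  exact Groth.Agent.R2.H51.FormalLocal.isLocalRing_limit_and F ψ hnil

end Groth.Agent.S11393
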