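import Groth.Statements.S11404
import Groth.Agent.S11421
import Groth.Agent.Lib.Helper11Rigidity
import Groth.Agent.Lib.Helper11SmInt

set_option autoImplicit false
universe u
open CategoryTheory MonoidalCategory CartesianMonoidalCategory MonObj GrpObj AlgebraicGeometry CategoryTheory.Limits
open AlgGrp

namespace Groth.Agent.S11404

/-- Over an algebraically closed field k, let A be an abelian variety (a proper, smooth, connected
k-group scheme) and S a connected k-scheme of finite type. For every automorphism f of A × S over S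
there are a unique k-morphism g : S → A and a unique group automorphism h of A with f(a, s) = (g(s)
· h(a), s) on points. (This is the functor-of-points form, over a connected base, of the
identification of the automorphism group scheme of A with the semidirect product of A, acting by
translations, and the constant group of group automorphisms; in particular the neutral component is
A.) -/
theorem result (k : Type u) [Field k] [IsAlgClosed k]
    (A S : Over (Spec (CommRingCat.of k))) [GrpObj A] [IsProper A.hom] [Smooth A.hom] [ConnectedSpace ↥A.left]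
    [LocallyOfFiniteType S.hom] [QuasiCompact S.hom] [ConnectedSpace ↥S.left]
    (f : A ⊗ S ≅ A ⊗ S) (hf : f.hom ≫ snd A S = snd A S) :
    ∃ (g : S ⟶ A) (h : A ⟶ A), IsMonHom h ∧ IsIso h ∧
      f.hom ≫ fst A S = (snd A S ≫ g) * (fst A S ≫ h) ∧
      ∀ (g' : S ⟶ A) (h' : A ⟶ A), IsMonHom h' →
        f.hom ≫ fst A S = (snd A S ≫ g') * (fst A S ≫ h') → g' = g ∧ h' = h := by
  -- an abelian variety has only constant global functions
  have : IsNoetherian A.left := by
    have : IsLocallyNoetherian A.left := LocallyOfFiniteType.isLocallyNoetherian A.hom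
    have : CompactSpace A.left := QuasiCompact.compactSpace_of_compactSpace A.hom
    exact {}
  have : IsIntegral A.left :=
    Groth.Agent.Lib.Helper11SmInt.isIntegral_of_connected_of_isDomain_stalk
      (fun y => Groth.Agent.Lib.Helper11SmInt.isDomain_stalk_of_smooth k A.hom y)
  have hA : Function.Bijective ((Scheme.ΓSpecIso (CommRingCat.of k)).inv ≫ A.hom.appTop).hom := by
    have h1 : Function.Bijective A.hom.appTop :=
      Groth.Agent.Lib.Helper11Rigidity.appTop_bijective_of_isAlgClosed A.hom
    have h2 : Function.Bijective (Scheme.ΓSpecIso (CommRingCat.of k)).inv :=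
      (ConcreteCategory.isIso_iff_bijective _).mp inferInstance
    exact h1.comp h2
  obtain ⟨g, h, hh, hdec, huniq⟩ := Groth.Agent.S11421.result k A A S hA (f.hom ≫ fst A S)
  obtain ⟨g₂, h₂, hh₂, hdec₂, -⟩ := Groth.Agent.S11421.result k A A S hA (f.inv ≫ fst A S)
  obtain ⟨g₃, h₃, -, -, huniq₃⟩ := Groth.Agent.S11421.result k A A S hA (fst A S)
  have hf' : f.inv ≫ snd A S = snd A S := by
    rw [Iso.inv_comp_eq]
    exact hf.symm
  -- composition formula
  have hcomp : ∀ (F F' : A ⊗ S ⟶ A ⊗ S) (g₁ g₁' : S ⟶ A) (h₁ h₁' : A ⟶ A) [IsMonHom h₁'],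
      F ≫ snd A S = snd A S → F ≫ fst A S = (snd A S ≫ g₁) * (fst A S ≫ h₁) →
      F' ≫ fst A S = (snd A S ≫ g₁') * (fst A S ≫ h₁') →
      (F ≫ F') ≫ fst A S = (snd A S ≫ (g₁' * (g₁ ≫ h₁'))) * (fst A S ≫ (h₁ ≫ h₁')) := by
    intro F F' g₁ g₁' h₁ h₁' _ hs hF hF'
    rw [Category.assoc, hF', MonObj.comp_mul, ← Category.assoc F, hs, ← Category.assoc F, hF,
      MonObj.mul_comp, MonObj.comp_mul, _root_.mul_assoc]
    simp only [Category.assoc]
  have hid : (𝟙 (A ⊗ S)) ≫ fst A S = (snd A S ≫ (1 : S ⟶ A)) * (fst A S ≫ 𝟙 A) := by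
    rw [Category.id_comp, Category.comp_id, MonObj.comp_one, _root_.one_mul]
  have e1 : h ≫ h₂ = 𝟙 A := by
    have hc := hcomp f.hom f.inv g g₂ h h₂ hf hdec hdec₂
    rw [Iso.hom_inv_id] at hc
    rw [Category.id_comp] at hc hid
    have u1 := (huniq₃ _ _ inferInstance hc).2
    have u2 := (huniq₃ _ _ inferInstance hid).2
    rw [u1, u2]
  have e2 : h₂ ≫ h = 𝟙 A := by
    have hc := hcomp f.inv f.hom g₂ g h₂ h hf' hdec₂ hdec
    rw [Iso.inv_hom_id] at hc
    rw [Category.id_comp] at hc hid
    have u1 := (huniq₃ _ _ inferInstance hc).2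
    have u2 := (huniq₃ _ _ inferInstance hid).2
    rw [u1, u2]
  exact ⟨g, h, hh, ⟨h₂, e1, e2⟩, hdec, huniq⟩

end Groth.Agent.S11404
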