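import Groth.Statements.S11418
import Groth.Agent.Lib.Helper12Act

set_option autoImplicit false
universe u
open CategoryTheory MonoidalCategory CartesianMonoidalCategory MonObj GrpObj AlgebraicGeometry CategoryTheory.Limits
open AlgGrp

namespace Groth.Agent.S11418

/-- Over an algebraically closed field k, let G be an affine algebraic group (smooth affine k-group
scheme of finite type) and π : X → Y a principal G-bundle of k-schemes of finite type: G acts on X,
π is G-invariant, faithfully flat, and the square formed by the action, the second projection G × X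
→ X and π is cartesian. Then the map θ sending a G-equivariant morphism f : X → G (for the
conjugation action on G, i.e. f(g·x) = g f(x) g⁻¹ on points) to the automorphism x ↦ f(x)·x is a
bijection onto the bundle automorphisms: every G-equivariant automorphism φ of X with π ∘ φ = π
equals θ(f) for exactly one such f. -/
theorem result (k : Type u) [Field k] [IsAlgClosed k]
    (G X Y : Over (Spec (CommRingCat.of k))) [GrpObj G] [Smooth G.hom] [QuasiCompact G.hom] [IsAffine G.left]
    [LocallyOfFiniteType X.hom] [QuasiCompact X.hom] [LocallyOfFiniteType Y.hom] [QuasiCompact Y.hom]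
    (a : AlgGrp.Action G X) (π : X ⟶ Y) (hinv : a.act ≫ π = snd G X ≫ π) [Flat π.left] [Surjective π.left]
    (hcart : IsPullback (snd G X) a.act π π)
    (φ : X ≅ X) (hφ : φ.hom ≫ π = π) (hφeq : (G ◁ φ.hom) ≫ a.act = a.act ≫ φ.hom) :
    ∃! f : X ⟶ G, (∀ (S : Over (Spec (CommRingCat.of k))) (g : S ⟶ G) (x : S ⟶ X),
        lift g x ≫ a.act ≫ f = g * (x ≫ f) * g⁻¹) ∧ φ.hom = lift f (𝟙 X) ≫ a.act := by
  have hcond : (𝟙 X) ≫ π = φ.hom ≫ π := by rw [hφ, Category.id_comp]
  obtain ⟨u, hu1, hu2⟩ : ∃ u : X ⟶ G ⊗ X, u ≫ snd G X = 𝟙 X ∧ u ≫ a.act = φ.hom :=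
    ⟨hcart.lift (𝟙 X) φ.hom hcond, hcart.lift_fst _ _ _, hcart.lift_snd _ _ _⟩
  have huniq : ∀ {T : Over (Spec (CommRingCat.of k))} (v w : T ⟶ G ⊗ X),
      v ≫ snd G X = w ≫ snd G X → v ≫ a.act = w ≫ a.act → v = w :=
    fun v w h1 h2 => hcart.hom_ext h1 h2
  obtain ⟨f, hf⟩ : ∃ f : X ⟶ G, f = u ≫ fst G X := ⟨_, rfl⟩
  have huf : u = lift f (𝟙 X) := by
    apply CartesianMonoidalCategory.hom_ext
    · rw [lift_fst, hf]
    · rw [lift_snd, hu1]
  have hφf : φ.hom = lift f (𝟙 X) ≫ a.act := by rw [← huf, hu2]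
  have hpt : ∀ {T : Over (Spec (CommRingCat.of k))} (x : T ⟶ X),
      lift (x ≫ f) x ≫ a.act = x ≫ φ.hom := by
    intro T x
    rw [hφf, ← Category.assoc, comp_lift, Category.comp_id]
  refine ⟨f, ⟨?_, hφf⟩, ?_⟩
  · intro T g x
    obtain ⟨x', hx'⟩ : ∃ x' : T ⟶ X, x' = lift g x ≫ a.act := ⟨_, rfl⟩
    have key1 : lift (x' ≫ f) x' ≫ a.act = x' ≫ φ.hom := hpt x'
    have key2 : lift (g * (x ≫ f) * g⁻¹) x' ≫ a.act = x' ≫ φ.hom := by
      rw [hx', ← Groth.Agent.Lib.Helper12.act_mul, inv_mul_cancel_right,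
        Groth.Agent.Lib.Helper12.act_mul, hpt x]
      have h1 : lift g (x ≫ φ.hom) = lift g x ≫ (G ◁ φ.hom) := by
        apply CartesianMonoidalCategory.hom_ext
        · simp
        · simp
      rw [h1, Category.assoc, hφeq, ← Category.assoc]
    have h2 := huniq (lift (x' ≫ f) x') (lift (g * (x ≫ f) * g⁻¹) x')
      (by rw [lift_snd, lift_snd]) (by rw [key1, key2])
    have h3 := congrArg (fun v => v ≫ fst G X) h2
    simp only [lift_fst] at h3
    rw [← Category.assoc, ← hx']
    exact h3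
  · rintro f' ⟨-, hf'⟩
    have h2 := huniq (lift f' (𝟙 X)) (lift f (𝟙 X)) (by rw [lift_snd, lift_snd])
      (by rw [← hf', ← hφf])
    have h3 := congrArg (fun v => v ≫ fst G X) h2
    simp only [lift_fst] at h3
    exact h3

end Groth.Agent.S11418
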