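import Groth.Statements.S1147
import Groth.Agent.S9432
import Groth.Agent.R2.H6JacDesc

set_option autoImplicit false
universe u
open Desc

namespace Groth.Agent.S1147

/-- Let A → B be a faithfully flat ring map of finite presentation. If B is a Jacobson ring then so is
A. (This is the affine descent direction of the statement that the Jacobson property is fppf local.) -/
theorem result (A B : Type u) [CommRing A] [CommRing B] [Algebra A B]
    [Module.FaithfullyFlat A B] [Algebra.FinitePresentation A B] [IsJacobsonRing B] : IsJacobsonRing A := by
  obtain ⟨C, _, _, hqf, hft, hff, hfp, ⟨φ⟩⟩ := Groth.Agent.S9432.result A B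
  have hC : IsJacobsonRing C := by
    have hφ : (φ : B →+* C).FiniteType := by
      have h1 : (algebraMap A C).FiniteType := RingHom.finiteType_algebraMap.mpr hft
      have h2 : (algebraMap A C) = (φ : B →+* C).comp (algebraMap A B) := by
        ext a
        exact (φ.commutes a).symm
      rw [h2] at h1
      exact RingHom.FiniteType.of_comp_finiteType h1
    exact hφ.isJacobsonRing
  exact Groth.Agent.R2.H6.JacDesc.isJacobsonRing_of_quasiFinite_faithfullyFlat A C

end Groth.Agent.S1147
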