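import Groth.Statements.S15028
import Groth.Agent.R2.H62CurveDeg2
import Groth.Agent.R2.H20LocFreeRank
import Groth.Agent.S0002
import Groth.Agent.S0020

set_option autoImplicit false
set_option linter.style.haveILetI false
universe u
open CategoryTheory CategoryTheory.Limits AlgebraicGeometry
open TFCurv

namespace Groth.Agent.S15028

/-- Let X be an integral proper curve (integral, proper, of dimension one) over an algebraically closed
field k, and let f : E → F be a monomorphism of coherent torsion-free O_X-modules which is
generically an isomorphism (the stalk of its cokernel at the generic point vanishes), with E of rank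
n at the generic point. Then deg E ≤ deg F, degrees being taken as modules of rank n (Euler
characteristic minus n times that of O_X), and equality holds if and only if f is an isomorphism.
(The published statement covers in the same words bundles with parabolic structure and a weight α <
1; only the case without parabolic structure is stated here.) -/
theorem result (k : Type u) [Field k] [IsAlgClosed k] (X : Scheme.{u}) [X.Over (Spec (CommRingCat.of k))] [IsIntegral X] [IsProper (X ↘ Spec (CommRingCat.of k))] (hdim : topologicalKrullDim X = 1) (E F : X.Modules) (hEc : Coh.IsCoh E) (hFc : Coh.IsCoh F) (hEt : TorSh.IsTorsionFree E) (hFt : TorSh.IsTorsionFree F) (n : ℕ) (hn : Module.finrank (X.presheaf.stalk (genericPoint X)) (E.presheaf.stalk (genericPoint X)) = n) (f : E ⟶ F) [Mono f] (hgen : Subsingleton ((cokernel f).presheaf.stalk (genericPoint X))) : Curv2.deg k X E n ≤ Curv2.deg k X F n ∧ (Curv2.deg k X E n = Curv2.deg k X F n ↔ IsIso f) := by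
  haveI := Groth.Agent.R2.H62.CurveCore.compactSpace_of_isProper k X
  haveI := Groth.Agent.R2.H62.CurveCore.quasiSeparatedSpace_of_isProper k X
  haveI hN' : IsLocallyNoetherian X :=
    LocallyOfFiniteType.isLocallyNoetherian (X ↘ Spec (CommRingCat.of k))
  have hfin : Groth.Agent.R2.H62.CurveCore.HFin k X :=
    fun M hM i => Groth.Agent.S0002.result k X M hM i
  have hcQ := Groth.Agent.R2.H62.CurveInv.isCoh_cokernel hEc hFc f
  have hcl : IsClosed (CohB1.support (cokernel f)) := Groth.Agent.S0020.result X _ hcQ.2
  have hsupp : topologicalKrullDim (CohB1.support (cokernel f)) ≤ 0 := by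
    refine Groth.Agent.R2.H62.CurveInv.topologicalKrullDim_le_zero_of_isClosed_ne_univ hdim.le hcl ?_
    intro huniv
    have hmem : genericPoint X ∈ CohB1.support (cokernel f) := huniv ▸ Set.mem_univ _
    exact hmem hgen
  have hadd := Groth.Agent.R2.H62.CurveCore.euler_additive_of_hfin hfin _
    (Groth.Agent.R2.H62.CurveCore.shortExact_cokernel f) hEc hFc hcQ
  have hQ := Groth.Agent.R2.H62.CurveCore.euler_eq_finrank_of_dim_zero (k := k) (cokernel f) hcQ hsupp
  have hdeg : Curv2.deg k X F n =
      Curv2.deg k X E n + Module.finrank k (Coh.HH X (cokernel f) 0) := by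
    simp only at hadd
    unfold Curv2.deg
    rw [hadd, hQ]
    ring
  refine ⟨by rw [hdeg]; simp, ⟨fun heq => ?_, fun hiso => ?_⟩⟩
  · have h0 := Groth.Agent.R2.H62.CurveCore.isClosed_singleton_of_support_dim_le_zero
      (cokernel f) hcl hsupp
    have hfr : Module.finrank k (Coh.HH X (cokernel f) 0) = 0 := by
      have : (Module.finrank k (Coh.HH X (cokernel f) 0) : ℤ) = 0 := by linarith
      exact_mod_cast this
    haveI : Module.Finite k (Coh.HH X (cokernel f) 0) := hfin _ hcQ 0
    haveI : Subsingleton (Coh.HH X (cokernel f) 0) := Module.finrank_zero_iff.1 hfr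
    exact Groth.Agent.R2.H62.CurveCore.isIso_of_mono_of_support_cokernel_eq_empty f
      (Groth.Agent.R2.H62.CurveH0.support_eq_empty_of_subsingleton (cokernel f) hcQ h0)
  · haveI := hiso
    unfold Curv2.deg
    rw [Groth.Agent.R2.H20.LocFreeRank.euler_congr (k := k) (asIso f)]

end Groth.Agent.S15028
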