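import Groth.Statements.S7643
-- import your own Groth.Agent.* helpers here
import Mathlib
import Groth.Agent.S1524
import Groth.Agent.R2.H89RankAdd

set_option autoImplicit false
universe u
open CategoryTheory CategoryTheory.Limits AlgebraicGeometry
open Variety

namespace Groth.Agent.S7643

/-- Let X be proper of dimension at most one over a field k and let 0 → E₁ → E₂ → E₃ → 0 be a short
exact sequence of finite locally free modules of constant ranks n₁, n₂, n₃. Then deg(E₂) = deg(E₁) +
deg(E₃). -/
theorem result (k : Type u) [Field k] (X : Scheme.{u}) [X.Over (Spec (CommRingCat.of k))] [IsProper (X ↘ (Spec (CommRingCat.of k)))]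
    (hdim : topologicalKrullDim X ≤ 1) (S : ShortComplex X.Modules) (hS : S.ShortExact)
    (n₁ n₂ n₃ : ℕ) (h₁ : FlatMod.IsFinLocFreeOfRank n₁ S.X₁) (h₂ : FlatMod.IsFinLocFreeOfRank n₂ S.X₂)
    (h₃ : FlatMod.IsFinLocFreeOfRank n₃ S.X₃) :
    Curv2.deg k X S.X₂ n₂ = Curv2.deg k X S.X₁ n₁ + Curv2.deg k X S.X₃ n₃ := by
  classical
  open Groth.Agent.R2.H89.RankAdd in
  have c₁ := isCoh_of_isFinLocFree (isFinLocFree_of_rank h₁)
  open Groth.Agent.R2.H89.RankAdd in
  have c₂ := isCoh_of_isFinLocFree (isFinLocFree_of_rank h₂)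
  open Groth.Agent.R2.H89.RankAdd in
  have c₃ := isCoh_of_isFinLocFree (isFinLocFree_of_rank h₃)
  have hadd := Groth.Agent.S1524.result k X S hS c₁ c₂ c₃
  unfold Curv2.deg
  rw [hadd]
  by_cases hX : Nonempty X
  · have hn : n₂ = n₁ + n₃ := Groth.Agent.R2.H89.RankAdd.rank_add_of_shortExact S hS h₁ h₂ h₃
    rw [hn]
    push_cast
    ring
  · haveI : IsEmpty X := not_nonempty_iff.1 hX
    have h0 : Curv2.euler k X (Coh.structureModule X) = 0 := by
      unfold Curv2.euler
      apply finsum_eq_zero_of_forall_eq_zero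
      intro i
      haveI := Groth.Agent.R2.H89.RankAdd.subsingleton_HH_of_isEmpty (Coh.structureModule X) i
      rw [Module.finrank_zero_of_subsingleton]
      simp
    rw [h0]
    ring

end Groth.Agent.S7643
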