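import Groth.Statements.S11483
import Groth.Agent.R2.H85TFCurve
import Groth.Agent.Lib.Helper6SmRegSch
import Groth.Agent.R2.H12Dev3A
import Groth.Agent.R2.H62CurveDeg2
import Groth.Agent.S7643
import Groth.Agent.S15028

set_option autoImplicit false
set_option linter.style.haveILetI false
universe u
open CategoryTheory CategoryTheory.Limits AlgebraicGeometry
open Curves

namespace Groth.Agent.S11483

/-- Stable bundles are simple. Let X be a nonsingular projective curve over an algebraically closed
field k (smooth, proper, integral, of dimension one) and E a locally free sheaf of rank r on X which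
is stable: every locally free subsheaf G of rank s with 0 < s < r has deg G · r < deg E · s (degrees
computed as χ − rank·χ(O_X)). Then every nonzero endomorphism of E is an isomorphism. (The published
statement concludes that the endomorphisms of E are exactly the scalars; over the algebraically
closed field k this is equivalent, the endomorphism ring being a finite-dimensional division
algebra, and the form stated here avoids the k-linear structure on endomorphisms.) -/
theorem result (k : Type u) [Field k] [IsAlgClosed k] (X : Scheme.{u})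
    [X.Over (Spec (CommRingCat.of k))] (hX : Curve.IsSmoothProperCurve k X (X ↘ Spec (CommRingCat.of k))) (r : ℕ)
    (E : X.Modules) (hE : FlatMod.IsFinLocFreeOfRank r E)
    (hst : ∀ (G : X.Modules) (s : ℕ) (ι : G ⟶ E), Mono ι → FlatMod.IsFinLocFreeOfRank s G → 0 < s → s < r →
      Curv2.deg k X G s * (r : ℤ) < Curv2.deg k X E r * (s : ℤ))
    (φ : E ⟶ E) (hφ : φ ≠ 0) : IsIso φ := by
  obtain ⟨hprop, hsm, hint, hdim⟩ := hX
  haveI := hprop
  haveI := hsm
  haveI := hint
  haveI hN : IsLocallyNoetherian X :=
    LocallyOfFiniteType.isLocallyNoetherian (X ↘ Spec (CommRingCat.of k))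
  have hreg : ∀ x : X, IsRegularLocalRing (X.presheaf.stalk x) := fun x =>
    Groth.Agent.Lib.Helper6.SmRegSch.isRegularLocalRing_stalk_of_smooth_over_field k X
      (X ↘ Spec (CommRingCat.of k)) x
  have hEc := Groth.Agent.R2.H20.LocFreeRank.isCoh_of_isFinLocFreeOfRank hE
  have hEt := Groth.Agent.R2.H85.TFCurve.isTorsionFree_of_isFinLocFreeOfRank hE
  -- kernel and coimage
  have hKc : Coh.IsCoh (kernel φ) := Groth.Agent.R2.H12.Dev.isCoh_kernel hEc hEc φ
  have hIc : Coh.IsCoh (cokernel (kernel.ι φ)) :=
    Groth.Agent.R2.H12.Dev.isCoh_cokernel hKc hEc (kernel.ι φ)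
  obtain ⟨sK, hK⟩ := Groth.Agent.R2.H85.TFCurve.exists_rank_of_torsionFree hdim.le hreg _ hKc
    (Groth.Agent.R2.H85.TFCurve.isTorsionFree_of_mono (kernel.ι φ) hEt)
  have hIt : TorSh.IsTorsionFree (cokernel (kernel.ι φ)) :=
    Groth.Agent.R2.H85.TFCurve.isTorsionFree_of_mono (Abelian.factorThruCoimage φ) hEt
  obtain ⟨sI, hI⟩ := Groth.Agent.R2.H85.TFCurve.exists_rank_of_torsionFree hdim.le hreg _ hIc hIt
  have hS := Groth.Agent.R2.H62.CurveCore.shortExact_cokernel (kernel.ι φ)
  have hrank : r = sK + sI :=
    Groth.Agent.R2.H20.LocFreeRank.rank_add_of_shortExact _ hS hK hE hI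
  have hdeg := Groth.Agent.S7643.result k X hdim.le _ hS sK r sI hK hE hI
  simp only at hdeg
  have hfac : cokernel.π (kernel.ι φ) ≫ Abelian.factorThruCoimage φ = φ := Abelian.coimage.fac φ
  -- case analysis on the rank of the image
  have hcase : sI = 0 ∨ sK = 0 := by
    by_contra hcon
    rw [not_or] at hcon
    obtain ⟨h1, h2⟩ := hcon
    have hsI : 0 < sI := Nat.pos_of_ne_zero h1
    have hsK : 0 < sK := Nat.pos_of_ne_zero h2
    have i1 : Curv2.deg k X (kernel φ) sK * (r : ℤ) < Curv2.deg k X E r * (sK : ℤ) :=
      hst _ sK (kernel.ι φ) inferInstance hK hsK (by omega)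
    have i2 : Curv2.deg k X (cokernel (kernel.ι φ)) sI * (r : ℤ) < Curv2.deg k X E r * (sI : ℤ) :=
      hst _ sI (Abelian.factorThruCoimage φ) inferInstance hI hsI (by omega)
    have hr : (r : ℤ) = sK + sI := by exact_mod_cast hrank
    rw [hdeg, hr] at i1 i2
    generalize Curv2.deg k X (kernel φ) sK = a at i1 i2
    generalize Curv2.deg k X (cokernel (kernel.ι φ)) sI = b at i1 i2
    nlinarith
  rcases hcase with h0 | h0
  · exfalso
    subst h0
    have hz : IsZero (cokernel (kernel.ι φ)) := Groth.Agent.R2.H85.TFCurve.isZero_of_rank_zero hI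
    apply hφ
    rw [← hfac, hz.eq_of_tgt (cokernel.π (kernel.ι φ)) 0, zero_comp]
  · subst h0
    have hz : IsZero (kernel φ) := Groth.Agent.R2.H85.TFCurve.isZero_of_rank_zero hK
    haveI : Mono φ := Preadditive.mono_of_isZero_kernel φ hz
    have hinj := Groth.Agent.Lib.Helper23.StalkLin.stalkLin_injective φ (genericPoint X)
    have hfield : IsField (X.presheaf.stalk (genericPoint X)) :=
      isField_stalk_of_closure_mem_irreducibleComponents X _
        (by simp [irreducibleComponents_eq_singleton])
    have hsurj : Function.Surjective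
        (Groth.Agent.Lib.Helper4.NormDelta.stalkLin φ (genericPoint X)) := by
      letI := hfield.toField
      haveI := Groth.Agent.R2.H20.LocFreeRank.finite_stalk E hEc (genericPoint X)
      exact LinearMap.surjective_of_injective hinj
    have hgen := Groth.Agent.R2.H62.CurveInv.subsingleton_stalk_cokernel_of_surjective φ _ hsurj
    exact ((Groth.Agent.S15028.result k X hdim E E hEc hEc hEt hEt r
      (Groth.Agent.R2.H20.LocFreeRank.finrank_stalk hE _) φ hgen).2).1 rfl

end Groth.Agent.S11483
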