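import Groth.Statements.S1194
import Groth.Agent.R2.H22EssFP

set_option autoImplicit false
universe u
open FlatMor

namespace Groth.Agent.S1194

open IsLocalRing TensorProduct Groth.Agent.R2.H22.EssFP in
/-- Let R → S be a local homomorphism of local rings which is essentially of finite presentation, and N
a finitely presented S-module flat over R. Then multiplication by any element of S acting
injectively on N/𝔪_R N is a universally injective map of R-modules on N, and the localization map
from N to its localization at all such elements is universally injective over R. -/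
theorem result {R S : Type u} [CommRing R] [IsLocalRing R] [CommRing S] [IsLocalRing S] [Algebra R S]
    [IsLocalHom (algebraMap R S)] (hS : FlatCA.EssFinitePresentation R S)
    (N : Type u) [AddCommGroup N] [Module S N] [Module R N] [IsScalarTower R S N] [Module.FinitePresentation S N] [Module.Flat R N] :
    (∀ s ∈ FlatCA.nzdFiber R S N, FlatCA.UnivInj R ((LinearMap.lsmul S N s).restrictScalars R)) ∧
    FlatCA.UnivInj R ((LocalizedModule.mkLinearMap (FlatCA.nzdFiber R S N) N).restrictScalars R) := by
  constructor
  · intro s hs Q _ _
    rw [LinearMap.lTensor_inj_iff_rTensor_inj, injective_iff_map_eq_zero]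
    intro z hz
    have h1 : ∀ w : N ⊗[R] Q, ((LinearMap.lsmul S N s).restrictScalars R).rTensor Q w = s • w := by
      intro w
      induction w using TensorProduct.induction_on with
      | zero => simp
      | tmul n q => rfl
      | add w₁ w₂ h₁ h₂ => rw [map_add, h₁, h₂, smul_add]
    rw [h1] at hz
    exact eq_zero_of_smul_eq_zero_of_mem_nzdFiber hS N s hs Q z hz
  · intro Q _ _
    rw [LinearMap.lTensor_inj_iff_rTensor_inj, injective_iff_map_eq_zero]
    intro z hz
    have h1 : AlgebraTensorModule.rTensor R Q
        (LocalizedModule.mkLinearMap (FlatCA.nzdFiber R S N) N) z = 0 := hz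
    obtain ⟨t, ht⟩ := (IsLocalizedModule.eq_zero_iff (FlatCA.nzdFiber R S N)
      (AlgebraTensorModule.rTensor R Q
        (LocalizedModule.mkLinearMap (FlatCA.nzdFiber R S N) N))).mp h1
    exact eq_zero_of_smul_eq_zero_of_mem_nzdFiber hS N t.1 t.2 Q z ht

end Groth.Agent.S1194
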