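import Groth.Statements.S1196
import Groth.Agent.R2.H22EssFP
import Groth.Agent.R2.H22UnivInjFlat

set_option autoImplicit false
set_option linter.style.haveILetI false
universe u
open FlatMor

namespace Groth.Agent.S1196

open TensorProduct in
/-- the fibre rings of an essentially finitely presented algebra are Noetherian. -/
theorem isNoetherianRing_fiber {R S : Type u} [CommRing R] [CommRing S] [Algebra R S]
    (hS : FlatCA.EssFinitePresentation R S) (κ : Type u) [Field κ] [Algebra R κ] :
    IsNoetherianRing (κ ⊗[R] S) := by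
  obtain ⟨S₀, _, _, _, _, M₀, hfp, hloc⟩ := hS
  haveI : IsNoetherianRing (κ ⊗[R] S₀) := Algebra.FiniteType.isNoetherianRing κ (κ ⊗[R] S₀)
  letI : Algebra (κ ⊗[R] S₀) (κ ⊗[R] S) :=
    (Algebra.TensorProduct.map (AlgHom.id κ κ) (IsScalarTower.toAlgHom R S₀ S)).toRingHom.toAlgebra
  haveI : IsScalarTower κ (κ ⊗[R] S₀) (κ ⊗[R] S) :=
    IsScalarTower.of_algebraMap_eq' (AlgHom.comp_algebraMap
      (Algebra.TensorProduct.map (AlgHom.id κ κ) (IsScalarTower.toAlgHom R S₀ S))).symm
  have hloc' := IsLocalization.tensorProduct_tensorProduct_right R κ M₀ S (by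
    ext x
    simp [RingHom.algebraMap_toAlgebra])
  exact IsLocalization.isNoetherianRing
    (M₀.map (Algebra.TensorProduct.includeRight (R := R) (A := κ))) (κ ⊗[R] S)
    (inferInstance : IsNoetherianRing (κ ⊗[R] S₀))

attribute [local instance] Algebra.TensorProduct.rightAlgebra in
open TensorProduct IsLocalRing Groth.Agent.R2.H22.EssFP Groth.Agent.R2.H22.UnivInjFlat in
/-- Let R → S be a local homomorphism of local rings, essentially of finite presentation, N a finitely
presented S-module flat over R, and S' a flat S-algebra such that every prime of S which is an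
associated prime of N/𝔪_R N is the contraction of a prime of S'. Then N → S' ⊗_S N is universally
injective as a map of R-modules. -/
theorem result {R S S' : Type u} [CommRing R] [IsLocalRing R] [CommRing S] [IsLocalRing S] [CommRing S'] [Algebra R S] [IsLocalHom (algebraMap R S)] [Algebra S S'] [Algebra R S'] [IsScalarTower R S S']
    (hS : FlatCA.EssFinitePresentation R S) [Module.Flat S S']
    (N : Type u) [AddCommGroup N] [Module S N] [Module R N] [IsScalarTower R S N] [Module.FinitePresentation S N] [Module.Flat R N]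
    (h : ∀ q ∈ associatedPrimes S (FlatCA.fiberMod (maximalIdeal R) S N),
      ∃ q' : Ideal S', q'.IsPrime ∧ q'.comap (algebraMap S S') = q) :
    FlatCA.UnivInj R ((TensorProduct.mk S S' N 1).restrictScalars R) := by
  classical
  intro Q _ _
  rw [LinearMap.lTensor_inj_iff_rTensor_inj, injective_iff_map_eq_zero]
  intro z hz
  -- the kernel element is killed by `1 ⊗ -` over `S`
  have h1 : (1 : S') ⊗ₜ[S] z = 0 := by
    have key : ∀ z : N ⊗[R] Q, TensorProduct.AlgebraTensorModule.assoc R S S' S' N Q
        ((((TensorProduct.mk S S' N 1).restrictScalars R).rTensor Q) z) = (1 : S') ⊗ₜ[S] z := by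
      intro z
      induction z using TensorProduct.induction_on with
      | zero => simp
      | tmul n q => rfl
      | add z₁ z₂ h₁ h₂ => rw [map_add, map_add, h₁, h₂, tmul_add]
    rw [← key, hz, map_zero]
  obtain ⟨t, ht0, htspan⟩ := exists_finset_of_tmul_eq_zero (S := S) (S' := S') z h1
  have hI : ∀ a ∈ Ideal.span (t : Set S), a • z = 0 := by
    intro a ha
    induction ha using Submodule.span_induction with
    | mem a ha => exact ht0 a ha
    | zero => rw [zero_smul]
    | add a b _ _ ha hb => rw [add_smul, ha, hb, add_zero]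
    | smul c a _ ha => rw [smul_eq_mul, mul_smul, ha, smul_zero]
  suffices hcl : ∃ a ∈ Ideal.span (t : Set S), a ∈ FlatCA.nzdFiber R S N by
    obtain ⟨a, haI, ha⟩ := hcl
    exact eq_zero_of_smul_eq_zero_of_mem_nzdFiber hS N a ha Q z (hI a haI)
  by_contra hne
  push Not at hne
  -- the Noetherian fibre ring and the fibre module
  haveI hNoeth : IsNoetherianRing ((maximalIdeal R).ResidueField ⊗[R] S) :=
    isNoetherianRing_fiber hS (maximalIdeal R).ResidueField
  haveI : IsScalarTower S ((maximalIdeal R).ResidueField ⊗[R] S)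
      (FlatCA.fiberMod (maximalIdeal R) S N) :=
    inferInstanceAs (IsScalarTower S ((maximalIdeal R).ResidueField ⊗[R] S)
      (((maximalIdeal R).ResidueField ⊗[R] S) ⊗[S] N))
  haveI : Module.Finite ((maximalIdeal R).ResidueField ⊗[R] S)
      (FlatCA.fiberMod (maximalIdeal R) S N) :=
    inferInstanceAs (Module.Finite ((maximalIdeal R).ResidueField ⊗[R] S)
      (((maximalIdeal R).ResidueField ⊗[R] S) ⊗[S] N))
  have hfin := associatedPrimes.finite ((maximalIdeal R).ResidueField ⊗[R] S)
    (FlatCA.fiberMod (maximalIdeal R) S N)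
  have hsub : ((Ideal.span (t : Set S) : Ideal S) : Set S) ⊆
      ⋃ P ∈ (↑hfin.toFinset : Set (Ideal ((maximalIdeal R).ResidueField ⊗[R] S))),
        ((P.comap (algebraMap S ((maximalIdeal R).ResidueField ⊗[R] S)) : Ideal S) : Set S) := by
    intro a ha
    have h2 := hne a ha
    rw [mem_nonZeroSMulDivisors_iff] at h2
    push Not at h2
    obtain ⟨y, hy, hy0⟩ := h2
    have hmem : algebraMap S ((maximalIdeal R).ResidueField ⊗[R] S) a ∈
        {r : (maximalIdeal R).ResidueField ⊗[R] S |
          ∃ x : FlatCA.fiberMod (maximalIdeal R) S N, x ≠ 0 ∧ r • x = 0} :=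
      ⟨y, hy0, by rw [algebraMap_smul]; exact hy⟩
    rw [← biUnion_associatedPrimes_eq_zero_divisors] at hmem
    obtain ⟨P, hP, haP⟩ := Set.mem_iUnion₂.1 hmem
    exact Set.mem_iUnion₂.2 ⟨P, by simpa using hP, haP⟩
  obtain ⟨P, hP, hle⟩ := (Ideal.subset_union_prime (R := S) (s := hfin.toFinset)
    (f := fun P => P.comap (algebraMap S ((maximalIdeal R).ResidueField ⊗[R] S))) ⊥ ⊥
    (fun P hP _ _ => by
      have : P ∈ associatedPrimes ((maximalIdeal R).ResidueField ⊗[R] S)
          (FlatCA.fiberMod (maximalIdeal R) S N) := by simpa using hP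
      haveI := this.isPrime
      exact Ideal.comap_isPrime _ _)).1 hsub
  have hPass : IsAssociatedPrime P (FlatCA.fiberMod (maximalIdeal R) S N) := by
    have : P ∈ associatedPrimes ((maximalIdeal R).ResidueField ⊗[R] S)
        (FlatCA.fiberMod (maximalIdeal R) S N) := by simpa using hP
    exact this
  obtain ⟨hPprime, x, hPx⟩ := isAssociatedPrime_iff.1 hPass
  set q : Ideal S := P.comap (algebraMap S ((maximalIdeal R).ResidueField ⊗[R] S)) with hq
  haveI hqprime : q.IsPrime := Ideal.comap_isPrime _ _
  have hcolon : (⊥ : Submodule S (FlatCA.fiberMod (maximalIdeal R) S N)).colon {x} = q := by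
    ext a
    rw [Submodule.mem_colon_singleton, hq, Ideal.mem_comap, hPx, Submodule.mem_colon_singleton,
      algebraMap_smul, Submodule.mem_bot, Submodule.mem_bot]
  have hqass : q ∈ associatedPrimes S (FlatCA.fiberMod (maximalIdeal R) S N) :=
    ⟨hqprime, x, by rw [hcolon, hqprime.radical]⟩
  obtain ⟨q', hq'prime, hq'⟩ := h q hqass
  have hle' : Ideal.span ((algebraMap S S') '' (t : Set S)) ≤ q' := by
    rw [Ideal.span_le]
    rintro _ ⟨a, ha, rfl⟩
    have : a ∈ q := hle (Ideal.subset_span ha)
    rw [← hq'] at this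
    exact this
  rw [htspan] at hle'
  exact hq'prime.ne_top (top_le_iff.mp hle')

end Groth.Agent.S1196
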