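import Groth.Statements.S12129
import Mathlib.AlgebraicGeometry.Properties
import Mathlib.Topology.Sober
import Mathlib.Topology.Separation.Basic
import Mathlib.Order.KrullDimension

set_option autoImplicit false
universe u
open EGA2

namespace Groth.Agent.S12129

open AlgebraicGeometry CategoryTheory Order

section aux

variable {X : Scheme.{u}}

lemma lt_iff_spec {x y : X} : x < y ↔ y ⤳ x ∧ ¬ x ⤳ y := Iff.rfl

lemma le_iff_spec {x y : X} : x ≤ y ↔ y ⤳ x := Iff.rfl

/-- If `{x}` is closed and `y ⤳ x`, `y ≠ x` then `x < y`. -/
lemma lt_of_closed_of_specializes {x y : X} (hx : IsClosed ({x} : Set X)) (h : y ⤳ x) (hne : y ≠ x) :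
    x < y := by
  refine ⟨h, fun h' => hne ?_⟩
  have : y ∈ closure ({x} : Set X) := h'.mem_closure
  rw [hx.closure_eq] at this
  exact this

/-- a closed irreducible set that is not an irreducible component is strictly contained in a
closed irreducible set. -/
lemma exists_larger {F : Set X} (hFc : IsClosed F) (hFi : IsIrreducible F)
    (hF : F ∉ irreducibleComponents (X : Type u)) :
    ∃ G : Set X, IsClosed G ∧ IsIrreducible G ∧ F ⊆ G ∧ ¬ G ⊆ F := by
  by_contra hcon
  push Not at hcon
  apply hF
  obtain ⟨G, hG, hFG, hGm⟩ := exists_preirreducible F hFi.isPreirreducible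
  have hGirr : IsIrreducible G := ⟨hFi.nonempty.mono hFG, hG⟩
  have hGmax : G ∈ irreducibleComponents (X : Type u) := by
    refine ⟨hGirr, fun H hH hGH => ?_⟩
    exact (hGm H hH.isPreirreducible hGH).le
  have hGc : IsClosed G := isClosed_of_mem_irreducibleComponents G hGmax
  have : G ⊆ F := hcon G hGc hGirr hFG
  have : F = G := Set.Subset.antisymm hFG this
  rw [this]
  exact hGmax

end aux

open AlgebraicGeometry CategoryTheory in
/-- Let X be a scheme of finite type over a field k. Then the local ring of X at every closed point has
dimension one if and only if the irreducible closed subsets of X other than its irreducible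
components are exactly the (singletons of) closed points of X — that is, every irreducible closed
subset which is not an irreducible component is a closed point, and no closed point is by itself an
irreducible component. -/
theorem result (k : Type u) [Field k] (X : Scheme.{u})
    [X.Over (Spec (CommRingCat.of k))] [LocallyOfFiniteType (X ↘ (Spec (CommRingCat.of k)))]
    [QuasiCompact (X ↘ (Spec (CommRingCat.of k)))] :
    (∀ x : X, IsClosed ({x} : Set X) → ringKrullDim (X.presheaf.stalk x) = 1) ↔
      ((∀ F : Set X, IsClosed F → IsIrreducible F → F ∉ irreducibleComponents (X : Type u) →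
          ∃ x : X, IsClosed ({x} : Set X) ∧ F = {x}) ∧
        ∀ x : X, IsClosed ({x} : Set X) → ({x} : Set X) ∉ irreducibleComponents (X : Type u)) := by
  have hcompact : CompactSpace X := by
    have : CompactSpace (Spec (CommRingCat.of k)) := inferInstance
    exact QuasiCompact.compactSpace_of_compactSpace (X ↘ (Spec (CommRingCat.of k)))
  simp only [ringKrullDim_stalk_eq_coheight]
  constructor
  · intro h
    refine ⟨fun F hFc hFi hF => ?_, fun x hx hcomp => ?_⟩
    · obtain ⟨x, hxF, hx⟩ := hFc.exists_closed_singleton hFi.nonempty
      refine ⟨x, hx, ?_⟩
      obtain ⟨G, hGc, hGi, hFG, hGF⟩ := exists_larger hFc hFi hF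
      obtain ⟨η, hη⟩ := QuasiSober.sober hFi hFc
      obtain ⟨ξ, hξ⟩ := QuasiSober.sober hGi hGc
      have hηx : η ⤳ x := hη.specializes hxF
      have hξη : ξ ⤳ η := hξ.specializes (hFG hη.mem)
      have hηξ : ¬ η ⤳ ξ := by
        intro h'
        apply hGF
        rw [← hξ.def, ← hη.def]
        exact closure_minimal (by
          rintro _ rfl
          exact h'.mem_closure) isClosed_closure
      by_cases hne : η = x
      · rw [← hη.def, hne, hx.closure_eq]
      · exfalso
        have h1 : x < η := lt_of_closed_of_specializes hx hηx hne
        have h2 : η < ξ := ⟨hξη, hηξ⟩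
        have hc := h x hx
        have h3 : (2 : ℕ∞) ≤ coheight x := by
          have h4 : coheight ξ + 1 ≤ coheight η := coheight_add_one_le h2
          have h5 : coheight η + 1 ≤ coheight x := coheight_add_one_le h1
          calc (2 : ℕ∞) = 0 + 1 + 1 := by norm_num
            _ ≤ coheight ξ + 1 + 1 := by gcongr; exact zero_le
            _ ≤ coheight η + 1 := by gcongr
            _ ≤ coheight x := h5
        have hc' : coheight x = 1 := by exact_mod_cast hc
        rw [hc'] at h3
        exact absurd h3 (by norm_num)
    · have hmax : IsMax x := by
        intro y hxy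
        have hy : IsIrreducible (closure ({y} : Set X)) := isIrreducible_singleton.closure
        have hsub : ({x} : Set X) ⊆ closure ({y} : Set X) := by
          rintro _ rfl
          exact (le_iff_spec.mp hxy).mem_closure
        have := hcomp.2 hy hsub
        have hyx : y ∈ ({x} : Set X) := this (subset_closure rfl)
        rw [Set.mem_singleton_iff] at hyx
        rw [hyx]
      have h0 : coheight x = 0 := coheight_eq_zero.mpr hmax
      have hc := h x hx
      rw [h0] at hc
      exact absurd hc (by norm_num)
  · rintro ⟨h1, h2⟩ x hx
    have hge : coheight x ≠ 0 := by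
      intro h0
      have hmax : IsMax x := coheight_eq_zero.mp h0
      apply h2 x hx
      refine ⟨isIrreducible_singleton, fun G hG hxG => ?_⟩
      obtain ⟨ξ, hξ⟩ := QuasiSober.sober hG.closure isClosed_closure
      have hxG' : x ∈ closure G := subset_closure (hxG rfl)
      have hξx : ξ ⤳ x := hξ.specializes hxG'
      have hxξ : x ⤳ ξ := hmax (le_iff_spec.mpr hξx)
      have : ξ ∈ closure ({x} : Set X) := hxξ.mem_closure
      rw [hx.closure_eq, Set.mem_singleton_iff] at this
      have hcl : closure G = {x} := by rw [← hξ.def, this, hx.closure_eq]
      exact subset_closure.trans hcl.le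
    have hle : coheight x ≤ ((1 : ℕ) : ℕ∞) := by
      rw [coheight_le_coe_iff]
      intro y hy
      have hymax : IsMax y := by
        intro z hyz
        by_contra hzy
        have hyz' : y < z := lt_of_le_not_ge hyz hzy
        -- closure {y} is closed irreducible and not a component
        have hirr : IsIrreducible (closure ({y} : Set X)) := isIrreducible_singleton.closure
        have hnot : closure ({y} : Set X) ∉ irreducibleComponents (X : Type u) := by
          intro hcomp
          have hz : IsIrreducible (closure ({z} : Set X)) := isIrreducible_singleton.closure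
          have hsub : closure ({y} : Set X) ⊆ closure ({z} : Set X) :=
            closure_minimal (by
              rintro _ rfl
              exact (le_iff_spec.mp hyz).mem_closure) isClosed_closure
          have := hcomp.2 hz hsub
          have hzy' : z ∈ closure ({y} : Set X) := this (subset_closure rfl)
          exact hyz'.2 (specializes_iff_mem_closure.mpr hzy')
        obtain ⟨w, hw, hyw⟩ := h1 _ isClosed_closure hirr hnot
        have hyw' : y = w := by
          have : y ∈ closure ({y} : Set X) := subset_closure rfl
          rw [hyw] at this
          exact this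
        have hxw : x ∈ closure ({y} : Set X) := (le_iff_spec.mp hy.le).mem_closure
        rw [hyw, Set.mem_singleton_iff] at hxw
        rw [← hyw'] at hxw
        exact hy.ne hxw
      have : coheight y = 0 := coheight_eq_zero.mpr hymax
      rw [this]
      norm_num
    have h1' : (1 : ℕ∞) ≤ coheight x := Order.one_le_iff_ne_zero.mpr hge
    have : coheight x = 1 := le_antisymm (by exact_mod_cast hle) h1'
    exact_mod_cast this

end Groth.Agent.S12129
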