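import Groth.Statements.S12134
import Groth.Agent.R2.H88GrStrat

set_option autoImplicit false
universe u
open scoped TensorProduct
open EGA43

namespace Groth.Agent.S12134

open AlgebraicGeometry CategoryTheory in
/-- Suppose A₀ is a Noetherian ring and B₀ is a finitely generated A₀-algebra; fix an ideal J₀ ⊆ B₀ and
a finite B₀-module M₀. Then Spec A₀ admits finitely many affine subschemes S_1, …, S_m — presented
as immersions Spec A_i → Spec A₀ — whose underlying sets are mutually disjoint with union all of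
Spec A₀, such that each S_i is open in S_i ∪ S_{i+1} ∪ … ∪ S_m, and such that for each i, setting
N_i = A_i ⊗_{A₀} M₀, the graded module associated to the J₀-adic filtration on N_i is A_i-flat.
Concretely, for every n the A_i-module J₀ⁿN_i / J₀ⁿ⁺¹N_i is flat, where this quotient is encoded as
the image of J₀ⁿN_i inside N_i / J₀ⁿ⁺¹N_i, and J₀ⁿN_i denotes the image in N_i of A_i ⊗_{A₀} J₀ⁿM₀. -/
theorem result {A₀ : Type u} [CommRing A₀] [IsNoetherianRing A₀]
    {B₀ : Type u} [CommRing B₀] [Algebra A₀ B₀] [Algebra.FiniteType A₀ B₀] (J₀ : Ideal B₀)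
    (M₀ : Type u) [AddCommGroup M₀] [Module B₀ M₀] [Module A₀ M₀] [IsScalarTower A₀ B₀ M₀]
    [Module.Finite B₀ M₀] :
    ∃ (m : ℕ) (A : Fin m → Type u) (_ : ∀ i, CommRing (A i)) (_ : ∀ i, Algebra A₀ (A i)),
      (∀ i, IsImmersion (Spec.map (CommRingCat.ofHom (algebraMap A₀ (A i))))) ∧
      (∀ i j, i ≠ j → Disjoint (Set.range (Spec.map (CommRingCat.ofHom (algebraMap A₀ (A i)))))
        (Set.range (Spec.map (CommRingCat.ofHom (algebraMap A₀ (A j)))))) ∧
      (⋃ i, Set.range (Spec.map (CommRingCat.ofHom (algebraMap A₀ (A i)))) = Set.univ) ∧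
      (∀ i, ∃ U : Set (Spec (CommRingCat.of A₀)), IsOpen U ∧
        U ∩ (⋃ j, ⋃ (_ : i ≤ j), Set.range (Spec.map (CommRingCat.ofHom (algebraMap A₀ (A j))))) =
          Set.range (Spec.map (CommRingCat.ofHom (algebraMap A₀ (A i))))) ∧
      ∀ i (n : ℕ), Module.Flat (A i)
        ↥(Submodule.map
            (LinearMap.range (LinearMap.baseChange (A i)
              ((J₀ ^ (n + 1) • (⊤ : Submodule B₀ M₀)).restrictScalars A₀).subtype)).mkQ
            (LinearMap.range (LinearMap.baseChange (A i)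
              ((J₀ ^ n • (⊤ : Submodule B₀ M₀)).restrictScalars A₀).subtype))) := by
  obtain ⟨l, hl, hflat⟩ := Groth.Agent.R2.H88.GrStrat.exists_list_flat (A₀ := A₀) J₀ M₀
  refine ⟨l.length,
    fun i => Groth.Agent.R2.H88.StratFree.QA (Ideal.span {a | a ∈ l.take i.1}).radical (l[i.1]'i.2),
    fun i => inferInstance, fun i => inferInstance, ?_, ?_, ?_, ?_, ?_⟩
  · intro i
    exact Groth.Agent.R2.H88.GrStrat.isImmersion_QA _ _
  · intro i j hij
    have h := Groth.Agent.R2.H88.GrStrat.stratum_disjoint l i.1 j.1 i.2 j.2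
      (fun h => hij (Fin.ext h))
    rw [Groth.Agent.R2.H88.GrStrat.stratum, Groth.Agent.R2.H88.GrStrat.stratum,
      ← Groth.Agent.R2.H88.GrStrat.range_QA, ← Groth.Agent.R2.H88.GrStrat.range_QA] at h
    exact h
  · have h := Groth.Agent.R2.H88.GrStrat.iUnion_stratum l hl
    simp only [Groth.Agent.R2.H88.GrStrat.stratum,
      ← Groth.Agent.R2.H88.GrStrat.range_QA] at h
    exact h
  · intro i
    obtain ⟨U, hU, hUi⟩ := Groth.Agent.R2.H88.GrStrat.stratum_open l i
    simp only [Groth.Agent.R2.H88.GrStrat.stratum,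
      ← Groth.Agent.R2.H88.GrStrat.range_QA] at hUi
    exact ⟨U, hU, hUi⟩
  · intro i n
    exact hflat i.1 i.2 n

end Groth.Agent.S12134
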