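import Groth.Statements.S12193
import Groth.Agent.S9966
import Groth.Agent.S10211
import Groth.Agent.Lib.Helper12Reduced
import Groth.Agent.Lib.Helper12LocPCases
import Groth.Agent.Lib.Helper12SrcLocal
import Groth.Agent.Lib.Helper12LargestOpen
import Groth.Agent.Lib.Helper12OpenSub2

set_option autoImplicit false
universe u
open CategoryTheory CategoryTheory.Limits AlgebraicGeometry
open AlgSp

namespace Groth.Agent.S12193

/-- Let X be a reduced algebraic space over S, f : X → Y a morphism of algebraic spaces over S, and Z →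
Y the scheme theoretic image of f. Then forming the scheme theoretic image commutes with etale base
change: for every etale morphism V → Y of algebraic spaces and cartesian squares X ×_Y V, Z ×_Y V,
the closed subspace Z ×_Y V → V is the scheme theoretic image of X ×_Y V → V. -/
theorem result {S : Scheme.{u}} {X Y Z V XV ZV : AlgSp.Space S} (f : X ⟶ Y)
    (i : Z ⟶ Y) (hX : AlgSp.IsReducedSp X.obj) (hZ : AlgSp.IsSchImage f.hom i.hom) (b : V ⟶ Y)
    (hb : AlgSp.IsEtaleMor b.hom) (f₁ : XV ⟶ X) (fV : XV ⟶ V) (i₁ : ZV ⟶ Z) (iV : ZV ⟶ V)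
    (sqX : IsPullback f₁.hom fV.hom f.hom b.hom) (sqZ : IsPullback i₁.hom iV.hom i.hom b.hom) :
    AlgSp.IsSchImage fV.hom iV.hom := by
  have hR := Groth.Agent.S9966.result f i hX hZ
  obtain ⟨hi, ⟨f0, hf0⟩, -⟩ := hZ
  obtain ⟨-, hrange, hZred⟩ := hR
  -- (1) closed immersion
  have hiV : AlgSp.RepWith @IsClosedImmersion iV.hom :=
    MorphismProperty.of_isPullback (P := AlgSp.RepWith @IsClosedImmersion) sqZ hi
  -- (2) factorization
  have cw : (f₁.hom ≫ f0) ≫ i.hom = fV.hom ≫ b.hom := by
    rw [Category.assoc, hf0, sqX.w]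
  refine ⟨hiV, ⟨sqZ.lift _ _ cw, sqZ.lift_snd _ _ cw⟩, ?_⟩
  -- (3) minimality
  intro Z' i' hZ' hi' hfac
  obtain ⟨f'', hf''⟩ := hfac
  -- `ZV` is reduced
  have hbE : AlgSp.LocP @Etale b.hom :=
    Groth.Agent.Lib.Helper12.SrcLocal.locP_etale_of_isEtaleMor b.hom hb
  have hi₁E : AlgSp.LocP @Etale i₁.hom :=
    Groth.Agent.Lib.Helper12.LocPCases.good_etale.locP_baseChange V.property Y.property Z.property
      sqZ.flip hbE
  have hi₁S : AlgSp.LocP @Smooth i₁.hom :=
    Groth.Agent.Lib.Helper12.LargestOpen.locP_mono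
      (fun _ _ g hg => by have : Etale g := hg; exact (inferInstance : Smooth g)) hi₁E
  have hZVred : AlgSp.IsReducedSp ZV.obj :=
    Groth.Agent.Lib.Helper12.Reduced.isReducedSp_of_smooth ZV.property i₁.hom hi₁S hZred
  -- the image of `iV` lies in the image of `i'`
  have hcl' : IsClosed (Set.range (AlgSp.Points.map i')) := by
    have huc : AlgSp.RepWith @UniversallyClosed i' := by
      refine ⟨hi'.1, fun T W g pr w sq => ?_⟩
      have : IsClosedImmersion w.left := hi'.2 g pr w sq
      change UniversallyClosed w.left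
      infer_instance
    exact (Groth.Agent.S9922.isClosedMap_map_of_repWith i' huc).isClosed_range
  have hbopen : IsOpenMap (AlgSp.Points.map b.hom) :=
    Groth.Agent.S10211.isOpenMap_map_of_isEtaleMor V.property b.hom hb
  have hsub : Set.range (AlgSp.Points.map iV.hom) ⊆ Set.range (AlgSp.Points.map i') := by
    rw [Groth.Agent.Lib.Helper12.OpenSub.range_map_fst_of_isPullback sqZ.flip, hrange,
      hbopen.preimage_closure_eq_closure_preimage (AlgSp.Points.continuous_map b.hom),
      ← Groth.Agent.Lib.Helper12.OpenSub.range_map_fst_of_isPullback sqX.flip]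
    refine closure_minimal ?_ hcl'
    rintro _ ⟨x, rfl⟩
    refine ⟨AlgSp.Points.map f'' x, ?_⟩
    rw [← AlgSp.Points.map_comp, hf'']
  exact Groth.Agent.S9966.exists_factor_of_reduced iV.hom i' hZVred hi' hsub

end Groth.Agent.S12193
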