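import Groth.Statements.S12195
import Groth.Agent.R2.H47InfSq
import Groth.Agent.R2.H47EtaleLift
import Groth.Agent.R2.H47SmLiftSch

set_option autoImplicit false
universe u
open CategoryTheory CategoryTheory.Limits AlgebraicGeometry
open AlgSp

namespace Groth.Agent.S12195

/-- Let a : F ⟶ G be a representable, surjective and etale morphism of fppf sheaves on (Sch/S) and b : G
⟶ H a morphism such that a ≫ b is formally smooth. Consider a solid infinitesimal lifting square for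
b: a square-zero thickening T = Spec (A/I) ⊂ T' = Spec A of affine schemes over S, a morphism T ⟶ G
and a morphism T' ⟶ H making the square commute. Then for every point t of T' there exist an affine
scheme U', an etale morphism U' ⟶ T' whose image contains t, and a morphism U' ⟶ G lying over T' ⟶ H
whose restriction to T ×_{T'} U' agrees with the given T ⟶ G (stated for every scheme V mapping
compatibly to T and U'). (The published statement is for transformations of arbitrary presheaves of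
sets on (Sch/S)_fppf; this row takes fppf sheaves, the case of algebraic spaces.) -/
theorem result {S : Scheme.{u}} {F G H : AlgSp.Sp S} (a : F ⟶ G)
    (b : G ⟶ H) (ha : AlgSp.RepWith @Etale a) (ha' : AlgSp.RepWith @Surjective a)
    (hab : AlgSp.IsFormallySmoothMor (a ≫ b)) (sq : AlgSp.InfSq b) (t : ↥sq.ptT'.left) :
    ∃ (U' : Over S) (g : U' ⟶ sq.ptT') (l : (AlgSp.yon S).obj U' ⟶ G),
      IsAffine U'.left ∧ Etale g.left ∧ (∃ u : ↥U'.left, g.left u = t) ∧
        l ≫ b = (AlgSp.yon S).map g ≫ sq.bot ∧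
          ∀ (V : Over S) (p : V ⟶ sq.ptT) (q : V ⟶ U'), p ≫ sq.j = q ≫ g →
            (AlgSp.yon S).map q ≫ l = (AlgSp.yon S).map p ≫ sq.top := by
  classical
  -- the pullback of `a` along the top arrow
  have sqP := ha.rep.isPullback sq.top
  set P : Over S := ha.rep.pullback sq.top with hP
  set snd : P ⟶ sq.ptT := ha.rep.snd sq.top with hsnd
  set fst : (AlgSp.yon S).obj P ⟶ F := ha.rep.fst sq.top with hfst
  have hsndE : Etale snd.left := ha.property_snd sq.top
  have hsndS : Surjective snd.left := ha'.property sq.top fst snd sqP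
  -- a point of `T` above `t`
  obtain ⟨t₀, ht₀⟩ : ∃ t₀ : ↥sq.ptT.left, sq.j.left t₀ = t := by
    have hI : sq.I ≤ nilradical sq.A := by
      intro x hx
      refine ⟨2, ?_⟩
      have : x ^ 2 ∈ sq.I ^ 2 := Ideal.pow_mem_pow hx 2
      rw [sq.sq_zero] at this
      exact this
    let t' : PrimeSpectrum sq.A := t
    have hmem : t' ∈ Set.range (PrimeSpectrum.comap (Ideal.Quotient.mk sq.I)) := by
      rw [range_comap_of_surjective _ _ Ideal.Quotient.mk_surjective,
        PrimeSpectrum.mem_zeroLocus, Ideal.mk_ker]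
      intro x hx
      exact (nilradical_le_prime t'.asIdeal) (hI hx)
    obtain ⟨t₀, ht₀⟩ := hmem
    exact ⟨t₀, ht₀⟩
  obtain ⟨p₀, hp₀⟩ := snd.left.surjective t₀
  -- an affine open neighbourhood of `p₀`
  obtain ⟨_, ⟨O, hO, rfl⟩, hvO, -⟩ :=
    P.left.isBasis_affineOpens.exists_subset_of_mem_open (Set.mem_univ p₀) isOpen_univ
  let ι : Spec Γ(P.left, O) ⟶ P.left := hO.fromSpec
  let φc : CommRingCat.of (sq.A ⧸ sq.I) ⟶ Γ(P.left, O) := Spec.preimage (ι ≫ snd.left)
  have hφc : Spec.map φc = ι ≫ snd.left := Spec.map_preimage _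
  have hφet : φc.hom.Etale := by
    rw [← HasRingHomProperty.Spec_iff (P := @Etale), hφc]
    infer_instance
  let q := hO.primeIdealOf ⟨p₀, hvO⟩
  obtain ⟨B, _, ψ, χ, hψ, hχ, q', hq'p, hq'⟩ :=
    Groth.Agent.R2.H47.EtaleLift.exists_etale_lift_at sq.I φc.hom hφet q.asIdeal
  -- notation for the base changed square
  set sqB := Groth.Agent.R2.H47.InfSq.bcSq sq ψ with hsqB
  have hquot : Spec.map (CommRingCat.ofHom χ) ≫ ι ≫ snd.left =
      (Groth.Agent.R2.H47.InfSq.bcThin sq ψ).left := by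
    rw [← hφc, ← Spec.map_comp]
    change _ = Spec.map _
    congr 1
    exact CommRingCat.hom_ext hχ
  -- the map `Spec (B ⧸ I B) ⟶ P` over `S`
  let κ : sqB.ptT ⟶ P := Over.homMk (Spec.map (CommRingCat.ofHom χ) ≫ ι) (by
    have h1 : snd.left ≫ sq.ptT.hom = P.hom := Over.w snd
    calc (Spec.map (CommRingCat.ofHom χ) ≫ ι) ≫ P.hom
        = (Spec.map (CommRingCat.ofHom χ) ≫ ι) ≫ snd.left ≫ sq.ptT.hom := by rw [h1]
      _ = (Spec.map (CommRingCat.ofHom χ) ≫ ι ≫ snd.left) ≫ sq.ptT.hom := by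
          simp only [Category.assoc]
      _ = (Groth.Agent.R2.H47.InfSq.bcThin sq ψ).left ≫ sq.ptT.hom :=
          congrArg (· ≫ sq.ptT.hom) hquot
      _ = _ := Over.w (Groth.Agent.R2.H47.InfSq.bcThin sq ψ))
  have hκ : κ ≫ snd = Groth.Agent.R2.H47.InfSq.bcThin sq ψ := by
    apply Over.OverMorphism.ext
    rw [Over.comp_left]
    change (Spec.map (CommRingCat.ofHom χ) ≫ ι) ≫ snd.left = _
    rw [Category.assoc, hquot]
  let top' : (AlgSp.yon S).obj sqB.ptT ⟶ F := (AlgSp.yon S).map κ ≫ fst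
  have htop' : top' ≫ a = sqB.top := by
    change ((AlgSp.yon S).map κ ≫ fst) ≫ a = _
    rw [Category.assoc, sqP.w, ← Category.assoc, ← Functor.map_comp, hκ]
    rfl
  let sq' : AlgSp.InfSq (a ≫ b) :=
    Groth.Agent.R2.H47.InfSq.mkSq (a ≫ b) B (sq.I.map ψ)
      (Groth.Agent.R2.H47.InfSq.bc_sq_zero sq ψ) (Spec.map (CommRingCat.ofHom ψ) ≫ sq.str)
      top' sqB.bot ((Category.assoc _ _ _).symm.trans ((congrArg (· ≫ b) htop').trans sqB.comm))
  obtain ⟨l', hl1, hl2⟩ := hab sq'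
  have hl1' : (AlgSp.yon S).map sqB.j ≫ l' = top' := hl1
  have hl2' : l' ≫ a ≫ b = sqB.bot := hl2
  refine ⟨sqB.ptT', Groth.Agent.R2.H47.InfSq.bcThick sq ψ, l' ≫ a, ?_, ?_, ?_, ?_, ?_⟩
  · exact inferInstanceAs (IsAffine (Spec (CommRingCat.of B)))
  · rw [Groth.Agent.R2.H47.InfSq.bcThick_left]
    exact (HasRingHomProperty.Spec_iff (P := @Etale) (φ := CommRingCat.ofHom ψ)).2 hψ
  · refine ⟨sqB.j.left ⟨q', hq'p⟩, ?_⟩
    have e1 : (Spec.map (CommRingCat.ofHom χ)) ⟨q', hq'p⟩ = q := PrimeSpectrum.ext hq'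
    have e2 : ι q = p₀ := hO.fromSpec_primeIdealOf ⟨p₀, hvO⟩
    have e3 : (Groth.Agent.R2.H47.InfSq.bcThin sq ψ).left ⟨q', hq'p⟩ = t₀ := by
      rw [← hquot]
      change snd.left (ι ((Spec.map (CommRingCat.ofHom χ)) ⟨q', hq'p⟩)) = t₀
      rw [e1, e2, hp₀]
    calc (Groth.Agent.R2.H47.InfSq.bcThick sq ψ).left (sqB.j.left ⟨q', hq'p⟩)
        = (sqB.j ≫ Groth.Agent.R2.H47.InfSq.bcThick sq ψ).left ⟨q', hq'p⟩ := rfl
      _ = (Groth.Agent.R2.H47.InfSq.bcThin sq ψ ≫ sq.j).left ⟨q', hq'p⟩ := by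
          rw [Groth.Agent.R2.H47.InfSq.bc_comm]
      _ = sq.j.left ((Groth.Agent.R2.H47.InfSq.bcThin sq ψ).left ⟨q', hq'p⟩) := rfl
      _ = t := by rw [e3, ht₀]
  · exact (Category.assoc _ _ _).trans hl2'
  · intro V p r hpr
    have hpo := isPullback_SpecMap_of_isPushout _ _ _ _
      (Groth.Agent.R2.H47.SmLiftSch.isPushout_quotient ψ sq.I)
    have hw : r.left ≫ Spec.map (CommRingCat.ofHom ψ) =
        p.left ≫ Spec.map (CommRingCat.ofHom (Ideal.Quotient.mk sq.I)) :=
      (congrArg (fun m => m.left) hpr).symm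
    let s₀ : V.left ⟶ Spec (CommRingCat.of (B ⧸ sq.I.map ψ)) := hpo.lift r.left p.left hw
    have hs₁ : s₀ ≫ Spec.map (CommRingCat.ofHom (Ideal.Quotient.mk (sq.I.map ψ))) = r.left :=
      hpo.lift_fst _ _ _
    have hs₂ : s₀ ≫ Spec.map (CommRingCat.ofHom
        (Ideal.quotientMap (sq.I.map ψ) ψ Ideal.le_comap_map)) = p.left := hpo.lift_snd _ _ _
    let s : V ⟶ sqB.ptT := Over.homMk s₀ (by
      have h1 : r.left ≫ sqB.ptT'.hom = V.hom := Over.w r
      calc s₀ ≫ sqB.ptT.hom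
          = (s₀ ≫ Spec.map (CommRingCat.ofHom (Ideal.Quotient.mk (sq.I.map ψ)))) ≫
              sqB.ptT'.hom := (Category.assoc _ _ _).symm
        _ = r.left ≫ sqB.ptT'.hom := congrArg (· ≫ sqB.ptT'.hom) hs₁
        _ = V.hom := h1)
    have hsj : s ≫ sqB.j = r := Over.OverMorphism.ext hs₁
    have hst : s ≫ Groth.Agent.R2.H47.InfSq.bcThin sq ψ = p := Over.OverMorphism.ext hs₂
    calc (AlgSp.yon S).map r ≫ l' ≫ a
        = (AlgSp.yon S).map s ≫ ((AlgSp.yon S).map sqB.j ≫ l') ≫ a := by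
          rw [← hsj, Functor.map_comp]
          simp only [Category.assoc]
      _ = (AlgSp.yon S).map s ≫ sqB.top := by rw [hl1', htop']
      _ = (AlgSp.yon S).map s ≫ (AlgSp.yon S).map (Groth.Agent.R2.H47.InfSq.bcThin sq ψ) ≫
            sq.top := rfl
      _ = (AlgSp.yon S).map p ≫ sq.top := by
          rw [← Category.assoc, ← Functor.map_comp, hst]

end Groth.Agent.S12195
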