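import Groth.Statements.S12204
import Groth.Agent.Lib.Helper12FieldBC
import Groth.Agent.S2535

set_option autoImplicit false
universe u
open CategoryTheory CategoryTheory.Limits AlgebraicGeometry Topology TopologicalSpace
open AlgSp

namespace Groth.Agent.S12204

/-- (5) ⇒ (2): let k be a field of characteristic p > 0, k' a perfect closure of k (a perfect field
which is a purely inseparable extension of k) and X an algebraic space over k. If X_{k'} is reduced,
then X_K is reduced for every field extension K of k. -/
theorem result (k : Type u) [Field k] (p : ℕ) [Fact p.Prime] [CharP k p]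
    (X : AlgSp.Space (Spec (CommRingCat.of k))) (k' : Type u) [Field k'] [Algebra k k'] [PerfectField k']
    [IsPurelyInseparable k k']
    (h : AlgSp.EtaleLocally (fun U => IsReduced U) (X.obj ⨯ (AlgSp.yon (Spec (CommRingCat.of k))).obj (Over.mk (Spec.map (CommRingCat.ofHom (algebraMap k k'))))))
    (K : Type u) [Field K] [Algebra k K] : AlgSp.EtaleLocally (fun U => IsReduced U) (X.obj ⨯ (AlgSp.yon (Spec (CommRingCat.of k))).obj (Over.mk (Spec.map (CommRingCat.ofHom (algebraMap k K))))) := by
  open Groth.Agent.Lib.Helper12.FieldBC in
  obtain ⟨U, a, hae, has⟩ := X.property.atlas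
  have : AlgebraicGeometry.IsReduced (FBase.bc U.hom k') := isReduced_bc_of_isReducedSp k' h a hae
  have hg : GeometricallyReduced U.hom := Groth.Agent.S2535.result (Ω := k') U.hom
  have hK : AlgebraicGeometry.IsReduced (FBase.bc U.hom K) := by
    unfold FBase.bc
    exact pullback_of_geometrically hg.geometrically_isReduced K _
  exact isReducedSp_bc_of_isReduced K a hae has hK

end Groth.Agent.S12204
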