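import Groth.Statements.S12210
import Mathlib
import Groth.Agent.Lib.Helper4PunctAffine3
import Groth.Agent.Lib.Helper2SpecClosure
-- import your own Groth.Agent.* helpers here

set_option autoImplicit false
universe u
open CategoryTheory CategoryTheory.Limits AlgebraicGeometry
open Divisors

namespace Groth.Agent.S12210

/-- Let X be locally Noetherian and U an open subscheme whose inclusion is an affine morphism. If ξ is a
point outside U which is maximal under generization among points outside U (a generic point of an
irreducible component of the complement) and ξ lies in the closure of U, then the local ring of X at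
ξ has dimension exactly one. (The case X separated and U an affine open is the corresponding special
case, since then the inclusion of U is affine.) -/
theorem result (X : Scheme.{u}) [IsLocallyNoetherian X]
    (U : X.Opens) [IsAffineHom U.ι] (ξ : X) (hξ : ξ ∉ U) (hgen : ∀ y : X, y ∉ U → y ⤳ ξ → y = ξ)
    (hcl : ξ ∈ closure (U : Set X)) :
    ringKrullDim (X.presheaf.stalk ξ) = 1 := by
  have h1 := Groth.Agent.Lib.Helper4.PunctAffine.ringKrullDim_stalk_le_one_of_isAffineHom
    X U ξ hξ hgen
  refine le_antisymm h1 ?_
  have hcl' : ξ ∈ closure (Set.range U.ι) := by rwa [Scheme.Opens.range_ι]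
  obtain ⟨x, hx⟩ :=
    Groth.Agent.Lib.Helper2.SpecClosure.exists_specializes_of_mem_closure_range U.ι ξ hcl'
  have hxU : U.ι x ∈ U := x.2
  have hne : U.ι x ≠ ξ := fun h => hξ (h ▸ hxU)
  obtain ⟨q, hq⟩ : ∃ q, X.fromSpecStalk ξ q = U.ι x := by
    have : U.ι x ∈ Set.range (X.fromSpecStalk ξ) := by
      rw [Scheme.range_fromSpecStalk]
      exact hx
    exact this
  have hq_ne : q ≠ IsLocalRing.closedPoint (X.presheaf.stalk ξ) := by
    rintro rfl
    rw [Scheme.fromSpecStalk_closedPoint] at hq
    exact hne hq.symm
  let q' : PrimeSpectrum (X.presheaf.stalk ξ) := q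
  have hle : q' ≤ IsLocalRing.closedPoint (X.presheaf.stalk ξ) :=
    (PrimeSpectrum.asIdeal_le_asIdeal _ _).mp (IsLocalRing.le_maximalIdeal q'.2.ne_top)
  have hlt : q' < IsLocalRing.closedPoint (X.presheaf.stalk ξ) := lt_of_le_of_ne hle hq_ne
  exact Order.one_le_krullDim_iff.mpr ⟨q', _, hlt⟩

end Groth.Agent.S12210
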