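import Groth.Statements.S12260
import Groth.Agent.R2.H56LocHilb
import Groth.Agent.R2.H56DefxIso
import Groth.Agent.R2.H56DefxGlue
import Groth.Agent.R2.H6DefxUnglue

set_option autoImplicit false
universe u
open CategoryTheory CategoryTheory.Limits AlgebraicGeometry
open Deform

namespace Groth.Agent.S12260

/-- Let k be an algebraically closed field, Y a separated k-scheme of finite type and X ⊆ Y the closed
subscheme of a quasi-coherent ideal sheaf I₀. The local Hilbert functor of X in Y, whose value at a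
local Artinian k-algebra A with residue field k is the set of closed subschemes of Y ×_k Spec A that
are flat over Spec A and restrict to X on the closed fibre, satisfies the conditions H_0 (one point
over k), H_ε (the comparison map for A' ×_k k[ε] is bijective), H̄ (the comparison map for A' ×_A
A'' is surjective when A'' → A is a small extension) and H (the comparison map for A' ×_A A' is
bijective when A' → A is a small extension). -/
theorem result
    {k : Type u} [Field k] [IsAlgClosed k] (Y : Scheme.{u}) (y : Y ⟶ Spec (CommRingCat.of k))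
    [LocallyOfFiniteType y] [IsSeparated y] [QuasiCompact y] (I₀ : Y.IdealSheafData) :
    ArtFun.H0 (ArtFun.localHilb Y y I₀) ∧ ArtFun.Heps (ArtFun.localHilb Y y I₀) ∧
      ArtFun.Hbar (ArtFun.localHilb Y y I₀) ∧ ArtFun.HSq (ArtFun.localHilb Y y I₀) := by
  have hN : ∀ B : ArtFun.Art k k, IsLocallyNoetherian (ArtFun.Art.XA y B) := fun B =>
    LocallyOfFiniteType.isLocallyNoetherian (Limits.pullback.snd y (ArtFun.Art.specOver B))
  have hinj := fun {B A A₁ A₂ : ArtFun.Art k k} (p₁ : B ⟶ A₁) (p₂ : B ⟶ A₂) (f₁ : A₁ ⟶ A) (f₂ : A₂ ⟶ A)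
      (h : ArtFun.Art.IsFibreProd p₁ p₂ f₁ f₂) (hf₂ : Function.Surjective f₂) =>
    Groth.Agent.R2.H56.LocHilb.cmp_injective (I₀ := I₀) y p₁ p₂ f₁ f₂
      Groth.Agent.R2.H6.DefxUnglue.pkgUnglue h hf₂
  have hsurj := fun {B A A₁ A₂ : ArtFun.Art k k} (p₁ : B ⟶ A₁) (p₂ : B ⟶ A₂) (f₁ : A₁ ⟶ A) (f₂ : A₂ ⟶ A)
      (h : ArtFun.Art.IsFibreProd p₁ p₂ f₁ f₂) (hf₂ : Function.Surjective f₂) =>
    haveI := hN B
    Groth.Agent.R2.H56.LocHilb.cmp_surjective (I₀ := I₀) y p₁ p₂ f₁ f₂
      Groth.Agent.R2.H56.DefxGlue.pkgGlueFlat Groth.Agent.R2.H56.DefxGlue.pkgGluePb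
      Groth.Agent.R2.H56.DefxIso.pkgIso h hf₂
  refine ⟨Groth.Agent.R2.H56.LocHilb.h0 y I₀, ?_, ?_, ?_⟩
  · intro B A' p' p'' h
    have hs : Function.Surjective (ArtFun.Art.toBase (ArtFun.Art.dual k k)) :=
      (ArtFun.Art.dual k k).res_surjective
    exact ⟨hinj p' p'' _ _ h hs, hsurj p' p'' _ _ h hs⟩
  · intro B A A' A'' p' p'' f' f'' h hs
    exact hsurj p' p'' f' f'' h hs.1
  · intro B A A' p₁ p₂ f h hs
    exact ⟨hinj p₁ p₂ f f h hs.1, hsurj p₁ p₂ f f h hs.1⟩

end Groth.Agent.S12260
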