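import Groth.Statements.S12309
import Groth.Agent.R2.H56DefxMain
import Groth.Agent.R2.H56DefxAut
import Groth.Agent.R2.H56DefxIso
import Groth.Agent.R2.H56DefxGlue
import Groth.Agent.R2.H6DefxUnglue
import Groth.Agent.Lib.Helper19FibreProd
import Groth.Agent.Lib.Helper19Prorep

set_option autoImplicit false
universe u
open CategoryTheory AlgebraicGeometry
open SGA7

namespace Groth.Agent.S12309

/-- Suppose Λ is a Noetherian local ring, complete for its maximal ideal, whose residue field is k (so
that Λ → k is surjective), and work with functors defined on local Artinian Λ-algebras having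
residue field k. Take a k-scheme X₀ and assume its deformation functor (sending A to isomorphism
classes of schemes flat over Spec A whose closed fibre is X₀) admits a hull. The deformation functor
is then pro-representable exactly when the following holds: given any surjective morphism p : A' → A
and any deformation X' of X₀ over A', every automorphism of the base change of X' along p arises by
restricting some automorphism of X' (automorphisms being taken over Spec A' and inducing the
identity on X₀), i.e. the restriction map is surjective. (In the published version the assertion is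
stated for X₀ proper over k, or affine of finite type with only finitely many non-smooth points,
cases in which a hull exists; here the existence of a hull is assumed outright, as that is all the
printed proof relies on.) -/
theorem result (Λ k : Type u) [CommRing Λ] [IsLocalRing Λ] [IsNoetherianRing Λ]
    [IsAdicComplete (IsLocalRing.maximalIdeal Λ) Λ] [Field k] [Algebra Λ k]
    (hk : Function.Surjective (algebraMap Λ k))
    (X : Scheme.{u}) (x : X ⟶ Spec (CommRingCat.of k))
    (hX : ArtFun.HasHull (ArtFun.defFunctor (Λ := Λ) X x)) :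
    ArtFun.IsProrepresentable (ArtFun.defFunctor (Λ := Λ) X x) ↔
      ∀ (A' A : ArtFun.Art Λ k) (p : A' ⟶ A), Function.Surjective p →
        ∀ ξ' : ArtFun.DefSch (Λ := Λ) X x A',
          Function.Surjective (fun e : ξ'.Iso ξ' => e.baseChange p) := by
  have : Module.Finite Λ k := Module.Finite.of_surjective (Algebra.linearMap Λ k) hk
  constructor
  · rintro ⟨⟨S, ξ, hu⟩⟩ A' A p hp ξ'
    have hLE := Groth.Agent.Lib.Helper19.isLeftExact_of_isUniversal ξ hu
    have hB := Groth.Agent.Lib.Helper19.isFibreProd_pullbackObj p p hp
    exact Groth.Agent.R2.H56.DefxAut.lift_of_cmp_injective Groth.Agent.R2.H56.DefxGlue.pkgGlueFlat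
      Groth.Agent.R2.H56.DefxGlue.pkgGluePb Groth.Agent.R2.H56.DefxIso.pkgIso _ _ p hB hp
      (hLE _ _ p p hB).1 ξ'
  · intro H
    obtain ⟨⟨S, ξ, hv, hb⟩⟩ := hX
    have h0 := Groth.Agent.R2.H56.DefxMain.h0 Λ x
    have hRS : Groth.Agent.Lib.Helper19.RS (ArtFun.defFunctor (Λ := Λ) X x) := by
      apply Groth.Agent.Lib.Helper19.rs_of_rs_smallExt
      intro B A A₁ A₂ p₁ p₂ f₁ f₂ h hf₂
      exact ⟨Groth.Agent.R2.H56.DefxAut.cmp_injective_of_lift Groth.Agent.R2.H56.DefxIso.pkgIso
          Groth.Agent.R2.H6.DefxUnglue.pkgUnglue p₁ p₂ f₁ f₂ h hf₂.1 (fun ξ₂ => H A₂ A f₂ hf₂.1 ξ₂),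
        Groth.Agent.R2.H56.DefxMain.s1 Λ x Groth.Agent.R2.H56.DefxGlue.pkgGlueFlat
          Groth.Agent.R2.H56.DefxGlue.pkgGluePb Groth.Agent.R2.H56.DefxIso.pkgIso p₁ p₂ f₁ f₂ h hf₂.1⟩
    exact ⟨⟨S, ξ, fun A =>
      ⟨Groth.Agent.Lib.Helper19.family_app_injective_of_tangent_injective ξ hRS hb.1 A,
        Groth.Agent.Lib.Helper19.versal_app_surjective h0 ξ hv A⟩⟩⟩

end Groth.Agent.S12309
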