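import Groth.Statements.S12311
import Groth.Agent.R2.H56DefxMain
import Groth.Agent.R2.H56DefxIso
import Groth.Agent.R2.H56DefxGlue
import Groth.Agent.R2.H6DefxUnglue

set_option autoImplicit false
universe u
open CategoryTheory AlgebraicGeometry
open SGA7

namespace Groth.Agent.S12311

/-- Suppose Λ is a Noetherian local ring, complete for its maximal ideal, whose residue field is k (i.e.
Λ → k is surjective), and work with functors defined on local Artinian Λ-algebras having residue
field k. Given any k-scheme X₀, write F for its deformation functor (isomorphism classes of schemes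
flat over Spec A whose closed fibre is X₀). Then: F(k) consists of exactly one point; whenever B =
A₁ ×_A A₂ is a fibre product with A₂ → A surjective, the natural map F(B) → F(A₁) ×_{F(A)} F(A₂) is
onto; and when B = A' ×_k k[ε], the map F(B) → F(A') × F(k[ε]) is a bijection. (What is actually
published is homogeneity of the deformation groupoid; here we record the consequences for its
functor of isomorphism classes.) -/
theorem result (Λ k : Type u) [CommRing Λ] [IsLocalRing Λ] [IsNoetherianRing Λ]
    [IsAdicComplete (IsLocalRing.maximalIdeal Λ) Λ] [Field k] [Algebra Λ k]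
    (hk : Function.Surjective (algebraMap Λ k))
    (X : Scheme.{u}) (x : X ⟶ Spec (CommRingCat.of k)) :
    ArtFun.H0 (ArtFun.defFunctor (Λ := Λ) X x) ∧ ArtFun.S1 (ArtFun.defFunctor (Λ := Λ) X x) ∧
      ArtFun.Heps (ArtFun.defFunctor (Λ := Λ) X x) := by
  exact Groth.Agent.R2.H56.DefxMain.h0_s1_heps Λ x Groth.Agent.R2.H56.DefxGlue.pkgGlueFlat
    Groth.Agent.R2.H56.DefxGlue.pkgGluePb Groth.Agent.R2.H56.DefxIso.pkgIso
    Groth.Agent.R2.H6.DefxUnglue.pkgUnglue

end Groth.Agent.S12311
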