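import Groth.Statements.S12314
-- import your own Groth.Agent.* helpers here

set_option autoImplicit false
universe u
open CategoryTheory CategoryTheory.Limits AlgebraicGeometry MonObj
open SGA7

namespace Groth.Agent.S12314

section Aux

variable {S : Scheme.{u}} {A B : Over S} [GrpObj A] [IsCommMonObj A] [GrpObj B] [IsCommMonObj B]
  {l : ℕ} {T : Over S}

/-- The Tate module has no `n`-torsion for `n > 0` (for `l` prime). -/
theorem tateMod_eq_zero_of_nsmul_eq_zero (hl : l.Prime) {n : ℕ} (hn : 0 < n)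
    (z : AbDual.TateMod A l T) (hz : n • z = 0) : z = 0 := by
  apply AbDual.TateMod.ext
  intro m
  -- every component is killed by `n`
  have hcomp : ∀ j, n • ((z : ℕ → Additive (T ⟶ A)) j) = 0 := by
    intro j
    have := congrArg (fun w : AbDual.TateMod A l T => (w : ℕ → Additive (T ⟶ A)) j) hz
    simpa using this
  -- `z_m = l^a • z_{m+a}`
  have hshift : ∀ a j, (l ^ a) • ((z : ℕ → Additive (T ⟶ A)) (j + a)) = (z : ℕ → Additive (T ⟶ A)) j := by
    intro a
    induction a with
    | zero => intro j; simp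
    | succ a ih =>
      intro j
      rw [pow_succ, mul_smul, ← add_assoc, AbDual.TateMod.compat z (j + a), ih]
  -- write `n = l^a * n'` with `n'` coprime to `l`
  obtain ⟨a, n', hn', rfl⟩ : ∃ a n', ¬ l ∣ n' ∧ n = l ^ a * n' :=
    Nat.exists_eq_pow_mul_and_not_dvd hn.ne' l hl.ne_one
  have hcop : Nat.Coprime n' (l ^ (m + a)) :=
    (Nat.Coprime.pow_left _ ((Nat.Prime.coprime_iff_not_dvd hl).2 hn')).symm
  -- `l^a • z_{m+a}` is killed by `n'` and by `l^(m+a)`, hence by their gcd `1`
  set y : Additive (T ⟶ A) := (l ^ a) • ((z : ℕ → Additive (T ⟶ A)) (m + a)) with hy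
  have h1 : n' • y = 0 := by
    rw [hy, ← mul_smul, mul_comm]
    exact hcomp (m + a)
  have h2 : (l ^ (m + a)) • y = 0 := by
    rw [hy, smul_comm, AbDual.TateMod.torsion z (m + a), smul_zero]
  have h3 : (Nat.gcd n' (l ^ (m + a))) • y = 0 := by
    have hz1 : ((n' : ℤ)) • y = 0 := by rw [natCast_zsmul]; exact h1
    have hz2 : (((l ^ (m + a) : ℕ) : ℤ)) • y = 0 := by rw [natCast_zsmul]; exact h2
    have := Nat.gcd_eq_gcd_ab n' (l ^ (m + a))
    have h4 : ((Nat.gcd n' (l ^ (m + a)) : ℕ) : ℤ) • y = 0 := by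
      rw [this, add_smul, mul_comm (n' : ℤ), mul_comm ((l ^ (m + a) : ℕ) : ℤ), mul_smul, mul_smul, hz1, hz2,
        smul_zero, smul_zero, add_zero]
    rwa [natCast_zsmul] at h4
  rw [hcop, one_smul] at h3
  rw [← hshift a m]
  exact h3

/-- `T_l` of a composite. -/
theorem tateMap_comp {C : Over S} [GrpObj C] [IsCommMonObj C] (f : A ⟶ B) (g : B ⟶ C) [IsMonHom f] [IsMonHom g]
    (z : AbDual.TateMod A l T) :
    AbDual.tateMap (l := l) (T := T) (f ≫ g) z = AbDual.tateMap g (AbDual.tateMap f z) := by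
  apply AbDual.TateMod.ext
  intro m
  change Additive.ofMul (((z : ℕ → Additive (T ⟶ A)) m).toMul ≫ f ≫ g) =
    Additive.ofMul ((((z : ℕ → Additive (T ⟶ A)) m).toMul ≫ f) ≫ g)
  rw [Category.assoc]

/-- `T_l` of a homomorphism equal to the `n`-th power of the identity is multiplication by `n`. -/
theorem tateMap_eq_nsmul (f : A ⟶ A) [IsMonHom f] (n : ℕ) (hf : f = (𝟙 A) ^ n)
    (z : AbDual.TateMod A l T) : AbDual.tateMap (l := l) (T := T) f z = n • z := by
  apply AbDual.TateMod.ext
  intro m
  change Additive.ofMul (((z : ℕ → Additive (T ⟶ A)) m).toMul ≫ f) = (n • z : AbDual.TateMod A l T).1 m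
  rw [hf, MonObj.comp_pow, Category.comp_id]
  rfl

end Aux

/-- Let R be a henselian discrete valuation ring with fraction field K and residue field k, Ω a
separable closure of K, W a valuation subring of Ω lying over R, A and C abelian varieties over K
(proper, geometrically integral commutative group schemes), and u : C → A an isogeny, in the form:
there are a homomorphism v : A → C and an integer n > 0 with v ∘ u = n and u ∘ v = n. Let ℓ be a
prime invertible in k and consider the ℓ-adic Tate modules of the Ω-points of C and A; call an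
element fixed when all its components are fixed by the inertia group at W (for such ℓ the fixed part
is the inertia invariants). Then T_ℓ(u) maps the fixed part of T_ℓ(C) into the fixed part of T_ℓ(A)
and induces an isogeny between them: T_ℓ(u) is injective, and n times every fixed element of T_ℓ(A)
is the image of a fixed element of T_ℓ(C). (The case of a prime equal to the residue characteristic,
where the fixed part is defined through the Néron model, is not stated.) -/
theorem result (R K Ω : Type u) [CommRing R] [IsDomain R] [IsDiscreteValuationRing R] [HenselianLocalRing R]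
    [Field K] [Algebra R K] [IsFractionRing R K] [Field Ω] [Algebra K Ω] [IsSepClosure K Ω]
    (W : ValuationSubring Ω) (hW : SGA7.LiesOver K R W)
    (A C : Over (Spec (CommRingCat.of K))) [GrpObj A] [IsCommMonObj A] [IsProper A.hom] [GeometricallyIntegral A.hom]
    [GrpObj C] [IsCommMonObj C] [IsProper C.hom] [GeometricallyIntegral C.hom]
    (u : C ⟶ A) [IsMonHom u] (v : A ⟶ C) [IsMonHom v] (n : ℕ) (hn : 0 < n)
    (huv : u ≫ v = (𝟙 C) ^ n) (hvu : v ≫ u = (𝟙 A) ^ n)
    (l : ℕ) (hl : l.Prime) (hlp : (l : IsLocalRing.ResidueField R) ≠ 0) :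
    (∀ z : AbDual.TateMod C l (SGA7.pt Ω),
      (∀ (τ : Ω ≃ₐ[K] Ω) (m : ℕ), SGA7.IsInertia W τ →
        SGA7.galAct τ (AbDual.TateMod.component C l (SGA7.pt Ω) m z).toMul =
          (AbDual.TateMod.component C l (SGA7.pt Ω) m z).toMul) →
      (∀ (τ : Ω ≃ₐ[K] Ω) (m : ℕ), SGA7.IsInertia W τ →
        SGA7.galAct τ (AbDual.TateMod.component A l (SGA7.pt Ω) m (AbDual.tateMap u z)).toMul =
          (AbDual.TateMod.component A l (SGA7.pt Ω) m (AbDual.tateMap u z)).toMul)) ∧
    (∀ z : AbDual.TateMod C l (SGA7.pt Ω), AbDual.tateMap (l := l) (T := SGA7.pt Ω) u z = 0 → z = 0) ∧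
    (∀ y : AbDual.TateMod A l (SGA7.pt Ω),
      (∀ (τ : Ω ≃ₐ[K] Ω) (m : ℕ), SGA7.IsInertia W τ →
        SGA7.galAct τ (AbDual.TateMod.component A l (SGA7.pt Ω) m y).toMul =
          (AbDual.TateMod.component A l (SGA7.pt Ω) m y).toMul) →
      ∃ z : AbDual.TateMod C l (SGA7.pt Ω),
        (∀ (τ : Ω ≃ₐ[K] Ω) (m : ℕ), SGA7.IsInertia W τ →
        SGA7.galAct τ (AbDual.TateMod.component C l (SGA7.pt Ω) m z).toMul =
          (AbDual.TateMod.component C l (SGA7.pt Ω) m z).toMul) ∧
        AbDual.tateMap (l := l) (T := SGA7.pt Ω) u z = n • y) := by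
  -- the fixed part is preserved by `T_l` of any homomorphism
  have hfix : ∀ {X Y : Over (Spec (CommRingCat.of K))} [GrpObj X] [IsCommMonObj X] [GrpObj Y] [IsCommMonObj Y]
      (f : X ⟶ Y) [IsMonHom f] (z : AbDual.TateMod X l (SGA7.pt Ω)),
      (∀ (τ : Ω ≃ₐ[K] Ω) (m : ℕ), SGA7.IsInertia W τ →
        SGA7.galAct τ (AbDual.TateMod.component X l (SGA7.pt Ω) m z).toMul =
          (AbDual.TateMod.component X l (SGA7.pt Ω) m z).toMul) →
      (∀ (τ : Ω ≃ₐ[K] Ω) (m : ℕ), SGA7.IsInertia W τ →
        SGA7.galAct τ (AbDual.TateMod.component Y l (SGA7.pt Ω) m (AbDual.tateMap f z)).toMul =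
          (AbDual.TateMod.component Y l (SGA7.pt Ω) m (AbDual.tateMap f z)).toMul) := by
    intro X Y _ _ _ _ f _ z hz τ m hτ
    rw [AbDual.tateMap_component]
    have := hz τ m hτ
    unfold SGA7.galAct at this ⊢
    rw [← Category.assoc, this]
  refine ⟨fun z hz => hfix u z hz, ?_, ?_⟩
  · intro z hz
    have h1 : AbDual.tateMap (l := l) (T := SGA7.pt Ω) (u ≫ v) z = n • z :=
      tateMap_eq_nsmul (u ≫ v) n huv z
    rw [tateMap_comp, hz, map_zero] at h1
    exact tateMod_eq_zero_of_nsmul_eq_zero hl hn z h1.symm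
  · intro y hy
    refine ⟨AbDual.tateMap v y, hfix v y hy, ?_⟩
    rw [← tateMap_comp]
    exact tateMap_eq_nsmul (v ≫ u) n hvu y

end Groth.Agent.S12314
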