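import Groth.Statements.S1232
import Groth.Agent.R2.H6WeakAss

set_option autoImplicit false
universe u
open FlatMor

namespace Groth.Agent.S1232

open TensorProduct in
/-- Let A → B be a finite flat ring map, M an A-module and t a prime of B lying over the prime p of A.
Then t is a weakly associated prime of the B-module B ⊗_A M if and only if p is a weakly associated
prime of M. -/
theorem result {A B : Type u} [CommRing A] [CommRing B] [Algebra A B] [Module.Finite A B] [Module.Flat A B]
    (M : Type u) [AddCommGroup M] [Module A M] (p : Ideal A) [p.IsPrime] (t : Ideal B) [t.IsPrime] [t.LiesOver p] :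
    t ∈ FlatCA.weakAss B (B ⊗[A] M) ↔ p ∈ FlatCA.weakAss A M := by
  have htp : t.comap (algebraMap A B) = p := (Ideal.LiesOver.over (p := p) (P := t)).symm
  constructor
  · intro h
    have h1 := Groth.Agent.R2.H6.WeakAss.comap_mem_weakAss_of_finite (A := A) h
    rw [htp] at h1
    exact Groth.Agent.R2.H6.WeakAss.mem_weakAss_of_mem_weakAss_tensor_of_finite_flat B M p h1
  · intro h
    have : Algebra.IsIntegral A B := Algebra.IsIntegral.of_finite A B
    refine Groth.Agent.R2.H6.WeakAss.mem_weakAss_tensor_of_flat_of_minimal_over h t htp ?_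
    intro t' ht' hle hcomap
    by_contra hne
    have hlt : t' < t := lt_of_le_of_ne hle hne
    obtain ⟨x, hxt, hxt'⟩ := Set.exists_of_ssubset hlt
    have h5 : t'.comap (algebraMap A B) < t.comap (algebraMap A B) :=
      Ideal.comap_lt_comap_of_integral_mem_sdiff (R := A) hle ⟨hxt, hxt'⟩
        (Algebra.IsIntegral.isIntegral x)
    rw [hcomap, htp] at h5
    exact lt_irrefl _ h5

end Groth.Agent.S1232
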