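import Groth.Statements.S12439
import Groth.Agent.R2.H57NNChain

set_option autoImplicit false
universe u
open Variety

namespace Groth.Agent.S12439

open MvPolynomial Groth.Agent.Lib.Helper14.NNPrime Groth.Agent.Lib.Helper14.FTDim
  Groth.Agent.R2.H57.NNChain

/-- Let k be a field, A an integral domain which is a finitely generated k-algebra of Krull dimension d,
and q_{h(1)} ⊊ … ⊊ q_{h(r)} a chain of prime ideals with dim A/q_{h(i)} = d − h(i), where 0 ≤ h(i) ≤
d. Then (1) there is a finite injective k-algebra homomorphism φ : k[T_1, …, T_d] → A with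
φ⁻¹(q_{h(i)}) = (T_1, …, T_{h(i)}) for every i (variables indexed from 0 below: the ideal generated
by the T_l with l < h(i)); and (2) for every such φ the given chain extends to a chain of primes q_0
⊊ … ⊊ q_d of A with φ⁻¹(q_j) = (T_1, …, T_j) for all j ≤ d. -/
theorem result (k A : Type u) [Field k]
    [CommRing A] [IsDomain A] [Algebra k A] [Algebra.FiniteType k A] (d : ℕ) (hd : ringKrullDim A = (d : WithBot ℕ∞))
    (r : ℕ) (q : Fin r → PrimeSpectrum A) (hq : StrictMono q) (h : Fin r → ℕ) (hh : ∀ i, h i ≤ d)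
    (hdim : ∀ i, ringKrullDim (A ⧸ (q i).asIdeal) = ((d - h i : ℕ) : WithBot ℕ∞)) :
    (∃ φ : MvPolynomial (Fin d) k →ₐ[k] A, φ.toRingHom.Finite ∧ Function.Injective φ ∧
      ∀ i, (q i).asIdeal.comap φ = Ideal.span (MvPolynomial.X '' {l : Fin d | (l : ℕ) < h i})) ∧
    (∀ φ : MvPolynomial (Fin d) k →ₐ[k] A, φ.toRingHom.Finite → Function.Injective φ →
      (∀ i, (q i).asIdeal.comap φ = Ideal.span (MvPolynomial.X '' {l : Fin d | (l : ℕ) < h i})) →
      ∃ Q : ℕ → PrimeSpectrum A,
        (∀ j, j ≤ d → (Q j).asIdeal.comap φ = Ideal.span (MvPolynomial.X '' {l : Fin d | (l : ℕ) < j})) ∧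
        (∀ j, j < d → Q j < Q (j + 1)) ∧ (∀ i, Q (h i) = q i)) := by
  classical
  -- Noether normalization of `A`
  obtain ⟨s, g, hginj, hgfin⟩ := exists_finite_inj_algHom_of_fg k A
  have hs : s = d := by
    have h1 := ringKrullDim_of_finite_injective g hginj hgfin
    rw [hd, Fintype.card_fin] at h1
    exact_mod_cast h1.symm
  subst hs
  refine ⟨?_, ?_⟩
  · obtain ⟨Φ, hΦfin, hΦ⟩ := chain_poly s r (fun i => (q i).asIdeal.comap g)
      (fun i j hij => Ideal.comap_mono (hq.monotone hij))
      (fun i => Ideal.comap_ne_top _ (q i).2.ne_top)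
    refine ⟨g.comp Φ, AlgHom.Finite.comp hgfin hΦfin,
      hginj.comp (finite_endo_injective Φ hΦfin), fun i => ?_⟩
    obtain ⟨c, hc, hcomap⟩ := hΦ i
    have hcomap' : (q i).asIdeal.comap (g.comp Φ) =
        Ideal.span (MvPolynomial.X '' {l : Fin s | (l : ℕ) < c}) := by
      rw [← hcomap]; rfl
    suffices hch : c = h i by rw [hcomap', hch]
    set ψ : MvPolynomial (Fin s) k →ₐ[k] A ⧸ (q i).asIdeal :=
      (Ideal.Quotient.mkₐ k (q i).asIdeal).comp (g.comp Φ) with hψ
    have hψfin : ψ.toRingHom.Finite :=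
      AlgHom.Finite.comp (AlgHom.Finite.of_surjective _ (Ideal.Quotient.mkₐ_surjective k _))
        (AlgHom.Finite.comp hgfin hΦfin)
    have hψker : RingHom.ker ψ =
        Ideal.span (MvPolynomial.X '' {l : Fin s | (l : ℕ) < c}) := by
      rw [← hcomap']
      ext x
      simp only [RingHom.mem_ker, Ideal.mem_comap]
      show Ideal.Quotient.mk (q i).asIdeal ((g.comp Φ) x) = 0 ↔ _
      rw [Ideal.Quotient.eq_zero_iff_mem]
    obtain ⟨hinj', hfin'⟩ := tau_comp ψ hψfin hψker
    have hdim' := ringKrullDim_of_finite_injective _ hinj' hfin'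
    rw [hdim i, card_tau hc] at hdim'
    have h2 : s - h i = s - c := by exact_mod_cast hdim'
    have := hh i
    omega
  · intro φ hφfin hφinj hφcomap
    letI : Algebra (MvPolynomial (Fin s) k) A := φ.toRingHom.toAlgebra
    haveI : Module.Finite (MvPolynomial (Fin s) k) A := hφfin
    haveI : Algebra.IsIntegral (MvPolynomial (Fin s) k) A := Algebra.IsIntegral.of_finite _ A
    haveI : FaithfulSMul (MvPolynomial (Fin s) k) A :=
      (faithfulSMul_iff_algebraMap_injective _ A).mpr hφinj
    obtain ⟨Q, hQ1, hQ2, hQ3⟩ := exists_chain (R := MvPolynomial (Fin s) k) (S := A) s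
      (fun a => Ideal.span (MvPolynomial.X '' {l : Fin s | (l : ℕ) < a}))
      (fun a _ => inferInstance)
      (by
        have : {l : Fin s | (l : ℕ) < 0} = ∅ := by ext l; simp
        show Ideal.span (MvPolynomial.X '' {l : Fin s | (l : ℕ) < 0}) = ⊥
        rw [this, Set.image_empty, Ideal.span_empty])
      (fun a ha => span_lt_span ha)
      (fun a _ => isIntegrallyClosed_quot_span s a)
      r q hq.monotone h hh (fun i => hφcomap i)
    exact ⟨Q, fun j hj => hQ1 j hj, hQ2, hQ3⟩

end Groth.Agent.S12439
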