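import Groth.Statements.S1244
import Groth.Agent.R2.H6NilLimit
-- import your own Groth.Agent.* helpers here

set_option autoImplicit false
universe u
open FlatMor

namespace Groth.Agent.S1244

open AlgebraicGeometry CategoryTheory Groth.Agent.R2.H6.NilLimit

/-- `Spec` of a surjective ring map with nilpotent kernel is surjective on points. -/
theorem spec_map_surjective_of_nil {R S : Type u} [CommRing R] [CommRing S] (f : R →+* S)
    (hf : Function.Surjective f) (hnil : ∀ x ∈ RingHom.ker f, IsNilpotent x) :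
    Function.Surjective (Spec.map (CommRingCat.ofHom f)) := by
  intro x
  have h1 : Set.range (PrimeSpectrum.comap f) = Set.univ := by
    rw [range_comap_of_surjective _ f hf, PrimeSpectrum.zeroLocus_eq_univ_iff]
    intro y hy
    exact (mem_nilradical).mpr (hnil y hy)
  have h2 : (x : PrimeSpectrum R) ∈ Set.range (PrimeSpectrum.comap f) := by rw [h1]; trivial
  obtain ⟨y, hy⟩ := h2
  exact ⟨y, hy⟩

/-- `π 0` is surjective. -/
theorem pi_zero_surjective {A : Type u} [CommRing A] (A' : ℕ → Type u) [∀ n, CommRing (A' n)]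
    (φ : ∀ n, A' (n + 1) →+* A' n) (π : ∀ n, A →+* A' n) (hlim : FlatCA.IsRingLimit A A' φ π)
    (hsurj : ∀ n, Function.Surjective (φ n)) : Function.Surjective (π 0) := by
  intro x0
  choose lift hlift using hsurj
  let x : ∀ n, A' n := fun n => Nat.rec x0 (fun n xn => lift n xn) n
  obtain ⟨a, ha⟩ := hlim.2.2 x (fun n => hlift n (x n))
  exact ⟨a, ha 0⟩


open AlgebraicGeometry CategoryTheory in
/-- Let A be the limit of an inverse system of rings (A_n) indexed by the natural numbers whose
transition maps are surjective with locally nilpotent kernels. Let T → Spec A be a monomorphism of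
schemes which is locally of finite type. If each Spec A_n → Spec A factors through T, then T → Spec
A is an isomorphism. -/
theorem result {A : Type u} [CommRing A] (A' : ℕ → Type u) [∀ n, CommRing (A' n)]
    (φ : ∀ n, A' (n + 1) →+* A' n) (π : ∀ n, A →+* A' n) (hlim : FlatCA.IsRingLimit A A' φ π)
    (hsurj : ∀ n, Function.Surjective (φ n)) (hnil : ∀ n, ∀ x ∈ RingHom.ker (φ n), IsNilpotent x)
    {T : Scheme.{u}} (h : T ⟶ Spec (CommRingCat.of A)) [Mono h] [LocallyOfFiniteType h]
    (hsec : ∀ n, ∃ g : Spec (CommRingCat.of (A' n)) ⟶ T, g ≫ h = Spec.map (CommRingCat.ofHom (π n))) :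
    IsIso h := by
  classical
  choose g hg using hsec
  -- compatibility of the sections
  have hcomp : ∀ n, Spec.map (CommRingCat.ofHom (φ n)) ≫ g (n + 1) = g n := by
    intro n
    rw [← cancel_mono h, Category.assoc, hg, hg, ← Spec.map_comp, ← CommRingCat.ofHom_comp, hlim.1 n]
  have hzero : ∀ n, Spec.map (CommRingCat.ofHom (toZero φ n)) ≫ g n = g 0 := by
    intro n
    rw [← cancel_mono h, Category.assoc, hg, hg, ← Spec.map_comp, ← CommRingCat.ofHom_comp,
      toZero_comp_pi hlim n]
  have hrange : ∀ n, Set.range (g n) = Set.range (g 0) := by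
    intro n
    rw [← hzero n, Scheme.Hom.comp_base, TopCat.coe_comp, Set.range_comp,
      (spec_map_surjective_of_nil (toZero φ n) (toZero_surjective hsurj n)
        (isNilpotent_of_mem_ker_toZero hnil n)).range_eq, Set.image_univ]
  -- a quasi-compact open containing the images
  obtain ⟨T', hT'c, hT'⟩ : ∃ T' : T.Opens, IsCompact (T' : Set T) ∧ Set.range (g 0) ⊆ T' := by
    have hK : IsCompact (Set.range (g 0)) := isCompact_range (g 0).continuous
    have hex : ∀ t : T, ∃ U : T.Opens, IsAffineOpen U ∧ t ∈ U := by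
      intro t
      obtain ⟨_, ⟨U, hU, rfl⟩, htU, -⟩ :=
        T.isBasis_affineOpens.exists_subset_of_mem_open (Set.mem_univ t) isOpen_univ
      exact ⟨U, hU, htU⟩
    choose U hU htU using hex
    obtain ⟨s, hs⟩ := hK.elim_finite_subcover (fun t : T => (U t : Set T)) (fun t => (U t).isOpen)
      (fun t _ => Set.mem_iUnion.mpr ⟨t, htU t⟩)
    refine ⟨⨆ t ∈ s, U t, ?_, ?_⟩
    · have : ((⨆ t ∈ s, U t : T.Opens) : Set T) = ⋃ t ∈ s, (U t : Set T) := by simp
      rw [this]
      exact s.isCompact_biUnion (fun t _ => (hU t).isCompact)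
    · intro x hx
      have := hs hx
      simpa using this
  have : CompactSpace (T' : Scheme) := isCompact_iff_compactSpace.mp hT'c
  have hsub : ∀ n, Set.range (g n) ⊆ Set.range T'.ι := by
    intro n
    rw [hrange n, Scheme.Opens.range_ι]
    exact hT'
  let g' : ∀ n, Spec (CommRingCat.of (A' n)) ⟶ (T' : Scheme) := fun n =>
    IsOpenImmersion.lift T'.ι (g n) (hsub n)
  have hg' : ∀ n, g' n ≫ T'.ι = g n := fun n => IsOpenImmersion.lift_fac _ _ _
  -- Zariski's main theorem for the restriction
  let h' : (T' : Scheme) ⟶ Spec (CommRingCat.of A) := T'.ι ≫ h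
  have : Mono h' := mono_comp _ _
  have : LocallyOfFiniteType h' := inferInstance
  have : QuasiCompact h' := inferInstance
  let N := h'.normalization
  let j : (T' : Scheme) ⟶ N := h'.toNormalization
  let ν : N ⟶ Spec (CommRingCat.of A) := h'.fromNormalization
  have hjν : j ≫ ν = h' := h'.toNormalization_fromNormalization
  have : IsOpenImmersion j := inferInstance
  have : IsAffine N := isAffine_of_isAffineHom ν
  let e : N ≅ Spec Γ(N, ⊤) := N.isoSpec
  -- ring maps into the system
  let β : ∀ n, Γ(N, ⊤) ⟶ CommRingCat.of (A' n) := fun n => Spec.preimage (g' n ≫ j ≫ e.hom)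
  have hβ : ∀ n, Spec.map (β n) = g' n ≫ j ≫ e.hom := fun n => Spec.map_preimage _
  have hg'comp : ∀ n, Spec.map (CommRingCat.ofHom (φ n)) ≫ g' (n + 1) = g' n := by
    intro n
    rw [← cancel_mono T'.ι, Category.assoc, hg', hg', hcomp]
  have hβcomp : ∀ n, (φ n).comp (β (n + 1)).hom = (β n).hom := by
    intro n
    have : β (n + 1) ≫ CommRingCat.ofHom (φ n) = β n := by
      apply Spec.map_injective
      rw [Spec.map_comp, hβ, hβ, ← Category.assoc, hg'comp]
    exact congrArg CommRingCat.Hom.hom this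
  obtain ⟨β', hβ'⟩ := exists_ringHom_of_compatible hlim (fun n => (β n).hom) hβcomp
  let σ : Spec (CommRingCat.of A) ⟶ N := Spec.map (CommRingCat.ofHom β') ≫ e.inv
  have hσ1 : ∀ n, Spec.map (CommRingCat.ofHom (π n)) ≫ σ = g' n ≫ j := by
    intro n
    have : CommRingCat.ofHom β' ≫ CommRingCat.ofHom (π n) = β n := by
      ext x
      exact RingHom.congr_fun (hβ' n) x
    change Spec.map _ ≫ Spec.map _ ≫ e.inv = _
    rw [← Category.assoc, ← Spec.map_comp, this, hβ]
    simp
  have hσ2 : σ ≫ ν = 𝟙 _ := by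
    let α : CommRingCat.of A ⟶ Γ(N, ⊤) := Spec.preimage (e.inv ≫ ν)
    have hα : Spec.map α = e.inv ≫ ν := Spec.map_preimage _
    have hαβ : ∀ n, α ≫ β n = CommRingCat.ofHom (π n) := by
      intro n
      apply Spec.map_injective
      rw [Spec.map_comp, hβ, hα]
      simp only [Category.assoc, Iso.hom_inv_id_assoc]
      rw [hjν, ← hg]
      rw [← hg' n, Category.assoc]
    have : α ≫ CommRingCat.ofHom β' = 𝟙 _ := by
      ext a
      apply hlim.2.1
      intro n
      have h1 := RingHom.congr_fun (hβ' n) (α.hom a)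
      have h2 := congrArg (fun f => f.hom a) (hαβ n)
      simp only [RingHom.comp_apply] at h1
      simp only [CommRingCat.hom_comp, RingHom.comp_apply, CommRingCat.hom_ofHom] at h2
      change π n (β' (α.hom a)) = π n a
      rw [h1, h2]
    change (Spec.map _ ≫ e.inv) ≫ ν = _
    rw [Category.assoc, ← hα, ← Spec.map_comp, this, Spec.map_id]
  -- the section lands in the open subscheme
  have hσrange : Set.range σ ⊆ Set.range j := by
    let W : Set (PrimeSpectrum A) := {x | σ x ∈ Set.range j}
    have hWo : IsOpen W := j.opensRange.isOpen.preimage σ.continuous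
    have hWc : IsClosed Wᶜ := hWo.isClosed_compl
    obtain ⟨I, hI⟩ := (PrimeSpectrum.isClosed_iff_zeroLocus_ideal Wᶜ).mp hWc
    have hW0' : ∀ x : Spec (CommRingCat.of (A' 0)),
        σ ((Spec.map (CommRingCat.ofHom (π 0))) x) ∈ Set.range j := by
      intro x
      have h1 : σ ((Spec.map (CommRingCat.ofHom (π 0))) x) = j ((g' 0) x) := by
        rw [← Scheme.Hom.comp_apply, ← Scheme.Hom.comp_apply, hσ1]
      rw [h1]
      exact ⟨_, rfl⟩
    have hW0 : ∀ x : PrimeSpectrum (A' 0), PrimeSpectrum.comap (π 0) x ∈ W := fun x => hW0' x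
    have hItop : I = ⊤ := by
      by_contra hne
      obtain ⟨m, hm, hIm⟩ := Ideal.exists_le_maximal I hne
      have hker : RingHom.ker (π 0) ≤ m := by
        intro k hk
        by_contra hkm
        have h1 : m ⊔ Ideal.span {k} = ⊤ := hm.1.2 _ (lt_of_le_of_ne le_sup_left (fun heq => hkm
          (heq ▸ Ideal.mem_sup_right (Ideal.subset_span rfl))))
        obtain ⟨μ, hμ, y, hy, hsum⟩ := Submodule.mem_sup.mp ((Ideal.eq_top_iff_one _).mp h1)
        obtain ⟨a, rfl⟩ := Ideal.mem_span_singleton'.mp hy
        have hunit : IsUnit (1 - a * k) :=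
          isUnit_one_sub_of_mem_ker hlim hnil (a * k) (Ideal.mul_mem_left _ a hk)
        have : μ = 1 - a * k := by rw [← hsum]; ring
        rw [← this] at hunit
        exact hm.ne_top (Ideal.eq_top_of_isUnit_mem _ hμ hunit)
      -- `m` comes from a prime of `A' 0`
      have hmr : (⟨m, hm.isPrime⟩ : PrimeSpectrum A) ∈ Set.range (PrimeSpectrum.comap (π 0)) := by
        rw [range_comap_of_surjective _ _ (pi_zero_surjective A' φ π hlim hsurj)]
        exact hker
      obtain ⟨x, hx⟩ := hmr
      have h1 : (⟨m, hm.isPrime⟩ : PrimeSpectrum A) ∈ W := by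
        rw [← hx]
        exact hW0 x
      have h2 : (⟨m, hm.isPrime⟩ : PrimeSpectrum A) ∈ Wᶜ := by
        rw [hI]
        exact hIm
      exact h2 h1
    have hWtop : Wᶜ = ∅ := by
      rw [hI, hItop]
      simp
    rintro _ ⟨x, rfl⟩
    have : (x : PrimeSpectrum A) ∈ W := by
      by_contra hx
      have : (x : PrimeSpectrum A) ∈ Wᶜ := hx
      rw [hWtop] at this
      exact this
    exact this
  let σ' : Spec (CommRingCat.of A) ⟶ (T' : Scheme) := IsOpenImmersion.lift j σ hσrange
  have hσ' : σ' ≫ j = σ := IsOpenImmersion.lift_fac _ _ _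
  have hsec : (σ' ≫ T'.ι) ≫ h = 𝟙 _ := by
    rw [Category.assoc]
    change σ' ≫ h' = _
    rw [← hjν, ← Category.assoc, hσ', hσ2]
  have : IsSplitEpi h := IsSplitEpi.mk' ⟨σ' ≫ T'.ι, hsec⟩
  exact isIso_of_mono_of_isSplitEpi h

end Groth.Agent.S1244
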