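import Groth.Statements.S12441
import Groth.Agent.R2.H57ClosedFun
import Groth.Agent.R2.H57LeftIdeal

set_option autoImplicit false
universe u
open scoped TensorProduct
open Grass

namespace Groth.Agent.S12441

open AlgebraicGeometry CategoryTheory in
/-- Let k be a field, A a possibly non-commutative k-algebra, e a natural number, and X a k-scheme
representing the Grassmannian functor Grass^e(A) on affine k-schemes — bijections, natural in the
commutative k-algebra B, between k-morphisms Spec B → X and B-submodules U of B ⊗_k A whose quotient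
is finite projective of constant rank e. Then there is a closed immersion ι : Z → X such that a
k-morphism g : Spec B → X factors through ι if and only if the submodule U attached to g is a left
ideal of B ⊗_k A, i.e. is stable under left multiplication by every 1 ⊗ a. -/
theorem result (k : Type u) [Field k] (A : Type u) [Ring A] [Algebra k A]
    (e : ℕ) (X : Over (Spec (CommRingCat.of k)))
    (eX : ∀ B : CommAlgCat.{u} k,
      ((Over.mk (Spec.map (CommRingCat.ofHom (algebraMap k B)))) ⟶ X) ≃ (Module.Grassmannian.functor (R := k) (M := A) e).obj B)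
    (heX : ∀ (B C : CommAlgCat.{u} k) (φ : B ⟶ C)
      (g : Over.mk (Spec.map (CommRingCat.ofHom (algebraMap k B))) ⟶ X) (g' : Over.mk (Spec.map (CommRingCat.ofHom (algebraMap k C))) ⟶ X),
      g'.left = Spec.map (CommRingCat.ofHom φ.hom.toRingHom) ≫ g.left →
        eX C g' = (Module.Grassmannian.functor (R := k) (M := A) e).map φ (eX B g)) :
    ∃ (Z : Scheme.{u}) (ι : Z ⟶ X.left), IsClosedImmersion ι ∧
      ∀ (B : CommAlgCat.{u} k) (g : Over.mk (Spec.map (CommRingCat.ofHom (algebraMap k B))) ⟶ X),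
        (∃ h : (Over.mk (Spec.map (CommRingCat.ofHom (algebraMap k B)))).left ⟶ Z, h ≫ ι = g.left) ↔
          ∀ (a : A) (x : ↑B ⊗[k] A), x ∈ (eX B g).toSubmodule →
            ((1 : ↑B) ⊗ₜ[k] a) * x ∈ (eX B g).toSubmodule := by
  classical
  -- the absolute predicate: for every compatible `k`-algebra structure, the attached submodule
  -- is a left ideal
  let P : Groth.Agent.R2.H57.ClosedFun.AffPred X.left := fun B₀ g =>
    ∀ (alg : Algebra k B₀)
      (hcomp : g ≫ X.hom = Spec.map (CommRingCat.ofHom (algebraMap k B₀))),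
      Groth.Agent.R2.H57.LeftIdeal.IsLeft (k := k) (𝔄 := A)
        (eX (CommAlgCat.of k B₀) (Over.homMk g hcomp)).toSubmodule
  -- naturality in absolute form
  have nat : ∀ (B₀ B₁ : CommRingCat.{u}) (τ : B₀ ⟶ B₁) (g : Spec B₀ ⟶ X.left)
      (alg₀ : Algebra k B₀)
      (h₀ : g ≫ X.hom = Spec.map (CommRingCat.ofHom (algebraMap k B₀)))
      (alg₁ : Algebra k B₁)
      (h₁ : (Spec.map τ ≫ g) ≫ X.hom = Spec.map (CommRingCat.ofHom (algebraMap k B₁))),
      ∃ f : B₀ →ₐ[k] B₁, f.toRingHom = τ.hom ∧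
        eX (CommAlgCat.of k B₁) (Over.homMk (Spec.map τ ≫ g) h₁) =
          Module.Grassmannian.map f (eX (CommAlgCat.of k B₀) (Over.homMk g h₀)) := by
    intro B₀ B₁ τ g alg₀ h₀ alg₁ h₁
    have hcomm : ∀ c : k, τ.hom (algebraMap k B₀ c) = algebraMap k B₁ c := by
      have h2 : Spec.map (CommRingCat.ofHom (algebraMap k B₁)) =
          Spec.map (CommRingCat.ofHom (algebraMap k B₀) ≫ τ) := by
        rw [Spec.map_comp, ← h₀, ← h₁, Category.assoc]
      have h3 := Spec.map_injective h2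
      intro c
      have := congrArg (fun φ => φ.hom c) h3
      simpa using this.symm
    let f : B₀ →ₐ[k] B₁ := { τ.hom with commutes' := hcomm }
    refine ⟨f, rfl, ?_⟩
    exact heX (CommAlgCat.of k B₀) (CommAlgCat.of k B₁) (CommAlgCat.ofHom f)
      (Over.homMk g h₀) (Over.homMk (Spec.map τ ≫ g) h₁) rfl
  -- a compatible algebra structure always exists
  have exAlg : ∀ (B₀ : CommRingCat.{u}) (g : Spec B₀ ⟶ X.left),
      ∃ (alg : Algebra k B₀), g ≫ X.hom = Spec.map (CommRingCat.ofHom (algebraMap k B₀)) := by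
    intro B₀ g
    refine ⟨(Spec.preimage (g ≫ X.hom)).hom.toAlgebra, ?_⟩
    rw [RingHom.algebraMap_toAlgebra, CommRingCat.ofHom_hom, Spec.map_preimage]
  -- base change
  have hP2 : ∀ (B B' : CommRingCat.{u}) (τ : B ⟶ B') (g : Spec B ⟶ X.left),
      P B g → P B' (Spec.map τ ≫ g) := by
    intro B₀ B₁ τ g hP alg₁ h₁
    obtain ⟨alg₀, h₀⟩ := exAlg B₀ g
    obtain ⟨f, -, hf⟩ := nat B₀ B₁ τ g alg₀ h₀ alg₁ h₁
    rw [hf]
    exact Groth.Agent.R2.H57.LeftIdeal.isLeft_map_of_isLeft f _ (hP alg₀ h₀)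
  -- locality
  have hP3 : ∀ (B : CommRingCat.{u}) (g : Spec B ⟶ X.left) (s : Set B), Ideal.span s = ⊤ →
      (∀ b ∈ s, ∃ (B' : CommRingCat.{u}) (τ : B ⟶ B'),
        (letI := τ.hom.toAlgebra; IsLocalization.Away b B') ∧ P B' (Spec.map τ ≫ g)) → P B g := by
    intro B₀ g s hs hloc alg₀ h₀
    apply Groth.Agent.R2.H57.LeftIdeal.isLeft_of_map_localizations _ s hs
    intro b hb
    obtain ⟨B₁, τ, hAway, hPb⟩ := hloc b hb
    obtain ⟨alg₁, h₁⟩ := exAlg B₁ (Spec.map τ ≫ g)
    obtain ⟨f, hfτ, hf⟩ := nat B₀ B₁ τ g alg₀ h₀ alg₁ h₁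
    refine ⟨B₁, inferInstance, alg₁, f, ?_, ?_⟩
    · have : f.toAlgebra = τ.hom.toAlgebra := by
        show f.toRingHom.toAlgebra = τ.hom.toAlgebra
        rw [hfτ]
      rw [this]
      exact hAway
    · rw [← hf]
      exact hPb alg₁ h₁
  -- the local ideals
  have hP1 : ∀ W : X.left.affineOpens, ∃ I : Ideal Γ(X.left, W), ∀ (B : CommRingCat.{u})
      (σ : Γ(X.left, W) ⟶ B), P B (Spec.map σ ≫ W.2.fromSpec) ↔ I ≤ RingHom.ker σ.hom := by
    intro W
    obtain ⟨algW, hW⟩ := exAlg Γ(X.left, W) W.2.fromSpec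
    refine ⟨Groth.Agent.R2.H57.LeftIdeal.cI (k := k) (𝔄 := A)
      (eX (CommAlgCat.of k Γ(X.left, W)) (Over.homMk W.2.fromSpec hW)).toSubmodule, ?_⟩
    intro B₁ σ
    constructor
    · intro hP
      obtain ⟨alg₁, h₁⟩ := exAlg B₁ (Spec.map σ ≫ W.2.fromSpec)
      obtain ⟨f, hfσ, hf⟩ := nat _ B₁ σ W.2.fromSpec algW hW alg₁ h₁
      have h2 := hP alg₁ h₁
      rw [hf, Groth.Agent.R2.H57.LeftIdeal.isLeft_map_iff, hfσ] at h2
      exact h2
    · intro hI alg₁ h₁
      obtain ⟨f, hfσ, hf⟩ := nat _ B₁ σ W.2.fromSpec algW hW alg₁ h₁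
      rw [hf, Groth.Agent.R2.H57.LeftIdeal.isLeft_map_iff, hfσ]
      exact hI
  obtain ⟨Z, ι, hι, hZ⟩ := Groth.Agent.R2.H57.ClosedFun.exists_closedImmersion P hP1 hP2 hP3
  refine ⟨Z, ι, hι, fun B g => ?_⟩
  have hg : g.left ≫ X.hom = Spec.map (CommRingCat.ofHom (algebraMap k B)) := Over.w g
  refine (hZ (CommRingCat.of B) g.left).trans ?_
  constructor
  · intro hP
    exact hP inferInstance hg
  · intro hL
    have key : ∀ (alg : Algebra k B), alg = B.algebra →
        ∀ (hcomp : g.left ≫ X.hom = Spec.map (CommRingCat.ofHom (@algebraMap k B _ _ alg))),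
        Groth.Agent.R2.H57.LeftIdeal.IsLeft (k := k) (𝔄 := A)
          (eX (@CommAlgCat.of k _ B _ alg) (Over.homMk g.left hcomp)).toSubmodule := by
      intro alg halg
      subst halg
      intro hcomp
      exact hL
    intro alg hcomp
    refine key alg ?_ hcomp
    apply Algebra.algebra_ext
    intro c
    have h2 := hcomp.symm.trans hg
    have h3 := Spec.map_injective h2
    have := congrArg (fun φ => φ.hom c) h3
    simpa using this

end Groth.Agent.S12441
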