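import Groth.Statements.S12459
import Mathlib
import Groth.Agent.Lib.Helper13Cat
import Groth.Agent.Lib.Helper10Catenary2
import Groth.Agent.S12446
-- import your own Groth.Agent.* helpers here

set_option autoImplicit false
universe u
open CategoryTheory AlgebraicGeometry
open Props

namespace Groth.Agent.S12459

/-- If every finite type `R`-algebra is catenary, so is every essentially finite type `R`-algebra. -/
theorem isCatenary_of_essFiniteType (R B : Type u) [CommRing R] [CommRing B] [Algebra R B]
    [Algebra.EssFiniteType R B]
    (hR : ∀ (S : Type u) [CommRing S] [Algebra R S], Algebra.FiniteType R S → CAlg.IsCatenary S) :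
    CAlg.IsCatenary B :=
  Groth.Agent.Helper13Cat.isCatenary_of_isLocalization (Algebra.EssFiniteType.subalgebra R B)
    (Algebra.EssFiniteType.submonoid R B) B
    (hR (Algebra.EssFiniteType.subalgebra R B) inferInstance)

/-- For a locally Noetherian scheme S, the scheme S is universally catenary — every scheme X locally of
finite type over S has catenary underlying topological space — if and only if all local rings
O_{S,s} are universally catenary rings. (Schemes X over S are taken in the universe of S.) -/
theorem result (S : Scheme.{u}) [IsLocallyNoetherian S] :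
    (∀ (X : Scheme.{u}) (f : X ⟶ S), LocallyOfFiniteType f → PtTop.IsCatenarySpace X) ↔
      ∀ s : S, CAlg.IsUniversallyCatenary (S.presheaf.stalk s) := by
  constructor
  · intro H s
    refine ⟨inferInstance, ?_⟩
    intro B _ _ hB
    obtain ⟨U, hU, hsU, -⟩ :=
      exists_isAffineOpen_mem_and_subset (X := S) (x := s) (U := ⊤) trivial
    letI := TopCat.Presheaf.algebra_section_stalk S.presheaf ⟨s, hsU⟩
    haveI hloc : IsLocalization (hU.primeIdealOf ⟨s, hsU⟩).asIdeal.primeCompl (S.presheaf.stalk s) :=
      hU.isLocalization_stalk ⟨s, hsU⟩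
    letI : Algebra Γ(S, U) B :=
      ((algebraMap (S.presheaf.stalk s) B).comp (algebraMap Γ(S, U) (S.presheaf.stalk s))).toAlgebra
    haveI : IsScalarTower Γ(S, U) (S.presheaf.stalk s) B := IsScalarTower.of_algebraMap_eq' rfl
    haveI : Algebra.EssFiniteType Γ(S, U) (S.presheaf.stalk s) :=
      Algebra.EssFiniteType.of_isLocalization _ (hU.primeIdealOf ⟨s, hsU⟩).asIdeal.primeCompl
    haveI : Algebra.EssFiniteType Γ(S, U) B := Algebra.EssFiniteType.comp Γ(S, U) (S.presheaf.stalk s) B
    refine isCatenary_of_essFiniteType Γ(S, U) B ?_
    intro C _ _ hC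
    -- the scheme `Spec C` is locally of finite type over `S`
    have hlft : LocallyOfFiniteType
        (Spec.map (CommRingCat.ofHom (algebraMap Γ(S, U) C)) ≫ hU.fromSpec) := by
      have : LocallyOfFiniteType (Spec.map (CommRingCat.ofHom (algebraMap Γ(S, U) C))) := by
        rw [HasRingHomProperty.Spec_iff (P := @LocallyOfFiniteType)]
        exact (RingHom.finiteType_algebraMap (A := Γ(S, U)) (B := C)).mpr hC
      infer_instance
    have h1 := H _ _ hlft
    exact (Groth.Agent.Lib.Helper10.Catenary2.isCatenarySpace_primeSpectrum_iff C).mp h1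
  · intro H X f hf
    rw [Groth.Agent.S12446.result X]
    intro x
    letI : Algebra (S.presheaf.stalk (f x)) (X.presheaf.stalk x) := (f.stalkMap x).hom.toAlgebra
    haveI : Algebra.EssFiniteType (S.presheaf.stalk (f x)) (X.presheaf.stalk x) := by
      rw [← RingHom.essFiniteType_algebraMap, RingHom.algebraMap_toAlgebra]
      exact LocallyOfFiniteType.stalkMap f x
    exact isCatenary_of_essFiniteType (S.presheaf.stalk (f x)) (X.presheaf.stalk x) (H (f x)).2

end Groth.Agent.S12459
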