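import Groth.Statements.S12460
import Groth.Agent.R2.H57RegLocus

set_option autoImplicit false
universe u
open CategoryTheory AlgebraicGeometry
open Props

namespace Groth.Agent.S12460

/-- (1) ⇔ (3) ⇔ (4): let X be a locally Noetherian scheme. Then X is J-2 — for every morphism Y → X
locally of finite type the set of points y with O_{Y,y} a regular local ring is open in Y — if and
only if for every affine open U of X the ring Γ(X, U) is J-2 (every finite type algebra over it has
open regular locus), if and only if every point of X lies in such an affine open. (Schemes Y over X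
are taken in the universe of X.) -/
theorem result (X : Scheme.{u}) [IsLocallyNoetherian X] :
    ((∀ (Y : Scheme.{u}) (g : Y ⟶ X), LocallyOfFiniteType g →
        IsOpen {y : Y | IsRegularLocalRing (Y.presheaf.stalk y)}) ↔
      ∀ U : X.affineOpens, EGA4.IsJ2 Γ(X, U)) ∧
    ((∀ (Y : Scheme.{u}) (g : Y ⟶ X), LocallyOfFiniteType g →
        IsOpen {y : Y | IsRegularLocalRing (Y.presheaf.stalk y)}) ↔
      ∀ x : X, ∃ U : X.affineOpens, x ∈ (U : X.Opens) ∧ EGA4.IsJ2 Γ(X, U)) := by
  have hAB : (∀ (Y : Scheme.{u}) (g : Y ⟶ X), LocallyOfFiniteType g →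
      IsOpen {y : Y | IsRegularLocalRing (Y.presheaf.stalk y)}) →
      ∀ U : X.affineOpens, EGA4.IsJ2 Γ(X, U) := by
    rintro H ⟨U, hU⟩ T _ _ hT
    have hopen : LocallyOfFiniteType hU.fromSpec := inferInstance
    have hlft : LocallyOfFiniteType
        (Spec.map (CommRingCat.ofHom (algebraMap Γ(X, U) T)) ≫ hU.fromSpec) := by
      have : LocallyOfFiniteType (Spec.map (CommRingCat.ofHom (algebraMap Γ(X, U) T))) := by
        rw [HasRingHomProperty.Spec_iff (P := @LocallyOfFiniteType)]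
        exact (RingHom.finiteType_algebraMap (A := Γ(X, U)) (B := T)).mpr hT
      exact MorphismProperty.comp_mem _ _ _ this hopen
    have h1 := H _ _ hlft
    rw [← Groth.Agent.R2.H57.RegLocus.regSet_Spec]
    exact h1
  have hBC : (∀ U : X.affineOpens, EGA4.IsJ2 Γ(X, U)) →
      ∀ x : X, ∃ U : X.affineOpens, x ∈ (U : X.Opens) ∧ EGA4.IsJ2 Γ(X, U) := by
    intro H x
    obtain ⟨U, hU, hxU, -⟩ := exists_isAffineOpen_mem_and_subset (X := X) (x := x) (U := ⊤) trivial
    exact ⟨⟨U, hU⟩, hxU, H ⟨U, hU⟩⟩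
  have hCA : (∀ x : X, ∃ U : X.affineOpens, x ∈ (U : X.Opens) ∧ EGA4.IsJ2 Γ(X, U)) →
      ∀ (Y : Scheme.{u}) (g : Y ⟶ X), LocallyOfFiniteType g →
        IsOpen {y : Y | IsRegularLocalRing (Y.presheaf.stalk y)} := by
    intro H Y g hg
    refine Groth.Agent.R2.H57.RegLocus.isOpen_regSet_of_cover ?_
    intro y
    obtain ⟨U, hxU, hJ⟩ := H (g y)
    obtain ⟨V, hV, hyV, hVU⟩ := exists_isAffineOpen_mem_and_subset (X := Y) (x := y)
      (U := g ⁻¹ᵁ U.1) hxU
    refine ⟨V, hV, hyV, ?_⟩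
    have hft : (g.appLE U.1 V hVU).hom.FiniteType :=
      HasRingHomProperty.appLE (P := @LocallyOfFiniteType) g hg U ⟨V, hV⟩ hVU
    letI : Algebra Γ(X, U) Γ(Y, V) := (g.appLE U.1 V hVU).hom.toAlgebra
    exact hJ Γ(Y, V) hft
  exact ⟨⟨hAB, fun h => hCA (hBC h)⟩, ⟨fun h => hBC (hAB h), hCA⟩⟩

end Groth.Agent.S12460
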