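import Groth.Statements.S1250
import Groth.Agent.R2.H6FlatDev
-- import your own Groth.Agent.* helpers here

set_option autoImplicit false
universe u
open FlatMor

namespace Groth.Agent.S1250

open Groth.Agent.R2.H6.FlatAt Groth.Agent.R2.H6.FlatDev

/-- Given an elementary dévissage E of N at q over p in dimension n, the following are equivalent: N_q
is flat over R; G_z is flat over R'; G_y (G viewed as a D-module) is flat over R'. Also equivalent
to each other: N becomes flat over R on some basic open D(g) ∋ q of Spec S; G becomes flat over R'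
on some basic open of Spec C containing z; G as a D-module becomes flat over R' on some basic open
of Spec D containing y. -/
theorem result {R S : Type u} [CommRing R] [CommRing S] [Algebra R S] [Algebra.FiniteType R S]
    (N : Type u) [AddCommGroup N] [Module S N] [Module R N] [IsScalarTower R S N] [Module.Finite S N]
    (p : Ideal R) [p.IsPrime] (q : Ideal S) [q.IsPrime] [q.LiesOver p] (n : ℕ) (E : FlatCA.ElemDevissage R S N p q n) :
    [FlatCA.FlatAt R q N, FlatCA.FlatAt E.R' E.z E.G, FlatCA.FlatAt E.R' E.y E.G].TFAE ∧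
    [∃ g : S, g ∉ q ∧ Module.Flat R (LocalizedModule (Submonoid.powers g) N),
     ∃ g : E.C, g ∉ E.z ∧ Module.Flat E.R' (LocalizedModule (Submonoid.powers g) E.G),
     ∃ g : E.D, g ∉ E.y ∧ Module.Flat E.R' (LocalizedModule (Submonoid.powers g) E.G)].TFAE := by
  classical
  obtain ⟨hetR, -, -⟩ := E.etaleR
  obtain ⟨hetS, hq'over, -⟩ := E.etaleS
  have hq : q = E.q'.comap (algebraMap S E.S') := hq'over.over
  have hzq' : E.q' = E.z.comap (algebraMap E.S' E.C) := E.zOver.over
  have hzy : E.y = E.z.comap (algebraMap E.D E.C) := E.zOverY.over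
  -- module structures on `N'`
  let _mR'N' : Module E.R' E.N' := Module.compHom E.N' (algebraMap E.R' E.S')
  let _mRN' : Module R E.N' := Module.compHom E.N' (algebraMap R E.S')
  have s1 : IsScalarTower E.R' E.S' E.N' := ⟨fun a b n => by
    change (a • b) • n = algebraMap E.R' E.S' a • (b • n)
    rw [Algebra.smul_def, mul_smul]⟩
  have s2 : IsScalarTower R E.S' E.N' := ⟨fun a b n => by
    change (a • b) • n = algebraMap R E.S' a • (b • n)
    rw [Algebra.smul_def, mul_smul]⟩
  have s3 : IsScalarTower R S E.N' := ⟨fun a b n => by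
    change (a • b) • n = algebraMap R E.S' a • (b • n)
    rw [← algebraMap_smul E.S' (a • b) n, ← algebraMap_smul E.S' b n, Algebra.smul_def, map_mul,
      mul_smul, ← IsScalarTower.algebraMap_apply]⟩
  have s4 : IsScalarTower R E.R' E.N' := ⟨fun a b n => by
    change algebraMap E.R' E.S' (a • b) • n = algebraMap R E.S' a • (algebraMap E.R' E.S' b • n)
    rw [Algebra.smul_def, map_mul, mul_smul, ← IsScalarTower.algebraMap_apply]⟩
  -- module structures on `G`
  have s5 : IsScalarTower E.R' E.S' E.G := ⟨fun a b g => by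
    have h1 : (a • b) • g = algebraMap E.S' E.C (a • b) • g := (algebraMap_smul E.C (a • b) g).symm
    have h2 : b • g = algebraMap E.S' E.C b • g := (algebraMap_smul E.C b g).symm
    have h3 : a • (b • g) = algebraMap E.R' E.C a • (b • g) := (algebraMap_smul E.C a (b • g)).symm
    rw [h1, h3, h2, Algebra.smul_def, map_mul, mul_smul, ← IsScalarTower.algebraMap_apply]⟩
  have hflatS : Module.Flat S E.S' := inferInstance
  have hfpS : Algebra.FinitePresentation S E.S' := inferInstance
  have hflatR : Module.Flat R E.R' := inferInstance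
  have hintS'C : Algebra.IsIntegral E.S' E.C :=
    Algebra.isIntegral_of_surjective E.surjC
  have hfinDC : Module.Finite E.D E.C := E.finiteDC
  have hintDC : Algebra.IsIntegral E.D E.C := inferInstance
  have huniqS' : ∀ r' : Ideal E.C, r'.IsPrime →
      r'.comap (algebraMap E.S' E.C) = E.z.comap (algebraMap E.S' E.C) → r' = E.z := by
    intro r' _ h
    exact Ideal.comap_injective_of_surjective _ E.surjC h
  have huniqD : ∀ r' : Ideal E.C, r'.IsPrime →
      r'.comap (algebraMap E.D E.C) = E.z.comap (algebraMap E.D E.C) → r' = E.z := by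
    intro r' hr' h
    exact E.uniq r' ⟨by rw [hzy]; exact h.symm⟩
  -- the chain of equivalences at the points
  have e1 : FlatCA.FlatAt R q N ↔ TorsionKer R E.q'.primeCompl E.N' := by
    rw [flatAt_iff_torsionKer]
    constructor
    · intro H
      exact torsionKer_of_isBaseChange E.f E.isBaseChange q.primeCompl E.q'.primeCompl
        (fun b hb hbq => hb (by rw [hq]; exact hbq)) H
    · intro H
      have := torsionKer_of_isBaseChange_of_comap E.f E.isBaseChange E.q' H
      exact torsionKer_mono (S1 := (E.q'.comap (algebraMap S E.S')).primeCompl) (S2 := q.primeCompl)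
        (fun b hb hbq => hb (by rw [hq] at hbq; exact hbq)) this
  have e2 : TorsionKer R E.q'.primeCompl E.N' ↔ TorsionKer E.R' E.q'.primeCompl E.N' :=
    ⟨torsionKer_of_formallyUnramified _, torsionKer_restrictScalars_of_flat _⟩
  have e3 : ∀ T : Submonoid E.S', TorsionKer E.R' T E.N' ↔ TorsionKer E.R' T E.G :=
    fun T => torsionKer_iff_of_linearEquiv T E.iso
  have e4 : TorsionKer E.R' E.q'.primeCompl E.G ↔ TorsionKer E.R' E.z.primeCompl E.G := by
    constructor
    · intro H
      exact torsionKer_of_map E.q'.primeCompl E.z.primeCompl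
        (fun b hb hbz => hb (by rw [hzq']; exact hbz)) H
    · intro H
      have := torsionKer_comap_of_isIntegral (A := E.R') (B := E.S') E.z huniqS' H
      exact torsionKer_mono (S1 := (E.z.comap (algebraMap E.S' E.C)).primeCompl)
        (S2 := E.q'.primeCompl) (fun b hb hbq => hb (by rw [hzq'] at hbq; exact hbq)) this
  have e5 : TorsionKer E.R' E.z.primeCompl E.G ↔ TorsionKer E.R' E.y.primeCompl E.G := by
    constructor
    · intro H
      have := torsionKer_comap_of_isIntegral (A := E.R') (B := E.D) E.z huniqD H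
      exact torsionKer_mono (S1 := (E.z.comap (algebraMap E.D E.C)).primeCompl)
        (S2 := E.y.primeCompl) (fun b hb hbq => hb (by rw [hzy] at hbq; exact hbq)) this
    · intro H
      exact torsionKer_of_map E.y.primeCompl E.z.primeCompl
        (fun b hb hbz => hb (by rw [hzy]; exact hbz)) H
  have e6 : FlatCA.FlatAt E.R' E.z E.G ↔ TorsionKer E.R' E.z.primeCompl E.G :=
    flatAt_iff_torsionKer _ _
  have e7 : FlatCA.FlatAt E.R' E.y E.G ↔ TorsionKer E.R' E.y.primeCompl E.G :=
    flatAt_iff_torsionKer _ _
  refine ⟨?_, ?_⟩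
  · tfae_have 1 ↔ 2 := by rw [e1, e2, e3, e4, e6]
    tfae_have 2 ↔ 3 := by rw [e6, e7, e5]
    tfae_finish
  · simp only [flat_powers_iff_torsionKer]
    tfae_have 1 → 2 := by
      rintro ⟨g, hg, H⟩
      refine ⟨algebraMap E.S' E.C (algebraMap S E.S' g), ?_, ?_⟩
      · intro hmem
        apply hg
        rw [hq, hzq']
        exact hmem
      · have h1 : TorsionKer R (Submonoid.powers (algebraMap S E.S' g)) E.N' :=
          torsionKer_of_isBaseChange E.f E.isBaseChange (Submonoid.powers g) _
            (by rintro _ ⟨n, rfl⟩; exact ⟨n, by rw [map_pow]⟩) H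
        have h2 : TorsionKer E.R' (Submonoid.powers (algebraMap S E.S' g)) E.N' :=
          torsionKer_of_formallyUnramified _ h1
        have h3 := (e3 _).mp h2
        exact torsionKer_of_map (Submonoid.powers (algebraMap S E.S' g)) _
          (by rintro _ ⟨n, rfl⟩; exact ⟨n, by rw [map_pow]⟩) h3
    tfae_have 2 → 3 := by
      rintro ⟨c, hc, H⟩
      obtain ⟨d, hd, c', hdc⟩ := exists_notMem_comap_mul (B := E.D) E.z huniqD c hc
      refine ⟨d, by rwa [hzy], ?_⟩
      exact torsionKer_powers_of_mul c c' d hdc H
    tfae_have 3 → 2 := by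
      rintro ⟨d, hd, H⟩
      refine ⟨algebraMap E.D E.C d, fun hmem => hd (by rw [hzy]; exact hmem), ?_⟩
      exact torsionKer_of_map (Submonoid.powers d) _
        (by rintro _ ⟨n, rfl⟩; exact ⟨n, by rw [map_pow]⟩) H
    tfae_have 2 → 1 := by
      rintro ⟨c, hc, H⟩
      obtain ⟨g1, hg1, c', hgc⟩ := exists_notMem_comap_mul (B := E.S') E.z huniqS' c hc
      have h1 : TorsionKer E.R' (Submonoid.powers g1) E.G := torsionKer_powers_of_mul c c' g1 hgc H
      have h2 := (e3 _).mpr h1
      have h3 : TorsionKer R (Submonoid.powers g1) E.N' := torsionKer_restrictScalars_of_flat _ h2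
      rw [← hzq'] at hg1
      obtain ⟨g, hg, H'⟩ := exists_torsionKer_powers_of_isBaseChange E.f E.isBaseChange g1 E.q' hg1 h3
      exact ⟨g, by rwa [hq], H'⟩
    tfae_finish

end Groth.Agent.S1250
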