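import Groth.Statements.S12527
import Groth.Agent.R2.H57Sing

set_option autoImplicit false
universe u v
open scoped TensorProduct
open FunFld

namespace Groth.Agent.S12527

open Groth.Agent.R2.H57 in
/-- the tensor product instance of `Sing.nonsingular_of_good`. -/
theorem aux (k : Type u) (K : Type v) [Field k] [Field K] [Algebra k K]
    (hK : FunFld.IsFunctionField k K) (hg : FunFld.IsGeometric k K)
    {x y : K} (hx : Transcendental k x)
    (hgen : IntermediateField.adjoin k ({x, y} : Set K) = ⊤)
    (H : Polynomial (Polynomial k)) (hH : H.Monic) (hroot : UnifCond.ev x y H = 0)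
    (P : Place k K) (hPx : P.1 x ≤ 1) (hPy : P.1 y ≤ 1)
    (hPδ : 1 ≤ P.1 (UnifCond.ev x y (Polynomial.derivative H)))
    (k' : Type u) [Field k'] [Algebra k k'] [FiniteDimensional k k'] :
    integralClosure (P.O.toSubring.map (Algebra.TensorProduct.includeRight : K →ₐ[k] k' ⊗[k] K).toRingHom) (k' ⊗[k] K) =
        Algebra.adjoin (P.O.toSubring.map (Algebra.TensorProduct.includeRight : K →ₐ[k] k' ⊗[k] K).toRingHom)
          (Set.range (Algebra.TensorProduct.includeLeftRingHom : k' →+* k' ⊗[k] K)) := by
  letI : Field (k' ⊗[k] K) := (hg k' inferInstance).toField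
  letI : Algebra K (k' ⊗[k] K) := Algebra.TensorProduct.rightAlgebra
  have hbij : Function.Bijective (Algebra.TensorProduct.productMap
      (IsScalarTower.toAlgHom k k' (k' ⊗[k] K)) (IsScalarTower.toAlgHom k K (k' ⊗[k] K))) := by
    have : Algebra.TensorProduct.productMap
      (IsScalarTower.toAlgHom k k' (k' ⊗[k] K)) (IsScalarTower.toAlgHom k K (k' ⊗[k] K)) =
        AlgHom.id k (k' ⊗[k] K) := by
      apply Algebra.TensorProduct.ext'
      intro a b
      simp only [Algebra.TensorProduct.productMap_apply_tmul, IsScalarTower.coe_toAlgHom',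
        AlgHom.coe_id, id_eq]
      rw [Algebra.TensorProduct.algebraMap_apply, Algebra.TensorProduct.right_algebraMap_apply,
        Algebra.TensorProduct.tmul_mul_tmul, mul_one, one_mul]
      rfl
    rw [this]
    exact Function.bijective_id
  exact Sing.nonsingular_of_good (k' := k') (K' := k' ⊗[k] K) hbij hK hx hgen H hH hroot P hPx hPy hPδ

/-- A geometric function field of one variable `K/k` has at most finitely many singular places, i.e.
places `P` for which, for some finite extension `k'/k`, the integral closure of `O_P` in `k' ⊗_k K`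
is strictly larger than `k' ⊗_k O_P`. The existence of a purely inseparable finite `k'` making `k'
⊗_k K` nonsingular is not stated. -/
theorem result (k : Type u) (K : Type v) [Field k] [Field K] [Algebra k K]
    (hK : FunFld.IsFunctionField k K) (hg : FunFld.IsGeometric k K) :
    {P : FunFld.Place k K | ∃ (k' : Type u) (_ : Field k') (_ : Algebra k k'), FiniteDimensional k k' ∧
      integralClosure (P.O.toSubring.map (Algebra.TensorProduct.includeRight : K →ₐ[k] k' ⊗[k] K).toRingHom) (k' ⊗[k] K) ≠
        Algebra.adjoin (P.O.toSubring.map (Algebra.TensorProduct.includeRight : K →ₐ[k] k' ⊗[k] K).toRingHom)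
          (Set.range (Algebra.TensorProduct.includeLeftRingHom : k' →+* k' ⊗[k] K))}.Finite := by
  obtain ⟨x, y, H, hx, hgen, hH, hroot, hδ⟩ :=
    Groth.Agent.R2.H57.PlaneModel.exists_plane_model hK hg
  apply (Groth.Agent.R2.H57.Sing.bad_finite hK x y H hδ).subset
  rintro P ⟨k', _, _, hfin, hne⟩ ⟨hPx, hPy, hPδ⟩
  exact hne (aux k K hK hg hx hgen H hH hroot P hPx hPy hPδ k')

end Groth.Agent.S12527
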