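import Groth.Statements.S12692
import Groth.Agent.Lib.Helper13RLe
-- import your own Groth.Agent.* helpers here

set_option autoImplicit false
universe u
open CategoryTheory AlgebraicGeometry Opposite TopologicalSpace
open Coh

namespace Groth.Agent.S12692.Aux

open Groth.Agent.Helper13RL Groth.Agent.Helper13RelProj

section Nil

variable {X : Scheme.{u}} [CompactSpace X] (B : RelSpec.QCAlg X)

/-- On a quasi-compact scheme, a locally nilpotent section of a sheaf of rings is nilpotent. -/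
theorem isNilpotent_of_locally {W : X.Opens} (hW : W = ⊤) (σ : B.presheaf.obj (op W))
    (h : ∀ x : X, ∃ (V : X.Opens) (hVW : V ≤ W), x ∈ V ∧
      IsNilpotent ((B.presheaf.map (homOfLE hVW).op).hom σ)) : IsNilpotent σ := by
  choose V hVW hxV hnil using h
  choose N hN using hnil
  obtain ⟨t, ht⟩ := CompactSpace.elim_nhds_subcover (fun x => ((V x : X.Opens) : Set X))
    (fun x => (V x).2.mem_nhds (hxV x))
  refine ⟨t.sup N, ?_⟩
  let F : TopCat.Sheaf CommRingCat X := ⟨B.presheaf, B.isSheaf⟩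
  refine TopCat.Sheaf.eq_of_locally_eq' F (fun x : t => V x.1) W (fun x => homOfLE (hVW x.1)) ?_
    (σ ^ t.sup N) 0 ?_
  · rw [hW]
    intro y _
    have hy : y ∈ ⋃ x ∈ t, ((V x : X.Opens) : Set X) := by rw [ht]; trivial
    obtain ⟨x, hx, hyx⟩ := Set.mem_iUnion₂.mp hy
    exact Opens.mem_iSup.mpr ⟨⟨x, hx⟩, hyx⟩
  · intro x
    change (B.presheaf.map (homOfLE (hVW x.1)).op).hom (σ ^ t.sup N) =
      (B.presheaf.map (homOfLE (hVW x.1)).op).hom 0
    rw [map_pow, map_zero]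
    exact pow_eq_zero_of_le (Finset.le_sup x.2) (hN x.1)

end Nil


section QC

variable {Y X : Scheme.{u}} {q : X ⟶ Y} {𝒮 : RelProj.QCGrAlg Y} {𝒮' : RelProj.QCGrAlg X}
  (u : RelProj.QGrHom q 𝒮 𝒮')
  {P PL : Scheme.{u}} {p : P ⟶ Y}
  {chart : ∀ (U : Y.Opens) (hU : IsAffineOpen U),
    ((p ⁻¹ᵁ U : P.Opens) : Scheme.{u}) ≅ Proj (𝒮.deg U hU)}
  {pL : PL ⟶ X}
  {chartL : ∀ (U' : X.Opens) (hU' : IsAffineOpen U'),
    ((pL ⁻¹ᵁ U' : PL.Opens) : Scheme.{u}) ≅ Proj (𝒮'.deg U' hU')}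

/-- On a quasi-compact base, the open `X_t` of a relative Proj is quasi-compact, for `t` a global
section which is homogeneous of positive degree over every affine open. -/
theorem isCompact_Xf [CompactSpace X] (hPL : RelProj.IsRelProj 𝒮' pL chartL)
    (t₀ : 𝒮'.presheaf.obj (op ⊤)) (d : ℕ) (hd : 0 < d)
    (hdeg : ∀ (V : X.Opens) (hV : IsAffineOpen V), resTop 𝒮' t₀ V ∈ 𝒮'.deg V hV d) :
    IsCompact (Xf 𝒮' pL chartL t₀ : Set PL) := by
  have hex : ∀ x : X, ∃ V : X.affineOpens, x ∈ (V : X.Opens) := fun x =>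
    Opens.mem_iSup.mp ((iSup_affineOpens_eq_top X).ge (Set.mem_univ x))
  choose V hxV using hex
  obtain ⟨t, ht⟩ := CompactSpace.elim_nhds_subcover (fun x => (((V x : X.affineOpens) : X.Opens) : Set X))
    (fun x => (V x).1.2.mem_nhds (hxV x))
  have hU : (Xf 𝒮' pL chartL t₀ : Set PL) =
      ⋃ x ∈ t, (pieceOf 𝒮' pL chartL t₀ (V x).1 (V x).2 : Set PL) := by
    ext y
    constructor
    · intro hy
      have hy' : pL.base y ∈ ⋃ x ∈ t, (((V x : X.affineOpens) : X.Opens) : Set X) := by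
        rw [ht]; trivial
      obtain ⟨x, hx, hyx⟩ := Set.mem_iUnion₂.mp hy'
      refine Set.mem_iUnion₂.mpr ⟨x, hx, ?_⟩
      have h1 : y ∈ Xf 𝒮' pL chartL t₀ ⊓ pL ⁻¹ᵁ (V x).1 := ⟨hy, hyx⟩
      rw [Xf_inf_preimage 𝒮' pL t₀ hPL (V x).1 (V x).2] at h1
      exact h1
    · intro hy
      obtain ⟨x, hx, hyx⟩ := Set.mem_iUnion₂.mp hy
      have h1 : y ∈ pieceOf 𝒮' pL chartL t₀ (V x).1 (V x).2 := hyx
      rw [← Xf_inf_preimage 𝒮' pL t₀ hPL (V x).1 (V x).2] at h1
      exact h1.1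
  rw [hU]
  refine t.isCompact_biUnion (fun x _ => ?_)
  have hV : IsAffineOpen ((V x).1 : X.Opens) := (V x).2
  have hpe := pieceOf_eq_image_emb 𝒮' pL chartL t₀ (V x).1 hV
  have hc : IsCompact ((RelProj.emb pL chartL (V x).1 hV ''ᵁ
      Proj.basicOpen (𝒮'.deg (V x).1 hV) (resTop 𝒮' t₀ (V x).1) : PL.Opens) : Set PL) :=
    ((Proj.isAffineOpen_basicOpen (𝒮'.deg (V x).1 hV) _
      (hdeg (V x).1 hV) hd).isCompact).image (RelProj.emb pL chartL (V x).1 hV).continuous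
  rw [← hpe] at hc
  exact hc

set_option backward.isDefEq.respectTransparency false in
/-- Over an affine base and a quasi-compact source, the morphism `Proj(u)` is quasi-compact. -/
theorem quasiCompact_projQMapOn [CompactSpace X] (hP : RelProj.IsRelProj 𝒮 p chart)
    (hPL : RelProj.IsRelProj 𝒮' pL chartL)
    {r : ((RelProj.domQ u pL chartL : PL.Opens) : Scheme.{u}) ⟶ P}
    (hr : RelProj.IsProjQMapOn u p chart pL chartL (RelProj.domQ u pL chartL) r)
    (hY : IsAffineOpen (⊤ : Y.Opens)) : QuasiCompact r := by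
  let ι := Σ n : {n : ℕ // 0 < n}, {g : 𝒮.presheaf.obj (op ⊤) // g ∈ 𝒮.deg ⊤ hY n.1}
  let W : ι → P.affineOpens := fun i =>
    ⟨(RelProj.emb p chart ⊤ hY) ''ᵁ Proj.basicOpen (𝒮.deg ⊤ hY) i.2.1,
      (Proj.isAffineOpen_basicOpen (𝒮.deg ⊤ hY) i.2.1 i.2.2 i.1.2).image_of_isOpenImmersion _⟩
  have hW : ⨆ i, ((W i : P.affineOpens) : P.Opens) = ⊤ := by
    rw [eq_top_iff]
    intro pt _
    obtain ⟨z, rfl⟩ := exists_chart_point (chartB := chart) ⊤ hY pt trivial
    obtain ⟨n, g, hn, hg, hz⟩ := exists_mem_basicOpen_pos (𝒮.deg ⊤ hY) z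
    exact Opens.mem_iSup.mpr ⟨⟨⟨n, hn⟩, ⟨g, hg⟩⟩, ⟨z, hz, rfl⟩⟩
  rw [HasAffineProperty.iff_of_iSup_eq_top (P := @QuasiCompact)
    (Q := fun X _ _ _ => CompactSpace X) W hW]
  intro i
  change CompactSpace ↥(r ⁻¹ᵁ (W i).1)
  suffices hs : IsCompact ((r ⁻¹ᵁ (W i).1 : (RelProj.domQ u pL chartL : Scheme.{u}).Opens) :
      Set ((RelProj.domQ u pL chartL : PL.Opens) : Scheme.{u})) from
    isCompact_iff_compactSpace.mp hs
  rw [(RelProj.domQ u pL chartL).ι.isOpenEmbedding.isEmbedding.isCompact_iff]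
  have h1 := image_preimage_eq_Xf u hP hPL hr hY i.1.2 i.2.2
  have h2 : ((RelProj.domQ u pL chartL).ι.base '' ((r ⁻¹ᵁ (W i).1 : Opens _) : Set _)) =
      (Xf 𝒮' pL chartL (topSec u i.2.1) : Set PL) := by
    rw [← h1]; rfl
  rw [h2]
  exact isCompact_Xf hPL (topSec u i.2.1) i.1.1 i.1.2
    (fun V hV => resTop_topSec_mem u hY i.2.2 V hV)

end QC

end Groth.Agent.S12692.Aux

namespace Groth.Agent.S12692

/-- Let X be a quasi-compact scheme, L an invertible O_X-module with graded symmetric algebra 𝒮L =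
⊕_{d≥0} L^{⊗d} (whose relative Proj PL, given with its charts, is identified with X by its structure
morphism), f : X → Y a quasi-compact morphism to an AFFINE scheme Y, 𝒜 a quasi-coherent graded
O_Y-algebra given with a graded f-morphism u : 𝒜 → f_*𝒮L which is bijective on global sections — so
that Γ(Y, 𝒜) is the graded ring S = ⊕_d Γ(X, L^{⊗d}) and P = Proj(𝒜) (given with its charts) is
Proj(S) — and r : G(u) → P the canonical morphism on its open of definition G(u) ⊆ PL. If G(u) is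
all of PL (that is, every point of X lies in an open X_s for some homogeneous s ∈ S_+), then r is
quasi-compact and has dense image. (The published statement forms the homogeneous spectrum of the
graded ring S itself, with no base scheme; any affine Y under X gives the same graded ring, the same
homogeneous spectrum and the same morphism.) -/
theorem result {X Y P PL : Scheme.{u}} [CompactSpace X]
    (f : X ⟶ Y) [QuasiCompact f] (hY : IsAffineOpen (⊤ : Y.Opens))
    (L : X.Modules) (hL : PicF.IsInvertible L) (hLq : Coh.IsQCoh L)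
    (𝒮L : RelProj.QCGrAlg X) (jL : L ⟶ 𝒮L.toModule) (hjL : RelProj.IsGrSymAlg L 𝒮L jL)
    (pL : PL ⟶ X) (chartL : ∀ (U : X.Opens) (hU : IsAffineOpen U), (((pL ⁻¹ᵁ U : PL.Opens) : Scheme.{u}) ≅ Proj (𝒮L.deg U hU)))
    (hPL : RelProj.IsRelProj 𝒮L pL chartL)
    (𝒜 : RelProj.QCGrAlg Y) (u : RelProj.QGrHom f 𝒜 𝒮L)
    (p : P ⟶ Y) (chart : ∀ (U : Y.Opens) (hU : IsAffineOpen U), (((p ⁻¹ᵁ U : P.Opens) : Scheme.{u}) ≅ Proj (𝒜.deg U hU)))
    (hP : RelProj.IsRelProj 𝒜 p chart)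
    (r : ((RelProj.domQ u pL chartL : PL.Opens) : Scheme.{u}) ⟶ P)
    (hr : RelProj.IsProjQMapOn u p chart pL chartL (RelProj.domQ u pL chartL) r)
    (hu : Function.Bijective (u.app ⊤).hom)
    (htop : RelProj.domQ u pL chartL = ⊤) :
    QuasiCompact r ∧ IsDominant r := by
  open Groth.Agent.Helper13RL Groth.Agent.S12692.Aux in
  refine ⟨quasiCompact_projQMapOn u hP hPL hr hY, ?_⟩
  rw [isDominant_iff u hP hPL hr hY]
  intro n hn s hs hloc
  have hW : f ⁻¹ᵁ (⊤ : Y.Opens) = ⊤ := Scheme.Hom.preimage_top f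
  have hnil : IsNilpotent ((u.app ⊤).hom s) := by
    apply isNilpotent_of_locally 𝒮L.toQCAlg hW
    intro x
    obtain ⟨V, hV, hxV, hV'⟩ := hloc x
    exact ⟨V, le_top.trans hW.ge, hxV, hV'⟩
  obtain ⟨N, hN⟩ := hnil
  refine ⟨N, hu.1 ?_⟩
  rw [map_pow, hN, map_zero]

end Groth.Agent.S12692
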