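import Groth.Statements.S1291
import Groth.Agent.R2.H6Fitt
import Groth.Agent.R2.H6DiagSplit
-- import your own Groth.Agent.* helpers here

set_option autoImplicit false
universe u
open FlatMor

namespace Groth.Agent.S1291

/-- Let A → C be finite locally free of rank d (C a finite projective A-module of constant rank d), h ∈
C such that C_h is étale over A, and J an ideal of C. Let I be the zeroth Fitting ideal of C/J
regarded as a finite A-module. Then the extension of I to C_h equals J·J' for some ideal J' of C_h
(J extended to C_h); and if J is finitely generated then so are I and J'. -/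
theorem result {A C : Type u} [CommRing A] [CommRing C] [Algebra A C] [Module.Finite A C] [Module.Projective A C]
    (d : ℕ) (hd : ∀ p : PrimeSpectrum A, Module.rankAtStalk (R := A) C p = d)
    (h : C) [Algebra.Etale A (Localization.Away h)] (J : Ideal C) :
    ∃ J' : Ideal (Localization.Away h),
      (FlatCA.fittingZero A (C ⧸ J)).map (algebraMap A (Localization.Away h)) = J.map (algebraMap C (Localization.Away h)) * J' ∧
      (J.FG → (FlatCA.fittingZero A (C ⧸ J)).FG ∧ J'.FG) := by
  classical
  obtain ⟨N, _, _, hNfin, ⟨e⟩, hNfp⟩ := Groth.Agent.R2.H6.DiagSplit.exists_prod_decomposition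
    (A := A) (S := Localization.Away h) h J
  have hfinQ : Module.Finite A (C ⧸ J) :=
    Module.Finite.of_surjective (Ideal.Quotient.mkₐ A J).toLinearMap
      (Ideal.Quotient.mkₐ_surjective A J)
  refine ⟨Fitt.ideal (Localization.Away h) N 0, ?_, ?_⟩
  · rw [Groth.Agent.R2.H6.Fitt.fittingZero_eq,
      ← Groth.Agent.Helper18Fitt.fitt_baseChange (R' := Localization.Away h) (M := C ⧸ J) 0,
      Groth.Agent.Helper18Fitt.fitt_congr e 0, Groth.Agent.R2.H6.Fitt.fitt_zero_prod]
  · intro hJ
    have hfpC : Module.FinitePresentation A C := Module.finitePresentation_of_projective A C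
    have hfpQ : Module.FinitePresentation A (C ⧸ J) := by
      refine Module.finitePresentation_of_surjective (Ideal.Quotient.mkₐ A J).toLinearMap
        (Ideal.Quotient.mkₐ_surjective A J) ?_
      have hker : LinearMap.ker (Ideal.Quotient.mkₐ A J).toLinearMap = J.restrictScalars A := by
        ext x
        simp [Ideal.Quotient.eq_zero_iff_mem]
      rw [hker]
      exact Submodule.FG.restrictScalars hJ
    refine ⟨?_, Groth.Agent.Helper18Fitt.fitt_fg_of_fp (hNfp inferInstance) 0⟩
    rw [Groth.Agent.R2.H6.Fitt.fittingZero_eq]
    exact Groth.Agent.Helper18Fitt.fitt_fg_of_fp hfpQ 0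

end Groth.Agent.S1291
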