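import Groth.Statements.S1271
import Groth.Agent.S1291
import Groth.Agent.R2.H6Fitt
-- import your own Groth.Agent.* helpers here

set_option autoImplicit false
universe u
open FlatMor

namespace Groth.Agent.S1271

/-- A finitely generated ideal of a localization is the extension of a finitely generated ideal. -/
theorem exists_fg_map_eq {C D : Type u} [CommRing C] [CommRing D] [Algebra C D] (M : Submonoid C)
    [IsLocalization M D] (J1 : Ideal D) (hJ1 : J1.FG) :
    ∃ J2 : Ideal C, J2.FG ∧ J2.map (algebraMap C D) = J1 := by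
  classical
  obtain ⟨s, rfl⟩ := hJ1
  have hsec : ∀ y : D, ∃ (c : C) (m : M), y * algebraMap C D m = algebraMap C D c := fun y => by
    obtain ⟨⟨c, m⟩, h⟩ := IsLocalization.surj M y
    exact ⟨c, m, h⟩
  choose c m hcm using hsec
  refine ⟨Ideal.span (s.image c : Set C), ⟨s.image c, rfl⟩, ?_⟩
  rw [Ideal.map_span]
  apply le_antisymm
  · rw [Ideal.span_le]
    rintro _ ⟨_, hx, rfl⟩
    rw [Finset.coe_image] at hx
    obtain ⟨y, hy, rfl⟩ := hx
    rw [← hcm]
    exact Ideal.mul_mem_right _ _ (Ideal.subset_span hy)
  · rw [Ideal.span_le]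
    intro y hy
    have hu : IsUnit (algebraMap C D (m y)) := IsLocalization.map_units D (m y)
    have h1 : algebraMap C D (c y) ∈ Ideal.span ((algebraMap C D) '' (s.image c : Set C)) :=
      Ideal.subset_span ⟨c y, by rw [Finset.coe_image]; exact ⟨y, hy, rfl⟩, rfl⟩
    rw [← hcm] at h1
    exact (Ideal.mul_unit_mem_iff_mem _ hu).mp h1


/-- Let A → B be an étale ring map, a ∈ A a nonzerodivisor and J a finitely generated ideal of B with
V(J) ⊆ V(aB), i.e. a lies in the radical of J. Then for every prime q of B there exist a finitely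
generated ideal I of A with V(I) ⊆ V(a), an element g of B outside q, and a finitely generated ideal
J' of the localization B_g such that the extension of I to B_g equals the product of the extension
of J with J'. -/
theorem result {A B : Type u} [CommRing A] [CommRing B] [Algebra A B] [Algebra.Etale A B]
    (a : A) (ha : a ∈ nonZeroDivisors A) (J : Ideal B) (hJ : J.FG) (hJa : algebraMap A B a ∈ J.radical)
    (q : Ideal B) [q.IsPrime] :
    ∃ (I : Ideal A) (g : B) (J' : Ideal (Localization.Away g)), I.FG ∧ a ∈ I.radical ∧ g ∉ q ∧ J'.FG ∧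
      I.map (algebraMap A (Localization.Away g)) = J.map (algebraMap B (Localization.Away g)) * J' := by
  classical
  -- local structure: `B_f` is standard etale
  obtain ⟨f, hfq, hstd⟩ := Algebra.IsEtaleAt.exists_isStandardEtale (R := A) q
  let P : StandardEtalePresentation A (Localization.Away f) :=
    hstd.nonempty_standardEtalePresentation.some
  let C := AdjoinRoot P.f
  let h : C := AdjoinRoot.mk P.f P.g
  let D := Localization.Away h
  let e : Localization.Away f ≃ₐ[A] D := P.equivRing.trans P.P.equivAwayAdjoinRoot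
  have hfinC : Module.Finite A C := P.monic_f.finite_adjoinRoot
  have hfreeC : Module.Free A C := P.monic_f.free_adjoinRoot
  have hetBf : Algebra.Etale A (Localization.Away f) := inferInstance
  have hetD : Algebra.Etale A D := Algebra.Etale.of_equiv e
  -- the ideal of `D` corresponding to `J`
  let J1 : Ideal D := (J.map (algebraMap B (Localization.Away f))).map e.toRingEquiv.toRingHom
  have hJ1fg : J1.FG := (hJ.map _).map _
  obtain ⟨J2, hJ2fg, hJ2⟩ := exists_fg_map_eq (Submonoid.powers h) J1 hJ1fg
  obtain ⟨m, hm⟩ := hJa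
  have ham : algebraMap A D (a ^ m) ∈ J1 := by
    have h1 : algebraMap B (Localization.Away f) ((algebraMap A B a) ^ m) ∈
        J.map (algebraMap B (Localization.Away f)) := Ideal.mem_map_of_mem _ hm
    have h2 := Ideal.mem_map_of_mem e.toRingEquiv.toRingHom h1
    have h3 : e.toRingEquiv.toRingHom (algebraMap B (Localization.Away f) ((algebraMap A B a) ^ m)) =
        algebraMap A D (a ^ m) := by
      rw [← map_pow, ← IsScalarTower.algebraMap_apply A B (Localization.Away f)]
      exact e.commutes (a ^ m)
    rwa [h3] at h2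
  let J3 : Ideal C := J2 ⊔ Ideal.span {algebraMap A C (a ^ m)}
  have hJ3fg : J3.FG := Submodule.FG.sup hJ2fg ⟨{algebraMap A C (a ^ m)}, by simp⟩
  have hJ3 : J3.map (algebraMap C D) = J1 := by
    rw [Ideal.map_sup, hJ2, Ideal.map_span, Set.image_singleton,
      ← IsScalarTower.algebraMap_apply A C D, sup_eq_left, Ideal.span_le, Set.singleton_subset_iff]
    exact ham
  -- apply the Fitting ideal lemma
  have hd : ∀ p : PrimeSpectrum A, Module.rankAtStalk (R := A) C p = Module.finrank A C := by
    intro p
    rw [Module.rankAtStalk_eq_finrank_of_free]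
    rfl
  obtain ⟨J'D, hJ'D, hfg⟩ := Groth.Agent.S1291.result (A := A) (C := C) (Module.finrank A C) hd h J3
  obtain ⟨hIfg, hJ'Dfg⟩ := hfg hJ3fg
  refine ⟨FlatCA.fittingZero A (C ⧸ J3), f, J'D.map e.symm.toRingEquiv.toRingHom, hIfg, ?_, hfq,
    hJ'Dfg.map _, ?_⟩
  · -- `a` lies in the radical of the Fitting ideal
    have hfinQ : Module.Finite A (C ⧸ J3) :=
      Module.Finite.of_surjective (Ideal.Quotient.mkₐ A J3).toLinearMap
        (Ideal.Quotient.mkₐ_surjective A J3)
    obtain ⟨n, x, hx⟩ := Module.Finite.exists_fin (R := A) (M := C ⧸ J3)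
    have hkill : ∀ y : C ⧸ J3, (a ^ m) • y = 0 := by
      intro y
      obtain ⟨c, rfl⟩ := Ideal.Quotient.mk_surjective y
      rw [← Ideal.Quotient.mkₐ_eq_mk A, ← map_smul, Ideal.Quotient.mkₐ_eq_mk,
        Ideal.Quotient.eq_zero_iff_mem, Algebra.smul_def]
      exact Ideal.mul_mem_right _ _ (Ideal.mem_sup_right (Ideal.subset_span rfl))
    have := Groth.Agent.R2.H6.Fitt.pow_mem_fittingZero x hx (a ^ m) hkill
    rw [← pow_mul] at this
    exact ⟨m * n, this⟩
  · -- transport the equation back along `e`
    have hcomp : e.symm.toRingEquiv.toRingHom.comp (algebraMap A D) =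
        algebraMap A (Localization.Away f) := by
      ext r
      exact e.symm.commutes r
    have hinv : e.symm.toRingEquiv.toRingHom.comp e.toRingEquiv.toRingHom =
        RingHom.id (Localization.Away f) := by
      ext r
      exact e.symm_apply_apply r
    have key := congrArg (Ideal.map e.symm.toRingEquiv.toRingHom) hJ'D
    rw [Ideal.map_map, hcomp, Ideal.map_mul, hJ3] at key
    rw [key]
    congr 1
    change Ideal.map _ (Ideal.map _ (J.map (algebraMap B (Localization.Away f)))) = _
    rw [Ideal.map_map, hinv, Ideal.map_id]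

end Groth.Agent.S1271
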