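import Groth.Statements.S12725
import Groth.Agent.Lib.Helper19FibreProd
import Groth.Agent.Lib.Helper19Functor

set_option autoImplicit false
universe u v
open CategoryTheory
open ArtFun

namespace Groth.Agent.S12725

namespace Aux

set_option linter.style.haveILetI false

open Groth.Agent.Lib.Helper19 ArtFun ArtFun.Art

section Objects

variable (Λ : Type u) (k : Type u) [CommRing Λ] [Field k] [Algebra Λ k]

/-- `k[ε₁, …, ε_d]` with all products of the `εᵢ` zero. -/
def T (d : ℕ) : Art Λ k :=
  { carrier := TrivSqZeroExt k (Fin d → k)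
    isLocalRing := isLocalRing_tsze k (Fin d → k)
    isArtinianRing := isArtinianRing_tsze k (Fin d → k)
    res := TrivSqZeroExt.fstHom Λ k (Fin d → k)
    res_surjective := fun a => ⟨TrivSqZeroExt.inl a, rfl⟩ }

variable {Λ k}

def tInit (d : ℕ) : T Λ k (d + 1) ⟶ T Λ k d :=
  ⟨tszeMap (LinearMap.funLeft k k Fin.castSucc), AlgHom.ext fun _ => rfl⟩

def tLast (d : ℕ) : T Λ k (d + 1) ⟶ dual Λ k :=
  ⟨tszeMap (LinearMap.proj (Fin.last d)), AlgHom.ext fun _ => rfl⟩

theorem isFibreProd_T (d : ℕ) :
    IsFibreProd (tInit d : T Λ k (d + 1) ⟶ _) (tLast d) (toBase (T Λ k d)) (toBase (dual Λ k)) where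
  w := by rw [eq_toBase (tInit d ≫ toBase _), eq_toBase (tLast d ≫ toBase _)]
  inj b₁ b₂ h₁ h₂ := by
    have e₁ : b₁.fst = b₂.fst := by have e := congrArg TrivSqZeroExt.fst h₁; exact e
    have e₂ : ∀ j : Fin d, b₁.snd j.castSucc = b₂.snd j.castSucc := fun j => by
      have e := congrArg (fun t => (TrivSqZeroExt.snd t) j) h₁; exact e
    have e₃ : b₁.snd (Fin.last d) = b₂.snd (Fin.last d) := by
      have e := congrArg TrivSqZeroExt.snd h₂; exact e
    refine TrivSqZeroExt.ext e₁ (funext fun i => ?_)
    refine Fin.lastCases e₃ (fun j => e₂ j) i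
  surj a' a'' h := by
    have h' : a'.fst = a''.fst := h
    refine ⟨(a'.fst, (Fin.snoc a'.snd a''.snd : Fin (d + 1) → k)), TrivSqZeroExt.ext rfl ?_,
      TrivSqZeroExt.ext h' ?_⟩
    · funext j
      change (Fin.snoc a'.snd a''.snd : Fin (d + 1) → k) j.castSucc = a'.snd j
      exact Fin.snoc_castSucc (α := fun _ => k) _ _ _
    · change (Fin.snoc a'.snd a''.snd : Fin (d + 1) → k) (Fin.last d) = a''.snd
      exact Fin.snoc_last (α := fun _ => k) _ _

theorem toBase_T_zero_bijective : Function.Bijective (toBase (T Λ k 0)) := by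
  constructor
  · intro x y h
    have h' : x.fst = y.fst := h
    exact TrivSqZeroExt.ext h' (Subsingleton.elim _ _)
  · intro a
    exact ⟨TrivSqZeroExt.inl a, rfl⟩

end Objects

section Structure

variable {Λ : Type u} {k : Type u} [CommRing Λ] [Field k] [Algebra Λ k] [Module.Finite Λ k]

theorem exists_T_iso (E : Art Λ k) (σ : base Λ k ⟶ E) (hE : IsLocalRing.maximalIdeal E ^ 2 = ⊥) :
    ∃ (d : ℕ) (ι : T Λ k d ⟶ E), Function.Bijective ι := by
  let s : k →ₐ[Λ] E := σ.toAlgHom
  have hs : ∀ a : k, E.res (s a) = a := fun a => Art.res_app σ a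
  letI : Algebra k E := s.toRingHom.toAlgebra
  have halg : ∀ a : k, algebraMap k E a = s a := fun a => rfl
  haveI : IsScalarTower Λ k E := IsScalarTower.of_algebraMap_eq (fun r => (s.commutes r).symm)
  haveI : Module.Finite Λ E := finite_art E
  haveI : Module.Finite k E := Module.Finite.of_restrictScalars_finite Λ k E
  let M : Submodule k E := (IsLocalRing.maximalIdeal E).restrictScalars k
  have hM : ∀ x : E, x ∈ M ↔ x ∈ IsLocalRing.maximalIdeal E := fun x => Iff.rfl
  haveI : Module.Finite k M := inferInstance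
  let b : Module.Basis (Fin (Module.finrank k M)) k M := Module.finBasis k M
  let g₀ : (Fin (Module.finrank k M) → k) →ₗ[k] E :=
    M.subtype ∘ₗ (b.equivFun.symm : (Fin (Module.finrank k M) → k) →ₗ[k] M)
  have hg₀m : ∀ x, g₀ x ∈ IsLocalRing.maximalIdeal E := fun x => (b.equivFun.symm x).2
  have hmul : ∀ x y : E, x ∈ IsLocalRing.maximalIdeal E → y ∈ IsLocalRing.maximalIdeal E →
      x * y = 0 := by
    intro x y hx hy
    have : x * y ∈ IsLocalRing.maximalIdeal E ^ 2 := by
      rw [pow_two]; exact Ideal.mul_mem_mul hx hy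
    rw [hE] at this
    exact this
  let g : (Fin (Module.finrank k M) → k) →ₗ[Λ] E := g₀.restrictScalars Λ
  have hg : ∀ x y, g x * g y = 0 := fun x y => hmul _ _ (hg₀m x) (hg₀m y)
  have hfg : ∀ (r : k) (x : Fin (Module.finrank k M) → k), g (r • x) = s r * g x := by
    intro r x
    change g₀ (r • x) = s r * g₀ x
    rw [map_smul, Algebra.smul_def, halg]
  have hgf : ∀ (r : k) (x : Fin (Module.finrank k M) → k),
      g (MulOpposite.op r • x) = g x * s r := by
    intro r x
    rw [op_smul_eq_smul, hfg, mul_comm]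
  let φ : TrivSqZeroExt k (Fin (Module.finrank k M) → k) →ₐ[Λ] E :=
    TrivSqZeroExt.lift s g hg hfg hgf
  have hφ : ∀ x, φ x = s x.fst + g₀ x.snd := fun x => rfl
  have hres : ∀ x, E.res (φ x) = x.fst := by
    intro x
    rw [hφ, map_add, hs, (Art.mem_maximalIdeal_iff E _).1 (hg₀m x.snd), add_zero]
  refine ⟨Module.finrank k M, ⟨φ, AlgHom.ext fun x => hres x⟩, ?_, ?_⟩
  · intro x y hxy
    have hxy' : φ x = φ y := hxy
    have h1 : x.fst = y.fst := by rw [← hres x, ← hres y, hxy']
    have h2 : g₀ x.snd = g₀ y.snd := by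
      have h3 : s x.fst + g₀ x.snd = s y.fst + g₀ y.snd := (hφ x).symm.trans (hxy'.trans (hφ y))
      rw [h1] at h3
      exact add_left_cancel h3
    have h3 : b.equivFun.symm x.snd = b.equivFun.symm y.snd := Subtype.ext h2
    exact TrivSqZeroExt.ext h1 (b.equivFun.symm.injective h3)
  · intro e
    have hy : e - s (E.res e) ∈ M := by
      rw [hM, Art.mem_maximalIdeal_iff, map_sub, hs, sub_self]
    refine ⟨(E.res e, b.equivFun ⟨e - s (E.res e), hy⟩), ?_⟩
    refine (hφ _).trans ?_
    change s (E.res e) + ((b.equivFun.symm (b.equivFun ⟨e - s (E.res e), hy⟩) : M) : E) = e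
    rw [LinearEquiv.symm_apply_apply]
    change s (E.res e) + (e - s (E.res e)) = e
    ring

end Structure

section Induction

variable {Λ : Type u} {k : Type u} [CommRing Λ] [Field k] [Algebra Λ k] [Module.Finite Λ k]
  {F : Art Λ k ⥤ Type v}

omit [Module.Finite Λ k] in
lemma toBase_comp' {A B : Art Λ k} (f : A ⟶ B) : f ≫ toBase B = toBase A := eq_toBase _

omit [Module.Finite Λ k] in
lemma toBase_surj (A : Art Λ k) : Function.Surjective (toBase A) := A.res_surjective

omit [Module.Finite Λ k] in
/-- The statement holds when the augmentation of `E` is bijective. -/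
theorem bijective_cmp_of_toBase_bijective {E : Art Λ k} (hE : Function.Bijective (toBase E))
    ⦃B A : Art Λ k⦄ (p' : B ⟶ A) (p'' : B ⟶ E)
    (h : IsFibreProd p' p'' (toBase A) (toBase E)) : Function.Bijective (cmp F h) := by
  haveI : IsIso p' := isIso_of_bijective p' (fibreProd_fst_bijective_of_bijective h hE)
  haveI : IsIso (toBase E) := isIso_of_bijective _ hE
  constructor
  · rw [cmp_injective_iff]
    intro z z' e1 _
    have := congrArg (F.map (inv p')) e1
    rwa [map_inv_map, map_inv_map] at this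
  · rw [cmp_surjective_iff]
    intro x y e
    refine ⟨F.map (inv p') x, map_map_inv F p' x, ?_⟩
    have h1 : F.map (toBase E) (F.map p'' (F.map (inv p') x)) = F.map (toBase E) y := by
      rw [← map_comp_apply', toBase_comp', ← toBase_comp' p', map_comp_apply', map_map_inv, e]
    have := congrArg (F.map (inv (toBase E))) h1
    rwa [map_inv_map, map_inv_map] at this

/-- The statement for the standard objects `k[ε₁, …, ε_d]`. -/
theorem bijective_cmp_T (hF : Heps F) : ∀ (d : ℕ) ⦃B A : Art Λ k⦄ (p' : B ⟶ A) (p'' : B ⟶ T Λ k d)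
    (h : IsFibreProd p' p'' (toBase A) (toBase (T Λ k d))), Function.Bijective (cmp F h) := by
  intro d
  induction d with
  | zero =>
    intro B A p' p'' h
    exact bijective_cmp_of_toBase_bijective toBase_T_zero_bijective p' p'' h
  | succ d ih =>
    intro B A p' p'' h
    -- the fibre product `B' = A ×_k T_d`
    let B' := pullbackObj (toBase A) (toBase (T Λ k d)) (toBase_surj _)
    let q' : B' ⟶ A := pullbackObjFst (toBase A) (toBase (T Λ k d)) (toBase_surj _)
    let q'' : B' ⟶ T Λ k d := pullbackObjSnd (toBase A) (toBase (T Λ k d)) (toBase_surj _)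
    have hB' : IsFibreProd q' q'' (toBase A) (toBase (T Λ k d)) :=
      isFibreProd_pullbackObj (toBase A) (toBase (T Λ k d)) (toBase_surj _)
    have hw : p' ≫ toBase A = (p'' ≫ tInit d) ≫ toBase (T Λ k d) := by
      rw [toBase_comp', toBase_comp']
    let l : B ⟶ B' := fibreProdLift hB' p' (p'' ≫ tInit d) hw
    have hl1 : l ≫ q' = p' := fibreProdLift_fst hB' p' (p'' ≫ tInit d) hw
    have hl2 : l ≫ q'' = p'' ≫ tInit d := fibreProdLift_snd hB' p' (p'' ≫ tInit d) hw
    have hT := isFibreProd_T (Λ := Λ) (k := k) d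
    -- `B = B' ×_k k[ε]`
    have hl : IsFibreProd l (p'' ≫ tLast d) (toBase B') (toBase (dual Λ k)) := by
      refine ⟨by rw [toBase_comp', toBase_comp'], ?_, ?_⟩
      · intro b₁ b₂ e₁ e₂
        have e₂' : tLast d (p'' b₁) = tLast d (p'' b₂) := e₂
        have e3 : p' b₁ = p' b₂ := by
          rw [← hl1]
          change q' (l b₁) = q' (l b₂)
          rw [e₁]
        have e4 : tInit d (p'' b₁) = tInit d (p'' b₂) := by
          have : (p'' ≫ tInit d) b₁ = (p'' ≫ tInit d) b₂ := by
            rw [← hl2]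
            change q'' (l b₁) = q'' (l b₂)
            rw [e₁]
          exact this
        exact h.inj _ _ e3 (hT.inj _ _ e4 e₂')
      · intro b' c e
        have e0 : toBase (T Λ k d) (q'' b') = toBase B' b' := by
          rw [← Art.comp_apply, toBase_comp']
        have e' : toBase (T Λ k d) (q'' b') = toBase (dual Λ k) c := e0.trans e
        obtain ⟨t, ht1, ht2⟩ := hT.surj (q'' b') c e'
        have e'' : toBase A (q' b') = toBase (T Λ k (d + 1)) t := by
          have a1 : toBase A (q' b') = toBase B' b' := by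
            rw [← Art.comp_apply, toBase_comp']
          have a2 : toBase (T Λ k (d + 1)) t = toBase (T Λ k d) (tInit d t) := by
            rw [← Art.comp_apply, toBase_comp']
          rw [a1, a2, ht1, e0]
        obtain ⟨b, hb1, hb2⟩ := h.surj (q' b') t e''
        refine ⟨b, hB'.inj _ _ ?_ ?_, ?_⟩
        · have : (l ≫ q') b = q' b' := by rw [hl1]; exact hb1
          exact this
        · have : (l ≫ q'') b = q'' b' := by
            rw [hl2]
            change tInit d (p'' b) = q'' b'
            rw [hb2, ht1]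
          exact this
        · change tLast d (p'' b) = c
          rw [hb2, ht2]
    have hb := hF l (p'' ≫ tLast d) hl
    have hih := ih q' q'' hB'
    have hTb := hF (tInit d) (tLast d) hT
    constructor
    · rw [cmp_injective_iff]
      intro z z' e1 e2
      have hw1 : F.map l z = F.map l z' := by
        apply (cmp_injective_iff F hB').1 hih.1
        · rw [← map_comp_apply', ← map_comp_apply', hl1, e1]
        · rw [← map_comp_apply', ← map_comp_apply', hl2, map_comp_apply', map_comp_apply', e2]
      apply (cmp_injective_iff F hl).1 hb.1 _ _ hw1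
      rw [map_comp_apply', map_comp_apply', e2]
    · rw [cmp_surjective_iff]
      intro x y e
      have e1 : F.map (toBase A) x = F.map (toBase (T Λ k d)) (F.map (tInit d) y) := by
        rw [← map_comp_apply', toBase_comp', e]
      obtain ⟨w, hw1, hw2⟩ := (cmp_surjective_iff F hB').1 hih.2 x (F.map (tInit d) y) e1
      have e2 : F.map (toBase B') w = F.map (toBase (dual Λ k)) (F.map (tLast d) y) := by
        rw [← map_comp_apply', toBase_comp', ← toBase_comp' q', map_comp_apply', hw1, e]
      obtain ⟨z, hz1, hz2⟩ := (cmp_surjective_iff F hl).1 hb.2 w (F.map (tLast d) y) e2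
      refine ⟨z, ?_, ?_⟩
      · rw [← hl1, map_comp_apply', hz1, hw1]
      · apply (cmp_injective_iff F hT).1 hTb.1
        · rw [← map_comp_apply', ← hl2, map_comp_apply', hz1, hw2]
        · rw [← map_comp_apply', hz2]

/-- Transfer along an isomorphism with a standard object. -/
theorem bijective_cmp_of_iso (hF : Heps F) {E : Art Λ k} {d : ℕ} (ι : T Λ k d ⟶ E)
    (hι : Function.Bijective ι) ⦃B A : Art Λ k⦄ (p' : B ⟶ A) (p'' : B ⟶ E)
    (h : IsFibreProd p' p'' (toBase A) (toBase E)) : Function.Bijective (cmp F h) := by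
  haveI : IsIso ι := isIso_of_bijective ι hι
  have hinv : Function.Bijective (inv ι) := bijective_of_isIso (inv ι)
  have h' : IsFibreProd p' (p'' ≫ inv ι) (toBase A) (toBase (T Λ k d)) := by
    refine ⟨by rw [toBase_comp', toBase_comp'], ?_, ?_⟩
    · intro b₁ b₂ e₁ e₂
      exact h.inj _ _ e₁ (hinv.1 e₂)
    · intro a t e
      have e' : toBase A a = toBase E (ι t) := by
        rw [e, ← Art.comp_apply, toBase_comp']
      obtain ⟨b, hb1, hb2⟩ := h.surj a (ι t) e'
      refine ⟨b, hb1, ?_⟩
      change inv ι (p'' b) = t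
      rw [hb2, ← Art.comp_apply, IsIso.hom_inv_id]
      rfl
  have hb := bijective_cmp_T hF d p' (p'' ≫ inv ι) h'
  constructor
  · rw [cmp_injective_iff]
    intro z z' e1 e2
    apply (cmp_injective_iff F h').1 hb.1 _ _ e1
    rw [map_comp_apply', map_comp_apply', e2]
  · rw [cmp_surjective_iff]
    intro x y e
    have e1 : F.map (toBase A) x = F.map (toBase (T Λ k d)) (F.map (inv ι) y) := by
      rw [← map_comp_apply', toBase_comp', e]
    obtain ⟨z, hz1, hz2⟩ := (cmp_surjective_iff F h').1 hb.2 x _ e1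
    refine ⟨z, hz1, ?_⟩
    rw [map_comp_apply'] at hz2
    have := congrArg (F.map ι) hz2
    rwa [map_map_inv, map_map_inv] at this

end Induction

end Aux

/-- For functors, if F satisfies (S2) (bijectivity of F(A ×_k k[ε]) → F(A) ×_{F(k)} F(k[ε])), then for
every object E which is a square-zero extension k ⊕ V of k by a finite-dimensional vector space —
equivalently, m_E² = 0 and the augmentation E → k has a section in the category — and every fibre
product square B = A ×_k E, the map F(B) → F(A) ×_{F(k)} F(E) is bijective. -/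
theorem result {Λ : Type u} {k : Type u} [CommRing Λ] [Field k] [Algebra Λ k]
    [IsNoetherianRing Λ] [Module.Finite Λ k]
    {F : ArtFun.Art Λ k ⥤ Type v} (hF : ArtFun.Heps F)
    {E : ArtFun.Art Λ k} (hσ : Nonempty (ArtFun.Art.base Λ k ⟶ E))
    (hE : IsLocalRing.maximalIdeal E ^ 2 = ⊥)
    ⦃B A : ArtFun.Art Λ k⦄ (p' : B ⟶ A) (p'' : B ⟶ E)
    (h : ArtFun.Art.IsFibreProd p' p'' (ArtFun.Art.toBase A) (ArtFun.Art.toBase E)) :
    Function.Bijective (ArtFun.cmp F h) := by
  obtain ⟨σ⟩ := hσ
  obtain ⟨d, ι, hι⟩ := Aux.exists_T_iso E σ hE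
  exact Aux.bijective_cmp_of_iso hF ι hι p' p'' h

end Groth.Agent.S12725
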