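import Groth.Statements.S1277
import Groth.Agent.R2.H6FlatAbove
-- import your own Groth.Agent.* helpers here

set_option autoImplicit false
universe u
open FlatMor

namespace Groth.Agent.S1277

open IsLocalRing in
/-- Let A be a local ring, A → B a local homomorphism of local rings, B → C a flat local homomorphism of
local rings, M a B-module and N = M ⊗_B C. For every local homomorphism of local rings A → A', with
base changes B' = B ⊗_A A', M', C' = C ⊗_A A', N' (any models): M' is flat over A' at every prime of
B' containing 𝔪_{A'}B' + 𝔪_B B' if and only if N' is flat over A' at every prime of C' containing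
𝔪_{A'}C' + 𝔪_C C'. -/
theorem result {A B C : Type u} [CommRing A] [IsLocalRing A] [CommRing B] [IsLocalRing B] [CommRing C] [IsLocalRing C]
    [Algebra A B] [IsLocalHom (algebraMap A B)] [Algebra B C] [IsLocalHom (algebraMap B C)] [Algebra A C] [IsScalarTower A B C] [Module.Flat B C]
    (M : Type u) [AddCommGroup M] [Module B M] (N : Type u) [AddCommGroup N] [Module C N] [Module B N] [IsScalarTower B C N]
    (g : M →ₗ[B] N) (hg : IsBaseChange C g)
    (A' : Type u) [CommRing A'] [IsLocalRing A'] [Algebra A A'] [IsLocalHom (algebraMap A A')]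
    (B' M' : Type u) [CommRing B'] [Algebra B B'] [Algebra A' B'] [Algebra A B'] [IsScalarTower A B B'] [IsScalarTower A A' B']
        [Algebra.IsPushout A B A' B']
        [AddCommGroup M'] [Module B' M'] [Module B M'] [IsScalarTower B B' M'] [Module A' M'] [IsScalarTower A' B' M']
        (fB : M →ₗ[B] M') (hfB : IsBaseChange B' fB)
    (C' N' : Type u) [CommRing C'] [Algebra C C'] [Algebra A' C'] [Algebra A C'] [IsScalarTower A C C'] [IsScalarTower A A' C']
        [Algebra.IsPushout A C A' C']
        [AddCommGroup N'] [Module C' N'] [Module C N'] [IsScalarTower C C' N'] [Module A' N'] [IsScalarTower A' C' N']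
        (fC : N →ₗ[C] N') (hfC : IsBaseChange C' fC) :
    FlatCA.FlatAboveClosedPoints B A' B' M' ↔ FlatCA.FlatAboveClosedPoints C A' C' N' := by
  classical
  -- the `A`-algebra map `B' → C'`
  let φ : B' →ₐ[A] C' := Algebra.pushoutDesc B'
    ((IsScalarTower.toAlgHom A C C').comp (IsScalarTower.toAlgHom A B C))
    (IsScalarTower.toAlgHom A A' C') (fun _ _ => mul_comm _ _)
  let _iB'C' : Algebra B' C' := φ.toRingHom.toAlgebra
  let _iBC' : Algebra B C' := ((algebraMap C C').comp (algebraMap B C)).toAlgebra
  have t1 : IsScalarTower B C C' := IsScalarTower.of_algebraMap_eq (fun _ => rfl)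
  have t2 : IsScalarTower B B' C' := IsScalarTower.of_algebraMap_eq (fun b => by
    change _ = φ (algebraMap B B' b)
    rw [Algebra.pushoutDesc_left]
    rfl)
  have t3 : IsScalarTower A' B' C' := IsScalarTower.of_algebraMap_eq (fun a => by
    change _ = φ (algebraMap A' B' a)
    rw [Algebra.pushoutDesc_right]
    rfl)
  have t4 : IsScalarTower A B' C' := IsScalarTower.of_algebraMap_eq (fun a => (φ.commutes a).symm)
  have hpo : Algebra.IsPushout B C B' C' := (Algebra.IsPushout.comp_iff A B A' B' (T := C) (T' := C')).mp inferInstance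
  have hflat : Module.Flat B' C' := Module.Flat.isBaseChange B B' C C' hpo.symm.out
  -- module structures on `N'`
  let _mB'N' : Module B' N' := Module.compHom N' (algebraMap B' C')
  let _mBN' : Module B N' := Module.compHom N' (algebraMap B C)
  have s1 : IsScalarTower B' C' N' := ⟨fun b c n => by
    change (b • c) • n = algebraMap B' C' b • (c • n)
    rw [Algebra.smul_def, mul_smul]⟩
  have s2 : IsScalarTower A' B' N' := ⟨fun a b n => by
    change algebraMap B' C' (a • b) • n = a • (algebraMap B' C' b • n)
    rw [Algebra.smul_def, map_mul, mul_smul, ← IsScalarTower.algebraMap_apply, algebraMap_smul]⟩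
  have s3 : IsScalarTower B C N' := ⟨fun b c n => by
    change (b • c) • n = algebraMap B C b • (c • n)
    rw [Algebra.smul_def, mul_smul]⟩
  have s4 : IsScalarTower B C' N' := ⟨fun b c n => by
    change (b • c) • n = algebraMap B C b • (c • n)
    rw [Algebra.smul_def, mul_smul, ← algebraMap_smul C' (algebraMap B C b) (c • n)]
    rfl⟩
  have s5 : IsScalarTower B B' N' := ⟨fun b b' n => by
    change algebraMap B' C' (b • b') • n = algebraMap B C b • (algebraMap B' C' b' • n)
    rw [Algebra.smul_def, map_mul, mul_smul, ← IsScalarTower.algebraMap_apply,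
      ← algebraMap_smul C' (algebraMap B C b) (algebraMap B' C' b' • n)]
    rfl⟩
  -- the comparison map
  let g' : M →ₗ[B] N' := (fC.restrictScalars B) ∘ₗ g
  let h : M' →ₗ[B'] N' := hfB.lift g'
  have hh : IsBaseChange C' h := by
    apply IsBaseChange.of_comp hfB
    have : (h : M' →ₗ[B] N') ∘ₗ fB = g' := hfB.lift_comp g'
    rw [this]
    exact IsBaseChange.comp hg hfC
  -- the two ideals
  have hmBC : (maximalIdeal B).map (algebraMap B C) ≤ maximalIdeal C := by
    rw [Ideal.map_le_iff_le_comap, IsLocalRing.maximalIdeal_comap]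
  have hle : ((maximalIdeal A').map (algebraMap A' B') ⊔
      (maximalIdeal B).map (algebraMap B B')).map (algebraMap B' C') ≤
      (maximalIdeal A').map (algebraMap A' C') ⊔ (maximalIdeal C).map (algebraMap C C') := by
    rw [Ideal.map_sup, Ideal.map_map, Ideal.map_map, ← IsScalarTower.algebraMap_eq,
      ← IsScalarTower.algebraMap_eq, IsScalarTower.algebraMap_eq B C C', ← Ideal.map_map]
    exact sup_le_sup le_rfl (Ideal.map_mono hmBC)
  have hlift : ∀ q : Ideal B', q.IsPrime → (maximalIdeal A').map (algebraMap A' B') ⊔
      (maximalIdeal B).map (algebraMap B B') ≤ q →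
      ∃ r : Ideal C', r.IsPrime ∧ (maximalIdeal A').map (algebraMap A' C') ⊔
        (maximalIdeal C).map (algebraMap C C') ≤ r ∧ r.comap (algebraMap B' C') = q := by
    intro q hq hIq
    obtain ⟨r, hr, hCr, hrq⟩ := Groth.Agent.R2.H6.FlatAbove.exists_prime_over_of_isPushout
      (B := B) (C := C) (B' := B') (C' := C') q (le_sup_right.trans hIq)
    refine ⟨r, hr, sup_le ?_ hCr, hrq⟩
    rw [IsScalarTower.algebraMap_eq A' B' C', ← Ideal.map_map, Ideal.map_le_iff_le_comap, hrq]
    exact le_sup_left.trans hIq
  exact Groth.Agent.R2.H6.FlatAbove.flatAt_forall_iff (A' := A') h hh _ _ hle hlift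

end Groth.Agent.S1277
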