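import Groth.Statements.S1278
import Groth.Agent.R2.H6FlatAbove
-- import your own Groth.Agent.* helpers here

set_option autoImplicit false
universe u
open FlatMor

namespace Groth.Agent.S1278

open IsLocalRing in
/-- Let A be a local ring and B → C a finite local homomorphism of local A-algebras (A → B local), and N
a C-module, viewed also as a B-module. For every local homomorphism of local rings A → A', with base
changes B', C' of B, C and base changes M' (of N over B') and N' (of N over C'): M' is flat over A'
at every prime of B' containing 𝔪_{A'}B' + 𝔪_B B' if and only if N' is flat over A' at every prime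
of C' containing 𝔪_{A'}C' + 𝔪_C C'. -/
theorem result {A B C : Type u} [CommRing A] [IsLocalRing A] [CommRing B] [IsLocalRing B] [CommRing C] [IsLocalRing C]
    [Algebra A B] [IsLocalHom (algebraMap A B)] [Algebra B C] [IsLocalHom (algebraMap B C)] [Algebra A C] [IsScalarTower A B C] [Module.Finite B C]
    (N : Type u) [AddCommGroup N] [Module C N] [Module B N] [IsScalarTower B C N]
    (A' : Type u) [CommRing A'] [IsLocalRing A'] [Algebra A A'] [IsLocalHom (algebraMap A A')]
    (B' M' : Type u) [CommRing B'] [Algebra B B'] [Algebra A' B'] [Algebra A B'] [IsScalarTower A B B'] [IsScalarTower A A' B']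
        [Algebra.IsPushout A B A' B']
        [AddCommGroup M'] [Module B' M'] [Module B M'] [IsScalarTower B B' M'] [Module A' M'] [IsScalarTower A' B' M']
        (fB : N →ₗ[B] M') (hfB : IsBaseChange B' fB)
    (C' N' : Type u) [CommRing C'] [Algebra C C'] [Algebra A' C'] [Algebra A C'] [IsScalarTower A C C'] [IsScalarTower A A' C']
        [Algebra.IsPushout A C A' C']
        [AddCommGroup N'] [Module C' N'] [Module C N'] [IsScalarTower C C' N'] [Module A' N'] [IsScalarTower A' C' N']
        (fC : N →ₗ[C] N') (hfC : IsBaseChange C' fC) :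
    FlatCA.FlatAboveClosedPoints B A' B' M' ↔ FlatCA.FlatAboveClosedPoints C A' C' N' := by
  classical
  -- the `A`-algebra map `B' → C'`
  let φ : B' →ₐ[A] C' := Algebra.pushoutDesc B'
    ((IsScalarTower.toAlgHom A C C').comp (IsScalarTower.toAlgHom A B C))
    (IsScalarTower.toAlgHom A A' C') (fun _ _ => mul_comm _ _)
  let _iB'C' : Algebra B' C' := φ.toRingHom.toAlgebra
  let _iBC' : Algebra B C' := ((algebraMap C C').comp (algebraMap B C)).toAlgebra
  have t1 : IsScalarTower B C C' := IsScalarTower.of_algebraMap_eq (fun _ => rfl)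
  have t2 : IsScalarTower B B' C' := IsScalarTower.of_algebraMap_eq (fun b => by
    change _ = φ (algebraMap B B' b)
    rw [Algebra.pushoutDesc_left]
    rfl)
  have t3 : IsScalarTower A' B' C' := IsScalarTower.of_algebraMap_eq (fun a => by
    change _ = φ (algebraMap A' B' a)
    rw [Algebra.pushoutDesc_right]
    rfl)
  have t4 : IsScalarTower A B' C' := IsScalarTower.of_algebraMap_eq (fun a => (φ.commutes a).symm)
  have hpo : Algebra.IsPushout B C B' C' :=
    (Algebra.IsPushout.comp_iff A B A' B' (T := C) (T' := C')).mp inferInstance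
  have hpo' : Algebra.IsPushout B B' C C' := hpo.symm
  have hintBC : Algebra.IsIntegral B C := inferInstance
  have hint : Algebra.IsIntegral B' C' := Algebra.IsPushout.isIntegral B B' C C'
  -- module structures on `N'`
  let _mB'N' : Module B' N' := Module.compHom N' (algebraMap B' C')
  have s1 : IsScalarTower B' C' N' := ⟨fun b c n => by
    change (b • c) • n = algebraMap B' C' b • (c • n)
    rw [Algebra.smul_def, mul_smul]⟩
  have s2 : IsScalarTower A' B' N' := ⟨fun a b n => by
    change algebraMap B' C' (a • b) • n = a • (algebraMap B' C' b • n)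
    rw [Algebra.smul_def, map_mul, mul_smul, ← IsScalarTower.algebraMap_apply, algebraMap_smul]⟩
  -- the comparison isomorphism
  let e : M' ≃ₗ[B'] N' := hfB.equiv.symm ≪≫ₗ (Algebra.IsPushout.cancelBaseChange B B' C C' N).symm ≪≫ₗ
    (hfC.equiv.restrictScalars B')
  -- the two ideals
  have hmBC : (maximalIdeal B).map (algebraMap B C) ≤ maximalIdeal C := by
    rw [Ideal.map_le_iff_le_comap, IsLocalRing.maximalIdeal_comap]
  have hle : ((maximalIdeal A').map (algebraMap A' B') ⊔
      (maximalIdeal B).map (algebraMap B B')).map (algebraMap B' C') ≤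
      (maximalIdeal A').map (algebraMap A' C') ⊔ (maximalIdeal C).map (algebraMap C C') := by
    rw [Ideal.map_sup, Ideal.map_map, Ideal.map_map, ← IsScalarTower.algebraMap_eq,
      ← IsScalarTower.algebraMap_eq, IsScalarTower.algebraMap_eq B C C', ← Ideal.map_map]
    exact sup_le_sup le_rfl (Ideal.map_mono hmBC)
  have hover : ∀ r : Ideal C', r.IsPrime → (maximalIdeal A').map (algebraMap A' B') ⊔
      (maximalIdeal B).map (algebraMap B B') ≤ r.comap (algebraMap B' C') →
      (maximalIdeal A').map (algebraMap A' C') ⊔ (maximalIdeal C).map (algebraMap C C') ≤ r := by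
    intro r hr hIr
    refine sup_le ?_ (Groth.Agent.R2.H6.FlatAbove.map_maximalIdeal_le_of_isIntegral
      (B := B) (C := C) (B' := B') (C' := C') r (le_sup_right.trans hIr))
    rw [IsScalarTower.algebraMap_eq A' B' C', ← Ideal.map_map, Ideal.map_le_iff_le_comap]
    exact le_sup_left.trans hIr
  have key := Groth.Agent.R2.H6.FlatAbove.flatAt_forall_iff_of_isIntegral (A' := A') (N' := N')
    _ _ hle hover
  refine Iff.trans ?_ key
  constructor
  · intro H q hq hIq
    exact (Groth.Agent.R2.H6.FlatAbove.flatAt_iff_of_linearEquiv q e).mp (H q hIq)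
  · intro H q hq hIq
    exact (Groth.Agent.R2.H6.FlatAbove.flatAt_iff_of_linearEquiv q e).mpr (H q hIq)

end Groth.Agent.S1278
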