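import Groth.Statements.S12783
import Groth.Agent.Lib.Helper17FpMap
import Groth.Agent.Lib.Helper17OvMap
import Groth.Agent.Lib.Helper17FibFp
import Groth.Agent.Lib.Helper17FibOver
-- import your own Groth.Agent.* helpers here

set_option autoImplicit false
open CategoryTheory CategoryTheory.Limits
universe v u
open FibCat

namespace Groth.Agent.S12783.Aux

set_option backward.isDefEq.respectTransparency false
set_option backward.isDefEq.respectTransparency.types false

open Groth.Agent.Lib.Helper17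

variable {C : Type u} [Category.{v} C]

/-- The structure morphism of the value of a functor over the base into a slice. -/
def sec {U Y : C} (G : FibCat.overCat U ⥤ᵇ FibCat.overCat Y) (a : Over U) : a.left ⟶ Y :=
  eqToHom (G.w_obj a).symm ≫ (G.obj a).hom

theorem left_map {U Y : C} (G : FibCat.overCat U ⥤ᵇ FibCat.overCat Y) {a a' : Over U} (m : a ⟶ a') :
    (G.map m).left = eqToHom (G.w_obj a) ≫ m.left ≫ eqToHom (G.w_obj a').symm := by
  have : (FibCat.overCat Y).p.IsHomLift ((FibCat.overCat U).p.map m) (G.map m) :=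
    BasedFunctor.preserves_isHomLift G ((FibCat.overCat U).p.map m) m
  exact IsHomLift.fac' (FibCat.overCat Y).p ((FibCat.overCat U).p.map m) (G.map m)

theorem sec_map {U Y : C} (G : FibCat.overCat U ⥤ᵇ FibCat.overCat Y) {a a' : Over U} (m : a ⟶ a') :
    m.left ≫ sec G a' = sec G a := by
  have h1 : (G.map m).left ≫ (G.obj a').hom = (G.obj a).hom := Over.w (G.map m)
  simp only [sec, ← h1, left_map, Category.assoc, eqToHom_trans_assoc, eqToHom_refl, Category.id_comp]

/-- The morphism `U ⟶ Y` classified by a functor over the base between slices. -/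
def cls {U Y : C} (G : FibCat.overCat U ⥤ᵇ FibCat.overCat Y) : U ⟶ Y := sec G (Over.mk (𝟙 U))

theorem sec_eq {U Y : C} (G : FibCat.overCat U ⥤ᵇ FibCat.overCat Y) (a : Over U) :
    sec G a = a.hom ≫ cls G := by
  have := sec_map G (Over.homMk a.hom : a ⟶ Over.mk (𝟙 U))
  exact this.symm

theorem hom_eq {U Y : C} (G : FibCat.overCat U ⥤ᵇ FibCat.overCat Y) (a : Over U) :
    (G.obj a).hom = eqToHom (G.w_obj a) ≫ a.hom ≫ cls G := by
  rw [← sec_eq]
  simp [sec]

/-- The comparison isomorphism on objects. -/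
def clsIsoApp {U Y : C} (G : FibCat.overCat U ⥤ᵇ FibCat.overCat Y) (a : Over U) :
    G.obj a ≅ (ovMap (cls G)).obj a :=
  Over.isoMk (eqToIso (G.w_obj a)) (by
    change eqToHom (G.w_obj a) ≫ (a.hom ≫ cls G) = (G.obj a).hom
    rw [hom_eq])

/-- Every functor over the base between slices is isomorphic to composition with a morphism. -/
def clsIso {U Y : C} (G : FibCat.overCat U ⥤ᵇ FibCat.overCat Y) : G ≅ ovMap (cls G) :=
  BasedNatIso.mkNatIso
    (NatIso.ofComponents (fun a => clsIsoApp G a) (fun {a a'} m => by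
      apply Over.OverMorphism.ext
      change (G.map m).left ≫ eqToHom (G.w_obj a') = eqToHom (G.w_obj a) ≫ m.left
      rw [left_map]
      simp))
    (fun a => by
      apply IsHomLift.of_fac' (FibCat.overCat Y).p _ _ (G.w_obj a) rfl
      change eqToHom (G.w_obj a) = eqToHom (G.w_obj a) ≫ 𝟙 _ ≫ eqToHom rfl
      simp)

section Pb

variable [HasPullbacks C] {U X Y : C} (g : U ⟶ Y) (f : X ⟶ Y)

/-- The terminal object of the 2-fibre product of two slices over a slice. -/
noncomputable def termObj : (FibCat.fp (ovMap g) (ovMap f)).obj :=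
  ⟨{ fst := Over.mk (pullback.fst g f)
     snd := Over.mk (pullback.snd g f)
     iso := Over.isoMk (Iso.refl _) (by
       change 𝟙 _ ≫ (pullback.snd g f ≫ f) = pullback.fst g f ≫ g
       rw [Category.id_comp, pullback.condition]) }, by
    change (Over.forget Y).IsHomLift (𝟙 (pullback g f)) _
    apply IsHomLift.of_fac' (Over.forget Y) _ _ rfl rfl
    change 𝟙 _ = 𝟙 _ ≫ 𝟙 _ ≫ 𝟙 _
    simp⟩

theorem unique_to_termObj (ρ : (FibCat.fp (ovMap g) (ovMap f)).obj) :
    Nonempty (Unique (ρ ⟶ termObj g f)) := by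
  obtain ⟨a, ha⟩ : ∃ a : Over U, a = ρ.obj.fst := ⟨_, rfl⟩
  obtain ⟨b, hb⟩ : ∃ b : Over X, b = ρ.obj.snd := ⟨_, rfl⟩
  -- the comparison isomorphism on sources
  let c : ρ.obj.fst.left ⟶ ρ.obj.snd.left := ρ.obj.iso.hom.left
  let c' : ρ.obj.snd.left ⟶ ρ.obj.fst.left := ρ.obj.iso.inv.left
  have hcc' : c ≫ c' = 𝟙 _ := by
    change (ρ.obj.iso.hom ≫ ρ.obj.iso.inv).left = _
    rw [Iso.hom_inv_id]; rfl
  have hc'c : c' ≫ c = 𝟙 _ := by
    change (ρ.obj.iso.inv ≫ ρ.obj.iso.hom).left = _
    rw [Iso.inv_hom_id]; rfl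
  have hw : c ≫ (ρ.obj.snd.hom ≫ f) = ρ.obj.fst.hom ≫ g := Over.w ρ.obj.iso.hom
  let m : ρ.obj.fst.left ⟶ pullback g f :=
    pullback.lift ρ.obj.fst.hom (c ≫ ρ.obj.snd.hom) (by rw [Category.assoc, hw])
  let m₁ : ρ.obj.fst ⟶ Over.mk (pullback.fst g f) := Over.homMk m (pullback.lift_fst _ _ _)
  let m₂ : ρ.obj.snd ⟶ Over.mk (pullback.snd g f) := Over.homMk (c' ≫ m) (by
    change (c' ≫ m) ≫ pullback.snd g f = ρ.obj.snd.hom
    rw [Category.assoc, pullback.lift_snd, ← Category.assoc, hc'c, Category.id_comp])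
  have hsq : (ovMap g).map m₁ ≫ (termObj g f).obj.iso.hom =
      ρ.obj.iso.hom ≫ (ovMap f).map m₂ := by
    apply Over.OverMorphism.ext
    change m ≫ 𝟙 _ = c ≫ (c' ≫ m)
    rw [Category.comp_id, ← Category.assoc, hcc', Category.id_comp]
  refine ⟨{ default := ObjectProperty.homMk { fst := m₁, snd := m₂, w := hsq }, uniq := ?_ }⟩
  intro n
  apply ObjectProperty.hom_ext
  have hn : (ovMap g).map n.hom.fst ≫ (termObj g f).obj.iso.hom =
      ρ.obj.iso.hom ≫ (ovMap f).map n.hom.snd := n.hom.w
  have hn' : n.hom.fst.left ≫ 𝟙 _ = c ≫ n.hom.snd.left := congrArg (fun k => k.left) hn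
  rw [Category.comp_id] at hn'
  have w1 : n.hom.fst.left ≫ pullback.fst g f = ρ.obj.fst.hom := Over.w n.hom.fst
  have w2 : n.hom.snd.left ≫ pullback.snd g f = ρ.obj.snd.hom := Over.w n.hom.snd
  have e1 : n.hom.fst.left = m := by
    apply pullback.hom_ext
    · rw [w1, pullback.lift_fst]
    · rw [pullback.lift_snd, hn', Category.assoc, w2]
  have e2 : n.hom.snd.left = c' ≫ m := by
    rw [← e1, hn', ← Category.assoc, hc'c, Category.id_comp]
  apply Limits.CategoricalPullback.hom_ext
  · apply Over.OverMorphism.ext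
    exact e1
  · apply Over.OverMorphism.ext
    exact e2

theorem isRepresentable_fp_ovMap : FibCat.IsRepresentable (FibCat.fp (ovMap g) (ovMap f)) := by
  have hfp : FibCat.IsFibGrpd (FibCat.fp (ovMap g) (ovMap f)).p :=
    isFibGrpd_fp (ovMap g) (ovMap f) (isFibSet_overForget U).1 (isFibSet_overForget X).1
      (isFibSet_overForget Y).1
  obtain ⟨F, hF⟩ := isEquivOver_of_terminal hfp (termObj g f) (unique_to_termObj g f)
  exact ⟨_, F, hF⟩

end Pb

end Groth.Agent.S12783.Aux

namespace Groth.Agent.S12783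

/-- For a morphism `f : X ⟶ Y` in a category `C` with fibre products, the induced functor `C/X ⟶ C/Y`
over `C` is a representable 1-morphism. (The published statement is for schemes over a base; this
row holds in any category with fibre products.) -/
theorem result {C : Type u} [Category.{v} C] [HasPullbacks C] {X Y : C} (f : X ⟶ Y) :
    FibCat.IsRepresentable1 (⟨Over.map f, Over.mapForget_eq f⟩ : FibCat.overCat X ⥤ᵇ FibCat.overCat Y) := by
  open Groth.Agent.Lib.Helper17 Groth.Agent.S12783.Aux in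
  intro U G
  change FibCat.IsRepresentable (FibCat.fp G (ovMap f))
  have hrep := isRepresentable_fp_ovMap (cls G) f
  have h1 : (BasedFunctor.id (FibCat.overCat Y)).toFunctor.Full :=
    inferInstanceAs (𝟭 (FibCat.overCat Y).obj).Full
  have h2 : (BasedFunctor.id (FibCat.overCat Y)).toFunctor.Faithful :=
    inferInstanceAs (𝟭 (FibCat.overCat Y).obj).Faithful
  have hM := isEquivOver_fpMap (ovMap (cls G)) (ovMap f) G (ovMap f)
    (BasedFunctor.id _) (BasedFunctor.id _) (BasedFunctor.id _) (clsIso G) (Iso.refl _)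
    (isEquivOver_id _) (isEquivOver_id _)
  exact isRepresentable_of_isEquivOver _ hM hrep

end Groth.Agent.S12783
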