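import Groth.Statements.S12789
import Groth.Agent.S12780
import Groth.Agent.Lib.Helper17FpProd
import Groth.Agent.Lib.Helper17AlgStRep
import Groth.Agent.Lib.Helper17StkLoc3
import Groth.Agent.Lib.Helper17FibOver
import Groth.Agent.Lib.Helper17FibFp

set_option autoImplicit false
open CategoryTheory AlgebraicGeometry
universe u
open AlgSt

namespace Groth.Agent.S12789

namespace Aux

set_option backward.isDefEq.respectTransparency false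
set_option backward.isDefEq.respectTransparency.types false

open Groth.Agent.Lib.Helper17 CategoryTheory.Functor

variable {S : Scheme.{u}}

/-- A functor to a slice category which is representable by algebraic spaces with `P` has a
representing space for its source whose structure map has `P`. -/
theorem exists_of_repByAlgSpWith {ℬ : AlgSt.Cat S} {U : Over S} (P : MorphismProperty (AlgSp.Sp S))
    (q : ℬ ⥤ᵇ FibCat.overCat U) (hq : AlgSt.RepByAlgSpWith P q) :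
    ∃ (F : AlgSp.Space S) (e : AlgSt.ofSp F.obj ⥤ᵇ ℬ),
      FibCat.IsEquivOver e ∧ P (AlgSt.spMapOfOver (BasedFunctor.comp e q)) := by
  have h := hq U (BasedFunctor.id _)
  exact repWith_transfer (FibCat.fpFst (BasedFunctor.id _) q) q (FibCat.fpSnd (BasedFunctor.id _) q)
    (isEquivOver_fpSnd _ _ (isEquivOver_id _)) (FibCat.fpIso (BasedFunctor.id _) q).symm P h

theorem main {𝒳₁ 𝒳₂ 𝒴₁ 𝒴₂ : AlgSt.Cat S}
    (h𝒳₁ : FibCat.IsFibGrpd 𝒳₁.p) (h𝒳₂ : FibCat.IsFibGrpd 𝒳₂.p) (h𝒴₁ : FibCat.IsFibGrpd 𝒴₁.p)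
    (h𝒴₂ : FibCat.IsFibGrpd 𝒴₂.p)
    (P : MorphismProperty (AlgSp.Sp S))
    (hPb : ∀ ⦃X₁ Y₁ X₂ Y₂ : AlgSp.Sp S⦄, AlgSp.IsAlgSpace X₁ → AlgSp.IsAlgSpace Y₁ → AlgSp.IsAlgSpace X₂ →
      AlgSp.IsAlgSpace Y₂ → ∀ (a : X₁ ⟶ Y₁) (b : Y₂ ⟶ Y₁) (a' : X₂ ⟶ Y₂) (b' : X₂ ⟶ X₁),
      IsPullback b' a' a b → P a → P a')
    (hPc : ∀ ⦃X Y Z : AlgSp.Sp S⦄, AlgSp.IsAlgSpace X → AlgSp.IsAlgSpace Y → AlgSp.IsAlgSpace Z →
      ∀ (a : X ⟶ Y) (b : Y ⟶ Z), P a → P b → P (a ≫ b))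
    (hP : AlgSp.IsLocalOnBase AlgSp.IsFppfCover P)
    (f₁ : 𝒳₁ ⥤ᵇ 𝒴₁) (f₂ : 𝒳₂ ⥤ᵇ 𝒴₂) (hf₁ : AlgSt.RepByAlgSpWith P f₁) (hf₂ : AlgSt.RepByAlgSpWith P f₂)
    (e : BasedFunctor.comp (BasedFunctor.comp (FibCat.fpFst (FibCat.toSelf 𝒳₁) (FibCat.toSelf 𝒳₂)) f₁) (FibCat.toSelf 𝒴₁) ≅ BasedFunctor.comp (BasedFunctor.comp (FibCat.fpSnd (FibCat.toSelf 𝒳₁) (FibCat.toSelf 𝒳₂)) f₂) (FibCat.toSelf 𝒴₂)) :
    AlgSt.RepByAlgSpWith P (prodF f₁ f₂ e) := by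
  intro U t
  have hU : FibCat.IsFibGrpd (FibCat.overCat U).p := (isFibSet_overForget U).1
  have hA : FibCat.IsFibGrpd (FibCat.fp (prodT₁ t) f₁).p := isFibGrpd_fp _ _ hU h𝒳₁ h𝒴₁
  have hB : FibCat.IsFibGrpd
      (FibCat.fp (BasedFunctor.comp (FibCat.fpFst (prodT₁ t) f₁) (prodT₂ t)) f₂).p :=
    isFibGrpd_fp _ _ hA h𝒳₂ h𝒴₂
  have h1 : AlgSt.RepByAlgSpWith P (FibCat.fpFst (prodT₁ t) f₁) :=
    repByAlgSpWith_fpFst P f₁ _ hf₁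
  have h2 : AlgSt.RepByAlgSpWith P
      (FibCat.fpFst (BasedFunctor.comp (FibCat.fpFst (prodT₁ t) f₁) (prodT₂ t)) f₂) :=
    repByAlgSpWith_fpFst P f₂ _ hf₂
  have h3 : AlgSt.RepByAlgSpWith P (BasedFunctor.comp
      (FibCat.fpFst (BasedFunctor.comp (FibCat.fpFst (prodT₁ t) f₁) (prodT₂ t)) f₂)
      (FibCat.fpFst (prodT₁ t) f₁)) :=
    Groth.Agent.S12780.result hB hA hU P hPb hPc hP _ _ h2 h1
  have h4 := exists_of_repByAlgSpWith P _ h3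
  exact repWith_transfer' (FibCat.fpFst t (prodF f₁ f₂ e)) _ (prodCmp f₁ f₂ e t)
    (isEquivOver_prodCmp f₁ f₂ e t) (Iso.refl _) P h4

end Aux

/-- Let `P` be a property of morphisms of algebraic spaces which is stable under base change, fppf local
on the base and stable under composition, and `f₁ : 𝒳₁ ⟶ 𝒴₁`, `f₂ : 𝒳₂ ⟶ 𝒴₂` 1-morphisms of
categories fibred in groupoids over `(Sch/S)` which are representable by algebraic spaces and have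
`P`. Then `f₁ × f₂ : 𝒳₁ × 𝒳₂ ⟶ 𝒴₁ × 𝒴₂` (products over the base category; the functor induced on
2-fibre products, for any choice of the 2-isomorphism `e` filling the square) has `P`. (Stability
under base change is asked for every pullback square of fppf sheaves whose four corners are
algebraic spaces, and stability under composition for composable morphisms between algebraic
spaces.) -/
theorem result {S : Scheme.{u}} {𝒳₁ 𝒳₂ 𝒴₁ 𝒴₂ : AlgSt.Cat S}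
    (h𝒳₁ : FibCat.IsFibGrpd 𝒳₁.p) (h𝒳₂ : FibCat.IsFibGrpd 𝒳₂.p) (h𝒴₁ : FibCat.IsFibGrpd 𝒴₁.p) (h𝒴₂ : FibCat.IsFibGrpd 𝒴₂.p)
    (P : MorphismProperty (AlgSp.Sp S))
    (hPb : ∀ ⦃X₁ Y₁ X₂ Y₂ : AlgSp.Sp S⦄, AlgSp.IsAlgSpace X₁ → AlgSp.IsAlgSpace Y₁ → AlgSp.IsAlgSpace X₂ →
      AlgSp.IsAlgSpace Y₂ → ∀ (a : X₁ ⟶ Y₁) (b : Y₂ ⟶ Y₁) (a' : X₂ ⟶ Y₂) (b' : X₂ ⟶ X₁),
      IsPullback b' a' a b → P a → P a')
    (hPc : ∀ ⦃X Y Z : AlgSp.Sp S⦄, AlgSp.IsAlgSpace X → AlgSp.IsAlgSpace Y → AlgSp.IsAlgSpace Z →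
      ∀ (a : X ⟶ Y) (b : Y ⟶ Z), P a → P b → P (a ≫ b))
    (hP : AlgSp.IsLocalOnBase AlgSp.IsFppfCover P)
    (f₁ : 𝒳₁ ⥤ᵇ 𝒴₁) (f₂ : 𝒳₂ ⥤ᵇ 𝒴₂) (hf₁ : AlgSt.RepByAlgSpWith P f₁) (hf₂ : AlgSt.RepByAlgSpWith P f₂)
    (e : BasedFunctor.comp (BasedFunctor.comp (FibCat.fpFst (FibCat.toSelf 𝒳₁) (FibCat.toSelf 𝒳₂)) f₁) (FibCat.toSelf 𝒴₁) ≅ BasedFunctor.comp (BasedFunctor.comp (FibCat.fpSnd (FibCat.toSelf 𝒳₁) (FibCat.toSelf 𝒳₂)) f₂) (FibCat.toSelf 𝒴₂)) :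
    AlgSt.RepByAlgSpWith P (FibCat.fpLift (BasedFunctor.comp (FibCat.fpFst (FibCat.toSelf 𝒳₁) (FibCat.toSelf 𝒳₂)) f₁) (BasedFunctor.comp (FibCat.fpSnd (FibCat.toSelf 𝒳₁) (FibCat.toSelf 𝒳₂)) f₂) e) := by
  exact Aux.main h𝒳₁ h𝒳₂ h𝒴₁ h𝒴₂ P hPb hPc hP f₁ f₂ hf₁ hf₂ e

end Groth.Agent.S12789
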