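import Groth.Statements.S12831
import Groth.Agent.Lib.Helper17StkPts2
import Groth.Agent.Lib.Helper17StkPts3
import Groth.Agent.Lib.Helper17GerbExt
import Groth.Agent.Lib.Helper17FibFp

set_option autoImplicit false
universe u
open CategoryTheory AlgebraicGeometry
open AlgSt

namespace Groth.Agent.S12831

namespace Aux

set_option backward.isDefEq.respectTransparency false
set_option backward.isDefEq.respectTransparency.types false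

open Groth.Agent.Lib.Helper17 CategoryTheory.Functor

variable {S : Scheme.{u}} {𝒳 𝒴 𝒵 : AlgSt.Cat S}

/-- Pull an object of `𝒵 ×_𝒴 𝒳` back along a morphism into its first component. -/
theorem exists_pull_fst (h𝒳 : FibCat.IsFibGrpd 𝒳.p) (h𝒴 : FibCat.IsFibGrpd 𝒴.p)
    (f : 𝒳 ⥤ᵇ 𝒴) (g : 𝒵 ⥤ᵇ 𝒴) (P : (FibCat.fp g f).obj) {z : 𝒵.obj} (a : z ⟶ P.obj.fst) :
    ∃ (x : 𝒳.obj) (κ : x ⟶ P.obj.snd) (α : g.obj z ≅ f.obj x),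
      𝒴.p.IsHomLift (𝟙 (𝒵.p.obj z)) α.hom ∧ g.map a ≫ P.obj.iso.hom = α.hom ≫ f.map κ := by
  obtain ⟨φ, hφ⟩ : ∃ φ : 𝒵.p.obj z ⟶ 𝒵.p.obj P.obj.fst, φ = 𝒵.p.map a := ⟨_, rfl⟩
  have ha : 𝒵.p.IsHomLift φ a := by rw [hφ]; infer_instance
  obtain ⟨x, κ, hκ⟩ := h𝒳.exists_lift (x := P.obj.snd) (φ ≫ eqToHom (fp_snd_obj g f P).symm)
  have hκ' : 𝒳.p.IsHomLift φ κ :=
    (IsHomLift.lift_comp_eqToHom_iff (p := 𝒳.p) φ κ (fp_snd_obj g f P).symm).1 hκ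
  have hP : 𝒴.p.IsHomLift (𝟙 (𝒵.p.obj P.obj.fst)) P.obj.iso.hom := P.property
  have h1 : 𝒴.p.IsHomLift φ (g.map a ≫ P.obj.iso.hom) := by
    have h0 : 𝒴.p.IsHomLift φ (g.map a) := BasedFunctor.preserves_isHomLift g φ a
    have : 𝒴.p.IsHomLift (φ ≫ 𝟙 _) (g.map a ≫ P.obj.iso.hom) := inferInstance
    simpa using this
  have h2 : 𝒴.p.IsHomLift φ (f.map κ) := BasedFunctor.preserves_isHomLift f φ κ
  obtain ⟨α, hα, eα⟩ := IsFibGrpd.exists_iso_of_lifts (𝒴 := 𝒴) h𝒴 φ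
    (g.map a ≫ P.obj.iso.hom) (f.map κ)
  exact ⟨x, κ, α, hα, eα.symm⟩

/-- Pull an object of `𝒵 ×_𝒴 𝒳` back along a morphism into its second component. -/
theorem exists_pull_snd (h𝒵 : FibCat.IsFibGrpd 𝒵.p) (h𝒴 : FibCat.IsFibGrpd 𝒴.p)
    (f : 𝒳 ⥤ᵇ 𝒴) (g : 𝒵 ⥤ᵇ 𝒴) (P : (FibCat.fp g f).obj) {y : 𝒳.obj} (d : y ⟶ P.obj.snd) :
    ∃ (z : 𝒵.obj) (π : z ⟶ P.obj.fst) (δ : g.obj z ≅ f.obj y),
      𝒴.p.IsHomLift (𝟙 (𝒵.p.obj z)) δ.hom ∧ g.map π ≫ P.obj.iso.hom = δ.hom ≫ f.map d ∧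
      𝒵.p.obj z = 𝒳.p.obj y := by
  obtain ⟨φ, hφ⟩ : ∃ φ : 𝒳.p.obj y ⟶ 𝒳.p.obj P.obj.snd, φ = 𝒳.p.map d := ⟨_, rfl⟩
  have hd : 𝒳.p.IsHomLift φ d := by rw [hφ]; infer_instance
  obtain ⟨z, π, hπ⟩ := h𝒵.exists_lift (x := P.obj.fst) (φ ≫ eqToHom (fp_snd_obj g f P))
  have hz : 𝒵.p.obj z = 𝒳.p.obj y :=
    IsHomLift.domain_eq 𝒵.p (φ ≫ eqToHom (fp_snd_obj g f P)) π
  have hP : 𝒴.p.IsHomLift (𝟙 (𝒵.p.obj P.obj.fst)) P.obj.iso.hom := P.property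
  have h1 : 𝒴.p.IsHomLift (φ ≫ eqToHom (fp_snd_obj g f P)) (g.map π ≫ P.obj.iso.hom) := by
    have h0 : 𝒴.p.IsHomLift (φ ≫ eqToHom (fp_snd_obj g f P)) (g.map π) :=
      BasedFunctor.preserves_isHomLift g _ π
    have : 𝒴.p.IsHomLift ((φ ≫ eqToHom (fp_snd_obj g f P)) ≫ 𝟙 _)
        (g.map π ≫ P.obj.iso.hom) := inferInstance
    simpa using this
  have h2 : 𝒴.p.IsHomLift (φ ≫ eqToHom (fp_snd_obj g f P)) (f.map d) := by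
    have h0 : 𝒴.p.IsHomLift φ (f.map d) := BasedFunctor.preserves_isHomLift f φ d
    have hc : 𝒴.p.obj (f.obj P.obj.snd) = 𝒵.p.obj P.obj.fst :=
      (f.w_obj P.obj.snd).trans (fp_snd_obj g f P)
    apply IsHomLift.of_fac 𝒴.p _ (f.map d) ((f.w_obj y)) hc
    have := IsHomLift.fac 𝒴.p φ (f.map d)
    rw [this]
    simp
  obtain ⟨δ, hδ, eδ⟩ := IsFibGrpd.exists_iso_of_lifts (𝒴 := 𝒴) h𝒴
    (φ ≫ eqToHom (fp_snd_obj g f P)) (g.map π ≫ P.obj.iso.hom) (f.map d)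
  refine ⟨z, π, δ, ?_, eδ.symm, hz⟩
  exact isHomLift_id_of_eq 𝒴.p hz.symm _

theorem injective_fpFst (h𝒳 : FibCat.IsFibGrpd 𝒳.p) (h𝒴 : FibCat.IsFibGrpd 𝒴.p)
    (h𝒵 : FibCat.IsFibGrpd 𝒵.p) (f : 𝒳 ⥤ᵇ 𝒴) (g : 𝒵 ⥤ᵇ 𝒴)
    (hd : AlgSt.IsSurjective (FibCat.diag f)) :
    Function.Injective (AlgSt.Points.map (FibCat.fpFst g f)) := by
  intro w₁ w₂ hw
  obtain ⟨P₁, rfl⟩ := AlgSt.Points.mk_surjective w₁
  obtain ⟨P₂, rfl⟩ := AlgSt.Points.mk_surjective w₂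
  rw [AlgSt.Points.map_mk, AlgSt.Points.map_mk] at hw
  obtain ⟨r, a, b, -⟩ := fpt_rel_of_mk_eq h𝒵 hw
  change r.obj ⟶ P₁.obj.obj.fst at a
  change r.obj ⟶ P₂.obj.obj.fst at b
  obtain ⟨x₁, κ₁, α₁, hα₁, e₁⟩ := exists_pull_fst h𝒳 h𝒴 f g P₁.obj a
  obtain ⟨x₂, κ₂, α₂, hα₂, e₂⟩ := exists_pull_fst h𝒳 h𝒴 f g P₂.obj b
  -- the two pulled-back objects
  let Q₁ : (FibCat.fp g f).obj := ⟨⟨r.obj, x₁, α₁⟩, hα₁⟩
  let Q₂ : (FibCat.fp g f).obj := ⟨⟨r.obj, x₂, α₂⟩, hα₂⟩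
  let m₁ : Q₁ ⟶ P₁.obj := ObjectProperty.homMk ⟨a, κ₁, e₁⟩
  let m₂ : Q₂ ⟶ P₂.obj := ObjectProperty.homMk ⟨b, κ₂, e₂⟩
  have hx₁ : 𝒳.p.obj x₁ = 𝒵.p.obj r.obj := fp_snd_obj g f Q₁
  have hα₁inv : 𝒴.p.IsHomLift (𝟙 (𝒵.p.obj r.obj)) α₁.inv := IsHomLift.lift_id_inv 𝒴.p _ α₁
  have hβ : 𝒴.p.IsHomLift (𝟙 (𝒳.p.obj x₁)) (α₁.symm ≪≫ α₂).hom := by
    have : 𝒴.p.IsHomLift (𝟙 (𝒵.p.obj r.obj) ≫ 𝟙 (𝒵.p.obj r.obj)) (α₁.inv ≫ α₂.hom) :=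
      inferInstance
    rw [Category.comp_id] at this
    have h3 : 𝒴.p.IsHomLift (𝟙 (𝒵.p.obj r.obj)) (α₁.symm ≪≫ α₂).hom := this
    exact isHomLift_id_of_eq 𝒴.p hx₁.symm _
  let D : (FibCat.fp f f).obj := ⟨⟨x₁, x₂, α₁.symm ≪≫ α₂⟩, hβ⟩
  let D' : AlgSt.FPt (FibCat.fp f f) :=
    { K := r.K, str := r.str, obj := D, lies := hx₁.trans r.lies }
  obtain ⟨y, hy⟩ := hd (AlgSt.Points.mk D')
  obtain ⟨q, rfl⟩ := AlgSt.Points.mk_surjective y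
  rw [AlgSt.Points.map_mk] at hy
  have hff := isFibGrpd_fp f f h𝒳 h𝒳 h𝒴
  obtain ⟨s, c, d, -⟩ := fpt_rel_of_mk_eq (𝒳 := FibCat.fp f f) hff hy
  change s.obj ⟶ D at d
  -- components
  obtain ⟨θ, hθ⟩ : ∃ θ : (FibCat.fp f f).p.obj s.obj ⟶ _, θ = (FibCat.fp f f).p.map c := ⟨_, rfl⟩
  have hc : (FibCat.fp f f).p.IsHomLift θ c := by rw [hθ]; infer_instance
  have hc₁ : 𝒳.p.IsHomLift θ c.hom.fst := fp_isHomLift_fst' f f θ c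
  have hc₂ : 𝒳.p.IsHomLift θ c.hom.snd := fp_isHomLift_snd' f f θ c
  obtain ⟨ε, hε, eε⟩ := IsFibGrpd.exists_iso_of_lifts (𝒴 := 𝒳) h𝒳 θ c.hom.fst c.hom.snd
  have hγ : 𝒴.p.IsHomLift (𝟙 ((FibCat.fp f f).p.obj s.obj)) s.obj.obj.iso.hom := s.obj.property
  have hfε : f.map ε.hom = s.obj.obj.iso.hom := by
    have h1 : 𝒴.p.IsHomLift (𝟙 ((FibCat.fp f f).p.obj s.obj)) (f.map ε.hom) :=
      BasedFunctor.preserves_isHomLift f _ ε.hom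
    have h2 : 𝒴.p.IsHomLift θ (f.map c.hom.snd) := BasedFunctor.preserves_isHomLift f θ _
    apply GerbExt.cancel_right h𝒴 (𝟙 _) θ (f.map ε.hom) s.obj.obj.iso.hom (f.map c.hom.snd) h1 hγ h2
    rw [← f.map_comp, eε]
    have hw : f.map c.hom.fst ≫ ((FibCat.diag f).obj q.obj).obj.iso.hom =
        s.obj.obj.iso.hom ≫ f.map c.hom.snd := c.hom.w
    have hid : ((FibCat.diag f).obj q.obj).obj.iso.hom = 𝟙 _ := rfl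
    rw [hid] at hw
    exact (Category.comp_id (f.map c.hom.fst)).symm.trans hw
  -- pull back Q₁ along d.hom.fst
  obtain ⟨z', π, δ, hδ, eδ, hz'⟩ := exists_pull_snd h𝒵 h𝒴 f g Q₁ d.hom.fst
  let R₀ : (FibCat.fp g f).obj := ⟨⟨z', s.obj.obj.fst, δ⟩, hδ⟩
  let n₁ : R₀ ⟶ Q₁ := ObjectProperty.homMk ⟨π, d.hom.fst, eδ⟩
  have e₃ : g.map π ≫ α₂.hom = δ.hom ≫ f.map (ε.hom ≫ d.hom.snd) := by
    have hdw : f.map d.hom.fst ≫ (α₁.symm ≪≫ α₂).hom = s.obj.obj.iso.hom ≫ f.map d.hom.snd :=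
      d.hom.w
    have eδ' : g.map π ≫ α₁.hom = δ.hom ≫ f.map d.hom.fst := eδ
    rw [f.map_comp, hfε, ← hdw, ← Category.assoc, ← eδ']
    simp
  let n₂ : R₀ ⟶ Q₂ := ObjectProperty.homMk ⟨π, ε.hom ≫ d.hom.snd, e₃⟩
  let R : AlgSt.FPt (FibCat.fp g f) :=
    { K := s.K, str := s.str, obj := R₀, lies := hz'.trans s.lies }
  exact AlgSt.Points.sound ⟨R, n₁ ≫ m₁, n₂ ≫ m₂, trivial⟩

theorem surjective_diag (f : 𝒳 ⥤ᵇ 𝒴)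
    (h : Function.Injective (AlgSt.Points.map (FibCat.fpFst f f))) :
    AlgSt.IsSurjective (FibCat.diag f) := by
  intro w
  refine ⟨AlgSt.Points.map (FibCat.fpFst f f) w, ?_⟩
  apply h
  obtain ⟨P, rfl⟩ := AlgSt.Points.mk_surjective w
  rfl

end Aux

/-- (1) ⇔ (2): a morphism `f : 𝒳 ⟶ 𝒴` of algebraic stacks over `S` is universally injective (every base
change to an algebraic stack is injective on points) if and only if its diagonal `𝒳 ⟶ 𝒳 ×_𝒴 𝒳` is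
surjective on points. -/
theorem result {S : Scheme.{u}} {𝒳 𝒴 : AlgSt.Cat S}
    (h𝒳 : AlgSt.IsAlgStack Scheme.fppfPrecoverage 𝒳) (h𝒴 : AlgSt.IsAlgStack Scheme.fppfPrecoverage 𝒴) (f : 𝒳 ⥤ᵇ 𝒴) :
    AlgSt.IsUnivInjective Scheme.fppfPrecoverage f ↔ AlgSt.IsSurjective (FibCat.diag f) := by
  constructor
  · intro h
    exact Aux.surjective_diag f (h 𝒳 h𝒳 f)
  · intro hd 𝒵 h𝒵 g
    exact Aux.injective_fpFst h𝒳.isStack.1 h𝒴.isStack.1 h𝒵.isStack.1 f g hd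

end Groth.Agent.S12831
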