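import Groth.Statements.S12838
-- import your own Groth.Agent.* helpers here

set_option autoImplicit false
universe u
open CategoryTheory AlgebraicGeometry
open AlgSt

namespace Groth.Agent.S12838

namespace Aux

set_option backward.isDefEq.respectTransparency false
set_option backward.isDefEq.respectTransparency.types false
set_option linter.unusedSimpArgs false

open MonoidalCategory CartesianMonoidalCategory MonObj GrpObj CategoryTheory.Limits

variable {S : Scheme.{u}} {G : Over S} [GrpObj G]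

theorem whisker_unit_leftMul (T : Over S) :
    (G ◁ lift (1 : T ⟶ G) (𝟙 T)) ≫ (AlgSt.leftMul G T).act = 𝟙 _ := by
  apply CartesianMonoidalCategory.hom_ext
  · simp only [AlgSt.leftMul, Category.assoc, lift_fst, lift_snd, comp_mul, whiskerLeft_fst,
      whiskerLeft_snd_assoc, Category.id_comp, comp_one, _root_.mul_one]
  · simp only [AlgSt.leftMul, Category.assoc, lift_fst, lift_snd, whiskerLeft_snd_assoc,
      Category.id_comp, Category.comp_id]

/-- An equivariant map of trivial torsors over `f` is right multiplication by a point of `G`. -/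
theorem top_eq {T T' : Over S} (f : T ⟶ T') (t : G ⊗ T ⟶ G ⊗ T')
    (heq : (AlgSt.leftMul G T).act ≫ t = (G ◁ t) ≫ (AlgSt.leftMul G T').act)
    (hsnd : t ≫ snd G T' = snd G T ≫ f) :
    t = lift (fst G T * (snd G T ≫ lift (1 : T ⟶ G) (𝟙 T) ≫ t ≫ fst G T')) (snd G T ≫ f) := by
  apply CartesianMonoidalCategory.hom_ext
  · rw [lift_fst]
    have h1 : t = (G ◁ lift (1 : T ⟶ G) (𝟙 T)) ≫ (G ◁ t) ≫ (AlgSt.leftMul G T').act := by
      rw [← heq, ← Category.assoc, whisker_unit_leftMul, Category.id_comp]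
    conv_lhs => rw [h1]
    simp only [AlgSt.leftMul, Category.assoc, lift_fst, comp_mul, whiskerLeft_fst,
      whiskerLeft_fst_assoc, whiskerLeft_snd_assoc]
  · rw [lift_snd, hsnd]

theorem unit_act {X : Over S} (aX : AlgGrp.Action G X) {T : Over S} (x : T ⟶ X) :
    lift (1 : T ⟶ G) (𝟙 T) ≫ (G ◁ x) ≫ aX.act = x := by
  have h3 : lift (1 : T ⟶ G) (𝟙 T) ≫ (G ◁ x) = x ≫ (λ_ X).inv ≫ (η[G] ▷ X) := by
    apply CartesianMonoidalCategory.hom_ext
    · simp only [Category.assoc, whiskerLeft_fst, lift_fst, whiskerRight_fst, leftUnitor_inv_fst_assoc,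
        Hom.one_def]
      rw [← Category.assoc]
      congr 1
      exact (toUnit_unique _ _)
    · simp only [Category.assoc, whiskerLeft_snd, lift_snd_assoc, whiskerRight_snd, leftUnitor_inv_snd,
        Category.id_comp, Category.comp_id]
  rw [← Category.assoc, h3, Category.assoc, Category.assoc, aX.one_act, Iso.inv_hom_id,
    Category.comp_id]

theorem point_act {X : Over S} (aX : AlgGrp.Action G X) {T T' : Over S} (f : T ⟶ T') (x : T ⟶ X)
    (x' : T' ⟶ X) (t : G ⊗ T ⟶ G ⊗ T') (hsnd : t ≫ snd G T' = snd G T ≫ f)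
    (hw : t ≫ (G ◁ x') ≫ aX.act = (G ◁ x) ≫ aX.act) :
    lift (lift (1 : T ⟶ G) (𝟙 T) ≫ t ≫ fst G T') (f ≫ x') ≫ aX.act = x := by
  have h2 : lift (lift (1 : T ⟶ G) (𝟙 T) ≫ t ≫ fst G T') (f ≫ x') =
      lift (1 : T ⟶ G) (𝟙 T) ≫ t ≫ (G ◁ x') := by
    apply CartesianMonoidalCategory.hom_ext
    · simp only [Category.assoc, lift_fst, whiskerLeft_fst]
    · simp only [Category.assoc, lift_snd, whiskerLeft_snd]
      rw [reassoc_of% hsnd, lift_snd_assoc, Category.id_comp]
  rw [h2, Category.assoc, Category.assoc, hw]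
  exact unit_act aX x

/-- right multiplication by `g` on the trivial torsor -/
noncomputable def rho {T : Over S} (g : T ⟶ G) : G ⊗ T ⟶ G ⊗ T :=
  lift (fst G T * (snd G T ≫ g)) (snd G T)

theorem isIso_rho {T : Over S} (g : T ⟶ G) : IsIso (rho g) := by
  refine ⟨⟨lift (fst G T * (snd G T ≫ g)⁻¹) (snd G T), ?_, ?_⟩⟩
  · apply CartesianMonoidalCategory.hom_ext
    · simp only [rho, Category.assoc, lift_fst, lift_snd, comp_mul, comp_inv, lift_snd_assoc,
        Category.id_comp, mul_inv_cancel_right]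
    · simp only [rho, Category.assoc, lift_snd, Category.id_comp]
  · apply CartesianMonoidalCategory.hom_ext
    · simp only [rho, Category.assoc, lift_fst, lift_snd, comp_mul, comp_inv, lift_snd_assoc,
        Category.id_comp, inv_mul_cancel_right]
    · simp only [rho, Category.assoc, lift_snd, Category.id_comp]

theorem rho_whisker {T T' : Over S} (g : T ⟶ G) (f : T ⟶ T') :
    rho g ≫ (G ◁ f) = lift (fst G T * (snd G T ≫ g)) (snd G T ≫ f) := by
  apply CartesianMonoidalCategory.hom_ext
  · simp only [rho, Category.assoc, whiskerLeft_fst, lift_fst]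
  · simp only [rho, Category.assoc, whiskerLeft_snd, lift_snd, lift_snd_assoc]

theorem isPullback_top {T T' : Over S} (g : T ⟶ G) (f : T ⟶ T') :
    IsPullback (lift (fst G T * (snd G T ≫ g)) (snd G T ≫ f)) (snd G T) (snd G T') f := by
  have := isIso_rho g
  have h1 : IsPullback (rho g) (snd G T) (snd G T) (𝟙 T) :=
    IsPullback.of_horiz_isIso ⟨by simp only [rho, lift_snd, Category.comp_id]⟩
  have h2 := h1.paste_horiz (AlgSt.isPullback_whiskerLeft (G := G) f)
  rw [Category.id_comp, rho_whisker] at h2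
  exact h2

theorem top_eqv {T T' : Over S} (g : T ⟶ G) (f : T ⟶ T') :
    (AlgSt.leftMul G T).act ≫ lift (fst G T * (snd G T ≫ g)) (snd G T ≫ f) =
      (G ◁ lift (fst G T * (snd G T ≫ g)) (snd G T ≫ f)) ≫ (AlgSt.leftMul G T').act := by
  apply CartesianMonoidalCategory.hom_ext
  · simp only [AlgSt.leftMul, Category.assoc, lift_fst, lift_snd, lift_fst_assoc, lift_snd_assoc,
      comp_lift, comp_mul, whiskerLeft_fst, whiskerLeft_snd, whiskerLeft_fst_assoc,
      whiskerLeft_snd_assoc]
    rw [_root_.mul_assoc]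
  · simp only [AlgSt.leftMul, Category.assoc, lift_fst, lift_snd, lift_fst_assoc, lift_snd_assoc,
      comp_lift, comp_mul, whiskerLeft_fst, whiskerLeft_snd, whiskerLeft_fst_assoc,
      whiskerLeft_snd_assoc]

theorem top_wφ {X : Over S} (aX : AlgGrp.Action G X) {T T' : Over S} (g : T ⟶ G) (f : T ⟶ T')
    (x : T ⟶ X) (x' : T' ⟶ X) (hg : lift g (f ≫ x') ≫ aX.act = x) :
    lift (fst G T * (snd G T ≫ g)) (snd G T ≫ f) ≫ (G ◁ x') ≫ aX.act = (G ◁ x) ≫ aX.act := by
  have hμ : fst (G ⊗ G) X ≫ μ[G] = (fst _ _ ≫ fst G G) * (fst _ _ ≫ snd G G) := by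
    rw [Hom.mul_def, ← comp_lift, lift_fst_snd, Category.comp_id]
  have hm : (G ◁ aX.act) ≫ aX.act = (α_ G G X).inv ≫ (μ[G] ▷ X) ≫ aX.act := by
    rw [aX.mul_act, Iso.inv_hom_id_assoc]
  have h1 : lift (fst G T * (snd G T ≫ g)) (snd G T ≫ f) ≫ (G ◁ x') =
      (G ◁ lift g (f ≫ x')) ≫ (α_ G G X).inv ≫ (μ[G] ▷ X) := by
    apply CartesianMonoidalCategory.hom_ext
    · simp only [Category.assoc, lift_fst, lift_snd, lift_fst_assoc, lift_snd_assoc, comp_lift, comp_mul, whiskerLeft_fst, whiskerLeft_snd, whiskerLeft_fst_assoc, whiskerLeft_snd_assoc, whiskerRight_fst, whiskerRight_snd, whiskerRight_fst_assoc, whiskerRight_snd_assoc, associator_hom_fst, associator_hom_snd_fst, associator_hom_snd_snd, associator_hom_snd_fst_assoc, associator_hom_snd_snd_assoc, associator_inv_fst_fst, associator_inv_fst_snd, associator_inv_snd, associator_inv_fst_fst_assoc, associator_inv_fst_snd_assoc, associator_inv_snd_assoc, hμ]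
    · simp only [Category.assoc, lift_fst, lift_snd, lift_fst_assoc, lift_snd_assoc, comp_lift, comp_mul, whiskerLeft_fst, whiskerLeft_snd, whiskerLeft_fst_assoc, whiskerLeft_snd_assoc, whiskerRight_fst, whiskerRight_snd, whiskerRight_fst_assoc, whiskerRight_snd_assoc, associator_hom_fst, associator_hom_snd_fst, associator_hom_snd_snd, associator_hom_snd_fst_assoc, associator_hom_snd_snd_assoc, associator_inv_fst_fst, associator_inv_fst_snd, associator_inv_snd, associator_inv_fst_fst_assoc, associator_inv_fst_snd_assoc, associator_inv_snd_assoc]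
  rw [← hg, MonoidalCategory.whiskerLeft_comp, Category.assoc, hm, ← Category.assoc, h1,
    Category.assoc, Category.assoc]

end Aux

open MonoidalCategory CartesianMonoidalCategory MonObj GrpObj in
/-- Let `G` be a group scheme over `S` acting on an `S`-scheme `X`, `f : T ⟶ T'` a morphism of
`S`-schemes, `x` a `T`-point and `x'` a `T'`-point of `X`. In the quotient category `[X/G]` (scheme
torsors for the fppf topology with an equivariant morphism to `X`) the canonical functor `X ⟶ [X/G]`
sends `x` to the trivial torsor `G ×_S T ⟶ T`, with `G` acting by left multiplication on the first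
factor and the equivariant morphism `(h, t) ↦ h · x(t)`, and likewise for `x'`. The morphisms from
the image of `x` to the image of `x'` lying over `f` are exactly the maps `(h, t) ↦ (h · g(t),
f(t))` for those `T`-points `g` of `G` with `g · (x' ∘ f) = x`: every morphism over `f` is of this
form, and every such `g` defines one. -/
theorem result (S : Scheme.{u}) (G : Over S) [GrpObj G] (X : Over S)
    (aX : AlgGrp.Action G X) (T T' : Over S) (f : T ⟶ T') (x : T ⟶ X) (x' : T' ⟶ X) :
    (∀ h : (AlgSt.quotMap Scheme.fppfPrecoverage G aX).obj ((AlgSt.ofOverCat X).obj (Over.mk x)) ⟶ (AlgSt.quotMap Scheme.fppfPrecoverage G aX).obj ((AlgSt.ofOverCat X).obj (Over.mk x')),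
        h.base = f → ∃ g : T ⟶ G, lift g (f ≫ x') ≫ aX.act = x ∧
          h.top = lift (fst G T * (snd G T ≫ g)) (snd G T ≫ f)) ∧
    (∀ g : T ⟶ G, lift g (f ≫ x') ≫ aX.act = x →
        ∃ h : (AlgSt.quotMap Scheme.fppfPrecoverage G aX).obj ((AlgSt.ofOverCat X).obj (Over.mk x)) ⟶ (AlgSt.quotMap Scheme.fppfPrecoverage G aX).obj ((AlgSt.ofOverCat X).obj (Over.mk x')),
          h.base = f ∧ h.top = lift (fst G T * (snd G T ≫ g)) (snd G T ≫ f)) := by
  constructor
  · rintro h rfl
    have hsnd : h.top ≫ snd G T' = snd G T ≫ h.base := h.cart.w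
    have heq : (AlgSt.leftMul G T).act ≫ h.top = (G ◁ h.top) ≫ (AlgSt.leftMul G T').act := h.eqv
    refine ⟨lift (1 : T ⟶ G) (𝟙 T) ≫ h.top ≫ fst G T', ?_, Aux.top_eq h.base h.top heq hsnd⟩
    have hw : h.top ≫ (G ◁ x') ≫ aX.act = (G ◁ x) ≫ aX.act := h.wφ
    exact Aux.point_act aX h.base x x' h.top hsnd hw
  · intro g hg
    exact ⟨⟨f, lift (fst G T * (snd G T ≫ g)) (snd G T ≫ f), Aux.top_eqv g f,
      Aux.isPullback_top g f, Aux.top_wφ aX g f x x' hg⟩, rfl, rfl⟩

end Groth.Agent.S12838
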