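import Groth.Statements.S12839
-- import your own Groth.Agent.* helpers here

set_option autoImplicit false
universe u
open CategoryTheory AlgebraicGeometry
open AlgSt

namespace Groth.Agent.S12839

namespace Aux

set_option backward.isDefEq.respectTransparency false
set_option backward.isDefEq.respectTransparency.types false
set_option linter.unusedSimpArgs false

open MonoidalCategory CartesianMonoidalCategory MonObj GrpObj CategoryTheory.Limits

variable {S : Scheme.{u}} {G : Over S} [GrpObj G]

/-- `(g, (h, t)) ↦ (g h, σ t)` both ways. -/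
theorem leftMul_whisker {T P : Over S} (σ : T ⟶ P) :
    (AlgSt.leftMul G T).act ≫ (G ◁ σ) = (G ◁ (G ◁ σ)) ≫ (α_ G G P).inv ≫ (μ[G] ▷ P) := by
  have hμ : fst (G ⊗ G) P ≫ μ[G] = (fst _ _ ≫ fst G G) * (fst _ _ ≫ snd G G) := by
    rw [Hom.mul_def, ← comp_lift, lift_fst_snd, Category.comp_id]
  apply CartesianMonoidalCategory.hom_ext
  · simp only [AlgSt.leftMul, Category.assoc, lift_fst, lift_snd, lift_fst_assoc, lift_snd_assoc, comp_lift, comp_mul, whiskerLeft_fst, whiskerLeft_snd, whiskerLeft_fst_assoc, whiskerLeft_snd_assoc, whiskerRight_fst, whiskerRight_snd, whiskerRight_fst_assoc, whiskerRight_snd_assoc, associator_hom_fst, associator_hom_snd_fst, associator_hom_snd_snd, associator_hom_snd_fst_assoc, associator_hom_snd_snd_assoc, associator_inv_fst_fst, associator_inv_fst_snd, associator_inv_snd, associator_inv_fst_fst_assoc, associator_inv_fst_snd_assoc, associator_inv_snd_assoc, hμ]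
  · simp only [AlgSt.leftMul, Category.assoc, lift_fst, lift_snd, lift_fst_assoc, lift_snd_assoc, comp_lift, comp_mul, whiskerLeft_fst, whiskerLeft_snd, whiskerLeft_fst_assoc, whiskerLeft_snd_assoc, whiskerRight_fst, whiskerRight_snd, whiskerRight_fst_assoc, whiskerRight_snd_assoc, associator_hom_fst, associator_hom_snd_fst, associator_hom_snd_snd, associator_hom_snd_fst_assoc, associator_hom_snd_snd_assoc, associator_inv_fst_fst, associator_inv_fst_snd, associator_inv_snd, associator_inv_fst_fst_assoc, associator_inv_fst_snd_assoc, associator_inv_snd_assoc]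

/-- The orbit map `(g, t) ↦ g · σ t` of a section is equivariant for left multiplication. -/
theorem orbit_eqv {T P : Over S} (aP : AlgGrp.Action G P) (σ : T ⟶ P) :
    (AlgSt.leftMul G T).act ≫ (G ◁ σ) ≫ aP.act = (G ◁ ((G ◁ σ) ≫ aP.act)) ≫ aP.act := by
  have hm : (G ◁ aP.act) ≫ aP.act = (α_ G G P).inv ≫ (μ[G] ▷ P) ≫ aP.act := by
    rw [aP.mul_act, Iso.inv_hom_id_assoc]
  rw [MonoidalCategory.whiskerLeft_comp, Category.assoc, hm, reassoc_of% (leftMul_whisker (G := G) σ)]

end Aux

/-- Let `G` be a group scheme over `S` acting on an `S`-scheme `X` and let `A` be an object of the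
quotient category `[X/G]` over the `S`-scheme `T` — a `G`-torsor `P ⟶ T` for the fppf topology which
is a scheme, with an equivariant `P ⟶ X`. Then there is an fppf covering family of `T` such that for
every member `f : T' ⟶ T` there are a `T'`-point `x` of `X` and a morphism of `[X/G]` lying over `f`
from the image of `x` under the canonical functor `X ⟶ [X/G]` (the trivial torsor `G ×_S T'` with
`(h, t) ↦ h · x(t)`) to `A`: every object is, fppf-locally on its base, isomorphic to a trivial one. -/
theorem result (S : Scheme.{u}) (G : Over S) [GrpObj G] (X : Over S)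
    (aX : AlgGrp.Action G X) (A : AlgSt.QuotObj Scheme.fppfPrecoverage G aX) :
    ∃ (R : Presieve A.base.left) (_ : R ∈ Scheme.fppfPrecoverage A.base.left),
      ∀ ⦃T' : Scheme.{u}⦄ (f : T' ⟶ A.base.left), R f →
        ∃ (x : Over.mk (f ≫ A.base.hom) ⟶ X)
          (h : (AlgSt.quotMap Scheme.fppfPrecoverage G aX).obj ((AlgSt.ofOverCat X).obj (Over.mk x)) ⟶ A),
          h.base = Over.homMk f rfl := by
  open MonoidalCategory CartesianMonoidalCategory in
  obtain ⟨R, hR, hsec⟩ := A.loc
  refine ⟨R, hR, ?_⟩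
  intro T' f hf
  obtain ⟨σ, hσ⟩ := hsec f hf
  have hσ' : σ ≫ A.π.left = f := hσ
  have hw : σ ≫ A.P.hom = f ≫ A.base.hom := by
    rw [← Over.w A.π, ← Category.assoc, hσ']
  let σ' : Over.mk (f ≫ A.base.hom) ⟶ A.P := Over.homMk σ hw
  have hσπ : σ' ≫ A.π = Over.homMk f rfl := by
    apply Over.OverMorphism.ext
    exact hσ'
  refine ⟨σ' ≫ A.φ, ⟨Over.homMk f rfl, (G ◁ σ') ≫ A.act.act, ?_, ?_, ?_⟩, rfl⟩
  · exact Aux.orbit_eqv A.act σ'
  · have h1 := AlgSt.isPullback_whiskerLeft (G := G) σ'
    have h2 := h1.paste_horiz A.cart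
    rw [hσπ] at h2
    exact h2
  · change ((G ◁ σ') ≫ A.act.act) ≫ A.φ = (G ◁ (σ' ≫ A.φ)) ≫ aX.act
    rw [Category.assoc, A.eqv, MonoidalCategory.whiskerLeft_comp, Category.assoc]

end Groth.Agent.S12839
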