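import Groth.Statements.S12859
import Groth.Agent.R2.H59OpenSub3

set_option autoImplicit false
open CategoryTheory AlgebraicGeometry
universe u
open AlgSt

namespace Groth.Agent.S12859

/-- Let `𝒳` be an algebraic stack over `S`. The rule sending an open substack `𝒰 ⊂ 𝒳` (a predicate on
objects closed under isomorphisms whose full subcategory is an algebraic stack with open-immersion
inclusion) to `|𝒰| ⊂ |𝒳|` is a bijection from open substacks onto open subsets of `|𝒳|`, and `𝒰 ⊂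
𝒰'` holds exactly when `|𝒰| ⊂ |𝒰'|`. -/
theorem result {S : Scheme.{u}} {𝒳 : AlgSt.Cat S}
    (h𝒳 : AlgSt.IsAlgStack Scheme.fppfPrecoverage 𝒳) :
    Set.BijOn (fun Q : 𝒳.obj → Prop => Set.range (AlgSt.Points.map (AlgSt.subIncl 𝒳 Q)))
        {Q | AlgSt.IsOpenSubstack 𝒳 Q Scheme.fppfPrecoverage} {T | IsOpen T} ∧
      ∀ (Q Q' : 𝒳.obj → Prop), AlgSt.IsOpenSubstack 𝒳 Q Scheme.fppfPrecoverage → AlgSt.IsOpenSubstack 𝒳 Q' Scheme.fppfPrecoverage →
        ((∀ y, Q y → Q' y) ↔ Set.range (AlgSt.Points.map (AlgSt.subIncl 𝒳 Q)) ⊆ Set.range (AlgSt.Points.map (AlgSt.subIncl 𝒳 Q'))) := by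
  have hfib := h𝒳.isStack.1
  have key : ∀ (Q Q' : 𝒳.obj → Prop), AlgSt.IsOpenSubstack 𝒳 Q Scheme.fppfPrecoverage →
      AlgSt.IsOpenSubstack 𝒳 Q' Scheme.fppfPrecoverage →
      ((∀ y, Q y → Q' y) ↔ Set.range (AlgSt.Points.map (AlgSt.subIncl 𝒳 Q)) ⊆
        Set.range (AlgSt.Points.map (AlgSt.subIncl 𝒳 Q'))) := fun Q Q' hQ hQ' =>
    Groth.Agent.R2.H59.OpenSub.le_iff_range_subset
      (Groth.Agent.R2.H59.OpenSub.isOpenPred_of_isOpenSubstack hfib Q hQ)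
      (Groth.Agent.R2.H59.OpenSub.isOpenPred_of_isOpenSubstack hfib Q' hQ') hfib
  refine ⟨⟨?_, ?_, ?_⟩, key⟩
  · intro Q hQ
    exact Groth.Agent.Lib.Helper15OpenSub.isOpen_range_of_isOpenImm hQ.2.1 h𝒳 _ hQ.2.2
  · intro Q hQ Q' hQ' heq
    have heq' : Set.range (AlgSt.Points.map (AlgSt.subIncl 𝒳 Q)) =
        Set.range (AlgSt.Points.map (AlgSt.subIncl 𝒳 Q')) := heq
    funext y
    exact propext ⟨(key Q Q' hQ hQ').2 heq'.le y, (key Q' Q hQ' hQ).2 heq'.ge y⟩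
  · intro O hO
    exact ⟨Groth.Agent.R2.H59.OpenSub.pointsPred O,
      Groth.Agent.R2.H59.OpenSub.isOpenSubstack_of_isOpenPred h𝒳 _
        (Groth.Agent.R2.H59.OpenSub.isOpenPred_pointsPred h𝒳 O hO),
      Groth.Agent.R2.H59.OpenSub.range_pointsPred h𝒳 O hO⟩

end Groth.Agent.S12859
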