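import Groth.Statements.S12866
import Groth.Agent.R2.H59ClosedSub

set_option autoImplicit false
open CategoryTheory AlgebraicGeometry
universe u
open AlgSt

namespace Groth.Agent.S12866

/-- Let `𝒳`, `𝒴` be algebraic stacks over `S` with `𝒴` reduced, `𝒵 ⊂ 𝒳` a closed substack and `f : 𝒴 ⟶
𝒳` a 1-morphism. Then `f` factors through `𝒵` (every `f(y)` is an object of the strictly full
subcategory `𝒵`) if and only if `|f|(|𝒴|) ⊂ |𝒵|`. -/
theorem result {S : Scheme.{u}} {𝒳 𝒴 : AlgSt.Cat S}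
    (h𝒳 : AlgSt.IsAlgStack Scheme.fppfPrecoverage 𝒳) (h𝒴 : AlgSt.IsAlgStack Scheme.fppfPrecoverage 𝒴) (hred : AlgSt.SmoothLocally (fun X => IsReduced X) 𝒴)
    (Q : 𝒳.obj → Prop) (hQ : AlgSt.IsClosedSubstack 𝒳 Q Scheme.fppfPrecoverage) (f : 𝒴 ⥤ᵇ 𝒳) :
    (∀ y : 𝒴.obj, Q (f.obj y)) ↔ Set.range (AlgSt.Points.map f) ⊆ Set.range (AlgSt.Points.map (AlgSt.subIncl 𝒳 Q)) := by
  have hcl := Groth.Agent.R2.H59.ClosedSub.isClosedPred_of_isClosedSubstack h𝒳.isStack.1 Q hQ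
  constructor
  · intro h
    rintro _ ⟨z, rfl⟩
    obtain ⟨p, rfl⟩ := AlgSt.Points.mk_surjective z
    let q : AlgSt.FPt (AlgSt.fullSub 𝒳 Q) :=
      { K := p.K
        str := p.str
        obj := ⟨f.obj p.obj, h p.obj⟩
        lies := (f.w_obj p.obj).trans p.lies }
    exact ⟨AlgSt.Points.mk q, rfl⟩
  · intro hsub y
    exact hcl.of_points h𝒴 hred f hsub y

end Groth.Agent.S12866
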