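import Groth.Statements.S12899
import Mathlib
import Groth.Agent.R2.H52FlatGlue
-- import your own Groth.Agent.* helpers here

set_option autoImplicit false
universe u
open CategoryTheory CategoryTheory.Limits
attribute [local instance] HasDerivedCategory.standard
open DRing

namespace Groth.Agent.S12899

open DerivedCategory HomologicalComplex MonoidalCategory
open Groth.Agent.R2.H52.FlatGlue Groth.Agent.Lib.Helper1.Tor Groth.Agent.Lib.Helper1.TorM
  Groth.Agent.Lib.Helper1.TorN Groth.Agent.Lib.Helper1.TorO Groth.Agent.Lib.Helper1.LDer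
  Groth.Agent.Lib.Helper1.KF Groth.Agent.Lib.Helper1.DT Groth.Agent.Lib.Helper1.ProjRes

/-- the termwise base change of a K-projective representative of `M` has tensor-vanishing outside
degree `0` as soon as `M ⊗^L A` is a flat module placed in degree `0` -/
lemma torVan_ext_of_iso_inD {R A : Type u} [CommRing R] [CommRing A] (φ : R →+* A)
    [DRing.HasLBaseChange φ] (P : DRing.Cx R) [P.IsKProjective] (M : Dual.D R) (e : Q.obj P ≅ M)
    (N : Type u) [AddCommGroup N] [Module A N] [Module.Flat A N]
    (eN : (DRing.LBaseChange φ).obj M ≅ Dual.inD A N) :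
    TorVan ((DTen.extCx φ).obj P) 0 0 := by
  let E : DRing.Cx A :=
    (HomologicalComplex.single (ModuleCat.{u} A) (ComplexShape.up ℤ) 0).obj (ModuleCat.of A N)
  have hE : DRing.VanishesOutside E 0 0 := by
    intro i hi
    exact HomologicalComplex.isZero_single_obj_X (ComplexShape.up ℤ) 0 _ i (by lia)
  have hEf : DRing.TermwiseFlat E := by
    intro i
    by_cases hi : i = 0
    · subst hi
      exact Module.Flat.of_linearEquiv
        (HomologicalComplex.singleObjXSelf (ComplexShape.up ℤ) 0 (ModuleCat.of A N)).toLinearEquiv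
    · have : Subsingleton (E.X i) := ModuleCat.subsingleton_of_isZero
        (HomologicalComplex.isZero_single_obj_X (ComplexShape.up ℤ) 0 _ i hi)
      infer_instance
  have iso : Q.obj E ≅ Q.obj ((DTen.extCx φ).obj P) :=
    ((DerivedCategory.singleFunctorIsoCompQ (ModuleCat.{u} A) 0).app (ModuleCat.of A N)).symm ≪≫
      eN.symm ≪≫ (DRing.LBaseChange φ).mapIso e.symm ≪≫ lbcIso φ P
  exact torVan_of_iso_kflat _ E (kflat_of_isKProjective _) 0 0 hE hEf iso

/-- Let R be a commutative ring, f ∈ R and M an object of D(R) such that (1) H^i(M) = 0 for i &gt; 0,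
(2) in D(R_f), M ⊗^L_R R_f is isomorphic to a flat R_f-module concentrated in degree 0, and (3) in
D(R/fR), M ⊗^L_R R/fR is isomorphic to a flat R/fR-module concentrated in degree 0. Then, in D(R), M
itself is isomorphic to a flat R-module concentrated in degree 0. (The derived base change functors
along R → R_f and R → R/fR are the stated instance hypotheses, both true.) -/
theorem result {R : Type u} [CommRing R] (f : R) (M : Dual.D R)
    [DRing.HasLBaseChange (algebraMap R (Localization.Away f))]
    [DRing.HasLBaseChange (Ideal.Quotient.mk (Ideal.span ({f} : Set R)))]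
    (h1 : ∀ i : ℤ, 0 < i → Subsingleton (Dual.HD R M i))
    (h2 : ∃ (N : Type u) (_ : AddCommGroup N) (_ : Module (Localization.Away f) N),
      Module.Flat (Localization.Away f) N ∧
        Nonempty ((DRing.LBaseChange (algebraMap R (Localization.Away f))).obj M ≅ Dual.inD (Localization.Away f) N))
    (h3 : ∃ (N : Type u) (_ : AddCommGroup N) (_ : Module (R ⧸ Ideal.span ({f} : Set R)) N),
      Module.Flat (R ⧸ Ideal.span ({f} : Set R)) N ∧
        Nonempty ((DRing.LBaseChange (Ideal.Quotient.mk (Ideal.span ({f} : Set R)))).obj M ≅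
          Dual.inD (R ⧸ Ideal.span ({f} : Set R)) N)) :
    ∃ (N : Type u) (_ : AddCommGroup N) (_ : Module R N), Module.Flat R N ∧ Nonempty (M ≅ Dual.inD R N) := by
  classical
  obtain ⟨N₁, _, _, hN₁, ⟨e₁⟩⟩ := h2
  obtain ⟨N₂, _, _, hN₂, ⟨e₂⟩⟩ := h3
  have hMle : M.IsLE 0 := (DerivedCategory.isLE_iff M 0).2 (fun i hi => by
    have := h1 i hi
    exact ModuleCat.isZero_of_subsingleton _)
  obtain ⟨P, hPle, hPp, ⟨e⟩⟩ := exists_iso_Q_proj M 0
  have hPb : DRing.VanishesAbove P 0 := fun j hj => P.isZero_of_isStrictlyLE 0 j hj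
  have hPK : P.IsKProjective := by
    apply isKProjective_of_vanishesAbove P 0 hPb
    intro j
    have := hPp j
    exact ModuleCat.projective_of_module_projective _
  have hPf : DRing.TermwiseFlat P := fun i =>
    have := hPp i
    have : Module.Projective R (P.X i) := ModuleCat.projective_of_module_projective _
    inferInstance
  have htv₁ := torVan_ext_of_iso_inD (algebraMap R (Localization.Away f)) P M e N₁ e₁
  have htv₂ := torVan_ext_of_iso_inD (Ideal.Quotient.mk (Ideal.span ({f} : Set R))) P M e N₂ e₂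
  have htv : TorVan P 0 0 := by
    intro Mm i hi
    rcases hi with hi | hi
    · exact exactAt_TC_of_away_and_quotient f P hPf i
        (fun j hj Nb => htv₂ Nb j (Or.inl (by lia))) (fun Nb => htv₁ Nb i (Or.inl hi)) Mm
    · exact ShortComplex.exact_of_isZero_X₂ _ ((tensorLeft Mm).map_isZero (hPb i hi))
  obtain ⟨E, hE, hEf, ⟨eE⟩⟩ := hasTorAmp_of_torVan_kflat P (kflat_of_isKProjective P) 0 0 htv
  have hE1 : E.IsStrictlyGE 0 := by
    rw [CochainComplex.isStrictlyGE_iff]
    intro i hi
    exact hE i (Or.inl hi)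
  have hE2 : E.IsStrictlyLE 0 := by
    rw [CochainComplex.isStrictlyLE_iff]
    intro i hi
    exact hE i (Or.inr hi)
  obtain ⟨M', ⟨e'⟩⟩ := CochainComplex.exists_iso_single E 0
  have hflat : Module.Flat R M' := by
    have := hEf 0
    let j1 : M' ≅ ((HomologicalComplex.single (ModuleCat.{u} R) (ComplexShape.up ℤ) 0).obj M').X 0 :=
      (HomologicalComplex.singleObjXSelf (ComplexShape.up ℤ) 0 M').symm
    let j2 : ((HomologicalComplex.single (ModuleCat.{u} R) (ComplexShape.up ℤ) 0).obj M').X 0 ≅
        E.X 0 := HomologicalComplex.Hom.isoApp e'.symm 0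
    exact Module.Flat.of_linearEquiv (j1 ≪≫ j2).toLinearEquiv
  exact ⟨M', inferInstance, inferInstance, hflat,
    ⟨e.symm ≪≫ eE.symm ≪≫ Q.mapIso e' ≪≫
      ((DerivedCategory.singleFunctorIsoCompQ (ModuleCat.{u} R) 0).app M').symm⟩⟩

end Groth.Agent.S12899
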