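import Groth.Statements.S12903
import Groth.Agent.Lib.Helper2QCoh

set_option autoImplicit false
universe u
open CategoryTheory CategoryTheory.Limits AlgebraicGeometry Opposite
open Coherent

namespace Groth.Agent.S12903

namespace Aux

open Groth.Agent.Lib.Helper2.QCoh TopologicalSpace

set_option backward.isDefEq.respectTransparency false
set_option backward.isDefEq.respectTransparency.types false
set_option linter.style.haveILetI false

variable {X : Scheme.{u}}

/-- Sectionwise description of a kernel in `X.Modules`. -/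
theorem mem_range_kernel_ι_iff {F G : X.Modules} (g : F ⟶ G) (V : X.Opens) (s : F.val.obj (op V)) :
    s ∈ Set.range (((kernel.ι g).val.app (op V)).hom) ↔ (g.val.app (op V)).hom s = 0 := by
  let E : X.Modules ⥤ ModuleCat.{u} (X.ringCatSheaf.obj.obj (op V)) :=
    SheafOfModules.forget X.ringCatSheaf ⋙ PresheafOfModules.evaluation.{u} X.ringCatSheaf.obj (op V)
  haveI : E.Additive := by
    change (SheafOfModules.forget X.ringCatSheaf ⋙
      PresheafOfModules.evaluation.{u} X.ringCatSheaf.obj (op V)).Additive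
    infer_instance
  haveI : PreservesFiniteLimits E := by
    change PreservesFiniteLimits (SheafOfModules.evaluation.{u} X.ringCatSheaf (op V))
    infer_instance
  let S : ShortComplex X.Modules := ShortComplex.mk (kernel.ι g) g (kernel.condition g)
  have hS : S.Exact := S.exact_of_f_is_kernel (kernelIsKernel g)
  have hmono : Mono S.f := inferInstanceAs (Mono (kernel.ι g))
  have hSE : (S.map E).Exact := hS.map_of_mono_of_preservesKernel E hmono inferInstance
  have hfe := (ShortComplex.ShortExact.moduleCat_exact_iff_function_exact (S.map E)).1 hSE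
  exact (hfe s).symm

/-- A section of a module killed by a power of `f` vanishes on `D(f)`. -/
theorem res_basicOpen_eq_zero (F : X.Modules) {V : X.Opens} (f : Γ(X, V)) (s : Γ(F, V)) (n : ℕ)
    (h : f ^ n • s = 0) : F.presheaf.map (homOfLE (X.basicOpen_le f)).op s = 0 := by
  have h1 : F.presheaf.map (homOfLE (X.basicOpen_le f)).op (f ^ n • s) = 0 := by
    rw [h, map_zero]
  rw [Scheme.Modules.map_smul] at h1
  have hu : IsUnit (X.presheaf.map (homOfLE (X.basicOpen_le f)).op (f ^ n)) := by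
    rw [map_pow]
    exact (RingedSpace.isUnit_res_basicOpen _ f).pow n
  obtain ⟨w, hw⟩ := hu
  rw [← hw] at h1
  have := congrArg (fun z => (w⁻¹ : (Γ(X, X.basicOpen f))ˣ).1 • z) h1
  simpa [smul_smul] using this

theorem main {U X : Scheme.{u}} (j : U ⟶ X) [IsOpenImmersion j] [QuasiCompact j]
    (F : X.Modules) (hF : Coh.IsQCoh F) (V : X.Opens) (hV : IsAffineOpen V)
    (I : Ideal (X.ringCatSheaf.obj.obj (op V))) (hI : I.FG)
    (hZ : ∀ x : X, x ∈ V → (x ∉ Set.range j.base ↔ ∀ f ∈ I, x ∉ X.basicOpen (f : Γ(X, V))))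
    (s : F.val.obj (op V)) :
    s ∈ Set.range ((((CxOX.gammaZι j).app F).val.app (op V)).hom) ↔ ∃ n : ℕ, ∀ a ∈ I ^ n, a • s = 0 := by
  have : F.IsQuasicoherent := hF
  change s ∈ Set.range (((kernel.ι ((Scheme.Modules.restrictAdjunction j).unit.app F)).val.app
    (op V)).hom) ↔ _
  rw [Aux.mem_range_kernel_ι_iff]
  change F.presheaf.map (homOfLE (j.image_preimage_le V)).op s = 0 ↔ _
  -- the open `W = V ∩ j(U)`
  have hWV : j ''ᵁ (j ⁻¹ᵁ V) ≤ V := j.image_preimage_le V
  have hmemW : ∀ x : X, x ∈ j ''ᵁ (j ⁻¹ᵁ V) ↔ x ∈ V ∧ x ∈ Set.range j.base := by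
    intro x
    constructor
    · rintro ⟨y, hy, rfl⟩
      exact ⟨hy, y, rfl⟩
    · rintro ⟨hx, y, rfl⟩
      exact ⟨y, hx, rfl⟩
  have hDW : ∀ f ∈ I, X.basicOpen (f : Γ(X, V)) ≤ j ''ᵁ (j ⁻¹ᵁ V) := by
    intro f hf x hx
    have hxV : x ∈ V := X.basicOpen_le f hx
    rw [hmemW]
    refine ⟨hxV, ?_⟩
    by_contra hnot
    exact ((hZ x hxV).1 hnot) f hf hx
  constructor
  · intro hs
    -- every `f ∈ I` lies in the radical of the annihilator of `s`
    have hrad : I ≤ @Ideal.radical Γ(X, V) _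
        (Ideal.torsionOf Γ(X, V) (F.val.obj (op V)) s) := by
      intro f hf
      have h0 : F.presheaf.map (homOfLE (X.basicOpen_le (f : Γ(X, V)))).op s = 0 := by
        have hcomp : F.presheaf.map (homOfLE (X.basicOpen_le (f : Γ(X, V)))).op s =
            F.presheaf.map (homOfLE (hDW f hf)).op (F.presheaf.map (homOfLE hWV).op s) := by
          rw [← ConcreteCategory.comp_apply, ← F.presheaf.map_comp]
          rfl
        rw [hcomp, hs, map_zero]
      obtain ⟨n, hn⟩ := Groth.Agent.Lib.Helper2.QCoh.exists_pow_smul_eq_zero hV F f s h0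
      exact ⟨n, (Ideal.mem_torsionOf_iff _ _).2 hn⟩
    obtain ⟨n, hn⟩ := @Ideal.exists_pow_le_of_le_radical_of_fg Γ(X, V) _ I
      (Ideal.torsionOf Γ(X, V) (F.val.obj (op V)) s) hrad hI
    exact ⟨n, fun a ha => (Ideal.mem_torsionOf_iff _ _).1 (hn ha)⟩
  · rintro ⟨n, hn⟩
    -- locally on the cover of `W` by the `D(f)`, `f ∈ I`
    refine TopCat.Sheaf.eq_of_locally_eq' ⟨F.presheaf, F.isSheaf⟩
      (fun f : I => X.basicOpen ((f : X.ringCatSheaf.obj.obj (op V)) : Γ(X, V)))
      (j ''ᵁ (j ⁻¹ᵁ V)) (fun f => homOfLE (hDW f.1 f.2)) ?_ _ 0 ?_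
    · intro x hx
      obtain ⟨hxV, hxj⟩ := (hmemW x).1 hx
      have h1 : ¬ ∀ f ∈ I, x ∉ X.basicOpen (f : Γ(X, V)) := fun h => ((hZ x hxV).2 h) hxj
      push Not at h1
      obtain ⟨f, hf, hxf⟩ := h1
      exact TopologicalSpace.Opens.mem_iSup.mpr ⟨⟨f, hf⟩, hxf⟩
    · intro f
      have h0 := Aux.res_basicOpen_eq_zero F (f.1 : Γ(X, V)) s n (hn _ (Ideal.pow_mem_pow f.2 n))
      change F.presheaf.map (homOfLE (hDW f.1 f.2)).op (F.presheaf.map (homOfLE hWV).op s) =
        F.presheaf.map (homOfLE (hDW f.1 f.2)).op 0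
      rw [map_zero]
      have hcomp : F.presheaf.map (homOfLE (hDW f.1 f.2)).op (F.presheaf.map (homOfLE hWV).op s) =
          F.presheaf.map (homOfLE (X.basicOpen_le (f.1 : Γ(X, V)))).op s := by
        rw [← ConcreteCategory.comp_apply, ← F.presheaf.map_comp]
        rfl
      rw [hcomp]
      exact h0


end Aux

/-- Let X be a scheme, j : U → X a quasi-compact open immersion with closed complement Z, F a
quasi-coherent O_X-module, V an affine open of X and I a finitely generated ideal of Γ(V, O_X)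
cutting out Z ∩ V (a point of V lies outside U if and only if it lies in no basic open X_f with f ∈
I). Then a section s of F over V belongs to the subsheaf Γ_Z(F) of sections supported in Z (the
kernel of F → j_*(F|_U)) if and only if I^n s = 0 for some n. -/
theorem result {U X : Scheme.{u}} (j : U ⟶ X) [IsOpenImmersion j] [QuasiCompact j]
    (F : X.Modules) (hF : Coh.IsQCoh F) (V : X.Opens) (hV : IsAffineOpen V)
    (I : Ideal (X.ringCatSheaf.obj.obj (op V))) (hI : I.FG)
    (hZ : ∀ x : X, x ∈ V → (x ∉ Set.range j.base ↔ ∀ f ∈ I, x ∉ X.basicOpen (f : Γ(X, V))))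
    (s : F.val.obj (op V)) :
    s ∈ Set.range ((((CxOX.gammaZι j).app F).val.app (op V)).hom) ↔ ∃ n : ℕ, ∀ a ∈ I ^ n, a • s = 0 := by
  exact Aux.main j F hF V hV I hI hZ s

end Groth.Agent.S12903
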