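import Groth.Statements.S12905
import Groth.Agent.R2.H82Regularity2

set_option autoImplicit false
universe u
open CategoryTheory CategoryTheory.Limits AlgebraicGeometry
open Variety

namespace Groth.Agent.S12905

/-- Let k be a field and φ : F' → F a monomorphism of coherent modules on P^n_k whose cokernel has
support of Krull dimension at most zero (a finite set of closed points, possibly empty). If F' is
m-regular then F is m-regular. (The published statement is the case of an ideal sheaf contained in
the ideal sheaf of a curve with quotient supported at finitely many points, phrased as an inequality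
of regularities; the argument gives the form stated here.) -/
theorem result (k : Type u) [Field k] (n : ℕ)
    (F' F : (CohB1.ProjSpace n k).Modules) (hF' : Coh.IsCoh F') (hF : Coh.IsCoh F) (φ : F' ⟶ F) [Mono φ]
    (hsupp : topologicalKrullDim (CohB1.support (cokernel φ)) ≤ 0) (m : ℤ)
    (h : Curv2.IsMRegular k n F' m) : Curv2.IsMRegular k n F m := by
  intro i hi1 hin
  have hL := Groth.Agent.R2.H79.TwistCalc.isInvertible_twistProjSpace n k (m - i)
  have hS' := Groth.Agent.R2.H82.Regularity.shortExact_twist _ hL
    (Groth.Agent.R2.H82.Regularity.shortExact_cokernel φ)
  exact Groth.Agent.R2.H82.Regularity.subsingleton_HH_X₂ hS' i (h i hi1 hin)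
    (Groth.Agent.R2.H82.Regularity.subsingleton_HH_twist_of_supportDim_le_zero n k _
      (Groth.Agent.R2.H12.Dev.isCoh_cokernel hF' hF φ) hsupp (m - i) i hi1)

end Groth.Agent.S12905
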