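import Groth.Statements.S12940
import Groth.Agent.R2.H59DiagProps
import Groth.Agent.S9900

set_option autoImplicit false
universe u
open CategoryTheory AlgebraicGeometry
open AlgSt

namespace Groth.Agent.S12940


open CategoryTheory.Limits Opposite

open Groth.Agent.Lib.Helper17 Groth.Agent.Lib.Helper15PshFib in
/-- The functor of an isomorphism of sheaves is an equivalence over the base. -/
theorem isEquivOver_ofSpMap_of_iso {S : Scheme.{u}} {F G : AlgSp.Sp S} (i : F ≅ G) :
    FibCat.IsEquivOver (AlgSt.ofSpMap i.hom) := by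
  refine ⟨AlgSt.ofSpMap i.inv, ⟨pshIsoOfSecEq (fun c => ?_)⟩, ⟨pshIsoOfSecEq (fun c => ?_)⟩⟩
  · unfold pshSec
    refine (psh_map_id_op F.obj _).trans (Eq.trans ?_ (psh_map_id_op F.obj _).symm)
    exact congrArg (fun t => t.hom.app (op c.base) c.sec) i.hom_inv_id
  · unfold pshSec
    refine (psh_map_id_op G.obj _).trans (Eq.trans ?_ (psh_map_id_op G.obj _).symm)
    exact congrArg (fun t => t.hom.app (op c.base) c.sec) i.inv_hom_id

open Groth.Agent.R2.H59.KeyDiag Groth.Agent.R2.H59.DiagProps Groth.Agent.R2.H59.Cancel2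
  Groth.Agent.Lib.Helper17 Groth.Agent.Lib.Helper15DiagRepSp in
/-- If a morphism f of algebraic stacks is representable by algebraic spaces, then its diagonal is
representable by schemes: every base change of the diagonal to a scheme is (equivalent over the base
to the slice category of) a scheme. -/
theorem result
    (S : Scheme.{u}) (𝒳 : AlgSt.Cat S) (𝒴 : AlgSt.Cat S)
    (h𝒳 : AlgSt.IsAlgStack Scheme.fppfPrecoverage 𝒳)
    (h𝒴 : AlgSt.IsAlgStack Scheme.fppfPrecoverage 𝒴)
    (f : 𝒳 ⥤ᵇ 𝒴)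
    (hf : AlgSt.RepByAlgSp1 f) :
    FibCat.IsRepresentable1 (FibCat.diag f) := by
  have hq : AlgSt.RepByAlgSpWith
      (fun _ _ m => AlgSp.RepWith (⊤ : MorphismProperty Scheme.{u}) (pullback.diagonal m)) f := by
    intro U y
    obtain ⟨F, e, he⟩ := hf U y
    refine ⟨F, e, he, ?_⟩
    have hrep := (Groth.Agent.S9900.result (X := F)
      (Y := ⟨(AlgSp.yon S).obj U, AlgSp.IsAlgSpace.yon_obj U⟩)
      (ObjectProperty.homMk (AlgSt.spMapOfOver (BasedFunctor.comp e (FibCat.fpFst y f))))).1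
    exact (AlgSp.repWith_iff _ _).2 ⟨hrep, fun _ _ _ _ _ _ => trivial⟩
  have hd := repByAlgSpWith_diag_of_repByAlgSpWith_diagonal
    (AlgSp.RepWith (⊤ : MorphismProperty Scheme.{u})) (bcStable_repWith _) f hq
  intro U t
  obtain ⟨W, e, he, hm⟩ := hd U t
  have hrep : AlgSp.Representable (AlgSt.spMapOfOver (BasedFunctor.comp e (FibCat.fpFst t (FibCat.diag f)))) :=
    ((AlgSp.repWith_iff _ _).1 hm).1
  obtain ⟨V, snd, fst, sq⟩ := hrep (𝟙 ((AlgSp.yon S).obj U))
  have hiso : IsIso fst := sq.isIso_fst_of_isIso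
  let i : (AlgSp.yon S).obj V ≅ W.obj := asIso fst
  obtain ⟨e', he', -, -⟩ := IsEquivOver.exists_inverse_isEquivOver' e he
  have h1 : FibCat.IsEquivOver (AlgSt.ofSpMap i.inv) := isEquivOver_ofSpMap_of_iso i.symm
  exact ⟨V, BasedFunctor.comp e' (BasedFunctor.comp (AlgSt.ofSpMap i.inv) (AlgSt.toOverCat V)),
    IsEquivOver.comp _ _ he' (IsEquivOver.comp _ _ h1 (isEquivOver_toOverCat V))⟩

end Groth.Agent.S12940
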