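import Groth.Statements.S12943
import Groth.Agent.R2.H59DiagProps
import Groth.Agent.S10277
import Groth.Agent.S10280

set_option autoImplicit false
universe u
open CategoryTheory AlgebraicGeometry
open AlgSt

namespace Groth.Agent.S12943


open Groth.Agent.R2.H59.KeyDiag Groth.Agent.R2.H59.DiagProps Groth.Agent.R2.H59.Cancel2 in
/-- For a morphism f of algebraic stacks that is representable by algebraic spaces, the following are
equivalent: f is separated (every base change to a scheme is a separated morphism of algebraic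
spaces); the diagonal of f is a closed immersion; the diagonal of f is proper; the diagonal of f is
universally closed. -/
theorem result
    (S : Scheme.{u}) (𝒳 : AlgSt.Cat S) (𝒴 : AlgSt.Cat S)
    (h𝒳 : AlgSt.IsAlgStack Scheme.fppfPrecoverage 𝒳)
    (h𝒴 : AlgSt.IsAlgStack Scheme.fppfPrecoverage 𝒴)
    (f : 𝒳 ⥤ᵇ 𝒴)
    (hf : AlgSt.RepByAlgSp1 f) :
    [AlgSt.RepByAlgSpWith AlgSp.IsSeparatedMor f, AlgSt.IsClosedImm (FibCat.diag f),
      AlgSt.IsSeparatedMor f, AlgSt.RepByAlgSpWith AlgSp.IsUnivClosedMor (FibCat.diag f)].TFAE := by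
  tfae_have 1 → 2 := fun h =>
    repByAlgSpWith_diag_of_repByAlgSpWith_diagonal (AlgSp.RepWith @IsClosedImmersion)
      (bcStable_repWith _) f h
  tfae_have 2 → 3 := fun h =>
    repByAlgSpWith_mono' (FibCat.diag f) h (fun F U m hm =>
      Groth.Agent.S10277.result (X := F) (Y := ⟨(AlgSp.yon S).obj U, AlgSp.IsAlgSpace.yon_obj U⟩)
        (ObjectProperty.homMk m) hm)
  tfae_have 3 → 4 := fun h =>
    repByAlgSpWith_mono' (FibCat.diag f) h (fun F U m hm => hm.2.2)
  tfae_have 4 → 1 := fun h => by
    have h1 := repByAlgSpWith_diagonal_of_repByAlgSpWith_diag AlgSp.IsUnivClosedMor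
      bcStable_isUnivClosedMor isLocalOnBase_fppf_isUnivClosedMor f hf h
    exact repByAlgSpWith_mono' f h1 (fun F U m hm =>
      ((Groth.Agent.S10280.result (X := F)
        (Y := ⟨(AlgSp.yon S).obj U, AlgSp.IsAlgSpace.yon_obj U⟩) (ObjectProperty.homMk m)).1).2 hm)
  tfae_finish

end Groth.Agent.S12943
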