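import Groth.Statements.S12944
import Groth.Agent.R2.H59DiagProps
import Groth.Agent.S9912
import Groth.Agent.S9900
import Groth.Agent.S12939

set_option autoImplicit false
universe u
open CategoryTheory AlgebraicGeometry
open AlgSt

namespace Groth.Agent.S12944


open CategoryTheory.Limits

section Aux

variable {S : Scheme.{u}}

/-- A map from an algebraic space to a scheme which is representable and quasi-compact (in the
representable sense) is quasi-compact. -/
theorem isQuasiCompactMor_of_repWith' (F : AlgSp.Space S) (U : Over S)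
    (m : F.obj ⟶ (AlgSp.yon S).obj U) (hm : AlgSp.RepWith @QuasiCompact m) :
    AlgSp.IsQuasiCompactMor m :=
  (Groth.Agent.S9912.result (X := F) (Y := ⟨(AlgSp.yon S).obj U, AlgSp.IsAlgSpace.yon_obj U⟩)
    (ObjectProperty.homMk m) ((AlgSp.repWith_iff _ _).1 hm).1).1 hm

/-- If the diagonal of a map from an algebraic space to a scheme is quasi-compact, the map is
quasi-separated. -/
theorem isQuasiSeparatedMor_of_isQuasiCompactMor_diagonal (F : AlgSp.Space S) (U : Over S)
    (m : F.obj ⟶ (AlgSp.yon S).obj U) (hm : AlgSp.IsQuasiCompactMor (pullback.diagonal m)) :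
    AlgSp.IsQuasiSeparatedMor m := by
  have hW : AlgSp.IsAlgSpace (pullback m m) :=
    Groth.Agent.S9874.isAlgSpace_of_isPullback (AlgSp.IsAlgSpace.yon_obj U).diag F.property
      F.property (IsPullback.of_hasPullback _ _)
  have hrep := (Groth.Agent.S9900.result (X := F)
    (Y := ⟨(AlgSp.yon S).obj U, AlgSp.IsAlgSpace.yon_obj U⟩) (ObjectProperty.homMk m)).1
  exact (Groth.Agent.S9912.result (X := F) (Y := ⟨pullback m m, hW⟩)
    (ObjectProperty.homMk (pullback.diagonal m)) hrep).2 hm

end Aux

open Groth.Agent.R2.H59.KeyDiag Groth.Agent.R2.H59.DiagProps Groth.Agent.R2.H59.Cancel2 in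
/-- For a morphism f of algebraic stacks that is representable by algebraic spaces, these three
conditions coincide: f is quasi-separated (every base change to a scheme is a quasi-separated
morphism of algebraic spaces); the diagonal of f is quasi-compact; the diagonal of f is of finite
type. -/
theorem result
    (S : Scheme.{u}) (𝒳 : AlgSt.Cat S) (𝒴 : AlgSt.Cat S)
    (h𝒳 : AlgSt.IsAlgStack Scheme.fppfPrecoverage 𝒳)
    (h𝒴 : AlgSt.IsAlgStack Scheme.fppfPrecoverage 𝒴)
    (f : 𝒳 ⥤ᵇ 𝒴)
    (hf : AlgSt.RepByAlgSp1 f) :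
    [AlgSt.RepByAlgSpWith AlgSp.IsQuasiSeparatedMor f,
      AlgSt.RepByAlgSpWith AlgSp.IsQuasiCompactMor (FibCat.diag f),
      AlgSt.RepByAlgSpWith AlgSp.IsFiniteTypeMor (FibCat.diag f)].TFAE := by
  tfae_have 1 → 2 := fun h => by
    have h1 := repByAlgSpWith_diag_of_repByAlgSpWith_diagonal (AlgSp.RepWith @QuasiCompact)
      (bcStable_repWith _) f h
    exact repByAlgSpWith_mono' (FibCat.diag f) h1 isQuasiCompactMor_of_repWith'
  tfae_have 2 → 3 := fun h => by
    intro U y
    obtain ⟨F, e, he, hqc⟩ := h U y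
    exact ⟨F, e, he, prop_of_rep _ Groth.Agent.Lib.Helper15DiagLft.bcStable_lft (FibCat.diag f)
      (Groth.Agent.S12939.result S 𝒳 𝒴 h𝒳 h𝒴 f) y F e he, hqc⟩
  tfae_have 3 → 1 := fun h => by
    have h0 : AlgSt.RepByAlgSpWith AlgSp.IsQuasiCompactMor (FibCat.diag f) :=
      repByAlgSpWith_mono' (FibCat.diag f) h (fun F U m hm => hm.2)
    have h1 := repByAlgSpWith_diagonal_of_repByAlgSpWith_diag AlgSp.IsQuasiCompactMor
      bcStable_isQuasiCompactMor isLocalOnBase_fppf_isQuasiCompactMor f hf h0
    exact repByAlgSpWith_mono' f h1 isQuasiSeparatedMor_of_isQuasiCompactMor_diagonal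
  tfae_finish

end Groth.Agent.S12944
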