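import Groth.Statements.S12945
import Groth.Agent.R2.H59DiagProps
import Groth.Agent.S12944
import Groth.Agent.S12942

set_option autoImplicit false
universe u
open CategoryTheory AlgebraicGeometry
open AlgSt

namespace Groth.Agent.S12945


open CategoryTheory.Limits

theorem repWith_mono {S : Scheme.{u}} {P P' : MorphismProperty Scheme.{u}} (h : P ≤ P')
    {F G : AlgSp.Sp S} (f : F ⟶ G) (hf : AlgSp.RepWith P f) : AlgSp.RepWith P' f :=
  MorphismProperty.relative_monotone
    (P := P.inverseImage (Over.forget S)) (P' := P'.inverseImage (Over.forget S))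
    (fun (X Y : Over S) (g : X ⟶ Y) hg => h g.left hg) _ hf

theorem isQuasiSeparatedMor_of_isSeparatedMor {S : Scheme.{u}} {F G : AlgSp.Sp S} (m : F ⟶ G)
    (hm : AlgSp.IsSeparatedMor m) : AlgSp.IsQuasiSeparatedMor m :=
  repWith_mono (P := @IsClosedImmersion) (P' := @QuasiCompact)
    (fun _ _ g (hg : IsClosedImmersion g) => (inferInstance : QuasiCompact g))
    (pullback.diagonal m) hm

open Groth.Agent.R2.H59.KeyDiag Groth.Agent.R2.H59.DiagProps Groth.Agent.R2.H59.Cancel2 in
/-- For a morphism f of algebraic stacks that is representable by algebraic spaces, f is quasi-separated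
in the sense of stacks (diagonal quasi-compact and quasi-separated) if and only if every base change
of f to a scheme is a quasi-separated morphism of algebraic spaces. (For such f the diagonal is
separated, so the two notions of quasi-separated agree.) -/
theorem result
    (S : Scheme.{u}) (𝒳 : AlgSt.Cat S) (𝒴 : AlgSt.Cat S)
    (h𝒳 : AlgSt.IsAlgStack Scheme.fppfPrecoverage 𝒳)
    (h𝒴 : AlgSt.IsAlgStack Scheme.fppfPrecoverage 𝒴)
    (f : 𝒳 ⥤ᵇ 𝒴)
    (hf : AlgSt.RepByAlgSp1 f) :
    AlgSt.IsQuasiSeparatedMor f ↔ AlgSt.RepByAlgSpWith AlgSp.IsQuasiSeparatedMor f := by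
  have tfae := Groth.Agent.S12944.result S 𝒳 𝒴 h𝒳 h𝒴 f hf
  constructor
  · intro h
    have h0 : AlgSt.RepByAlgSpWith AlgSp.IsQuasiCompactMor (FibCat.diag f) :=
      repByAlgSpWith_mono' (FibCat.diag f) h (fun F U m hm => hm.1)
    exact (tfae.out 1 0).1 h0
  · intro h
    have h0 : AlgSt.RepByAlgSpWith AlgSp.IsQuasiCompactMor (FibCat.diag f) := (tfae.out 0 1).1 h
    have hsep : AlgSt.RepByAlgSpWith AlgSp.IsSeparatedMor (FibCat.diag f) :=
      Groth.Agent.S12942.result S 𝒳 𝒴 h𝒳 h𝒴 f hf
    have hqs : AlgSt.RepByAlgSpWith AlgSp.IsQuasiSeparatedMor (FibCat.diag f) :=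
      repByAlgSpWith_mono' (FibCat.diag f) hsep (fun F U m hm =>
        isQuasiSeparatedMor_of_isSeparatedMor m hm)
    intro U y
    obtain ⟨F, e, he, hqc⟩ := h0 U y
    exact ⟨F, e, he, hqc, prop_of_rep _ bcStable_isQuasiSeparatedMor (FibCat.diag f) hqs y F e he⟩

end Groth.Agent.S12945
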