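import Groth.Statements.S12958
import Groth.Agent.R2.H59Cancel2
import Groth.Agent.S10275
import Groth.Agent.S10278

set_option autoImplicit false
universe u
open CategoryTheory AlgebraicGeometry
open AlgSt

namespace Groth.Agent.S12958

open Groth.Agent.Lib.Helper15DiagLft Groth.Agent.R2.H59.Cancel2 in
/-- Proper morphisms of algebraic spaces are stable under base change (`BCStable` form). -/
theorem bcStable_isProperMor {S : Scheme.{u}} : BCStable (AlgSp.IsProperMor (S := S)) := by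
  intro X₁ Y₁ X₂ Y₂ hX₁ hY₁ hX₂ hY₂ a b a' b' sq h
  exact Groth.Agent.S10275.result (X := ⟨X₁, hX₁⟩) (Y := ⟨Y₁, hY₁⟩) (Y' := ⟨Y₂, hY₂⟩)
    (X' := ⟨X₂, hX₂⟩) (ObjectProperty.homMk a) (ObjectProperty.homMk b) (ObjectProperty.homMk b')
    (ObjectProperty.homMk a') sq h

/-- If the composite of f : 𝒳 → 𝒴 and g : 𝒴 → 𝒵 (morphisms of algebraic stacks) is separated and the
diagonal of g is separated (as a morphism representable by algebraic spaces), then f is separated. -/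
theorem result
    (S : Scheme.{u}) (𝒳 : AlgSt.Cat S) (𝒴 : AlgSt.Cat S) (𝒵 : AlgSt.Cat S)
    (h𝒳 : AlgSt.IsAlgStack Scheme.fppfPrecoverage 𝒳)
    (h𝒴 : AlgSt.IsAlgStack Scheme.fppfPrecoverage 𝒴)
    (h𝒵 : AlgSt.IsAlgStack Scheme.fppfPrecoverage 𝒵)
    (f : 𝒳 ⥤ᵇ 𝒴) (g : 𝒴 ⥤ᵇ 𝒵) :
    AlgSt.IsSeparatedMor (BasedFunctor.comp f g) →
      AlgSt.RepByAlgSpWith AlgSp.IsSeparatedMor (FibCat.diag g) → AlgSt.IsSeparatedMor f := by
  intro hfg hg
  refine Groth.Agent.R2.H59.Cancel2.repByAlgSpWith_diag_of_diag_comp₂ AlgSp.IsProperMor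
    AlgSp.IsSeparatedMor bcStable_isProperMor Groth.Agent.R2.H59.Cancel2.bcStable_isSeparatedMor
    ?_ f g hg hfg
  intro X Y Z hX hY hZ a b hb hab
  exact (Groth.Agent.S10278.result (X := ⟨X, hX⟩) (Y := ⟨Y, hY⟩) (B := ⟨Z, hZ⟩)
    (ObjectProperty.homMk a) (ObjectProperty.homMk (a ≫ b)) (ObjectProperty.homMk b) rfl hb).2 hab

end Groth.Agent.S12958
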