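import Groth.Statements.S12959
import Groth.Agent.R2.H59Cancel2
import Groth.Agent.Lib.Helper15QsComp
import Groth.Agent.Lib.Helper15ImmQc
import Groth.Agent.S9912
import Groth.Agent.S9874

set_option autoImplicit false
universe u
open CategoryTheory AlgebraicGeometry
open AlgSt

namespace Groth.Agent.S12959

open CategoryTheory.Limits

section Sp

variable {S : Scheme.{u}}

/-- If `a ≫ b` is quasi-separated then so is `a` (for maps of fppf sheaves). -/
theorem isQuasiSeparatedMor_of_comp {X Y Z : AlgSp.Sp S} (a : X ⟶ Y) (b : Y ⟶ Z)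
    (h : AlgSp.IsQuasiSeparatedMor (a ≫ b)) : AlgSp.IsQuasiSeparatedMor a := by
  have hpc : (AlgSp.RepWith (S := S) @QuasiCompact).diagonal.HasOfPostcompProperty ⊤ := by
    rw [MorphismProperty.hasOfPostcompProperty_iff_le_diagonal]
    intro A B f _
    change AlgSp.RepWith @QuasiCompact (pullback.diagonal (pullback.diagonal f))
    have : IsIso (pullback.diagonal (pullback.diagonal f)) :=
      (pullback.isIso_diagonal_iff _).2 inferInstance
    exact MorphismProperty.of_isIso _ _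
  exact hpc.of_postcomp a b trivial h

/-- If `a ≫ b` is quasi-compact and `b` is quasi-separated then `a` is quasi-compact (for maps of
algebraic spaces). -/
theorem isQuasiCompactMor_of_comp {X Y Z : AlgSp.Sp S} (hX : AlgSp.IsAlgSpace X)
    (hY : AlgSp.IsAlgSpace Y) (hZ : AlgSp.IsAlgSpace Z) (a : X ⟶ Y) (b : Y ⟶ Z)
    (hb : AlgSp.IsQuasiSeparatedMor b) (h : AlgSp.IsQuasiCompactMor (a ≫ b)) :
    AlgSp.IsQuasiCompactMor a := by
  have hW : AlgSp.IsAlgSpace (pullback (a ≫ b) b) :=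
    Groth.Agent.S9874.isAlgSpace_of_isPullback hZ.diag hX hY (IsPullback.of_hasPullback _ _)
  have sqΓ := pullback_lift_diagonal_isPullback a b
  have hΓ : AlgSp.RepWith @QuasiCompact
      (pullback.lift (𝟙 X) a (by simp) : X ⟶ pullback (a ≫ b) b) :=
    MorphismProperty.of_isPullback (P := AlgSp.RepWith @QuasiCompact) sqΓ hb
  have hΓ' : AlgSp.IsQuasiCompactMor
      (pullback.lift (𝟙 X) a (by simp) : X ⟶ pullback (a ≫ b) b) :=
    (Groth.Agent.S9912.result (X := ⟨X, hX⟩) (Y := ⟨pullback (a ≫ b) b, hW⟩)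
      (ObjectProperty.homMk (pullback.lift (𝟙 X) a (by simp)))
      ((AlgSp.repWith_iff _ _).1 hΓ).1).1 hΓ
  have hsnd : AlgSp.IsQuasiCompactMor (pullback.snd (a ≫ b) b) :=
    Groth.Agent.Lib.Helper15ImmQc.isQuasiCompactMor_of_isPullback
      (IsPullback.of_hasPullback (a ≫ b) b) h
  have e1 : a = (pullback.lift (𝟙 X) a (by simp) : X ⟶ pullback (a ≫ b) b) ≫
      pullback.snd (a ≫ b) b := by
    rw [pullback.lift_snd]
  rw [e1]
  exact Groth.Agent.Lib.Helper15QsComp.isQuasiCompactMor_comp hY hW _ _ hΓ' hsnd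

open Groth.Agent.Lib.Helper15DiagLft in
theorem bcStable_qcqs :
    BCStable (AlgSp.IsQuasiCompactMor (S := S) ⊓ AlgSp.IsQuasiSeparatedMor) := by
  intro X₁ Y₁ X₂ Y₂ hX₁ hY₁ hX₂ hY₂ a b a' b' sq h
  exact ⟨Groth.Agent.Lib.Helper15ImmQc.isQuasiCompactMor_of_isPullback sq h.1,
    Groth.Agent.R2.H59.Cancel2.bcStable_isQuasiSeparatedMor hX₁ hY₁ hX₂ hY₂ a b a' b' sq h.2⟩

end Sp

/-- If the composite of f : 𝒳 → 𝒴 and g : 𝒴 → 𝒵 (morphisms of algebraic stacks) is quasi-separated and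
the diagonal of g is quasi-separated (as a morphism representable by algebraic spaces), then f is
quasi-separated. -/
theorem result
    (S : Scheme.{u}) (𝒳 : AlgSt.Cat S) (𝒴 : AlgSt.Cat S) (𝒵 : AlgSt.Cat S)
    (h𝒳 : AlgSt.IsAlgStack Scheme.fppfPrecoverage 𝒳)
    (h𝒴 : AlgSt.IsAlgStack Scheme.fppfPrecoverage 𝒴)
    (h𝒵 : AlgSt.IsAlgStack Scheme.fppfPrecoverage 𝒵)
    (f : 𝒳 ⥤ᵇ 𝒴) (g : 𝒴 ⥤ᵇ 𝒵) :
    AlgSt.IsQuasiSeparatedMor (BasedFunctor.comp f g) →
      AlgSt.RepByAlgSpWith AlgSp.IsQuasiSeparatedMor (FibCat.diag g) → AlgSt.IsQuasiSeparatedMor f := by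
  intro hfg hg
  refine Groth.Agent.R2.H59.Cancel2.repByAlgSpWith_diag_of_diag_comp₂
    (AlgSp.IsQuasiCompactMor ⊓ AlgSp.IsQuasiSeparatedMor)
    AlgSp.IsQuasiSeparatedMor bcStable_qcqs Groth.Agent.R2.H59.Cancel2.bcStable_isQuasiSeparatedMor
    ?_ f g hg hfg
  intro X Y Z hX hY hZ a b hb hab
  exact ⟨isQuasiCompactMor_of_comp hX hY hZ a b hb hab.1, isQuasiSeparatedMor_of_comp a b hab.2⟩

end Groth.Agent.S12959
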