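import Groth.Statements.S12972
import Groth.Agent.R2.H59DiagProps
import Groth.Agent.R2.H59Inertia
import Groth.Agent.S10277
import Groth.Agent.S10280

set_option autoImplicit false
universe u
open CategoryTheory AlgebraicGeometry
open AlgSt

namespace Groth.Agent.S12972


open CategoryTheory.Limits

open Groth.Agent.R2.H59.KeyDiag Groth.Agent.R2.H59.DiagProps Groth.Agent.R2.H59.Cancel2
  Groth.Agent.R2.H59.Inertia Groth.Agent.Lib.Helper17 Groth.Agent.Lib.Helper15DiagBase
  Groth.Agent.Lib.Helper15DiagRepSp in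
/-- For a morphism f : 𝒳 → 𝒴 of algebraic stacks the following are equivalent: the relative inertia
𝓘_{𝒳/𝒴} → 𝒳 is separated; the diagonal of f is separated; the neutral section 𝒳 → 𝓘_{𝒳/𝒴} (the
second diagonal) is a closed immersion. All three morphisms are representable by algebraic spaces
and the properties are the ones of such morphisms. -/
theorem result
    (S : Scheme.{u}) (𝒳 : AlgSt.Cat S) (𝒴 : AlgSt.Cat S)
    (h𝒳 : AlgSt.IsAlgStack Scheme.fppfPrecoverage 𝒳)
    (h𝒴 : AlgSt.IsAlgStack Scheme.fppfPrecoverage 𝒴)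
    (f : 𝒳 ⥤ᵇ 𝒴) :
    [AlgSt.RepByAlgSpWith AlgSp.IsSeparatedMor (FibCat.inertiaToBase f),
      AlgSt.RepByAlgSpWith AlgSp.IsSeparatedMor (FibCat.diag f),
      AlgSt.IsClosedImm (FibCat.inertiaNeutral f)].TFAE := by
  have hrepΔ : AlgSt.RepByAlgSp1 (FibCat.diag f) := repByAlgSp1_diag_of_diag f h𝒳.diag h𝒴.diag
  tfae_have 2 → 1 := fun h =>
    (repByAlgSpWith_inertiaToBase_iff _ f).1
      (repByAlgSpWith_fpFst _ (FibCat.diag f) (FibCat.diag f) h)
  tfae_have 1 → 3 := fun h => by
    have hd := repByAlgSpWith_diag_of_repByAlgSpWith_diagonal (AlgSp.RepWith @IsClosedImmersion)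
      (bcStable_repWith _) (FibCat.inertiaToBase f) h
    exact repByAlgSpWith_section (AlgSp.RepWith @IsClosedImmersion) (FibCat.inertiaToBase f)
      (FibCat.inertiaNeutral f) (Iso.refl _) hd
  tfae_have 3 → 2 := fun h => by
    have h1 : AlgSt.RepByAlgSpWith (AlgSp.RepWith @IsClosedImmersion)
        (FibCat.diag (FibCat.diag f)) := (repByAlgSpWith_inertiaNeutral_iff _ f).2 h
    have h2 : AlgSt.RepByAlgSpWith AlgSp.IsUnivClosedMor (FibCat.diag (FibCat.diag f)) :=
      repByAlgSpWith_mono' _ h1 (fun F U m hm =>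
        (Groth.Agent.S10277.result (X := F)
          (Y := ⟨(AlgSp.yon S).obj U, AlgSp.IsAlgSpace.yon_obj U⟩) (ObjectProperty.homMk m) hm).2.2)
    have h3 := repByAlgSpWith_diagonal_of_repByAlgSpWith_diag AlgSp.IsUnivClosedMor
      bcStable_isUnivClosedMor isLocalOnBase_fppf_isUnivClosedMor (FibCat.diag f) hrepΔ h2
    exact repByAlgSpWith_mono' _ h3 (fun F U m hm =>
      ((Groth.Agent.S10280.result (X := F)
        (Y := ⟨(AlgSp.yon S).obj U, AlgSp.IsAlgSpace.yon_obj U⟩) (ObjectProperty.homMk m)).1).2 hm)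
  tfae_finish

end Groth.Agent.S12972
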