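import Groth.Statements.S12973
import Groth.Agent.R2.H59DiagProps
import Groth.Agent.R2.H59Inertia
import Groth.Agent.S12944

set_option autoImplicit false
universe u
open CategoryTheory AlgebraicGeometry
open AlgSt

namespace Groth.Agent.S12973


open CategoryTheory.Limits

open Groth.Agent.R2.H59.KeyDiag Groth.Agent.R2.H59.DiagProps Groth.Agent.R2.H59.Cancel2
  Groth.Agent.R2.H59.Inertia Groth.Agent.Lib.Helper17 Groth.Agent.Lib.Helper15DiagBase
  Groth.Agent.Lib.Helper15DiagRepSp in
/-- For a morphism f : 𝒳 → 𝒴 of algebraic stacks the following are equivalent: the relative inertia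
𝓘_{𝒳/𝒴} → 𝒳 is quasi-separated; the diagonal of f is quasi-separated; the neutral section 𝒳 →
𝓘_{𝒳/𝒴} is quasi-compact. All three morphisms are representable by algebraic spaces and the
properties are the ones of such morphisms. -/
theorem result
    (S : Scheme.{u}) (𝒳 : AlgSt.Cat S) (𝒴 : AlgSt.Cat S)
    (h𝒳 : AlgSt.IsAlgStack Scheme.fppfPrecoverage 𝒳)
    (h𝒴 : AlgSt.IsAlgStack Scheme.fppfPrecoverage 𝒴)
    (f : 𝒳 ⥤ᵇ 𝒴) :
    [AlgSt.RepByAlgSpWith AlgSp.IsQuasiSeparatedMor (FibCat.inertiaToBase f),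
      AlgSt.RepByAlgSpWith AlgSp.IsQuasiSeparatedMor (FibCat.diag f),
      AlgSt.RepByAlgSpWith AlgSp.IsQuasiCompactMor (FibCat.inertiaNeutral f)].TFAE := by
  have hrepΔ : AlgSt.RepByAlgSp1 (FibCat.diag f) := repByAlgSp1_diag_of_diag f h𝒳.diag h𝒴.diag
  tfae_have 2 → 1 := fun h =>
    (repByAlgSpWith_inertiaToBase_iff _ f).1
      (repByAlgSpWith_fpFst _ (FibCat.diag f) (FibCat.diag f) h)
  tfae_have 1 → 3 := fun h => by
    have hd := repByAlgSpWith_diag_of_repByAlgSpWith_diagonal (AlgSp.RepWith @QuasiCompact)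
      (bcStable_repWith _) (FibCat.inertiaToBase f) h
    have hs := repByAlgSpWith_section (AlgSp.RepWith @QuasiCompact) (FibCat.inertiaToBase f)
      (FibCat.inertiaNeutral f) (Iso.refl _) hd
    exact repByAlgSpWith_mono' _ hs Groth.Agent.S12944.isQuasiCompactMor_of_repWith'
  tfae_have 3 → 2 := fun h => by
    have h1 : AlgSt.RepByAlgSpWith AlgSp.IsQuasiCompactMor
        (FibCat.diag (FibCat.diag f)) := (repByAlgSpWith_inertiaNeutral_iff _ f).2 h
    have h3 := repByAlgSpWith_diagonal_of_repByAlgSpWith_diag AlgSp.IsQuasiCompactMor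
      bcStable_isQuasiCompactMor isLocalOnBase_fppf_isQuasiCompactMor (FibCat.diag f) hrepΔ h1
    exact repByAlgSpWith_mono' _ h3
      Groth.Agent.S12944.isQuasiSeparatedMor_of_isQuasiCompactMor_diagonal
  tfae_finish

end Groth.Agent.S12973
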