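import Groth.Statements.S12974
import Groth.Agent.R2.H59KeyDiag
import Groth.Agent.R2.H59Inertia
import Groth.Agent.S10262
import Groth.Agent.S10531

set_option autoImplicit false
universe u
open CategoryTheory AlgebraicGeometry
open AlgSt

namespace Groth.Agent.S12974

/-- For a morphism f : 𝒳 → 𝒴 of algebraic stacks, the relative inertia 𝓘_{𝒳/𝒴} → 𝒳 is unramified if and
only if f is DM. -/
theorem result
    (S : Scheme.{u}) (𝒳 : AlgSt.Cat S) (𝒴 : AlgSt.Cat S)
    (h𝒳 : AlgSt.IsAlgStack Scheme.fppfPrecoverage 𝒳)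
    (h𝒴 : AlgSt.IsAlgStack Scheme.fppfPrecoverage 𝒴)
    (f : 𝒳 ⥤ᵇ 𝒴) :
    AlgSt.RepByAlgSpWith (AlgSp.LocP (@LocallyOfFiniteType ⊓ @FormallyUnramified)) (FibCat.inertiaToBase f) ↔
      AlgSt.IsDMMor f := by
  constructor
  · intro h
    have step1 : AlgSt.RepByAlgSpWith
        (fun _ _ m => AlgSp.RepWith @IsOpenImmersion (Limits.pullback.diagonal m))
        (FibCat.inertiaToBase f) :=
      Groth.Agent.R2.H59.KeyDiag.repByAlgSpWith_mono' _ h (fun F U m hm =>
        (Groth.Agent.S10262.result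
          (ObjectProperty.homMk m : F ⟶ ⟨(AlgSp.yon S).obj U, AlgSp.IsAlgSpace.yon_obj U⟩)).1 hm)
    have step2 : AlgSt.RepByAlgSpWith (AlgSp.RepWith @IsOpenImmersion)
        (FibCat.diag (FibCat.inertiaToBase f)) :=
      Groth.Agent.R2.H59.KeyDiag.repByAlgSpWith_diag_of_repByAlgSpWith_diagonal _
        (Groth.Agent.R2.H59.Cancel2.bcStable_repWith _) _ step1
    have step3 : AlgSt.RepByAlgSpWith (AlgSp.RepWith @IsOpenImmersion) (FibCat.inertiaNeutral f) :=
      Groth.Agent.Lib.Helper15DiagBase.repByAlgSpWith_section _ (FibCat.inertiaToBase f)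
        (FibCat.inertiaNeutral f) (Iso.refl _) step2
    have step4 : AlgSt.RepByAlgSpWith (AlgSp.RepWith @IsOpenImmersion)
        (FibCat.diag (FibCat.diag f)) :=
      (Groth.Agent.R2.H59.Inertia.repByAlgSpWith_inertiaNeutral_iff _ f).2 step3
    have hrep : AlgSt.RepByAlgSp1 (FibCat.diag f) :=
      Groth.Agent.Lib.Helper15DiagRepSp.repByAlgSp1_diag_of_diag f h𝒳.diag h𝒴.diag
    have step5 := Groth.Agent.R2.H59.KeyDiag.repByAlgSpWith_diagonal_of_repByAlgSpWith_diag
      (AlgSp.RepWith @IsOpenImmersion) (Groth.Agent.R2.H59.Cancel2.bcStable_repWith _)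
      (Groth.Agent.Lib.Helper15DiagDescent.isLocalOnBase_fppf_of_fpqc _ (Groth.Agent.S10531.result S))
      (FibCat.diag f) hrep step4
    have hlft := Groth.Agent.Lib.Helper15DiagLft.repByAlgSpWith_lft_diag h𝒳 h𝒴 f
    intro U y
    obtain ⟨F, e, he, hOI⟩ := step5 U y
    have hl := Groth.Agent.R2.H59.KeyDiag.prop_of_rep _
      Groth.Agent.Lib.Helper15DiagLft.bcStable_lft (FibCat.diag f) hlft y F e he
    exact ⟨F, e, he, (Groth.Agent.S10262.result
      (ObjectProperty.homMk (AlgSt.spMapOfOver (BasedFunctor.comp e (FibCat.fpFst y (FibCat.diag f)))) :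
        F ⟶ ⟨(AlgSp.yon S).obj U, AlgSp.IsAlgSpace.yon_obj U⟩)).2 hl hOI⟩
  · intro h
    exact (Groth.Agent.R2.H59.Inertia.repByAlgSpWith_inertiaToBase_iff _ f).1
      (Groth.Agent.Lib.Helper17.repByAlgSpWith_fpFst _ (FibCat.diag f) (FibCat.diag f) h)

end Groth.Agent.S12974
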