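import Groth.Statements.S12979
import Groth.Agent.R2.H59DiagProps
import Groth.Agent.S10280
import Groth.Agent.S9925
import Groth.Agent.S12939

set_option autoImplicit false
universe u
open CategoryTheory AlgebraicGeometry
open AlgSt

namespace Groth.Agent.S12979


open CategoryTheory.Limits

open Groth.Agent.R2.H59.KeyDiag Groth.Agent.R2.H59.DiagProps Groth.Agent.R2.H59.Cancel2 in
/-- If the first and second diagonals of a morphism f of algebraic stacks are both universally closed
(as morphisms representable by algebraic spaces), then f is separated. (The published statement is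
an equivalence; this row states the implication from the two diagonals to separatedness.) -/
theorem result
    (S : Scheme.{u}) (𝒳 : AlgSt.Cat S) (𝒴 : AlgSt.Cat S)
    (h𝒳 : AlgSt.IsAlgStack Scheme.fppfPrecoverage 𝒳)
    (h𝒴 : AlgSt.IsAlgStack Scheme.fppfPrecoverage 𝒴)
    (f : 𝒳 ⥤ᵇ 𝒴) :
    AlgSt.RepByAlgSpWith AlgSp.IsUnivClosedMor (FibCat.diag f) →
      AlgSt.RepByAlgSpWith AlgSp.IsUnivClosedMor (FibCat.diag (FibCat.diag f)) → AlgSt.IsSeparatedMor f := by
  intro h1 h2 U y
  obtain ⟨F, e, he, huc⟩ := h1 U y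
  refine ⟨F, e, he, ?_, ⟨?_, ?_⟩, huc⟩
  · have hd := prop_diagonal_of_repByAlgSpWith_diag AlgSp.IsUnivClosedMor bcStable_isUnivClosedMor
      isLocalOnBase_fppf_isUnivClosedMor (FibCat.diag f) h2 y F e he
    exact ((Groth.Agent.S10280.result (X := F)
      (Y := ⟨(AlgSp.yon S).obj U, AlgSp.IsAlgSpace.yon_obj U⟩) (ObjectProperty.homMk _)).1).2 hd
  · exact prop_of_rep _ Groth.Agent.Lib.Helper15DiagLft.bcStable_lft (FibCat.diag f)
      (Groth.Agent.S12939.result S 𝒳 𝒴 h𝒳 h𝒴 f) y F e he
  · exact Groth.Agent.S9925.result (X := F)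
      (Y := ⟨(AlgSp.yon S).obj U, AlgSp.IsAlgSpace.yon_obj U⟩) (ObjectProperty.homMk _) huc

end Groth.Agent.S12979
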