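import Groth.Statements.S12980
import Groth.Agent.R2.H59DiagProps
import Groth.Agent.S12944

set_option autoImplicit false
universe u
open CategoryTheory AlgebraicGeometry
open AlgSt

namespace Groth.Agent.S12980


open CategoryTheory.Limits

open Groth.Agent.R2.H59.KeyDiag Groth.Agent.R2.H59.DiagProps Groth.Agent.R2.H59.Cancel2 in
/-- A morphism f of algebraic stacks is quasi-separated if and only if its first and second diagonals
are both quasi-compact (as morphisms representable by algebraic spaces). -/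
theorem result
    (S : Scheme.{u}) (𝒳 : AlgSt.Cat S) (𝒴 : AlgSt.Cat S)
    (h𝒳 : AlgSt.IsAlgStack Scheme.fppfPrecoverage 𝒳)
    (h𝒴 : AlgSt.IsAlgStack Scheme.fppfPrecoverage 𝒴)
    (f : 𝒳 ⥤ᵇ 𝒴) :
    AlgSt.IsQuasiSeparatedMor f ↔
      AlgSt.RepByAlgSpWith AlgSp.IsQuasiCompactMor (FibCat.diag f) ∧
        AlgSt.RepByAlgSpWith AlgSp.IsQuasiCompactMor (FibCat.diag (FibCat.diag f)) := by
  constructor
  · intro h
    refine ⟨repByAlgSpWith_mono' (FibCat.diag f) h (fun F U m hm => hm.1), ?_⟩
    have hqs : AlgSt.RepByAlgSpWith AlgSp.IsQuasiSeparatedMor (FibCat.diag f) :=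
      repByAlgSpWith_mono' (FibCat.diag f) h (fun F U m hm => hm.2)
    have h1 := repByAlgSpWith_diag_of_repByAlgSpWith_diagonal (AlgSp.RepWith @QuasiCompact)
      (bcStable_repWith _) (FibCat.diag f) hqs
    exact repByAlgSpWith_mono' (FibCat.diag (FibCat.diag f)) h1
      Groth.Agent.S12944.isQuasiCompactMor_of_repWith'
  · rintro ⟨h1, h2⟩ U y
    obtain ⟨F, e, he, hqc⟩ := h1 U y
    refine ⟨F, e, he, hqc, ?_⟩
    have hd := prop_diagonal_of_repByAlgSpWith_diag AlgSp.IsQuasiCompactMor
      bcStable_isQuasiCompactMor isLocalOnBase_fppf_isQuasiCompactMor (FibCat.diag f) h2 y F e he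
    exact Groth.Agent.S12944.isQuasiSeparatedMor_of_isQuasiCompactMor_diagonal F U _ hd

end Groth.Agent.S12980
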