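import Groth.Statements.S12986
import Groth.Agent.R2.H59FppfCover
import Groth.Agent.Lib.Helper15QcRep
import Groth.Agent.Lib.Helper17MagicRel
import Groth.Agent.Lib.Helper17AlgStEquiv2

set_option autoImplicit false
universe u
open CategoryTheory AlgebraicGeometry
open AlgSt

namespace Groth.Agent.S12986


open Groth.Agent.Lib.Helper17 Groth.Agent.Lib.Helper15Atlas in
/-- If the composite of f : 𝒳 → 𝒴 and g : 𝒴 → 𝒵 (morphisms of algebraic stacks) is quasi-compact and g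
is quasi-separated, then f is quasi-compact. -/
theorem result
    (S : Scheme.{u}) (𝒳 : AlgSt.Cat S) (𝒴 : AlgSt.Cat S) (𝒵 : AlgSt.Cat S)
    (h𝒳 : AlgSt.IsAlgStack Scheme.fppfPrecoverage 𝒳)
    (h𝒴 : AlgSt.IsAlgStack Scheme.fppfPrecoverage 𝒴)
    (h𝒵 : AlgSt.IsAlgStack Scheme.fppfPrecoverage 𝒵)
    (f : 𝒳 ⥤ᵇ 𝒴) (g : 𝒴 ⥤ᵇ 𝒵) :
    AlgSt.IsQuasiCompactMor Scheme.fppfPrecoverage (BasedFunctor.comp f g) → AlgSt.IsQuasiSeparatedMor g → AlgSt.IsQuasiCompactMor Scheme.fppfPrecoverage f := by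
  intro hgf hg 𝒯 h𝒯 hqc t
  have hpre𝒵 := IsStack.isPrestack _ h𝒵.isStack
  have hP : AlgSt.IsAlgStack Scheme.fppfPrecoverage
      (FibCat.fp (BasedFunctor.comp t g) (BasedFunctor.comp f g)) :=
    isAlgStack_fp_of_isPrestack hpre𝒵 h𝒵.diag h𝒯 h𝒳 _ _
  have hPqc : AlgSt.IsQuasiCompact (FibCat.fp (BasedFunctor.comp t g) (BasedFunctor.comp f g)) :=
    hgf 𝒯 h𝒯 hqc (BasedFunctor.comp t g)
  have hYY : AlgSt.IsAlgStack Scheme.fppfPrecoverage (FibCat.fp g g) :=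
    isAlgStack_fp_of_isPrestack hpre𝒵 h𝒵.diag h𝒴 h𝒴 _ _
  have hΔ : AlgSt.RepByAlgSpWith AlgSp.IsQuasiCompactMor (FibCat.diag g) := by
    intro T y
    obtain ⟨F, e, he, hF⟩ := hg T y
    exact ⟨F, e, he, hF.1⟩
  have hΔqc := Groth.Agent.Lib.Helper15QcRep.isQuasiCompactMor_of_rep h𝒴 hYY (FibCat.diag g) hΔ
  have h1 := hΔqc _ hP hPqc (relProd t f g)
  exact isQuasiCompact_of_isEquivOver' (magicRel t f g) (isEquivOver_magicRel t f g) h1

end Groth.Agent.S12986
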