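import Groth.Statements.S12988
import Groth.Agent.R2.H59SelfOver
import Groth.Agent.S12987
import Groth.Agent.S12954
import Groth.Agent.S12955
import Groth.Agent.S12959

set_option autoImplicit false
universe u
open CategoryTheory AlgebraicGeometry
open AlgSt

namespace Groth.Agent.S12988


open Groth.Agent.R2.H59.SelfOver Groth.Agent.Lib.Helper17 Groth.Agent.Lib.Helper15Atlas
  Groth.Agent.Lib.Helper15FpSwap Groth.Agent.Lib.Helper15QsComp Groth.Agent.R2.H59.KeyDiag in
/-- Over a quasi-separated base scheme, a 2-fibre product of algebraic stacks that are quasi-compact and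
quasi-separated over the base scheme is quasi-compact and quasi-separated over the base scheme. (The
published statement is about stacks quasi-compact and quasi-separated over the integers and puts no
condition on the base scheme; this row assumes the base scheme quasi-separated and uses
quasi-separatedness over it. Without quasi-separatedness of the base the quasi-compactness
conclusion fails: for the base glued from two copies of infinite-dimensional affine space along the
complement of the origin, the two copies are quasi-compact and quasi-separated over the base while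
their fibre product over the base is that complement, which is not quasi-compact.) -/
theorem result
    (S : Scheme.{u}) [QuasiSeparatedSpace S] (𝒳 : AlgSt.Cat S) (𝒴 : AlgSt.Cat S) (𝒵 : AlgSt.Cat S)
    (h𝒳 : AlgSt.IsAlgStack Scheme.fppfPrecoverage 𝒳)
    (h𝒴 : AlgSt.IsAlgStack Scheme.fppfPrecoverage 𝒴)
    (h𝒵 : AlgSt.IsAlgStack Scheme.fppfPrecoverage 𝒵)
    (a : 𝒳 ⥤ᵇ 𝒴) (b : 𝒵 ⥤ᵇ 𝒴) :
    AlgSt.IsQuasiCompact 𝒳 → AlgSt.IsQuasiSeparatedOver 𝒳 →
      AlgSt.IsQuasiCompact 𝒴 → AlgSt.IsQuasiSeparatedOver 𝒴 →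
      AlgSt.IsQuasiCompact 𝒵 → AlgSt.IsQuasiSeparatedOver 𝒵 →
      AlgSt.IsQuasiCompact (FibCat.fp a b) ∧ AlgSt.IsQuasiSeparatedOver (FibCat.fp a b) := by
  intro hqc𝒳 hqs𝒳 hqc𝒴 hqs𝒴 hqc𝒵 hqs𝒵
  have hpre𝒴 := IsStack.isPrestack _ h𝒴.isStack
  have hfp : AlgSt.IsAlgStack Scheme.fppfPrecoverage (FibCat.fp a b) :=
    isAlgStack_fp_of_isPrestack hpre𝒴 h𝒴.diag h𝒳 h𝒵 a b
  constructor
  · have ha := Groth.Agent.S12987.result S 𝒳 𝒴 h𝒳 h𝒴 a hqc𝒳 hqs𝒴
    have h1 : AlgSt.IsQuasiCompact (FibCat.fp b a) := ha 𝒵 h𝒵 hqc𝒵 b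
    exact isQuasiCompact_of_isEquivOver _ (isEquivOver_fpSwap b a) h1
  · have hΔ : AlgSt.RepByAlgSpWith AlgSp.IsQuasiSeparatedMor (FibCat.diag (FibCat.toSelf 𝒴)) :=
      repByAlgSpWith_mono' _ hqs𝒴 (fun _ _ _ h => h.2)
    have hb : AlgSt.IsQuasiSeparatedMor b := by
      refine Groth.Agent.S12959.result S 𝒵 𝒴 (FibCat.selfOver (Over S)) h𝒵 h𝒴 isAlgStack_selfOver b
        (FibCat.toSelf 𝒴) ?_ hΔ
      rw [comp_toSelf]
      exact hqs𝒵
    have h3 : AlgSt.IsQuasiSeparatedMor (FibCat.fpFst a b) :=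
      Groth.Agent.S12954.result S 𝒵 𝒴 𝒳 h𝒵 h𝒴 h𝒳 b a hb
    have h4 := Groth.Agent.S12955.result S (FibCat.fp a b) 𝒳 (FibCat.selfOver (Over S)) hfp h𝒳
      isAlgStack_selfOver (FibCat.fpFst a b) (FibCat.toSelf 𝒳) h3 hqs𝒳
    rw [comp_toSelf] at h4
    exact h4

end Groth.Agent.S12988
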