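import Groth.Statements.S13000
import Groth.Agent.R2.H59LocQDesc
import Groth.Agent.S10526

set_option autoImplicit false
universe u
open CategoryTheory AlgebraicGeometry
open AlgSt

namespace Groth.Agent.S13000

open Groth.Agent.R2.H59.LocQDesc Groth.Agent.R2.H59.FppfCover Groth.Agent.Lib.Helper15LocQRep
  Groth.Agent.Lib.Helper15LocQProps Groth.Agent.Lib.Helper15PtsComp Groth.Agent.Lib.Helper15PtsTop
  Groth.Agent.Lib.Helper15Descent Groth.Agent.Lib.Helper15DiagDescent Groth.Agent.Lib.Helper15SrcCancel in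
/-- Let f : 𝒳 → 𝒴 be a morphism of algebraic stacks and W → 𝒴 a surjective, flat, locally finitely
presented morphism whose source is an algebraic space. Whenever the projection to W from W ×_𝒴 𝒳 is
locally of finite type, so is f. -/
theorem result
    (S : Scheme.{u}) (𝒳 : AlgSt.Cat S) (𝒴 : AlgSt.Cat S)
    (h𝒳 : AlgSt.IsAlgStack Scheme.fppfPrecoverage 𝒳)
    (h𝒴 : AlgSt.IsAlgStack Scheme.fppfPrecoverage 𝒴)
    (f : 𝒳 ⥤ᵇ 𝒴)
    (W : AlgSp.Space S) (w : AlgSt.ofSp W.obj ⥤ᵇ 𝒴)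
    (hw₁ : AlgSt.RepByAlgSpWith (AlgSp.LocP @Flat) w)
    (hw₂ : AlgSt.RepByAlgSpWith (AlgSp.LocP @LocallyOfFinitePresentation) w)
    (hw₃ : AlgSt.RepByAlgSpWith AlgSp.IsSurjectiveMor w) :
    AlgSt.LocQ (AlgSp.LocP @LocallyOfFiniteType) (FibCat.fpFst w f) → AlgSt.LocQ (AlgSp.LocP @LocallyOfFiniteType) f := by
  have hW := isAlgStack_ofSp W
  exact locQ_of_locQ_fpFst_of_fppf _ isSmoothLocalST_lft
    (isLocalOnBase_fppf_of_fpqc _ (Groth.Agent.S10526.result S)) h𝒳 h𝒴 hW f w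
    (locQ_of_repByAlgSpWith _ isSmoothLocalST_flat hW h𝒴 w hw₁)
    (locQ_of_repByAlgSpWith _ isSmoothLocalST_lfp hW h𝒴 w hw₂)
    ((isSurjective_iff_repByAlgSpWith hW h𝒴 w (repByAlgSp1_of_repByAlgSpWith _ _ hw₃)).2 hw₃)

end Groth.Agent.S13000
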