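import Groth.Statements.S13001
import Groth.Agent.R2.H59FlatDesc
import Groth.Agent.Lib.Helper15GoodComp
import Groth.Agent.S5938

set_option autoImplicit false
universe u
open CategoryTheory AlgebraicGeometry
open AlgSt

namespace Groth.Agent.S13001

open Groth.Agent.R2.H59.FlatDesc Groth.Agent.Lib.Helper15GoodComp Groth.Agent.Lib.Helper15LocQEngine
  Groth.Agent.Lib.Helper15LocQProps Groth.Agent.Lib.Helper15LocEss Groth.Agent.Lib.Helper15LocQRep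
  Groth.Agent.Lib.Helper15PtsComp Groth.Agent.Lib.Helper15SrcCancel Groth.Agent.Lib.Helper15LocQ in
/-- Let 𝒳 → 𝒴 → 𝒵 be morphisms of algebraic stacks with 𝒳 → 𝒵 locally of finite type and with 𝒳 → 𝒴
flat, surjective, locally of finite presentation and representable by algebraic spaces. In this
situation 𝒴 → 𝒵 is also locally of finite type. -/
theorem result
    (S : Scheme.{u}) (𝒳 : AlgSt.Cat S) (𝒴 : AlgSt.Cat S) (𝒵 : AlgSt.Cat S)
    (h𝒳 : AlgSt.IsAlgStack Scheme.fppfPrecoverage 𝒳)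
    (h𝒴 : AlgSt.IsAlgStack Scheme.fppfPrecoverage 𝒴)
    (h𝒵 : AlgSt.IsAlgStack Scheme.fppfPrecoverage 𝒵)
    (f : 𝒳 ⥤ᵇ 𝒴) (g : 𝒴 ⥤ᵇ 𝒵)
    (hf₁ : AlgSt.RepByAlgSpWith (AlgSp.LocP @Flat) f)
    (hf₂ : AlgSt.RepByAlgSpWith (AlgSp.LocP @LocallyOfFinitePresentation) f)
    (hf₃ : AlgSt.RepByAlgSpWith AlgSp.IsSurjectiveMor f) :
    AlgSt.LocQ (AlgSp.LocP @LocallyOfFiniteType) (BasedFunctor.comp f g) → AlgSt.LocQ (AlgSp.LocP @LocallyOfFiniteType) g := by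
  intro hfg
  have hf₁' := locQ_of_repByAlgSpWith _ isSmoothLocalST_flat h𝒳 h𝒴 f hf₁
  have hf₂' := locQ_of_repByAlgSpWith _ isSmoothLocalST_lfp h𝒳 h𝒴 f hf₂
  have hf₃' : AlgSt.IsSurjective f :=
    (isSurjective_iff_repByAlgSpWith h𝒳 h𝒴 f (repByAlgSp1_of_repByAlgSpWith _ _ hf₃)).2 hf₃
  obtain ⟨U, V, W, x, y, z, h, k, α, β, hx₁, hx₂, hy₁, hy₂, hz₁, hz₂, hα₁, hα₂, hβ₁, hβ₂, hγ⟩ :=
    exists_good_squares h𝒳 h𝒴 h𝒵 f g
  have hfl : AlgSp.LocP @Flat ((AlgSp.yon S).map h) :=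
    (locQ_iff_forall_good _ isSmoothLocalST_flat h𝒳 h𝒴 f).1 hf₁' U V x y h α hx₁ hy₁ hα₁
  have hfp : AlgSp.LocP @LocallyOfFinitePresentation ((AlgSp.yon S).map h) :=
    (locQ_iff_forall_good _ isSmoothLocalST_lfp h𝒳 h𝒴 f).1 hf₂' U V x y h α hx₁ hy₁ hα₁
  have hc : AlgSp.LocP @LocallyOfFiniteType ((AlgSp.yon S).map (h ≫ k)) :=
    (locQ_iff_forall_good _ isSmoothLocalST_lft h𝒳 h𝒵 (BasedFunctor.comp f g)).1 hfg U W x z
      (h ≫ k) _ hx₁ hz₁ hγ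
  have h1 : Surjective h.left := ⟨surjective_left_of_good_square h𝒳 h𝒴 f hf₃' x y h α hα₂⟩
  have h2 : Flat h.left := AlgSp.locP_yon_map hfl
  have h3 : LocallyOfFinitePresentation h.left := AlgSp.locP_yon_map hfp
  have h4 : LocallyOfFiniteType (h.left ≫ k.left) := AlgSp.locP_yon_map hc
  have h5 : LocallyOfFiniteType k.left := Groth.Agent.S5938.result h.left k.left
  exact ⟨V, W, y, z, k, β, hy₁, hy₂, hz₁, locP_yon_map_of_lft k h5⟩

end Groth.Agent.S13001
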