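import Groth.Statements.S13004
import Groth.Agent.R2.H59FlatDesc

set_option autoImplicit false
universe u
open CategoryTheory AlgebraicGeometry
open AlgSt

namespace Groth.Agent.S13004


open Groth.Agent.Lib.Helper15GoodComp Groth.Agent.Lib.Helper15LocQEngine
  Groth.Agent.Lib.Helper15LocQProps Groth.Agent.Lib.Helper15LocEss Groth.Agent.R2.H59.FlatDesc in
/-- Let 𝒳 → 𝒴 → 𝒵 be morphisms of algebraic stacks with 𝒳 → 𝒵 flat and 𝒳 → 𝒴 surjective and flat. Then 𝒴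
→ 𝒵 is flat. -/
theorem result
    (S : Scheme.{u}) (𝒳 : AlgSt.Cat S) (𝒴 : AlgSt.Cat S) (𝒵 : AlgSt.Cat S)
    (h𝒳 : AlgSt.IsAlgStack Scheme.fppfPrecoverage 𝒳)
    (h𝒴 : AlgSt.IsAlgStack Scheme.fppfPrecoverage 𝒴)
    (h𝒵 : AlgSt.IsAlgStack Scheme.fppfPrecoverage 𝒵)
    (f : 𝒳 ⥤ᵇ 𝒴) (g : 𝒴 ⥤ᵇ 𝒵)
    (hf₁ : AlgSt.LocQ (AlgSp.LocP @Flat) f) (hf₂ : AlgSt.IsSurjective f) :
    AlgSt.LocQ (AlgSp.LocP @Flat) (BasedFunctor.comp f g) → AlgSt.LocQ (AlgSp.LocP @Flat) g := by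
  intro hfg
  obtain ⟨U, V, W, x, y, z, h, k, α, β, hx₁, hx₂, hy₁, hy₂, hz₁, hz₂, hα₁, hα₂, hβ₁, hβ₂, hγ⟩ :=
    exists_good_squares h𝒳 h𝒴 h𝒵 f g
  have hP : AlgSp.LocP @Flat ((AlgSp.yon S).map (h ≫ k)) :=
    (locQ_iff_forall_good _ isSmoothLocalST_flat h𝒳 h𝒵 (BasedFunctor.comp f g)).1 hfg U W x z
      (h ≫ k) _ hx₁ hz₁ hγ
  have hh : AlgSp.LocP @Flat ((AlgSp.yon S).map h) :=
    (locQ_iff_forall_good _ isSmoothLocalST_flat h𝒳 h𝒴 f).1 hf₁ U V x y h α hx₁ hy₁ hα₁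
  have h1 : Flat (h.left ≫ k.left) := AlgSp.locP_yon_map hP
  have h2 : Flat h.left := AlgSp.locP_yon_map hh
  have hs : Function.Surjective h.left :=
    surjective_left_of_good_square h𝒳 h𝒴 f hf₂ x y h α hα₂
  have h3 : Flat k.left := flat_of_comp_of_surjective h.left k.left hs
  exact ⟨V, W, y, z, k, β, hy₁, hy₂, hz₁, locP_yon_map_of_flat k h3⟩

end Groth.Agent.S13004
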