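import Groth.Statements.S13003
import Groth.Agent.R2.H59LocQBC
import Groth.Agent.R2.H59FlatDesc
import Groth.Agent.S13004

set_option autoImplicit false
universe u
open CategoryTheory AlgebraicGeometry
open AlgSt

namespace Groth.Agent.S13003


open Groth.Agent.Lib.Helper17 Groth.Agent.Lib.Helper15Atlas Groth.Agent.Lib.Helper15FpSwap
  Groth.Agent.Lib.Helper15PtsTop Groth.Agent.Lib.Helper15LocQProps
  Groth.Agent.Lib.Helper15LocQComp Groth.Agent.R2.H59.LocQBC in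
/-- Let f : 𝒳 → 𝒴 be a morphism of algebraic stacks and 𝒵 → 𝒴 a morphism of algebraic stacks that is
both flat and surjective. Whenever the projection 𝒵 ×_𝒴 𝒳 → 𝒵 is flat, f is flat too. -/
theorem result
    (S : Scheme.{u}) (𝒳 : AlgSt.Cat S) (𝒴 : AlgSt.Cat S)
    (h𝒳 : AlgSt.IsAlgStack Scheme.fppfPrecoverage 𝒳)
    (h𝒴 : AlgSt.IsAlgStack Scheme.fppfPrecoverage 𝒴)
    (f : 𝒳 ⥤ᵇ 𝒴)
    (𝒵 : AlgSt.Cat S) (h𝒵 : AlgSt.IsAlgStack Scheme.fppfPrecoverage 𝒵) (z : 𝒵 ⥤ᵇ 𝒴)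
    (hz₁ : AlgSt.LocQ (AlgSp.LocP @Flat) z) (hz₂ : AlgSt.IsSurjective z) :
    AlgSt.LocQ (AlgSp.LocP @Flat) (FibCat.fpFst z f) → AlgSt.LocQ (AlgSp.LocP @Flat) f := by
  intro hyp
  have hpre𝒴 := IsStack.isPrestack _ h𝒴.isStack
  have hfp : AlgSt.IsAlgStack Scheme.fppfPrecoverage (FibCat.fp f z) :=
    isAlgStack_fp_of_isPrestack hpre𝒴 h𝒴.diag h𝒳 h𝒵 f z
  have h1 : AlgSt.LocQ (AlgSp.LocP @Flat) (FibCat.fpSnd f z) :=
    locQ_of_square_equiv _ (FibCat.fpSnd f z) (FibCat.fpFst z f) (fpSwap z f) (BasedFunctor.id _)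
      (isEquivOver_fpSwap z f) (isEquivOver_id _) (Iso.refl _) hyp
  have h2 : AlgSt.LocQ (AlgSp.LocP @Flat) (BasedFunctor.comp (FibCat.fpSnd f z) z) :=
    locQ_comp _ isSmoothLocalST_flat (fun _ _ _ _ hY hZ a b => locP_flat_comp hY hZ a b)
      hfp h𝒵 h𝒴 _ z h1 hz₁
  have h3 : AlgSt.LocQ (AlgSp.LocP @Flat) (BasedFunctor.comp (FibCat.fpFst f z) f) :=
    locQ_of_iso _ (FibCat.fpIso f z).symm h2
  have h4 : AlgSt.LocQ (AlgSp.LocP @Flat) (FibCat.fpFst f z) :=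
    locQ_fpFst _ isSmoothLocalST_flat bcStable_flat h𝒵 h𝒴 h𝒳 z f hz₁
  have h5 : AlgSt.IsSurjective (FibCat.fpFst f z) :=
    Groth.Agent.S12825.result h𝒵 h𝒴 h𝒳 z f hz₂
  exact Groth.Agent.S13004.result S (FibCat.fp f z) 𝒳 𝒴 hfp h𝒳 h𝒴 (FibCat.fpFst f z) f h4 h5 h3

end Groth.Agent.S13003
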