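import Groth.Statements.S13005
import Groth.Agent.Lib.Helper15GoodComp
import Groth.Agent.Lib.Helper6LfpComp

set_option autoImplicit false
universe u
open CategoryTheory AlgebraicGeometry
open AlgSt

namespace Groth.Agent.S13005


open Groth.Agent.Lib.Helper15GoodComp Groth.Agent.Lib.Helper15LocQEngine
  Groth.Agent.Lib.Helper15LocQProps Groth.Agent.Lib.Helper15LocEss in
/-- Take morphisms of algebraic stacks f : 𝒳 → 𝒴 and g : 𝒴 → 𝒵. Suppose g is locally of finite type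
while the composite 𝒳 → 𝒵 is locally of finite presentation; it follows that f is also locally of
finite presentation. -/
theorem result
    (S : Scheme.{u}) (𝒳 : AlgSt.Cat S) (𝒴 : AlgSt.Cat S) (𝒵 : AlgSt.Cat S)
    (h𝒳 : AlgSt.IsAlgStack Scheme.fppfPrecoverage 𝒳)
    (h𝒴 : AlgSt.IsAlgStack Scheme.fppfPrecoverage 𝒴)
    (h𝒵 : AlgSt.IsAlgStack Scheme.fppfPrecoverage 𝒵)
    (f : 𝒳 ⥤ᵇ 𝒴) (g : 𝒴 ⥤ᵇ 𝒵) :
    AlgSt.LocQ (AlgSp.LocP @LocallyOfFinitePresentation) (BasedFunctor.comp f g) → AlgSt.LocQ (AlgSp.LocP @LocallyOfFiniteType) g →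
      AlgSt.LocQ (AlgSp.LocP @LocallyOfFinitePresentation) f := by
  intro hfg hg
  obtain ⟨U, V, W, x, y, z, h, k, α, β, hx₁, hx₂, hy₁, hy₂, hz₁, hz₂, hα₁, hα₂, hβ₁, hβ₂, hγ⟩ :=
    exists_good_squares h𝒳 h𝒴 h𝒵 f g
  have hP : AlgSp.LocP @LocallyOfFinitePresentation ((AlgSp.yon S).map (h ≫ k)) :=
    (locQ_iff_forall_good _ isSmoothLocalST_lfp h𝒳 h𝒵 (BasedFunctor.comp f g)).1 hfg U W x z
      (h ≫ k) _ hx₁ hz₁ hγ
  have hk : AlgSp.LocP @LocallyOfFiniteType ((AlgSp.yon S).map k) :=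
    (locQ_iff_forall_good _ isSmoothLocalST_lft h𝒴 h𝒵 g).1 hg V W y z k β hy₁ hz₁ hβ₁
  have h1 : LocallyOfFinitePresentation (h.left ≫ k.left) := AlgSp.locP_yon_map hP
  have h2 : LocallyOfFiniteType k.left := AlgSp.locP_yon_map hk
  have h3 : LocallyOfFinitePresentation h.left :=
    Groth.Agent.Lib.Helper6.locallyOfFinitePresentation_of_comp h2 h1
  exact ⟨U, V, x, y, h, α, hx₁, hx₂, hy₁, locP_yon_map_of_lfp h h3⟩

end Groth.Agent.S13005
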