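import Groth.Statements.S13006
import Groth.Agent.R2.H59FppfCover
import Groth.Agent.R2.H59Cancel2
import Groth.Agent.Lib.Helper15GoodComp
import Groth.Agent.S9959

set_option autoImplicit false
universe u
open CategoryTheory AlgebraicGeometry
open AlgSt

namespace Groth.Agent.S13006


open Groth.Agent.Lib.Helper17 Groth.Agent.Lib.Helper15PshFib Groth.Agent.Lib.Helper15RepComp
  Groth.Agent.Lib.Helper15RepPsh Groth.Agent.Lib.Helper15DiagBase Groth.Agent.Lib.Helper15DiagRepSp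
  Groth.Agent.Lib.Helper15Descent Groth.Agent.Lib.Helper15DiagLft
  Groth.Agent.Lib.Helper15DiagDescent Groth.Agent.Lib.Helper15SpMapRep
  Groth.Agent.Lib.Helper15Atlas Groth.Agent.Lib.Helper15PtsComp Groth.Agent.Lib.Helper15PtsTop
  Groth.Agent.Lib.Helper15LocQEngine Groth.Agent.Lib.Helper15LocQProps
  Groth.Agent.Lib.Helper15LocQRep Groth.Agent.Lib.Helper15LocQComp
  Groth.Agent.R2.H59.FppfCover Groth.Agent.R2.H59.Cancel2

set_option backward.isDefEq.respectTransparency false in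
set_option backward.isDefEq.respectTransparency.types false in
/-- If a morphism f of algebraic stacks is locally of finite type then its diagonal is locally of finite
presentation. (The second assertion adds the quasi-compactness clauses on both sides.) -/
theorem result
    (S : Scheme.{u}) (𝒳 : AlgSt.Cat S) (𝒴 : AlgSt.Cat S)
    (h𝒳 : AlgSt.IsAlgStack Scheme.fppfPrecoverage 𝒳)
    (h𝒴 : AlgSt.IsAlgStack Scheme.fppfPrecoverage 𝒴)
    (f : 𝒳 ⥤ᵇ 𝒴) :
    AlgSt.LocQ (AlgSp.LocP @LocallyOfFiniteType) f → AlgSt.LocQ (AlgSp.LocP @LocallyOfFinitePresentation) (FibCat.diag f) := by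
  intro hf
  obtain ⟨U, u, hu₁, hu₂⟩ := h𝒳.atlas
  have hUalg := isAlgStack_overCat U
  have hflat : AlgSt.RepByAlgSpWith (AlgSp.LocP @Flat) u := flat_of_smooth hu₁
  have hlfp : AlgSt.RepByAlgSpWith (AlgSp.LocP @LocallyOfFinitePresentation) u := lfp_of_smooth hu₁
  have hlft : AlgSt.RepByAlgSpWith (AlgSp.LocP @LocallyOfFiniteType) u :=
    Groth.Agent.Lib.Helper15DiagLft.repByAlgSpWith_mono
      (fun _ _ g hg => Groth.Agent.Lib.Helper15DiagLft.locP_mono
        (fun _ _ k hk => by have := hk; infer_instance) g hg) u hlfp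
  have hu_lft : AlgSt.LocQ (AlgSp.LocP @LocallyOfFiniteType) u :=
    locQ_of_repByAlgSpWith _ isSmoothLocalST_lft hUalg h𝒳 u hlft
  have huf : AlgSt.LocQ (AlgSp.LocP @LocallyOfFiniteType) (BasedFunctor.comp u f) :=
    locQ_comp _ isSmoothLocalST_lft (fun _ _ _ _ hY hZ a b => locP_lft_comp hY hZ a b)
      hUalg h𝒳 h𝒴 u f hu_lft hf
  have hrep : AlgSt.RepByAlgSp1 (BasedFunctor.comp u f) :=
    repByAlgSp1_of_repByAlgSp1_diag h𝒴.diag U _
  have huf' : AlgSt.RepByAlgSpWith (AlgSp.LocP @LocallyOfFiniteType) (BasedFunctor.comp u f) :=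
    repByAlgSpWith_of_locQ _ isSmoothLocalST_lft bcStable_lft
      (isLocalOnBase_fppf_of_fpqc _ (Groth.Agent.S10526.result S)) hUalg h𝒴 _ hrep huf
  have hΔ : AlgSt.RepByAlgSp1 (FibCat.diag f) := repByAlgSp1_diag_of_diag f h𝒳.diag h𝒴.diag
  have h𝒜 : AlgSt.RepByAlgSp (FibCat.fp u u) := repByAlgSp1_of_repByAlgSp1_diag h𝒳.diag U u U u
  have hℬ : AlgSt.RepByAlgSp (FibCat.fp (BasedFunctor.comp u f) (BasedFunctor.comp u f)) :=
    repByAlgSp1_of_repByAlgSp1_diag h𝒴.diag U (BasedFunctor.comp u f) U (BasedFunctor.comp u f)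
  have h1 : AlgSt.RepByAlgSpWith (AlgSp.LocP @LocallyOfFinitePresentation) (FibCat.fpFst u u) :=
    repByAlgSpWith_fpFst _ u u hlfp
  have hp : AlgSt.RepByAlgSpWith (AlgSp.LocP @LocallyOfFiniteType)
      (FibCat.fpFst (BasedFunctor.comp u f) (BasedFunctor.comp u f)) :=
    repByAlgSpWith_fpFst _ _ _ huf'
  have h2 : AlgSt.RepByAlgSpWith (AlgSp.LocP @LocallyOfFinitePresentation) (toRel u u f) :=
    repByAlgSpWith_of_comp_to_slice₂ (AlgSp.LocP @LocallyOfFinitePresentation)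
      (AlgSp.LocP @LocallyOfFiniteType) bcStable_lfp bcStable_lft
      (fun X Y Z hX hY hZ a b hb hab =>
        Groth.Agent.S9959.result (X := ⟨X, hX⟩) (Y := ⟨Y, hY⟩) (Z := ⟨Z, hZ⟩)
          (ObjectProperty.homMk a) (ObjectProperty.homMk b) hab hb)
      h𝒜 hℬ (toRel u u f)
      (FibCat.fpFst (BasedFunctor.comp u f) (BasedFunctor.comp u f)) hp h1
  have h3 : AlgSt.RepByAlgSpWith (AlgSp.LocP @LocallyOfFinitePresentation)
      (FibCat.fpFst (relProd u u f) (FibCat.diag f)) :=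
    (repByAlgSpWith_of_square _ (FibCat.fpFst (relProd u u f) (FibCat.diag f)) (toRel u u f)
      (magicRel u u f) (BasedFunctor.id _) (isEquivOver_magicRel u u f) (isEquivOver_id _)
      (Iso.refl _)).2 h2
  have h4 : AlgSt.RepByAlgSpWith (AlgSp.LocP @LocallyOfFinitePresentation) (FibCat.diag f) :=
    repByAlgSpWith_of_fpFst_of_locLift _ isLocalOnBase_fppf_lfp (FibCat.diag f) hΔ
      (relProd u u f)
      (fun T w => locLift_relProd u (hasSchemeCovers_of_cover u hflat hlfp hu₂) f w) h3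
  have hpre𝒴 := IsStack.isPrestack _ h𝒴.isStack
  have hfp : AlgSt.IsAlgStack Scheme.fppfPrecoverage (FibCat.fp f f) :=
    isAlgStack_fp_of_isPrestack hpre𝒴 h𝒴.diag h𝒳 h𝒳 f f
  exact locQ_of_repByAlgSpWith _ isSmoothLocalST_lfp h𝒳 hfp (FibCat.diag f) h4

end Groth.Agent.S13006
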