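import Groth.Statements.S13009
import Groth.Agent.R2.H59FppfCover

set_option autoImplicit false
universe u
open CategoryTheory AlgebraicGeometry
open AlgSt

namespace Groth.Agent.S13009


open Groth.Agent.Lib.Helper17 Groth.Agent.Lib.Helper15PshFib Groth.Agent.Lib.Helper15RepComp
  Groth.Agent.Lib.Helper15RepPsh Groth.Agent.Lib.Helper15DiagBase Groth.Agent.Lib.Helper15DiagRepSp
  Groth.Agent.Lib.Helper15Descent Groth.Agent.Lib.Helper15DiagLft
  Groth.Agent.Lib.Helper15DiagDescent Groth.Agent.Lib.Helper15SpMapRep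
  Groth.Agent.Lib.Helper15SrcCancel Groth.Agent.Lib.Helper15ChartSp Groth.Agent.Lib.Helper15Atlas
  Groth.Agent.Lib.Helper15LocEss Groth.Agent.Lib.Helper15UnivComp Groth.Agent.Lib.Helper15SmLoc
  Groth.Agent.Lib.Helper15PtsComp Groth.Agent.Lib.Helper15PtsTop Groth.Agent.Lib.Helper15PtsQc
  Groth.Agent.Lib.Helper15FpSwap Groth.Agent.Lib.Helper15QcLocal Groth.Agent.R2.H59.FppfCover

set_option backward.isDefEq.respectTransparency false in
set_option backward.isDefEq.respectTransparency.types false in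
/-- Let f : 𝒳 → 𝒴 be a morphism of algebraic stacks and 𝒵 → 𝒴 a morphism of algebraic stacks that is
flat, surjective and locally of finite presentation. Whenever the projection 𝒵 ×_𝒴 𝒳 → 𝒵 is
quasi-compact, f is quasi-compact too. -/
theorem result
    (S : Scheme.{u}) (𝒳 : AlgSt.Cat S) (𝒴 : AlgSt.Cat S)
    (h𝒳 : AlgSt.IsAlgStack Scheme.fppfPrecoverage 𝒳)
    (h𝒴 : AlgSt.IsAlgStack Scheme.fppfPrecoverage 𝒴)
    (f : 𝒳 ⥤ᵇ 𝒴)
    (𝒵 : AlgSt.Cat S) (h𝒵 : AlgSt.IsAlgStack Scheme.fppfPrecoverage 𝒵) (z : 𝒵 ⥤ᵇ 𝒴)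
    (hz₁ : AlgSt.LocQ (AlgSp.LocP @Flat) z) (hz₂ : AlgSt.LocQ (AlgSp.LocP @LocallyOfFinitePresentation) z)
    (hz₃ : AlgSt.IsSurjective z) :
    AlgSt.IsQuasiCompactMor Scheme.fppfPrecoverage (FibCat.fpFst z f) → AlgSt.IsQuasiCompactMor Scheme.fppfPrecoverage f := by
  intro hfq
  obtain ⟨V, v, -, -, hw₁, hw₂, hw₃⟩ := exists_scheme_cover_of_locQ h𝒴 h𝒵 z hz₁ hz₂ hz₃
  intro 𝒯 h𝒯 hqc g
  have hWalg := isAlgStack_overCat V
  have hwsurj : AlgSt.IsSurjective (BasedFunctor.comp v z) :=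
    (isSurjective_iff_repByAlgSpWith hWalg h𝒴 _ (repByAlgSp1_of_repByAlgSpWith _ _ hw₃)).2 hw₃
  have hpre𝒴 := IsStack.isPrestack _ h𝒴.isStack
  have h𝒯' : AlgSt.IsAlgStack Scheme.fppfPrecoverage (FibCat.fp g (BasedFunctor.comp v z)) :=
    isAlgStack_fp_of_isPrestack hpre𝒴 h𝒴.diag h𝒯 hWalg g _
  have hcs : AlgSt.IsSurjective (FibCat.fpFst g (BasedFunctor.comp v z)) :=
    Groth.Agent.S12825.result hWalg h𝒴 h𝒯 _ g hwsurj
  obtain ⟨A, a, hA, has⟩ := exists_affine_chart_surjective h𝒯' h𝒯 hqc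
    (FibCat.fpFst g (BasedFunctor.comp v z))
    (repByAlgSpWith_fpFst _ _ g hw₁) (repByAlgSpWith_fpFst _ _ g hw₂) hcs
  have hAalg := isAlgStack_overCat A
  have h1 : AlgSt.IsQuasiCompact
      (FibCat.fp (BasedFunctor.comp (BasedFunctor.comp a (FibCat.fpSnd g (BasedFunctor.comp v z))) v)
        (FibCat.fpFst z f)) :=
    hfq (FibCat.overCat A) hAalg (isQuasiCompact_overCat A hA) _
  have h2 := isQuasiCompact_of_isEquivOver _
    (isEquivOver_pasteL f z
      (BasedFunctor.comp (BasedFunctor.comp a (FibCat.fpSnd g (BasedFunctor.comp v z))) v)) h1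
  have : (BasedFunctor.id 𝒴).toFunctor.Full := inferInstanceAs (𝟭 𝒴.obj).Full
  have : (BasedFunctor.id 𝒴).toFunctor.Faithful := inferInstanceAs (𝟭 𝒴.obj).Faithful
  have hM := isEquivOver_fpMap
    (BasedFunctor.comp (BasedFunctor.comp a (FibCat.fpFst g (BasedFunctor.comp v z))) g) f
    (BasedFunctor.comp (BasedFunctor.comp a (FibCat.fpSnd g (BasedFunctor.comp v z)))
      (BasedFunctor.comp v z)) f
    (BasedFunctor.id _) (BasedFunctor.id _) (BasedFunctor.id _)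
    (whiskerLeftIso a (FibCat.fpIso g (BasedFunctor.comp v z)).symm) (Iso.refl _)
    (isEquivOver_id _) (isEquivOver_id _)
  have h3 := isQuasiCompact_of_isEquivOver _ hM h2
  obtain ⟨I, hI, -, -⟩ := IsEquivOver.exists_inverse_isEquivOver'
    (pasteL f g (BasedFunctor.comp a (FibCat.fpFst g (BasedFunctor.comp v z))))
    (isEquivOver_pasteL f g (BasedFunctor.comp a (FibCat.fpFst g (BasedFunctor.comp v z))))
  have h4 := isQuasiCompact_of_isEquivOver I hI h3
  have h5 := isQuasiCompact_of_isEquivOver _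
    (isEquivOver_fpSwap (BasedFunctor.comp a (FibCat.fpFst g (BasedFunctor.comp v z)))
      (FibCat.fpFst g f)) h4
  have hfpalg : AlgSt.IsAlgStack Scheme.fppfPrecoverage (FibCat.fp g f) :=
    isAlgStack_fp_of_isPrestack hpre𝒴 h𝒴.diag h𝒯 h𝒳 g f
  have hpre𝒯 := IsStack.isPrestack _ h𝒯.isStack
  have hsrc : AlgSt.IsAlgStack Scheme.fppfPrecoverage
      (FibCat.fp (FibCat.fpFst g f)
        (BasedFunctor.comp a (FibCat.fpFst g (BasedFunctor.comp v z)))) :=
    isAlgStack_fp_of_isPrestack hpre𝒯 h𝒯.diag hfpalg hAalg _ _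
  exact isQuasiCompact_of_isSurjective hsrc hfpalg _
    (Groth.Agent.S12825.result hAalg h𝒯 hfpalg
      (BasedFunctor.comp a (FibCat.fpFst g (BasedFunctor.comp v z)))
      (FibCat.fpFst g f) has) h5

end Groth.Agent.S13009
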