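import Groth.Statements.S13022
import Groth.Agent.R2.H59LocQBC
import Groth.Agent.Lib.Helper17StkPts2

set_option autoImplicit false
universe u
open CategoryTheory AlgebraicGeometry
open AlgSt

namespace Groth.Agent.S13022


open Groth.Agent.Lib.Helper17 Groth.Agent.Lib.Helper15PshFib Groth.Agent.Lib.Helper15RepComp
  Groth.Agent.Lib.Helper15RepPsh Groth.Agent.Lib.Helper15DiagBase Groth.Agent.Lib.Helper15DiagRepSp
  Groth.Agent.Lib.Helper15Descent Groth.Agent.Lib.Helper15DiagLft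
  Groth.Agent.Lib.Helper15DiagDescent Groth.Agent.Lib.Helper15SpMapRep
  Groth.Agent.Lib.Helper15SrcCancel Groth.Agent.Lib.Helper15ChartSp Groth.Agent.Lib.Helper15Atlas
  Groth.Agent.Lib.Helper15LocEss Groth.Agent.Lib.Helper15UnivComp Groth.Agent.Lib.Helper15SmLoc
  Groth.Agent.Lib.Helper15PtsComp Groth.Agent.Lib.Helper15PtsTop Groth.Agent.Lib.Helper15PtsQc
  Groth.Agent.Lib.Helper15FpSwap Groth.Agent.Lib.Helper15QcLocal Groth.Agent.Lib.Helper15ClosedQc
  Groth.Agent.Lib.Helper15LocQEngine Groth.Agent.Lib.Helper15LocQProps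
  Groth.Agent.Lib.Helper15LocQComp Groth.Agent.R2.H59.LocQBC

set_option backward.isDefEq.respectTransparency false in
set_option backward.isDefEq.respectTransparency.types false in
/-- Let f_j : 𝒳_j → 𝒳 be a family of flat, locally finitely presented morphisms of algebraic stacks
which is jointly surjective on points. Then, given any scheme U and any object x of 𝒳 lying over U,
one can find an fppf covering {U_i → U}, indices j(i) and objects x_i of 𝒳_{j(i)} over U_i with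
f_{j(i)}(x_i) ≅ x|_{U_i}. -/
theorem result
    (S : Scheme.{u}) (𝒳 : AlgSt.Cat S)
    (h𝒳 : AlgSt.IsAlgStack Scheme.fppfPrecoverage 𝒳)
    (J : Type u) (𝒳' : J → AlgSt.Cat S) (h𝒳' : ∀ j, AlgSt.IsAlgStack Scheme.fppfPrecoverage (𝒳' j))
    (f : ∀ j, 𝒳' j ⥤ᵇ 𝒳)
    (hf₁ : ∀ j, AlgSt.LocQ (AlgSp.LocP @Flat) (f j)) (hf₂ : ∀ j, AlgSt.LocQ (AlgSp.LocP @LocallyOfFinitePresentation) (f j))
    (hf₃ : ∀ p : AlgSt.Points 𝒳, ∃ j, p ∈ Set.range (AlgSt.Points.map (f j)))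
    (U : Over S) (x : FibCat.overCat U ⥤ᵇ 𝒳) :
    ∃ (ι : Type u) (V : ι → Over S) (g : ∀ i, V i ⟶ U) (c : ι → J),
      (Presieve.ofArrows (fun i ↦ (V i).left) fun i ↦ (g i).left) ∈ Scheme.fppfPrecoverage U.left ∧
      ∀ i, ∃ x' : FibCat.overCat (V i) ⥤ᵇ 𝒳' (c i),
        Nonempty (BasedFunctor.comp x' (f (c i)) ≅ BasedFunctor.comp (AlgSt.overMap (g i)) x) := by
  have hUalg := isAlgStack_overCat U
  have hpre := IsStack.isPrestack _ h𝒳.isStack
  have hid₁ : AlgSt.RepByAlgSpWith (AlgSp.LocP @Smooth) (BasedFunctor.id (FibCat.overCat U)) :=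
    Groth.Agent.Lib.Helper15EquivRep.repByAlgSpWith_of_isEquivOver _ locP_smooth_id
      (BasedFunctor.id _) (isEquivOver_id _)
  have hid₂ : AlgSt.RepByAlgSpWith AlgSp.IsSurjectiveMor (BasedFunctor.id (FibCat.overCat U)) :=
    Groth.Agent.Lib.Helper15EquivRep.repByAlgSpWith_of_isEquivOver _ isSurjectiveMor_id
      (BasedFunctor.id _) (isEquivOver_id _)
  have key : ∀ j, ∃ (W : Over S) (h : W ⟶ U) (x' : FibCat.overCat W ⥤ᵇ 𝒳' j),
      Nonempty (BasedFunctor.comp x' (f j) ≅ BasedFunctor.comp (AlgSt.overMap h) x) ∧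
      Flat h.left ∧ LocallyOfFinitePresentation h.left ∧
      ∀ t : U.left, AlgSt.Points.ofChart x t ∈ Set.range (AlgSt.Points.map (f j)) →
        t ∈ Set.range h.left := by
    intro j
    have h𝒲 : AlgSt.IsAlgStack Scheme.fppfPrecoverage (FibCat.fp x (f j)) :=
      isAlgStack_fp_of_isPrestack hpre h𝒳.diag hUalg (h𝒳' j) x (f j)
    have hp₁ : AlgSt.LocQ (AlgSp.LocP @Flat) (FibCat.fpFst x (f j)) :=
      locQ_fpFst _ isSmoothLocalST_flat bcStable_flat (h𝒳' j) h𝒳 hUalg (f j) x (hf₁ j)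
    have hp₂ : AlgSt.LocQ (AlgSp.LocP @LocallyOfFinitePresentation) (FibCat.fpFst x (f j)) :=
      locQ_fpFst _ isSmoothLocalST_lfp bcStable_lfp (h𝒳' j) h𝒳 hUalg (f j) x (hf₂ j)
    obtain ⟨W, w, h, α, hℓ₁, hℓ₂, hw₁, hw₂⟩ :=
      exists_good_square_over h𝒲 hUalg (FibCat.fpFst x (f j)) (BasedFunctor.id (FibCat.overCat U))
    have hP₁ : AlgSp.LocP @Flat ((AlgSp.yon S).map h) :=
      (locQ_iff_forall_good _ isSmoothLocalST_flat h𝒲 hUalg (FibCat.fpFst x (f j))).1 hp₁ W U w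
        (BasedFunctor.id _) h α (hw₁ hid₁) hid₁ hℓ₁
    have hP₂ : AlgSp.LocP @LocallyOfFinitePresentation ((AlgSp.yon S).map h) :=
      (locQ_iff_forall_good _ isSmoothLocalST_lfp h𝒲 hUalg (FibCat.fpFst x (f j))).1 hp₂ W U w
        (BasedFunctor.id _) h α (hw₁ hid₁) hid₁ hℓ₁
    refine ⟨W, h, BasedFunctor.comp w (FibCat.fpSnd x (f j)), ⟨?_⟩, AlgSp.locP_yon_map hP₁,
      AlgSp.locP_yon_map hP₂, ?_⟩
    · exact (whiskerLeftIso w (FibCat.fpIso x (f j)).symm : _ ≅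
        BasedFunctor.comp (BasedFunctor.comp w (FibCat.fpFst x (f j))) x) ≪≫ whiskerRightIso α x
    · rintro t ⟨ξ, hξ⟩
      have hfib : FibCat.IsFibGrpd (FibCat.overCat U).p := (isFibSet_overForget U).1
      obtain ⟨ω, hω₁, -⟩ := points_fp_surjective (h𝒳' j).isStack.1 h𝒳.isStack.1 hfib (f j) x
        (ptOver U t) ξ (by rw [← ofChart_eq_map_ptOver]; exact hξ.symm)
      obtain ⟨s, rfl⟩ := surjective_ofChart h𝒲 w (hw₂ hid₂) ω
      rw [← ofChart_comp, ofChart_congr α, ofChart_overMap] at hω₁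
      exact ⟨s, (ptOver_bijective U).1 hω₁⟩
  choose W h x' hiso hflat hlfp hsurj using key
  refine ⟨J, W, h, id, ?_, fun j => ⟨x' j, hiso j⟩⟩
  rw [Scheme.fppfPrecoverage, Scheme.ofArrows_mem_precoverage_iff]
  refine ⟨fun t => ?_, fun j => ⟨hflat j, hlfp j⟩⟩
  obtain ⟨j, hj⟩ := hf₃ (AlgSt.Points.ofChart x t)
  exact ⟨j, hsurj j t hj⟩

end Groth.Agent.S13022
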