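import Groth.Statements.S13035
import Groth.Agent.R2.H59LocQBC
import Groth.Agent.Lib.Helper17StkPts2
import Groth.Agent.S10292

set_option autoImplicit false
universe u
open CategoryTheory AlgebraicGeometry
open AlgSt

namespace Groth.Agent.S13035


open Groth.Agent.Lib.Helper17 Groth.Agent.Lib.Helper15PshFib Groth.Agent.Lib.Helper15RepComp
  Groth.Agent.Lib.Helper15RepPsh Groth.Agent.Lib.Helper15DiagBase Groth.Agent.Lib.Helper15DiagRepSp
  Groth.Agent.Lib.Helper15Descent Groth.Agent.Lib.Helper15DiagLft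
  Groth.Agent.Lib.Helper15DiagDescent Groth.Agent.Lib.Helper15SpMapRep
  Groth.Agent.Lib.Helper15SrcCancel Groth.Agent.Lib.Helper15ChartSp Groth.Agent.Lib.Helper15Atlas
  Groth.Agent.Lib.Helper15LocEss Groth.Agent.Lib.Helper15UnivComp Groth.Agent.Lib.Helper15SmLoc
  Groth.Agent.Lib.Helper15PtsComp Groth.Agent.Lib.Helper15PtsTop Groth.Agent.Lib.Helper15PtsQc
  Groth.Agent.Lib.Helper15FpSwap Groth.Agent.Lib.Helper15QcLocal Groth.Agent.Lib.Helper15ClosedQc
  Groth.Agent.Lib.Helper15LocQEngine Groth.Agent.Lib.Helper15LocQProps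
  Groth.Agent.Lib.Helper15LocQComp Groth.Agent.Lib.Helper15GoodComp Groth.Agent.R2.H59.LocQBC

set_option backward.isDefEq.respectTransparency false in
set_option backward.isDefEq.respectTransparency.types false in
/-- Let f : 𝒳 → 𝒴 be a flat morphism of algebraic stacks and Spec A → 𝒴 a morphism with A a valuation
ring whose closed point maps into the image of |𝒳| → |𝒴|. Then there are an extension of valuation
rings A → A' (an injective local homomorphism of valuation rings) and a morphism Spec A' → 𝒳 making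
the square with Spec A' → Spec A → 𝒴 2-commute. -/
theorem result
    (S : Scheme.{u}) (𝒳 : AlgSt.Cat S) (𝒴 : AlgSt.Cat S)
    (h𝒳 : AlgSt.IsAlgStack Scheme.fppfPrecoverage 𝒳)
    (h𝒴 : AlgSt.IsAlgStack Scheme.fppfPrecoverage 𝒴)
    (f : 𝒳 ⥤ᵇ 𝒴)
    (hf : AlgSt.LocQ (AlgSp.LocP @Flat) f)
    (A : Type u) [CommRing A] [IsDomain A] [ValuationRing A] (sA : Spec (CommRingCat.of A) ⟶ S)
    (a : FibCat.overCat (Over.mk sA) ⥤ᵇ 𝒴)
    (ha : AlgSt.Points.ofChart a (IsLocalRing.closedPoint A) ∈ Set.range (AlgSt.Points.map f)) :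
    ∃ (A' : Type u) (_ : CommRing A') (_ : IsDomain A') (_ : ValuationRing A') (φ : A →+* A'),
      Function.Injective φ ∧ IsLocalHom φ ∧
      ∃ x : FibCat.overCat (Over.mk (Spec.map (CommRingCat.ofHom φ) ≫ sA)) ⥤ᵇ 𝒳,
        Nonempty (BasedFunctor.comp x f ≅
          BasedFunctor.comp (AlgSt.overMap (Over.homMk (Spec.map (CommRingCat.ofHom φ)) rfl :
            Over.mk (Spec.map (CommRingCat.ofHom φ) ≫ sA) ⟶ Over.mk sA)) a) := by
  have hTalg := isAlgStack_overCat (Over.mk sA)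
  have hpre := IsStack.isPrestack _ h𝒴.isStack
  have hid₁ : AlgSt.RepByAlgSpWith (AlgSp.LocP @Smooth)
      (BasedFunctor.id (FibCat.overCat (Over.mk sA))) :=
    Groth.Agent.Lib.Helper15EquivRep.repByAlgSpWith_of_isEquivOver _ locP_smooth_id
      (BasedFunctor.id _) (isEquivOver_id _)
  have hid₂ : AlgSt.RepByAlgSpWith AlgSp.IsSurjectiveMor
      (BasedFunctor.id (FibCat.overCat (Over.mk sA))) :=
    Groth.Agent.Lib.Helper15EquivRep.repByAlgSpWith_of_isEquivOver _ isSurjectiveMor_id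
      (BasedFunctor.id _) (isEquivOver_id _)
  have h𝒲 : AlgSt.IsAlgStack Scheme.fppfPrecoverage (FibCat.fp a f) :=
    isAlgStack_fp_of_isPrestack hpre h𝒴.diag hTalg h𝒳 a f
  have hp : AlgSt.LocQ (AlgSp.LocP @Flat) (FibCat.fpFst a f) :=
    locQ_fpFst _ isSmoothLocalST_flat bcStable_flat h𝒳 h𝒴 hTalg f a hf
  obtain ⟨W, w, h, α, hℓ₁, hℓ₂, hw₁, hw₂⟩ :=
    exists_good_square_over h𝒲 hTalg (FibCat.fpFst a f)
      (BasedFunctor.id (FibCat.overCat (Over.mk sA)))
  have hP : AlgSp.LocP @Flat ((AlgSp.yon S).map h) :=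
    (locQ_iff_forall_good _ isSmoothLocalST_flat h𝒲 hTalg (FibCat.fpFst a f)).1 hp W _ w
      (BasedFunctor.id _) h α (hw₁ hid₁) hid₁ hℓ₁
  -- the closed point is in the image of `h`
  obtain ⟨ξ, hξ⟩ := ha
  have hfib : FibCat.IsFibGrpd (FibCat.overCat (Over.mk sA)).p :=
    (isFibSet_overForget (Over.mk sA)).1
  obtain ⟨ω, hω₁, -⟩ := points_fp_surjective h𝒳.isStack.1 h𝒴.isStack.1 hfib f a
    (ptOver (Over.mk sA) (IsLocalRing.closedPoint A)) ξ
    (by rw [← ofChart_eq_map_ptOver]; exact hξ.symm)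
  obtain ⟨s, rfl⟩ := surjective_ofChart h𝒲 w (hw₂ hid₂) ω
  rw [← ofChart_comp, ofChart_congr α, ofChart_overMap] at hω₁
  have hs : h.left s = IsLocalRing.closedPoint A := (ptOver_bijective (Over.mk sA)).1 hω₁
  -- lift through the flat morphism of schemes
  let WW : AlgSp.Space S := ⟨(AlgSp.yon S).obj W, AlgSp.IsAlgSpace.yon_obj W⟩
  let TT : AlgSp.Space S :=
    ⟨(AlgSp.yon S).obj (Over.mk sA), AlgSp.IsAlgSpace.yon_obj (Over.mk sA)⟩
  let ff : WW ⟶ TT := ObjectProperty.homMk ((AlgSp.yon S).map h)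
  obtain ⟨A', i1, i2, i3, φ, hφ₁, hφ₂, l, hl⟩ := Groth.Agent.S10292.result ff hP A sA (𝟙 _)
    ⟨AlgSp.Points.ofScheme W s, by
      change AlgSp.Points.map ((AlgSp.yon S).map h) (AlgSp.Points.ofScheme W s) = _
      rw [points_map_yon_ofScheme, hs]⟩
  refine ⟨A', i1, i2, i3, φ, hφ₁, hφ₂, ?_⟩
  obtain ⟨l₀, rfl⟩ := (AlgSp.yon S).map_surjective l
  have hm : l₀ ≫ h = (Over.homMk (Spec.map (CommRingCat.ofHom φ)) rfl :
      Over.mk (Spec.map (CommRingCat.ofHom φ) ≫ sA) ⟶ Over.mk sA) := by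
    apply (AlgSp.yon S).map_injective
    rw [Functor.map_comp]
    exact hl.trans (Category.comp_id _)
  refine ⟨BasedFunctor.comp (AlgSt.overMap l₀) (BasedFunctor.comp w (FibCat.fpSnd a f)), ⟨?_⟩⟩
  rw [← hm]
  exact (whiskerLeftIso (AlgSt.overMap l₀)
      ((whiskerLeftIso w (FibCat.fpIso a f).symm : _ ≅
        BasedFunctor.comp (BasedFunctor.comp w (FibCat.fpFst a f)) a) ≪≫ whiskerRightIso α a) :
      _ ≅ BasedFunctor.comp (BasedFunctor.comp (AlgSt.overMap l₀) (AlgSt.overMap h)) a) ≪≫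
    whiskerRightIso (overMapCompIso l₀ h) a

end Groth.Agent.S13035
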