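import Groth.Statements.S13036
import Groth.Agent.R2.H59LocQBC
import Groth.Agent.R2.H59ValClosure
import Groth.Agent.Lib.Helper17StkPts2
import Groth.Agent.S10288

set_option autoImplicit false
universe u
open CategoryTheory AlgebraicGeometry
open AlgSt

namespace Groth.Agent.S13036


open Groth.Agent.Lib.Helper17 Groth.Agent.Lib.Helper15PshFib Groth.Agent.Lib.Helper15RepComp
  Groth.Agent.Lib.Helper15RepPsh Groth.Agent.Lib.Helper15DiagBase Groth.Agent.Lib.Helper15DiagRepSp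
  Groth.Agent.Lib.Helper15Descent Groth.Agent.Lib.Helper15DiagLft
  Groth.Agent.Lib.Helper15DiagDescent Groth.Agent.Lib.Helper15SpMapRep
  Groth.Agent.Lib.Helper15SrcCancel Groth.Agent.Lib.Helper15ChartSp Groth.Agent.Lib.Helper15Atlas
  Groth.Agent.Lib.Helper15LocEss Groth.Agent.Lib.Helper15UnivComp Groth.Agent.Lib.Helper15SmLoc
  Groth.Agent.Lib.Helper15PtsComp Groth.Agent.Lib.Helper15PtsTop Groth.Agent.Lib.Helper15PtsQc
  Groth.Agent.Lib.Helper15FpSwap Groth.Agent.Lib.Helper15QcLocal Groth.Agent.Lib.Helper15ClosedQc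
  Groth.Agent.Lib.Helper15LocQEngine Groth.Agent.Lib.Helper15LocQProps
  Groth.Agent.Lib.Helper15LocQComp Groth.Agent.Lib.Helper15GoodComp Groth.Agent.R2.H59.LocQBC
  Groth.Agent.R2.H59.ValClosure

set_option backward.isDefEq.respectTransparency false in
set_option backward.isDefEq.respectTransparency.types false in
/-- Let f : 𝒳 → 𝒴 be a quasi-compact morphism of algebraic stacks and y a point of |𝒴| in the closure of
the image of |f|. Then there are a valuation ring A with fraction field K and a 2-commutative square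
Spec K → 𝒳, Spec A → 𝒴 (over Spec K → Spec A and f) such that the closed point of Spec A maps to y. -/
theorem result
    (S : Scheme.{u}) (𝒳 : AlgSt.Cat S) (𝒴 : AlgSt.Cat S)
    (h𝒳 : AlgSt.IsAlgStack Scheme.fppfPrecoverage 𝒳)
    (h𝒴 : AlgSt.IsAlgStack Scheme.fppfPrecoverage 𝒴)
    (f : 𝒳 ⥤ᵇ 𝒴)
    (hf : AlgSt.IsQuasiCompactMor Scheme.fppfPrecoverage f)
    (y : AlgSt.Points 𝒴) (hy : y ∈ closure (Set.range (AlgSt.Points.map f))) :
    ∃ (A : Type u) (_ : CommRing A) (_ : IsDomain A) (_ : ValuationRing A) (sA : Spec (CommRingCat.of A) ⟶ S)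
      (a : FibCat.overCat (Over.mk sA) ⥤ᵇ 𝒴)
      (x : FibCat.overCat (Over.mk (Spec.map (CommRingCat.ofHom (algebraMap A (FractionRing A))) ≫ sA)) ⥤ᵇ 𝒳),
      Nonempty (BasedFunctor.comp x f ≅
        BasedFunctor.comp (AlgSt.overMap (Over.homMk (Spec.map (CommRingCat.ofHom (algebraMap A (FractionRing A)))) rfl :
          Over.mk (Spec.map (CommRingCat.ofHom (algebraMap A (FractionRing A))) ≫ sA) ⟶ Over.mk sA)) a) ∧
      AlgSt.Points.ofChart a (IsLocalRing.closedPoint A) = y := by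
  -- a smooth chart of `𝒴` from an affine scheme hitting `y`
  obtain ⟨V, y₀, hy₀₁, hy₀₂⟩ := h𝒴.atlas
  obtain ⟨v₀, rfl⟩ := surjective_ofChart h𝒴 y₀ hy₀₂ y
  let 𝒰 := V.left.affineCover
  obtain ⟨i, v, hv⟩ := 𝒰.exists_eq v₀
  let V₁ : Over S := Over.mk (𝒰.f i ≫ V.hom)
  let g : V₁ ⟶ V := Over.homMk (𝒰.f i) rfl
  have hV₁aff : IsAffine V₁.left := (inferInstance : IsAffine (𝒰.X i))
  have hg : Etale g.left := (inferInstance : Etale (𝒰.f i))
  let y₁ : FibCat.overCat V₁ ⥤ᵇ 𝒴 := BasedFunctor.comp (AlgSt.overMap g) y₀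
  have hy₁ : AlgSt.RepByAlgSpWith (AlgSp.LocP @Smooth) y₁ := smooth_overMap_comp g hg y₀ hy₀₁
  have hyv : AlgSt.Points.ofChart y₁ v = AlgSt.Points.ofChart y₀ v₀ := by
    rw [ofChart_overMap]
    exact congrArg _ hv
  -- the fibre product is quasi-compact
  have hV₁alg := isAlgStack_overCat V₁
  have hpre := IsStack.isPrestack _ h𝒴.isStack
  have hfpalg : AlgSt.IsAlgStack Scheme.fppfPrecoverage (FibCat.fp y₁ f) :=
    isAlgStack_fp_of_isPrestack hpre h𝒴.diag hV₁alg h𝒳 y₁ f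
  obtain ⟨W, ℓ, hWaff, hℓ₁, hℓ₂⟩ := hf (FibCat.overCat V₁) hV₁alg
    (isQuasiCompact_overCat V₁ hV₁aff) y₁
  obtain ⟨h, ⟨lam⟩⟩ := exists_iso_overMap (BasedFunctor.comp ℓ (FibCat.fpFst y₁ f))
  -- `v` is in the closure of the image of `h`
  have hfib : FibCat.IsFibGrpd (FibCat.overCat V₁).p := (isFibSet_overForget V₁).1
  have hcl : v ∈ closure (Set.range h.left) := by
    rw [mem_closure_iff]
    intro O hO hvO
    have hopen : IsOpen (AlgSt.Points.ofChart y₁ '' O) :=
      isOpenMap_ofChart h𝒴 y₁ (flat_of_smooth hy₁) (lfp_of_smooth hy₁) O hO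
    have hmem : AlgSt.Points.ofChart y₀ v₀ ∈ AlgSt.Points.ofChart y₁ '' O := ⟨v, hvO, hyv⟩
    obtain ⟨p, ⟨o, hoO, hop⟩, ⟨ξ, hξ⟩⟩ := (mem_closure_iff.1 hy) _ hopen hmem
    obtain ⟨ω, hω₁, -⟩ := points_fp_surjective h𝒳.isStack.1 h𝒴.isStack.1 hfib f y₁
      (ptOver V₁ o) ξ (by rw [← ofChart_eq_map_ptOver, hop, hξ])
    obtain ⟨s, rfl⟩ := surjective_ofChart hfpalg ℓ hℓ₂ ω
    rw [← ofChart_comp, ofChart_congr lam] at hω₁
    have hω₂ : AlgSt.Points.ofChart (BasedFunctor.comp (AlgSt.overMap h) (BasedFunctor.id _)) s =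
        ptOver V₁ o := hω₁
    rw [ofChart_overMap] at hω₂
    have hso : h.left s = o := (ptOver_bijective V₁).1 hω₂
    exact ⟨o, hoO, ⟨s, hso⟩⟩
  have : IsAffine W.left := hWaff
  have : IsAffine V₁.left := hV₁aff
  obtain ⟨s, hs⟩ := exists_specializes_of_mem_closure_range_of_affine h.left v hcl
  obtain ⟨R, i₂, sq, hi₂⟩ := Groth.Agent.S10288.exists_valuation_square h.left s v hs
  -- the data
  let sA : Spec (CommRingCat.of R) ⟶ S := i₂ ≫ V₁.hom
  let i₂' : Over.mk sA ⟶ V₁ := Over.homMk i₂ rfl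
  let a : FibCat.overCat (Over.mk sA) ⥤ᵇ 𝒴 := BasedFunctor.comp (AlgSt.overMap i₂') y₁
  let e : W.left.residueField s ≃ₐ[R] FractionRing R :=
    (FractionRing.algEquiv R (W.left.residueField s)).symm
  let j : Spec (CommRingCat.of (FractionRing R)) ⟶ Spec (W.left.residueField s) :=
    Spec.map (CommRingCat.ofHom (e : W.left.residueField s →+* FractionRing R))
  have hj : j ≫ Spec.map (CommRingCat.ofHom (algebraMap R (W.left.residueField s))) =
      Spec.map (CommRingCat.ofHom (algebraMap R (FractionRing R))) := by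
    rw [← Spec.map_comp]
    congr 1
    ext r
    exact e.commutes r
  have ht₀ : (j ≫ W.left.fromSpecResidueField s) ≫ h.left =
      Spec.map (CommRingCat.ofHom (algebraMap R (FractionRing R))) ≫ i₂ := by
    rw [Category.assoc, sq, ← Category.assoc, hj]
  let m : Over.mk (Spec.map (CommRingCat.ofHom (algebraMap R (FractionRing R))) ≫ sA) ⟶
      Over.mk sA := Over.homMk (Spec.map (CommRingCat.ofHom (algebraMap R (FractionRing R)))) rfl
  let t : Over.mk (Spec.map (CommRingCat.ofHom (algebraMap R (FractionRing R))) ≫ sA) ⟶ W :=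
    Over.homMk (j ≫ W.left.fromSpecResidueField s) (by
      change (j ≫ W.left.fromSpecResidueField s) ≫ W.hom = _
      rw [← Over.w h, ← Category.assoc, ht₀, Category.assoc]
      rfl)
  have htm : t ≫ h = m ≫ i₂' := by
    apply Over.OverMorphism.ext
    exact ht₀
  refine ⟨R, inferInstance, inferInstance, inferInstance, sA, a,
    BasedFunctor.comp (AlgSt.overMap t) (BasedFunctor.comp ℓ (FibCat.fpSnd y₁ f)), ⟨?_⟩, ?_⟩
  · exact (whiskerLeftIso (AlgSt.overMap t)
        ((whiskerLeftIso ℓ (FibCat.fpIso y₁ f).symm : _ ≅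
          BasedFunctor.comp (BasedFunctor.comp ℓ (FibCat.fpFst y₁ f)) y₁) ≪≫
            whiskerRightIso lam y₁) :
        _ ≅ BasedFunctor.comp (BasedFunctor.comp (AlgSt.overMap t) (AlgSt.overMap h)) y₁) ≪≫
      whiskerRightIso (overMapCompIso t h ≪≫ eqToIso (congrArg AlgSt.overMap htm) ≪≫
        (overMapCompIso m i₂').symm) y₁
  · change AlgSt.Points.ofChart (BasedFunctor.comp (AlgSt.overMap i₂') y₁) _ = _
    rw [ofChart_overMap, ← hyv]
    exact congrArg _ hi₂

end Groth.Agent.S13036
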