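import Groth.Statements.S13053
-- import your own Groth.Agent.* helpers here
import Mathlib
import Groth.Agent.S13055
import Groth.Agent.R2.H66ZetaPn

set_option autoImplicit false
universe u
open CategoryTheory AlgebraicGeometry
open Zeta

namespace Groth.Agent.S13053

section Helpers

open Polynomial in
/-- The polynomial `1 + y + ⋯ + y^n`. -/
noncomputable def geomPoly (n : ℕ) : Polynomial ℤ := ∑ i ∈ Finset.range (n + 1), Polynomial.X ^ i

open Polynomial in
theorem coeff_geomPoly (n i : ℕ) : (geomPoly n).coeff i = if i < n + 1 then 1 else 0 := by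
  unfold geomPoly
  rw [Polynomial.finsetSum_coeff]
  simp only [Polynomial.coeff_X_pow]
  rw [Finset.sum_ite_eq]
  simp

open Polynomial in
theorem natDegree_geomPoly (n : ℕ) : (geomPoly n).natDegree = n := by
  apply le_antisymm
  · unfold geomPoly
    apply Polynomial.natDegree_sum_le_of_forall_le
    intro i hi
    rw [Finset.mem_range] at hi
    exact (Polynomial.natDegree_X_pow_le i).trans (by omega)
  · apply Polynomial.le_natDegree_of_ne_zero
    rw [coeff_geomPoly]
    simp

open Polynomial in
theorem eval_geomPoly (n : ℕ) (a : ℤ) : (geomPoly n).eval a = ∑ i ∈ Finset.range (n + 1), a ^ i := by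
  unfold geomPoly
  rw [Polynomial.eval_finsetSum]
  simp

end Helpers


/-- For a finite field k with q elements, Z(P^n_k, t) = 1 / ((1 − t)(1 − qt) ⋯ (1 − q^n t)); stated as
Z(P^n_k, t) · ∏_{i = 0}^{n} (1 − q^i t) = 1 in ℚ⟦t⟧. -/
theorem result (k : Type u) [Field k] [Finite k] (n : ℕ) :
    Zeta.zetaFun (CohB1.ProjSpace.toSpec n k) *
        ∏ i ∈ Finset.range (n + 1), (1 - PowerSeries.C ((Nat.card k : ℚ) ^ i) * PowerSeries.X) = 1 := by
  have : IsProper (CohB1.ProjSpace.toSpec n k) :=
    Groth.Agent.S9705.isProper_projSpace_toSpec n k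
  have h := Groth.Agent.S13055.result (CohB1.ProjSpace.toSpec n k) (geomPoly n) (by
    intro m hm
    rw [Groth.Agent.R2.H66.ZetaPn.nPts_projSpace n k m hm, eval_geomPoly]
    push_cast
    rfl)
  rw [natDegree_geomPoly] at h
  have e1 : ∀ i ∈ Finset.range (n + 1),
      (1 - PowerSeries.C ((Nat.card k : ℚ) ^ i) * PowerSeries.X) ^ ((geomPoly n).coeff i).toNat =
        (1 - PowerSeries.C ((Nat.card k : ℚ) ^ i) * PowerSeries.X) := by
    intro i hi
    rw [Finset.mem_range] at hi
    rw [coeff_geomPoly, if_pos hi]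
    simp
  have e2 : ∀ i ∈ Finset.range (n + 1),
      (1 - PowerSeries.C ((Nat.card k : ℚ) ^ i) * PowerSeries.X) ^ (-(geomPoly n).coeff i).toNat =
        1 := by
    intro i hi
    rw [Finset.mem_range] at hi
    rw [coeff_geomPoly, if_pos hi]
    simp
  rw [Finset.prod_congr rfl e1, Finset.prod_congr rfl e2, Finset.prod_const_one] at h
  exact h

end Groth.Agent.S13053
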