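import Groth.Statements.S13062
import Groth.Agent.R2.H88PtCountSch

set_option autoImplicit false
universe u
open CategoryTheory AlgebraicGeometry
open Zeta

namespace Groth.Agent.S13062

/-- If X is a variety of dimension r over a finite field k with q elements, there is a constant c_X > 0
with #X(F_{q^e}) ≤ c_X q^{re} for every e ≥ 1. Stated for any scheme of finite type over k of
dimension at most r, with a natural-number constant. -/
theorem result {k : Type u} [Field k] [Finite k] {X : Scheme.{u}}
    (f : X ⟶ Spec (CommRingCat.of k)) [LocallyOfFiniteType f] [QuasiCompact f] (r : ℕ)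
    (hr : topologicalKrullDim X ≤ r) :
    ∃ c : ℕ, ∀ (k' : Type u) [Field k'] [Algebra k k'] [Finite k'],
      SgaExt.pointCount f k' ≤ c * Nat.card k ^ (r * Module.finrank k k') := by
  have : Algebra.FiniteType ℤ k := inferInstance
  obtain ⟨D, p₀, hD⟩ := Groth.Agent.R2.H88.PtCountSch.exists_card_points_le_of_finiteType f r hr
  refine ⟨D, fun k' _ _ _ => ?_⟩
  have : CharP k (ringChar k) := ringChar.charP k
  have hp : (ringChar k).Prime := CharP.char_is_prime k (ringChar k)
  have hpk' : ((ringChar k : ℕ) : k') = 0 := by
    have h0 : ((ringChar k : ℕ) : k) = 0 := CharP.cast_eq_zero k (ringChar k)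
    rw [← map_natCast (algebraMap k k'), h0, map_zero]
  obtain ⟨h1, h2⟩ := hD (ringChar k) hp k' hpk'
  have hweak : Nat.card (Spec (CommRingCat.of k') ⟶ X) ≤ D * Nat.card k' ^ r := by
    by_cases h : p₀ ≤ ringChar k
    · exact (Nat.le_mul_of_pos_right _ Nat.card_pos).trans (h1 h)
    · exact h2 (not_le.mp h)
  have hcard : Nat.card k' = Nat.card k ^ Module.finrank k k' := Module.natCard_eq_pow_finrank
  have := Groth.Agent.R2.H88.PtCountSch.finite_points f k'
  calc SgaExt.pointCount f k' ≤ Nat.card (Spec (CommRingCat.of k') ⟶ X) :=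
        Nat.card_le_card_of_injective Subtype.val Subtype.val_injective
    _ ≤ D * Nat.card k' ^ r := hweak
    _ = D * Nat.card k ^ (r * Module.finrank k k') := by rw [hcard, ← pow_mul, mul_comm r]

end Groth.Agent.S13062
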