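import Groth.Statements.S14550
import Mathlib
import Groth.Agent.R2.H67FrobFix

set_option autoImplicit false
set_option linter.style.haveILetI false
universe u
open CategoryTheory AlgebraicGeometry Limits
open Zeta

namespace Groth.Agent.S14550

open Groth.Agent.R2.H67.FrobFix

lemma appLE_congr_hom {X Y : Scheme.{u}} {g g' : X ⟶ Y} (hg : g = g') (U : Y.Opens)
    (V : X.Opens) (h : V ≤ g ⁻¹ᵁ U) (h' : V ≤ g' ⁻¹ᵁ U) : g.appLE U V h = g'.appLE U V h' := by
  subst hg
  rfl

/-- Key lemma: all elements of the stalks of a scheme `E` with a preimmersion `ι : E ⟶ X̄` invariant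
under the Frobenius endomorphism `F` of `X̄ = X ×_k K` are periodic under the `p`-power map. -/
theorem stalk_isPer {k K : Type u} [Field k] [Field K] [Algebra k K]
    (p : ℕ) [Fact p.Prime] [CharP K p] (r : ℕ) (hr : 0 < r)
    (hK : ∀ x : K, IsPer p x)
    {X : Scheme.{u}} (f : X ⟶ Spec (CommRingCat.of k))
    (FX : X ⟶ X) (hle : ∀ U : X.Opens, U ≤ FX ⁻¹ᵁ U)
    (hFapp : ∀ (U : X.Opens) (s : Γ(X, U)), (FX.appLE U U (hle U)).hom s = s ^ (p ^ r))
    (F : FinFr.ext K f ⟶ FinFr.ext K f)
    (hF1 : F ≫ FinFr.extπ K f = FinFr.extπ K f ≫ FX)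
    (hF2 : F ≫ FinFr.extStr K f = FinFr.extStr K f)
    {E : Scheme.{u}} (ι : E ⟶ FinFr.ext K f) [IsPreimmersion ι] (hι : ι ≫ F = ι)
    (e : E) (z : E.presheaf.stalk e) : IsPer p z := by
  set π := FinFr.extπ K f with hπ
  set str := FinFr.extStr K f with hstr
  -- an affine open neighbourhood
  obtain ⟨U, hU, hxU, -⟩ := exists_isAffineOpen_mem_and_subset
    (x := π (ι e)) (U := ⊤) (TopologicalSpace.Opens.mem_top _)
  haveI : IsAffineHom π := by
    change IsAffineHom (pullback.fst f (FinFr.specι k K))
    exact MorphismProperty.pullback_fst (P := @IsAffineHom) _ _ inferInstance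
  have hŪ : IsAffineOpen (π ⁻¹ᵁ U) := hU.preimage π
  set Ū : (FinFr.ext K f).Opens := π ⁻¹ᵁ U with hŪdef
  have he : ι e ∈ Ū := hxU
  have hFŪ : Ū ≤ F ⁻¹ᵁ Ū := by
    intro y hy
    show π (F y) ∈ U
    have h1 : π (F y) = FX (π y) := congrArg (fun m => m.base y) hF1
    rw [h1]
    exact hle U hy
  let φ := F.appLE Ū Ū hFŪ
  let πs := π.appLE U Ū le_rfl
  let strs := str.appLE ⊤ Ū le_top
  have hφπ : πs ≫ φ = FX.appLE U U (hle U) ≫ πs := by
    simp only [πs, φ, Scheme.Hom.appLE_comp_appLE]
    exact appLE_congr_hom hF1 _ _ _ _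
  have hφstr : strs ≫ φ = strs := by
    simp only [strs, φ, Scheme.Hom.appLE_comp_appLE]
    exact appLE_congr_hom hF2 _ _ _ _
  let ψ := ι.app Ū
  have hφψ : φ ≫ ψ = ψ := by
    have h1 : ψ = ι.appLE Ū (ι ⁻¹ᵁ Ū) le_rfl := (Scheme.Hom.appLE_eq_app ι).symm
    rw [h1]
    simp only [φ, Scheme.Hom.appLE_comp_appLE]
    exact appLE_congr_hom hι _ _ _ _
  -- the stalk and its characteristic
  let R := E.presheaf.stalk e
  let Ψ : Γ(FinFr.ext K f, Ū) ⟶ E.presheaf.stalk e := ψ ≫ E.presheaf.germ (ι ⁻¹ᵁ Ū) e he
  have hΨφ : φ ≫ Ψ = Ψ := by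
    simp only [Ψ, ← Category.assoc, hφψ]
  let κ : K →+* E.presheaf.stalk e :=
    ((Scheme.ΓSpecIso (CommRingCat.of K)).inv ≫ strs ≫ Ψ).hom
  haveI : CharP (E.presheaf.stalk e) p := charP_of_injective_ringHom κ.injective p
  -- the pushout square of sections
  have H : IsPullback π str f (FinFr.specι k K) := IsPullback.of_hasPullback f (FinFr.specι k K)
  have hUST : (⊤ : (Spec (CommRingCat.of K)).Opens) ≤ (FinFr.specι k K) ⁻¹ᵁ ⊤ := le_top
  have hUSX : U ≤ f ⁻¹ᵁ ⊤ := le_top
  have hUY : Ū = π ⁻¹ᵁ U ⊓ str ⁻¹ᵁ ⊤ := by simp [Ū]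
  have hiso := isIso_pushoutSection_of_isAffineOpen H hUST hUSX hUY (isAffineOpen_top _)
    (isAffineOpen_top _) hU
  have Hpush := (isIso_pushoutSection_iff H hUST hUSX hUY).mp hiso
  -- all images are periodic
  let S₀ : Subring Γ(FinFr.ext K f, Ū) := (perSubring p (E.presheaf.stalk e)).comap Ψ.hom
  have hS₀ : S₀ = ⊤ := by
    refine subring_eq_top_of_isPushout Hpush S₀ ?_ ?_
    · intro a
      change IsPer p (Ψ.hom (πs.hom a))
      refine ⟨r, hr, ?_⟩
      rw [← map_pow, ← map_pow, ← hFapp U a]
      have h1 := ConcreteCategory.congr_hom hφπ a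
      rw [ConcreteCategory.comp_apply, ConcreteCategory.comp_apply] at h1
      have h2 := ConcreteCategory.congr_hom hΨφ (πs.hom a)
      rw [ConcreteCategory.comp_apply] at h2
      exact (congrArg Ψ.hom h1.symm).trans h2
    · intro c
      change IsPer p (Ψ.hom (strs.hom c))
      have h1 : IsPer p ((Scheme.ΓSpecIso (CommRingCat.of K)).hom.hom c) := hK _
      have h2 := h1.map (κ : K →* E.presheaf.stalk e)
      have h3 : κ ((Scheme.ΓSpecIso (CommRingCat.of K)).hom.hom c) = Ψ.hom (strs.hom c) := by
        have := ConcreteCategory.congr_hom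
          ((Scheme.ΓSpecIso (CommRingCat.of K)).hom_inv_id_assoc (strs ≫ Ψ)) c
        simp [κ]
      rw [← h3]
      exact h2
  have hall : ∀ b : Γ(FinFr.ext K f, Ū), IsPer p (Ψ.hom b) := by
    intro b
    have : b ∈ S₀ := hS₀ ▸ Subring.mem_top b
    exact this
  -- every element of the stalk is a quotient of images
  obtain ⟨w, rfl⟩ := ι.stalkMap_surjective e z
  letI := (FinFr.ext K f).presheaf.algebra_section_stalk (⟨ι e, he⟩ : Ū)
  haveI := hŪ.isLocalization_stalk ⟨ι e, he⟩
  obtain ⟨b, s, rfl⟩ := IsLocalization.exists_mk'_eq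
    (hŪ.primeIdealOf ⟨ι e, he⟩).asIdeal.primeCompl w
  have hspec := IsLocalization.mk'_spec ((FinFr.ext K f).presheaf.stalk (ι e)) b s
  have halg : ∀ b' : Γ(FinFr.ext K f, Ū),
      (ι.stalkMap e).hom (algebraMap _ ((FinFr.ext K f).presheaf.stalk (ι e)) b') = Ψ.hom b' :=
    fun b' => Scheme.Hom.germ_stalkMap_apply ι Ū e he b'
  have h1 := congrArg (ι.stalkMap e).hom hspec
  rw [map_mul, halg, halg] at h1
  have hunit : IsUnit (Ψ.hom (s : Γ(FinFr.ext K f, Ū))) := by
    rw [← halg]
    exact (IsLocalization.map_units ((FinFr.ext K f).presheaf.stalk (ι e)) s).map _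
  obtain ⟨v, hv⟩ := hunit.exists_right_inv
  have hvper : IsPer p v := (hall s).of_mul_eq_one hv
  have hz : (ι.stalkMap e).hom (IsLocalization.mk' ((FinFr.ext K f).presheaf.stalk (ι e)) b s) =
      Ψ.hom b * v := by
    rw [← h1, mul_assoc, hv, mul_one]
  rw [hz]
  exact (hall b).mul hvper

/-- Let X be a scheme of finite type over a finite field k with q elements (no smoothness assumption),
k̄ an algebraic closure of k, and F = Frob_{X,q} × id the k̄-endomorphism of X̄ = X ×_k k̄ induced
by the q-Frobenius of X. Then the intersection Γ_F ∩ Δ of the graph of F with the diagonal in X̄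
×_{k̄} X̄ is a reduced scheme with finitely many points. (The published statement adds that,
consequently, the intersection number of the graph of F with the diagonal equals the number of these
points; this row omits that consequence.) The q-Frobenius F_X is pinned as the endomorphism that is
the identity on points and raises sections to the q-th power, and F by F ≫ pr_1 = pr_1 ≫ F_X and F ≫
pr_2 = pr_2. -/
theorem result {k : Type u} [Field k] [Finite k]
    {X : Scheme.{u}} (f : X ⟶ Spec (CommRingCat.of k)) [LocallyOfFiniteType f] [QuasiCompact f]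
    (FX : X ⟶ X) (hFb : FX.base = 𝟙 _) (hle : ∀ U : X.Opens, U ≤ FX ⁻¹ᵁ U)
    (hFapp : ∀ (U : X.Opens) (s : Γ(X, U)), (FX.appLE U U (hle U)).hom s = s ^ Nat.card k)
    (F : FinFr.ext (AlgebraicClosure k) f ⟶ FinFr.ext (AlgebraicClosure k) f)
    (hF1 : F ≫ FinFr.extπ (AlgebraicClosure k) f = FinFr.extπ (AlgebraicClosure k) f ≫ FX)
    (hF2 : F ≫ FinFr.extStr (AlgebraicClosure k) f = FinFr.extStr (AlgebraicClosure k) f) :
    IsReduced (FinFr.fixScheme (FinFr.extStr (AlgebraicClosure k) f) F hF2) ∧
      Finite ↥(FinFr.fixScheme (FinFr.extStr (AlgebraicClosure k) f) F hF2) := by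
  classical
  obtain ⟨p, hp⟩ := CharP.exists k
  haveI : Fact p.Prime := ⟨CharP.char_is_prime k p⟩
  have hp1 : 1 < p := (Fact.out : p.Prime).one_lt
  haveI := Fintype.ofFinite k
  obtain ⟨r, -, hr⟩ := FiniteField.card k p
  have hq : Nat.card k = p ^ (r : ℕ) := by rw [Nat.card_eq_fintype_card, hr]
  haveI : CharP (AlgebraicClosure k) p :=
    charP_of_injective_algebraMap (algebraMap k (AlgebraicClosure k)).injective p
  have hK : ∀ x : AlgebraicClosure k, IsPer p x := isPer_of_isAlgebraic p k (AlgebraicClosure k)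
  set str := FinFr.extStr (AlgebraicClosure k) f with hstr
  let E := FinFr.fixScheme str F hF2
  let ι : E ⟶ FinFr.ext (AlgebraicClosure k) f := pullback.fst _ _
  have hι : ι ≫ F = ι := by
    have hc := pullback.condition
      (f := (pullback.lift (𝟙 _) F (by rw [hF2, Category.id_comp]) :
        FinFr.ext (AlgebraicClosure k) f ⟶ pullback str str))
      (g := (pullback.lift (𝟙 _) (𝟙 _) rfl :
        FinFr.ext (AlgebraicClosure k) f ⟶ pullback str str))
    have h1 := congrArg (fun m => m ≫ pullback.fst str str) hc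
    have h2 := congrArg (fun m => m ≫ pullback.snd str str) hc
    simp only [Category.assoc, pullback.lift_fst, pullback.lift_snd, Category.comp_id] at h1 h2
    change pullback.fst _ _ ≫ F = pullback.fst _ _
    rw [h2, ← h1]
  haveI : IsImmersion ι := by
    change IsImmersion (pullback.fst _ (pullback.diagonal str))
    infer_instance
  have hper : ∀ (e : E) (z : E.presheaf.stalk e), IsPer p z :=
    stalk_isPer p r r.pos hK f FX hle (fun U s => by rw [hFapp U s, hq]) F hF1 hF2 ι hι
  refine ⟨?_, ?_⟩
  · haveI : ∀ e : E, _root_.IsReduced (E.presheaf.stalk e) :=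
      fun e => isReduced_of_forall_isPer hp1 (hper e)
    exact isReduced_of_isReduced_stalk E
  · -- `X̄` is a Noetherian space, hence so is `E`
    haveI : LocallyOfFiniteType str := by
      change LocallyOfFiniteType (pullback.snd f (FinFr.specι k (AlgebraicClosure k)))
      infer_instance
    haveI : QuasiCompact str := by
      change QuasiCompact (pullback.snd f (FinFr.specι k (AlgebraicClosure k)))
      infer_instance
    haveI : IsLocallyNoetherian (FinFr.ext (AlgebraicClosure k) f) :=
      LocallyOfFiniteType.isLocallyNoetherian str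
    haveI : CompactSpace ↥(FinFr.ext (AlgebraicClosure k) f) :=
      QuasiCompact.compactSpace_of_compactSpace str
    haveI : IsNoetherian (FinFr.ext (AlgebraicClosure k) f) := {}
    haveI : TopologicalSpace.NoetherianSpace ↥(FinFr.ext (AlgebraicClosure k) f) := inferInstance
    haveI : TopologicalSpace.NoetherianSpace ↥E := ι.isEmbedding.isInducing.noetherianSpace
    -- every point is the generic point of an irreducible component
    have hgen : ∀ (e η : E), η ⤳ e → η = e := by
      intro e η h
      have h1 : η ∈ Set.range (E.fromSpecStalk e) := by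
        rw [Scheme.range_fromSpecStalk]
        exact h
      obtain ⟨𝔭, rfl⟩ := h1
      have h2 : 𝔭 = IsLocalRing.closedPoint (E.presheaf.stalk e) := by
        apply PrimeSpectrum.ext
        apply le_antisymm
        · exact IsLocalRing.le_maximalIdeal 𝔭.2.ne_top
        · intro z hz
          have hz0 : z = 0 := eq_zero_of_isPer_of_not_isUnit (hper e z) hp1
            ((IsLocalRing.mem_maximalIdeal z).1 hz)
          rw [hz0]
          exact Ideal.zero_mem _
      rw [h2, Scheme.fromSpecStalk_closedPoint]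
    have hcomp : ∀ e : E, closure ({e} : Set E) ∈ irreducibleComponents E := by
      intro e
      refine ⟨isIrreducible_singleton.closure, ?_⟩
      intro Z hZ hle'
      have hZ' : IsIrreducible (closure Z) := hZ.closure
      obtain ⟨η, hη⟩ := QuasiSober.sober hZ' isClosed_closure
      have h1 : η ⤳ e := by
        rw [specializes_iff_mem_closure, hη.def]
        exact subset_closure (hle' (subset_closure rfl))
      have h2 := hgen e η h1
      rw [h2] at hη
      calc Z ⊆ closure Z := subset_closure
        _ = closure {e} := hη.def.symm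
    have hfin : Finite (irreducibleComponents E) :=
      (TopologicalSpace.NoetherianSpace.finite_irreducibleComponents (α := E)).to_subtype
    refine Finite.of_injective (fun e : E => (⟨closure {e}, hcomp e⟩ : irreducibleComponents E)) ?_
    intro e e' h
    have h1 : closure ({e} : Set E) = closure {e'} := congrArg Subtype.val h
    exact (inseparable_iff_closure_eq.2 h1).eq

end Groth.Agent.S14550
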