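import Groth.Statements.S13067
import Groth.Agent.S14550

set_option autoImplicit false
universe u
open CategoryTheory AlgebraicGeometry Limits
open Zeta

namespace Groth.Agent.S13067

/-- Let X be smooth over a finite field k = F_q, k̄ an algebraic closure, and F = Frob_{X,q} × id the
k̄-endomorphism of X̄ = X ×_k k̄ induced by the q-Frobenius of X. Then the intersection Γ_F ∩ Δ of
the graph of F with the diagonal in X̄ ×_{k̄} X̄ is a reduced (finite) scheme. The published
statement is for the graph of F^r, r ≥ 1; that case is this one applied to X ×_k F_{q^r}, whose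
q^r-Frobenius induces F^r on X̄. The q-Frobenius F_X is pinned as the endomorphism that is the
identity on points and raises sections to the q-th power, and F by F ≫ pr_1 = pr_1 ≫ F_X and F ≫
pr_2 = pr_2. -/
theorem result {k : Type u} [Field k] [Finite k]
    {X : Scheme.{u}} (f : X ⟶ Spec (CommRingCat.of k)) [Smooth f] (FX : X ⟶ X)
    (hFb : FX.base = 𝟙 _) (hle : ∀ U : X.Opens, U ≤ FX ⁻¹ᵁ U)
    (hFapp : ∀ (U : X.Opens) (s : Γ(X, U)), (FX.appLE U U (hle U)).hom s = s ^ Nat.card k)
    (F : FinFr.ext (AlgebraicClosure k) f ⟶ FinFr.ext (AlgebraicClosure k) f)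
    (hF1 : F ≫ FinFr.extπ (AlgebraicClosure k) f = FinFr.extπ (AlgebraicClosure k) f ≫ FX)
    (hF2 : F ≫ FinFr.extStr (AlgebraicClosure k) f = FinFr.extStr (AlgebraicClosure k) f) :
    IsReduced (FinFr.fixScheme (FinFr.extStr (AlgebraicClosure k) f) F hF2) := by
  classical
  obtain ⟨p, hp⟩ := CharP.exists k
  haveI : Fact p.Prime := ⟨CharP.char_is_prime k p⟩
  have hp1 : 1 < p := (Fact.out : p.Prime).one_lt
  haveI := Fintype.ofFinite k
  obtain ⟨r, -, hr⟩ := FiniteField.card k p
  have hq : Nat.card k = p ^ (r : ℕ) := by rw [Nat.card_eq_fintype_card, hr]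
  haveI : CharP (AlgebraicClosure k) p :=
    charP_of_injective_algebraMap (algebraMap k (AlgebraicClosure k)).injective p
  have hK : ∀ x : AlgebraicClosure k, Groth.Agent.R2.H67.FrobFix.IsPer p x :=
    Groth.Agent.R2.H67.FrobFix.isPer_of_isAlgebraic p k (AlgebraicClosure k)
  set str := FinFr.extStr (AlgebraicClosure k) f with hstr
  let E := FinFr.fixScheme str F hF2
  let ι : E ⟶ FinFr.ext (AlgebraicClosure k) f := pullback.fst _ _
  have hι : ι ≫ F = ι := by
    have hc := pullback.condition
      (f := (pullback.lift (𝟙 _) F (by rw [hF2, Category.id_comp]) :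
        FinFr.ext (AlgebraicClosure k) f ⟶ pullback str str))
      (g := (pullback.lift (𝟙 _) (𝟙 _) rfl :
        FinFr.ext (AlgebraicClosure k) f ⟶ pullback str str))
    have h1 := congrArg (fun m => m ≫ pullback.fst str str) hc
    have h2 := congrArg (fun m => m ≫ pullback.snd str str) hc
    simp only [Category.assoc, pullback.lift_fst, pullback.lift_snd, Category.comp_id] at h1 h2
    change pullback.fst _ _ ≫ F = pullback.fst _ _
    rw [h2, ← h1]
  haveI : IsImmersion ι := by
    change IsImmersion (pullback.fst _ (pullback.diagonal str))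
    infer_instance
  have hper : ∀ (e : E) (z : E.presheaf.stalk e), Groth.Agent.R2.H67.FrobFix.IsPer p z :=
    Groth.Agent.S14550.stalk_isPer p r r.pos hK f FX hle (fun U s => by rw [hFapp U s, hq])
      F hF1 hF2 ι hι
  haveI : ∀ e : E, _root_.IsReduced (E.presheaf.stalk e) :=
    fun e => Groth.Agent.R2.H67.FrobFix.isReduced_of_forall_isPer hp1 (hper e)
  exact isReduced_of_isReduced_stalk E

end Groth.Agent.S13067
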