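import Groth.Statements.S13070
import Groth.Agent.R2.H88PtCountSch

set_option autoImplicit false
universe u
open CategoryTheory AlgebraicGeometry
open Zeta

namespace Groth.Agent.S13070

/-- For an arithmetic scheme X (of finite type over ℤ) of dimension r there are c_X > 0 and p₀ such that
#X(F_{p^m}) ≤ c_X p^{m(r−1)} for all primes p ≥ p₀ and m ≥ 1, and #X(F_{p^m}) ≤ c_X p^{mr} for p <
p₀ and m ≥ 1. Here #X(F) is the number of morphisms Spec F → X, and the dimension is only assumed ≤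
r. -/
theorem result {X : Scheme.{u}}
    (f : X ⟶ Spec (CommRingCat.of (ULift.{u} ℤ))) [LocallyOfFiniteType f] [QuasiCompact f] (r : ℕ)
    (hr : topologicalKrullDim X ≤ r) :
    ∃ (c : ℝ) (p₀ : ℕ), 0 < c ∧ ∀ (p m : ℕ), p.Prime → 1 ≤ m →
      ∀ (F : Type u) [Field F], Nat.card F = p ^ m →
        (p₀ ≤ p → (Nat.card (Spec (CommRingCat.of F) ⟶ X) : ℝ) ≤
            c * (p : ℝ) ^ ((m : ℝ) * ((r : ℝ) - 1))) ∧
        (p < p₀ → (Nat.card (Spec (CommRingCat.of F) ⟶ X) : ℝ) ≤ c * (p : ℝ) ^ ((m : ℝ) * r)) := by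
  obtain ⟨D, p₀, hD⟩ := Groth.Agent.R2.H88.PtCountSch.exists_card_points_le f r hr
  refine ⟨max (D : ℝ) 1, p₀, lt_of_lt_of_le one_pos (le_max_right _ _), ?_⟩
  intro p m hp hm F _ hcard
  have hp1 : 1 < p := hp.one_lt
  have hcard_ne : Nat.card F ≠ 0 := by
    rw [hcard]
    exact pow_ne_zero _ (by omega)
  have : Finite F := Nat.finite_of_card_ne_zero hcard_ne
  have hpF : (p : F) = 0 := by
    let _ := Fintype.ofFinite F
    have h0 : ((Fintype.card F : ℕ) : F) = 0 := Nat.cast_card_eq_zero F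
    rw [← Nat.card_eq_fintype_card, hcard, Nat.cast_pow] at h0
    exact (pow_eq_zero_iff (by omega)).mp h0
  have hpR : (0 : ℝ) < (p : ℝ) := by exact_mod_cast (by omega : 0 < p)
  have hqR : (0 : ℝ) < ((p : ℝ) ^ m) := pow_pos hpR m
  have hcardR : ((Nat.card F : ℕ) : ℝ) = (p : ℝ) ^ m := by rw [hcard]; push_cast; rfl
  have hDle : (D : ℝ) ≤ max (D : ℝ) 1 := le_max_left _ _
  obtain ⟨h1, h2⟩ := hD p hp F hpF
  refine ⟨fun hle => ?_, fun hlt => ?_⟩
  · have hnat := h1 hle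
    have hreal : (Nat.card (Spec (CommRingCat.of F) ⟶ X) : ℝ) * (p : ℝ) ^ m ≤
        (D : ℝ) * ((p : ℝ) ^ m) ^ r := by
      have := (Nat.cast_le (α := ℝ)).mpr hnat
      push_cast at this
      rw [hcardR] at this
      exact this
    have hpow : (p : ℝ) ^ ((m : ℝ) * ((r : ℝ) - 1)) = ((p : ℝ) ^ m) ^ r / (p : ℝ) ^ m := by
      rw [Real.rpow_mul hpR.le, Real.rpow_natCast, Real.rpow_sub_one hqR.ne', Real.rpow_natCast]
    rw [hpow, ← mul_div_assoc, le_div_iff₀ hqR]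
    refine hreal.trans ?_
    exact mul_le_mul_of_nonneg_right hDle (pow_nonneg hqR.le r)
  · have hnat := h2 hlt
    have hreal : (Nat.card (Spec (CommRingCat.of F) ⟶ X) : ℝ) ≤ (D : ℝ) * ((p : ℝ) ^ m) ^ r := by
      have := (Nat.cast_le (α := ℝ)).mpr hnat
      push_cast at this
      rw [hcardR] at this
      exact this
    have hpow : (p : ℝ) ^ ((m : ℝ) * (r : ℝ)) = ((p : ℝ) ^ m) ^ r := by
      rw [Real.rpow_mul hpR.le, Real.rpow_natCast, Real.rpow_natCast]
    rw [hpow]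
    refine hreal.trans ?_
    exact mul_le_mul_of_nonneg_right hDle (pow_nonneg hqR.le r)

end Groth.Agent.S13070
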