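import Groth.Statements.S13080
-- import your own Groth.Agent.* helpers here
import Mathlib
import Groth.Agent.Lib.Helper20Quot

set_option autoImplicit false
universe u
open CategoryTheory AlgebraicGeometry Limits
open Zeta

namespace Groth.Agent.S13080

section Helpers

open Groth.Agent.Lib.Helper20 TopologicalSpace

variable {X : Scheme.{u}} {G : Type u} [Group G] (ρ : G →* Aut X)

theorem rho_mul_hom' (g h : G) : (ρ (g * h)).hom = (ρ h).hom ≫ (ρ g).hom := by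
  rw [map_mul]; rfl

theorem rho_one_hom' : (ρ 1).hom = 𝟙 X := by
  rw [map_one]; rfl

theorem rho_inv_base (g : G) (x : X) : (ρ g⁻¹).hom.base ((ρ g).hom.base x) = x := by
  have h : (ρ g).hom ≫ (ρ g⁻¹).hom = 𝟙 X := by
    rw [← rho_mul_hom', inv_mul_cancel, rho_one_hom']
  have := congrArg (fun f : X ⟶ X => f.base x) h
  simpa using this

theorem rho_base_inv (g : G) (x : X) : (ρ g).hom.base ((ρ g⁻¹).hom.base x) = x := by
  have := rho_inv_base ρ g⁻¹ x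
  rwa [inv_inv] at this

/-- the translates `g⁻¹(W)` -/
def tr (W : X.Opens) (g : G) : X.Opens := (ρ g).hom ⁻¹ᵁ W

theorem mem_tr (W : X.Opens) (g : G) (x : X) : x ∈ tr ρ W g ↔ (ρ g).hom.base x ∈ W := Iff.rfl

theorem tr_mul (W : X.Opens) (a g : G) : (ρ g).hom ⁻¹ᵁ (tr ρ W a) = tr ρ W (a * g) := by
  unfold tr
  rw [← Scheme.Hom.comp_preimage, ← rho_mul_hom']

variable (H : Subgroup G) (Y T : X.Opens)
  (hT : ∀ g : G, (ρ g).hom ⁻¹ᵁ T = T)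
  (hcov : ∀ x : X, ∃ g : G, x ∈ (ρ g).hom.base '' (Y : Set X))
  (hdisj : ∀ g : G, g ∉ H → Disjoint ((ρ g).hom.base '' (Y : Set X)) (Y : Set X))

include hT in
theorem tr_le (g : G) : tr ρ (Y ⊓ T) g ≤ T := by
  intro x hx
  have : (ρ g).hom.base x ∈ T := hx.2
  have h2 : x ∈ (ρ g).hom ⁻¹ᵁ T := this
  rwa [hT g] at h2

include hT hcov in
theorem cover_tr : T ≤ ⨆ g : G, tr ρ (Y ⊓ T) g := by
  intro x hx
  obtain ⟨g, y, hy, rfl⟩ := hcov x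
  refine Opens.mem_iSup.mpr ⟨g⁻¹, ?_⟩
  rw [mem_tr, rho_inv_base]
  refine ⟨hy, ?_⟩
  have : y ∈ (ρ g).hom ⁻¹ᵁ T := hx
  rwa [hT g] at this

include hdisj in
theorem mem_H_of_mem_tr (g g' : G) (x : X) (hx : x ∈ tr ρ (Y ⊓ T) g) (hx' : x ∈ tr ρ (Y ⊓ T) g') :
    g' * g⁻¹ ∈ H := by
  by_contra hne
  have hd := hdisj _ hne
  rw [Set.disjoint_left] at hd
  refine hd ⟨(ρ g).hom.base x, hx.1, ?_⟩ hx'.1
  have h : (ρ (g' * g⁻¹)).hom = (ρ g⁻¹).hom ≫ (ρ g').hom := rho_mul_hom' ρ g' g⁻¹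
  rw [h]
  change (ρ g').hom.base ((ρ g⁻¹).hom.base ((ρ g).hom.base x)) = _
  rw [rho_inv_base]

/-- the family of translated sections -/
noncomputable def trSec (t : Γ(X, Y ⊓ T)) (g : G) : Γ(X, tr ρ (Y ⊓ T) g) :=
  ((ρ g).hom.app (Y ⊓ T)).hom t

theorem res_trSec (t : Γ(X, Y ⊓ T)) (g : G) (V : X.Opens) (hV : V ≤ tr ρ (Y ⊓ T) g) :
    (X.presheaf.map (homOfLE hV).op).hom (trSec ρ Y T t g) =
      ((ρ g).hom.appLE (Y ⊓ T) V hV).hom t := by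
  unfold trSec
  have h : (ρ g).hom.app (Y ⊓ T) ≫ X.presheaf.map (homOfLE hV).op =
      (ρ g).hom.appLE (Y ⊓ T) V hV := by
    rw [Scheme.Hom.app_eq_appLE, Scheme.Hom.appLE_map]
  exact congrArg (fun f => f.hom t) h

theorem appLE_mul (W V : X.Opens) (h g : G) (eh : W ≤ (ρ h).hom ⁻¹ᵁ W)
    (eg : V ≤ (ρ g).hom ⁻¹ᵁ W) (ehg : V ≤ (ρ (h * g)).hom ⁻¹ᵁ W) :
    (ρ (h * g)).hom.appLE W V ehg = (ρ h).hom.appLE W W eh ≫ (ρ g).hom.appLE W V eg := by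
  rw [Scheme.Hom.appLE_comp_appLE]
  exact appLE_congr_hom (rho_mul_hom' ρ h g) _ _ _

include hdisj in
theorem compatible_trSec (hW : ∀ h : H, Y ⊓ T ≤ (ρ (h : G)).hom ⁻¹ᵁ (Y ⊓ T))
    (t : Γ(X, Y ⊓ T)) (ht : ∀ h : H, ((ρ (h : G)).hom.appLE _ _ (hW h)).hom t = t) :
    TopCat.Presheaf.IsCompatible X.presheaf (tr ρ (Y ⊓ T)) (trSec ρ Y T t) := by
  intro g g'
  by_cases hbot : tr ρ (Y ⊓ T) g ⊓ tr ρ (Y ⊓ T) g' = ⊥
  · have : Subsingleton Γ(X, tr ρ (Y ⊓ T) g ⊓ tr ρ (Y ⊓ T) g') := by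
      rw [hbot]; infer_instance
    exact Subsingleton.elim _ _
  · have hne : ∃ x, x ∈ tr ρ (Y ⊓ T) g ⊓ tr ρ (Y ⊓ T) g' := by
      by_contra hcon
      push Not at hcon
      exact hbot (Opens.ext (Set.eq_empty_of_forall_notMem hcon))
    obtain ⟨x, hx, hx'⟩ := hne
    have hh := mem_H_of_mem_tr ρ H Y T hdisj g g' x hx hx'
    have hg' : g' = (g' * g⁻¹) * g := by group
    change (X.presheaf.map (homOfLE inf_le_left).op).hom (trSec ρ Y T t g) =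
      (X.presheaf.map (homOfLE inf_le_right).op).hom (trSec ρ Y T t g')
    rw [res_trSec, res_trSec]
    have e1 : (ρ g').hom.appLE (Y ⊓ T) (tr ρ (Y ⊓ T) g ⊓ tr ρ (Y ⊓ T) g') inf_le_right =
        (ρ ((g' * g⁻¹) * g)).hom.appLE (Y ⊓ T) (tr ρ (Y ⊓ T) g ⊓ tr ρ (Y ⊓ T) g')
          (hg' ▸ inf_le_right) := by
      congr 3
    rw [e1, appLE_mul ρ (Y ⊓ T) (tr ρ (Y ⊓ T) g ⊓ tr ρ (Y ⊓ T) g') (g' * g⁻¹) g
      (hW ⟨_, hh⟩) inf_le_left (hg' ▸ inf_le_right)]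
    change _ = ((ρ g).hom.appLE _ _ _).hom (((ρ (g' * g⁻¹)).hom.appLE _ _ _).hom t)
    rw [ht ⟨_, hh⟩]


theorem appLE_trSec (t : Γ(X, Y ⊓ T)) (b g : G) (V : X.Opens)
    (hV : V ≤ (ρ g).hom ⁻¹ᵁ (tr ρ (Y ⊓ T) b)) (hV' : V ≤ tr ρ (Y ⊓ T) (b * g)) :
    ((ρ g).hom.appLE (tr ρ (Y ⊓ T) b) V hV).hom (trSec ρ Y T t b) =
      ((ρ (b * g)).hom.appLE (Y ⊓ T) V hV').hom t := by
  unfold trSec
  have h : (ρ b).hom.app (Y ⊓ T) ≫ (ρ g).hom.appLE (tr ρ (Y ⊓ T) b) V hV =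
      (ρ (b * g)).hom.appLE (Y ⊓ T) V hV' := by
    rw [Scheme.Hom.app_eq_appLE]
    unfold tr
    rw [Scheme.Hom.appLE_comp_appLE]
    exact (appLE_congr_hom (rho_mul_hom' ρ b g) _ _ _).symm
  exact congrArg (fun f => f.hom t) h

include hT hcov in
theorem cover_tr_mul (g : G) : T ≤ ⨆ b : G, tr ρ (Y ⊓ T) (b * g) := by
  intro x hx
  obtain ⟨a, ha⟩ := Opens.mem_iSup.mp (cover_tr ρ Y T hT hcov hx)
  exact Opens.mem_iSup.mpr ⟨a * g⁻¹, by rwa [inv_mul_cancel_right]⟩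

include hT hcov hdisj in
theorem exists_invariant_extension (hW : ∀ h : H, Y ⊓ T ≤ (ρ (h : G)).hom ⁻¹ᵁ (Y ⊓ T))
    (t : Γ(X, Y ⊓ T)) (ht : ∀ h : H, ((ρ (h : G)).hom.appLE _ _ (hW h)).hom t = t) :
    ∃ s : Γ(X, T), (∀ g : G, ((ρ g).hom.appLE T T (hT g).ge).hom s = s) ∧
      (X.presheaf.map (homOfLE (inf_le_right : Y ⊓ T ≤ T)).op).hom s = t := by
  obtain ⟨s, hs, -⟩ := X.sheaf.existsUnique_gluing' (tr ρ (Y ⊓ T)) T
    (fun g => homOfLE (tr_le ρ Y T hT g)) (cover_tr ρ Y T hT hcov) (trSec ρ Y T t)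
    (compatible_trSec ρ H Y T hdisj hW t ht)
  have hs' : ∀ g : G, (X.presheaf.map (homOfLE (tr_le ρ Y T hT g)).op).hom s = trSec ρ Y T t g :=
    hs
  refine ⟨s, ?_, ?_⟩
  · intro g
    fapply X.sheaf.eq_of_locally_eq' (fun b => tr ρ (Y ⊓ T) (b * g)) T
      (fun b => homOfLE (tr_le ρ Y T hT (b * g))) (cover_tr_mul ρ Y T hT hcov g)
    intro b
    change (X.presheaf.map (homOfLE (tr_le ρ Y T hT (b * g))).op).hom
        (((ρ g).hom.appLE T T (hT g).ge).hom s) =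
      (X.presheaf.map (homOfLE (tr_le ρ Y T hT (b * g))).op).hom s
    rw [hs' (b * g)]
    have e0 : tr ρ (Y ⊓ T) (b * g) ≤ (ρ g).hom ⁻¹ᵁ (tr ρ (Y ⊓ T) b) := (tr_mul ρ (Y ⊓ T) b g).ge
    have h1 : (ρ g).hom.appLE T T (hT g).ge ≫
        X.presheaf.map (homOfLE (tr_le ρ Y T hT (b * g))).op =
        X.presheaf.map (homOfLE (tr_le ρ Y T hT b)).op ≫
          (ρ g).hom.appLE (tr ρ (Y ⊓ T) b) (tr ρ (Y ⊓ T) (b * g)) e0 := by
      rw [Scheme.Hom.appLE_map, Scheme.Hom.map_appLE]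
    have h2 := congrArg (fun f => f.hom s) h1
    change (X.presheaf.map _).hom (((ρ g).hom.appLE T T _).hom s) =
      ((ρ g).hom.appLE _ _ e0).hom ((X.presheaf.map _).hom s) at h2
    rw [h2, hs' b, appLE_trSec ρ Y T t b g _ e0 le_rfl]
    unfold trSec
    rw [Scheme.Hom.app_eq_appLE]
    rfl
  · have h1 := hs' 1
    have e1 : Y ⊓ T ≤ tr ρ (Y ⊓ T) 1 := by
      unfold tr
      rw [rho_one_hom']
      exact le_rfl
    have h2 := congrArg (X.presheaf.map (homOfLE e1).op).hom h1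
    change (X.presheaf.map _ ≫ X.presheaf.map _).hom s = _ at h2
    rw [← X.presheaf.map_comp, res_trSec] at h2
    have h3 : (ρ 1).hom.appLE (Y ⊓ T) (Y ⊓ T) e1 = 𝟙 _ := by
      rw [appLE_congr_hom (rho_one_hom' ρ)]
      exact id_appLE _ _
    rw [h3] at h2
    exact h2

include hT hcov in
theorem eq_zero_of_res_eq_zero (s : Γ(X, T))
    (hs : ∀ g : G, ((ρ g).hom.appLE T T (hT g).ge).hom s = s)
    (h0 : (X.presheaf.map (homOfLE (inf_le_right : Y ⊓ T ≤ T)).op).hom s = 0) : s = 0 := by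
  fapply X.sheaf.eq_of_locally_eq' (tr ρ (Y ⊓ T)) T
    (fun g => homOfLE (tr_le ρ Y T hT g)) (cover_tr ρ Y T hT hcov)
  intro a
  change (X.presheaf.map (homOfLE (tr_le ρ Y T hT a)).op).hom s =
    (X.presheaf.map (homOfLE (tr_le ρ Y T hT a)).op).hom 0
  rw [map_zero]
  have h1 : (ρ a).hom.appLE T T (hT a).ge ≫ X.presheaf.map (homOfLE (tr_le ρ Y T hT a)).op =
      X.presheaf.map (homOfLE (inf_le_right : Y ⊓ T ≤ T)).op ≫
        (ρ a).hom.appLE (Y ⊓ T) (tr ρ (Y ⊓ T) a) le_rfl := by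
    rw [Scheme.Hom.appLE_map, Scheme.Hom.map_appLE]
  have h2 := congrArg (fun f => f.hom s) h1
  change (X.presheaf.map _).hom (((ρ a).hom.appLE T T _).hom s) =
    ((ρ a).hom.appLE _ _ _).hom ((X.presheaf.map _).hom s) at h2
  rw [hs a, h0, map_zero] at h2
  exact h2


section Compare

variable {X : Scheme.{u}} (Y : X.Opens)

theorem J_le (T : X.Opens) : Y.ι ⁻¹ᵁ T ≤ Y.ι ⁻¹ᵁ (Y ⊓ T) := fun x hx => ⟨x.2, hx⟩

theorem J_bij (T : X.Opens) :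
    Function.Bijective (Y.ι.appLE (Y ⊓ T) (Y.ι ⁻¹ᵁ T) (J_le Y T)).hom := by
  have h : Y.ι ⁻¹ᵁ T = Y.ι ⁻¹ᵁ (Y ⊓ T) :=
    le_antisymm (J_le Y T) (Y.ι.preimage_mono inf_le_right)
  have h1 : IsIso (Y.ι.appLE (Y ⊓ T) (Y.ι ⁻¹ᵁ (Y ⊓ T)) le_rfl) := by
    rw [Scheme.Hom.appLE_eq_app]
    exact Scheme.Hom.isIso_app _ _ (by rw [Scheme.Opens.opensRange_ι]; exact inf_le_left)
  have h2 : IsIso (Y.ι.appLE (Y ⊓ T) (Y.ι ⁻¹ᵁ T) (J_le Y T)) :=
    (Scheme.Hom.appLE_congr Y.ι (J_le Y T) rfl h (fun f => IsIso f)).mpr h1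
  exact ConcreteCategory.bijective_of_isIso _

theorem ι_app_eq (T : X.Opens) :
    Y.ι.app T = X.presheaf.map (homOfLE (inf_le_right : Y ⊓ T ≤ T)).op ≫
      Y.ι.appLE (Y ⊓ T) (Y.ι ⁻¹ᵁ T) (J_le Y T) := by
  rw [Scheme.Hom.map_appLE, Scheme.Hom.appLE_eq_app]

theorem J_equivariant {σ : X ⟶ X} {σY : (Y : Scheme.{u}) ⟶ Y} (h : σY ≫ Y.ι = Y.ι ≫ σ)
    (T : X.Opens) (eσ : Y ⊓ T ≤ σ ⁻¹ᵁ (Y ⊓ T)) (eσY : Y.ι ⁻¹ᵁ T ≤ σY ⁻¹ᵁ (Y.ι ⁻¹ᵁ T)) :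
    σ.appLE (Y ⊓ T) (Y ⊓ T) eσ ≫ Y.ι.appLE (Y ⊓ T) (Y.ι ⁻¹ᵁ T) (J_le Y T) =
      Y.ι.appLE (Y ⊓ T) (Y.ι ⁻¹ᵁ T) (J_le Y T) ≫ σY.appLE (Y.ι ⁻¹ᵁ T) (Y.ι ⁻¹ᵁ T) eσY := by
  rw [Scheme.Hom.appLE_comp_appLE, Scheme.Hom.appLE_comp_appLE]
  exact (appLE_congr_hom h _ _ _).symm

end Compare

end Helpers


/-- Let G be a finite group acting by algebraic automorphisms over k on a scheme X of finite type over k
admitting a quotient p : X → X/G, H ⊆ G a subgroup and Y ⊆ X an open subset preserved by H such that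
X is the disjoint union of the translates Y g over the cosets of G mod H. Then the natural morphism
Y/H → X/G is an isomorphism: Y → X/G is a quotient of Y by H. The action of H on Y is pinned by
compatibility with the inclusion Y → X; the coset condition is stated as: the translates of Y cover
X, and g(Y) is disjoint from Y for g ∉ H. -/
theorem result {k : Type u} [Field k] {G : Type u} [Group G]
    [Finite G] {X XG : Scheme.{u}} (fX : X ⟶ Spec (CommRingCat.of k)) [LocallyOfFiniteType fX]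
    [QuasiCompact fX] (ρ : G →* Aut X) (hρ : ∀ g, (ρ g).hom ≫ fX = fX) (p : X ⟶ XG)
    (hP : SGA1.IsQuot ρ p) (H : Subgroup G) (Y : X.Opens)
    (hcov : ∀ x : X, ∃ g : G, x ∈ (ρ g).hom.base '' (Y : Set X))
    (hdisj : ∀ g : G, g ∉ H → Disjoint ((ρ g).hom.base '' (Y : Set X)) (Y : Set X))
    (ρY : H →* Aut (Y : Scheme.{u})) (hρY : ∀ h : H, (ρY h).hom ≫ Y.ι = Y.ι ≫ (ρ (h : G)).hom) :
    SGA1.IsQuot ρY (Y.ι ≫ p) := by
  classical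
  -- `Y` is stable under `H`
  have hYle : ∀ h : H, Y ≤ (ρ (h : G)).hom ⁻¹ᵁ Y := by
    intro h y hy
    have h1 := congrArg (fun f : (Y : Scheme.{u}) ⟶ X => f.base ⟨y, hy⟩) (hρY h)
    change Y.ι.base ((ρY h).hom.base ⟨y, hy⟩) = (ρ (h : G)).hom.base y at h1
    change (ρ (h : G)).hom.base y ∈ Y
    rw [← h1]
    exact ((ρY h).hom.base ⟨y, hy⟩).2
  have hYimg : ∀ h : H, (ρ (h : G)).hom.base '' (Y : Set X) ⊆ Y := by
    rintro h _ ⟨y, hy, rfl⟩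
    exact hYle h hy
  -- `Y` is closed
  have hYclosed : IsClosed (Y : Set X) := by
    rw [← isOpen_compl_iff, isOpen_iff_forall_mem_open]
    intro x hx
    obtain ⟨g, hg⟩ := hcov x
    have hgH : g ∉ H := fun hgH => hx (hYimg ⟨g, hgH⟩ hg)
    refine ⟨(ρ g).hom.base '' (Y : Set X), ?_, ?_, hg⟩
    · exact fun z hz hzY => Set.disjoint_left.mp (hdisj g hgH) hz hzY
    · exact (ρ g).hom.isOpenEmbedding.isOpenMap _ Y.isOpen
  have : IsClosedImmersion Y.ι := IsClosedImmersion.of_isPreimmersion _ (by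
    rw [Scheme.Opens.range_ι]; exact hYclosed)
  have := hP.affine
  have hinv : ∀ h : H, (ρY h).hom ≫ Y.ι ≫ p = Y.ι ≫ p := by
    intro h
    rw [← Category.assoc, hρY h, Category.assoc, hP.inv]
  have hT : ∀ (U : XG.Opens) (g : G), (ρ g).hom ⁻¹ᵁ (p ⁻¹ᵁ U) = p ⁻¹ᵁ U := fun U g => by
    rw [← Scheme.Hom.comp_preimage, hP.inv]
  have hcomp : ∀ (U : XG.Opens) (a : Γ(XG, U)),
      ((Y.ι ≫ p).app U).hom a =
        (Y.ι.appLE (Y ⊓ p ⁻¹ᵁ U) (Y.ι ⁻¹ᵁ (p ⁻¹ᵁ U)) (J_le Y _)).hom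
          ((X.presheaf.map (homOfLE (inf_le_right : Y ⊓ p ⁻¹ᵁ U ≤ p ⁻¹ᵁ U)).op).hom
            ((p.app U).hom a)) := by
    intro U a
    have h1 : (Y.ι ≫ p).app U = p.app U ≫ Y.ι.app (p ⁻¹ᵁ U) := Scheme.Hom.comp_app _ _ _
    rw [ι_app_eq] at h1
    exact congrArg (fun f => f.hom a) h1
  refine ⟨inferInstance, hinv, ?_, ?_⟩
  · intro U
    rw [injective_iff_map_eq_zero]
    intro a ha
    rw [hcomp U a] at ha
    have h2 : (X.presheaf.map (homOfLE (inf_le_right : Y ⊓ p ⁻¹ᵁ U ≤ p ⁻¹ᵁ U)).op).hom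
        ((p.app U).hom a) = 0 :=
      (J_bij Y _).1 (ha.trans (map_zero _).symm)
    have h3 := eq_zero_of_res_eq_zero ρ Y (p ⁻¹ᵁ U) (hT U) hcov ((p.app U).hom a)
      (fun g => (hP.range_iff U _).mp ⟨a, rfl⟩ g) h2
    exact hP.injective U (h3.trans (map_zero _).symm)
  · intro U t
    have hW : ∀ h : H, Y ⊓ p ⁻¹ᵁ U ≤ (ρ (h : G)).hom ⁻¹ᵁ (Y ⊓ p ⁻¹ᵁ U) :=
      fun h x hx => ⟨hYle h hx.1, (hT U h).ge hx.2⟩
    constructor
    · rintro ⟨a, rfl⟩ h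
      have h1 : (Y.ι ≫ p).app U ≫ (ρY h).hom.appLE _ _
          (SGA1.preimage_le_of_inv ρY (Y.ι ≫ p) hinv h U) = (Y.ι ≫ p).app U := by
        rw [Scheme.Hom.app_eq_appLE, Scheme.Hom.appLE_comp_appLE]
        exact Groth.Agent.Lib.Helper20.appLE_congr_hom (hinv h) _ _ _
      exact congrArg (fun f => f.hom a) h1
    · intro ht
      obtain ⟨t', ht'⟩ := (J_bij Y (p ⁻¹ᵁ U)).2 t
      have ht'inv : ∀ h : H, ((ρ (h : G)).hom.appLE _ _ (hW h)).hom t' = t' := by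
        intro h
        apply (J_bij Y (p ⁻¹ᵁ U)).1
        have h1 := congrArg (fun f => f.hom t') (J_equivariant Y (hρY h) (p ⁻¹ᵁ U) (hW h)
          (SGA1.preimage_le_of_inv ρY (Y.ι ≫ p) hinv h U))
        change (Y.ι.appLE _ _ _).hom (((ρ (h : G)).hom.appLE _ _ _).hom t') =
          ((ρY h).hom.appLE _ _ _).hom ((Y.ι.appLE _ _ _).hom t') at h1
        rw [h1]
        exact (congrArg ((ρY h).hom.appLE _ _
          (SGA1.preimage_le_of_inv ρY (Y.ι ≫ p) hinv h U)).hom ht').trans ((ht h).trans ht'.symm)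
      obtain ⟨s, hs, hst⟩ := exists_invariant_extension ρ H Y (p ⁻¹ᵁ U) (hT U) hcov hdisj hW
        t' ht'inv
      obtain ⟨a, ha⟩ := (hP.range_iff U s).mpr hs
      refine ⟨a, ?_⟩
      rw [hcomp U a, ha, hst]
      exact ht'

end Groth.Agent.S13080
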