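import Groth.Statements.S13082
-- import your own Groth.Agent.* helpers here
import Mathlib
import Groth.Agent.R2.H66QuotPts

set_option autoImplicit false
universe u
open CategoryTheory AlgebraicGeometry Limits
open Zeta

namespace Groth.Agent.S13082

section Helpers

/-- `Spec` of a field extension is an epimorphism of schemes. -/
theorem epi_spec_field (K L : Type u) [Field K] [Field L] [Algebra K L] :
    Epi (Spec.map (CommRingCat.ofHom (algebraMap K L))) := by
  have h1 : Flat (Spec.map (CommRingCat.ofHom (algebraMap K L))) := by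
    rw [HasRingHomProperty.Spec_iff (P := @Flat)]
    exact RingHom.flat_algebraMap_iff.mpr inferInstance
  have h2 : Surjective (Spec.map (CommRingCat.ofHom (algebraMap K L))) :=
    ⟨fun x => ⟨default, Subsingleton.elim _ _⟩⟩
  exact Flat.epi_of_flat_of_surjective _

end Helpers


/-- Let X be a scheme of finite type over k with an action of a finite group G by algebraic
automorphisms over k admitting a quotient π : X → X/G, and W a locally closed subscheme of X on
which G induces an action. Then the canonical morphism W/G → π(W) is radicial and surjective: the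
induced morphism φ : W/G → X/G is universally injective with set-theoretic image π(W). The action on
W is pinned along the immersion j : W → X, φ by p_W ≫ φ = j ≫ π for a quotient p_W : W → W/G. -/
theorem result {k : Type u} [Field k] {G : Type u}
    [Group G] [Finite G] {X XG W WG : Scheme.{u}} (fX : X ⟶ Spec (CommRingCat.of k))
    [LocallyOfFiniteType fX] [QuasiCompact fX] (ρ : G →* Aut X) (hρ : ∀ g, (ρ g).hom ≫ fX = fX)
    (p : X ⟶ XG) (hP : SGA1.IsQuot ρ p) (j : W ⟶ X) [IsImmersion j] (ρW : G →* Aut W)
    (hρW : ∀ g, (ρW g).hom ≫ j = j ≫ (ρ g).hom) (pW : W ⟶ WG) (hPW : SGA1.IsQuot ρW pW)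
    (φ : WG ⟶ XG) (hφ : pW ≫ φ = j ≫ p) :
    UniversallyInjective φ ∧ Set.range φ.base = p.base '' Set.range j.base := by
  constructor
  · refine ((tfae_universallyInjective φ).out 1 0).mp ?_
    intro K _ g₁ g₂ hg
    have hg' : g₁ ≫ φ = g₂ ≫ φ := hg
    have hepi := epi_spec_field K (AlgebraicClosure K)
    obtain ⟨h₁, hh₁⟩ := Groth.Agent.R2.H66.QuotPts.exists_lift_geometric_point hPW
      (Spec.map (CommRingCat.ofHom (algebraMap K (AlgebraicClosure K))) ≫ g₁)
    obtain ⟨h₂, hh₂⟩ := Groth.Agent.R2.H66.QuotPts.exists_lift_geometric_point hPW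
      (Spec.map (CommRingCat.ofHom (algebraMap K (AlgebraicClosure K))) ≫ g₂)
    have heq : (h₁ ≫ j) ≫ p = (h₂ ≫ j) ≫ p := by
      rw [Category.assoc, Category.assoc, ← hφ, ← Category.assoc, ← Category.assoc, hh₁, hh₂,
        Category.assoc, Category.assoc, hg']
    obtain ⟨g, hgg⟩ := Groth.Agent.R2.H66.QuotPts.exists_rho_comp_eq hP (h₁ ≫ j) (h₂ ≫ j) heq
    have h3 : h₂ = h₁ ≫ (ρW g).hom := by
      rw [← cancel_mono j, Category.assoc, hρW g, ← Category.assoc]
      exact hgg
    rw [← cancel_epi (Spec.map (CommRingCat.ofHom (algebraMap K (AlgebraicClosure K)))),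
      ← hh₁, ← hh₂, h3, Category.assoc, hPW.inv]
  · have hsurj := Groth.Agent.Lib.Helper20.surjective_of_isQuot hPW
    ext y
    constructor
    · rintro ⟨z, rfl⟩
      obtain ⟨w, rfl⟩ := hsurj z
      refine ⟨j.base w, ⟨w, rfl⟩, ?_⟩
      have := congrArg (fun f : W ⟶ XG => f.base w) hφ
      exact this.symm
    · rintro ⟨_, ⟨w, rfl⟩, rfl⟩
      refine ⟨pW.base w, ?_⟩
      have := congrArg (fun f : W ⟶ XG => f.base w) hφ
      exact this

end Groth.Agent.S13082
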