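import Groth.Statements.S13104
import Mathlib

set_option autoImplicit false
universe u
open GrpSch

namespace Groth.Agent.S13104

open CategoryTheory CategoryTheory.Limits AlgebraicGeometry

/-- A quasi-compact, scheme-theoretically dominant morphism that is surjective on points is an
epimorphism of schemes. -/
theorem epi_of_dominant_of_surjective {X' X : Scheme.{u}} (j : X' ⟶ X) [QuasiCompact j]
    [IsSchemeTheoreticallyDominant j] (hj : Function.Surjective j.base) : Epi j := by
  refine ⟨fun {G} u1 u2 h => ?_⟩
  have hbase : ∀ x : X, u1.base x = u2.base x := by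
    intro x
    obtain ⟨x', rfl⟩ := hj x
    have := congrArg (fun f => f.base x') h
    simpa using this
  let 𝒱 := G.affineOpenCover.openCover
  refine Scheme.Cover.hom_ext (𝒱.pullback₁ u1) u1 u2 fun i => ?_
  let p : pullback u1 (𝒱.f i) ⟶ X := pullback.fst u1 (𝒱.f i)
  let q : pullback u1 (𝒱.f i) ⟶ 𝒱.X i := pullback.snd u1 (𝒱.f i)
  have hpq : p ≫ u1 = q ≫ 𝒱.f i := pullback.condition
  change p ≫ u1 = p ≫ u2
  have hrange : Set.range (p ≫ u2).base ⊆ Set.range (𝒱.f i).base := by
    rintro _ ⟨w, rfl⟩
    refine ⟨q.base w, ?_⟩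
    have h1 : (q ≫ 𝒱.f i).base w = (p ≫ u1).base w := by rw [hpq]
    simp only [Scheme.Hom.comp_base, TopCat.hom_comp, ContinuousMap.comp_apply] at h1 ⊢
    rw [h1, hbase]
  have hoi : IsOpenImmersion (𝒱.f i) := G.affineOpenCover.openCover.map_prop i
  let q' : pullback u1 (𝒱.f i) ⟶ 𝒱.X i := IsOpenImmersion.lift (𝒱.f i) (p ≫ u2) hrange
  have hq' : q' ≫ 𝒱.f i = p ≫ u2 := IsOpenImmersion.lift_fac _ _ _
  suffices hqq : q = q' by rw [hpq, hqq, hq']
  let j' : pullback j p ⟶ pullback u1 (𝒱.f i) := pullback.snd j p
  have hj' : j' ≫ q = j' ≫ q' := by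
    rw [← cancel_mono (𝒱.f i), Category.assoc, Category.assoc, ← hpq, hq']
    have : j' ≫ p = pullback.fst j p ≫ j := pullback.condition.symm
    rw [← Category.assoc, ← Category.assoc, this, Category.assoc, Category.assoc, h]
  have : IsAffine (𝒱.X i) := inferInstanceAs (IsAffine (Spec (G.affineOpenCover.X i)))
  apply ext_of_isAffine
  have hinj : Function.Injective (j'.appTop) := by
    have := Scheme.Hom.app_injective j' ⊤
    exact this
  have h2 := congrArg Scheme.Hom.appTop hj'
  rw [Scheme.Hom.comp_appTop, Scheme.Hom.comp_appTop] at h2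
  ext x
  apply hinj
  have := congrArg (fun f => f.hom x) h2
  simpa using this

/-- `Spec` of an injective ring map is scheme-theoretically dominant. -/
theorem isSchemeTheoreticallyDominant_Spec_map {R S : CommRingCat.{u}} (φ : R ⟶ S)
    (h : Function.Injective φ.hom) : IsSchemeTheoreticallyDominant (Spec.map φ) := by
  constructor
  rw [Scheme.ker_of_isAffine]
  have hk : RingHom.ker (Spec.map φ).appTop.hom = ⊥ := by
    rw [← RingHom.injective_iff_ker_eq_bot]
    have h1 : (Spec.map φ).appTop = (Scheme.ΓSpecIso R).hom ≫ φ ≫ (Scheme.ΓSpecIso S).inv := by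
      rw [← Category.assoc, ← Scheme.ΓSpecIso_naturality, Category.assoc, Iso.hom_inv_id,
        Category.comp_id]
    rw [h1]
    simp only [CommRingCat.hom_comp, RingHom.coe_comp]
    have hS : Function.Injective (Scheme.ΓSpecIso S).inv.hom :=
      (ConcreteCategory.bijective_of_isIso (Scheme.ΓSpecIso S).inv).1
    have hR : Function.Injective (Scheme.ΓSpecIso R).hom.hom :=
      (ConcreteCategory.bijective_of_isIso (Scheme.ΓSpecIso R).hom).1
    exact (hS.comp h).comp hR
  rw [hk]
  exact map_bot (Scheme.IdealSheafData.equivOfIsAffine (X := Spec R)).symm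

section
variable (B : Type u) [CommRing B]
    (ψ : DualNumber B →+* DualNumber (DualNumber B))
    (hψB : ∀ b : B, ψ (algebraMap B (DualNumber B) b) = algebraMap B (DualNumber (DualNumber B)) b)
    (hψ : ψ DualNumber.eps =
      algebraMap (DualNumber B) (DualNumber (DualNumber B)) DualNumber.eps * DualNumber.eps)

include hψB hψ in
theorem psi_components (x : DualNumber B) :
    (ψ x).fst.fst = x.fst ∧ (ψ x).snd.snd = x.snd := by
  have hx : x = algebraMap B (DualNumber B) x.fst +
      algebraMap B (DualNumber B) x.snd * DualNumber.eps := by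
    apply TrivSqZeroExt.ext <;> simp [TrivSqZeroExt.algebraMap_eq_inl]
  have h2 : ψ x = algebraMap B (DualNumber (DualNumber B)) x.fst +
      algebraMap B (DualNumber (DualNumber B)) x.snd *
        (algebraMap (DualNumber B) (DualNumber (DualNumber B)) DualNumber.eps * DualNumber.eps) := by
    conv_lhs => rw [hx]
    rw [map_add, map_mul, hψB, hψB, hψ]
  rw [h2]
  constructor <;> simp [TrivSqZeroExt.algebraMap_eq_inl']

include hψB hψ in
theorem psi_injective : Function.Injective ψ := by
  rw [injective_iff_map_eq_zero]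
  intro x hx
  obtain ⟨h1, h2⟩ := psi_components B ψ hψB hψ x
  rw [hx] at h1 h2
  apply TrivSqZeroExt.ext
  · rw [← h1]; rfl
  · rw [← h2]; rfl

include hψB hψ in
theorem spec_psi_surjective :
    Function.Surjective (Spec.map (CommRingCat.ofHom (R := DualNumber B)
      (S := DualNumber (DualNumber B)) ψ)).base := by
  intro x
  -- `x` is a prime of `DualNumber B`
  let 𝔭 : PrimeSpectrum (DualNumber B) := x
  let f : DualNumber B →+* B := (TrivSqZeroExt.fstHom B B B).toRingHom
  let g : DualNumber (DualNumber B) →+* DualNumber B :=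
    (TrivSqZeroExt.fstHom (DualNumber B) (DualNumber B) (DualNumber B)).toRingHom
  have hf : Function.Surjective f := fun b => ⟨TrivSqZeroExt.inl b, rfl⟩
  have hcomp : (f.comp g).comp ψ = f := by
    exact RingHom.ext fun y => (psi_components B ψ hψB hψ y).1
  have hker : RingHom.ker f ≤ 𝔭.asIdeal := by
    intro y hy
    have hy0 : y.fst = 0 := hy
    have hsq : y * y = 0 := by
      apply TrivSqZeroExt.ext <;> simp [hy0]
    have : y * y ∈ 𝔭.asIdeal := by rw [hsq]; exact zero_mem _
    exact (𝔭.isPrime.mem_or_mem this).elim id id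
  have : (Ideal.map f 𝔭.asIdeal).IsPrime := Ideal.map_isPrime_of_surjective hf hker
  let 𝔮 : PrimeSpectrum (DualNumber (DualNumber B)) :=
    ⟨Ideal.comap (f.comp g) (Ideal.map f 𝔭.asIdeal), inferInstance⟩
  refine ⟨𝔮, ?_⟩
  rw [Spec.map_base]
  apply PrimeSpectrum.ext
  change Ideal.comap ψ (Ideal.comap (f.comp g) (Ideal.map f 𝔭.asIdeal)) = 𝔭.asIdeal
  rw [Ideal.comap_comap, hcomp, Ideal.comap_map_of_surjective f hf]
  exact sup_eq_left.2 hker

end


open CategoryTheory AlgebraicGeometry in
/-- Let B be a commutative ring, B[ε] the ring of dual numbers (ε² = 0) and B[α, β]/(α², β²) the double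
dual numbers, realised as dual numbers over the dual numbers with α the inner and β the outer
generator, and let ψ : B[ε] → B[α, β]/(α², β²) be the B-algebra homomorphism with ψ(ε) = αβ. Then
for every scheme G the map u ↦ Spec(ψ) ≫ u from morphisms Spec B[ε] → G to morphisms Spec
B[α,β]/(α²,β²) → G is injective. (The printed statement is its consequence for a group scheme G: the
map Lie(G)(B) → G(B[α,β]/(α²,β²)), x ↦ exp(αβ x), is injective; the injectivity on all B[ε]-points
stated here is what the printed argument establishes.) -/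
theorem result (B : Type u) [CommRing B]
    (ψ : DualNumber B →+* DualNumber (DualNumber B))
    (hψB : ∀ b : B, ψ (algebraMap B (DualNumber B) b) = algebraMap B (DualNumber (DualNumber B)) b)
    (hψ : ψ DualNumber.eps = algebraMap (DualNumber B) (DualNumber (DualNumber B)) DualNumber.eps * DualNumber.eps)
    (G : Scheme.{u}) :
    Function.Injective (fun u : Spec (CommRingCat.of (DualNumber B)) ⟶ G =>
      Spec.map (CommRingCat.ofHom (R := DualNumber B) (S := DualNumber (DualNumber B)) ψ) ≫ u) := by
  have := isSchemeTheoreticallyDominant_Spec_map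
    (CommRingCat.ofHom (R := DualNumber B) (S := DualNumber (DualNumber B)) ψ)
    (psi_injective B ψ hψB hψ)
  have := epi_of_dominant_of_surjective
    (Spec.map (CommRingCat.ofHom (R := DualNumber B) (S := DualNumber (DualNumber B)) ψ))
    (spec_psi_surjective B ψ hψB hψ)
  intro u1 u2 h
  exact (cancel_epi _).1 h

end Groth.Agent.S13104
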