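import Groth.Statements.S13105
-- import your own Groth.Agent.* helpers here
import Mathlib
import Groth.Agent.Lib.Helper5RLR2
import Groth.Agent.R2.H66Jac

set_option autoImplicit false
universe u
open Lie3Mod

namespace Groth.Agent.S13105

section Helpers

open MvPolynomial IsLocalRing Groth.Agent.Lib.Helper5 Groth.Agent.R2.H66.Jac

/-- The localization of `R/I` at a prime `q` is `R_p / I R_p`. -/
theorem nonempty_ringEquiv_localization_quotient {R : Type u} [CommRing R] (I : Ideal R)
    (q : Ideal (R ⧸ I)) [q.IsPrime] :
    Nonempty (Localization.AtPrime q ≃+*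
      (Localization.AtPrime (q.comap (Ideal.Quotient.mk I)) ⧸
        I.map (algebraMap R (Localization.AtPrime (q.comap (Ideal.Quotient.mk I)))))) := by
  have hM : Algebra.algebraMapSubmonoid (R ⧸ I) (q.comap (Ideal.Quotient.mk I)).primeCompl =
      q.primeCompl := by
    ext y
    constructor
    · rintro ⟨x, hx, rfl⟩
      exact hx
    · intro hy
      obtain ⟨x, rfl⟩ := Ideal.Quotient.mk_surjective y
      exact ⟨x, hy, rfl⟩
  have hloc : IsLocalization (Algebra.algebraMapSubmonoid (R ⧸ I)
      (q.comap (Ideal.Quotient.mk I)).primeCompl)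
      (Localization.AtPrime (q.comap (Ideal.Quotient.mk I)) ⧸
        I.map (algebraMap R (Localization.AtPrime (q.comap (Ideal.Quotient.mk I))))) :=
    inferInstance
  rw [hM] at hloc
  exact ⟨(IsLocalization.algEquiv q.primeCompl (Localization.AtPrime q)
      (Localization.AtPrime (q.comap (Ideal.Quotient.mk I)) ⧸
        I.map (algebraMap R (Localization.AtPrime (q.comap (Ideal.Quotient.mk I)))))).toRingEquiv⟩

variable (k : Type u) [Field k] (t : k)

/-- The point. -/
def pt : Fin 9 → k := ![0, 1, 0, 0, 0, t, 0, 0, 0]

/-- the key identity `adj(M) Q = det(M) L`, second row. -/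
theorem key_identity :
    detM k * L2 k + (vb * vf - ve * vc) * Q1 k =
      (vh * vc + vi * vf) * Q2 k - (vh * vb + vi * ve) * Q3 k := by
  unfold detM L2 Q1 Q2 Q3
  ring

theorem core (p : Ideal (D k)) [p.IsPrime]
    (hp : p = RingHom.ker (eval (pt k t) : D k →+* k)) :
    IsRegularLocalRing (Localization.AtPrime p ⧸
        (idJ k).map (algebraMap (D k) (Localization.AtPrime p))) ∧
      ringKrullDim (Localization.AtPrime p ⧸
        (idJ k).map (algebraMap (D k) (Localization.AtPrime p))) = 6 := by
  classical
  have hdim : ringKrullDim (Localization.AtPrime p) = (9 : ℕ) :=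
    ringKrullDim_localization_ker_eval (pt k t) p hp
  have hev : ∀ q, q ∈ p ↔ eval (pt k t) q = 0 := by
    intro q; rw [hp, RingHom.mem_ker]
  have hQ1 : Q1 k ∈ p := by rw [hev]; simp [Q1, pt]
  have hQ2 : Q2 k ∈ p := by rw [hev]; simp [Q2, pt]
  have hQ3 : Q3 k ∈ p := by rw [hev]; simp [Q3, pt]
  have hdet : detM k ∈ p := by rw [hev]; simp [detM, pt]
  have hmem : ∀ q, q ∈ p → algebraMap (D k) (Localization.AtPrime p) q ∈
      maximalIdeal (Localization.AtPrime p) := by
    intro q hq
    rw [← Localization.AtPrime.map_eq_maximalIdeal]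
    exact Ideal.mem_map_of_mem _ hq
  have hunit : ∀ q, eval (pt k t) q ≠ 0 →
      IsUnit (algebraMap (D k) (Localization.AtPrime p) q) := by
    intro q hq
    exact IsLocalization.map_units (Localization.AtPrime p)
      (⟨q, fun h => hq ((hev q).mp h)⟩ : p.primeCompl)
  -- the first generator
  let F1 : D k := if t = 0 then Q1 k else detM k
  have hF1 : F1 ∈ p := by
    simp only [F1]; split_ifs
    · exact hQ1
    · exact hdet
  have hF1J : F1 ∈ idJ k := by
    simp only [F1]; split_ifs
    · exact Ideal.subset_span (by simp)
    · exact Ideal.subset_span (by simp)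
  have hF1d : eval (pt k t) (pderiv 6 F1) ≠ 0 := by
    simp only [F1]; split_ifs with h
    · subst h
      simp [Q1, pderiv_X, pt, Derivation.leibniz]
    · simpa [detM, pderiv_X, pt, Derivation.leibniz] using h
  have hF1d3 : eval (pt k t) (pderiv 3 F1) = 0 := by
    simp only [F1]; split_ifs with h
    · simp [Q1, pderiv_X, pt, Derivation.leibniz]
    · simp [detM, pderiv_X, pt, Derivation.leibniz]
  have hF1d8 : eval (pt k t) (pderiv 8 F1) = 0 := by
    simp only [F1]; split_ifs with h
    · simp [Q1, pderiv_X, pt, Derivation.leibniz]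
    · simp [detM, pderiv_X, pt, Derivation.leibniz]
  let y : Fin 3 → D k := ![F1, Q2 k, Q3 k]
  have hy : ∀ i, y i ∈ p := by
    intro i; fin_cases i
    · exact hF1
    · exact hQ2
    · exact hQ3
  let x : Fin 3 → maximalIdeal (Localization.AtPrime p) := fun i =>
    ⟨algebraMap (D k) (Localization.AtPrime p) (y i), hmem _ (hy i)⟩
  have hli := linearIndependent_toCotangent_of_jacobian (pt k t) p hp y
    (by
      intro c hc
      have h6 := hc 6
      have h3 := hc 3
      have h8 := hc 8
      simp only [Fin.sum_univ_three, y, Matrix.cons_val_zero, Matrix.cons_val_one,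
        Matrix.cons_val_two, Matrix.head_cons, Matrix.tail_cons] at h6 h3 h8
      have e62 : eval (pt k t) (pderiv 6 (Q2 k)) = 0 := by
        simp [Q2, pderiv_X, pt, Derivation.leibniz]
      have e63 : eval (pt k t) (pderiv 6 (Q3 k)) = 0 := by
        simp [Q3, pderiv_X, pt, Derivation.leibniz]
      have e32 : eval (pt k t) (pderiv 3 (Q2 k)) = 1 := by
        simp [Q2, pderiv_X, pt, Derivation.leibniz]
      have e33 : eval (pt k t) (pderiv 3 (Q3 k)) = 0 := by
        simp [Q3, pderiv_X, pt, Derivation.leibniz]
      have e82 : eval (pt k t) (pderiv 8 (Q2 k)) = 0 := by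
        simp [Q2, pderiv_X, pt, Derivation.leibniz]
      have e83 : eval (pt k t) (pderiv 8 (Q3 k)) = -1 := by
        simp [Q3, pderiv_X, pt, Derivation.leibniz]
      rw [e62, e63, mul_zero, mul_zero, add_zero, add_zero] at h6
      rw [hF1d3, e32, e33, mul_zero, mul_zero, add_zero, zero_add, mul_one] at h3
      rw [hF1d8, e82, e83, mul_zero, mul_zero, zero_add, zero_add, mul_neg, mul_one,
        neg_eq_zero] at h8
      have h0 : c 0 = 0 := (mul_eq_zero.mp h6).resolve_right hF1d
      intro i; fin_cases i
      · exact h0
      · exact h3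
      · exact h8) x (fun _ => rfl)
  -- the ideal
  have hJ : (idJ k).map (algebraMap (D k) (Localization.AtPrime p)) =
      Ideal.span (Set.range fun i => (x i : Localization.AtPrime p)) := by
    apply le_antisymm
    · rw [idJ, Ideal.map_span, Ideal.span_le]
      have hx0 : algebraMap (D k) (Localization.AtPrime p) F1 ∈
          Ideal.span (Set.range fun i => (x i : Localization.AtPrime p)) :=
        Ideal.subset_span ⟨0, rfl⟩
      have hx1 : algebraMap (D k) (Localization.AtPrime p) (Q2 k) ∈
          Ideal.span (Set.range fun i => (x i : Localization.AtPrime p)) :=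
        Ideal.subset_span ⟨1, rfl⟩
      have hx2 : algebraMap (D k) (Localization.AtPrime p) (Q3 k) ∈
          Ideal.span (Set.range fun i => (x i : Localization.AtPrime p)) :=
        Ideal.subset_span ⟨2, rfl⟩
      have hid := congrArg (algebraMap (D k) (Localization.AtPrime p)) (key_identity k)
      simp only [map_add, map_sub, map_mul] at hid
      have hQ1' : algebraMap (D k) (Localization.AtPrime p) (Q1 k) ∈
            Ideal.span (Set.range fun i => (x i : Localization.AtPrime p)) ∧
          algebraMap (D k) (Localization.AtPrime p) (detM k) ∈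
            Ideal.span (Set.range fun i => (x i : Localization.AtPrime p)) := by
        by_cases h : t = 0
        · have hF : F1 = Q1 k := by simp only [F1]; rw [if_pos h]
          rw [hF] at hx0
          refine ⟨hx0, ?_⟩
          have hu := hunit (L2 k) (by subst h; simp [L2, pt])
          rw [← Ideal.unit_mul_mem_iff_mem _ hu]
          have : algebraMap (D k) (Localization.AtPrime p) (L2 k) *
              algebraMap (D k) (Localization.AtPrime p) (detM k) =
              (algebraMap (D k) (Localization.AtPrime p) (vh * vc + vi * vf) *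
                  algebraMap (D k) (Localization.AtPrime p) (Q2 k) -
                algebraMap (D k) (Localization.AtPrime p) (vh * vb + vi * ve) *
                  algebraMap (D k) (Localization.AtPrime p) (Q3 k)) -
              algebraMap (D k) (Localization.AtPrime p) (vb * vf - ve * vc) *
                algebraMap (D k) (Localization.AtPrime p) (Q1 k) := by
            simp only [map_add, map_sub, map_mul]
            linear_combination hid
          rw [this]
          exact Ideal.sub_mem _ (Ideal.sub_mem _ (Ideal.mul_mem_left _ _ hx1)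
            (Ideal.mul_mem_left _ _ hx2)) (Ideal.mul_mem_left _ _ hx0)
        · have hF : F1 = detM k := by simp only [F1]; rw [if_neg h]
          rw [hF] at hx0
          refine ⟨?_, hx0⟩
          have hu := hunit (vb * vf - ve * vc : D k) (by simpa [pt] using h)
          rw [← Ideal.unit_mul_mem_iff_mem _ hu]
          have : algebraMap (D k) (Localization.AtPrime p) (vb * vf - ve * vc) *
              algebraMap (D k) (Localization.AtPrime p) (Q1 k) =
              (algebraMap (D k) (Localization.AtPrime p) (vh * vc + vi * vf) *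
                  algebraMap (D k) (Localization.AtPrime p) (Q2 k) -
                algebraMap (D k) (Localization.AtPrime p) (vh * vb + vi * ve) *
                  algebraMap (D k) (Localization.AtPrime p) (Q3 k)) -
              algebraMap (D k) (Localization.AtPrime p) (detM k) *
                algebraMap (D k) (Localization.AtPrime p) (L2 k) := by
            simp only [map_add, map_sub, map_mul]
            linear_combination hid
          rw [this]
          exact Ideal.sub_mem _ (Ideal.sub_mem _ (Ideal.mul_mem_left _ _ hx1)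
            (Ideal.mul_mem_left _ _ hx2)) (Ideal.mul_mem_right _ _ hx0)
      rintro _ ⟨q, hq, rfl⟩
      simp only [Set.mem_insert_iff, Set.mem_singleton_iff] at hq
      rcases hq with rfl | rfl | rfl | rfl
      · exact hQ1'.1
      · exact hx1
      · exact hx2
      · exact hQ1'.2
    · rw [Ideal.span_le]
      rintro _ ⟨i, rfl⟩
      refine Ideal.mem_map_of_mem _ ?_
      fin_cases i
      · exact hF1J
      · exact Ideal.subset_span (by right; left; rfl)
      · exact Ideal.subset_span (by right; right; left; rfl)
  have hne : (idJ k).map (algebraMap (D k) (Localization.AtPrime p)) ≠ ⊤ := by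
    rw [hJ]
    intro htop
    exact (maximalIdeal.isMaximal (Localization.AtPrime p)).ne_top
      (top_le_iff.mp (htop ▸ span_range_le_maximalIdeal x))
  have : IsLocalRing (Localization.AtPrime p ⧸
      (idJ k).map (algebraMap (D k) (Localization.AtPrime p))) := isLocalRing_quotient hne
  obtain ⟨h1, h2⟩ := isRegularLocalRing_quotient_of_linearIndependent' x hli _ hJ
  refine ⟨h1, ?_⟩
  obtain ⟨d, hd⟩ := exists_nat_ringKrullDim_eq (Localization.AtPrime p ⧸
      (idJ k).map (algebraMap (D k) (Localization.AtPrime p)))
  rw [hd] at h2 ⊢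
  rw [hdim] at h2
  have : d + 3 = 9 := by exact_mod_cast h2
  have : d = 6 := by omega
  subst this
  rfl

theorem span_eq_ker :
    Ideal.span ({X 0, X 1 - 1, X 2, X 3, X 4, X 5 - C t, X 6, X 7, X 8} : Set (D k)) =
      RingHom.ker (eval (pt k t) : D k →+* k) := by
  apply le_antisymm
  · rw [Ideal.span_le]
    intro q hq
    simp only [Set.mem_insert_iff, Set.mem_singleton_iff] at hq
    rw [SetLike.mem_coe, RingHom.mem_ker]
    rcases hq with rfl | rfl | rfl | rfl | rfl | rfl | rfl | rfl | rfl <;> simp [pt]
  · rw [ker_eval_eq_span, Ideal.span_le]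
    rintro _ ⟨i, rfl⟩
    apply Ideal.subset_span
    fin_cases i <;> simp [pt]

theorem idJ_le_ker : idJ k ≤ RingHom.ker (eval (pt k t) : D k →+* k) := by
  rw [idJ, Ideal.span_le]
  intro q hq
  simp only [Set.mem_insert_iff, Set.mem_singleton_iff] at hq
  rw [SetLike.mem_coe, RingHom.mem_ker]
  rcases hq with rfl | rfl | rfl | rfl
  · simp [Q1, pt]
  · simp [Q2, pt]
  · simp [Q3, pt]
  · simp [detM, pt]

end Helpers


open MvPolynomial in
/-- Let k be a field, t ∈ k, D = k[a,b,c,d,e,f,g,h,i] and J = (Q1, Q2, Q3, det M) with Q1 = ah + di − fg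
− bg, Q2 = ie + bd − fh − ae, Q3 = hc + dc − af − bi, det M = −ch² + gbf + ei² − gec + hbi − ihf.
The maximal ideal (a, b − 1, c, d, e, f − t, g, h, i) of D contains J (it is the point given by the
Lie algebra with [x,y] = y, [x,z] = t z, [y,z] = 0), and the localization of D/J at the
corresponding prime is a regular local ring of Krull dimension 6: the scheme Spec(D/J) has a smooth
k-rational point. -/
theorem result (k : Type u) [Field k] (t : k)
    (P : Ideal (Lie3Mod.D k ⧸ Lie3Mod.idJ k)) [P.IsPrime]
    (hP : P = Ideal.map (Ideal.Quotient.mk (Lie3Mod.idJ k))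
      (Ideal.span ({X 0, X 1 - 1, X 2, X 3, X 4, X 5 - C t, X 6, X 7, X 8} : Set (Lie3Mod.D k)))) :
    IsRegularLocalRing (Localization.AtPrime P) ∧ ringKrullDim (Localization.AtPrime P) = 6 := by
  have hcomap : P.comap (Ideal.Quotient.mk (Lie3Mod.idJ k)) =
      RingHom.ker (eval (pt k t) : Lie3Mod.D k →+* k) := by
    rw [hP, Ideal.comap_map_of_surjective _ Ideal.Quotient.mk_surjective, span_eq_ker,
      ← RingHom.ker_eq_comap_bot, Ideal.mk_ker]
    exact sup_eq_left.mpr (idJ_le_ker k t)
  obtain ⟨h1, h2⟩ := core k t (P.comap (Ideal.Quotient.mk (Lie3Mod.idJ k))) hcomap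
  obtain ⟨e⟩ := nonempty_ringEquiv_localization_quotient (Lie3Mod.idJ k) P
  refine ⟨IsRegularLocalRing.of_ringEquiv e.symm, ?_⟩
  rw [ringKrullDim_eq_of_ringEquiv e]
  exact h2

end Groth.Agent.S13105
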