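import Groth.Statements.S13111
import Groth.Agent.R2.H32SNNormal

set_option autoImplicit false
universe u
open HTop

namespace Groth.Agent.S13111

open AlgebraicGeometry W4c1hilbchowinc in
/-- Let A be a reduced Noetherian ring whose integral closure in its total ring of fractions is a finite
A-module. Suppose that any pointwise function on Spec A that is algebraic along every discrete
valuation ring (for every discrete valuation ring R and every morphism Spec R → Spec A there is an
element of R whose values at the two points of Spec R are the images of the chosen values) is the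
family of values of exactly one global section. Then A is seminormal: whenever x^3 = y^2 there is
exactly one a with x = a^2 and y = a^3. Test rings range over the universe of A. -/
theorem result
    (A : Type u) [CommRing A] [IsReduced A] [IsNoetherianRing A]
    (hfin : Module.Finite A (integralClosure A (FractionRing A)))
    (h : ∀ f : PtFun (Spec (CommRingCat.of A)), f.VariesAlongDVR →
      ∃! a : Γ(Spec (CommRingCat.of A), ⊤), PtFun.ofSection (Spec (CommRingCat.of A)) a = f) :
    HTop.IsSeminormalRing A := by
  classical
  let X : Scheme.{u} := Spec (CommRingCat.of A)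
  -- a section of a reduced scheme vanishing at all points is zero
  have hzero : ∀ t : Γ(X, ⊤), (∀ P : X, X.Γevaluation P t = 0) → t = 0 := by
    intro t ht
    apply AlgebraicGeometry.eq_zero_of_basicOpen_eq_bot
    rw [Scheme.basicOpen_eq_bot_iff_forall_evaluation_eq_zero]
    intro P
    exact ht P.1
  suffices hG : HTop.IsSeminormalRing Γ(X, ⊤) from
    Groth.Agent.R2.H32.SN.isSeminormalRing_of_ringEquiv
      (Scheme.ΓSpecIso (CommRingCat.of A)).commRingCatIsoToRingEquiv.symm hG
  intro x y hxy
  let f : PtFun X := fun P =>
    if X.Γevaluation P x = 0 then 0 else X.Γevaluation P y / X.Γevaluation P x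
  have hf : f.VariesAlongDVR := by
    intro R _ _ _ g
    have hR : HTop.IsSeminormalRing Γ(Spec (CommRingCat.of R), ⊤) :=
      Groth.Agent.R2.H32.SN.isSeminormalRing_of_ringEquiv
        (Scheme.ΓSpecIso (CommRingCat.of R)).commRingCatIsoToRingEquiv
        (Groth.Agent.R2.H32.SNNormal.isSeminormalRing_of_isIntegrallyClosed R)
    have hxy' : (g.appTop x) ^ 3 = (g.appTop y) ^ 2 := by
      rw [← map_pow, ← map_pow, hxy]
    obtain ⟨r, ⟨hr2, hr3⟩, -⟩ := hR _ _ hxy'
    refine ⟨r, ?_⟩
    funext p
    show (Spec (CommRingCat.of R)).Γevaluation p r = g.residueFieldMap p (f (g p))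
    have e2 : ((Spec (CommRingCat.of R)).Γevaluation p r) ^ 2 =
        g.residueFieldMap p (X.Γevaluation (g p) x) := by
      rw [Scheme.Γevaluation_naturality_apply, hr2, map_pow]
    have e3 : ((Spec (CommRingCat.of R)).Γevaluation p r) ^ 3 =
        g.residueFieldMap p (X.Γevaluation (g p) y) := by
      rw [Scheme.Γevaluation_naturality_apply, hr3, map_pow]
    by_cases hx0 : X.Γevaluation (g p) x = 0
    · have : f (g p) = 0 := if_pos hx0
      rw [this, map_zero]
      rw [hx0, map_zero] at e2
      exact pow_eq_zero_iff (two_ne_zero) |>.mp e2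
    · have : f (g p) = X.Γevaluation (g p) y / X.Γevaluation (g p) x := if_neg hx0
      rw [this, map_div₀, ← e2, ← e3]
      have hne : ((Spec (CommRingCat.of R)).Γevaluation p r) ^ 2 ≠ 0 := by
        rw [e2]
        exact (map_ne_zero_iff _ (g.residueFieldMap p).hom.injective).mpr hx0
      field_simp
  obtain ⟨a, ha, -⟩ := h f hf
  have hav : ∀ P : X, X.Γevaluation P a = f P := fun P => congrFun ha P
  have hev : ∀ P : X, X.Γevaluation P x ^ 3 = X.Γevaluation P y ^ 2 := by
    intro P
    rw [← map_pow, ← map_pow, hxy]
  have ha2 : x = a ^ 2 := by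
    rw [← sub_eq_zero]
    apply hzero
    intro P
    rw [map_sub, map_pow, hav P]
    by_cases hx0 : X.Γevaluation P x = 0
    · have : f P = 0 := if_pos hx0
      rw [this, hx0]; ring
    · have : f P = X.Γevaluation P y / X.Γevaluation P x := if_neg hx0
      rw [this, div_pow, ← hev P]
      field_simp
      ring
  have ha3 : y = a ^ 3 := by
    rw [← sub_eq_zero]
    apply hzero
    intro P
    rw [map_sub, map_pow, hav P]
    by_cases hx0 : X.Γevaluation P x = 0
    · have : f P = 0 := if_pos hx0
      have hy0 : X.Γevaluation P y = 0 := by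
        have := hev P
        rw [hx0] at this
        exact pow_eq_zero_iff (two_ne_zero) |>.mp (by rw [← this]; ring)
      rw [this, hy0]; ring
    · have : f P = X.Γevaluation P y / X.Γevaluation P x := if_neg hx0
      rw [this, div_pow, hev P]
      have hy0 : X.Γevaluation P y ≠ 0 := by
        intro hy0
        have := hev P
        rw [hy0] at this
        exact hx0 (pow_eq_zero_iff (three_ne_zero) |>.mp (by rw [this]; ring))
      field_simp
      ring
  refine ⟨a, ⟨ha2, ha3⟩, ?_⟩
  rintro a' ⟨h2, h3⟩
  exact Groth.Agent.Lib.Helper20.AWN.eq_of_sq_cube_of_isReduced (by rw [← h2, ← ha2])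
    (by rw [← h3, ← ha3])

end Groth.Agent.S13111
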