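import Groth.Statements.S13112
import Groth.Agent.R2.H32SN

set_option autoImplicit false
universe u
open HTop

namespace Groth.Agent.S13112

open CategoryTheory AlgebraicGeometry in
/-- Let k be a field, T a seminormal scheme of finite type over k, and f : X → Y a proper universally
injective k-morphism of schemes locally of finite type over k. If a morphism of schemes g : T → Y
lifts through f at every point of T, i.e. for every t the composite Spec κ(t) → T → Y factors
through f, then g itself factors through f. -/
theorem result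
    {k : Type u} [Field k] {T X Y : Scheme.{u}}
    (sT : T ⟶ Spec (CommRingCat.of k)) (sX : X ⟶ Spec (CommRingCat.of k)) (sY : Y ⟶ Spec (CommRingCat.of k))
    [LocallyOfFiniteType sT] [QuasiCompact sT] [LocallyOfFiniteType sX] [LocallyOfFiniteType sY]
    (hT : HTop.IsSeminormal T)
    (f : X ⟶ Y) (hf : f ≫ sY = sX) [IsProper f] [UniversallyInjective f]
    (g : T ⟶ Y)
    (hlift : ∀ t : T, ∃ l : Spec (T.residueField t) ⟶ X, l ≫ f = T.fromSpecResidueField t ≫ g) :
    ∃ h : T ⟶ X, h ≫ f = g := by
  classical
  -- base change of `f` along `g`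
  let P := Limits.pullback f g
  let fst : P ⟶ X := Limits.pullback.fst f g
  let snd : P ⟶ T := Limits.pullback.snd f g
  have sq : IsPullback fst snd f g := IsPullback.of_hasPullback f g
  have : IsProper snd := inferInstanceAs (IsProper (Limits.pullback.snd f g))
  have : UniversallyInjective snd := MorphismProperty.pullback_snd (P := @UniversallyInjective) f g ‹_›
  have : LocallyQuasiFinite snd := inferInstance
  have : IsFinite snd := IsFinite.of_isProper_of_locallyQuasiFinite snd
  -- field points lift
  have hlift' : Groth.Agent.R2.H32.SN.FieldPointsLift snd := by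
    intro K _ a
    obtain ⟨⟨t, φ⟩, rfl⟩ := (Scheme.SpecToEquivOfField K T).symm.surjective a
    obtain ⟨l, hl⟩ := hlift t
    refine ⟨Limits.pullback.lift (Spec.map φ ≫ l) (Spec.map φ ≫ T.fromSpecResidueField t) ?_, ?_⟩
    · rw [Category.assoc, hl, Category.assoc]
    · exact Limits.pullback.lift_snd _ _ _
  have : Surjective snd := by
    refine ⟨fun t => ?_⟩
    obtain ⟨b, hb⟩ := hlift' (T.residueField t) (T.fromSpecResidueField t)
    refine ⟨b (IsLocalRing.closedPoint _), ?_⟩
    have := congrArg (fun f => f.base (IsLocalRing.closedPoint _)) hb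
    simp only [Scheme.Hom.comp_base, TopCat.hom_comp, ContinuousMap.comp_apply] at this
    exact this.trans (Scheme.fromSpecResidueField_apply _ _)
  have hres : HTop.ResidueFieldsIso snd :=
    Groth.Agent.R2.H32.SN.residueFieldsIso_of_fieldPointsLift snd snd.injective hlift'
  have hUH : FlatMor.IsUnivHomeo snd := by
    rw [Groth.Agent.S0415.result]
    exact ⟨inferInstance, inferInstance, inferInstance⟩
  -- pass to the reduction
  let ρ := Groth.Agent.R2.H32.SN.redι P
  have hUH' : FlatMor.IsUnivHomeo (ρ ≫ snd) :=
    Groth.Agent.R2.H32.AWNProps.isUnivHomeo_comp _ _ Groth.Agent.R2.H32.SN.isUnivHomeo_redι hUH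
  have hres' : HTop.ResidueFieldsIso (ρ ≫ snd) :=
    Groth.Agent.R2.H32.SN.residueFieldsIso_comp snd ρ
      (Groth.Agent.R2.H32.SN.residueFieldsIso_of_isClosedImmersion _) hres
  have : IsIso (ρ ≫ snd) :=
    Groth.Agent.R2.H32.SN.isIso_of_isUnivHomeo_of_isSeminormal (ρ ≫ snd) hUH' hres' hT
  refine ⟨inv (ρ ≫ snd) ≫ ρ ≫ fst, ?_⟩
  rw [Category.assoc, Category.assoc, sq.w, ← Category.assoc ρ, IsIso.inv_hom_id_assoc]

end Groth.Agent.S13112
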