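import Groth.Statements.S13113
import Groth.Agent.R2.H32SNDesc
import Groth.Agent.S7421

set_option autoImplicit false
universe u
open HTop

namespace Groth.Agent.S13113

open CategoryTheory CategoryTheory.Limits AlgebraicGeometry in
/-- Let k be a field, X a seminormal scheme of finite type over k and π : Y → X a proper surjective
morphism with Y reduced. Then a global section s of the structure sheaf of Y whose pullbacks along
the two projections Y ×_X Y → Y coincide is the pullback along π of exactly one global section of
the structure sheaf of X. (The published statement also treats non-reduced Y, where the structure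
sheaf of X is only a canonical direct summand of the equaliser; this row is the reduced case, where
the two agree.) -/
theorem result
    {k : Type u} [Field k] {X Y : Scheme.{u}} (sX : X ⟶ Spec (CommRingCat.of k))
    [LocallyOfFiniteType sX] [QuasiCompact sX] (hX : HTop.IsSeminormal X)
    (π : Y ⟶ X) [IsProper π] [Surjective π] [IsReduced Y]
    (s : Γ(Y, ⊤)) (hs : (pullback.fst π π).appTop s = (pullback.snd π π).appTop s) :
    ∃! t : Γ(X, ⊤), π.appTop t = s := by
  have hred : IsReduced X := Groth.Agent.S7421.result.2 X hX
  obtain ⟨t, ht⟩ := Groth.Agent.R2.H32.SNDesc.exists_section_of_descent hX π s hs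
  refine ⟨t, ht, fun t' ht' => ?_⟩
  have hdom : IsSchemeTheoreticallyDominant π := IsSchemeTheoreticallyDominant.of_isDominant π
  exact π.app_injective ⊤ (ht'.trans ht.symm)

end Groth.Agent.S13113
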