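-- Statement S13155 (CAlg.eq_uniformizer_pow_mul_unit_of_kummer_normalization_special_fibre_integral)
import Groth.Statements.S13155
import Mathlib

set_option autoImplicit false
universe u
open CAlg

namespace Groth.Agent.S13155

/-- If `f g = π ^ N` with `π` prime, then `f = π ^ e * u` with `u` a unit. -/
lemma eq_pow_mul_unit_of_mul_eq_pow {A : Type*} [CommRing A] [IsDomain A] {π f g : A} (hπ : Prime π)
    {N : ℕ} (h : f * g = π ^ N) : ∃ (e : ℕ) (u : Aˣ), f = π ^ e * (u : A) := by
  obtain ⟨i, j, b, c, _, hbc, hf, _⟩ :=
    mul_eq_mul_prime_pow (x := f) (y := g) (a := 1) (n := N) hπ (by rw [one_mul]; exact h)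
  have hb : IsUnit b := IsUnit.of_mul_eq_one c hbc.symm
  exact ⟨i, hb.unit, by rw [hf, IsUnit.unit_spec]; ring⟩

/-- Descent on the exponent: if `W ^ m = π ^ e * u` in a domain `B` in which `(π)` is a prime ideal,
`π ≠ 0` and `u` is a unit, then `m ∣ e`. -/
lemma dvd_of_pow_eq {B : Type*} [CommRing B] [IsDomain B] {π u : B} (hπ0 : π ≠ 0)
    (hπ : (Ideal.span {π}).IsPrime) (hu : IsUnit u) {m : ℕ} (hm : 0 < m) :
    ∀ (e : ℕ) (W : B), W ^ m = π ^ e * u → m ∣ e := by
  have hnu : ¬ IsUnit π := by
    intro h
    exact hπ.ne_top (Ideal.span_singleton_eq_top.mpr h)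
  intro e
  induction e using Nat.strong_induction_on with
  | _ e ih =>
    intro W hW
    rcases Nat.eq_zero_or_pos e with he | he
    · rw [he]
      exact dvd_zero m
    have h1 : W ^ m ∈ Ideal.span {π} := by
      rw [hW, Ideal.mem_span_singleton]
      exact Dvd.dvd.mul_right (dvd_pow_self π he.ne') u
    have h2 : W ∈ Ideal.span {π} := hπ.mem_of_pow_mem m h1
    obtain ⟨W₁, hW₁⟩ := Ideal.mem_span_singleton.mp h2
    rw [hW₁, mul_pow] at hW
    by_cases hem : e < m
    · exfalso
      have h3 : π ^ e * (π ^ (m - e) * W₁ ^ m) = π ^ e * u := by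
        rw [← hW, ← mul_assoc, ← pow_add, Nat.add_sub_cancel' hem.le]
      have h4 := mul_left_cancel₀ (pow_ne_zero e hπ0) h3
      have h5 : IsUnit (π ^ (m - e)) := isUnit_of_mul_isUnit_left (h4 ▸ hu)
      exact hnu ((isUnit_pow_iff (by omega)).mp h5)
    · rw [not_lt] at hem
      have h3 : π ^ m * W₁ ^ m = π ^ m * (π ^ (e - m) * u) := by
        rw [hW, ← mul_assoc, ← pow_add, Nat.add_sub_cancel' hem]
      have h4 := mul_left_cancel₀ (pow_ne_zero m hπ0) h3
      have h5 := ih (e - m) (by omega) W₁ h4
      have h6 : e = m + (e - m) := by omega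
      rw [h6]
      exact Dvd.dvd.add (dvd_refl m) h5

/-- Let R be a discrete valuation ring of characteristic zero with uniformizer π, and A a Noetherian
integrally closed domain which is an R-algebra with injective structure map and in which πA is a
prime ideal (X = Spec A is normal, flat over R, with integral special fibre). Let m ≥ 1 and let f ∈
A be invertible in A[1/π] (so Z^m = f defines a μ_m-torsor over the generic fibre), such that S =
A[1/π][Z]/(Z^m − f) is an integral domain and, writing B for the integral closure of A in S (the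
normalization of X in that cover), πB is a prime ideal of B (the normalization has integral special
fibre). Then f is, up to a unit of A, an m-th power of a power of π: f = π^{mq}·u with q ≥ 0 and u ∈
A^×, so that the cover extends to the μ_m-torsor Z^m = u over all of X. (The published statement is
the existence and uniqueness of the extending μ_m-torsor over a normal faithfully flat R-scheme with
integral fibres, R containing a primitive m-th root of unity; this row is the affine computation
that carries the proof.) -/
theorem result (R : Type u) [CommRing R]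
    [IsDomain R] [IsDiscreteValuationRing R] [CharZero R] (ϖ : R) (hϖ : Irreducible ϖ)
    (A : Type u) [CommRing A] [IsDomain A] [IsNoetherianRing A] [IsIntegrallyClosed A] [Algebra R A]
    (hinj : Function.Injective (algebraMap R A)) (hprime : (Ideal.span {algebraMap R A ϖ}).IsPrime)
    (m : ℕ) (hm : 0 < m) (f : A) (hf : IsUnit (algebraMap A (Localization.Away (algebraMap R A ϖ)) f))
    [IsDomain (AdjoinRoot (Polynomial.X ^ m - Polynomial.C (algebraMap A (Localization.Away (algebraMap R A ϖ)) f)))]
    (hsp : (Ideal.span {algebraMap A (integralClosure A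
        (AdjoinRoot (Polynomial.X ^ m - Polynomial.C (algebraMap A (Localization.Away (algebraMap R A ϖ)) f))))
          (algebraMap R A ϖ)}).IsPrime) :
    ∃ (q : ℕ) (u : Aˣ), f = algebraMap R A ϖ ^ (m * q) * (u : A) := by
  classical
  set π : A := algebraMap R A ϖ with hπdef
  have hπ0 : π ≠ 0 := by
    rw [hπdef, Ne, map_eq_zero_iff _ hinj]
    exact hϖ.ne_zero
  have hπprime : Prime π := (Ideal.span_singleton_prime hπ0).mp hprime
  -- Step 1: `f = π ^ e * u`.
  obtain ⟨g', hg'⟩ := hf.exists_right_inv
  obtain ⟨⟨g, ⟨_, N, rfl⟩⟩, hg⟩ := IsLocalization.surj (Submonoid.powers π) g'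
  simp only at hg
  have h1 : algebraMap A (Localization.Away π) (f * g) =
      algebraMap A (Localization.Away π) (π ^ N) := by
    rw [map_mul, ← hg, ← mul_assoc, hg', one_mul]
  obtain ⟨⟨_, k, rfl⟩, hc⟩ := (IsLocalization.eq_iff_exists (Submonoid.powers π) _).mp h1
  simp only at hc
  have h2 : f * g = π ^ N := mul_left_cancel₀ (pow_ne_zero k hπ0) hc
  obtain ⟨e, u, hfu⟩ := eq_pow_mul_unit_of_mul_eq_pow hπprime h2
  -- Step 2: `m ∣ e`, by descent in the integral closure.
  set S := AdjoinRoot (Polynomial.X ^ m - Polynomial.C (algebraMap A (Localization.Away π) f))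
    with hS
  set B := integralClosure A S with hB
  have hZ : (AdjoinRoot.root (Polynomial.X ^ m -
      Polynomial.C (algebraMap A (Localization.Away π) f)) : S) ^ m = algebraMap A S f := by
    have h := AdjoinRoot.eval₂_root (Polynomial.X ^ m -
      Polynomial.C (algebraMap A (Localization.Away π) f))
    rw [Polynomial.eval₂_sub, Polynomial.eval₂_pow, Polynomial.eval₂_X, Polynomial.eval₂_C,
      sub_eq_zero] at h
    rw [h]
    rfl
  have hZint : IsIntegral A (AdjoinRoot.root (Polynomial.X ^ m -
      Polynomial.C (algebraMap A (Localization.Away π) f)) : S) := by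
    refine ⟨Polynomial.X ^ m - Polynomial.C f, Polynomial.monic_X_pow_sub_C f hm.ne', ?_⟩
    rw [Polynomial.eval₂_sub, Polynomial.eval₂_pow, Polynomial.eval₂_X, Polynomial.eval₂_C, hZ,
      sub_self]
  let Z : B := ⟨_, hZint⟩
  have hZB : Z ^ m = algebraMap A B π ^ e * algebraMap A B (u : A) := by
    apply Subtype.ext
    change (AdjoinRoot.root _ : S) ^ m = algebraMap A S π ^ e * algebraMap A S (u : A)
    have hfu' : algebraMap A S f = algebraMap A S (π ^ e * (u : A)) := congrArg _ hfu
    rw [hZ, hfu', map_mul, map_pow]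
  have hπS : IsUnit (algebraMap A S π) := by
    rw [IsScalarTower.algebraMap_apply A (Localization.Away π) S]
    exact (IsLocalization.Away.algebraMap_isUnit π).map _
  have hπB0 : algebraMap A B π ≠ 0 := by
    intro h
    have h' : algebraMap A S π = 0 := congrArg Subtype.val h
    rw [h'] at hπS
    exact not_isUnit_zero hπS
  have huB : IsUnit (algebraMap A B (u : A)) := u.isUnit.map _
  obtain ⟨q, hq⟩ := dvd_of_pow_eq hπB0 hsp huB hm e Z hZB
  exact ⟨q, u, by rw [← hq]; exact hfu⟩

end Groth.Agent.S13155
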