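import Groth.Statements.S13160
import Mathlib

set_option autoImplicit false
universe u
open CAlg

namespace Groth.Agent.S13160

open MvPolynomial

/-- The Witt addition polynomial is `X (0,n) + X (1,n)` modulo the `p`-th power of the ideal of
variables. -/
theorem wittAdd_sub_mem (p : ℕ) [hp : Fact p.Prime] (n : ℕ) :
    WittVector.wittAdd p n - X (0, n) - X (1, n) ∈ idealOfVars (Fin 2 × ℕ) ℤ ^ p := by
  classical
  set J := idealOfVars (Fin 2 × ℕ) ℤ with hJ
  have hp1 : 1 ≤ p := hp.out.one_lt.le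
  have hmemJ : ∀ f : MvPolynomial (Fin 2 × ℕ) ℤ, constantCoeff f = 0 → f ∈ J := by
    intro f hf
    have : f ∈ J ^ 1 := by
      rw [mem_pow_idealOfVars_iff']
      intro x hx
      have hx0 : x = 0 := by
        have : Finsupp.degree x = 0 := by omega
        exact (Finsupp.degree_eq_zero_iff x).1 this
      rw [hx0]
      exact hf
    simpa using this
  have hpow : ∀ (f : MvPolynomial (Fin 2 × ℕ) ℤ) (k : ℕ), f ∈ J → p ≤ k → f ^ k ∈ J ^ p := by
    intro f k hf hk
    exact Ideal.pow_le_pow_right hk (Ideal.pow_mem_pow hf k)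
  have key := wittStructureInt_prop p (X 0 + X 1 : MvPolynomial (Fin 2) ℤ) n
  have hS : ∀ i, wittStructureInt p (X 0 + X 1 : MvPolynomial (Fin 2) ℤ) i = WittVector.wittAdd p i :=
    fun i => rfl
  rw [wittPolynomial_eq_sum_C_mul_X_pow] at key
  simp only [map_sum, map_mul, map_pow, bind₁_X_right, map_add, rename_X,
    hS, algHom_C, algebraMap_eq] at key
  rw [Finset.sum_range_succ, Finset.sum_range_succ, Finset.sum_range_succ] at key
  simp only [Nat.sub_self, pow_zero, pow_one] at key
  have h2 : C (p : ℤ) ^ n * (WittVector.wittAdd p n - X (0, n) - X (1, n)) =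
      ∑ i ∈ Finset.range n, C (p : ℤ) ^ i * ((X (0, i) : MvPolynomial (Fin 2 × ℕ) ℤ) ^ p ^ (n - i)
        + X (1, i) ^ p ^ (n - i) - WittVector.wittAdd p i ^ p ^ (n - i)) := by
    have : C (p : ℤ) ^ n * WittVector.wittAdd p n =
        (∑ i ∈ Finset.range n, C (p : ℤ) ^ i * (X (0, i) : MvPolynomial (Fin 2 × ℕ) ℤ) ^ p ^ (n - i)
          + C (p : ℤ) ^ n * X (0, n)) +
        (∑ i ∈ Finset.range n, C (p : ℤ) ^ i * (X (1, i) : MvPolynomial (Fin 2 × ℕ) ℤ) ^ p ^ (n - i)
          + C (p : ℤ) ^ n * X (1, n)) -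
        ∑ i ∈ Finset.range n, C (p : ℤ) ^ i * WittVector.wittAdd p i ^ p ^ (n - i) := by
      rw [← key]; ring
    rw [mul_sub, mul_sub, this]
    simp only [mul_sub, mul_add, Finset.sum_sub_distrib, Finset.sum_add_distrib]
    ring
  have h3 : C ((p : ℤ) ^ n) * (WittVector.wittAdd p n - X (0, n) - X (1, n)) ∈ J ^ p := by
    rw [C_pow, h2]
    refine Ideal.sum_mem _ fun i hi => Ideal.mul_mem_left _ _ ?_
    have hi' : i < n := Finset.mem_range.1 hi
    have hk : p ≤ p ^ (n - i) := by
      calc p = p ^ 1 := (pow_one p).symm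
        _ ≤ p ^ (n - i) := Nat.pow_le_pow_right hp1 (by omega)
    refine Ideal.sub_mem _ (Ideal.add_mem _ ?_ ?_) ?_
    · exact hpow _ _ (hmemJ _ (by simp)) hk
    · exact hpow _ _ (hmemJ _ (by simp)) hk
    · exact hpow _ _ (hmemJ _ (WittVector.constantCoeff_wittAdd p i)) hk
  rw [mem_pow_idealOfVars_iff'] at h3 ⊢
  intro x hx
  have := h3 x hx
  rw [coeff_C_mul] at this
  have hpn : (p : ℤ) ^ n ≠ 0 := pow_ne_zero _ (by exact_mod_cast hp.out.ne_zero)
  exact (mul_eq_zero.1 this).resolve_left hpn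

/-- In a commutative ring where divisibility is total, a monomial of degree at least `p` in elements
whose `p`-th power vanishes is zero. -/
theorem prod_pow_eq_zero {A : Type*} [CommRing A] (hdiv : ∀ x y : A, x ∣ y ∨ y ∣ x) (p : ℕ) (hp : 1 ≤ p)
    {σ : Type*} (v : σ → A) (hv : ∀ s, v s ^ p = 0) (e : σ → ℕ) (T : Finset σ)
    (hT : p ≤ ∑ s ∈ T, e s) : ∏ s ∈ T, v s ^ e s = 0 := by
  classical
  have claim : ∀ T : Finset σ, ∃ x c : A, x ^ p = 0 ∧ ∏ s ∈ T, v s ^ e s = x ^ (∑ s ∈ T, e s) * c := by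
    intro T
    induction T using Finset.induction_on with
    | empty => exact ⟨0, 1, zero_pow (by omega), by simp⟩
    | insert t T ht ih =>
      obtain ⟨x, c, hx, hprod⟩ := ih
      rw [Finset.prod_insert ht, Finset.sum_insert ht, hprod]
      rcases hdiv x (v t) with ⟨d, hd⟩ | ⟨d, hd⟩
      · refine ⟨x, d ^ e t * c, hx, ?_⟩
        rw [hd, mul_pow, pow_add]; ring
      · refine ⟨v t, d ^ (∑ s ∈ T, e s) * c, hv t, ?_⟩
        rw [hd, mul_pow, pow_add]; ring
  obtain ⟨x, c, hx, hprod⟩ := claim T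
  rw [hprod]
  obtain ⟨k, hk⟩ := Nat.exists_eq_add_of_le hT
  rw [hk, pow_add, hx, zero_mul, zero_mul]

theorem aeval_eq_zero_of_mem {A : Type*} [CommRing A] (hdiv : ∀ x y : A, x ∣ y ∨ y ∣ x) (p : ℕ)
    (hp : 1 ≤ p) {σ : Type*} (v : σ → A) (hv : ∀ s, v s ^ p = 0) (f : MvPolynomial σ ℤ)
    (hf : f ∈ idealOfVars σ ℤ ^ p) : aeval v f = 0 := by
  classical
  rw [aeval_def, eval₂_eq]
  refine Finset.sum_eq_zero fun d hd => ?_
  have hdeg : p ≤ Finsupp.degree d := by
    by_contra hlt
    exact (mem_support_iff.1 hd) ((mem_pow_idealOfVars_iff' p f).1 hf d (not_le.1 hlt))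
  have hdeg' : p ≤ ∑ s ∈ d.support, d s := hdeg
  rw [prod_pow_eq_zero hdiv p hp v hv d d.support hdeg', mul_zero]

/-- The general statement: in a ring of characteristic `p` with total divisibility, Witt vectors killed
by Frobenius add componentwise. -/
theorem add_coeff_of_frobenius_eq_zero {A : Type*} [CommRing A] (p : ℕ) [hp : Fact p.Prime] [CharP A p]
    (hdiv : ∀ x y : A, x ∣ y ∨ y ∣ x) (a b : WittVector p A) (ha : WittVector.frobenius a = 0)
    (hb : WittVector.frobenius b = 0) (n : ℕ) : (a + b).coeff n = a.coeff n + b.coeff n := by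
  classical
  have hp1 : 1 ≤ p := hp.out.one_lt.le
  have hacoeff : ∀ k, a.coeff k ^ p = 0 := by
    intro k
    rw [← WittVector.coeff_frobenius_charP, ha, WittVector.zero_coeff]
  have hbcoeff : ∀ k, b.coeff k ^ p = 0 := by
    intro k
    rw [← WittVector.coeff_frobenius_charP, hb, WittVector.zero_coeff]
  rw [WittVector.add_coeff]
  unfold WittVector.peval
  have hv : ∀ s, (Function.uncurry ![a.coeff, b.coeff] : Fin 2 × ℕ → A) s ^ p = 0 := by
    rintro ⟨i, k⟩
    fin_cases i
    · exact hacoeff k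
    · exact hbcoeff k
  have h0 := aeval_eq_zero_of_mem hdiv p hp1 _ hv _ (wittAdd_sub_mem p n)
  rw [map_sub, map_sub, aeval_X, aeval_X] at h0
  have e0 : (Function.uncurry ![a.coeff, b.coeff] : Fin 2 × ℕ → A) (0, n) = a.coeff n := rfl
  have e1 : (Function.uncurry ![a.coeff, b.coeff] : Fin 2 × ℕ → A) (1, n) = b.coeff n := rfl
  rw [e0, e1] at h0
  linear_combination h0


/-- Let R be a discrete valuation ring, p a prime number and λ an element of R dividing p (so that R/λR
is an 𝔽_p-algebra), and let a and b be p-typical Witt vectors with coefficients in R/λR which are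
killed by the Frobenius endomorphism. Then the Witt sum a + b has components a_n + b_n for every n.
(The published statement allows an arbitrary λ ∈ R and is stated for Witt vectors with finitely many
nonzero components; this row assumes that λ divides p, so that p = 0 in R/λR, and allows all Witt
vectors.) -/
theorem result (R : Type u) [CommRing R] [IsDomain R]
    [IsDiscreteValuationRing R] (p : ℕ) [Fact p.Prime] (lam : R) (hlam : lam ∣ (p : R))
    (a b : WittVector p (R ⧸ Ideal.span {lam})) (ha : WittVector.frobenius a = 0)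
    (hb : WittVector.frobenius b = 0) (n : ℕ) : (a + b).coeff n = a.coeff n + b.coeff n := by
  classical
  rcases subsingleton_or_nontrivial (R ⧸ Ideal.span {lam}) with hs | hnt
  · exact Subsingleton.elim _ _
  have hp0 : ((p : ℕ) : R ⧸ Ideal.span {lam}) = 0 := by
    have : ((p : R)) ∈ Ideal.span {lam} := Ideal.mem_span_singleton.2 hlam
    have h := (Ideal.Quotient.eq_zero_iff_mem).2 this
    simpa using h
  have hchar : CharP (R ⧸ Ideal.span {lam}) p := by
    have hprime : p.Prime := Fact.out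
    obtain ⟨q, hq⟩ := CharP.exists (R ⧸ Ideal.span {lam})
    have hdvd : q ∣ p := (CharP.cast_eq_zero_iff (R ⧸ Ideal.span {lam}) q p).1 hp0
    rcases (Nat.dvd_prime hprime).1 hdvd with h1 | h1
    · subst h1
      have h10 := CharP.cast_eq_zero (R ⧸ Ideal.span {lam}) 1
      rw [Nat.cast_one] at h10
      exact absurd h10 one_ne_zero
    · subst h1; exact hq
  have hdiv : ∀ x y : R ⧸ Ideal.span {lam}, x ∣ y ∨ y ∣ x := by
    intro x y
    obtain ⟨x', rfl⟩ := Ideal.Quotient.mk_surjective x
    obtain ⟨y', rfl⟩ := Ideal.Quotient.mk_surjective y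
    obtain ⟨c, hc | hc⟩ := ValuationRing.cond x' y'
    · left; exact ⟨Ideal.Quotient.mk _ c, by rw [← hc, map_mul]⟩
    · right; exact ⟨Ideal.Quotient.mk _ c, by rw [← hc, map_mul]⟩
  exact add_coeff_of_frobenius_eq_zero p hdiv a b ha hb n

end Groth.Agent.S13160
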