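import Groth.Statements.S13176
-- import your own Groth.Agent.* helpers here
import Mathlib
import Groth.Agent.R2.H66QuotUI

set_option autoImplicit false
universe u
open CategoryTheory CategoryTheory.Limits AlgebraicGeometry
open ZeroCyc

namespace Groth.Agent.S13176


/-- Let a finite group G act on a scheme X over S through ρ, let q : X → Y be a quotient of X by G over
S (affine, G-invariant, O_Y = the G-invariant sections of O_X), let S' → S be any morphism and X' =
X ×_S S' with the induced action ρ', and let r : X' → Y' be a quotient of X' by G. Then the morphism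
Y' → Y ×_S S' through which the canonical map X' → Y ×_S S' factors via r is a universal
homeomorphism. (The published statement assumes every G-orbit lies in an affine open, which is what
makes the quotients exist; here the two quotients are hypotheses.) -/
theorem result {X Y S S' Y' : Scheme.{u}} {G : Type u} [Group G] [Finite G]
    (ρ : G →* Aut X) (f : X ⟶ S) (hρ : ∀ σ : G, (ρ σ).hom ≫ f = f)
    (q : X ⟶ Y) (h : Y ⟶ S) (hq : q ≫ h = f) (hquot : SGA1.IsQuot ρ q)
    (g : S' ⟶ S)
    (ρ' : G →* Aut (pullback f g))
    (hρ' : ∀ σ : G, (ρ' σ).hom ≫ pullback.fst f g = pullback.fst f g ≫ (ρ σ).hom ∧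
      (ρ' σ).hom ≫ pullback.snd f g = pullback.snd f g)
    (r : pullback f g ⟶ Y') (hr : SGA1.IsQuot ρ' r)
    (m : Y' ⟶ pullback h g)
    (hm : r ≫ m = pullback.map f g h g q (𝟙 S') (𝟙 S)
      ((Category.comp_id f).trans hq.symm) ((Category.comp_id g).trans (Category.id_comp g).symm)) :
    FlatMor.IsUnivHomeo m := by
  open Groth.Agent.R2.H66.QuotUI in
  have hc1 : (r ≫ m) ≫ pullback.fst h g = pullback.fst f g ≫ q := by
    rw [hm, pullback.lift_fst]
  have hc2 : (r ≫ m) ≫ pullback.snd h g = pullback.snd f g := by
    rw [hm, pullback.lift_snd, Category.comp_id]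
  have hpb : IsPullback (r ≫ m) (pullback.fst f g) (pullback.fst h g) q := by
    refine IsPullback.of_right ?_ hc1 (IsPullback.of_hasPullback h g).flip
    rw [hc2, hq]
    exact (IsPullback.of_hasPullback f g).flip
  have hqint : IsIntegralHom q := isIntegralHom_of_isQuot hquot
  have hqsurj : Surjective q := surjective_of_isQuot' hquot
  have hcint : IsIntegralHom (r ≫ m) := MorphismProperty.of_isPullback hpb.flip hqint
  have hcsurj : Surjective (r ≫ m) := MorphismProperty.of_isPullback hpb.flip hqsurj
  have hcUC : UniversallyClosed (r ≫ m) :=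
    (IsIntegralHom.iff_universallyClosed_and_isAffineHom.mp hcint).1
  have hrsurj : Surjective r := surjective_of_isQuot' hr
  have hmUC : UniversallyClosed m := UniversallyClosed.of_comp_surjective r m
  have hmsurj : Surjective m := Surjective.of_comp r m
  have hmUI : UniversallyInjective m := by
    refine ((tfae_universallyInjective m).out 1 0).mp ?_
    intro K _ g₁ g₂ hg
    have hg' : g₁ ≫ m = g₂ ≫ m := hg
    have hepi := epi_spec_field K (AlgebraicClosure K)
    obtain ⟨h₁, hh₁⟩ := Groth.Agent.R2.H66.QuotPts.exists_lift_geometric_point hr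
      (Spec.map (CommRingCat.ofHom (algebraMap K (AlgebraicClosure K))) ≫ g₁)
    obtain ⟨h₂, hh₂⟩ := Groth.Agent.R2.H66.QuotPts.exists_lift_geometric_point hr
      (Spec.map (CommRingCat.ofHom (algebraMap K (AlgebraicClosure K))) ≫ g₂)
    have hcc : h₁ ≫ (r ≫ m) = h₂ ≫ (r ≫ m) := by
      rw [← Category.assoc, ← Category.assoc, hh₁, hh₂, Category.assoc, Category.assoc, hg']
    have hc1' : r ≫ m ≫ pullback.fst h g = pullback.fst f g ≫ q := by
      rw [← Category.assoc]; exact hc1
    have hc2' : r ≫ m ≫ pullback.snd h g = pullback.snd f g := by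
      rw [← Category.assoc]; exact hc2
    have heq : (h₁ ≫ pullback.fst f g) ≫ q = (h₂ ≫ pullback.fst f g) ≫ q := by
      have h5 := congrArg (fun t => t ≫ pullback.fst h g) hcc
      simp only [Category.assoc, hc1'] at h5
      simpa only [Category.assoc] using h5
    have heq2 : h₁ ≫ pullback.snd f g = h₂ ≫ pullback.snd f g := by
      have h5 := congrArg (fun t => t ≫ pullback.snd h g) hcc
      simp only [Category.assoc, hc2'] at h5
      exact h5
    obtain ⟨σ, hσ⟩ := Groth.Agent.R2.H66.QuotPts.exists_rho_comp_eq hquot
      (h₁ ≫ pullback.fst f g) (h₂ ≫ pullback.fst f g) heq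
    have h3 : h₂ = h₁ ≫ (ρ' σ).hom := by
      apply pullback.hom_ext
      · rw [Category.assoc, (hρ' σ).1, ← Category.assoc]
        exact hσ
      · rw [Category.assoc, (hρ' σ).2]
        exact heq2.symm
    rw [← cancel_epi (Spec.map (CommRingCat.ofHom (algebraMap K (AlgebraicClosure K)))),
      ← hh₁, ← hh₂, h3, Category.assoc, hr.inv]
  exact isUnivHomeo_of m

end Groth.Agent.S13176
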