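import Groth.Statements.S13177
-- import your own Groth.Agent.* helpers here
import Mathlib
import Groth.Agent.R2.H66QuotUI

set_option autoImplicit false
universe u
open CategoryTheory CategoryTheory.Limits AlgebraicGeometry
open ZeroCyc

namespace Groth.Agent.S13177


/-- Let a finite group G act on a scheme X with quotient q : X → Y (affine, G-invariant, O_Y = the
invariant sections), let i : Z → X be a G-stable closed subscheme with the induced action and r : Z
→ W a quotient of Z by G, and let q(Z) be the scheme-theoretic image of Z in Y. Then the morphism W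
→ q(Z) through which Z → q(Z) factors via r is a schematically dominant universal homeomorphism.
(The published statement assumes the quotient of X exists; here both quotients are hypotheses.) -/
theorem result {X Y Z W : Scheme.{u}} {G : Type u} [Group G] [Finite G]
    (ρ : G →* Aut X) (q : X ⟶ Y) (hquot : SGA1.IsQuot ρ q)
    (i : Z ⟶ X) [IsClosedImmersion i] (ρZ : G →* Aut Z) (hρZ : ∀ σ : G, (ρZ σ).hom ≫ i = i ≫ (ρ σ).hom)
    (r : Z ⟶ W) (hr : SGA1.IsQuot ρZ r)
    (m : W ⟶ (i ≫ q).ker.subscheme) (hm : r ≫ m ≫ (i ≫ q).ker.subschemeι = i ≫ q) :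
    FlatMor.IsUnivHomeo m ∧ IsSchemeTheoreticallyDominant m := by
  open Groth.Agent.R2.H66.QuotUI in
  have hqint : IsIntegralHom q := isIntegralHom_of_isQuot hquot
  have hqUC : UniversallyClosed q :=
    (IsIntegralHom.iff_universallyClosed_and_isAffineHom.mp hqint).1
  have hqaff : IsAffineHom q := hquot.affine
  have hfUC : UniversallyClosed (i ≫ q) := inferInstance
  have hrm : r ≫ m = (i ≫ q).toImage := by
    rw [← cancel_mono (i ≫ q).imageι, Category.assoc, Scheme.Hom.toImage_imageι]
    exact hm
  have hrsurj : Surjective r := surjective_of_isQuot' hr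
  have htUC : UniversallyClosed (i ≫ q).toImage := inferInstance
  have htsurj : Surjective (i ≫ q).toImage :=
    surjective_of_isDominant_of_isClosed_range _ ((i ≫ q).toImage.isClosedMap.isClosed_range)
  have hrmUC : UniversallyClosed (r ≫ m) := hrm ▸ htUC
  have hmUC : UniversallyClosed m := UniversallyClosed.of_comp_surjective r m
  have hrmsurj : Surjective (r ≫ m) := hrm ▸ htsurj
  have hmsurj : Surjective m := Surjective.of_comp r m
  have hUI : UniversallyInjective (m ≫ (i ≫ q).ker.subschemeι) :=
    universallyInjective_of_isQuot ρ q hquot i ρZ hρZ r hr _ hm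
  have hmUI : UniversallyInjective m := universallyInjective_of_comp m (i ≫ q).ker.subschemeι
  refine ⟨isUnivHomeo_of m, ⟨?_⟩⟩
  rw [← le_bot_iff]
  calc m.ker ≤ (r ≫ m).ker := Scheme.Hom.le_ker_comp r m
    _ = ⊥ := by rw [hrm]; exact ker_toImage_eq_bot _

end Groth.Agent.S13177
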