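import Groth.Statements.S13341
-- import your own Groth.Agent.* helpers here

set_option autoImplicit false
open CategoryTheory
universe u
open FCompl

namespace Groth.Agent.S13341

section aux
open CategoryTheory.Limits AlgebraicGeometry

/-- abstract form: the graph squares are cartesian when the transition map of the target is mono -/
theorem isPullback_graph_abstract {C : Type*} [Category C] {X X' P P' Y Y' : C}
    (ιX : X ⟶ X') (ιY : Y ⟶ Y') (ιP : P ⟶ P') (Γ : X ⟶ P) (Γ' : X' ⟶ P')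
    (π1 : P ⟶ X) (π1' : P' ⟶ X') (π2 : P ⟶ Y) (π2' : P' ⟶ Y') (f : X ⟶ Y) (f' : X' ⟶ Y')
    [Mono ιY]
    (h1 : Γ ≫ π1 = 𝟙 _) (h1' : Γ' ≫ π1' = 𝟙 _) (h2 : Γ ≫ π2 = f) (h2' : Γ' ≫ π2' = f')
    (hP1 : ιP ≫ π1' = π1 ≫ ιX) (hP2 : ιP ≫ π2' = π2 ≫ ιY) (hf : f ≫ ιY = ιX ≫ f')
    (hext : ∀ {T : C} (a b : T ⟶ P), a ≫ π1 = b ≫ π1 → a ≫ π2 = b ≫ π2 → a = b)
    (hcomm : ιX ≫ Γ' = Γ ≫ ιP) :
    IsPullback ιX Γ Γ' ιP := by
  have hleft : ∀ s : PullbackCone Γ' ιP, (s.snd ≫ π1) ≫ ιX = s.fst := by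
    intro s
    have hc := s.condition
    calc (s.snd ≫ π1) ≫ ιX = s.snd ≫ (ιP ≫ π1') := by rw [hP1, Category.assoc]
      _ = (s.fst ≫ Γ') ≫ π1' := by rw [hc, Category.assoc]
      _ = s.fst := by rw [Category.assoc, h1', Category.comp_id]
  refine ⟨⟨hcomm⟩, ⟨PullbackCone.IsLimit.mk _ (fun s => s.snd ≫ π1) hleft ?_ ?_⟩⟩
  · intro s
    have hc := s.condition
    apply hext
    · rw [Category.assoc, h1, Category.comp_id]
    · have e1 : ((s.snd ≫ π1) ≫ Γ) ≫ π2 ≫ ιY = (s.snd ≫ π2) ≫ ιY := by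
        calc ((s.snd ≫ π1) ≫ Γ) ≫ π2 ≫ ιY = (s.snd ≫ π1) ≫ (Γ ≫ π2) ≫ ιY := by
              simp only [Category.assoc]
          _ = (s.snd ≫ π1) ≫ ιX ≫ f' := by rw [h2, hf]
          _ = s.fst ≫ f' := by rw [← Category.assoc, hleft]
          _ = (s.fst ≫ Γ') ≫ π2' := by rw [Category.assoc, h2']
          _ = (s.snd ≫ ιP) ≫ π2' := by rw [hc]
          _ = (s.snd ≫ π2) ≫ ιY := by rw [Category.assoc, hP2, Category.assoc]
      rw [← cancel_mono ιY]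
      simpa only [Category.assoc] using e1
  · intro s m _ hm
    rw [← hm, Category.assoc, h1, Category.comp_id]

theorem aux_main {𝔛 𝔜 𝔖 : FSch.Sys.{u}} (h𝔜 : 𝔜.IsFormal) (q : 𝔜 ⟶ 𝔖)
    (hq : IsSeparated ((q : FSch.Hom 𝔜 𝔖).app 0)) (f : 𝔛 ⟶ 𝔜) :
    FSch.IsClosedImmHom (FSch.graph f (f ≫ q) q rfl) := by
  refine ⟨fun n => ?_, ?_⟩
  · have hmono : Mono (𝔜.ι n) := by
      have := (h𝔜 n).1
      infer_instance
    exact isPullback_graph_abstract (𝔛.ι n) (𝔜.ι n) ((FSch.pullbackSys (f ≫ q) q).ι n)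
      ((FSch.graph f (f ≫ q) q rfl : FSch.Hom _ _).app n)
      ((FSch.graph f (f ≫ q) q rfl : FSch.Hom _ _).app (n + 1))
      ((FSch.pullbackFst (f ≫ q) q : FSch.Hom _ _).app n)
      ((FSch.pullbackFst (f ≫ q) q : FSch.Hom _ _).app (n + 1))
      ((FSch.pullbackSnd (f ≫ q) q : FSch.Hom _ _).app n)
      ((FSch.pullbackSnd (f ≫ q) q : FSch.Hom _ _).app (n + 1))
      ((f : FSch.Hom 𝔛 𝔜).app n) ((f : FSch.Hom 𝔛 𝔜).app (n + 1))
      (pullback.lift_fst _ _ _) (pullback.lift_fst _ _ _) (pullback.lift_snd _ _ _)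
      (pullback.lift_snd _ _ _)
      ((FSch.pullbackFst (f ≫ q) q : FSch.Hom _ _).comm n).symm
      ((FSch.pullbackSnd (f ≫ q) q : FSch.Hom _ _).comm n).symm
      ((f : FSch.Hom 𝔛 𝔜).comm n)
      (fun a b e1 e2 => pullback.hom_ext e1 e2)
      ((FSch.graph f (f ≫ q) q rfl : FSch.Hom _ _).comm n).symm
  · have : IsSeparated ((q : FSch.Hom 𝔜 𝔖).app 0) := hq
    exact inferInstanceAs (IsClosedImmersion (pullback.lift (𝟙 _) ((f : FSch.Hom 𝔛 𝔜).app 0)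
      (Category.id_comp ((f : FSch.Hom 𝔛 𝔜).app 0 ≫ (q : FSch.Hom 𝔜 𝔖).app 0))))

end aux

open AlgebraicGeometry in
/-- Formal schemes are presented as locally Noetherian adic systems of thickenings and the fibre product
is taken levelwise (it presents the fibre product of formal schemes since one factor is adic over
the base). Let 𝔖 be a locally Noetherian formal system, 𝔛 and 𝔜 locally Noetherian formal systems
over 𝔖 such that 𝔛 or 𝔜 is of finite type over 𝔖, and 𝔜 separated over 𝔖 at level 0. Then for every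
𝔖-morphism f : 𝔛 → 𝔜 the graph morphism 𝔛 → 𝔛 ×_𝔖 𝔜 is a closed immersion: adic, with level 0 a
closed immersion. -/
theorem result {𝔛 𝔜 𝔖 : FSch.Sys.{u}} (h𝔖 : 𝔖.IsLocNoethFormal) (h𝔛 : 𝔛.IsLocNoethFormal)
    (h𝔜 : 𝔜.IsLocNoethFormal) (p : 𝔛 ⟶ 𝔖) (q : 𝔜 ⟶ 𝔖) (hpq : FSch.IsFiniteTypeHom p ∨ FSch.IsFiniteTypeHom q)
    (hq : IsSeparated ((q : FSch.Hom 𝔜 𝔖).app 0)) (f : 𝔛 ⟶ 𝔜) (w : f ≫ q = p) :
    FSch.IsClosedImmHom (FSch.graph f p q w) := by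
  subst w
  exact aux_main h𝔜.1 q hq f

end Groth.Agent.S13341
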