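import Groth.Statements.S13347
import Groth.Agent.Lib.Helper22ThickAffine

set_option autoImplicit false
open CategoryTheory CategoryTheory.Limits
universe u
open Opposite
open FCompl

namespace Groth.Agent.S13347

section aux
open AlgebraicGeometry Opposite TopologicalSpace

lemma isAffineOpen_lvU (𝔛 : FSch.Sys.{u}) (h : 𝔛.IsFormal) (n : ℕ) (U : (𝔛.X 0).Opens)
    (hU : IsAffineOpen U) : IsAffineOpen (𝔛.lvU h n U) := by
  have hci := FSch.Sys.toX_isClosedImmersion 𝔛 h n
  have hsurj := FSch.Sys.toX_surjective 𝔛 h n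
  have hpre : (𝔛.toX n) ⁻¹ᵁ (𝔛.lvU h n U) = U := by
    change (Opens.map ((𝔛.toX n).base ≫ 𝔛.gInv h n)).obj U = U
    rw [FSch.Sys.toX_base_gInv]
    rfl
  have haff : IsAffineOpen ((𝔛.toX n) ⁻¹ᵁ (𝔛.lvU h n U)) := by
    rw [hpre]
    exact hU
  have haff' : IsAffine ((𝔛.toX n) ⁻¹ᵁ (𝔛.lvU h n U)).toScheme := haff
  have hs : Function.Surjective ((𝔛.toX n) ∣_ (𝔛.lvU h n U)) := by
    rw [morphismRestrict_base]
    exact Set.restrictPreimage_surjective _ hsurj
  exact Groth.Agent.Lib.Helper22.ThickAffine.isAffine_of_thickening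
    ((𝔛.toX n) ∣_ (𝔛.lvU h n U)) hs

lemma levelMap_app_surjective (𝔛 : FSch.Sys.{u}) (h : 𝔛.IsFormal) (n : ℕ) (U : (𝔛.X 0).Opens)
    (hU : IsAffineOpen U) : Function.Surjective ((𝔛.levelMap h n).hom.app (op U)) := by
  rw [FSch.Sys.levelMap_app]
  have hci : IsClosedImmersion (𝔛.ι n) := (h n).1
  have key : ∀ (V : (𝔛.X n).Opens) (hV : (𝔛.ι n) ⁻¹ᵁ (𝔛.lvU h (n + 1) U) = V)
      (e : V ≤ (𝔛.ι n) ⁻¹ᵁ (𝔛.lvU h (n + 1) U)),
      Function.Surjective ((𝔛.ι n).appLE (𝔛.lvU h (n + 1) U) V e) := by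
    intro V hV e
    subst hV
    rw [Scheme.Hom.appLE_eq_app]
    exact (𝔛.ι n).app_surjective _ (isAffineOpen_lvU 𝔛 h (n + 1) U hU)
  exact key _ (𝔛.lvU_succ h n U) _


end aux

open AlgebraicGeometry in
/-- Let (X_i) be an inductive system of preschemes on one underlying space with surjective transition
homomorphisms whose kernels O_{X_i} → O_{X_0} are locally nilpotent — here a system of thickenings
(closed immersions surjective on points) with the kernel ideal of X_0 → X_i nilpotent on every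
affine open of X_i — and O_𝔛 = lim O_{X_i} the structure sheaf of the formal prescheme it defines.
Then the canonical homomorphisms O_𝔛 → O_{X_i} are surjective: over every affine open U of X_0 the
map on sections Γ(U, O_𝔛) → Γ(U_i, O_{X_i}) is onto. -/
theorem result (𝔛 : FSch.Sys.{u}) (h : 𝔛.IsFormal)
    (hb : ∀ (i : ℕ) (V : (𝔛.X i).affineOpens), IsNilpotent ((𝔛.toX i).ker.ideal V))
    (i : ℕ) (U : (𝔛.X 0).Opens) (hU : IsAffineOpen U) :
    Function.Surjective ((𝔛.OshProj h i).hom.app (op U)) := by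
  let E : Sheaf (Opens.grothendieckTopology (𝔛.X 0)) CommRingCat.{u} ⥤ CommRingCat.{u} :=
    sheafToPresheaf _ _ ⋙ (evaluation _ _).obj (op U)
  let F := 𝔛.levelRing h ⋙ E
  let c : Cone F := E.mapCone (limit.cone (𝔛.levelRing h))
  have hc : IsLimit c := isLimitOfPreserves E (limit.isLimit _)
  have hmono : Monotone (fun n : ℕ => i + n) := fun a b hab => Nat.add_le_add_left hab i
  let s : ℕᵒᵖ ⥤ ℕᵒᵖ := hmono.functor.op
  have hfinal : hmono.functor.Final := by
    rw [Monotone.final_functor_iff]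
    intro j
    exact ⟨j, Nat.le_add_left j i⟩
  have hc' : IsLimit (c.whisker s) := (Functor.Initial.isLimitWhiskerEquiv s c).symm hc
  have h3 : ∀ (a b : ℕᵒᵖ) (f : a ⟶ b) (m : ℕ) (_ : a = op (m + 1)) (_ : b = op m),
      Function.Surjective (E.map ((𝔛.levelRing h).map f)) := by
    intro a b f m ha hb
    subst ha hb
    have h2 : f = (homOfLE (Nat.le_add_right m 1)).op := Subsingleton.elim _ _
    rw [h2, FSch.Sys.levelRing_map_succ]
    exact levelMap_app_surjective 𝔛 h m U hU
  have hF : ∀ n, Function.Surjective ((s ⋙ F).map (homOfLE (Nat.le_succ n)).op) := by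
    intro n
    exact h3 _ _ (s.map (homOfLE (Nat.le_succ n)).op) (i + n) rfl rfl
  exact Concrete.surjective_π_app_zero_of_surjective_map hc' hF

end Groth.Agent.S13347
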