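import Groth.Statements.S13367
import Groth.Agent.R2.H60FrobField

set_option autoImplicit false
set_option linter.unusedSectionVars false
universe u v
open FrobMod

namespace Groth.Agent.S13367

open IsLocalRing

section Aux

variable (p : ℕ) [Fact p.Prime] {R : Type u} [CommRing R] [IsLocalRing R] [IsNoetherianRing R] [CharP R p]
  {M : Type v} [AddCommGroup M] [Module R M] [Module.Finite R M]

instance charP_residueField : CharP (ResidueField R) p := by
  have hp : p.Prime := Fact.out
  have h0 : ((p : ℕ) : ResidueField R) = 0 := by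
    have : ((p : ℕ) : R) = 0 := CharP.cast_eq_zero R p
    rw [← map_natCast (residue R), this, map_zero]
  exact ringChar.of_eq (CharP.ringChar_of_prime_eq_zero hp h0)

/-- the quotient `M / 𝔪 M` -/
abbrev Vq (R : Type u) [CommRing R] [IsLocalRing R] (M : Type v) [AddCommGroup M] [Module R M] : Type v :=
  M ⧸ (maximalIdeal R • (⊤ : Submodule R M))

noncomputable instance : Module (ResidueField R) (Vq R M) :=
  inferInstanceAs (Module (R ⧸ maximalIdeal R) (M ⧸ (maximalIdeal R • (⊤ : Submodule R M))))

instance : IsScalarTower R (ResidueField R) (Vq R M) :=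
  inferInstanceAs (IsScalarTower R (R ⧸ maximalIdeal R) (M ⧸ (maximalIdeal R • (⊤ : Submodule R M))))

lemma residue_smul_mk (r : R) (m : M) :
    (residue R r) • (Submodule.Quotient.mk m : Vq R M) = Submodule.Quotient.mk (r • m) :=
  Module.Quotient.mk_smul_mk M (maximalIdeal R) r m

end Aux

section Main

variable (p : ℕ) [Fact p.Prime] {R : Type u} [CommRing R] [IsLocalRing R] [IsNoetherianRing R] [CharP R p]
  [IsSepClosed (ResidueField R)]
  {M : Type v} [AddCommGroup M] [Module R M] [Module.Finite R M]
  (T : M →+ M) (hT : ∀ (r : R) (m : M), T (r • m) = r ^ p • T m)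

include hT in
lemma T_mem_smul_smul (y : M) (hy : y ∈ maximalIdeal R • (⊤ : Submodule R M)) :
    T y ∈ maximalIdeal R • (maximalIdeal R • (⊤ : Submodule R M)) := by
  have hp : p.Prime := Fact.out
  refine Submodule.smul_induction_on hy ?_ ?_
  · intro r hr n _
    have h1 : r ^ p = r * r ^ (p - 1) := by
      rw [← pow_succ', Nat.sub_add_cancel hp.one_le]
    rw [hT, h1, mul_smul]
    refine Submodule.smul_mem_smul hr (Submodule.smul_mem_smul ?_ Submodule.mem_top)
    exact Ideal.pow_mem_of_mem _ hr _ (by have := hp.two_le; omega)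
  · intro x y hx hy
    rw [map_add]
    exact Submodule.add_mem _ hx hy

/-- `T` as a Frobenius-semilinear map over `R`. -/
def Tsl : M →ₛₗ[frobenius R p] M :=
  { toFun := T
    map_add' := map_add T
    map_smul' := fun r m => by rw [hT, frobenius_def] }

lemma le_comap_Tsl :
    maximalIdeal R • (⊤ : Submodule R M) ≤ (maximalIdeal R • (⊤ : Submodule R M)).comap (Tsl p T hT) := by
  intro y hy
  rw [Submodule.mem_comap]
  exact Submodule.smul_le_right (T_mem_smul_smul p T hT y hy)

/-- the induced map on `M / 𝔪 M` -/
def Tbar : Vq R M →+ Vq R M :=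
  ((maximalIdeal R • (⊤ : Submodule R M)).mapQ _ (Tsl p T hT) (le_comap_Tsl p T hT)).toAddMonoidHom

lemma Tbar_mk (m : M) : Tbar p T hT (Submodule.Quotient.mk m) = Submodule.Quotient.mk (T m) := rfl

lemma Tbar_smul (c : ResidueField R) (v : Vq R M) :
    Tbar p T hT (c • v) = c ^ p • Tbar p T hT v := by
  obtain ⟨r, rfl⟩ := residue_surjective c
  obtain ⟨m, rfl⟩ := Submodule.Quotient.mk_surjective _ v
  rw [residue_smul_mk, Tbar_mk, Tbar_mk, hT, ← map_pow, residue_smul_mk]

instance : Module.Finite (ResidueField R) (Vq R M) :=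
  Module.Finite.of_restrictScalars_finite R (ResidueField R) (Vq R M)

include hT in
theorem fieldResult (hsurj : Function.Surjective T) :
    Function.Surjective (fun v => Tbar p T hT v - v) ∧
      Nat.card {v : Vq R M // Tbar p T hT v = v} = p ^ Module.finrank (ResidueField R) (Vq R M) := by
  apply Groth.Agent.R2.H60.FrobField.main p (Tbar p T hT) (Tbar_smul p T hT)
  rw [eq_top_iff]
  rintro v -
  obtain ⟨m, rfl⟩ := Submodule.Quotient.mk_surjective _ v
  obtain ⟨m', rfl⟩ := hsurj m
  exact Submodule.subset_span ⟨Submodule.Quotient.mk m', Tbar_mk p T hT m'⟩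

include hT in
theorem Tbar_injective (hsurj : Function.Surjective T) : Function.Injective (Tbar p T hT) := by
  let f : Vq R M →ₛₗ[frobenius (ResidueField R) p] Vq R M :=
    { toFun := Tbar p T hT
      map_add' := map_add _
      map_smul' := fun c v => by rw [Tbar_smul, frobenius_def] }
  have hspan : Submodule.span (ResidueField R) (Set.range f) = ⊤ := by
    rw [eq_top_iff]
    rintro v -
    obtain ⟨m, rfl⟩ := Submodule.Quotient.mk_surjective _ v
    obtain ⟨m', rfl⟩ := hsurj m
    exact Submodule.subset_span ⟨Submodule.Quotient.mk m', Tbar_mk p T hT m'⟩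
  exact Groth.Agent.R2.H60.FrobField.injective_of_span p f hspan

include hT in
theorem smul_top_eq_bot (hsurj : Function.Surjective T) :
    maximalIdeal R • (⊤ : Submodule R M) = ⊥ := by
  by_contra hne
  have hfg : (maximalIdeal R • (⊤ : Submodule R M)).FG := IsNoetherian.noetherian _
  have hnot : ¬ (maximalIdeal R • (⊤ : Submodule R M) ≤
      maximalIdeal R • (maximalIdeal R • (⊤ : Submodule R M))) := by
    intro hle
    exact hne (Submodule.eq_bot_of_le_smul_of_le_jacobson_bot (maximalIdeal R) _ hfg hle
      (IsLocalRing.maximalIdeal_le_jacobson _))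
  obtain ⟨z, hz, hz'⟩ := Set.not_subset.mp hnot
  obtain ⟨y, rfl⟩ := hsurj z
  have hy : y ∉ maximalIdeal R • (⊤ : Submodule R M) := fun h => hz' (T_mem_smul_smul p T hT y h)
  have h0 : Tbar p T hT (Submodule.Quotient.mk y) = Tbar p T hT 0 := by
    rw [Tbar_mk, map_zero]
    exact (Submodule.Quotient.mk_eq_zero _).mpr hz
  have := Tbar_injective p T hT hsurj h0
  exact hy ((Submodule.Quotient.mk_eq_zero _).mp this)

end Main

/-- Over a strictly Henselian discrete valuation ring R of prime characteristic p with residue field κ,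
for a finitely generated module M with n = dim_κ(κ ⊗ M) and a Frobenius-semilinear additive
bijection T of M (T(rm) = r^p T(m)), the map T − 1 is surjective and its kernel has cardinality p^n. -/
theorem result (p : ℕ) [Fact p.Prime] {R : Type u} [CommRing R] [IsDomain R]
    [IsDiscreteValuationRing R] [HenselianLocalRing R] [IsSepClosed (IsLocalRing.ResidueField R)] [CharP R p]
    {M : Type v} [AddCommGroup M] [Module R M] [Module.Finite R M]
    (T : M →+ M) (hT : ∀ (r : R) (m : M), T (r • m) = r ^ p • T m) (hbij : Function.Bijective T) :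
    Function.Surjective (fun m => T m - m) ∧
      Nat.card {m : M // T m = m} =
        p ^ Module.finrank (IsLocalRing.ResidueField R) (TensorProduct R (IsLocalRing.ResidueField R) M) := by
  have hbot := smul_top_eq_bot p T hT hbij.2
  obtain ⟨h1, h2⟩ := fieldResult p T hT hbij.2
  have hmkinj : Function.Injective (Submodule.Quotient.mk : M → Vq R M) := by
    intro a b hab
    have := (Submodule.Quotient.eq _).mp hab
    rw [hbot, Submodule.mem_bot] at this
    exact sub_eq_zero.mp this
  have hmkbij : Function.Bijective (Submodule.Quotient.mk : M → Vq R M) :=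
    ⟨hmkinj, Submodule.Quotient.mk_surjective _⟩
  constructor
  · intro y
    obtain ⟨v, hv⟩ := h1 (Submodule.Quotient.mk y)
    obtain ⟨x, rfl⟩ := Submodule.Quotient.mk_surjective _ v
    refine ⟨x, hmkinj ?_⟩
    change Tbar p T hT (Submodule.Quotient.mk x) - Submodule.Quotient.mk x = _ at hv
    rw [Tbar_mk] at hv
    rw [← hv]
    rfl
  · let e : {m : M // T m = m} ≃ {v : Vq R M // Tbar p T hT v = v} :=
      (Equiv.ofBijective _ hmkbij).subtypeEquiv (fun m => by
        change T m = m ↔ Tbar p T hT (Submodule.Quotient.mk m) = Submodule.Quotient.mk m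
        rw [Tbar_mk]
        exact ⟨fun h => by rw [h], fun h => hmkinj h⟩)
    rw [Nat.card_congr e, h2]
    congr 1
    let e0 : TensorProduct R (R ⧸ maximalIdeal R) M ≃ₗ[R] M ⧸ (maximalIdeal R • (⊤ : Submodule R M)) :=
      TensorProduct.quotTensorEquivQuotSMul M (maximalIdeal R)
    let e1 : TensorProduct R (ResidueField R) M ≃ₗ[R] Vq R M := e0
    let e2 : TensorProduct R (ResidueField R) M ≃ₗ[ResidueField R] Vq R M :=
      LinearEquiv.extendScalarsOfSurjective (residue_surjective (R := R)) e1
    exact e2.finrank_eq.symm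

end Groth.Agent.S13367
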