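import Groth.Statements.S13440
import Groth.Agent.R2.H60StairTgt

set_option autoImplicit false
universe u
open W4c1hilbpn

namespace Groth.Agent.S13440

open W4c1hilbpn in
/-- Let k be an infinite field, S = k[x,y,z], and T(I) = Hom_S(I, S/I) graded by triples of integers (a
graded piece is indexed by its multidegree; its sign pattern records which of the three entries are
negative); let I be a monomial ideal of finite colength with staircase numbers b_{i,j} = the number
of c with x^i y^j z^c outside I. For all natural numbers a1, a2, the span of the graded pieces of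
T(I) of multidegrees (a1, a2, c) with c < 0 has dimension at most the sum, over all i ≥ a1 and j ≥
a2, of b_{i,j} - max(b_{i+1,j}, b_{i,j+1}) (a sum with finitely many nonzero terms). -/
theorem result (k : Type u) [Field k] [Infinite k]
    (I : Ideal (MvPolynomial (Fin 3) k)) (hI : IsMonomial I) [Module.Finite k (MvPolynomial (Fin 3) k ⧸ I)] (a1 a2 : ℕ) :
    Module.finrank k ↥(⨆ α : {α : Fin 3 → ℤ // α 0 = (a1 : ℤ) ∧ α 1 = (a2 : ℤ) ∧ α 2 < 0}, tPiece I α.1) ≤
      ∑ᶠ p : ℕ × ℕ, (if a1 ≤ p.1 ∧ a2 ≤ p.2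
        then stairZ I p.1 p.2 - max (stairZ I (p.1 + 1) p.2) (stairZ I p.1 (p.2 + 1)) else 0) := by
  open Groth.Agent.R2.H60.StairTgt Groth.Agent.R2.H60.StairAlg Groth.Agent.Lib.Helper24TgtPiece in
  classical
  obtain ⟨N, hN⟩ := exists_bound I hI
  have hne : ∀ a b, ∃ c, e3 a b c ∈ exps I := fun a b => ⟨N, hN a b N (by omega)⟩
  have hfd : ∀ α : Fam a1 a2, FiniteDimensional k ↥(tPiece I α.1) := by
    intro α
    haveI := finite_BC (I := I) (α := α.1) hI
    haveI := Fintype.ofFinite (BC I α.1)
    rw [← range_Psi hI]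
    infer_instance
  obtain ⟨F, hF⟩ := exists_finset_finrank_iSup_le (fun α : Fam a1 a2 => tPiece I α.1) hfd
  refine hF.trans ?_
  have h1 : ∑ α ∈ F, Module.finrank k ↥(tPiece I α.1) = ∑ α ∈ F, nBddComp I α.1 :=
    Finset.sum_congr rfl fun α _ => finrank_tPiece hI
  rw [h1]
  refine (sum_nBddComp_le hI hne hN a1 a2 F).trans ?_
  have hterm : ∀ p : ℕ × ℕ, (if a1 ≤ p.1 ∧ a2 ≤ p.2
      then stairZ I p.1 p.2 - max (stairZ I (p.1 + 1) p.2) (stairZ I p.1 (p.2 + 1)) else 0) =
      gterm I a1 a2 p := by
    intro p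
    unfold gterm
    rw [stairZ_eq_hh hne, stairZ_eq_hh hne, stairZ_eq_hh hne]
  simp only [hterm]
  rw [finsum_eq_sum_of_support_subset (s := Finset.range N ×ˢ Finset.range N)]
  intro p hp
  rw [Function.mem_support] at hp
  have hpos : 0 < hh I p.1 p.2 := by
    by_contra hcon
    apply hp
    unfold gterm
    split_ifs
    · omega
    · rfl
  have hlt : p.1 + p.2 < N := by
    by_contra hcon
    have := hh_zero_of_le hN p.1 p.2 (by omega)
    omega
  simp only [Finset.coe_product, Finset.coe_range, Set.mem_prod, Set.mem_Iio]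
  omega

end Groth.Agent.S13440
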