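import Groth.Statements.S13454
import Groth.Agent.R2.H60StairAlg

set_option autoImplicit false
universe u
open W4c1hilbpn

namespace Groth.Agent.S13454

open W4c1hilbpn in
/-- Let k be an infinite field, S = k[x,y,z] with variables ordered x > y > z and irrelevant ideal m, r
a natural number, and I a strongly stable ideal of colength at most C(r+2, 3) = dim S/m^r; write I_i
for the ideal of polynomials f in k[y,z] with x^i f in I. Then for every j ≤ r the sum over j ≤ i <
r of dim k[y,z]/I_i is at most the sum over the same i of C(r-i+1, 2) = dim k[y,z]/(y,z)^{r-i}, and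
if equality holds for every j < r then I = m^r. -/
theorem result (k : Type u) [Field k] [Infinite k] (r : ℕ)
    (I : Ideal (MvPolynomial (Fin 3) k)) (hI : IsStronglyStable I) [Module.Finite k (MvPolynomial (Fin 3) k ⧸ I)]
    (hd : Module.finrank k (MvPolynomial (Fin 3) k ⧸ I) ≤ Nat.choose (r + 2) 3) :
    (∀ j, j ≤ r → ∑ i ∈ Finset.Ico j r, Module.finrank k (MvPolynomial (Fin 2) k ⧸ sliceX I i) ≤
        ∑ i ∈ Finset.Ico j r, Nat.choose (r - i + 1) 2) ∧
    ((∀ j, j < r → ∑ i ∈ Finset.Ico j r, Module.finrank k (MvPolynomial (Fin 2) k ⧸ sliceX I i) =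
        ∑ i ∈ Finset.Ico j r, Nat.choose (r - i + 1) 2) → I = (Ideal.span (Set.range (MvPolynomial.X : Fin 3 → MvPolynomial (Fin 3) k))) ^ r) := by
  open Groth.Agent.R2.H60.StairAlg Groth.Agent.R2.H60.StairCore in
  obtain ⟨N, hN⟩ := exists_bound I hI.1
  have hne : ∀ a b, ∃ c, e3 a b c ∈ exps I := fun a b => ⟨N, hN a b N (by omega)⟩
  have hslice : ∀ i, Module.finrank k (MvPolynomial (Fin 2) k ⧸ sliceX I i) = D (hh I) N i := by
    intro i
    rw [finrank_quot_eq_card _ (Groth.Agent.S13453.result k I hI i).1.1, card_slice hne hN i]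
    rfl
  have htot : ∑ a ∈ Finset.range N, D (hh I) N a ≤ Nat.choose (r + 2) 3 := by
    rw [finrank_quot_eq_card _ hI.1, card_total hne hN] at hd
    exact hd
  have hN0 : ∀ a b, N ≤ a + b → hh I a b = 0 := fun a b hab => hh_zero_of_le hN a b hab
  simp only [hslice]
  refine ⟨fun j hj => part1 (hh I) N hN0 (H1 hI hne) (H2 hI hne) (H3 hI hne) r htot j hj, ?_⟩
  intro heq
  exact eq_pow_of_hh hI.1 hne r
    (part2 (hh I) N hN0 (H1 hI hne) (H2 hI hne) (H3 hI hne) r htot heq)

end Groth.Agent.S13454
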