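import Groth.Statements.S13488
import Groth.Agent.R2.H61DC10

set_option autoImplicit false
universe u
open CategoryTheory CategoryTheory.Limits Opposite
attribute [local instance] HasDerivedCategory.standard
open DerComp

namespace Groth.Agent.S13488

/-- On a ringed site (C, O), if the sheaf of ideals I is generated by finitely many global sections of
O, then the inclusion of D_comp(O, I) into D(O) has a left adjoint. (The explicit formula for the
completion through the extended alternating Cech complex is not stated.) -/
theorem result {C : Type u} [SmallCategory C] {J : GrothendieckTopology C} (O : Sheaf J CommRingCat.{u}) {r : ℕ} (s : Fin r → DerComp.GSec O) (I : DerComp.IdealSh O) (hI : I.IsGenBy s) : DerComp.HasDerCompletion O I := by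
  classical
  choose Kc η hc hu using Groth.Agent.R2.H61.DC10.exists_completion O s I hI
  let F_obj : DerivedCategory (ModSite.Mod O) → DerComp.DComp O I := fun K => ⟨Kc K, hc K⟩
  let e : ∀ (K : DerivedCategory (ModSite.Mod O)) (E : DerComp.DComp O I),
      (F_obj K ⟶ E) ≃ (K ⟶ (ObjectProperty.ι (DerComp.IsDerComp O I)).obj E) := fun K E =>
    { toFun := fun ψ => η K ≫ ψ.hom
      invFun := fun φ => ObjectProperty.homMk
        ((Equiv.ofBijective _ (hu K E.obj E.property)).symm φ)
      left_inv := fun ψ => by
        apply ObjectProperty.hom_ext
        exact (Equiv.ofBijective _ (hu K E.obj E.property)).symm_apply_apply ψ.hom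
      right_inv := fun φ =>
        (Equiv.ofBijective _ (hu K E.obj E.property)).apply_symm_apply φ }
  have he : ∀ X Y Y' g h, e X Y' (h ≫ g) =
      e X Y h ≫ (ObjectProperty.ι (DerComp.IsDerComp O I)).map g := by
    intro X Y Y' g h
    show η X ≫ (h.hom ≫ g.hom) = (η X ≫ h.hom) ≫ g.hom
    rw [Category.assoc]
  exact (Adjunction.adjunctionOfEquivLeft e he).isRightAdjoint

end Groth.Agent.S13488
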