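import Groth.Statements.S13533
import Groth.Agent.R2.H78BasicElt

set_option autoImplicit false
universe u
open ResProp

namespace Groth.Agent.S13533

/-- Let k ≤ r, let A be a Noetherian ring none of whose associated primes has height greater than k, and
let M be a finitely generated A-module which is free of rank r at every prime of height at most k.
Then M has a free submodule N of rank r - k such that M/N is free of rank k at every prime of height
at most k. Freeness of a given rank is expressed by linear isomorphisms with coordinate modules.
(The published statement has no hypothesis on the associated primes of A; for A = ℤ[X]/(X², 2X), M =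
A/(X), k = 0 and r = 1 every other hypothesis holds while X annihilates M, so M contains no free
submodule of rank 1. The printed argument produces an element of M that is part of a basis at every
prime of height at most k; the submodule it generates is free exactly when its annihilator vanishes
at the associated primes of A, which the added hypothesis guarantees.) -/
theorem result (A : Type u) [CommRing A] [IsNoetherianRing A]
    (M : Type u) [AddCommGroup M] [Module A M] [Module.Finite A M] (k r : ℕ) (hkr : k ≤ r)
    (hAss : ∀ p ∈ associatedPrimes A A, p.height ≤ k)
    (hM : ∀ p : PrimeSpectrum A, p.asIdeal.height ≤ k →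
      Nonempty (LocalizedModule p.asIdeal.primeCompl M ≃ₗ[Localization.AtPrime p.asIdeal]
        (Fin r → Localization.AtPrime p.asIdeal))) :
    ∃ N : Submodule A M, Nonempty (N ≃ₗ[A] (Fin (r - k) → A)) ∧
      ∀ p : PrimeSpectrum A, p.asIdeal.height ≤ k →
        Nonempty (LocalizedModule p.asIdeal.primeCompl (M ⧸ N) ≃ₗ[Localization.AtPrime p.asIdeal]
          (Fin k → Localization.AtPrime p.asIdeal)) := by
  classical
  obtain ⟨j, rfl⟩ := Nat.exists_eq_add_of_le hkr
  have hj : k + j - k = j := by omega
  rw [hj]
  obtain ⟨v, hv⟩ := Groth.Agent.R2.H78.BasicElt.exists_basic_family k j hM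
  have hminor : ∀ p : PrimeSpectrum A, p.asIdeal.height ≤ k →
      ∃ ℓ : Fin j → (M →ₗ[A] A),
        Groth.Agent.R2.H78.BasicElt.minor v id ℓ ∉ p.asIdeal := by
    intro p hp
    have h1 := hv p hp
    have hli : LinearIndependent p.asIdeal.ResidueField
        (fun b => Groth.Agent.R2.H78.BasicElt.rho p (v b)) := by
      rw [linearIndependent_iff_card_le_finrank_span, Fintype.card_fin]
      exact h1
    exact Groth.Agent.R2.H78.BasicElt.exists_minor_notMem_of_linearIndependent v p hli
  have hinj : Function.Injective (Fintype.linearCombination A v) := by
    apply Groth.Agent.R2.H78.BasicElt.linearCombination_injective_of_minor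
    intro q hq
    have hqprime : q.IsPrime := (AssociatedPrimes.mem_iff.mp hq).isPrime
    exact hminor ⟨q, hqprime⟩ (hAss q hq)
  refine ⟨LinearMap.range (Fintype.linearCombination A v),
    ⟨(LinearEquiv.ofInjective _ hinj).symm⟩, ?_⟩
  intro p hp
  obtain ⟨ℓ, hℓ⟩ := hminor p hp
  obtain ⟨e⟩ := hM p hp
  exact Groth.Agent.R2.H78.BasicElt.quotient_localization_equiv v p ℓ hℓ e

end Groth.Agent.S13533
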