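import Groth.Statements.S13599
-- import your own Groth.Agent.* helpers here
import Groth.Agent.R2.H9GalCycB

set_option autoImplicit false
universe u
open CategoryTheory AlgebraicGeometry
open CategoryTheory.Limits
open Cyc

namespace Groth.Agent.S13599

set_option linter.style.haveILetI false

/-- Let k be a field, X a separated k-scheme of finite type, and k' a finite normal extension field of
k, with G the group of k-automorphisms of k'; put X' = X ×_k Spec k' with first projection p. The
group G acts on X' over X (σ acts through Spec σ on the second factor). If Z' is a cycle on X' (an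
integer-valued function on the points of X' with locally finite support) invariant under every σ ∈
G, then there is exactly one cycle Z on X with [k' : k]_insep · Z' = p^*Z, where [k' : k]_insep is
the inseparable degree and p^*Z is the flat pullback of cycles along p: its coefficient at x' is Z(p
x') times the length of the Artinian local ring O_{X',x'}/𝔪_{p x'}O_{X',x'} (p has discrete fibres,
so there is no dimension condition; the two auxiliary dimension functions are taken to be zero). -/
theorem result
    {k : Type u} [Field k] {k' : Type u} [Field k'] [Algebra k k'] [FiniteDimensional k k'] [Normal k k']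
    {X : Scheme.{u}} (f : X ⟶ Spec (CommRingCat.of k)) [LocallyOfFiniteType f] [QuasiCompact f]
    [IsSeparated f]
    (Z' : AlgebraicCycle (pullback f (Spec.map (CommRingCat.ofHom (algebraMap k k')))) ℤ)
    (hZ' : ∀ (σ : k' ≃ₐ[k] k')
      (t : pullback f (Spec.map (CommRingCat.ofHom (algebraMap k k'))) ⟶
        pullback f (Spec.map (CommRingCat.ofHom (algebraMap k k')))),
      t ≫ pullback.fst f _ = pullback.fst f _ →
      t ≫ pullback.snd f _ = pullback.snd f _ ≫ Spec.map (CommRingCat.ofHom σ.toAlgHom.toRingHom) →
      ∀ x', Z' (t.base x') = Z' x') :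
    ∃! Z : AlgebraicCycle X ℤ, ∀ x' : ↥(pullback f (Spec.map (CommRingCat.ofHom (algebraMap k k')))),
      (Field.finInsepDegree k k' : ℤ) * Z' x' =
        Cyc.pullFun (pullback.fst f (Spec.map (CommRingCat.ofHom (algebraMap k k'))))
          (fun _ => 0) (fun _ => 0) 0 ⇑Z x' := by
  classical
  -- abbreviations
  have hq0 : Field.finInsepDegree k k' ≠ 0 := NeZero.ne _
  -- the multiplicities
  choose m hm hmdvd using Groth.Agent.R2.H9.GalCyc.exists_length_quot_dvd k f k'
  have hm0 : ∀ x', m x' ≠ 0 := fun x' h0 => hq0 (by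
    have := hmdvd x'
    rw [h0] at this
    exact Nat.eq_zero_of_zero_dvd this)
  have hpull : ∀ (a : X → ℤ) x', Cyc.pullFun
      (pullback.fst f (Spec.map (CommRingCat.ofHom (algebraMap k k'))))
      (fun _ => 0) (fun _ => 0) 0 a x' =
        a (pullback.fst f (Spec.map (CommRingCat.ofHom (algebraMap k k'))) x') * (m x' : ℤ) := by
    intro a x'
    unfold Cyc.pullFun
    rw [if_pos (by simp), hm x', ENat.toNat_natCast]
  -- invariance
  have hinvZ : ∀ (σ : k' ≃ₐ[k] k') x',
      Z' (Groth.Agent.R2.H9.GalCyc.tAut k f k' σ x') = Z' x' := fun σ x' =>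
    hZ' σ (Groth.Agent.R2.H9.GalCyc.tAut k f k' σ) (Groth.Agent.R2.H9.GalCyc.tAut_fst k f k' σ)
      (Groth.Agent.R2.H9.GalCyc.tAut_snd k f k' σ) x'
  have hinvm : ∀ (σ : k' ≃ₐ[k] k') x',
      m (Groth.Agent.R2.H9.GalCyc.tAut k f k' σ x') = m x' := by
    intro σ x'
    have h1 := Groth.Agent.R2.H9.GalCyc.toNat_length_quot_comp_iso
      (pullback.fst f (Spec.map (CommRingCat.ofHom (algebraMap k k'))))
      (Groth.Agent.R2.H9.GalCyc.tAut k f k' σ) (Groth.Agent.R2.H9.GalCyc.tAut_fst k f k' σ) x'
    rw [hm, hm, ENat.toNat_natCast, ENat.toNat_natCast] at h1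
    exact h1
  have hfib : ∀ x₁ x₂, pullback.fst f (Spec.map (CommRingCat.ofHom (algebraMap k k'))) x₁ =
      pullback.fst f (Spec.map (CommRingCat.ofHom (algebraMap k k'))) x₂ →
      Z' x₁ = Z' x₂ ∧ m x₁ = m x₂ := by
    intro x₁ x₂ h
    obtain ⟨σ, rfl⟩ := Groth.Agent.R2.H9.GalCyc.exists_tAut_apply_eq k f k' x₁ x₂ h
    exact ⟨(hinvZ σ x₁).symm, (hinvm σ x₁).symm⟩
  -- surjectivity
  have hsurj : Function.Surjective
      (pullback.fst f (Spec.map (CommRingCat.ofHom (algebraMap k k')))) := by
    haveI : Surjective (Spec.map (CommRingCat.ofHom (algebraMap k k'))) := by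
      constructor
      intro s
      exact ⟨IsLocalRing.closedPoint k', Subsingleton.elim _ _⟩
    haveI : Surjective (pullback.fst f (Spec.map (CommRingCat.ofHom (algebraMap k k')))) :=
      MorphismProperty.pullback_fst (P := @Surjective) _ _ inferInstance
    exact (pullback.fst f (Spec.map (CommRingCat.ofHom (algebraMap k k')))).surjective
  -- finiteness of the support
  haveI : CompactSpace ↥X := QuasiCompact.compactSpace_of_compactSpace f
  haveI : QuasiCompact (pullback.fst f (Spec.map (CommRingCat.ofHom (algebraMap k k')))) :=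
    MorphismProperty.pullback_fst (P := @QuasiCompact) _ _ inferInstance
  haveI : CompactSpace ↥(pullback f (Spec.map (CommRingCat.ofHom (algebraMap k k')))) :=
    QuasiCompact.compactSpace_of_compactSpace
      (pullback.fst f (Spec.map (CommRingCat.ofHom (algebraMap k k'))))
  have hfin : (Function.support (⇑Z' : _ → ℤ)).Finite := by
    have h1 := (Function.locallyFinsupp.locallyFiniteSupport Z').finite_inter_support_of_isCompact
      isCompact_univ
    rw [Set.univ_inter] at h1
    exact h1
  -- the descended coefficient function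
  let Zfun : X → ℤ := fun x =>
    if h : ∃ x', pullback.fst f (Spec.map (CommRingCat.ofHom (algebraMap k k'))) x' = x then
      ((Field.finInsepDegree k k' / m (Classical.choose h) : ℕ) : ℤ) * Z' (Classical.choose h)
    else 0
  have hZ_apply : ∀ x', Zfun (pullback.fst f (Spec.map (CommRingCat.ofHom (algebraMap k k'))) x') =
      ((Field.finInsepDegree k k' / m x' : ℕ) : ℤ) * Z' x' := by
    intro x'
    have h : ∃ y, pullback.fst f (Spec.map (CommRingCat.ofHom (algebraMap k k'))) y =
        pullback.fst f (Spec.map (CommRingCat.ofHom (algebraMap k k'))) x' := ⟨x', rfl⟩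
    obtain ⟨e1, e2⟩ := hfib _ _ (Classical.choose_spec h)
    simp only [Zfun, dif_pos h, e1, e2]
  have hsupp : Function.support Zfun ⊆
      pullback.fst f (Spec.map (CommRingCat.ofHom (algebraMap k k'))) ''
        Function.support (⇑Z' : _ → ℤ) := by
    intro x hx
    rw [Function.mem_support] at hx
    obtain ⟨x', rfl⟩ := hsurj x
    refine ⟨x', ?_, rfl⟩
    rw [Function.mem_support]
    intro h0
    apply hx
    rw [hZ_apply, h0, mul_zero]
  have hZfin : (Function.support Zfun).Finite := (hfin.image _).subset hsupp
  let Z : AlgebraicCycle X ℤ :=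
    ⟨Zfun, fun _ _ => trivial, fun z _ => ⟨Set.univ, Filter.univ_mem, hZfin.subset
      Set.inter_subset_right⟩⟩
  have hZcoe : ∀ x, Z x = Zfun x := fun _ => rfl
  refine ⟨Z, ?_, ?_⟩
  · intro x'
    rw [hpull, hZcoe, hZ_apply]
    obtain ⟨c, hc⟩ := hmdvd x'
    have h1 : Field.finInsepDegree k k' / m x' * m x' = Field.finInsepDegree k k' :=
      Nat.div_mul_cancel (hmdvd x')
    have h2 : ((Field.finInsepDegree k k' / m x' : ℕ) : ℤ) * (m x' : ℤ) =
        (Field.finInsepDegree k k' : ℤ) := by exact_mod_cast h1
    rw [← h2]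
    ring
  · intro Z₂ hZ₂
    apply DFunLike.coe_injective
    funext x
    obtain ⟨x', rfl⟩ := hsurj x
    have e1 := hZ₂ x'
    rw [hpull] at e1
    have e2 : (Field.finInsepDegree k k' : ℤ) * Z' x' =
        Z (pullback.fst f (Spec.map (CommRingCat.ofHom (algebraMap k k'))) x') * (m x' : ℤ) := by
      rw [hZcoe, hZ_apply]
      have h1 : Field.finInsepDegree k k' / m x' * m x' = Field.finInsepDegree k k' :=
        Nat.div_mul_cancel (hmdvd x')
      have h2 : ((Field.finInsepDegree k k' / m x' : ℕ) : ℤ) * (m x' : ℤ) =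
          (Field.finInsepDegree k k' : ℤ) := by exact_mod_cast h1
      rw [← h2]
      ring
    have hm0' : (m x' : ℤ) ≠ 0 := by exact_mod_cast hm0 x'
    exact mul_right_cancel₀ hm0' (e1.symm.trans e2)

end Groth.Agent.S13599
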