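import Groth.Statements.S13635
import Mathlib
import Groth.Agent.R2.H62CGrpSh
import Groth.Agent.R2.H62MultSch
import Groth.Agent.S13634

set_option autoImplicit false
universe u w
open CategoryTheory CategoryTheory.Limits MonoidalCategory CartesianMonoidalCategory MonObj AlgebraicGeometry
open MultSch

namespace Groth.Agent.S13635

/-- Let M₁ → M₂ → M₃ → 0 be a sequence of R-module schemes over a scheme S, with R-linear homomorphisms
j : M₁ → M₂ and π : M₂ → M₃, exact as a sequence of fppf sheaves. For n ≥ 1 and an R-module scheme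
N, the sequence 0 → Alt(M₃^n, N) → Alt(M₂^n, N) → Alt(M₁ × M₂^(n-1), N) of R-multilinear alternating
morphisms is exact: an R-multilinear alternating φ : M₂^n → N which is trivial on all points with
first coordinate in the image of j is of the form φ' ∘ π^n for a unique morphism φ' : M₃^n → N
(unique among all morphisms), and this φ' is R-multilinear and alternating. -/
theorem result
    {S : Scheme.{u}} {R : Type w} [CommRing R] {M₁ M₂ M₃ N : Over S}
    [GrpObj M₁] [IsCommMonObj M₁] [GrpObj M₂] [IsCommMonObj M₂] [GrpObj M₃] [IsCommMonObj M₃]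
    [GrpObj N] [IsCommMonObj N]
    (ρ₁ : MultSch.RMod R M₁) (ρ₂ : MultSch.RMod R M₂) (ρ₃ : MultSch.RMod R M₃) (ρN : MultSch.RMod R N)
    (j : M₁ ⟶ M₂) (π : M₂ ⟶ M₃) [IsMonHom j] [IsMonHom π]
    (hj : ∀ a : R, j ≫ ρ₂.act a = ρ₁.act a ≫ j) (hπ : ∀ a : R, π ≫ ρ₃.act a = ρ₂.act a ≫ π)
    (w : j ≫ π = 1) (hex : (CGrpSh.seq Scheme.fppfPrecoverage j π w).Exact)
    (hepi : Epi (CGrpSh.ptsMap Scheme.fppfPrecoverage π))
    {n : ℕ} (hn : 1 ≤ n) (φ : MultSch.pow M₂ n ⟶ N)
    (hmult : MultSch.IsMultilinear φ) (hlin : MultSch.IsRLinear ρ₂ ρN φ) (halt : MultSch.IsAlternating φ)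
    (hvan : ∀ (T : Over S) (y : T ⟶ M₁) (x : Fin n → (T ⟶ M₂)), x ⟨0, hn⟩ = y ≫ j →
      MultSch.tuple x ≫ φ = 1) :
    ∃ φ' : MultSch.pow M₃ n ⟶ N,
      (∀ (T : Over S) (x : Fin n → (T ⟶ M₂)), MultSch.tuple x ≫ φ = MultSch.tuple (fun l => x l ≫ π) ≫ φ') ∧
      MultSch.IsMultilinear φ' ∧ MultSch.IsRLinear ρ₃ ρN φ' ∧ MultSch.IsAlternating φ' ∧
      ∀ φ'' : MultSch.pow M₃ n ⟶ N,
        (∀ (T : Over S) (x : Fin n → (T ⟶ M₂)), MultSch.tuple x ≫ φ = MultSch.tuple (fun l => x l ≫ π) ≫ φ'') →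
          φ'' = φ' := by
  classical
  let K := Scheme.fppfPrecoverage
  -- (V) vanishing when any coordinate comes from `M₁`
  have hV : ∀ (T : Over S) (x : Fin n → (T ⟶ M₂)) (i : Fin n) (y : T ⟶ M₁), x i = y ≫ j →
      MultSch.tuple x ≫ φ = 1 := by
    intro T x i y hy
    by_cases hi : i = ⟨0, hn⟩
    · subst hi
      exact hvan T y x hy
    · have hsw := Groth.Agent.R2.H62.MultSch.swap_mul_eq_one φ hmult halt x ⟨0, hn⟩ i
        (fun h => hi h.symm) (x ⟨0, hn⟩) (x i)
      rw [Function.update_eq_self, Function.update_eq_self] at hsw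
      have h1 : MultSch.tuple (Function.update (Function.update x ⟨0, hn⟩ (x i)) i (x ⟨0, hn⟩)) ≫ φ
          = 1 := by
        refine hvan T y _ ?_
        rw [Function.update_of_ne (fun h => hi h.symm), Function.update_self, hy]
      rw [h1, _root_.mul_one] at hsw
      exact hsw
  -- (K') vanishing when a coordinate is killed by `π`
  have hker : ∀ (T : Over S) (x : Fin n → (T ⟶ M₂)) (i : Fin n), x i ≫ π = 1 →
      MultSch.tuple x ≫ φ = 1 := by
    intro T x i hd
    have hcov := Groth.Agent.R2.H62.CGrpSh.liftSieve_mem_of_exact K j π w hex (x i) hd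
    refine Groth.Agent.R2.H62.CGrpSh.hom_ext_of_mem K hcov _ _ ?_
    rintro T' g ⟨y', hy'⟩
    rw [MonObj.comp_one, ← Category.assoc, Groth.Agent.R2.H62.MultSch.comp_tuple']
    exact hV T' _ i y' hy'.symm
  -- one coordinate at a time
  have hone : ∀ (T : Over S) (x : Fin n → (T ⟶ M₂)) (i : Fin n) (v : T ⟶ M₂), v ≫ π = x i ≫ π →
      MultSch.tuple (Function.update x i v) ≫ φ = MultSch.tuple x ≫ φ := by
    intro T x i v hv
    have hx : v = x i * ((x i)⁻¹ * v) := by rw [mul_inv_cancel_left]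
    have hd : ((x i)⁻¹ * v) ≫ π = 1 := by
      have h1 : v ≫ π = (x i ≫ π) * (((x i)⁻¹ * v) ≫ π) := by
        rw [← MonObj.mul_comp, mul_inv_cancel_left]
      rw [hv] at h1
      exact (mul_eq_left.mp h1.symm)
    rw [hx, hmult, Function.update_eq_self,
      hker T (Function.update x i ((x i)⁻¹ * v)) i (by rw [Function.update_self]; exact hd),
      _root_.mul_one]
  -- (K) `φ` only depends on the images of the coordinates in `M₃`
  have hind : ∀ (T : Over S) (x x' : Fin n → (T ⟶ M₂)), (∀ l, x l ≫ π = x' l ≫ π) →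
      MultSch.tuple x ≫ φ = MultSch.tuple x' ≫ φ := by
    intro T x x' hxx'
    have key : ∀ s : Finset (Fin n),
        MultSch.tuple (fun l => if l ∈ s then x' l else x l) ≫ φ = MultSch.tuple x ≫ φ := by
      intro s
      induction s using Finset.induction_on with
      | empty => simp
      | insert a s ha ih =>
        rw [← ih]
        have : (fun l => if l ∈ insert a s then x' l else x l) =
            Function.update (fun l => if l ∈ s then x' l else x l) a (x' a) := by
          funext l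
          by_cases hl : l = a
          · subst hl; simp
          · simp [hl]
        rw [this]
        refine hone T _ a (x' a) ?_
        simp only [ha, if_false]
        exact (hxx' a).symm
    have := key Finset.univ
    simp only [Finset.mem_univ, if_true] at this
    exact this.symm
  -- the universal point
  let T₀ : Over S := MultSch.pow M₃ n
  let c : Fin n → (T₀ ⟶ M₃) := Groth.Agent.R2.H62.MultSch.proj M₃ n
  let R₀ : Sieve T₀ := Finset.univ.inf fun l => Groth.Agent.R2.H62.CGrpSh.liftSieve π (c l)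
  have hR₀ : R₀ ∈ QuotSh.J K S T₀ :=
    Groth.Agent.R2.H62.CGrpSh.finset_inf_mem _ _ _
      (fun l _ => Groth.Agent.R2.H62.CGrpSh.liftSieve_mem_of_epi K π hepi (c l))
  have hch : ∀ ⦃T' : Over S⦄ (g : T' ⟶ T₀), R₀ g → ∀ l, ∃ x : T' ⟶ M₂, x ≫ π = g ≫ c l := by
    intro T' g hg l
    exact (Groth.Agent.R2.H62.CGrpSh.finset_inf_apply _ _ g).mp hg l (Finset.mem_univ l)
  choose xg hxg using hch
  obtain ⟨φ', hφ'⟩ := Groth.Agent.R2.H62.CGrpSh.exists_glue K (N := N) hR₀
    (fun T' g hg => MultSch.tuple (xg g hg) ≫ φ) (by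
      intro T' T'' g hg h
      rw [← Category.assoc h, Groth.Agent.R2.H62.MultSch.comp_tuple']
      refine hind T'' _ _ fun l => ?_
      rw [hxg (h ≫ g) _ l, Category.assoc, Category.assoc, hxg g hg l])
  -- (P1)
  have hP1 : ∀ (T : Over S) (x : Fin n → (T ⟶ M₂)),
      MultSch.tuple (fun l => x l ≫ π) ≫ φ' = MultSch.tuple x ≫ φ := by
    intro T x
    have ht : R₀ (MultSch.tuple (fun l => x l ≫ π)) := by
      rw [Groth.Agent.R2.H62.CGrpSh.finset_inf_apply]
      intro l _
      exact ⟨x l, by rw [Groth.Agent.R2.H62.MultSch.tuple_comp_proj]⟩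
    rw [hφ' _ ht]
    refine hind T _ _ fun l => ?_
    rw [hxg _ ht l, Groth.Agent.R2.H62.MultSch.tuple_comp_proj]
  -- local lifting of finitely many points
  have hlift : ∀ (T : Over S) (x : Fin n → (T ⟶ M₃)),
      (Finset.univ.inf fun l => Groth.Agent.R2.H62.CGrpSh.liftSieve π (x l)) ∈ QuotSh.J K S T :=
    fun T x => Groth.Agent.R2.H62.CGrpSh.finset_inf_mem _ _ _
      (fun l _ => Groth.Agent.R2.H62.CGrpSh.liftSieve_mem_of_epi K π hepi (x l))
  have hmult' : MultSch.IsMultilinear φ' := by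
    intro T x i y z
    have hcy := Groth.Agent.R2.H62.CGrpSh.liftSieve_mem_of_epi K π hepi y
    have hcz := Groth.Agent.R2.H62.CGrpSh.liftSieve_mem_of_epi K π hepi z
    refine Groth.Agent.R2.H62.CGrpSh.hom_ext_of_mem K
      ((QuotSh.J K S).intersection_covering (hlift T x)
        ((QuotSh.J K S).intersection_covering hcy hcz)) _ _ ?_
    rintro T' g ⟨hgx, ⟨Y, hY⟩, ⟨Z, hZ⟩⟩
    rw [Groth.Agent.R2.H62.CGrpSh.finset_inf_apply] at hgx
    choose X hX using fun l => hgx l (Finset.mem_univ l)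
    rw [MonObj.comp_mul, ← Category.assoc, ← Category.assoc, ← Category.assoc,
      Groth.Agent.R2.H62.MultSch.comp_tuple', Groth.Agent.R2.H62.MultSch.comp_tuple',
      Groth.Agent.R2.H62.MultSch.comp_tuple', Groth.Agent.R2.H62.MultSch.comp_update,
      Groth.Agent.R2.H62.MultSch.comp_update, Groth.Agent.R2.H62.MultSch.comp_update,
      MonObj.comp_mul, ← hY, ← hZ, ← MonObj.mul_comp]
    have hXf : (fun l => g ≫ x l) = fun l => X l ≫ π := funext fun l => (hX l).symm
    rw [hXf, ← Groth.Agent.R2.H62.MultSch.update_comp, ← Groth.Agent.R2.H62.MultSch.update_comp,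
      ← Groth.Agent.R2.H62.MultSch.update_comp, hP1, hP1, hP1, hmult]
  have hlin' : MultSch.IsRLinear ρ₃ ρN φ' := by
    intro T x i a
    refine Groth.Agent.R2.H62.CGrpSh.hom_ext_of_mem K (hlift T x) _ _ ?_
    intro T' g hgx
    rw [Groth.Agent.R2.H62.CGrpSh.finset_inf_apply] at hgx
    choose X hX using fun l => hgx l (Finset.mem_univ l)
    have hXf : (fun l => g ≫ x l) = fun l => X l ≫ π := funext fun l => (hX l).symm
    rw [← Category.assoc, ← Category.assoc, ← Category.assoc,
      Groth.Agent.R2.H62.MultSch.comp_tuple', Groth.Agent.R2.H62.MultSch.comp_tuple',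
      Groth.Agent.R2.H62.MultSch.comp_update, ← Category.assoc g, ← hX i, Category.assoc (X i), hπ a,
      ← Category.assoc (X i), hXf, ← Groth.Agent.R2.H62.MultSch.update_comp, hP1, hP1]
    exact hlin T' X i a
  refine ⟨φ', fun T x => (hP1 T x).symm, hmult', hlin', ?_, ?_⟩
  · -- alternating
    refine Groth.Agent.S13634.result π hepi φ' hmult' ?_
    intro T x i i' hii' hx
    rw [hP1]
    exact halt T x i i' hii' hx
  · -- uniqueness
    intro φ'' hφ''
    refine Groth.Agent.R2.H62.CGrpSh.hom_ext_of_mem K hR₀ _ _ ?_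
    intro T' g hg
    have hgt : g = MultSch.tuple (fun l => xg g hg l ≫ π) :=
      (Groth.Agent.R2.H62.MultSch.eq_tuple g).trans
        (congrArg MultSch.tuple (funext fun l => (hxg g hg l).symm))
    rw [hgt, ← hφ'', hP1]

end Groth.Agent.S13635
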