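import Groth.Statements.S13636
import Mathlib
import Groth.Agent.R2.H62CGrpSh

set_option autoImplicit false
universe u w
open CategoryTheory CategoryTheory.Limits MonoidalCategory CartesianMonoidalCategory MonObj AlgebraicGeometry
open MultSch

namespace Groth.Agent.S13636

/-- Let M' → M → M'' → 0 be a sequence of R-module schemes over a scheme S, with R-linear homomorphisms
j and π, exact as fppf sheaves, and let ψ : P × M × Q → N be a morphism to an R-module scheme N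
which is additive and R-linear in the coordinate M (on T-valued points) and trivial on all points
whose M-coordinate lies in the image of j. Then ψ = ψ' ∘ (id × π × id) for a unique morphism ψ' : P
× M'' × Q → N, and ψ' is additive and R-linear in the coordinate M''. (The published statement has a
product M₁ × ⋯ × M_r of R-module schemes with the exact sequence in the i-th factor and ψ
R-multilinear; here the factors before and after the i-th are collected into single S-schemes P and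
Q, and only linearity in the i-th coordinate, the one the statement is about, is carried; linearity
in the other coordinates passes between ψ and ψ' formally.) -/
theorem result
    {S : Scheme.{u}} {R : Type w} [CommRing R] {P Q M' M M'' N : Over S}
    [GrpObj M'] [IsCommMonObj M'] [GrpObj M] [IsCommMonObj M] [GrpObj M''] [IsCommMonObj M'']
    [GrpObj N] [IsCommMonObj N]
    (ρ' : MultSch.RMod R M') (ρ : MultSch.RMod R M) (ρ'' : MultSch.RMod R M'') (ρN : MultSch.RMod R N)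
    (j : M' ⟶ M) (π : M ⟶ M'') [IsMonHom j] [IsMonHom π]
    (hj : ∀ a : R, j ≫ ρ.act a = ρ'.act a ≫ j) (hπ : ∀ a : R, π ≫ ρ''.act a = ρ.act a ≫ π)
    (w : j ≫ π = 1) (hex : (CGrpSh.seq Scheme.fppfPrecoverage j π w).Exact)
    (hepi : Epi (CGrpSh.ptsMap Scheme.fppfPrecoverage π))
    (ψ : P ⊗ (M ⊗ Q) ⟶ N)
    (hadd : ∀ (T : Over S) (p : T ⟶ P) (q : T ⟶ Q) (y z : T ⟶ M),
      lift p (lift (y * z) q) ≫ ψ = (lift p (lift y q) ≫ ψ) * (lift p (lift z q) ≫ ψ))
    (hlin : ∀ (T : Over S) (p : T ⟶ P) (q : T ⟶ Q) (y : T ⟶ M) (a : R),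
      lift p (lift (y ≫ ρ.act a) q) ≫ ψ = (lift p (lift y q) ≫ ψ) ≫ ρN.act a)
    (hvan : ∀ (T : Over S) (p : T ⟶ P) (q : T ⟶ Q) (y' : T ⟶ M'), lift p (lift (y' ≫ j) q) ≫ ψ = 1) :
    ∃ ψ' : P ⊗ (M'' ⊗ Q) ⟶ N,
      (P ◁ (π ▷ Q)) ≫ ψ' = ψ ∧
      (∀ (T : Over S) (p : T ⟶ P) (q : T ⟶ Q) (y z : T ⟶ M''),
        lift p (lift (y * z) q) ≫ ψ' = (lift p (lift y q) ≫ ψ') * (lift p (lift z q) ≫ ψ')) ∧
      (∀ (T : Over S) (p : T ⟶ P) (q : T ⟶ Q) (y : T ⟶ M'') (a : R),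
        lift p (lift (y ≫ ρ''.act a) q) ≫ ψ' = (lift p (lift y q) ≫ ψ') ≫ ρN.act a) ∧
      ∀ ψ'' : P ⊗ (M'' ⊗ Q) ⟶ N, (P ◁ (π ▷ Q)) ≫ ψ'' = ψ → ψ'' = ψ' := by
  classical
  let K := Scheme.fppfPrecoverage
  -- (K') points of `M` killed by `π` are killed by `ψ`
  have hker : ∀ (T : Over S) (p : T ⟶ P) (q : T ⟶ Q) (d : T ⟶ M), d ≫ π = 1 →
      lift p (lift d q) ≫ ψ = 1 := by
    intro T p q d hd
    have hcov := Groth.Agent.R2.H62.CGrpSh.liftSieve_mem_of_exact K j π w hex d hd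
    refine Groth.Agent.R2.H62.CGrpSh.hom_ext_of_mem K hcov _ _ ?_
    rintro T' g ⟨y', hy'⟩
    rw [MonObj.comp_one, ← Category.assoc, comp_lift, comp_lift, ← hy']
    exact hvan T' _ _ y'
  -- (K) `ψ` only depends on the image of the `M`-coordinate in `M''`
  have hind : ∀ (T : Over S) (p : T ⟶ P) (q : T ⟶ Q) (x x' : T ⟶ M), x ≫ π = x' ≫ π →
      lift p (lift x q) ≫ ψ = lift p (lift x' q) ≫ ψ := by
    intro T p q x x' hxx'
    have hx : x = x' * (x'⁻¹ * x) := by rw [mul_inv_cancel_left]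
    have hd : (x'⁻¹ * x) ≫ π = 1 := by
      have h1 : x ≫ π = (x' ≫ π) * ((x'⁻¹ * x) ≫ π) := by
        rw [← MonObj.mul_comp, mul_inv_cancel_left]
      rw [hxx'] at h1
      exact (mul_eq_left.mp h1.symm)
    rw [hx, hadd, hker T p q _ hd, _root_.mul_one]
  -- the universal point
  let T₀ : Over S := P ⊗ (M'' ⊗ Q)
  let p₀ : T₀ ⟶ P := fst P (M'' ⊗ Q)
  let y₀ : T₀ ⟶ M'' := snd P (M'' ⊗ Q) ≫ fst M'' Q
  let q₀ : T₀ ⟶ Q := snd P (M'' ⊗ Q) ≫ snd M'' Q
  let R₀ : Sieve T₀ := Groth.Agent.R2.H62.CGrpSh.liftSieve π y₀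
  have hR₀ : R₀ ∈ QuotSh.J K S T₀ := Groth.Agent.R2.H62.CGrpSh.liftSieve_mem_of_epi K π hepi y₀
  -- glue
  have hch : ∀ ⦃T' : Over S⦄ (g : T' ⟶ T₀), R₀ g → ∃ x : T' ⟶ M, x ≫ π = g ≫ y₀ :=
    fun T' g hg => hg
  choose xg hxg using hch
  obtain ⟨ψ', hψ'⟩ := Groth.Agent.R2.H62.CGrpSh.exists_glue K (N := N) hR₀
    (fun T' g hg => lift (g ≫ p₀) (lift (xg g hg) (g ≫ q₀)) ≫ ψ) (by
      intro T' T'' g hg h
      have h1 := hxg (h ≫ g) (R₀.downward_closed hg h)
      have h2 := hxg g hg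
      rw [← Category.assoc h, comp_lift, comp_lift]
      simp only [Category.assoc]
      refine hind T'' _ _ _ _ ?_
      rw [h1, Category.assoc, ← h2, Category.assoc])
  -- (P1)
  have hP1 : ∀ (T : Over S) (p : T ⟶ P) (q : T ⟶ Q) (x : T ⟶ M),
      lift p (lift (x ≫ π) q) ≫ ψ' = lift p (lift x q) ≫ ψ := by
    intro T p q x
    have ht : R₀ (lift p (lift (x ≫ π) q)) := ⟨x, by simp [y₀]⟩
    rw [hψ' _ ht]
    have h1 := hxg _ ht
    have e1 : lift p (lift (x ≫ π) q) ≫ p₀ = p := by simp [p₀]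
    have e2 : lift p (lift (x ≫ π) q) ≫ q₀ = q := by simp [q₀]
    have e3 : lift p (lift (x ≫ π) q) ≫ y₀ = x ≫ π := by simp [y₀]
    rw [e1, e2]
    refine hind T _ _ _ _ ?_
    rw [h1, e3]
  have hwh : P ◁ (π ▷ Q) = lift (fst P (M ⊗ Q)) (lift ((snd P (M ⊗ Q) ≫ fst M Q) ≫ π)
      (snd P (M ⊗ Q) ≫ snd M Q)) := by
    apply CartesianMonoidalCategory.hom_ext
    · simp
    · apply CartesianMonoidalCategory.hom_ext <;> simp
  have hid : lift (fst P (M ⊗ Q)) (lift (snd P (M ⊗ Q) ≫ fst M Q) (snd P (M ⊗ Q) ≫ snd M Q)) =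
      𝟙 (P ⊗ (M ⊗ Q)) := by
    apply CartesianMonoidalCategory.hom_ext
    · simp
    · apply CartesianMonoidalCategory.hom_ext <;> simp
  have hC1 : (P ◁ (π ▷ Q)) ≫ ψ' = ψ := by
    rw [hwh, hP1, hid, Category.id_comp]
  refine ⟨ψ', hC1, ?_, ?_, ?_⟩
  · -- additivity
    intro T p q y z
    have hcy := Groth.Agent.R2.H62.CGrpSh.liftSieve_mem_of_epi K π hepi y
    have hcz := Groth.Agent.R2.H62.CGrpSh.liftSieve_mem_of_epi K π hepi z
    refine Groth.Agent.R2.H62.CGrpSh.hom_ext_of_mem K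
      ((QuotSh.J K S).intersection_covering hcy hcz) _ _ ?_
    rintro T' g ⟨⟨xy, hxy⟩, ⟨xz, hxz⟩⟩
    rw [MonObj.comp_mul, ← Category.assoc, ← Category.assoc, ← Category.assoc,
      comp_lift, comp_lift, comp_lift, comp_lift, comp_lift, comp_lift, MonObj.comp_mul,
      ← hxy, ← hxz, ← MonObj.mul_comp, hP1, hP1, hP1, hadd]
  · -- linearity
    intro T p q y a
    have hcy := Groth.Agent.R2.H62.CGrpSh.liftSieve_mem_of_epi K π hepi y
    refine Groth.Agent.R2.H62.CGrpSh.hom_ext_of_mem K hcy _ _ ?_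
    rintro T' g ⟨xy, hxy⟩
    rw [← Category.assoc, ← Category.assoc, ← Category.assoc, comp_lift, comp_lift, comp_lift,
      comp_lift, ← Category.assoc g y, ← hxy, Category.assoc xy, hπ a, ← Category.assoc xy, hP1,
      hP1, hlin]
  · -- uniqueness
    intro ψ'' hψ''
    refine Groth.Agent.R2.H62.CGrpSh.hom_ext_of_mem K hR₀ _ _ ?_
    rintro T' g ⟨x, hx⟩
    have hg : g = lift (g ≫ p₀) (lift x (g ≫ q₀)) ≫ (P ◁ (π ▷ Q)) := by
      rw [hwh]
      apply CartesianMonoidalCategory.hom_ext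
      · simp [p₀]
      · apply CartesianMonoidalCategory.hom_ext
        · simp [hx, y₀]
        · simp [q₀]
    rw [hg, Category.assoc, Category.assoc, hψ'', hC1]

end Groth.Agent.S13636
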