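import Groth.Statements.S13731
import Groth.Agent.R2.H62HTop

set_option autoImplicit false
universe u
open HTop

namespace Groth.Agent.S13731

open CategoryTheory CategoryTheory.Limits AlgebraicGeometry in
/-- Let X be a separated Noetherian scheme and {p_i : U_i → X} a finite family of separated morphisms of
finite type whose induced morphism from the disjoint union of the U_i to X is universally submersive
(an h-covering). Then every point x of X is p_i(u) for some i and some point u of U_i admitting a
generization ξ in U_i whose image p_i(ξ) is a generic point of an irreducible component of X.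
Equivalently, the irreducible components of the U_i dominating an irreducible component of X jointly
cover X. -/
theorem result {X : Scheme.{u}} [IsNoetherian X] [X.IsSeparated] (E : PreZeroHypercover.{u} X) [Finite E.I₀] [∀ i, LocallyOfFiniteType (E.f i)] [∀ i, QuasiCompact (E.f i)] [∀ i, IsSeparated (E.f i)] (hE : SGA1.UnivSubmersive (Sigma.desc E.f)) (x : X) : ∃ (i : E.I₀) (ξ u : E.X i), ξ ⤳ u ∧ E.f i u = x ∧ closure {E.f i ξ} ∈ irreducibleComponents ↥X := by
  classical
  obtain ⟨η, hη⟩ := QuasiSober.sober (isIrreducible_irreducibleComponent (x := x))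
    isClosed_irreducibleComponent
  have hcomp : closure {η} ∈ irreducibleComponents ↥X := by
    rw [hη.def]
    exact irreducibleComponent_mem_irreducibleComponents x
  have hspec : η ⤳ x := specializes_iff_mem_closure.2 (by
    rw [hη.def]
    exact mem_irreducibleComponent)
  have : LocallyOfFiniteType (Sigma.desc E.f) :=
    Groth.Agent.R2.H62.HTop.locallyOfFiniteType_sigmaDesc
  obtain ⟨a, b, hab, ha, hb⟩ : ∃ a b : ↥(∐ E.X), a ⤳ b ∧ Sigma.desc E.f a = η ∧
      Sigma.desc E.f b = x := by
    by_cases hne : η = x
    · obtain ⟨b, hb⟩ := Groth.Agent.R2.H62.HTop.surjective_of_univSubmersive _ hE x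
      exact ⟨b, b, specializes_rfl, hne ▸ hb, hb⟩
    · obtain ⟨V, hV, t, ht1, ht2⟩ := Groth.Agent.Lib.Helper4.DVRSch.exists_dvr_hom hspec hne
        (𝟙 (X.residueField η)) (Groth.Agent.R2.H62.HTop.essFiniteType_id _)
      obtain ⟨a, b, hab, ha, hb⟩ :=
        Groth.Agent.R2.H62.HTop.exists_specializes_of_dvr V (Sigma.desc E.f) hE t
      refine ⟨a, b, hab, ?_, hb.trans ht2⟩
      rw [ha]
      let pt : Spec (CommRingCat.of (X.residueField η)) := ⟨⊥, Ideal.isPrime_bot⟩
      have h1 : (Spec.map (CommRingCat.ofHom V.subtype) ≫ t) pt =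
          (Spec.map (𝟙 (X.residueField η)) ≫ X.fromSpecResidueField η) pt := by
        rw [ht1]
        rfl
      have h2 : (Spec.map (CommRingCat.ofHom V.subtype) ≫ t) pt =
          t (Spec.map (CommRingCat.ofHom V.subtype) pt) := Scheme.Hom.comp_apply _ _ _
      have h3 : (Spec.map (𝟙 (X.residueField η)) ≫ X.fromSpecResidueField η) pt = η := by
        rw [Scheme.Hom.comp_apply, Scheme.fromSpecResidueField_apply]
      have h4 : t (Spec.map (CommRingCat.ofHom V.subtype) pt) = η := h2.symm.trans (h1.trans h3)
      refine Eq.trans ?_ h4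
      congr 1
      apply PrimeSpectrum.ext
      change ⊥ = Ideal.comap V.subtype ⊥
      exact (Ideal.comap_bot_of_injective _ Subtype.val_injective).symm
  obtain ⟨i, ξ, v, hξv, hξ, hv⟩ := Groth.Agent.R2.H62.HTop.exists_specializes_sigma E.X hab
  refine ⟨i, ξ, v, hξv, ?_, ?_⟩
  · rw [← hb, ← hv, ← Scheme.Hom.comp_apply, Sigma.ι_desc]
  · have h2 : E.f i ξ = η := by
      rw [← ha, ← hξ, ← Scheme.Hom.comp_apply, Sigma.ι_desc]
    rw [h2]
    exact hcomp

end Groth.Agent.S13731
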