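import Groth.Statements.S13736
import Groth.Agent.R2.H19ChevalleyNN
import Groth.Agent.R2.H62HTop
import Groth.Agent.S13731

set_option autoImplicit false
set_option maxHeartbeats 1600000
set_option linter.style.haveILetI false
universe u
open HTop

namespace Groth.Agent.S13736

open CategoryTheory CategoryTheory.Limits AlgebraicGeometry

theorem univSubmersive_of_universallyOpen_surjective {S X : Scheme.{u}} (g : S ⟶ X)
    [UniversallyOpen g] [Surjective g] : SGA1.UnivSubmersive g := by
  intro X' Y' i₁ i₂ f' sq
  haveI : UniversallyOpen f' := MorphismProperty.of_isPullback (P := @UniversallyOpen) sq.flip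
    inferInstance
  haveI : Surjective f' := MorphismProperty.of_isPullback (P := @Surjective) sq.flip inferInstance
  exact f'.isOpenMap.isQuotientMap f'.continuous f'.surjective

theorem univSubmersive_of_comp {T S X : Scheme.{u}} (c : T ⟶ S) (g : S ⟶ X)
    (h : SGA1.UnivSubmersive (c ≫ g)) : SGA1.UnivSubmersive g := by
  intro X' Y' i₁ i₂ f' sq
  -- sq : IsPullback f' i₁ i₂ g  (f' : X' ⟶ Y', i₁ : X' ⟶ S, i₂ : Y' ⟶ X)
  have sq2 := (IsPullback.of_hasPullback i₁ c)
  -- pullback.fst : P ⟶ X', pullback.snd : P ⟶ T
  have sq3 : IsPullback (pullback.fst i₁ c ≫ f') (pullback.snd i₁ c) i₂ (c ≫ g) :=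
    (sq2.flip.paste_vert sq.flip).flip
  have hq : Topology.IsQuotientMap (pullback.fst i₁ c ≫ f').base := h _ _ _ sq3
  rw [Scheme.Hom.comp_base, TopCat.coe_comp] at hq
  exact Topology.IsQuotientMap.of_comp (pullback.fst i₁ c).continuous f'.continuous hq

theorem universallyOpen_of_dominant {X U : Scheme.{u}} [IrreducibleSpace ↥X] [IrreducibleSpace ↥U]
    (hX : ∀ x : X, CAlg2.IsGeomUnibranch (X.presheaf.stalk x)) (p : U ⟶ X)
    [LocallyOfFiniteType p] [LocallyQuasiFinite p] [IsDominant p] : UniversallyOpen p :=
  Groth.Agent.Lib.Helper6.Uni.universallyOpen_of_forall_isUnivOpenAt p (fun u =>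
    Groth.Agent.R2.H19.ChevalleyNN.isUnivOpenAt_of_quasiFinite_of_isGeomUnibranch' p u (hX _))


open CategoryTheory CategoryTheory.Limits AlgebraicGeometry in
/-- Let X be a separated irreducible Noetherian scheme whose local rings are all geometrically
unibranch, and {p_i : U_i → X} a finite family of separated quasi-finite morphisms of finite type
with every U_i irreducible. Then the induced morphism from the disjoint union of the U_i to X is
universally submersive (a qfh-covering) if and only if the dominant members p_i are jointly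
surjective onto X; in that case the induced morphism from the disjoint union of the dominant members
alone is already universally submersive. (The published statement does not require the U_i
irreducible; for the affine line X over a field and the single member U = (X minus a closed point) ⊔
(that point) → X, which is dominant and surjective, the quotient property fails, and the published
proof uses that every irreducible component of a dominant member dominates X, so the members are
taken irreducible here.) -/
theorem result {X : Scheme.{u}} [IsNoetherian X] [X.IsSeparated] [IrreducibleSpace ↥X] (hX : ∀ x : X, CAlg2.IsGeomUnibranch (X.presheaf.stalk x)) (E : PreZeroHypercover.{u} X) [Finite E.I₀] [∀ i, LocallyOfFiniteType (E.f i)] [∀ i, QuasiCompact (E.f i)] [∀ i, LocallyQuasiFinite (E.f i)] [∀ i, IsSeparated (E.f i)] [∀ i, IrreducibleSpace ↥(E.X i)] : (SGA1.UnivSubmersive (Sigma.desc E.f) ↔ ∀ x : X, ∃ (i : E.I₀) (u : E.X i), IsDominant (E.f i) ∧ E.f i u = x) ∧ ((∀ x : X, ∃ (i : E.I₀) (u : E.X i), IsDominant (E.f i) ∧ E.f i u = x) → SGA1.UnivSubmersive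 (Sigma.desc fun j : {i : E.I₀ // IsDominant (E.f i)} => E.f j.1)) := by
  classical
  have key : (∀ x : X, ∃ (i : E.I₀) (u : E.X i), IsDominant (E.f i) ∧ E.f i u = x) →
      SGA1.UnivSubmersive (Sigma.desc fun j : {i : E.I₀ // IsDominant (E.f i)} => E.f j.1) := by
    intro h
    haveI : ∀ j : {i : E.I₀ // IsDominant (E.f i)}, UniversallyOpen (E.f j.1) := fun j => by
      haveI := j.2
      exact universallyOpen_of_dominant hX (E.f j.1)
    haveI : UniversallyOpen (Sigma.desc fun j : {i : E.I₀ // IsDominant (E.f i)} => E.f j.1) :=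
      IsZariskiLocalAtSource.sigmaDesc (fun _ ↦ inferInstance)
    haveI : Surjective (Sigma.desc fun j : {i : E.I₀ // IsDominant (E.f i)} => E.f j.1) := by
      refine ⟨fun x => ?_⟩
      obtain ⟨i, v, hi, hv⟩ := h x
      refine ⟨Sigma.ι (fun j : {i : E.I₀ // IsDominant (E.f i)} => E.X j.1) ⟨i, hi⟩ v, ?_⟩
      rw [← Scheme.Hom.comp_apply, Sigma.ι_desc]
      exact hv
    exact univSubmersive_of_universallyOpen_surjective _
  refine ⟨⟨fun hE x => ?_, fun h => ?_⟩, key⟩
  · obtain ⟨i, ξ, v, hξv, hv, hcomp⟩ := Groth.Agent.S13731.result E hE x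
    refine ⟨i, v, ?_, hv⟩
    rw [irreducibleComponents_eq_singleton, Set.mem_singleton_iff] at hcomp
    refine ⟨fun z => ?_⟩
    have : z ∈ closure ({E.f i ξ} : Set ↥X) := by rw [hcomp]; exact Set.mem_univ z
    exact closure_mono (Set.singleton_subset_iff.mpr (Set.mem_range_self ξ)) this
  · have h1 := key h
    let c : (∐ fun j : {i : E.I₀ // IsDominant (E.f i)} => E.X j.1) ⟶ ∐ E.X :=
      Sigma.desc (fun j => Sigma.ι E.X j.1)
    have hc : c ≫ Sigma.desc E.f =
        Sigma.desc fun j : {i : E.I₀ // IsDominant (E.f i)} => E.f j.1 := by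
      apply Sigma.hom_ext
      intro j
      rw [Sigma.ι_desc_assoc, Sigma.ι_desc, Sigma.ι_desc]
    rw [← hc] at h1
    exact univSubmersive_of_comp c _ h1

end Groth.Agent.S13736
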