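import Groth.Statements.S13739
import Groth.Agent.R2.H62FinSigma

set_option autoImplicit false
set_option linter.style.haveILetI false
universe u
open SGA1

namespace Groth.Agent.S13739

open CategoryTheory CategoryTheory.Limits AlgebraicGeometry in
/-- Let S be a separated Noetherian scheme, q : X → S finite surjective with X separated, G a finite
group acting on X by S-automorphisms and transitively on the geometric points of X over every
geometric point of S, and r : Y → X a morphism with Y separated. If υ is the morphism from the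
disjoint union of G copies of Y to Y ×_S X (Y over S through r ≫ q) whose σ-th component is (id_Y, r
≫ σ), then υ is finite and surjective. -/
theorem result {X S Y : Scheme.{u}} [IsNoetherian S] [S.IsSeparated] [X.IsSeparated] [Y.IsSeparated] (q : X ⟶ S) [IsFinite q] [Surjective q] {G : Type u} [Group G] [Finite G] (ρ : G →* Aut X) (hρ : ∀ g : G, (ρ g).hom ≫ q = q) (htrans : ∀ (Ω : Type u) [Field Ω] [IsAlgClosed Ω] (τ₁ τ₂ : Spec (CommRingCat.of Ω) ⟶ X), τ₁ ≫ q = τ₂ ≫ q → ∃ g : G, τ₁ ≫ (ρ g).hom = τ₂) (r : Y ⟶ X) (υ : (∐ fun _ : G => Y) ⟶ pullback (r ≫ q) q) (hυ₁ : ∀ σ : G, Sigma.ι (fun _ : G => Y) σ ≫ υ ≫ pullback.fst (r ≫ q) q = 𝟙 Y) (hυ₂ : ∀ σ : G, Sigma.ι (fun _ : G => Y) σ ≫ υ ≫ pullback.snd (r ≫ q) q = r ≫ (ρ σ).hom) : IsFinite υ ∧ Surjective υ := by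
  classical
  let c : G → (Y ⟶ pullback (r ≫ q) q) := fun σ => Sigma.ι (fun _ : G => Y) σ ≫ υ
  have hυ : υ = Sigma.desc c := by
    apply Sigma.hom_ext
    intro σ
    rw [Sigma.ι_desc]
  have hc1 : ∀ σ, c σ ≫ pullback.fst (r ≫ q) q = 𝟙 Y := by
    intro σ
    rw [Category.assoc]
    exact hυ₁ σ
  have hc2 : ∀ σ, c σ ≫ pullback.snd (r ≫ q) q = r ≫ (ρ σ).hom := by
    intro σ
    rw [Category.assoc]
    exact hυ₂ σ
  have hc : ∀ σ, IsClosedImmersion (c σ) := by
    intro σ
    haveI : IsClosedImmersion (c σ ≫ pullback.fst (r ≫ q) q) := by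
      rw [hc1 σ]
      infer_instance
    exact IsClosedImmersion.of_comp (c σ) (pullback.fst (r ≫ q) q)
  constructor
  · rw [hυ]
    haveI : ∀ σ, IsFinite (c σ) := fun σ => by
      haveI := hc σ
      infer_instance
    exact Groth.Agent.R2.H62.FinSigma.isFinite_sigmaDesc _ c
  · constructor
    intro z
    let κ := (pullback (r ≫ q) q).residueField z
    let Ω := AlgebraicClosure κ
    obtain ⟨zΩ, hzΩ⟩ : ∃ zΩ : Spec (CommRingCat.of Ω) ⟶ pullback (r ≫ q) q, ∀ pt, zΩ pt = z := by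
      refine ⟨Spec.map (CommRingCat.ofHom (algebraMap κ Ω)) ≫
        (pullback (r ≫ q) q).fromSpecResidueField z, fun pt => ?_⟩
      rw [Scheme.Hom.comp_apply, Scheme.fromSpecResidueField_apply]
    obtain ⟨g, hg⟩ := htrans Ω (zΩ ≫ pullback.fst (r ≫ q) q ≫ r) (zΩ ≫ pullback.snd (r ≫ q) q) (by
      simp only [Category.assoc]
      rw [pullback.condition])
    have hz : zΩ = (zΩ ≫ pullback.fst (r ≫ q) q) ≫ c g := by
      apply pullback.hom_ext
      · rw [Category.assoc, hc1, Category.comp_id]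
      · rw [Category.assoc, hc2, ← hg]
        simp only [Category.assoc]
    let pt : Spec (CommRingCat.of Ω) := ⟨⊥, Ideal.isPrime_bot⟩
    refine ⟨Sigma.ι (fun _ : G => Y) g ((zΩ ≫ pullback.fst (r ≫ q) q) pt), ?_⟩
    have h1 : υ (Sigma.ι (fun _ : G => Y) g ((zΩ ≫ pullback.fst (r ≫ q) q) pt)) =
        ((zΩ ≫ pullback.fst (r ≫ q) q) ≫ c g) pt := by
      rw [Scheme.Hom.comp_apply ((zΩ ≫ pullback.fst (r ≫ q) q)) (c g)]
      exact (Scheme.Hom.comp_apply _ _ _).symm
    rw [h1, ← hz]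
    exact hzΩ pt

end Groth.Agent.S13739
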