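import Groth.Statements.S1374
import Groth.Agent.R2.H19SpecDense
import Groth.Agent.Lib.Helper6EquiSubF

set_option autoImplicit false
universe u
open FlatMor

namespace Groth.Agent.S1374

open AlgebraicGeometry CategoryTheory Limits Topology
open Groth.Agent.Lib.Helper4.DimFormula

/-- the inductive core: closed points of the fibre between `x` and `x'` in any neighbourhood. -/
theorem exists_closed_between {X S : Scheme.{u}} (f : X ⟶ S) [LocallyOfFiniteType f] (x' : X)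
    (hcl : ptTrdeg f x' = 0) (N : ℕ) :
    ∀ x : X, ptTrdeg f x = N → x ⤳ x' → f.base x ≠ f.base x' → ∀ G : Set X, IsOpen G → x ∈ G →
      ∃ x₁ : X, x₁ ∈ G ∧ f.base x₁ = f.base x ∧
        (∀ y : X, f.base y = f.base x → x₁ ⤳ y → y = x₁) ∧ x ⤳ x₁ ∧ x₁ ⤳ x' := by
  induction N using Nat.strong_induction_on with
  | _ N ih =>
    intro x hN hsp hne G hGo hG
    rcases Nat.eq_zero_or_pos N with h0 | hpos
    · refine ⟨x, hG, rfl, ?_, specializes_rfl, hsp⟩
      intro y hy hxy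
      by_contra hyx
      have := Groth.Agent.Lib.Helper6.EquiSub.ptTrdeg_lt_of_specializes f x y hy.symm hxy
        (fun h => hyx h.symm)
      omega
    · obtain ⟨x₂, hx₂G, hx₂f, hxx₂, hx₂x', hx₂ne⟩ :=
        Groth.Agent.R2.H19.SpecDense.exists_intermediate f x x' hsp hne hcl (by omega) G hGo hG
      have hlt := Groth.Agent.Lib.Helper6.EquiSub.ptTrdeg_lt_of_specializes f x x₂ hx₂f.symm hxx₂
        (fun h => hx₂ne h.symm)
      obtain ⟨x₁, hx₁G, hx₁f, hx₁cl, hx₂x₁, hx₁x'⟩ := ih (ptTrdeg f x₂) (by omega) x₂ rfl hx₂x'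
        (by rw [hx₂f]; exact hne) G hGo hx₂G
      refine ⟨x₁, hx₁G, hx₁f.trans hx₂f, ?_, hxx₂.trans hx₂x₁, hx₁x'⟩
      intro y hy hx₁y
      exact hx₁cl y (hy.trans hx₂f.symm) hx₁y


open AlgebraicGeometry CategoryTheory Limits in
/-- Let f : X ⟶ S be locally of finite type and x ⤳ x' a specialization of points of X, with x' a closed
point of its fibre f⁻¹(f(x')) and f(x) ≠ f(x'). Then the points x₁ with f(x₁) = f(x) which are
closed in the fibre f⁻¹(f(x)) and satisfy x ⤳ x₁ ⤳ x' are dense in the closure of {x} intersected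
with the fibre f⁻¹(f(x)) (fibres taken as subspaces of X). (The published statement omits the
condition f(x) ≠ f(x'), but the claim fails without it; it is stated here with that condition.) -/
theorem result {X S : Scheme.{u}} (f : X ⟶ S) [LocallyOfFiniteType f] (x x' : X) (hsp : x ⤳ x') (hne : f x ≠ f x')
    (hcl : IsClosed (Subtype.val ⁻¹' {x'} : Set ↑(f ⁻¹' {f x'}))) :
    Dense (Subtype.val ⁻¹' {x₁ : ↑X | f x₁ = f x ∧ IsClosed (Subtype.val ⁻¹' {x₁} : Set ↑(f ⁻¹' {f x})) ∧ x ⤳ x₁ ∧ x₁ ⤳ x'} :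
      Set ↑(closure {x} ∩ f ⁻¹' {f x})) := by
  classical
  have hcl0 : ptTrdeg f x' = 0 := by
    apply Groth.Agent.Lib.Helper6.EquiSub.ptTrdeg_eq_zero_of_closed f x'
    intro y hy hx'y
    have h1 : (⟨x', rfl⟩ : ↑(f ⁻¹' {f x'})) ⤳ ⟨y, hy⟩ := by
      rw [← IsInducing.subtypeVal.specializes_iff]
      exact hx'y
    have h2 := h1.mem_closed hcl (show (⟨x', rfl⟩ : ↑(f ⁻¹' {f x'})) ∈ Subtype.val ⁻¹' {x'} from rfl)
    exact h2
  rw [dense_iff_inter_open]
  intro U hUo hUne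
  obtain ⟨G, hGo, rfl⟩ := isOpen_induced_iff.mp hUo
  obtain ⟨t, ht⟩ := hUne
  have hxt : x ⤳ t.1 := specializes_iff_mem_closure.mpr t.2.1
  have hxG : x ∈ G := hxt.mem_open hGo ht
  obtain ⟨x₁, hx₁G, hx₁f, hx₁cl, hxx₁, hx₁x'⟩ :=
    exists_closed_between f x' hcl0 (ptTrdeg f x) x rfl hsp hne G hGo hxG
  refine ⟨⟨x₁, hxx₁.mem_closure, hx₁f⟩, hx₁G, hx₁f, ?_, hxx₁, hx₁x'⟩
  apply isClosed_of_closure_subset
  intro w hw
  have h1 : (Subtype.val ⁻¹' {x₁} : Set ↑(f ⁻¹' {f x})) = {⟨x₁, hx₁f⟩} := by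
    ext v
    simp only [Set.mem_preimage, Set.mem_singleton_iff]
    exact ⟨fun h => Subtype.ext h, fun h => by rw [h]⟩
  rw [h1] at hw ⊢
  have h2 : (⟨x₁, hx₁f⟩ : ↑(f ⁻¹' {f x})) ⤳ w := specializes_iff_mem_closure.mpr hw
  rw [← IsInducing.subtypeVal.specializes_iff] at h2
  have h3 := hx₁cl w.1 w.2 h2
  exact Subtype.ext h3

end Groth.Agent.S1374
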