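import Groth.Statements.S1379
import Groth.Agent.S1375
import Groth.Agent.S1353

set_option autoImplicit false
universe u
open FlatMor

namespace Groth.Agent.S1379

open AlgebraicGeometry CategoryTheory Limits in
/-- Let S₁ → S be flat, locally of finite presentation and surjective (an fppf cover by one morphism).
Then for every point s of S there are an étale morphism S' → S whose image contains s and a
surjective, finite, flat morphism of finite presentation V → S' such that V → S factors through S₁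
Zariski locally on V. -/
theorem result {S₁ S : Scheme.{u}} (g : S₁ ⟶ S) [Flat g] [LocallyOfFinitePresentation g] [Surjective g] (s : S) :
    ∃ (S' V : Scheme.{u}) (e : S' ⟶ S) (π : V ⟶ S'), Etale e ∧ s ∈ Set.range ⇑e ∧ Surjective π ∧ IsFinite π ∧ Flat π ∧ LocallyOfFinitePresentation π ∧
      ∀ v : ↑V, ∃ (W : V.Opens) (r : ↑W ⟶ S₁), v ∈ W ∧ r ≫ g = W.ι ≫ π ≫ e := by
  -- a flat, l.f.p., locally quasi-finite slice through a point over `s`
  obtain ⟨Z, j, hfl, hfp, hqf, z, hz⟩ :=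
    Groth.Agent.S1375.exists_slice_at g s (g.surjective s)
  have hlft : LocallyOfFiniteType (j ≫ g) := inferInstance
  -- étale localisation of the quasi-finite morphism at `z`
  obtain ⟨U, g', u, hnb, Vo, v, hvV, hfin, hvu, -, -, -⟩ :=
    Groth.Agent.S1353.result (j ≫ g) z ((j ≫ g).quasiFiniteAt z)
  have hetale : Etale g' := hnb.etale
  -- the finite part, flat and l.f.p. over `U`
  let φ : (Vo : Scheme.{u}) ⟶ U := Vo.ι ≫ pullback.snd (j ≫ g) g'
  have hφfin : IsFinite φ := hfin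
  have hφfl : Flat φ := inferInstance
  have hφfp : LocallyOfFinitePresentation φ := inferInstance
  -- its open image
  let U' : U.Opens := ⟨Set.range ⇑φ, φ.isOpenMap.isOpen_range⟩
  have hpre : φ ⁻¹ᵁ U' = ⊤ := by
    ext w
    simp only [TopologicalSpace.Opens.coe_top, Set.mem_univ, iff_true]
    exact ⟨w, rfl⟩
  have huU' : u ∈ U' := ⟨⟨v, hvV⟩, hvu⟩
  refine ⟨U', ↑(φ ⁻¹ᵁ U'), U'.ι ≫ g', φ ∣_ U', inferInstance, ?_, ?_, inferInstance, inferInstance,
    inferInstance, ?_⟩
  · refine ⟨⟨u, huU'⟩, ?_⟩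
    rw [Scheme.Hom.comp_apply]
    show g' u = s
    rw [hnb.base_eq, hz]
  · refine ⟨fun y => ?_⟩
    obtain ⟨w, hw⟩ := y.2
    have hwmem : w ∈ φ ⁻¹ᵁ U' := by rw [hpre]; trivial
    refine ⟨⟨w, hwmem⟩, ?_⟩
    apply U'.ι.isOpenEmbedding.injective
    rw [← Scheme.Hom.comp_apply, morphismRestrict_ι, Scheme.Hom.comp_apply]
    exact hw
  · intro y
    refine ⟨⊤, (⊤ : (↑(φ ⁻¹ᵁ U') : Scheme.{u}).Opens).ι ≫ (φ ⁻¹ᵁ U').ι ≫ Vo.ι ≫
      pullback.fst (j ≫ g) g' ≫ j, trivial, ?_⟩
    simp only [Category.assoc]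
    congr 1
    rw [← Category.assoc (φ ∣_ U'), morphismRestrict_ι, Category.assoc]
    congr 1
    show Vo.ι ≫ pullback.fst (j ≫ g) g' ≫ j ≫ g = (Vo.ι ≫ pullback.snd (j ≫ g) g') ≫ g'
    rw [Category.assoc, ← pullback.condition]

end Groth.Agent.S1379
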