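import Groth.Statements.S13839
import Groth.Agent.R2.H32SymField
import Groth.Agent.R2.H32SNCrit
import Groth.Agent.Lib.Helper20EtaPtSN

set_option autoImplicit false
universe u
open AlgebraicGeometry
open scoped TensorProduct
open ChowMon

namespace Groth.Agent.S13839

/-- Let C be a Noetherian seminormal A-algebra, g : C → C' an A-algebra map with C' reduced such that
Spec C' → Spec C is a finite universal homeomorphism, and d ≥ 1 an integer divisible by every
residue degree [k(q) : k(g⁻¹q)]; let B be a flat A-algebra and φ : B → C' an A-algebra map. Then for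
every symmetric tensor x ∈ TS^d_A(B) the element φ(m_d(x)) of C', m_d : B^{⊗d} → B the
multiplication, lies in the image of C. (The published statement does not assume C' reduced and is
false without it: take A = C = k a field, C' = k[ε]/(ε²), d = 1, B = k[t] and φ(t) = ε; then ε is
not in k.) -/
theorem result (A C C' B : Type u) [CommRing A] [CommRing C] [CommRing C'] [CommRing B]
    [Algebra A C] [Algebra A C'] [Algebra A B] [IsNoetherianRing C] (hC : HTop.IsSeminormalRing C)
    (g : C →ₐ[A] C') [IsReduced C'] (hfin : g.toRingHom.Finite)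
    (hg : FlatMor.IsUnivHomeo (Spec.map (CommRingCat.ofHom g.toRingHom)))
    (d : ℕ) (hd : 0 < d)
    (hdeg : ∀ q : PrimeSpectrum C',
      @Module.finrank (PrimeSpectrum.comap g.toRingHom q).asIdeal.ResidueField q.asIdeal.ResidueField _ _
          (Ideal.ResidueField.map (PrimeSpectrum.comap g.toRingHom q).asIdeal q.asIdeal g.toRingHom
            rfl).toAlgebra.toModule ∣ d)
    [Module.Flat A B] (φ : B →ₐ[A] C') (x : ⨂[A] _ : Fin d, B) (hx : x ∈ SymTen.TS A B d) :
    φ (PiTensorProduct.lift (MultilinearMap.mkPiAlgebra A (Fin d) B) x) ∈ g.range := by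
  classical
  set χ : C →+* C' := g.toRingHom with hχdef
  have hχ : Groth.Agent.Lib.Helper20.AWN.UH χ :=
    (Groth.Agent.Lib.Helper20.AWN.isUnivHomeo_iff_UH χ).mp hg
  set c' : C' := φ (PiTensorProduct.lift (MultilinearMap.mkPiAlgebra A (Fin d) B) x) with hc'
  suffices h : c' ∈ Set.range χ by
    obtain ⟨c, hc⟩ := h
    exact ⟨c, hc⟩
  refine Groth.Agent.R2.H32.SNCrit.mem_range_of_residue χ hχ hC c' ?_
  intro q
  -- residue fields
  let P := PrimeSpectrum.comap χ q
  let K := P.asIdeal.ResidueField
  let L := q.asIdeal.ResidueField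
  let m : K →+* L := Ideal.ResidueField.map P.asIdeal q.asIdeal χ rfl
  let _ : Algebra K L := m.toAlgebra
  have hpi : IsPurelyInseparable K L :=
    Groth.Agent.Lib.Helper20.EtaPt.isPurelyInseparable_residueField_map_of_isUnivHomeo χ hg q
  have hdegq : Module.finrank K L ∣ d := hdeg q
  have hAL : ∀ a : A, algebraMap A L a = algebraMap C' L (algebraMap A C' a) := fun a =>
    (IsScalarTower.algebraMap_apply A C' L a)
  have hAK : ∀ a : A, algebraMap A K a = algebraMap C K (algebraMap A C a) := fun a =>
    (IsScalarTower.algebraMap_apply A C K a)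
  have : IsScalarTower A K L := IsScalarTower.of_algebraMap_eq (fun a => by
    rw [hAL, hAK]
    show algebraMap C' L (algebraMap A C' a) = m (algebraMap C K (algebraMap A C a))
    rw [Ideal.ResidueField.map_algebraMap]
    congr 1
    exact (g.commutes a).symm)
  let ψ : B →ₐ[A] L :=
    { toRingHom := (algebraMap C' L).comp φ.toRingHom
      commutes' := fun a => by
        show algebraMap C' L (φ (algebraMap A B a)) = algebraMap A L a
        rw [φ.commutes, hAL] }
  let z := SymTen.tmap A d ψ x
  have hz : ∀ σ : Equiv.Perm (Fin d),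
      PiTensorProduct.reindex A (fun _ : Fin d => L) σ z = z := by
    intro σ
    show PiTensorProduct.reindex A (fun _ : Fin d => L) σ (SymTen.tmap A d ψ x) = _
    rw [← SymTen.tmap_reindex, hx σ]
  have hlift : ∀ t : ⨂[A] _ : Fin d, B,
      PiTensorProduct.lift (MultilinearMap.mkPiAlgebra A (Fin d) L) (SymTen.tmap A d ψ t) =
        ψ (PiTensorProduct.lift (MultilinearMap.mkPiAlgebra A (Fin d) B) t) := by
    intro t
    induction t using PiTensorProduct.induction_on with
    | smul_tprod r f =>
      rw [map_smul, map_smul, map_smul, map_smul, SymTen.tmap_tprod, PiTensorProduct.lift.tprod,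
        PiTensorProduct.lift.tprod, MultilinearMap.mkPiAlgebra_apply,
        MultilinearMap.mkPiAlgebra_apply, map_prod]
    | add a b ha hb => rw [map_add, map_add, ha, hb, map_add, map_add]
  obtain ⟨e, he⟩ := Groth.Agent.R2.H32.SymField.lift_mem_range_of_symmetric (A := A) (K := K)
    (L := L) d hd hdegq z hz
  have he' : m e = algebraMap C' L c' := by
    rw [← RingHom.algebraMap_toAlgebra m, he]
    exact hlift x
  obtain ⟨a, b, hb, rfl⟩ := Groth.Agent.R2.H32.SNCrit.exists_div_eq P.asIdeal e
  refine ⟨a, b, hb, ?_⟩
  have hb' : algebraMap C' L (χ b) ≠ 0 := by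
    rw [Ne, Ideal.algebraMap_residueField_eq_zero]
    exact hb
  rw [map_div₀, Ideal.ResidueField.map_algebraMap, Ideal.ResidueField.map_algebraMap,
    div_eq_iff hb'] at he'
  rw [← Ideal.algebraMap_residueField_eq_zero, map_sub, map_mul, ← he', sub_self]

end Groth.Agent.S13839
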