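import Groth.Statements.S13897
import Groth.Agent.R2.H43DvrClosed
import Groth.Agent.R2.H95ValGlue
import Groth.Agent.Lib.Helper4DVRSch
import Groth.Agent.Lib.Helper12QcPoint
import Groth.Agent.Lib.Helper12Proper
import Groth.Agent.S9951
import Groth.Agent.S10288

set_option autoImplicit false
universe u
open CategoryTheory CategoryTheory.Limits AlgebraicGeometry
open AlgSp

set_option linter.style.haveILetI false

namespace Groth.Agent.S13897

variable {S : Scheme.{u}}

open IsLocalRing

/-- a specialization in a locally Noetherian scheme is realised by a discrete valuation ring of a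
given residue field, when the residue field extension is essentially of finite type. -/
lemma exists_dvr_square {P U : Scheme.{u}} [IsLocallyNoetherian U] (hh : P ⟶ U) (ρ : P) (z : U)
    (h : hh ρ ⤳ z) (hne : hh ρ ≠ z) (hfin : (hh.residueFieldMap ρ).hom.EssFiniteType) :
    ∃ (R : ValuationSubring (P.residueField ρ)) (_ : IsDiscreteValuationRing R)
      (i₂ : Spec (.of R) ⟶ U),
      P.fromSpecResidueField ρ ≫ hh =
        Spec.map (CommRingCat.ofHom (algebraMap R (P.residueField ρ))) ≫ i₂ ∧
      i₂ (closedPoint R) = z := by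
  obtain ⟨V, hV, g, hg1, hg2⟩ :=
    Groth.Agent.Lib.Helper4.DVRSch.exists_dvr_hom h hne (hh.residueFieldMap ρ) hfin
  refine ⟨V, hV, g, ?_, hg2⟩
  rw [← Scheme.Hom.SpecMap_residueFieldMap_fromSpecResidueField]
  exact hg1.symm

/-- the existence part of the valuative criterion over a discrete valuation ring, with a finite
separable extension and a discrete valuation ring, from closedness of the base change and a
quasi-compact representative of the image of the `K`-point. -/
theorem exists_dvr_ext_of_isClosedMap {F G : AlgSp.Sp S} (f : F ⟶ G) (sq : AlgSp.ValSq f)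
    (hd : IsDiscreteValuationRing sq.A)
    (Z : AlgSp.Sp S) (fst : Z ⟶ F)
    (π : Z ⟶ (AlgSp.yon S).obj sq.ptA) (hpb : IsPullback fst π f sq.bot)
    (hcl : IsClosedMap (AlgSp.Points.map π))
    (σ : (AlgSp.yon S).obj sq.ptK ⟶ Z) (hσ1 : σ ≫ fst = sq.top)
    (hσ2 : σ ≫ π = (AlgSp.yon S).map sq.j)
    (hdec : ∃ q : AlgSp.FieldPt Z, AlgSp.Points.mk q =
        AlgSp.Points.ofPt σ (closedPoint sq.K : ↥sq.ptK.left) ∧
      AlgSp.RepWith @QuasiCompact q.toHom)
    (U : Over S) (a : (AlgSp.yon S).obj U ⟶ Z) (hae : AlgSp.RepWith @Etale a)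
    (has : AlgSp.RepWith @Surjective a) (hUN : IsLocallyNoetherian U.left) :
    ∃ e : sq.DomExt, IsDiscreteValuationRing e.A' ∧
      (letI := e.ψ.toAlgebra; Module.Finite sq.K e.K' ∧ Algebra.IsSeparable sq.K e.K') ∧
        e.HasLift := by
  haveI := hUN
  let t₀ : ↥sq.ptK.left := closedPoint sq.K
  obtain ⟨x, hx⟩ : ∃ x : AlgSp.Points Z, x = AlgSp.Points.ofPt σ t₀ := ⟨_, rfl⟩
  -- a specialization of `x` over the closed point
  obtain ⟨x', hx'cl, hx's⟩ : ∃ x' ∈ closure ({x} : Set (AlgSp.Points Z)),
      AlgSp.Points.map π x' = AlgSp.Points.schemeHomeo sq.ptA (closedPoint sq.A) := by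
    have hC : IsClosed (AlgSp.Points.map π '' closure ({x} : Set (AlgSp.Points Z))) :=
      hcl _ isClosed_closure
    have hC' := hC.preimage (AlgSp.Points.schemeHomeo sq.ptA).continuous
    obtain ⟨s, hs⟩ := (AlgSp.Points.schemeHomeo sq.ptA).surjective (AlgSp.Points.map π x)
    have hsmem : s ∈ (AlgSp.Points.schemeHomeo sq.ptA) ⁻¹'
        (AlgSp.Points.map π '' closure ({x} : Set (AlgSp.Points Z))) := by
      rw [Set.mem_preimage, hs]
      exact ⟨x, subset_closure rfl, rfl⟩
    have hsp : s ⤳ closedPoint sq.A := IsLocalRing.specializes_closedPoint (R := sq.A) s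
    have := hsp.mem_closed hC' hsmem
    obtain ⟨x', hx', hx'2⟩ := this
    exact ⟨x', hx', hx'2⟩
  have hspec : x ⤳ x' := specializes_iff_mem_closure.2 hx'cl
  -- charts
  obtain ⟨u', hu'⟩ := Groth.Agent.S10177.surjective_ofPt a has x'
  obtain ⟨q, hq1, hq2⟩ := hdec
  rw [← hx] at hq1
  obtain ⟨u, huu', hu⟩ := Groth.Agent.Lib.Helper12.QcPoint.exists_generization x' x hspec q hq1 hq2
    a hae u' hu'
  -- the chart as a scheme over `Spec A`
  obtain ⟨g₀, hg₀⟩ := (AlgSp.yon S).map_surjective (a ≫ π)
  have hg₀u' : g₀.left u' = closedPoint sq.A := by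
    apply (AlgSp.Points.schemeHomeo sq.ptA).injective
    rw [← hx's, ← hu', AlgSp.Points.map_ofPt, ← hg₀, Groth.Agent.S10288.ofPt_yon_map]
  -- the fibre product of the chart with the `K`-point
  obtain ⟨P, pr₂, pr₁', sqP⟩ := hae.1 σ
  haveI : Etale pr₂.left := hae.2 σ pr₁' pr₂ sqP
  obtain ⟨pr₁, rfl⟩ := (AlgSp.yon S).map_surjective pr₁'
  obtain ⟨ρ, hρ1, hρ2⟩ := Groth.Agent.S10176.exists_point_of_isPullback_yon sqP u t₀
    (by rw [hu, hx])
  have hcompat : pr₁ ≫ g₀ = pr₂ ≫ sq.j := by
    apply (AlgSp.yon S).map_injective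
    rw [Functor.map_comp, Functor.map_comp, hg₀, ← hσ2, ← Category.assoc, ← Category.assoc, sqP.w]
  have hcompat' : pr₁.left ≫ g₀.left = pr₂.left ≫ sq.j.left := congrArg CommaMorphism.left hcompat
  -- the residue field at `ρ` is finite separable over `K`
  obtain ⟨ψ₁, hψ₁, hfs⟩ :=
    Groth.Agent.R2.H95.ValGlue.exists_residueField_finite_separable (K := sq.K) pr₂.left ρ
  -- the residue field extension along `pr₁` is essentially of finite type
  have hsp' : pr₁.left ρ ⤳ u' := by rw [hρ1]; exact huu'
  have hgen : g₀.left (pr₁.left ρ) =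
      (Spec.map (CommRingCat.ofHom (algebraMap sq.A sq.K))) (pr₂.left ρ) := by
    have h0 : (pr₁.left ≫ g₀.left) ρ = (pr₂.left ≫ sq.j.left) ρ := by rw [hcompat']
    rw [Scheme.Hom.comp_apply, Scheme.Hom.comp_apply] at h0
    exact h0
  have hne : pr₁.left ρ ≠ u' := by
    intro he
    have h1 : g₀.left (pr₁.left ρ) = closedPoint sq.A := by rw [he, hg₀u']
    rw [hgen] at h1
    have h2 : Ideal.comap (algebraMap sq.A sq.K) (pr₂.left ρ).asIdeal =
        IsLocalRing.maximalIdeal sq.A := congrArg PrimeSpectrum.asIdeal h1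
    have hbot : (pr₂.left ρ).asIdeal = ⊥ :=
      ((Ideal.eq_bot_or_top _).resolve_right (pr₂.left ρ).isPrime.ne_top)
    rw [hbot, ← RingHom.ker_eq_comap_bot,
      (RingHom.injective_iff_ker_eq_bot _).1 (IsFractionRing.injective sq.A sq.K)] at h2
    exact IsDiscreteValuationRing.not_a_field sq.A h2.symm
  obtain ⟨χ, hχ⟩ := Spec.map_surjective (U.left.fromSpecResidueField (pr₁.left ρ) ≫ g₀.left)
  have hχψ : χ ≫ pr₁.left.residueFieldMap ρ =
      CommRingCat.ofHom (algebraMap sq.A sq.K) ≫ CommRingCat.ofHom ψ₁ := by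
    apply Spec.map_injective
    rw [Spec.map_comp, Spec.map_comp, hχ, hψ₁, ← Category.assoc,
      Scheme.Hom.SpecMap_residueFieldMap_fromSpecResidueField, Category.assoc, Category.assoc,
      hcompat']
    rfl
  have hχinj : Function.Injective χ.hom := by
    have h1 : Function.Injective ((pr₁.left.residueFieldMap ρ).hom.comp χ.hom) := by
      have h2 : (pr₁.left.residueFieldMap ρ).hom.comp χ.hom =
          ψ₁.comp (algebraMap sq.A sq.K) := congrArg CommRingCat.Hom.hom hχψ
      rw [h2]
      exact ψ₁.injective.comp (IsFractionRing.injective sq.A sq.K)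
    exact Function.Injective.of_comp h1
  let θ : sq.K →+* U.left.residueField (pr₁.left ρ) := IsFractionRing.lift hχinj
  have hθ : (pr₁.left.residueFieldMap ρ).hom.comp θ = ψ₁ := by
    apply IsLocalization.ringHom_ext (nonZeroDivisors sq.A)
    ext r
    have h2 := congrArg (fun k => k.hom r) hχψ
    simp only [RingHom.comp_apply, θ, IsFractionRing.lift_algebraMap]
    exact h2
  have hfin : (pr₁.left.residueFieldMap ρ).hom.EssFiniteType := by
    refine RingHom.EssFiniteType.of_comp θ ?_
    rw [hθ]
    letI := ψ₁.toAlgebra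
    haveI := hfs.1
    have hfin' : (algebraMap sq.K (P.left.residueField ρ)).Finite :=
      RingHom.finite_algebraMap.2 hfs.1
    rw [RingHom.algebraMap_toAlgebra] at hfin'
    exact RingHom.FiniteType.essFiniteType (RingHom.Finite.finiteType hfin')
  -- the discrete valuation ring
  obtain ⟨R, hR, i₂, hw, hi₂⟩ := exists_dvr_square pr₁.left ρ u' hsp' hne hfin
  -- ring maps
  obtain ⟨φc, hφc⟩ := Spec.map_surjective (i₂ ≫ g₀.left)
  have hψc : Spec.map (CommRingCat.ofHom ψ₁) = P.left.fromSpecResidueField ρ ≫ pr₂.left := hψ₁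
  have hcomm : (algebraMap R (P.left.residueField ρ)).comp φc.hom =
      ψ₁.comp (algebraMap sq.A sq.K) := by
    have h1 : Spec.map (CommRingCat.ofHom (algebraMap R (P.left.residueField ρ))) ≫ Spec.map φc =
        Spec.map (CommRingCat.ofHom ψ₁) ≫
          Spec.map (CommRingCat.ofHom (algebraMap sq.A sq.K)) := by
      rw [hφc, hψc, ← Category.assoc, ← hw, Category.assoc, Category.assoc]
      congr 1
    rw [← Spec.map_comp, ← Spec.map_comp] at h1
    have h2 := Spec.map_injective h1
    have h3 := congrArg CommRingCat.Hom.hom h2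
    exact h3
  have hloc : IsLocalHom φc.hom := by
    refine ((IsLocalRing.local_hom_TFAE φc.hom).out 4 0).mp ?_
    have h1 : (Spec.map φc) (closedPoint R) = closedPoint sq.A := by
      rw [hφc, Scheme.Hom.comp_apply, hi₂, hg₀u']
    have h2 := congrArg PrimeSpectrum.asIdeal h1
    exact h2
  -- the lift
  have hι₂ : i₂ ≫ U.hom = Spec.map (CommRingCat.ofHom φc.hom) ≫ sq.str := by
    have h1 : CommRingCat.ofHom φc.hom = φc := rfl
    rw [h1, hφc, Category.assoc]
    congr 1
    exact (Over.w g₀).symm
  let e' : sq.DomExt :=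
    { A' := R
      K' := P.left.residueField ρ
      φ := φc.hom
      ψ := ψ₁
      comm := hcomm
      isLocalHom := hloc }
  refine ⟨e', hR, hfs, ?_⟩
  let ι₂ : e'.ptA' ⟶ U := Over.homMk i₂ hι₂
  have hκ₀ : P.left.fromSpecResidueField ρ ≫ P.hom = e'.ptK'.hom := by
    change _ = Spec.map (CommRingCat.ofHom (algebraMap R (P.left.residueField ρ))) ≫
      Spec.map (CommRingCat.ofHom φc.hom) ≫ sq.str
    rw [← hι₂, ← Category.assoc, ← hw, Category.assoc]
    congr 1
    exact (Over.w pr₁).symm
  let κ₀ : e'.ptK' ⟶ P := Over.homMk (P.left.fromSpecResidueField ρ) hκ₀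
  refine ⟨(AlgSp.yon S).map ι₂ ≫ a ≫ fst, ?_, ?_⟩
  · have h1 : (Over.homMk (Spec.map (CommRingCat.ofHom (algebraMap e'.A' e'.K'))) rfl :
        e'.ptK' ⟶ e'.ptA') ≫ ι₂ = κ₀ ≫ pr₁ := Over.OverMorphism.ext hw.symm
    have h2 : κ₀ ≫ pr₂ = (Over.homMk (Spec.map (CommRingCat.ofHom e'.ψ)) (by
          change Spec.map _ ≫ Spec.map _ ≫ _ = Spec.map _ ≫ Spec.map _ ≫ _
          rw [← Spec.map_comp_assoc, ← Spec.map_comp_assoc, ← CommRingCat.ofHom_comp,
            ← CommRingCat.ofHom_comp, e'.comm]) : e'.ptK' ⟶ sq.ptK) :=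
      Over.OverMorphism.ext hψc.symm
    rw [← Category.assoc, ← Functor.map_comp, h1, Functor.map_comp, Category.assoc,
      ← Category.assoc ((AlgSp.yon S).map pr₁), sqP.w, Category.assoc, hσ1, ← Category.assoc,
      ← Functor.map_comp, h2]
  · have h1 : ι₂ ≫ g₀ = (Over.homMk (Spec.map (CommRingCat.ofHom e'.φ)) rfl : e'.ptA' ⟶ sq.ptA) :=
      Over.OverMorphism.ext hφc.symm
    rw [Category.assoc, Category.assoc, hpb.w, ← Category.assoc a, ← hg₀, ← Category.assoc,
      ← Functor.map_comp, h1]


/-- Let f : X → Y be a morphism of finite type of algebraic spaces over S with Y locally Noetherian.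
First: if for every valuative test square for f whose valuation ring A is a discrete valuation ring
(a morphism Spec K → X and a morphism Spec A → Y making the square commute) there are a field
extension K' of K, a valuation ring A' ⊂ K' dominating A and a morphism Spec A' → X compatible with
both, then f is universally closed. Second: if f is in addition decent (every base change of X to a
scheme over Y is a decent algebraic space; for instance f quasi-separated, or representable) and
universally closed, then every such square over a discrete valuation ring admits such a lift with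
K'/K finite separable and A' a discrete valuation ring. (The published statement asserts, for f of
finite type only, the equivalence of universal closedness with both lifting conditions and with the
existence part of the valuative criterion; the implication from universal closedness to the lifting
conditions needs f decent — the quotient of the affine line over a field of characteristic zero by
the translation action of the integers is of finite type and universally closed over the field but
its valuative square at the point t = 1/u over the discrete valuation ring of u has no lift after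
any extension — so this row adds decency to that implication.) -/
theorem result (S : Scheme.{u}) {X Y : AlgSp.Space S}
    (f : X ⟶ Y) (hft : AlgSp.IsFiniteTypeMor f.hom) (hY : AlgSp.IsLocNoethSp Y.obj) :
    ((∀ sq : AlgSp.ValSq f.hom, IsDiscreteValuationRing sq.A → sq.HasLiftExt) → AlgSp.IsUnivClosedMor f.hom) ∧
    (AlgSp.IsDecentMor f.hom → AlgSp.IsUnivClosedMor f.hom →
      ∀ sq : AlgSp.ValSq f.hom, IsDiscreteValuationRing sq.A →
        ∃ e : sq.DomExt, IsDiscreteValuationRing e.A' ∧
          (letI := e.ψ.toAlgebra; Module.Finite sq.K e.K' ∧ Algebra.IsSeparable sq.K e.K') ∧ e.HasLift) := by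
  refine ⟨fun hv => Groth.Agent.R2.H43.DvrClosed.isUnivClosedMor_of_dvr f hft hY hv, ?_⟩
  intro hdec huc sq hd
  have hpb := IsPullback.of_hasPullback f.hom sq.bot
  have hZ : AlgSp.IsAlgSpace (pullback f.hom sq.bot) :=
    Groth.Agent.S9874.isAlgSpace_of_isPullback Y.property.diag X.property
      (AlgSp.IsAlgSpace.yon_obj sq.ptA) hpb
  have hcl : IsClosedMap (AlgSp.Points.map (pullback.snd f.hom sq.bot)) :=
    huc (AlgSp.IsAlgSpace.yon_obj sq.ptA) sq.bot _ _ hpb
  let ZS : AlgSp.Space S := ⟨pullback f.hom sq.bot, hZ⟩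
  let AS : AlgSp.Space S := ⟨(AlgSp.yon S).obj sq.ptA, AlgSp.IsAlgSpace.yon_obj _⟩
  let πS : ZS ⟶ AS := ObjectProperty.homMk (pullback.snd f.hom sq.bot)
  have hπlft : AlgSp.LocP @LocallyOfFiniteType πS.hom :=
    Groth.Agent.Lib.Helper12.Proper.locP_lft_baseChange X.property Y.property
      (AlgSp.IsAlgSpace.yon_obj sq.ptA) hpb hft.1
  haveI : IsDiscreteValuationRing sq.A := hd
  have hAN : AlgSp.IsLocNoethSp AS.obj :=
    ⟨sq.ptA, 𝟙 _, AlgSp.repWith_id _ _, AlgSp.repWith_id _ _,
      (inferInstance : IsLocallyNoetherian (Spec (CommRingCat.of sq.A)))⟩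
  obtain ⟨U, a, hae, has, hUN⟩ := Groth.Agent.S9951.result πS hπlft hAN
  have hZdec : AlgSp.IsDecent (pullback f.hom sq.bot) := hdec sq.bot _ _ hpb
  obtain ⟨q, hq1, -, hq2⟩ := hZdec (AlgSp.Points.ofPt
    (hpb.lift sq.top ((AlgSp.yon S).map sq.j) sq.comm) (IsLocalRing.closedPoint sq.K : ↥sq.ptK.left))
  exact exists_dvr_ext_of_isClosedMap f.hom sq hd _ _ _ hpb hcl
    (hpb.lift sq.top ((AlgSp.yon S).map sq.j) sq.comm) (hpb.lift_fst _ _ _) (hpb.lift_snd _ _ _)
    ⟨q, hq1, hq2⟩ U a hae has hUN

end Groth.Agent.S13897
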