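import Groth.Statements.S13906
import Mathlib
import Groth.Agent.R2.H63P1Conn

set_option autoImplicit false
universe u
open P1Fin

namespace Groth.Agent.S13906

open AlgebraicGeometry CategoryTheory in
/-- Let S be a scheme and g : X → P^1_S a finite, flat, locally finitely presented morphism. An open and
closed subset W of X that contains every point of X lying over the zero section of P^1_S → S is all
of X. (In the published corollary W is the locus over which a given equivariant etale morphism T → X
of constant rank is a torsor under a finite group, an open and closed subset of X; that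
open-and-closed locus is taken as the hypothesis here, and the conclusion W = X is the corollary's
content.) -/
theorem result (S X : Scheme.{u})
    (g : X ⟶ CohB1.ProjSpaceOver 1 S) [IsFinite g] [Flat g] [LocallyOfFinitePresentation g]
    (W : Set X) (hW : IsClopen W)
    (h0 : ∀ x : X, g x ∈ Set.range (P1.sect S 0) → x ∈ W) : W = Set.univ := by
  rw [Set.eq_univ_iff_forall]
  intro x
  by_contra hx
  -- the image of the complement is clopen
  have hA : IsClopen (g '' Wᶜ) :=
    ⟨g.isClosedMap _ hW.compl.1, g.isOpenMap _ hW.compl.2⟩
  set s : S := CohB1.ProjSpaceOver.toBase 1 S (g x) with hs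
  have hfib := Groth.Agent.R2.H63.P1Conn.isPreconnected_fiber_toBase 1 S s
  have hsub := hfib.subset_isClopen hA ⟨g x, rfl, x, hx, rfl⟩
  have hsect : P1.sect S 0 s ∈ (CohB1.ProjSpaceOver.toBase 1 S) ⁻¹' {s} := by
    change (CohB1.ProjSpaceOver.toBase 1 S) (P1.sect S 0 s) = s
    rw [← Scheme.Hom.comp_apply, Groth.Agent.Lib.Helper10.WeilPt.sect_toBase]
    rfl
  obtain ⟨y, hy, hgy⟩ := hsub hsect
  exact hy (h0 y ⟨s, hgy.symm⟩)

end Groth.Agent.S13906
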