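import Groth.Statements.S13903
import Mathlib
import Groth.Agent.R2.H63EtAlgPrim

set_option autoImplicit false
universe u
open EtAlg

namespace Groth.Agent.S13903

/-- Let K be a field and L a finite-dimensional reduced commutative K-algebra of dimension d all of
whose elements are separable over K, generated as a K-algebra by z and t. In any finite set of at
least d^(4d) elements of K there is an element c such that c • z + t generates L as a K-algebra.
(The published statement does not require separability; for K of characteristic p and L obtained by
adjoining p-th roots of two independent indeterminates, L is a reduced finite K-algebra generated by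
two elements with no single generator, so separability over K is assumed here, as the counting in
the published proof requires.) -/
theorem result (K L : Type u) [Field K] [CommRing L]
    [Algebra K L] [Module.Finite K L] [IsReduced L] [Algebra.IsSeparable K L] (z t : L)
    (hgen : Algebra.adjoin K ({z, t} : Set L) = ⊤) (S : Finset K)
    (hS : Module.finrank K L ^ (4 * Module.finrank K L) ≤ S.card) :
    ∃ c ∈ S, Algebra.adjoin K ({c • z + t} : Set L) = ⊤ := by
  refine Groth.Agent.R2.H63.EtAlgPrim.exists_mem_adjoin_smul_add_eq_top z t hgen S
    (lt_of_lt_of_le ?_ hS)
  generalize Module.finrank K L = d
  rcases Nat.lt_or_ge d 2 with h | h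
  · interval_cases d <;> simp
  · have h1 : d ^ 2 ≤ d ^ (4 * d) := Nat.pow_le_pow_right (by omega) (by omega)
    have h2 : 0 < d * d := Nat.mul_pos (by omega) (by omega)
    have h3 : d * d - d < d * d := Nat.sub_lt h2 (by omega)
    calc d * d - d < d * d := h3
      _ = d ^ 2 := (sq d).symm
      _ ≤ d ^ (4 * d) := h1

end Groth.Agent.S13903
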