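import Groth.Statements.S13918
import Mathlib
import Groth.Agent.R2.H63RamP1

set_option autoImplicit false
universe u
open W4c1limliniiii

namespace Groth.Agent.S13918

open Polynomial in
/-- Over an algebraically closed field of characteristic p (zero allowed), fix three distinct points of
the affine line, an integer d and ramification indices e_i with 2 ≤ e_i ≤ d, each e_i prime to p,
and ∑ (e_i − 1) = 2d − 2. Then there is at most one separable self-map of the projective line of
degree d, taken up to automorphisms of the target, with ramification index exactly e_i at the i-th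
point — such maps being encoded as base-point-free separable pencils of polynomials of degree at
most d — and there is none precisely when some two-dimensional space of polynomials of degree at
most d with identically vanishing Wronskian contains, for each i, a non-zero member vanishing to
order at least e_i at the i-th point (an inseparable pencil, base points allowed, with at least the
required ramification). (The three points are taken on the affine line, which is no restriction up
to a change of coordinate; the assertion that the solution, when it exists, is a reduced point of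
the parameter scheme is not restated.) -/
theorem result (k : Type u) [Field k] [IsAlgClosed k]
    (p : ℕ) [CharP k p] (d : ℕ) (P : Fin 3 → k) (hP : Function.Injective P)
    (e : Fin 3 → ℕ) (he : W4c1limliniiii.Admissible p d e) :
    (W4c1limliniiii.ramMaps d P e).Subsingleton ∧
      (W4c1limliniiii.ramMaps d P e = ∅ ↔
        ∃ V : Submodule k k[X], V ≤ Polynomial.degreeLE k d ∧ Module.finrank k V = 2 ∧
          ¬ W4c1limliniiii.IsSeparable V ∧
          ∀ i, ∃ s ∈ V, s ≠ 0 ∧ e i ≤ Polynomial.rootMultiplicity (P i) s) := by
  classical
  have hsum : e 0 + e 1 + e 2 = 2 * d + 1 := by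
    have := he.2
    rw [Fin.sum_univ_three] at this
    omega
  have hg : Groth.Agent.R2.H63.RamP1.Good d P e := ⟨hP, fun i => (he.1 i).2.1, hsum⟩
  have he1 : ∀ i, 1 ≤ e i := fun i => le_trans (by norm_num) (he.1 i).1
  -- members of `ramMaps` satisfy the conditions
  have hcond : ∀ V ∈ W4c1limliniiii.ramMaps d P e, Groth.Agent.R2.H63.RamP1.Cond d P e V := by
    rintro V ⟨hpen, -, hram⟩
    exact ⟨hpen.1, hpen.2.1, fun i => (hram i).1⟩
  refine ⟨?_, ?_, ?_⟩
  · intro V hV V' hV'
    exact (hg.eq_of_isPencil hV'.1 (hcond V' hV') (hcond V hV))
  · intro hempty
    obtain ⟨v, hv, hv0⟩ := (Submodule.ne_bot_iff _).1 hg.Lsub_ne_bot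
    have hc := hg.cond_span hv hv0
    refine ⟨Submodule.span k {v.1, v.2}, hc.1, hc.2.1, ?_, hc.2.2⟩
    intro hsep
    have := hg.mem_ramMaps_of_separable he1 hv hv0 hsep
    rw [hempty] at this
    exact this
  · rintro ⟨V'', hVd, hV2, hinsep, hVs⟩
    rw [Set.eq_empty_iff_forall_notMem]
    intro V hV
    have := hg.eq_of_isPencil hV.1 (hcond V hV) ⟨hVd, hV2, hVs⟩
    rw [this] at hinsep
    exact hinsep hV.2.1

end Groth.Agent.S13918
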