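import Groth.Statements.S13920
import Mathlib
import Groth.Agent.R2.H63RamP1Inf

set_option autoImplicit false
universe u
open W4c1limliniiii

namespace Groth.Agent.S13920

open Polynomial in
/-- Over an algebraically closed field of prime characteristic p, fix n points of the affine line with
ramification indices e_i < p, and at infinity an index E with p < E and E prime to p, the datum (E,
e_1, …, e_n) being admissible for degree d (each index between 2 and d, ∑ (index − 1) = 2d − 2). If
one separable degree-d self-map of the projective line (up to automorphisms of the target, encoded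
as a base-point-free separable pencil of polynomials of degree at most d) has ramification index
exactly e_i at the i-th point and exactly E at infinity, then infinitely many do: the set of such
pencils is empty or infinite. (The consequence for general points, that no such map exists, is not
restated.) -/
theorem result
    (k : Type u) [Field k] [IsAlgClosed k] (p : ℕ) [Fact p.Prime] [CharP k p]
    (d n : ℕ) (P : Fin n → k) (e : Fin n → ℕ) (E : ℕ)
    (he : W4c1limliniiii.Admissible p d (Fin.cons E e : Fin (n + 1) → ℕ))
    (hlt : ∀ i, e i < p) (hE : p < E) :
    {V : Submodule k k[X] | V ∈ W4c1limliniiii.ramMaps d P e ∧ W4c1limliniiii.HasRamIdxInf d V E} = ∅ ∨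
      {V : Submodule k k[X] | V ∈ W4c1limliniiii.ramMaps d P e ∧
        W4c1limliniiii.HasRamIdxInf d V E}.Infinite := by
  classical
  open Groth.Agent.R2.H63.RamP1 in
  by_cases hempty : {V : Submodule k k[X] | V ∈ W4c1limliniiii.ramMaps d P e ∧
      W4c1limliniiii.HasRamIdxInf d V E} = ∅
  · exact Or.inl hempty
  · right
    obtain ⟨V, ⟨⟨hVd, hV2, ⟨F, hFV, hFd⟩, hbpf⟩, hsep, hram⟩, ⟨G, hGV, hG0, hGle⟩, hall⟩ :=
      Set.nonempty_iff_ne_empty.2 hempty
    have hGd : G.natDegree + E = d := le_antisymm hGle (hall G hGV hG0)
    have hE1 := he.1 0
    simp only [Fin.cons_zero] at hE1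
    have hp0 : p ≠ 0 := (Fact.out : p.Prime).ne_zero
    have hdata : FamData d E p F G := ⟨hFd, hGd, hG0, hE, hp0⟩
    have hfin : Module.Finite k V := Module.finite_of_finrank_pos (by rw [hV2]; norm_num)
    have hli : LinearIndependent k ![F, G] := by
      have := hdata.li 0
      rwa [Fc_zero] at this
    have hspan : Submodule.span k ({F, G} : Set k[X]) = V := by
      apply Submodule.eq_of_le_of_finrank_eq
      · rw [Submodule.span_le]
        rintro z (rfl | rfl)
        · exact hFV
        · exact hGV
      · rw [finrank_span_pair_of_li hli, hV2]
    have hW : Polynomial.wronskian F G ≠ 0 := by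
      rw [← isSeparable_span_pair_iff, hspan]; exact hsep
    have hmem : ∀ c : k, Vc p F G c ∈ {V : Submodule k k[X] | V ∈ W4c1limliniiii.ramMaps d P e ∧
        W4c1limliniiii.HasRamIdxInf d V E} := by
      intro c
      refine hdata.Vc_mem hW ?_ ?_ hlt c
      · rw [hspan]; exact hbpf
      · rw [hspan]; exact hram
    exact Set.infinite_of_injective_forall_mem hdata.Vc_injective hmem

end Groth.Agent.S13920
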