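import Groth.Statements.S13934
import Groth.Agent.S1521
import Groth.Agent.S7643
import Groth.Agent.Lib.Helper23QAffSec
import Groth.Agent.R2.H85BigExp

set_option autoImplicit false
universe u
open CategoryTheory CategoryTheory.Limits AlgebraicGeometry
open W4c1limliniiii

namespace Groth.Agent.S13934

/-- On a smooth proper integral curve over an algebraically closed field (any characteristic), let 0 → L
→ E → M → 0 be a short exact sequence of O_X-modules with E finite locally free of rank 2 and degree
0, L and M invertible and deg L > 0 (so M is det E ⊗ L⁻¹). Then: every invertible sheaf N admitting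
a non-zero map N → E has deg N ≤ deg L, so L is the line bundle of maximal degree in E; every
invertible subsheaf N of E of positive degree with invertible quotient E/N coincides with L (some
isomorphism N ≅ L commutes with the inclusions); and E is not an extension of two invertible sheaves
of degree 0. Degrees are χ(−) minus rank times χ(O_X). (The published lemma is stated on a curve of
genus 2 in characteristic p; its argument uses neither, and this row assumes neither.) -/
theorem result (k : Type u) [Field k] [IsAlgClosed k] (X : Scheme.{u}) [X.Over (Spec (CommRingCat.of k))]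
    [IsIntegral X] [IsProper (X ↘ Spec (CommRingCat.of k))] [Smooth (X ↘ Spec (CommRingCat.of k))]
    (hdim : topologicalKrullDim X = 1)
    (S : ShortComplex X.Modules) (hS : S.ShortExact)
    (hE : FlatMod.IsFinLocFreeOfRank 2 S.X₂) (hE0 : Curv2.deg k X S.X₂ 2 = 0)
    (hL : PicF.IsInvertible S.X₁) (hM : PicF.IsInvertible S.X₃) (hpos : 0 < Curv2.deg k X S.X₁ 1) :
    (∀ (N : X.Modules), PicF.IsInvertible N → ∀ j : N ⟶ S.X₂, j ≠ 0 →
        Curv2.deg k X N 1 ≤ Curv2.deg k X S.X₁ 1) ∧
    (∀ (N : X.Modules), PicF.IsInvertible N → ∀ (j : N ⟶ S.X₂), Mono j →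
        PicF.IsInvertible (cokernel j) → 0 < Curv2.deg k X N 1 → ∃ φ : N ≅ S.X₁, φ.hom ≫ S.f = j) ∧
    (∀ (N N' : X.Modules), PicF.IsInvertible N → PicF.IsInvertible N' →
        Curv2.deg k X N 1 = 0 → Curv2.deg k X N' 1 = 0 →
        ∀ (a : N ⟶ S.X₂) (b : S.X₂ ⟶ N') (w : a ≫ b = 0), ¬ (ShortComplex.mk a b w).ShortExact) := by
  classical
  haveI := hS.mono_f
  haveI := hS.epi_g
  have hL1 := Groth.Agent.Lib.Helper23.SecTw.isFinLocFreeOfRank_one_of_isInvertible S.X₁ hL
  have hM1 := Groth.Agent.Lib.Helper23.SecTw.isFinLocFreeOfRank_one_of_isInvertible S.X₃ hM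
  have hadd := Groth.Agent.S7643.result k X (le_of_eq hdim) S hS 1 2 1 hL1 hE hM1
  have hdegM : Curv2.deg k X S.X₃ 1 = - Curv2.deg k X S.X₁ 1 := by
    rw [hE0] at hadd
    linarith
  -- degree comparison for nonzero maps of invertible modules
  have hle : ∀ (A B : X.Modules), PicF.IsInvertible A → PicF.IsInvertible B → ∀ φ : A ⟶ B, φ ≠ 0 →
      Curv2.deg k X A 1 ≤ Curv2.deg k X B 1 := fun A B hA hB φ hφ =>
    (Groth.Agent.S1521.result k X hdim A B hA hB φ hφ).1
  -- a map to `E` from an invertible module of degree `> deg M` factors through `L`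
  have hfac : ∀ (N : X.Modules), PicF.IsInvertible N → ∀ j : N ⟶ S.X₂,
      Curv2.deg k X S.X₃ 1 < Curv2.deg k X N 1 → ∃ φ : N ⟶ S.X₁, φ ≫ S.f = j := by
    intro N hN j hlt
    have h0 : j ≫ S.g = 0 := by
      by_contra hne
      exact absurd (hle N S.X₃ hN hM (j ≫ S.g) hne) (not_le.2 hlt)
    exact ⟨hS.exact.lift j h0, hS.exact.lift_f j h0⟩
  refine ⟨?_, ?_, ?_⟩
  · intro N hN j hj
    by_cases h0 : j ≫ S.g = 0
    · have hφ : hS.exact.lift j h0 ≠ 0 := by
        intro hz
        apply hj
        rw [← hS.exact.lift_f j h0, hz, zero_comp]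
      exact hle N S.X₁ hN hL _ hφ
    · have := hle N S.X₃ hN hM (j ≫ S.g) h0
      rw [hdegM] at this
      linarith
  · intro N hN j hj hQ hpos
    haveI := hj
    obtain ⟨φ, hφ⟩ := hfac N hN j (by rw [hdegM]; linarith)
    -- the sequence `0 → N → E → E/N → 0`
    let T : ShortComplex X.Modules := ShortComplex.mk j (cokernel.π j) (cokernel.condition j)
    have hT : T.ShortExact :=
      { exact := ShortComplex.exact_cokernel j
        mono_f := hj
        epi_g := inferInstanceAs (Epi (cokernel.π j)) }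
    have hN1 := Groth.Agent.Lib.Helper23.SecTw.isFinLocFreeOfRank_one_of_isInvertible N hN
    have hQ1 := Groth.Agent.Lib.Helper23.SecTw.isFinLocFreeOfRank_one_of_isInvertible _ hQ
    have hadd' := Groth.Agent.S7643.result k X (le_of_eq hdim) T hT 1 2 1 hN1 hE hQ1
    have hdegQ : Curv2.deg k X (cokernel j) 1 = - Curv2.deg k X N 1 := by
      have h1 : Curv2.deg k X T.X₂ 2 = Curv2.deg k X T.X₁ 1 + Curv2.deg k X T.X₃ 1 := hadd'
      change Curv2.deg k X S.X₂ 2 = Curv2.deg k X N 1 + Curv2.deg k X (cokernel j) 1 at h1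
      rw [hE0] at h1
      linarith
    have h0 : S.f ≫ cokernel.π j = 0 := by
      by_contra hne
      have := hle S.X₁ (cokernel j) hL hQ (S.f ≫ cokernel.π j) hne
      rw [hdegQ] at this
      linarith
    let ψ : S.X₁ ⟶ N := hT.exact.lift S.f h0
    have hψ : ψ ≫ j = S.f := hT.exact.lift_f S.f h0
    have h1 : φ ≫ ψ = 𝟙 N := by
      rw [← cancel_mono j, Category.assoc, hψ, hφ, Category.id_comp]
    have h2 : ψ ≫ φ = 𝟙 S.X₁ := by
      rw [← cancel_mono S.f, Category.assoc, hφ, hψ, Category.id_comp]
    exact ⟨⟨φ, ψ, h1, h2⟩, hφ⟩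
  · intro N N' hN hN' hdN hdN' a b w hex
    haveI := hex.mono_f
    have h0 : S.f ≫ b = 0 := by
      by_contra hne
      have := hle S.X₁ N' hL hN' (S.f ≫ b) hne
      rw [hdN'] at this
      linarith
    have hψ : hex.exact.lift S.f h0 ≫ a = S.f := hex.exact.lift_f S.f h0
    have hne : hex.exact.lift S.f h0 ≠ 0 := by
      intro hz
      have hf0 : S.f = 0 := by rw [← hψ, hz, zero_comp]
      have hzero : IsZero S.X₁ := by
        rw [IsZero.iff_id_eq_zero, ← cancel_mono S.f, hf0, comp_zero, comp_zero]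
      exact Groth.Agent.R2.H85.BigExp.not_isZero_of_isInvertible hL hzero
    have := hle S.X₁ N hL hN _ hne
    rw [hdN] at this
    linarith

end Groth.Agent.S13934
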