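import Groth.Statements.S13951
import Mathlib
import Groth.Agent.R2.H63ConnGrp

set_option autoImplicit false
universe u
open TateLoc

namespace Groth.Agent.S13951

open CategoryTheory AlgebraicGeometry CategoryTheory.Limits in
/-- Let S be a reduced scheme and I a finite locally free commutative S-group scheme (finite, flat, of
finite presentation) whose fibres over all points of S are connected. Then the restriction of the
sheaf of points of I from the big fppf site of S to the small etale site of S is the zero sheaf. -/
theorem result (S : Scheme.{u}) [IsReduced S]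
    (I : Over S) [GrpObj I] [IsCommMonObj I] [IsFinite I.hom] [Flat I.hom] [LocallyOfFinitePresentation I.hom]
    (hconn : ∀ s : S, ConnectedSpace ↥(I.hom.fiber s)) :
    IsZero ((BigSite.resEt Scheme.fppfPrecoverage S).obj (CGrpSh.pts Scheme.fppfPrecoverage I)) := by
  rw [IsZero.iff_id_eq_zero]
  apply Sheaf.hom_ext
  ext U x
  obtain ⟨U⟩ := U
  -- `U` is an etale `S`-scheme, hence reduced
  have hred : IsReduced ((EtFppf.a S).obj U).left := by
    have hEt : Etale (U.hom : U.left ⟶ S) := U.prop
    have hred0 : IsReduced U.left :=
      Groth.Agent.Lib.Helper10.WEtaleSch.isReduced_of_weaklyEtale (X := U.left) (Y := S) U.hom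
    exact hred0
  have key := Groth.Agent.R2.H63.ConnGrp.hom_eq_one I hconn ((EtFppf.a S).obj U)
    (Additive.toMul (ULift.down x))
  apply ULift.ext
  exact congrArg Additive.ofMul key

end Groth.Agent.S13951
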