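import Groth.Statements.S13988
import Groth.Agent.R2.H63CohCentre

set_option autoImplicit false
universe u
open CategoryTheory AlgebraicGeometry
open CohGab

namespace Groth.Agent.S13988

/-- Let X be a Noetherian scheme. The canonical ring map from the global functions Γ(X, O_X) to the
centre of the category of coherent O_X-modules (the endomorphisms of its identity functor), sending
r to multiplication by r, is bijective: for every natural endomorphism φ of the identity functor of
Coh(X) there is a unique global function r such that, for every coherent module M, φ_M is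
multiplication by r (compared as maps of the underlying abelian sheaves). (The published result
builds a ringed space from Coh(X) — irreducible Serre subcategories of finite type, with the centres
of the categories Coh(U) as structure sheaf — and proves it isomorphic to X, for coherent sheaves
twisted by a class in the cohomological Brauer group and with X over a field, a hypothesis its proof
does not use; this row is the ring-theoretic content of that isomorphism on global sections, for the
trivial class; applied to the open subschemes of X it gives the statement on every open.) -/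
theorem result (X : Scheme.{u}) [IsNoetherian X]
    (φ : 𝟭 (ObjectProperty.FullSubcategory (fun M : X.Modules => Coh.IsCoh M)) ⟶ 𝟭 (ObjectProperty.FullSubcategory (fun M : X.Modules => Coh.IsCoh M))) :
    ∃! r : Coh.Γtop X, ∀ M : ObjectProperty.FullSubcategory (fun M : X.Modules => Coh.IsCoh M),
      (SheafOfModules.toSheaf X.ringCatSheaf).map (φ.app M).hom = Coh.smulAb M.obj r := by
  refine ⟨Groth.Agent.Lib.Helper23.GenLocus.endFun
    (φ.app (Groth.Agent.R2.H63.CohCentre.OO X)).hom ⊤, ?_, ?_⟩
  · intro M
    ext U m
    rw [Coh.smulAb_app]
    exact Groth.Agent.R2.H63.CohCentre.main φ M U.unop m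
  · intro r' hr'
    have h1 := hr' (Groth.Agent.R2.H63.CohCentre.OO X)
    have h2 := congrArg (fun f => f.hom.app (Opposite.op ⊤)
      (Groth.Agent.Lib.Helper23.GenLocus.toS ⊤ 1)) h1
    rw [Coh.smulAb_app] at h2
    have h3 : Coh.resTop X (Opposite.op ⊤) r' = r' := by
      change (X.ringCatSheaf.obj.map (𝟙 (Opposite.op (⊤ : X.Opens)))).hom r' = r'
      rw [CategoryTheory.Functor.map_id]
      rfl
    rw [h3] at h2
    have h5 : (show Γ(X, ⊤) from r') • Groth.Agent.Lib.Helper23.GenLocus.toS (⊤ : X.Opens) (1 : Γ(X, ⊤)) =
        Groth.Agent.Lib.Helper23.GenLocus.toS ⊤ (show Γ(X, ⊤) from r') := by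
      rw [Groth.Agent.Lib.Helper23.GenLocus.smul_toS, mul_one]
    have h4 : Groth.Agent.Lib.Helper23.GenLocus.toS ⊤
        (Groth.Agent.Lib.Helper23.GenLocus.endFun
          (show Coh.structureModule X ⟶ Coh.structureModule X from
            (φ.app (Groth.Agent.R2.H63.CohCentre.OO X)).hom) ⊤) =
        Groth.Agent.Lib.Helper23.GenLocus.toS ⊤ (show Γ(X, ⊤) from r') := h2.trans h5
    exact (congrArg (Groth.Agent.Lib.Helper23.GenLocus.ofS ⊤) h4).symm


end Groth.Agent.S13988
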