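import Groth.Statements.S13991
import Groth.Agent.R2.H63SerreCoh

set_option autoImplicit false
universe u
open CategoryTheory AlgebraicGeometry
open CohGab

namespace Groth.Agent.S13991

/-- Let X be a Noetherian scheme and Z ⊆ X a closed subset. Then Z is irreducible (or empty) if and only
if Coh_Z(X), the coherent O_X-modules supported in Z, is an irreducible Serre subcategory of Coh(X),
i.e. it is not generated as a Serre subcategory by two Serre subcategories properly contained in it:
whenever J₁, J₂ are Serre classes on coherent modules (middle term of a short exact sequence of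
coherent modules belongs iff both outer terms do), both contained in Coh_Z, such that every Serre
class on coherent modules containing J₁ and J₂ contains Coh_Z, then J₁ or J₂ contains Coh_Z.
Consequently the points of X correspond to the irreducible Serre subcategories of finite type other
than the zero subcategory. (The published statement says 'Z is irreducible iff Coh_Z is irreducible'
and deduces a bijection between the points of X and all irreducible Serre subcategories of finite
type; the zero subcategory Coh_∅ is irreducible in this sense while ∅ is not an irreducible space,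
so irreducibility of Z is read here as 'irreducible or empty'. The published statement is also about
coherent sheaves twisted by a class in the second etale cohomology group of the units of the
structure sheaf; this row is its case of the trivial class.) -/
theorem result (X : Scheme.{u}) [IsNoetherian X]
    (Z : TopologicalSpace.Closeds X) :
    IsPreirreducible (↑Z : Set X) ↔
    ∀ J₁ J₂ : ObjectProperty X.Modules, (∀ S : ShortComplex X.Modules, S.ShortExact → Coh.IsCoh S.X₁ → Coh.IsCoh S.X₂ →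
        Coh.IsCoh S.X₃ → (J₁ S.X₂ ↔ J₁ S.X₁ ∧ J₁ S.X₃)) → (∀ S : ShortComplex X.Modules, S.ShortExact → Coh.IsCoh S.X₁ → Coh.IsCoh S.X₂ →
        Coh.IsCoh S.X₃ → (J₂ S.X₂ ↔ J₂ S.X₁ ∧ J₂ S.X₃)) →
      (∀ M : X.Modules, Coh.IsCoh M → J₁ M → CohB1.support M ⊆ (↑Z : Set X)) →
      (∀ M : X.Modules, Coh.IsCoh M → J₂ M → CohB1.support M ⊆ (↑Z : Set X)) →
      (∀ Q : ObjectProperty X.Modules, (∀ S : ShortComplex X.Modules, S.ShortExact → Coh.IsCoh S.X₁ → Coh.IsCoh S.X₂ →
        Coh.IsCoh S.X₃ → (Q S.X₂ ↔ Q S.X₁ ∧ Q S.X₃)) →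
        (∀ M : X.Modules, Coh.IsCoh M → J₁ M → Q M) → (∀ M : X.Modules, Coh.IsCoh M → J₂ M → Q M) →
        ∀ M : X.Modules, Coh.IsCoh M → CohB1.support M ⊆ (↑Z : Set X) → Q M) →
      (∀ M : X.Modules, Coh.IsCoh M → CohB1.support M ⊆ (↑Z : Set X) → J₁ M) ∨
        (∀ M : X.Modules, Coh.IsCoh M → CohB1.support M ⊆ (↑Z : Set X) → J₂ M) := by
  constructor
  · intro hZ J₁ J₂ hJ₁ hJ₂ hJ₁Z hJ₂Z hjoin
    obtain ⟨FZ, hFZ, hsFZ⟩ := Groth.Agent.R2.H63.SerreCoh.exists_coh_support_eq Z
    -- the class of coherent modules whose support does not contain `Z`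
    have hQ : ∀ S : ShortComplex X.Modules, S.ShortExact → Coh.IsCoh S.X₁ → Coh.IsCoh S.X₂ →
        Coh.IsCoh S.X₃ → (¬ ((↑Z : Set X) ⊆ CohB1.support S.X₂) ↔
          ¬ ((↑Z : Set X) ⊆ CohB1.support S.X₁) ∧ ¬ ((↑Z : Set X) ⊆ CohB1.support S.X₃)) := by
      intro S hS h1 h2 h3
      rw [Groth.Agent.R2.H63.SerreCoh.support_eq_union S hS, ← not_or, not_iff_not]
      constructor
      · intro h
        exact (isPreirreducible_iff_isClosed_union_isClosed.1 hZ) _ _
          (Groth.Agent.S0020.result X S.X₁ h1.2) (Groth.Agent.S0020.result X S.X₃ h3.2) h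
      · rintro (h | h)
        · exact h.trans Set.subset_union_left
        · exact h.trans Set.subset_union_right
    by_cases hex : ∃ M₀ : X.Modules, Coh.IsCoh M₀ ∧ (J₁ M₀ ∨ J₂ M₀) ∧ (↑Z : Set X) ⊆ CohB1.support M₀
    · obtain ⟨M₀, hM₀, hJ, hsM₀⟩ := hex
      rcases hJ with hJ | hJ
      · left
        intro M hM hMs
        exact Groth.Agent.R2.H63.SerreCoh.core J₁ hJ₁ M₀ M hM₀ hM hJ (hMs.trans hsM₀)
      · right
        intro M hM hMs
        exact Groth.Agent.R2.H63.SerreCoh.core J₂ hJ₂ M₀ M hM₀ hM hJ (hMs.trans hsM₀)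
    · exfalso
      have h := hjoin (fun M => ¬ ((↑Z : Set X) ⊆ CohB1.support M)) hQ
        (fun M hM hJM hs => hex ⟨M, hM, Or.inl hJM, hs⟩)
        (fun M hM hJM hs => hex ⟨M, hM, Or.inr hJM, hs⟩) FZ hFZ hsFZ.subset
      exact h hsFZ.ge
  · intro h
    rw [isPreirreducible_iff_isClosed_union_isClosed]
    intro z₁ z₂ hz₁ hz₂ hcov
    let Z₁ : TopologicalSpace.Closeds X := ⟨(↑Z : Set X) ∩ z₁, Z.isClosed.inter hz₁⟩
    let Z₂ : TopologicalSpace.Closeds X := ⟨(↑Z : Set X) ∩ z₂, Z.isClosed.inter hz₂⟩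
    obtain ⟨F₁, hF₁, hsF₁⟩ := Groth.Agent.R2.H63.SerreCoh.exists_coh_support_eq Z₁
    obtain ⟨F₂, hF₂, hsF₂⟩ := Groth.Agent.R2.H63.SerreCoh.exists_coh_support_eq Z₂
    obtain ⟨FZ, hFZ, hsFZ⟩ := Groth.Agent.R2.H63.SerreCoh.exists_coh_support_eq Z
    have hZ12 : (↑Z : Set X) ⊆ CohB1.support (F₁ ⊞ F₂ : X.Modules) := by
      rw [Groth.Agent.R2.H63.SerreCoh.support_biprod, hsF₁, hsF₂]
      intro x hx
      rcases hcov hx with h1 | h2
      · exact Or.inl ⟨hx, h1⟩
      · exact Or.inr ⟨hx, h2⟩
    have key := h (fun M => CohB1.support M ⊆ (↑Z₁ : Set X)) (fun M => CohB1.support M ⊆ (↑Z₂ : Set X))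
      (Groth.Agent.R2.H63.SerreCoh.isSerre_support _) (Groth.Agent.R2.H63.SerreCoh.isSerre_support _)
      (fun M _ hM => hM.trans Set.inter_subset_left) (fun M _ hM => hM.trans Set.inter_subset_left)
      (fun Q hQ hQ₁ hQ₂ M hM hMs =>
        Groth.Agent.R2.H63.SerreCoh.core Q hQ (F₁ ⊞ F₂ : X.Modules) M
          (Groth.Agent.R2.H63.SerreCoh.isCoh_biprod hF₁ hF₂) hM
          (Groth.Agent.R2.H63.SerreCoh.IsSerre.biprod hQ hF₁ hF₂ (hQ₁ F₁ hF₁ hsF₁.subset) (hQ₂ F₂ hF₂ hsF₂.subset)) (hMs.trans hZ12))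
    rcases key with k | k
    · left
      have := k FZ hFZ hsFZ.subset
      rw [hsFZ] at this
      exact this.trans Set.inter_subset_right
    · right
      have := k FZ hFZ hsFZ.subset
      rw [hsFZ] at this
      exact this.trans Set.inter_subset_right


end Groth.Agent.S13991
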