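import Groth.Statements.S14003
import Groth.Agent.R2.H54DevExt
import Groth.Agent.R2.H12Dev4B
import Groth.Agent.R2.H5CohThick
import Groth.Agent.Lib.Helper20StalkExact

set_option autoImplicit false
universe u
open CategoryTheory AlgebraicGeometry
open KZero

namespace Groth.Agent.S14003

/-- Let X be a Noetherian scheme and Y' a closed subset; write K_0 for the Grothendieck group of the
abelian category of coherent O_X-modules with support in Y' (free abelian group on its objects
modulo the relations of short exact sequences). Let (F_a) be a family of such modules such that for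
every irreducible closed subset Z ⊆ Y' with generic point ζ there is an index a with the support of
F_a contained in Z and the stalk of F_a at ζ of length one over the local ring (a one-dimensional
vector space over the residue field). Then the classes of the F_a generate K_0. (The published
statement omits the condition that the support of F_a lie in Z; without it the claim fails already
for the spectrum of a product of two fields, where the modules k_1 ⊕ k_2 ⊕ k_2 and k_1 ⊕ k_1 ⊕ k_2
have one-dimensional stalks at the two points but their classes generate a subgroup of index 3 in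
K_0 = ℤ².) -/
theorem result (X : Scheme.{u}) [IsNoetherian X]
    (Y' : Set X) (hY' : IsClosed Y') {ι : Type u} (F : ι → X.Modules)
    (hF : ∀ a : ι, Coh.IsCoh (F a) ∧ CohB1.support (F a) ⊆ Y')
    (hgen : ∀ (Z : Set X), IsClosed Z → IsIrreducible Z → Z ⊆ Y' → ∀ y : X, closure ({y} : Set X) = Z →
      ∃ a : ι, CohB1.support (F a) ⊆ Z ∧ Module.length (X.presheaf.stalk y) ((F a).presheaf.stalk y) = 1) :
    AddSubgroup.closure (Set.range fun a : ι =>
        KZero.clSub (fun G : X.Modules => Coh.IsCoh G ∧ CohB1.support G ⊆ Y') (F a)) = ⊤ := by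
  classical
  -- the open complement of `Y'`
  let W₀ : X.Opens := ⟨Y'ᶜ, hY'.isOpen_compl⟩
  have hvan_iff : ∀ M : X.Modules, Groth.Agent.R2.H12.Dev.VanOn M W₀ ↔ CohB1.support M ⊆ Y' := by
    intro M
    constructor
    · intro h x hx
      by_contra hxY
      exact Groth.Agent.R2.H54.DevExt.not_mem_support_of_vanOn h (show x ∈ W₀ from hxY) hx
    · intro h
      exact Groth.Agent.R2.H12.Dev.vanOn_of_support_disjoint M W₀ fun x hx hxs => hx (h hxs)
  set Pr : ObjectProperty X.Modules := fun G : X.Modules => Coh.IsCoh G ∧ CohB1.support G ⊆ Y' with hPr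
  set H : AddSubgroup (KZero.K0sub Pr) :=
    AddSubgroup.closure (Set.range fun a : ι => KZero.clSub Pr (F a)) with hH
  -- the class relation of a short exact sequence
  have hrel : ∀ (S : ShortComplex X.Modules) (h₁ : Pr S.X₁) (h₂ : Pr S.X₂) (h₃ : Pr S.X₃), S.ShortExact →
      KZero.clSub Pr S.X₂ = KZero.clSub Pr S.X₁ + KZero.clSub Pr S.X₃ := by
    intro S h₁ h₂ h₃ hS
    unfold KZero.clSub
    rw [dif_pos h₁, dif_pos h₂, dif_pos h₃, ← QuotientAddGroup.mk_add, QuotientAddGroup.eq]
    have hmem : FreeAbelianGroup.of (⟨S.X₂, h₂⟩ : Subtype Pr) - FreeAbelianGroup.of ⟨S.X₁, h₁⟩ -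
        FreeAbelianGroup.of ⟨S.X₃, h₃⟩ ∈ KZero.relSub Pr :=
      AddSubgroup.subset_closure ⟨S, h₁, h₂, h₃, hS, rfl⟩
    have heq : -FreeAbelianGroup.of (⟨S.X₂, h₂⟩ : Subtype Pr) +
        (FreeAbelianGroup.of ⟨S.X₁, h₁⟩ + FreeAbelianGroup.of ⟨S.X₃, h₃⟩) =
        -(FreeAbelianGroup.of (⟨S.X₂, h₂⟩ : Subtype Pr) - FreeAbelianGroup.of ⟨S.X₁, h₁⟩ -
          FreeAbelianGroup.of ⟨S.X₃, h₃⟩) := by abel
    rw [heq]
    exact (KZero.relSub Pr).neg_mem hmem
  have hPr_iff : ∀ M : X.Modules, Pr M ↔ Coh.IsCoh M ∧ Groth.Agent.R2.H12.Dev.VanOn M W₀ := fun M =>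
    ⟨fun h => ⟨h.1, (hvan_iff M).2 h.2⟩, fun h => ⟨h.1, (hvan_iff M).1 h.2⟩⟩
  -- the class of a zero module is zero
  have hzero : ∀ M : X.Modules, Limits.IsZero M → KZero.clSub Pr M = 0 := by
    intro M hM
    have hPrM : Pr M := (hPr_iff M).2 ⟨Groth.Agent.R2.H5.CohThick.isCoh_of_isZero X hM,
      Groth.Agent.R2.H12.Dev.vanOn_of_isZero hM W₀⟩
    have hS : (ShortComplex.mk (0 : M ⟶ M) (0 : M ⟶ M) Limits.zero_comp).ShortExact := by
      have h1 : Mono (0 : M ⟶ M) := ⟨fun g h _ => hM.eq_of_tgt g h⟩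
      have h2 : Epi (0 : M ⟶ M) := ⟨fun g h _ => hM.eq_of_src g h⟩
      refine ShortComplex.ShortExact.mk' ?_ h1 h2
      exact ShortComplex.exact_of_isZero_X₂ _ hM
    have h := hrel _ hPrM hPrM hPrM hS
    change KZero.clSub Pr M = KZero.clSub Pr M + KZero.clSub Pr M at h
    exact left_eq_add.mp h
  -- the property used in the dévissage
  let P' : X.Modules → Prop := fun M =>
    Groth.Agent.R2.H12.Dev.VanOn M W₀ ∧ (Coh.IsCoh M → KZero.clSub Pr M ∈ H)
  have key : ∀ M : X.Modules, Coh.IsCoh M → Groth.Agent.R2.H12.Dev.VanOn M W₀ → P' M := by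
    intro M hM hMW
    refine Groth.Agent.R2.H12.Dev.devissage_core_simple P' ?_ ?_ ?_ W₀ ?_ M hM hMW
    · -- isomorphisms
      rintro M N ⟨e⟩ ⟨hv, hc⟩
      refine ⟨hv.of_iso e, fun hN => ?_⟩
      have hMc : Coh.IsCoh M := Groth.Agent.R2.H12.Dev.isCoh_of_iso e.symm hN
      have hPrM : Pr M := (hPr_iff M).2 ⟨hMc, hv⟩
      have hPrN : Pr N := (hPr_iff N).2 ⟨hN, hv.of_iso e⟩
      have hZ : Limits.IsZero (Limits.cokernel e.hom) := Limits.isZero_cokernel_of_epi e.hom
      have hPrZ : Pr (Limits.cokernel e.hom) := (hPr_iff _).2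
        ⟨Groth.Agent.R2.H5.CohThick.isCoh_of_isZero X hZ, Groth.Agent.R2.H12.Dev.vanOn_of_isZero hZ W₀⟩
      have hS : (ShortComplex.mk e.hom (Limits.cokernel.π e.hom) (Limits.cokernel.condition _)).ShortExact :=
        ShortComplex.ShortExact.mk' (ShortComplex.exact_cokernel e.hom) inferInstance inferInstance
      have h := hrel _ hPrM hPrN hPrZ hS
      change KZero.clSub Pr N = KZero.clSub Pr M + KZero.clSub Pr (Limits.cokernel e.hom) at h
      rw [h, hzero _ hZ, add_zero]
      exact hc hMc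
    · -- two out of three
      intro S hS h1 h2 h3
      have := hS.mono_f
      have := hS.epi_g
      refine ⟨?_, ?_, ?_⟩
      · rintro ⟨hv1, hc1⟩ ⟨hv3, hc3⟩
        have hv2 : Groth.Agent.R2.H12.Dev.VanOn S.X₂ W₀ := by
          rw [hvan_iff] at hv1 hv3 ⊢
          intro x hx
          by_contra hxY
          apply hx
          rw [Groth.Agent.Lib.Helper20.StalkExact.subsingleton_stalk_iff S hS x]
          exact ⟨by_contra fun h => hxY (hv1 h), by_contra fun h => hxY (hv3 h)⟩
        refine ⟨hv2, fun _ => ?_⟩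
        rw [hrel S ((hPr_iff _).2 ⟨h1, hv1⟩) ((hPr_iff _).2 ⟨h2, hv2⟩) ((hPr_iff _).2 ⟨h3, hv3⟩) hS]
        exact H.add_mem (hc1 h1) (hc3 h3)
      · rintro ⟨hv1, hc1⟩ ⟨hv2, hc2⟩
        have hv3 : Groth.Agent.R2.H12.Dev.VanOn S.X₃ W₀ := hv2.of_epi S.g
        refine ⟨hv3, fun _ => ?_⟩
        have h := hrel S ((hPr_iff _).2 ⟨h1, hv1⟩) ((hPr_iff _).2 ⟨h2, hv2⟩) ((hPr_iff _).2 ⟨h3, hv3⟩) hS
        have h' : KZero.clSub Pr S.X₃ = KZero.clSub Pr S.X₂ - KZero.clSub Pr S.X₁ := by
          rw [h]; abel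
        rw [h']
        exact H.sub_mem (hc2 h2) (hc1 h1)
      · rintro ⟨hv2, hc2⟩ ⟨hv3, hc3⟩
        have hv1 : Groth.Agent.R2.H12.Dev.VanOn S.X₁ W₀ := hv2.of_mono S.f
        refine ⟨hv1, fun _ => ?_⟩
        have h := hrel S ((hPr_iff _).2 ⟨h1, hv1⟩) ((hPr_iff _).2 ⟨h2, hv2⟩) ((hPr_iff _).2 ⟨h3, hv3⟩) hS
        have h' : KZero.clSub Pr S.X₁ = KZero.clSub Pr S.X₂ - KZero.clSub Pr S.X₃ := by
          rw [h]; abel
        rw [h']
        exact H.sub_mem (hc2 h2) (hc3 h3)
    · -- zero
      intro M hM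
      exact ⟨Groth.Agent.R2.H12.Dev.vanOn_of_isZero hM W₀, fun _ => by rw [hzero M hM]; exact H.zero_mem⟩
    · -- generators
      intro Z i _ _ hiW
      have hclosed : IsClosed (Set.range i) := i.isClosedEmbedding.isClosed_range
      have hirr : IsIrreducible (Set.range i) := by
        rw [← Set.image_univ]
        exact (IrreducibleSpace.isIrreducible_univ Z).image i i.continuous.continuousOn
      have hsub : Set.range i ⊆ Y' := by
        rintro _ ⟨z, rfl⟩
        by_contra hz
        have h1 : z ∈ i ⁻¹ᵁ W₀ := hz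
        rw [hiW] at h1
        exact absurd h1 (by simp)
      have hcl : closure ({i (genericPoint Z)} : Set X) = Set.range i := by
        have h1 := i.isClosedEmbedding.closure_image_eq ({genericPoint Z} : Set Z)
        rw [Set.image_singleton] at h1
        rw [h1, (genericPoint_spec Z).def, Set.image_univ]
      obtain ⟨a, hsupp, hlen⟩ := hgen (Set.range i) hclosed hirr hsub (i (genericPoint Z)) hcl
      refine ⟨F a, (hF a).1, hsupp, Module.length_eq_one_iff.1 hlen, (hvan_iff _).2 (hF a).2, fun _ => ?_⟩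
      exact AddSubgroup.subset_closure ⟨a, rfl⟩
  -- every class lies in `H`
  rw [eq_top_iff]
  rintro x -
  obtain ⟨y, rfl⟩ := QuotientAddGroup.mk_surjective x
  induction y using FreeAbelianGroup.induction_on with
  | zero => exact H.zero_mem
  | of M =>
    obtain ⟨M, hM⟩ := M
    have h1 : KZero.clSub Pr M = QuotientAddGroup.mk (FreeAbelianGroup.of (⟨M, hM⟩ : Subtype Pr)) := by
      unfold KZero.clSub
      rw [dif_pos hM]
    rw [← h1]
    exact (key M hM.1 ((hvan_iff M).2 hM.2)).2 hM.1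
  | neg M ih => exact H.neg_mem ih
  | add a b ha hb => exact H.add_mem ha hb

end Groth.Agent.S14003
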