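import Groth.Statements.S14004
import Mathlib
import Groth.Agent.R2.H63ThickSmooth

set_option autoImplicit false
universe u
open CategoryTheory AlgebraicGeometry
open FSch

namespace Groth.Agent.S14004

/-- Formal schemes are modelled as ℕ-indexed systems of thickenings. Let 𝔛 and 𝔜 be locally Noetherian
adic formal systems and f : 𝔛 ⟶ 𝔜 an adic morphism (every square X_n → X_{n+1}, Y_n → Y_{n+1}
cartesian) all of whose levels f_n : X_n ⟶ Y_n are flat. Then f is smooth, in the sense that every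
level f_n is smooth, if and only if the bottom level f_0 is smooth. -/
theorem result (𝔛 𝔜 : FSch.Sys.{u})
    (h𝔛 : 𝔛.IsLocNoethFormal) (h𝔜 : 𝔜.IsLocNoethFormal) (f : 𝔛 ⟶ 𝔜) (hf : FSch.IsAdicHom f)
    (hflat : ∀ n : ℕ, Flat ((f : FSch.Hom 𝔛 𝔜).app n)) :
    (∀ n : ℕ, AlgebraicGeometry.Smooth ((f : FSch.Hom 𝔛 𝔜).app n)) ↔
      AlgebraicGeometry.Smooth ((f : FSch.Hom 𝔛 𝔜).app 0) := by
  obtain ⟨hXf, _, hXn⟩ := h𝔛
  obtain ⟨hYf, _, hYn⟩ := h𝔜
  constructor
  · intro h
    exact h 0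
  · intro h0 n
    induction n with
    | zero => exact h0
    | succ n ih =>
      have := (hXf n).1
      have : Surjective (𝔛.ι n) := ⟨(hXf n).2⟩
      have := (hYf n).1
      have : Surjective (𝔜.ι n) := ⟨(hYf n).2⟩
      have := hXn (n + 1)
      have := hYn (n + 1)
      have := hflat (n + 1)
      exact Groth.Agent.R2.H63.ThickSmooth.smooth_of_isPullback (𝔛.ι n)
        ((f : FSch.Hom 𝔛 𝔜).app n) ((f : FSch.Hom 𝔛 𝔜).app (n + 1)) (𝔜.ι n) (hf n)

end Groth.Agent.S14004
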