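import Groth.Statements.S14081
import Groth.Agent.R2.H64ArEven

set_option autoImplicit false
universe u
open ArSing

namespace Groth.Agent.S14081

open Groth.Agent.R2.H64.ArSing Groth.Agent.R2.H64.PSSubst Groth.Agent.R2.H64.ArOdd
  Groth.Agent.R2.H64.ArMaps Groth.Agent.R2.H64.ArEven

section Aux

variable (k : Type u) [Field k]

theorem aux (m : ℕ) (h2 : (2 : k) ≠ 0)
    (σ : ArSing.ring k (2 * m) ≃ₐ[k] ArSing.ring k (2 * m)) (hσ : ∀ a, σ (σ a) = a)
    (hne : σ ≠ AlgEquiv.refl) :
    ∃ φ : ArSing.ring k (2 * m) ≃ₐ[k] ArSing.ring k (2 * m),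
      φ.symm (σ (φ (ArSing.x k (2 * m)))) = ArSing.x k (2 * m) ∧
      φ.symm (σ (φ (ArSing.y k (2 * m)))) = -ArSing.y k (2 * m) := by
  obtain ⟨T, hT0, hT⟩ := exists_ext σ
  -- `sb T` is an involution
  have hinv : ∀ z, sb T (sb T (ι k m z)) = ι k m z := by
    intro z
    rw [← hT, ← hT, hσ]
  set U := sb T T with hU
  have hU0 : PowerSeries.constantCoeff U = 0 := by rw [hU, constantCoeff_sb hT0]; exact hT0
  have hUx : U ^ 2 = PowerSeries.X ^ 2 := by
    have := hinv (ArSing.x k (2 * m))
    rw [sb_sb hT0 hT0, ι_x, map_pow, sb_X hU0] at this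
    exact this
  have hUy : U ^ (2 * m + 1) = PowerSeries.X ^ (2 * m + 1) := by
    have := hinv (ArSing.y k (2 * m))
    rw [sb_sb hT0 hT0, ι_y, map_pow, sb_X hU0] at this
    exact this
  have hTT : sb T T = PowerSeries.X := by
    have hprod : (U - PowerSeries.X) * (U + PowerSeries.X) = 0 := by linear_combination hUx
    rcases mul_eq_zero.mp hprod with h | h
    · exact sub_eq_zero.mp h
    · exfalso
      have hU' : U = -PowerSeries.X := eq_neg_of_add_eq_zero_left h
      rw [hU', Odd.neg_pow ⟨m, rfl⟩] at hUy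
      have h3 : (2 : PowerSeries k) * PowerSeries.X ^ (2 * m + 1) = 0 := by linear_combination -hUy
      exact mul_ne_zero (two_ne_zero_ps h2) (pow_ne_zero _ PowerSeries.X_ne_zero) h3
  set c := PowerSeries.coeff 1 T with hc
  have hcc : c * c = 1 := by
    have := coeff_one_sb hT0 T
    rw [hTT, PowerSeries.coeff_one_X] at this
    exact this.symm
  have hpm : c = 1 ∨ c = -1 := by
    have : (c - 1) * (c + 1) = 0 := by linear_combination hcc
    rcases mul_eq_zero.mp this with h | h
    · left; exact sub_eq_zero.mp h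
    · right; exact eq_neg_of_add_eq_zero_left h
  have hP0 : PowerSeries.constantCoeff (lin c T) = 0 := constantCoeff_lin c hT0
  have hP1 : PowerSeries.coeff 1 (lin c T) = 1 := coeff_one_lin h2 rfl hcc
  have hTP : sb T (lin c T) = PowerSeries.C c * lin c T := sb_lin hcc hT0 hTT
  rcases hpm with hc1 | hc1
  · -- `c = 1`: `σ` is the identity
    exfalso
    apply hne
    obtain ⟨Q, hQ0, -, hPQ, hQP⟩ := exists_inv (lin c T) hP0 (by rw [hP1]; exact one_ne_zero)
    have hfix : ∀ a, sb T a = a := by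
      intro a
      have e1 : a = sb (lin c T) (sb Q a) := (sb_sb_of_inv hP0 hQ0 hPQ a).symm
      rw [e1, sb_sb hT0 hP0, hTP, hc1, map_one, one_mul]
    ext z
    apply ι_injective
    rw [hT, hfix]
    rfl
  · -- `c = -1`
    have hTodd : IsOddMod m T := by
      have h1 : InS m (T ^ 2) := by
        have := inS_ι (σ (ArSing.x k (2 * m)))
        rwa [hT, ι_x, map_pow, sb_X hT0] at this
      unfold InS at h1
      unfold IsOddMod
      rw [Ideal.mem_span_singleton] at h1 ⊢
      obtain ⟨d, hd⟩ := h1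
      have h0 : PowerSeries.constantCoeff (ρ k T - T) = 0 := by
        rw [map_sub, constantCoeff_ρ, hT0, sub_zero]
      obtain ⟨e, he⟩ := PowerSeries.X_dvd_iff.mpr h0
      have hce : PowerSeries.constantCoeff e = -2 * c := by
        have h5 : PowerSeries.coeff 1 (ρ k T - T) = -2 * c := by
          rw [map_sub, rescaleₐ_apply, PowerSeries.coeff_rescale, ← hc]; ring
        have h6 : PowerSeries.coeff 1 (PowerSeries.X * e) = PowerSeries.constantCoeff e := by
          rw [show (1 : ℕ) = 0 + 1 from rfl, PowerSeries.coeff_succ_X_mul]; simp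
        rw [he, h6] at h5
        exact h5
      have heu : IsUnit e := by
        rw [PowerSeries.isUnit_iff_constantCoeff, hce, hc1]
        exact IsUnit.mk0 _ (by simpa using h2)
      obtain ⟨e', he'⟩ := heu.exists_left_inv
      have h6 : PowerSeries.X * (e * (ρ k T + T)) = PowerSeries.X * (PowerSeries.X ^ (2 * m) * d) := by
        have : PowerSeries.X * (e * (ρ k T + T)) = ρ k (T ^ 2) - T ^ 2 := by
          rw [map_pow, ← mul_assoc, ← he]; ring
        rw [this, hd]; ring
      have h7 := mul_left_cancel₀ PowerSeries.X_ne_zero h6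
      refine ⟨e' * d, ?_⟩
      calc ρ k T + T = (e' * e) * (ρ k T + T) := by rw [he', one_mul]
        _ = e' * (e * (ρ k T + T)) := by ring
        _ = PowerSeries.X ^ (2 * m) * (e' * d) := by rw [h7]; ring
    have hPodd : IsOddMod m (lin c T) := by
      unfold IsOddMod at hTodd ⊢
      have hρC : ∀ d : k, ρ k (PowerSeries.C d) = PowerSeries.C d := fun d => (ρ k).commutes d
      have : ρ k (lin c T) + lin c T = PowerSeries.C (2⁻¹ : k) * PowerSeries.C c * (ρ k T + T) := by
        unfold lin
        rw [map_mul, map_add, map_mul, hρC, hρC, ρ_X]; ring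
      rw [this]
      exact Ideal.mul_mem_left _ _ hTodd
    obtain ⟨φ, Q, hQ0, hQP, hφ, hψ⟩ :=
      exists_aut_even h2 (lin c T) hP0 (by rw [hP1]; exact one_ne_zero) hPodd
    have key : ∀ z, ι k m (φ.symm (σ (φ z))) = sb (PowerSeries.C c * PowerSeries.X) (ι k m z) := by
      intro z
      have e0 : PowerSeries.constantCoeff (PowerSeries.C c * lin c T) = 0 := by
        rw [map_mul, hP0, mul_zero]
      rw [hψ, hT, hφ, sb_sb hT0 hP0, hTP, sb_sb hQ0 e0, map_mul, sb_C, hQP]
    refine ⟨φ, ?_, ?_⟩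
    · apply ι_injective
      rw [key, ι_x, sb_CX_pow, hc1]
      norm_num
    · apply ι_injective
      rw [key, map_neg, ι_y, sb_CX_pow, hc1, Odd.neg_one_pow ⟨m, rfl⟩, map_neg, map_one]
      ring

end Aux

/-- Over an algebraically closed field k of characteristic prime to 2 and to r+1, with r even, every
non-trivial k-algebra involution σ of A_r = k[[x,y]]/(y^2 - x^(r+1)) is conjugate, by a k-algebra
automorphism φ of A_r, to the involution x ↦ x, y ↦ -y (that is, φ⁻¹σφ fixes the class of x and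
negates the class of y). -/
theorem result (k : Type u) [Field k] [IsAlgClosed k] (r : ℕ)
    (h2 : (2 : k) ≠ 0) (hr : ((r + 1 : ℕ) : k) ≠ 0) (hev : Even r)
    (σ : ArSing.ring k r ≃ₐ[k] ArSing.ring k r) (hσ : ∀ a, σ (σ a) = a) (hne : σ ≠ AlgEquiv.refl) :
    ∃ φ : ArSing.ring k r ≃ₐ[k] ArSing.ring k r,
      φ.symm (σ (φ (ArSing.x k r))) = ArSing.x k r ∧
      φ.symm (σ (φ (ArSing.y k r))) = -ArSing.y k r := by
  obtain ⟨m, hm⟩ := hev
  have hr' : r = 2 * m := by omega
  subst hr'
  exact aux k m h2 σ hσ hne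

end Groth.Agent.S14081
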