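import Groth.Statements.S14082
import Groth.Agent.R2.H64ArOdd

set_option autoImplicit false
universe u
open ArSing

namespace Groth.Agent.S14082

open Groth.Agent.R2.H64.ArSing Groth.Agent.R2.H64.PSSubst Groth.Agent.R2.H64.ArOdd

/-- Over an algebraically closed field k of characteristic prime to 2 and to r+1, with r odd and r ≥ 3,
every non-trivial k-algebra involution σ of A_r = k[[x,y]]/(y^2 - x^(r+1)) is conjugate, by a
k-algebra automorphism φ of A_r, to one of the three involutions (x, y) ↦ (x, -y), (x, y) ↦ (-x, y),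
(x, y) ↦ (-x, -y). -/
theorem result (k : Type u) [Field k] [IsAlgClosed k] (r : ℕ)
    (h2 : (2 : k) ≠ 0) (hr : ((r + 1 : ℕ) : k) ≠ 0) (hodd : Odd r) (h3 : 3 ≤ r)
    (σ : ArSing.ring k r ≃ₐ[k] ArSing.ring k r) (hσ : ∀ a, σ (σ a) = a) (hne : σ ≠ AlgEquiv.refl) :
    ∃ φ : ArSing.ring k r ≃ₐ[k] ArSing.ring k r,
      (φ.symm (σ (φ (ArSing.x k r))) = ArSing.x k r ∧ φ.symm (σ (φ (ArSing.y k r))) = -ArSing.y k r) ∨
      (φ.symm (σ (φ (ArSing.x k r))) = -ArSing.x k r ∧ φ.symm (σ (φ (ArSing.y k r))) = ArSing.y k r) ∨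
      (φ.symm (σ (φ (ArSing.x k r))) = -ArSing.x k r ∧ φ.symm (σ (φ (ArSing.y k r))) = -ArSing.y k r) := by
  obtain ⟨n, rfl⟩ := hodd
  have hn : 1 ≤ n := by omega
  have hcongr : pi₁ k n (σ (ArSing.x k (2 * n + 1))) - pi₂ k n (σ (ArSing.x k (2 * n + 1))) ∈
      Ideal.span {(PowerSeries.X : PowerSeries k) ^ (n + 1)} := pi_sub_mem _
  have hc : PowerSeries.coeff 1 (pi₂ k n (σ (ArSing.x k (2 * n + 1)))) =
      PowerSeries.coeff 1 (pi₁ k n (σ (ArSing.x k (2 * n + 1)))) := by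
    have h := hcongr
    rw [Ideal.mem_span_singleton] at h
    obtain ⟨d, hd⟩ := h
    have h1 := congrArg (PowerSeries.coeff 1) hd
    rw [map_sub, PowerSeries.coeff_X_pow_mul', if_neg (by omega)] at h1
    exact (sub_eq_zero.mp h1).symm
  set c := PowerSeries.coeff 1 (pi₁ k n (σ (ArSing.x k (2 * n + 1)))) with hcdef
  have hpm : c * c = 1 → c = 1 ∨ c = -1 := by
    intro hcc
    have : (c - 1) * (c + 1) = 0 := by linear_combination hcc
    rcases mul_eq_zero.mp this with h | h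
    · left; exact sub_eq_zero.mp h
    · right; exact eq_neg_of_add_eq_zero_left h
  rcases aut_cases h2 σ with ⟨hA₁, hA₂⟩ | ⟨hB₁, hB₂⟩
  · obtain ⟨hcc, -, φ, hφ₁, hφ₂⟩ := caseA h2 σ hσ c c hA₁ hA₂ rfl hc (lin_sub_mem c hcongr)
    rcases hpm hcc with hc1 | hc1
    · exfalso
      apply hne
      have key : ∀ z, φ.symm (σ (φ z)) = z := by
        intro z
        apply pi_injective h2
        · rw [hφ₁, hc1, map_one, one_mul, sb_X_eq_id]; rfl
        · rw [hφ₂, hc1, map_one, one_mul, sb_X_eq_id]; rfl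
      ext z
      have := key (φ.symm z)
      rw [AlgEquiv.apply_symm_apply] at this
      exact φ.symm.injective this
    · refine ⟨φ, ?_⟩
      have hx' : φ.symm (σ (φ (ArSing.x k (2 * n + 1)))) = -ArSing.x k (2 * n + 1) := by
        have := eq_smul_x h2 (w := φ.symm (σ (φ (ArSing.x k (2 * n + 1))))) (c₁ := -1)
          (by rw [hφ₁, pi₁_x, sb_CX_X, hc1]) (by rw [hφ₂, pi₂_x, sb_CX_X, hc1])
        rw [this, map_neg, map_one]; ring
      have hy' : φ.symm (σ (φ (ArSing.y k (2 * n + 1)))) =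
          algebraMap k _ ((-1 : k) ^ (n + 1)) * ArSing.y k (2 * n + 1) :=
        eq_smul_y h2 (by rw [hφ₁, pi₁_y, sb_CX_pow, hc1])
          (by rw [hφ₂, pi₂_y, map_neg, sb_CX_pow, hc1])
      rcases Nat.even_or_odd n with he | ho
      · right; right
        refine ⟨hx', ?_⟩
        rw [hy', Odd.neg_one_pow he.add_one, map_neg, map_one]; ring
      · right; left
        refine ⟨hx', ?_⟩
        rw [hy', Even.neg_one_pow ho.add_one, map_one]; ring
  · obtain ⟨hcc, φ, hφ₁, hφ₂⟩ := caseB h2 σ hσ c hB₁ hB₂ rfl hc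
    refine ⟨φ, ?_⟩
    have hx' : φ.symm (σ (φ (ArSing.x k (2 * n + 1)))) =
        algebraMap k _ c * ArSing.x k (2 * n + 1) :=
      eq_smul_x h2 (by rw [hφ₁, pi₂_x, sb_CX_X]) (by rw [hφ₂, pi₁_x, sb_CX_X])
    have hy' : φ.symm (σ (φ (ArSing.y k (2 * n + 1)))) =
        algebraMap k _ (-(c ^ (n + 1))) * ArSing.y k (2 * n + 1) :=
      eq_smul_y h2 (by rw [hφ₁, pi₂_y, map_neg, sb_CX_pow, map_neg, neg_mul])
        (by rw [hφ₂, pi₁_y, sb_CX_pow, map_neg, neg_mul, neg_neg])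
    rcases hpm hcc with hc1 | hc1
    · left
      rw [hx', hy', hc1, one_pow, map_neg, map_one]
      exact ⟨by ring, by ring⟩
    · rcases Nat.even_or_odd n with he | ho
      · right; left
        rw [hx', hy', hc1, Odd.neg_one_pow he.add_one, neg_neg, map_neg, map_one]
        exact ⟨by ring, by ring⟩
      · right; right
        rw [hx', hy', hc1, Even.neg_one_pow ho.add_one, map_neg, map_one]
        exact ⟨by ring, by ring⟩

end Groth.Agent.S14082
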