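import Groth.Statements.S14083
import Groth.Agent.R2.H64ArOdd

set_option autoImplicit false
universe u
open ArSing

namespace Groth.Agent.S14083

open Groth.Agent.R2.H64.ArSing Groth.Agent.R2.H64.PSSubst Groth.Agent.R2.H64.ArOdd
  Groth.Agent.R2.H64.ArMaps

section Aux

variable (k : Type u) [Field k]

/-- The automorphism `x ↦ -x`, `y ↦ y` of the node, exchanging the two branches. -/
lemma exists_flip : ∃ s : R k 0 ≃ₐ[k] R k 0,
    s (ArSing.x k (2 * 0 + 1)) = -ArSing.x k (2 * 0 + 1) ∧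
    s (ArSing.y k (2 * 0 + 1)) = ArSing.y k (2 * 0 + 1) := by
  have hrel : ArSing.y k (2 * 0 + 1) ^ 2 = (-ArSing.x k (2 * 0 + 1)) ^ (2 * 0 + 1 + 1) := by
    rw [y_sq k (2 * 0 + 1), map_pow, xMap_X]
    exact (Even.neg_pow (show Even (2 * 0 + 1 + 1) by decide) (ArSing.x k (2 * 0 + 1))).symm
  obtain ⟨s₀, hsx, hsy⟩ := exists_algHom_toAr k (2 * 0 + 1) (2 * 0 + 1)
    (-ArSing.x k (2 * 0 + 1)) (ArSing.y k (2 * 0 + 1)) (neg_mem (x_mem_max k _)) (y_mem_max k _) hrel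
  have hss : s₀.comp s₀ = AlgHom.id k _ := by
    apply algHom_ext_xy k (2 * 0 + 1) (IsLocalRing.maximalIdeal _) (iInf_max_pow k _)
    · rw [AlgHom.comp_apply, hsx, map_neg, hsx, neg_neg]; rfl
    · rw [AlgHom.comp_apply, hsy, hsy]; rfl
    · rw [AlgHom.comp_apply, hsx, map_neg, hsx, neg_neg]; exact x_mem_max k _
  exact ⟨AlgEquiv.ofAlgHom s₀ s₀ hss hss, hsx, hsy⟩

lemma sub_mem_span_X_pow_one {f g : PowerSeries k} (hf : PowerSeries.constantCoeff f = 0)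
    (hg : PowerSeries.constantCoeff g = 0) :
    f - g ∈ Ideal.span {(PowerSeries.X : PowerSeries k) ^ (0 + 1)} := by
  rw [zero_add, pow_one, mem_span_X_iff, map_sub, hf, hg, sub_zero]

theorem aux (h2 : (2 : k) ≠ 0) (σ : R k 0 ≃ₐ[k] R k 0) (hσ : ∀ a, σ (σ a) = a)
    (hne : σ ≠ AlgEquiv.refl) :
    ∃ φ : R k 0 ≃ₐ[k] R k 0,
      (φ.symm (σ (φ (ArSing.x k (2 * 0 + 1)))) = ArSing.x k (2 * 0 + 1) ∧
        φ.symm (σ (φ (ArSing.y k (2 * 0 + 1)))) = -ArSing.y k (2 * 0 + 1)) ∨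
      (φ.symm (σ (φ (ArSing.x k (2 * 0 + 1)))) = -ArSing.x k (2 * 0 + 1) ∧
        φ.symm (σ (φ (ArSing.y k (2 * 0 + 1)))) = -ArSing.y k (2 * 0 + 1)) ∨
      (φ.symm (σ (φ (ArSing.x k (2 * 0 + 1)))) = ArSing.y k (2 * 0 + 1) ∧
        φ.symm (σ (φ (ArSing.y k (2 * 0 + 1)))) = ArSing.x k (2 * 0 + 1)) := by
  have hF₁0 : PowerSeries.constantCoeff (pi₁ k 0 (σ (ArSing.x k (2 * 0 + 1)))) = 0 :=
    constantCoeff_pi₁_apply_x σ
  have hF₂0 : PowerSeries.constantCoeff (pi₂ k 0 (σ (ArSing.x k (2 * 0 + 1)))) = 0 :=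
    constantCoeff_pi₂_apply_x σ
  have hpm : ∀ c : k, c * c = 1 → c = 1 ∨ c = -1 := by
    intro c hcc
    have : (c - 1) * (c + 1) = 0 := by linear_combination hcc
    rcases mul_eq_zero.mp this with h | h
    · left; exact sub_eq_zero.mp h
    · right; exact eq_neg_of_add_eq_zero_left h
  -- images of `x`, `y`, `-x`, `-y` under the two branches
  have px₁ : pi₁ k 0 (ArSing.x k (2 * 0 + 1)) = PowerSeries.X := pi₁_x k 0
  have px₂ : pi₂ k 0 (ArSing.x k (2 * 0 + 1)) = PowerSeries.X := pi₂_x k 0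
  have py₁ : pi₁ k 0 (ArSing.y k (2 * 0 + 1)) = PowerSeries.X := by rw [pi₁_y, zero_add, pow_one]
  have py₂ : pi₂ k 0 (ArSing.y k (2 * 0 + 1)) = -PowerSeries.X := by rw [pi₂_y, zero_add, pow_one]
  rcases aut_cases h2 σ with ⟨hA₁, hA₂⟩ | ⟨hB₁, hB₂⟩
  · obtain ⟨hcc₁, hcc₂, φ, hφ₁, hφ₂⟩ := caseA h2 σ hσ _ _ hA₁ hA₂ rfl rfl
      (sub_mem_span_X_pow_one k (constantCoeff_lin _ hF₁0) (constantCoeff_lin _ hF₂0))
    set c₁ := PowerSeries.coeff 1 (pi₁ k 0 (σ (ArSing.x k (2 * 0 + 1)))) with hc₁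
    set c₂ := PowerSeries.coeff 1 (pi₂ k 0 (σ (ArSing.x k (2 * 0 + 1)))) with hc₂
    have ex₁ : pi₁ k 0 (φ.symm (σ (φ (ArSing.x k (2 * 0 + 1))))) = PowerSeries.C c₁ * PowerSeries.X := by
      rw [hφ₁, px₁, sb_CX_X]
    have ex₂ : pi₂ k 0 (φ.symm (σ (φ (ArSing.x k (2 * 0 + 1))))) = PowerSeries.C c₂ * PowerSeries.X := by
      rw [hφ₂, px₂, sb_CX_X]
    have ey₁ : pi₁ k 0 (φ.symm (σ (φ (ArSing.y k (2 * 0 + 1))))) = PowerSeries.C c₁ * PowerSeries.X := by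
      rw [hφ₁, py₁, sb_CX_X]
    have ey₂ : pi₂ k 0 (φ.symm (σ (φ (ArSing.y k (2 * 0 + 1))))) =
        -(PowerSeries.C c₂ * PowerSeries.X) := by
      rw [hφ₂, py₂, map_neg, sb_CX_X]
    rcases hpm c₁ hcc₁ with h₁ | h₁ <;> rcases hpm c₂ hcc₂ with h₂ | h₂
    · -- identity
      exfalso
      apply hne
      have key : ∀ z, φ.symm (σ (φ z)) = z := by
        intro z
        apply pi_injective h2
        · rw [hφ₁, h₁, map_one, one_mul, sb_X_eq_id]; rfl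
        · rw [hφ₂, h₂, map_one, one_mul, sb_X_eq_id]; rfl
      ext z
      have := key (φ.symm z)
      rw [AlgEquiv.apply_symm_apply] at this
      exact φ.symm.injective this
    · -- (1, -1): the swap
      refine ⟨φ, Or.inr (Or.inr ⟨?_, ?_⟩)⟩
      · apply pi_injective h2
        · rw [ex₁, py₁, h₁, map_one, one_mul]
        · rw [ex₂, py₂, h₂, map_neg, map_one, neg_one_mul]
      · apply pi_injective h2
        · rw [ey₁, px₁, h₁, map_one, one_mul]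
        · rw [ey₂, px₂, h₂, map_neg, map_one, neg_one_mul, neg_neg]
    · -- (-1, 1): conjugate further by the flip
      obtain ⟨s, hsx, hsy⟩ := exists_flip k
      have wx : φ.symm (σ (φ (ArSing.x k (2 * 0 + 1)))) = -ArSing.y k (2 * 0 + 1) := by
        apply pi_injective h2
        · rw [ex₁, map_neg, py₁, h₁, map_neg, map_one, neg_one_mul]
        · rw [ex₂, map_neg, py₂, h₂, map_one, one_mul, neg_neg]
      have wy : φ.symm (σ (φ (ArSing.y k (2 * 0 + 1)))) = -ArSing.x k (2 * 0 + 1) := by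
        apply pi_injective h2
        · rw [ey₁, map_neg, px₁, h₁, map_neg, map_one, neg_one_mul]
        · rw [ey₂, map_neg, px₂, h₂, map_one, one_mul]
      have hsx' : s.symm (ArSing.x k (2 * 0 + 1)) = -ArSing.x k (2 * 0 + 1) := by
        rw [AlgEquiv.symm_apply_eq, map_neg, hsx, neg_neg]
      have hsy' : s.symm (ArSing.y k (2 * 0 + 1)) = ArSing.y k (2 * 0 + 1) := by
        rw [AlgEquiv.symm_apply_eq, hsy]
      refine ⟨s.trans φ, Or.inr (Or.inr ⟨?_, ?_⟩)⟩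
      · change s.symm (φ.symm (σ (φ (s (ArSing.x k (2 * 0 + 1)))))) = _
        rw [hsx, map_neg, map_neg, map_neg, wx, neg_neg, hsy']
      · change s.symm (φ.symm (σ (φ (s (ArSing.y k (2 * 0 + 1)))))) = _
        rw [hsy, wy, map_neg, hsx', neg_neg]
    · -- (-1, -1)
      refine ⟨φ, Or.inr (Or.inl ⟨?_, ?_⟩)⟩
      · apply pi_injective h2
        · rw [ex₁, map_neg, px₁, h₁, map_neg, map_one, neg_one_mul]
        · rw [ex₂, map_neg, px₂, h₂, map_neg, map_one, neg_one_mul]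
      · apply pi_injective h2
        · rw [ey₁, map_neg, py₁, h₁, map_neg, map_one, neg_one_mul]
        · rw [ey₂, map_neg, py₂, h₂, map_neg, map_one, neg_one_mul]
  · -- branch-exchanging involutions
    set F₁ := pi₁ k 0 (σ (ArSing.x k (2 * 0 + 1))) with hF₁
    set F₂ := pi₂ k 0 (σ (ArSing.x k (2 * 0 + 1))) with hF₂
    have inv₁ : ∀ a, sb F₁ (sb F₂ a) = a := by
      intro a
      have := hB₁ (σ (ArSing.xMap k (2 * 0 + 1) a))
      rw [hσ, hB₂, pi₁_xMap] at this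
      exact this.symm
    have inv₂ : ∀ a, sb F₂ (sb F₁ a) = a := by
      intro a
      have := hB₂ (σ (ArSing.xMap k (2 * 0 + 1) a))
      rw [hσ, hB₁, pi₂_xMap] at this
      exact this.symm
    have hFF₁ : sb F₁ F₂ = PowerSeries.X := by
      have := inv₁ PowerSeries.X
      rwa [sb_X hF₂0] at this
    have hc₁ : PowerSeries.coeff 1 F₁ ≠ 0 := by
      intro h0
      have := coeff_one_sb hF₁0 F₂
      rw [hFF₁, PowerSeries.coeff_one_X, h0, zero_mul] at this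
      exact one_ne_zero this
    have hX0 : PowerSeries.constantCoeff (PowerSeries.X : PowerSeries k) = 0 :=
      PowerSeries.constantCoeff_X
    obtain ⟨φ, Q₁, Q₂, hQ₁0, hQ₂0, hQT₁, hQT₂, hφ₁, hφ₂, hψ₁, hψ₂⟩ :=
      exists_aut h2 F₁ PowerSeries.X hF₁0 hX0 hc₁
        (by rw [PowerSeries.coeff_one_X]; exact one_ne_zero)
        (sub_mem_span_X_pow_one k hF₁0 hX0)
    have hQ₂ : Q₂ = PowerSeries.X := by rw [← hQT₂, sb_X hQ₂0]
    have e₁ : ∀ z, pi₁ k 0 (φ.symm (σ (φ z))) = pi₂ k 0 z := by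
      intro z
      rw [hψ₁, hB₁, hφ₂, sb_X_eq_id, AlgHom.id_apply, sb_sb hQ₁0 hF₁0, hQT₁, sb_X_eq_id,
        AlgHom.id_apply]
    have e₂ : ∀ z, pi₂ k 0 (φ.symm (σ (φ z))) = pi₁ k 0 z := by
      intro z
      rw [hψ₂, hB₂, hφ₁, inv₂, hQ₂, sb_X_eq_id, AlgHom.id_apply]
    refine ⟨φ, Or.inl ⟨?_, ?_⟩⟩
    · apply pi_injective h2
      · rw [e₁, px₁, px₂]
      · rw [e₂, px₁, px₂]
    · apply pi_injective h2
      · rw [e₁, map_neg, py₁, py₂]
      · rw [e₂, map_neg, py₁, py₂, neg_neg]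

end Aux

/-- Over an algebraically closed field k of characteristic different from 2, every non-trivial k-algebra
involution σ of the node algebra A_1 = k[[x,y]]/(y^2 - x^2) is conjugate, by a k-algebra
automorphism φ of A_1, to one of the three involutions (x, y) ↦ (x, -y), (x, y) ↦ (-x, -y), (x, y) ↦
(y, x). -/
theorem result (k : Type u) [Field k] [IsAlgClosed k]
    (h2 : (2 : k) ≠ 0)
    (σ : ArSing.ring k 1 ≃ₐ[k] ArSing.ring k 1) (hσ : ∀ a, σ (σ a) = a) (hne : σ ≠ AlgEquiv.refl) :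
    ∃ φ : ArSing.ring k 1 ≃ₐ[k] ArSing.ring k 1,
      (φ.symm (σ (φ (ArSing.x k 1))) = ArSing.x k 1 ∧ φ.symm (σ (φ (ArSing.y k 1))) = -ArSing.y k 1) ∨
      (φ.symm (σ (φ (ArSing.x k 1))) = -ArSing.x k 1 ∧ φ.symm (σ (φ (ArSing.y k 1))) = -ArSing.y k 1) ∨
      (φ.symm (σ (φ (ArSing.x k 1))) = ArSing.y k 1 ∧ φ.symm (σ (φ (ArSing.y k 1))) = ArSing.x k 1) := by
  exact aux k h2 σ hσ hne

end Groth.Agent.S14083
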