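import Groth.Statements.S14087
import Groth.Agent.S14091

set_option autoImplicit false
universe u
open ArSing

namespace Groth.Agent.S14087

section Aux

variable (k : Type u) [Field k]

lemma isUnit_of_aug_ne_zero {C : Type*} [CommRing C] [Algebra k C] (ε : C →ₐ[k] k)
    (h : ∀ c, ε c = 0 → IsNilpotent c) (c : C) (hc : ε c ≠ 0) : IsUnit c := by
  have h1 : IsNilpotent (c - algebraMap k C (ε c)) := h _ (by simp)
  have h2 : IsUnit (algebraMap k C (ε c)) := (IsUnit.mk0 _ hc).map (algebraMap k C)
  have : c = algebraMap k C (ε c) + (c - algebraMap k C (ε c)) := by ring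
  rw [this]
  exact h1.isUnit_add_left_of_commute h2 (Commute.all _ _)

/-- A `k`-algebra with an augmentation whose kernel consists of nilpotent elements is local. -/
lemma isLocalRing_of_aug {C : Type*} [CommRing C] [Algebra k C] (ε : C →ₐ[k] k)
    (h : ∀ c, ε c = 0 → IsNilpotent c) : IsLocalRing C := by
  have : Nontrivial C := ε.toRingHom.domain_nontrivial
  refine IsLocalRing.of_isUnit_or_isUnit_one_sub_self fun c => ?_
  by_cases hc : ε c = 0
  · right
    apply isUnit_of_aug_ne_zero k ε h
    rw [map_sub, map_one, hc]; simp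
  · left; exact isUnit_of_aug_ne_zero k ε h c hc

/-- In a local principal ideal ring, an ideal generated by the image of an ideal `I` under a
faithfully flat ring map from `A` forces `I` to be principal. -/
lemma isPrincipal_of_faithfullyFlat {A B : Type*} [CommRing A] [CommRing B] [Algebra A B]
    [IsLocalRing B] [IsPrincipalIdealRing B] [Module.FaithfullyFlat A B]
    (hinj : Function.Injective (algebraMap A B)) (I : Ideal A) : I.IsPrincipal := by
  obtain ⟨b, hb⟩ := (IsPrincipalIdealRing.principal (I.map (algebraMap A B))).principal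
  have hb' : I.map (algebraMap A B) = Ideal.span {b} := hb
  by_cases hcase : ∀ a ∈ I, algebraMap A B a ∈ IsLocalRing.maximalIdeal B * Ideal.span {b}
  · have h1 : I.map (algebraMap A B) ≤ IsLocalRing.maximalIdeal B * Ideal.span {b} := by
      rw [Ideal.map_le_iff_le_comap]; intro a ha; exact hcase a ha
    rw [hb'] at h1
    have h2 : Ideal.span {b} = ⊥ :=
      Submodule.eq_bot_of_le_smul_of_le_jacobson_bot (IsLocalRing.maximalIdeal B) _
        (Submodule.fg_span_singleton b) h1
        (by rw [IsLocalRing.jacobson_eq_maximalIdeal _ bot_ne_top])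
    have h3 : I = ⊥ := by
      rw [← Ideal.comap_map_eq_self_of_faithfullyFlat (B := B) I, hb', h2]
      exact Ideal.comap_bot_of_injective _ hinj
    rw [h3]; exact bot_isPrincipal
  · push Not at hcase
    obtain ⟨a, ha, hnot⟩ := hcase
    have h1 : algebraMap A B a ∈ Ideal.span {b} := hb' ▸ Ideal.mem_map_of_mem _ ha
    rw [Ideal.mem_span_singleton'] at h1
    obtain ⟨c, hc⟩ := h1
    have hcu : IsUnit c := by
      by_contra hcn
      apply hnot
      rw [← hc]
      exact Ideal.mul_mem_mul hcn (Ideal.mem_span_singleton_self b)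
    have h4 : Ideal.span {algebraMap A B a} = Ideal.span {b} := by
      rw [← hc]; exact Ideal.span_singleton_mul_left_unit hcu b
    refine ⟨⟨a, ?_⟩⟩
    change I = Ideal.span {a}
    rw [← Ideal.comap_map_eq_self_of_faithfullyFlat (B := B) I, hb', ← h4, ← Set.image_singleton,
      ← Ideal.map_span, Ideal.comap_map_eq_self_of_faithfullyFlat]

end Aux

open Polynomial in
/-- Over an algebraically closed field k, if B = k[t]/(t^n) with n ≥ 1 is flat over a k-subalgebra A ⊆ B
(a finite flat extension of pointed finite algebras with curvilinear top), then A is curvilinear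
too: A is isomorphic as a k-algebra to k[t]/(t^m) for some m. -/
theorem result (k : Type u) [Field k] [IsAlgClosed k]
    (n : ℕ) (hn : 0 < n)
    (A : Subalgebra k (Polynomial k ⧸ Ideal.span {(X : Polynomial k) ^ n}))
    [Module.Flat A (Polynomial k ⧸ Ideal.span {(X : Polynomial k) ^ n})] :
    ∃ m : ℕ, Nonempty (A ≃ₐ[k] (Polynomial k ⧸ Ideal.span {(X : Polynomial k) ^ m})) := by
  classical
  let augB : (Polynomial k ⧸ Ideal.span {(X : Polynomial k) ^ n}) →ₐ[k] k :=
    Ideal.Quotient.liftₐ _ (Polynomial.aeval (0 : k)) (by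
      intro p hp
      rw [Ideal.mem_span_singleton] at hp
      obtain ⟨q, rfl⟩ := hp
      simp [hn.ne'])
  have hnilB : ∀ b : (Polynomial k ⧸ Ideal.span {(X : Polynomial k) ^ n}),
      augB b = 0 → IsNilpotent b := by
    intro b hb
    obtain ⟨p, rfl⟩ := Ideal.Quotient.mk_surjective b
    have h0 : Polynomial.aeval (0 : k) p = 0 := hb
    have hX : X ∣ p := by
      rw [Polynomial.X_dvd_iff, Polynomial.coeff_zero_eq_aeval_zero]
      exact h0
    obtain ⟨q, rfl⟩ := hX
    refine ⟨n, ?_⟩
    rw [← map_pow, mul_pow, Ideal.Quotient.eq_zero_iff_mem, Ideal.mem_span_singleton]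
    exact Dvd.intro _ rfl
  haveI : IsLocalRing (Polynomial k ⧸ Ideal.span {(X : Polynomial k) ^ n}) :=
    isLocalRing_of_aug k augB hnilB
  let augA : A →ₐ[k] k := augB.comp A.val
  have hnilA : ∀ a : A, augA a = 0 → IsNilpotent a := by
    intro a ha
    obtain ⟨m, hm⟩ := hnilB (a : _) ha
    exact ⟨m, Subtype.ext (by simpa using hm)⟩
  haveI : IsLocalRing A := isLocalRing_of_aug k augA hnilA
  haveI : IsLocalHom (algebraMap A (Polynomial k ⧸ Ideal.span {(X : Polynomial k) ^ n})) := by
    constructor
    intro a ha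
    apply isUnit_of_aug_ne_zero k augA hnilA
    intro h0
    have : IsUnit (augB (algebraMap A _ a)) := ha.map augB
    exact this.ne_zero h0
  have hflat : @Module.Flat A (Polynomial k ⧸ Ideal.span {(X : Polynomial k) ^ n}) _ _
      Algebra.toModule := ‹Module.Flat A (Polynomial k ⧸ Ideal.span {(X : Polynomial k) ^ n})›
  have hff : @Module.FaithfullyFlat A (Polynomial k ⧸ Ideal.span {(X : Polynomial k) ^ n}) _ _
      Algebra.toModule :=
    @Module.FaithfullyFlat.of_flat_of_isLocalHom A (Polynomial k ⧸ Ideal.span {(X : Polynomial k) ^ n})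
      _ _ _ _ _ hflat _
  haveI : IsPrincipalIdealRing (Polynomial k ⧸ Ideal.span {(X : Polynomial k) ^ n}) :=
    IsPrincipalIdealRing.of_surjective (Ideal.Quotient.mk _) Ideal.Quotient.mk_surjective
  have hne : (X : k[X]) ^ n ≠ 0 := pow_ne_zero _ Polynomial.X_ne_zero
  haveI : Module.Finite k (Polynomial k ⧸ Ideal.span {(X : Polynomial k) ^ n}) :=
    (AdjoinRoot.powerBasis hne).finite
  haveI : Module.Finite k A :=
    Module.Finite.of_injective A.val.toLinearMap Subtype.val_injective
  have hNk : IsNoetherian k A := inferInstance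
  haveI : IsNoetherianRing A := isNoetherian_of_tower k hNk
  have hprin : (IsLocalRing.maximalIdeal A).IsPrincipal :=
    @isPrincipal_of_faithfullyFlat A (Polynomial k ⧸ Ideal.span {(X : Polynomial k) ^ n}) _ _ _ _ _ hff
      Subtype.val_injective _
  have hcurv := IsLocalRing.finrank_cotangentSpace_le_one_iff.mpr hprin
  obtain ⟨e⟩ := Groth.Agent.S14091.result k A hcurv
  exact ⟨_, ⟨e⟩⟩

end Groth.Agent.S14087
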