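import Groth.Statements.S14093
import Groth.Agent.R2.H64ArSing

set_option autoImplicit false
universe u
open ArSing

namespace Groth.Agent.S14093

open Groth.Agent.R2.H64.ArSing

section Aux

variable (k : Type u) [Field k] (r : ℕ)
  (σ : ArSing.ring k r ≃ₐ[k] ArSing.ring k r) (hx : σ (ArSing.x k r) = ArSing.x k r)
  (hy : σ (ArSing.y k r) = -ArSing.y k r)

include hx in
lemma sigma_xMap (a : PowerSeries k) : σ (ArSing.xMap k r a) = ArSing.xMap k r a := by
  have h := algHom_ext_max k r ((σ : ArSing.ring k r →ₐ[k] ArSing.ring k r).comp (ArSing.xMap k r))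
    (ArSing.xMap k r)
    (by rw [AlgHom.comp_apply, xMap_X]; exact hx)
    (by rw [AlgHom.comp_apply, xMap_X]; change σ _ ∈ _; rw [hx]; exact x_mem_max k r)
  exact DFunLike.congr_fun h a

include hx hy in
lemma sigma_decomp (a b : PowerSeries k) :
    σ (ArSing.xMap k r a + ArSing.xMap k r b * ArSing.y k r) =
      ArSing.xMap k r a + ArSing.xMap k r (-b) * ArSing.y k r := by
  rw [map_add, map_mul, sigma_xMap k r σ hx, sigma_xMap k r σ hx, hy, map_neg]
  ring

lemma two_ne_zero_ps (h2 : (2 : k) ≠ 0) : (2 : PowerSeries k) ≠ 0 := by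
  intro h
  apply h2
  have := congrArg (PowerSeries.constantCoeff (R := k)) h
  rw [map_ofNat, map_zero] at this
  exact this

include hx hy in
lemma span_fixed (h2 : (2 : k) ≠ 0) :
    Ideal.span (Set.range fun a : ArSing.ring k r => σ a - a) = Ideal.span {ArSing.y k r} := by
  apply le_antisymm
  · rw [Ideal.span_le]
    rintro _ ⟨z, rfl⟩
    obtain ⟨a, b, rfl⟩ := exists_decomp k r z
    change σ _ - _ ∈ Ideal.span _
    rw [sigma_decomp k r σ hx hy, Ideal.mem_span_singleton]
    refine ⟨ArSing.xMap k r (-b - b), ?_⟩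
    simp only [map_neg, map_sub]
    ring
  · rw [Ideal.span_le, Set.singleton_subset_iff]
    have h : ArSing.y k r = algebraMap k (ArSing.ring k r) (-(2 : k)⁻¹) *
        (σ (ArSing.y k r) - ArSing.y k r) := by
      rw [hy, ← Algebra.smul_def]
      have : (-ArSing.y k r - ArSing.y k r) = (-(2 : k)) • ArSing.y k r := by
        rw [neg_smul, ofNat_smul_eq_nsmul, two_nsmul]; ring
      rw [this, smul_smul]
      simp [h2]
    rw [h]
    exact Ideal.mul_mem_left _ _ (Ideal.subset_span ⟨_, rfl⟩)

lemma y_mul_decomp (c d : PowerSeries k) :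
    (ArSing.xMap k r c + ArSing.xMap k r d * ArSing.y k r) * ArSing.y k r =
      ArSing.xMap k r (PowerSeries.X ^ (r + 1) * d) + ArSing.xMap k r c * ArSing.y k r := by
  have := mul_decomp k r c d 0 1
  simpa using this

lemma y_mem_nonZeroDivisors : ArSing.y k r ∈ nonZeroDivisors (ArSing.ring k r) := by
  rw [mem_nonZeroDivisors_iff_right]
  intro z hz
  obtain ⟨c, d, rfl⟩ := exists_decomp k r z
  rw [y_mul_decomp] at hz
  obtain ⟨h1, h2⟩ := decomp_unique k r _ _ hz
  have hd : d = 0 := by
    rcases mul_eq_zero.mp h1 with h | h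
    · exact absurd h (pow_ne_zero _ PowerSeries.X_ne_zero)
    · exact h
  rw [h2, hd]; simp

lemma xMap_mem_span_y_iff (a : PowerSeries k) :
    ArSing.xMap k r a ∈ Ideal.span {ArSing.y k r} ↔ PowerSeries.X ^ (r + 1) ∣ a := by
  rw [Ideal.mem_span_singleton']
  constructor
  · rintro ⟨w, hw⟩
    obtain ⟨c, d, rfl⟩ := exists_decomp k r w
    rw [y_mul_decomp] at hw
    have : ArSing.xMap k r a = ArSing.xMap k r a + ArSing.xMap k r 0 * ArSing.y k r := by simp
    rw [this] at hw
    obtain ⟨h1, _⟩ := decomp_ext k r hw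
    exact ⟨d, h1.symm⟩
  · rintro ⟨d, rfl⟩
    refine ⟨ArSing.xMap k r d * ArSing.y k r, ?_⟩
    rw [map_mul, ← y_sq]
    ring

end Aux

/-- For an algebraically closed field k of characteristic prime to 2 and to r+1 and the involution σ of
A_r = k[[x,y]]/(y^2 - x^(r+1)) with σ(x) = x, σ(y) = -y: the invariant subalgebra is k[[x]] (the
image of t ↦ x from k[[t]]), the inclusion k[[x]] → A_r is faithfully flat (flat, and the maximal
ideal of k[[t]] does not generate the unit ideal of A_r), and the fixed locus (the closed subscheme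
cut out by all σ(a) - a) is a Cartier divisor of length r + 1, i.e. its ideal is generated by one
nonzerodivisor and the quotient has length r + 1. -/
theorem result (k : Type u) [Field k] [IsAlgClosed k] (r : ℕ)
    (h2 : (2 : k) ≠ 0) (hr : ((r + 1 : ℕ) : k) ≠ 0)
    (σ : ArSing.ring k r ≃ₐ[k] ArSing.ring k r) (hx : σ (ArSing.x k r) = ArSing.x k r)
    (hy : σ (ArSing.y k r) = -ArSing.y k r) :
    (∀ a : ArSing.ring k r, σ a = a ↔ a ∈ (ArSing.xMap k r).range) ∧
    ((ArSing.xMap k r).toRingHom.Flat ∧
      Ideal.map (ArSing.xMap k r) (IsLocalRing.maximalIdeal (PowerSeries k)) ≠ ⊤) ∧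
    (∃ g : ArSing.ring k r, g ∈ nonZeroDivisors (ArSing.ring k r) ∧
      Ideal.span (Set.range fun a : ArSing.ring k r => σ a - a) = Ideal.span {g}) ∧
    Module.length (ArSing.ring k r)
      (ArSing.ring k r ⧸ Ideal.span (Set.range fun a : ArSing.ring k r => σ a - a)) = r + 1 := by
  refine ⟨?_, ⟨xMap_flat k r, ?_⟩, ⟨ArSing.y k r, y_mem_nonZeroDivisors k r, span_fixed k r σ hx hy h2⟩, ?_⟩
  · intro z
    obtain ⟨a, b, rfl⟩ := exists_decomp k r z
    rw [sigma_decomp k r σ hx hy]
    constructor
    · intro h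
      obtain ⟨_, hb⟩ := decomp_ext k r h
      have hb0 : b = 0 := by
        have h2b : (2 : PowerSeries k) * b = 0 := by
          rw [two_mul]; nth_rewrite 1 [← hb]; ring
        rcases mul_eq_zero.mp h2b with h | h
        · exact absurd h (two_ne_zero_ps k h2)
        · exact h
      rw [hb0]
      exact ⟨a, by simp⟩
    · rintro ⟨c, hc⟩
      have hc' : ArSing.xMap k r c + ArSing.xMap k r 0 * ArSing.y k r =
          ArSing.xMap k r a + ArSing.xMap k r b * ArSing.y k r := by
        rw [← hc]; simp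
      obtain ⟨_, hb⟩ := decomp_ext k r hc'
      rw [← hb]; simp
  · rw [PowerSeries.maximalIdeal_eq_span_X, Ideal.map_span, Set.image_singleton]
    intro h
    have hle : Ideal.span {(ArSing.xMap k r) PowerSeries.X} ≤
        IsLocalRing.maximalIdeal (ArSing.ring k r) := by
      rw [Ideal.span_le, Set.singleton_subset_iff, xMap_X]
      exact x_mem_max k r
    rw [h] at hle
    exact (IsLocalRing.maximalIdeal.isMaximal _).ne_top (top_le_iff.mp hle)
  · rw [span_fixed k r σ hx hy h2]
    have := length_quotient_eq_of_powerSeries k (Ideal.span {ArSing.y k r})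
      (ArSing.xMap k r).toRingHom (r + 1)
      (by
        intro z
        obtain ⟨a, b, rfl⟩ := exists_decomp k r z
        refine ⟨a, ?_⟩
        rw [Ideal.mem_span_singleton']
        exact ⟨ArSing.xMap k r b, by simp⟩)
      (fun a => xMap_mem_span_y_iff k r a)
    rw [this]
    push_cast
    rfl

end Groth.Agent.S14093
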