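import Groth.Statements.S14094
import Groth.Agent.R2.H64ArSing2

set_option autoImplicit false
universe u
open ArSing

namespace Groth.Agent.S14094

open Groth.Agent.R2.H64.ArSing

section Aux

variable (k : Type u) [Field k] (r r' : ℕ)
  (σ : ArSing.ring k r ≃ₐ[k] ArSing.ring k r) (hx : σ (ArSing.x k r) = -ArSing.x k r)
  (hy : σ (ArSing.y k r) = ArSing.y k r)
  (φ : ArSing.ring k r' →ₐ[k] ArSing.ring k r) (hφx : φ (ArSing.x k r') = ArSing.x k r ^ 2)
  (hφy : φ (ArSing.y k r') = ArSing.y k r)

/-- `decomp a b = a(x) + b(x) y`. -/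
noncomputable abbrev dc (r : ℕ) (a b : PowerSeries k) : ArSing.ring k r :=
  ArSing.xMap k r a + ArSing.xMap k r b * ArSing.y k r

include hx in
lemma sigma_xMap (a : PowerSeries k) :
    σ (ArSing.xMap k r a) = ArSing.xMap k r (PowerSeries.rescale (-1 : k) a) := by
  have := comp_xMap_eq k r r (σ : ArSing.ring k r →ₐ[k] ArSing.ring k r) (rescaleₐ (-1 : k))
    (by
      rw [rescaleₐ_apply, PowerSeries.rescale_neg_one_X, map_neg, xMap_X]
      exact hx)
    (by rw [rescaleₐ_apply, PowerSeries.rescale_neg_one_X]; simp) a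
  exact this

include hx hy in
lemma sigma_dc (a b : PowerSeries k) :
    σ (dc k r a b) = dc k r (PowerSeries.rescale (-1 : k) a) (PowerSeries.rescale (-1 : k) b) := by
  unfold dc
  rw [map_add, map_mul, sigma_xMap k r σ hx, sigma_xMap k r σ hx, hy]

include hφx in
lemma phi_xMap (a : PowerSeries k) :
    φ (ArSing.xMap k r' a) = ArSing.xMap k r (E2 k a) := by
  refine comp_xMap_eq k r r' φ (E2 k) ?_ ?_ a
  · rw [PowerSeries.expand_X, map_pow, xMap_X]; exact hφx
  · rw [PowerSeries.expand_X]; simp

include hφx hφy in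
lemma phi_dc (c d : PowerSeries k) : φ (dc k r' c d) = dc k r (E2 k c) (E2 k d) := by
  unfold dc
  rw [map_add, map_mul, phi_xMap k r r' φ hφx, phi_xMap k r r' φ hφx, hφy]

lemma dc_add (a b c d : PowerSeries k) : dc k r a b + dc k r c d = dc k r (a + c) (b + d) := by
  unfold dc; rw [map_add, map_add]; ring

lemma x_mul_dc (a b : PowerSeries k) :
    dc k r a b * ArSing.x k r = dc k r (PowerSeries.X * a) (PowerSeries.X * b) := by
  rw [mul_comm]; exact x_mul_decomp k r a b

include hx hy hφx hφy in
lemma sigma_comp_phi (w : ArSing.ring k r') : σ (φ w) = φ w := by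
  have key := algHom_ext_xy k r' (IsLocalRing.maximalIdeal (ArSing.ring k r)) (iInf_max_pow k r)
    ((σ : ArSing.ring k r →ₐ[k] ArSing.ring k r).comp φ) φ
    (by
      rw [AlgHom.comp_apply, hφx]
      change σ _ = _
      rw [map_pow, hx]; ring)
    (by
      rw [AlgHom.comp_apply, hφy]
      exact hy)
    (by
      rw [AlgHom.comp_apply, hφx]
      change σ _ ∈ _
      rw [map_pow, hx]
      exact Ideal.pow_mem_of_mem _ (neg_mem (x_mem_max k r)) 2 two_pos)
  exact DFunLike.congr_fun key w

include hx hy in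
lemma span_fixed (h2 : (2 : k) ≠ 0) :
    Ideal.span (Set.range fun a : ArSing.ring k r => σ a - a) = Ideal.span {ArSing.x k r} := by
  apply le_antisymm
  · rw [Ideal.span_le]
    rintro _ ⟨z, rfl⟩
    obtain ⟨a, b, rfl⟩ := exists_decomp k r z
    change σ (dc k r a b) - dc k r a b ∈ Ideal.span _
    rw [sigma_dc k r σ hx hy]
    have h1 : dc k r (PowerSeries.rescale (-1 : k) a) (PowerSeries.rescale (-1 : k) b) - dc k r a b =
        dc k r (PowerSeries.rescale (-1 : k) a - a) (PowerSeries.rescale (-1 : k) b - b) := by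
      unfold dc; rw [map_sub, map_sub]; ring
    rw [h1]
    unfold dc
    rw [decomp_mem_span_x_iff]
    have hdiv : ∀ c : PowerSeries k, PowerSeries.X ∣ PowerSeries.rescale (-1 : k) c - c := by
      intro c
      rw [PowerSeries.X_dvd_iff, map_sub, ← PowerSeries.coeff_zero_eq_constantCoeff_apply,
        ← PowerSeries.coeff_zero_eq_constantCoeff_apply, PowerSeries.coeff_rescale]
      simp
    exact ⟨hdiv a, hdiv b⟩
  · rw [Ideal.span_le, Set.singleton_subset_iff]
    have h : ArSing.x k r = algebraMap k (ArSing.ring k r) (-(2 : k)⁻¹) *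
        (σ (ArSing.x k r) - ArSing.x k r) := by
      rw [hx, ← Algebra.smul_def]
      have : (-ArSing.x k r - ArSing.x k r) = (-(2 : k)) • ArSing.x k r := by
        rw [neg_smul, ofNat_smul_eq_nsmul, two_nsmul]; ring
      rw [this, smul_smul]
      simp [h2]
    rw [h]
    exact Ideal.mul_mem_left _ _ (Ideal.subset_span ⟨_, rfl⟩)

end Aux

section Len

variable (k : Type u) [Field k] (r : ℕ)

/-- the map `k[[t]] → A_r`, `t ↦ y`. -/
noncomputable abbrev yMap : PowerSeries k →ₐ[k] ArSing.ring k r := ofElem k r (ArSing.y k r) (y_mem_max k r)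

lemma yMap_X : yMap k r PowerSeries.X = ArSing.y k r := ofElem_X k r _ _

lemma y_sq_mem : ArSing.y k r ^ 2 ∈ Ideal.span {ArSing.x k r} := by
  rw [y_sq, map_pow, xMap_X, pow_succ]
  exact Ideal.mul_mem_left _ _ (Ideal.subset_span rfl)

lemma yMap_sub_mem (a : PowerSeries k) :
    yMap k r a - dc k r (PowerSeries.C (PowerSeries.coeff 0 a)) (PowerSeries.C (PowerSeries.coeff 1 a)) ∈
      Ideal.span {ArSing.x k r} := by
  have h1 := PowerSeries.eq_X_mul_shift_add_const a
  set a₁ := (PowerSeries.mk fun p => PowerSeries.coeff (p + 1) a) with ha₁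
  have h2 := PowerSeries.eq_X_mul_shift_add_const a₁
  set a₂ := (PowerSeries.mk fun p => PowerSeries.coeff (p + 1) a₁) with ha₂
  have hc1 : PowerSeries.constantCoeff a₁ = PowerSeries.coeff 1 a := by
    rw [← PowerSeries.coeff_zero_eq_constantCoeff_apply, ha₁, PowerSeries.coeff_mk]
  have hc0 : PowerSeries.constantCoeff a = PowerSeries.coeff 0 a := by
    rw [PowerSeries.coeff_zero_eq_constantCoeff_apply]
  have hC : ∀ c : k, yMap k r (PowerSeries.C c) = ArSing.xMap k r (PowerSeries.C c) := by
    intro c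
    change yMap k r (algebraMap k _ c) = ArSing.xMap k r (algebraMap k _ c)
    rw [AlgHom.commutes, AlgHom.commutes]
  have h3 : yMap k r a = ArSing.y k r ^ 2 * yMap k r a₂ +
      dc k r (PowerSeries.C (PowerSeries.coeff 0 a)) (PowerSeries.C (PowerSeries.coeff 1 a)) := by
    conv_lhs => rw [h1, h2]
    rw [hc1, hc0]
    simp only [map_add, map_mul, yMap_X, hC]
    unfold dc
    ring
  rw [h3, add_sub_cancel_right]
  exact Ideal.mul_mem_right _ _ (y_sq_mem k r)

lemma length_quot_x :
    Module.length (ArSing.ring k r) (ArSing.ring k r ⧸ Ideal.span {ArSing.x k r}) = 2 := by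
  have := length_quotient_eq_of_powerSeries k (Ideal.span {ArSing.x k r}) (yMap k r).toRingHom 2
    (by
      intro z
      obtain ⟨a, b, rfl⟩ := exists_decomp k r z
      refine ⟨PowerSeries.C (PowerSeries.coeff 0 a) + PowerSeries.C (PowerSeries.coeff 0 b) * PowerSeries.X, ?_⟩
      have h := yMap_sub_mem k r
        (PowerSeries.C (PowerSeries.coeff 0 a) + PowerSeries.C (PowerSeries.coeff 0 b) * PowerSeries.X)
      have e0 : PowerSeries.coeff 0 (PowerSeries.C (PowerSeries.coeff 0 a) +
          PowerSeries.C (PowerSeries.coeff 0 b) * PowerSeries.X) = PowerSeries.coeff 0 a := by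
        simp
      have e1 : PowerSeries.coeff 1 (PowerSeries.C (PowerSeries.coeff 0 a) +
          PowerSeries.C (PowerSeries.coeff 0 b) * PowerSeries.X) = PowerSeries.coeff 0 b := by
        simp [PowerSeries.coeff_C]
      rw [e0, e1] at h
      have h' : dc k r a b - dc k r (PowerSeries.C (PowerSeries.coeff 0 a)) (PowerSeries.C (PowerSeries.coeff 0 b)) ∈
          Ideal.span {ArSing.x k r} := by
        have : dc k r a b - dc k r (PowerSeries.C (PowerSeries.coeff 0 a)) (PowerSeries.C (PowerSeries.coeff 0 b)) =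
            dc k r (a - PowerSeries.C (PowerSeries.coeff 0 a)) (b - PowerSeries.C (PowerSeries.coeff 0 b)) := by
          unfold dc; rw [map_sub, map_sub]; ring
        rw [this]
        unfold dc
        rw [decomp_mem_span_x_iff]
        constructor <;>
        · rw [PowerSeries.X_dvd_iff, map_sub]
          simp
      have := Ideal.sub_mem _ h' h
      convert this using 1
      change dc k r a b - yMap k r _ = _
      ring)
    (by
      intro a
      change yMap k r a ∈ _ ↔ _
      have h := yMap_sub_mem k r a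
      rw [PowerSeries.X_pow_dvd_iff]
      constructor
      · intro ha
        have h' := Ideal.sub_mem _ ha h
        rw [sub_sub_cancel] at h'
        unfold dc at h'
        rw [decomp_mem_span_x_iff] at h'
        obtain ⟨h0, h1⟩ := h'
        rw [PowerSeries.X_dvd_iff, PowerSeries.constantCoeff_C] at h0 h1
        intro m hm
        interval_cases m
        · exact h0
        · exact h1
      · intro ha
        have h0 := ha 0 (by norm_num)
        have h1 := ha 1 (by norm_num)
        rw [h0, h1] at h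
        unfold dc at h
        simpa using h)
  rw [this]; rfl

end Len

/-- K algebraically closed of characteristic prime to 2 and to r+1, r = 2m - 1 with m ≥ 2, σ the
involution x ↦ -x, y ↦ y of A_r = k[[x,y]]/(y^2 - x^(r+1)), and φ : A_(m-1) → A_r the k-algebra map
x ↦ x^2, y ↦ y. Then the invariant subalgebra of σ is the image of φ (so A_r^σ ≅ A_(m-1)), φ is
faithfully flat (flat, and the maximal ideal of A_(m-1) does not generate the unit ideal), and the
fixed locus of σ is a Cartier divisor of length 2: its ideal, generated by the elements σ(a) - a, is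
generated by one nonzerodivisor and has quotient of length 2. -/
theorem result (k : Type u) [Field k] [IsAlgClosed k] (m r : ℕ)
    (hm : 2 ≤ m) (hr : r = 2 * m - 1) (h2 : (2 : k) ≠ 0) (hr1 : ((r + 1 : ℕ) : k) ≠ 0)
    (σ : ArSing.ring k r ≃ₐ[k] ArSing.ring k r) (hx : σ (ArSing.x k r) = -ArSing.x k r)
    (hy : σ (ArSing.y k r) = ArSing.y k r)
    (φ : ArSing.ring k (m - 1) →ₐ[k] ArSing.ring k r) (hφx : φ (ArSing.x k (m - 1)) = ArSing.x k r ^ 2)
    (hφy : φ (ArSing.y k (m - 1)) = ArSing.y k r) :
    (∀ a : ArSing.ring k r, σ a = a ↔ a ∈ φ.range) ∧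
    (φ.toRingHom.Flat ∧ ∀ I : Ideal (ArSing.ring k (m - 1)), I.IsMaximal → Ideal.map φ I ≠ ⊤) ∧
    (∃ g : ArSing.ring k r, g ∈ nonZeroDivisors (ArSing.ring k r) ∧ Ideal.span (Set.range fun a : ArSing.ring k r => σ a - a) = Ideal.span {g}) ∧
    Module.length (ArSing.ring k r) (ArSing.ring k r ⧸ Ideal.span (Set.range fun a : ArSing.ring k r => σ a - a)) = 2 := by
  refine ⟨?_, ⟨?_, ?_⟩, ⟨ArSing.x k r, x_mem_nonZeroDivisors k r, span_fixed k r σ hx hy h2⟩, ?_⟩
  · intro z
    constructor
    · intro hz
      obtain ⟨a, b, rfl⟩ := exists_decomp k r z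
      change σ (dc k r a b) = dc k r a b at hz
      rw [sigma_dc k r σ hx hy] at hz
      obtain ⟨ha, hb⟩ := decomp_ext k r hz
      rw [rescale_neg_one_eq_self_iff h2] at ha hb
      refine ⟨dc k (m - 1) (evenPart a) (evenPart b), ?_⟩
      change φ (dc k (m - 1) _ _) = dc k r a b
      rw [phi_dc k r (m - 1) φ hφx hφy]
      have ea := even_add_odd a
      have eb := even_add_odd b
      rw [ha] at ea
      rw [hb] at eb
      simp only [map_zero, mul_zero, add_zero] at ea eb
      rw [← ea, ← eb]
    · rintro ⟨w, rfl⟩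
      exact sigma_comp_phi k r (m - 1) σ hx hy φ hφx hφy w
  · apply flat_of_decomp φ.toRingHom (ArSing.x k r)
    · intro z
      obtain ⟨a, b, rfl⟩ := exists_decomp k r z
      refine ⟨dc k (m - 1) (evenPart a) (evenPart b), dc k (m - 1) (oddPart a) (oddPart b), ?_⟩
      change dc k r a b = φ (dc k (m - 1) _ _) + φ (dc k (m - 1) _ _) * ArSing.x k r
      rw [phi_dc k r (m - 1) φ hφx hφy, phi_dc k r (m - 1) φ hφx hφy, x_mul_dc, dc_add,
        ← even_add_odd, ← even_add_odd]
    · intro u v huv
      obtain ⟨p, q, rfl⟩ := exists_decomp k (m - 1) u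
      obtain ⟨p', q', rfl⟩ := exists_decomp k (m - 1) v
      change φ (dc k (m - 1) p q) + φ (dc k (m - 1) p' q') * ArSing.x k r = 0 at huv
      rw [phi_dc k r (m - 1) φ hφx hφy, phi_dc k r (m - 1) φ hφx hφy, x_mul_dc, dc_add] at huv
      obtain ⟨h1, h2'⟩ := decomp_unique k r _ _ huv
      obtain ⟨hp, hp'⟩ := E2_add_X_E2_eq_zero h1
      obtain ⟨hq, hq'⟩ := E2_add_X_E2_eq_zero h2'
      rw [hp, hp', hq, hq']
      simp
  · intro I hI
    refine map_max_ne_top k r (m - 1) φ ?_ ?_ I hI
    · rw [hφx]; exact Ideal.pow_mem_of_mem _ (x_mem_max k r) 2 two_pos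
    · rw [hφy]; exact y_mem_max k r
  · rw [span_fixed k r σ hx hy h2]
    exact length_quot_x k r

end Groth.Agent.S14094
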