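import Groth.Statements.S14095
import Groth.Agent.R2.H64ArSing2

set_option autoImplicit false
universe u
open ArSing

namespace Groth.Agent.S14095

open Groth.Agent.R2.H64.ArSing

section Aux

variable (k : Type u) [Field k] (r r' : ℕ)
  (σ : ArSing.ring k r ≃ₐ[k] ArSing.ring k r) (hx : σ (ArSing.x k r) = -ArSing.x k r)
  (hy : σ (ArSing.y k r) = -ArSing.y k r)
  (φ : ArSing.ring k r' →ₐ[k] ArSing.ring k r) (hφx : φ (ArSing.x k r') = ArSing.x k r ^ 2)
  (hφy : φ (ArSing.y k r') = ArSing.x k r * ArSing.y k r)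

/-- `decomp a b = a(x) + b(x) y`. -/
noncomputable abbrev dc (r : ℕ) (a b : PowerSeries k) : ArSing.ring k r :=
  ArSing.xMap k r a + ArSing.xMap k r b * ArSing.y k r

include hx in
lemma sigma_xMap (a : PowerSeries k) :
    σ (ArSing.xMap k r a) = ArSing.xMap k r (PowerSeries.rescale (-1 : k) a) := by
  have := comp_xMap_eq k r r (σ : ArSing.ring k r →ₐ[k] ArSing.ring k r) (rescaleₐ (-1 : k))
    (by
      rw [rescaleₐ_apply, PowerSeries.rescale_neg_one_X, map_neg, xMap_X]
      exact hx)
    (by rw [rescaleₐ_apply, PowerSeries.rescale_neg_one_X]; simp) a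
  exact this

include hx hy in
lemma sigma_dc (a b : PowerSeries k) :
    σ (dc k r a b) = dc k r (PowerSeries.rescale (-1 : k) a) (-PowerSeries.rescale (-1 : k) b) := by
  unfold dc
  rw [map_add, map_mul, sigma_xMap k r σ hx, sigma_xMap k r σ hx, hy, map_neg]
  ring

include hφx in
lemma phi_xMap (a : PowerSeries k) :
    φ (ArSing.xMap k r' a) = ArSing.xMap k r (E2 k a) := by
  refine comp_xMap_eq k r r' φ (E2 k) ?_ ?_ a
  · rw [PowerSeries.expand_X, map_pow, xMap_X]; exact hφx
  · rw [PowerSeries.expand_X]; simp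

include hφx hφy in
lemma phi_dc (c d : PowerSeries k) :
    φ (dc k r' c d) = dc k r (E2 k c) (PowerSeries.X * E2 k d) := by
  unfold dc
  rw [map_add, map_mul, phi_xMap k r r' φ hφx, phi_xMap k r r' φ hφx, hφy, map_mul, xMap_X]
  ring

include hx hy hφx hφy in
lemma sigma_comp_phi (w : ArSing.ring k r') : σ (φ w) = φ w := by
  have key := algHom_ext_xy k r' (IsLocalRing.maximalIdeal (ArSing.ring k r)) (iInf_max_pow k r)
    ((σ : ArSing.ring k r →ₐ[k] ArSing.ring k r).comp φ) φ
    (by
      rw [AlgHom.comp_apply, hφx]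
      change σ _ = _
      rw [map_pow, hx]; ring)
    (by
      rw [AlgHom.comp_apply, hφy]
      change σ _ = _
      rw [map_mul, hx, hy]; ring)
    (by
      rw [AlgHom.comp_apply, hφx]
      change σ _ ∈ _
      rw [map_pow, hx]
      exact Ideal.pow_mem_of_mem _ (neg_mem (x_mem_max k r)) 2 two_pos)
  exact DFunLike.congr_fun key w

include hx hy in
lemma span_fixed (h2 : (2 : k) ≠ 0) :
    Ideal.span (Set.range fun a : ArSing.ring k r => σ a - a) =
      IsLocalRing.maximalIdeal (ArSing.ring k r) := by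
  apply le_antisymm
  · rw [Ideal.span_le]
    rintro _ ⟨z, rfl⟩
    obtain ⟨a, b, rfl⟩ := exists_decomp k r z
    change σ (dc k r a b) - dc k r a b ∈ _
    rw [sigma_dc k r σ hx hy]
    have h1 : dc k r (PowerSeries.rescale (-1 : k) a) (-PowerSeries.rescale (-1 : k) b) - dc k r a b =
        dc k r (PowerSeries.rescale (-1 : k) a - a) (-PowerSeries.rescale (-1 : k) b - b) := by
      unfold dc; rw [map_sub, map_sub]; ring
    rw [h1]
    unfold dc
    rw [SetLike.mem_coe, decomp_mem_max_iff, map_sub, ← PowerSeries.coeff_zero_eq_constantCoeff_apply,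
        ← PowerSeries.coeff_zero_eq_constantCoeff_apply, PowerSeries.coeff_rescale]
    simp
  · rw [maximalIdeal_eq_span, Ideal.span_le]
    have hgen : ∀ w : ArSing.ring k r, σ w = -w →
        w ∈ Ideal.span (Set.range fun a : ArSing.ring k r => σ a - a) := by
      intro w hw
      have h : w = algebraMap k (ArSing.ring k r) (-(2 : k)⁻¹) * (σ w - w) := by
        rw [hw, ← Algebra.smul_def]
        have : (-w - w) = (-(2 : k)) • w := by
          rw [neg_smul, ofNat_smul_eq_nsmul, two_nsmul]; ring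
        rw [this, smul_smul]
        simp [h2]
      rw [h]
      exact Ideal.mul_mem_left _ _ (Ideal.subset_span ⟨_, rfl⟩)
    rintro z (rfl | rfl)
    · exact hgen _ hx
    · exact hgen _ hy

lemma x_not_mem_span_y (hr : 1 ≤ r) : ArSing.x k r ∉ Ideal.span {ArSing.y k r} := by
  intro h
  rw [Ideal.mem_span_singleton'] at h
  obtain ⟨w, hw⟩ := h
  obtain ⟨c, d, rfl⟩ := exists_decomp k r w
  rw [y_mul_decomp] at hw
  have hx' : ArSing.x k r = ArSing.xMap k r PowerSeries.X + ArSing.xMap k r 0 * ArSing.y k r := by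
    rw [xMap_X]; simp
  rw [hx'] at hw
  obtain ⟨h1, _⟩ := decomp_ext k r hw
  obtain ⟨s, rfl⟩ : ∃ s, r = s + 1 := ⟨r - 1, by omega⟩
  have h2 : PowerSeries.X * (PowerSeries.X ^ (s + 1) * d) = PowerSeries.X * 1 := by
    have e : PowerSeries.X * (PowerSeries.X ^ (s + 1) * d) = PowerSeries.X ^ (s + 1 + 1) * d := by ring
    rw [e, h1, mul_one]
  have h3 := mul_left_cancel₀ PowerSeries.X_ne_zero h2
  have := congrArg (PowerSeries.constantCoeff (R := k)) h3
  simp at this

lemma max_not_principal (hr : 1 ≤ r) :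
    ¬ ∃ g : ArSing.ring k r, g ∈ nonZeroDivisors (ArSing.ring k r) ∧
      IsLocalRing.maximalIdeal (ArSing.ring k r) = Ideal.span {g} := by
  rintro ⟨g, hg, hmax⟩
  have hxm := x_mem_max k r
  have hym := y_mem_max k r
  rw [hmax, Ideal.mem_span_singleton'] at hxm hym
  obtain ⟨u, hu⟩ := hxm
  obtain ⟨v, hv⟩ := hym
  have hgm : g ∈ IsLocalRing.maximalIdeal (ArSing.ring k r) := by
    rw [hmax]; exact Ideal.subset_span rfl
  rw [maximalIdeal_eq_span, Ideal.mem_span_pair] at hgm
  obtain ⟨p, q, hpq⟩ := hgm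
  have h1 : (p * u + q * v - 1) * g = 0 := by
    have : (p * u + q * v) * g = g := by
      calc (p * u + q * v) * g = p * (u * g) + q * (v * g) := by ring
        _ = g := by rw [hu, hv, hpq]
    rw [sub_mul, this]; ring
  have h2 : p * u + q * v = 1 := by
    have := (mem_nonZeroDivisors_iff_right.mp hg) _ h1
    exact sub_eq_zero.mp this
  have hunit : IsUnit u ∨ IsUnit v := by
    by_contra hcon
    rw [not_or] at hcon
    have hu' : u ∈ IsLocalRing.maximalIdeal (ArSing.ring k r) := hcon.1
    have hv' : v ∈ IsLocalRing.maximalIdeal (ArSing.ring k r) := hcon.2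
    have : (1 : ArSing.ring k r) ∈ IsLocalRing.maximalIdeal (ArSing.ring k r) := by
      rw [← h2]
      exact Ideal.add_mem _ (Ideal.mul_mem_left _ _ hu') (Ideal.mul_mem_left _ _ hv')
    exact (IsLocalRing.maximalIdeal.isMaximal _).ne_top ((Ideal.eq_top_iff_one _).mpr this)
  rcases hunit with hu' | hv'
  · obtain ⟨u', hu''⟩ := hu'.exists_left_inv
    apply y_not_mem_span_x k r
    rw [Ideal.mem_span_singleton']
    refine ⟨v * u', ?_⟩
    rw [← hu, ← hv]
    calc v * u' * (u * g) = v * g * (u' * u) := by ring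
      _ = v * g := by rw [hu'', mul_one]
  · obtain ⟨v', hv''⟩ := hv'.exists_left_inv
    apply x_not_mem_span_y k r hr
    rw [Ideal.mem_span_singleton']
    refine ⟨u * v', ?_⟩
    rw [← hu, ← hv]
    calc u * v' * (v * g) = u * g * (v' * v) := by ring
      _ = u * g := by rw [hv'', mul_one]

include hφx hφy in
lemma phi_mem (z : ArSing.ring k r') (hz : z ∈ IsLocalRing.maximalIdeal (ArSing.ring k r')) :
    φ z ∈ Ideal.span {ArSing.x k r} * IsLocalRing.maximalIdeal (ArSing.ring k r) := by
  rw [maximalIdeal_eq_span, Ideal.mem_span_pair] at hz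
  obtain ⟨p, q, rfl⟩ := hz
  rw [map_add, map_mul, map_mul, hφx, hφy]
  refine Ideal.add_mem _ (Ideal.mul_mem_left _ _ ?_) (Ideal.mul_mem_left _ _ ?_)
  · rw [pow_two]
    exact Ideal.mul_mem_mul (Ideal.subset_span rfl) (x_mem_max k r)
  · exact Ideal.mul_mem_mul (Ideal.subset_span rfl) (y_mem_max k r)

/-- Equational criterion, for a relation with two terms along a flat ring map. -/
lemma exists_of_flat_of_rel {R S : Type*} [CommRing R] [CommRing S] (f : R →+* S) (hflat : f.Flat)
    (a b : R) (s t : S) (hrel : f a * s + f b * t = 0) :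
    ∃ (n : ℕ) (c d : Fin n → R) (yy : Fin n → S), s = ∑ j, f (c j) * yy j ∧
      t = ∑ j, f (d j) * yy j ∧ ∀ j, a * c j + b * d j = 0 := by
  algebraize [f]
  have hsm : ∀ (p : R) (q : S), p • q = f p * q := fun p q => by
    rw [Algebra.smul_def]; rfl
  let F : Fin 2 → R := ![a, b]
  let G : Fin 2 → S := ![s, t]
  have hrel' : ∑ i : Fin 2, F i • G i = 0 := by
    rw [Fin.sum_univ_two]
    simp only [F, G, Matrix.cons_val_zero, Matrix.cons_val_one, hsm]
    exact hrel
  obtain ⟨n, c, yy, hxy, ha⟩ :=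
    Module.Flat.isTrivialRelation_of_sum_smul_eq_zero (R := R) (M := S) (f := F) (x := G) hrel'
  refine ⟨n, c 0, c 1, yy, ?_, ?_, ?_⟩
  · have := hxy 0
    simpa only [F, G, Matrix.cons_val_zero, hsm] using this
  · have := hxy 1
    simpa only [F, G, Matrix.cons_val_one, Matrix.cons_val_zero, hsm] using this
  · intro j
    have := ha j
    rw [Fin.sum_univ_two] at this
    simpa only [F, G, Matrix.cons_val_zero, Matrix.cons_val_one] using this

include hφx hφy in
lemma not_flat : ¬ φ.toRingHom.Flat := by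
  intro hflat
  obtain ⟨n, c, d, yy, hx0, -, hcd⟩ := exists_of_flat_of_rel φ.toRingHom hflat
    (ArSing.y k r') (-ArSing.x k r') (ArSing.x k r) (ArSing.y k r) (by
      change φ _ * _ + φ _ * _ = 0
      rw [map_neg, hφx, hφy]; ring)
  have ha0 : ∀ j, c j ∈ IsLocalRing.maximalIdeal (ArSing.ring k r') := by
    intro j
    by_contra hcon
    have hu : IsUnit (c j) := by
      by_contra h; exact hcon h
    obtain ⟨u', hu'⟩ := hu.exists_left_inv
    have hj := hcd j
    apply y_not_mem_span_x k r'
    rw [Ideal.mem_span_singleton']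
    refine ⟨d j * u', ?_⟩
    have : ArSing.y k r' * c j = ArSing.x k r' * d j := by
      linear_combination hj
    calc d j * u' * ArSing.x k r' = u' * (ArSing.x k r' * d j) := by ring
      _ = u' * (ArSing.y k r' * c j) := by rw [this]
      _ = ArSing.y k r' * (u' * c j) := by ring
      _ = ArSing.y k r' := by rw [hu', mul_one]
  have hxmem : ArSing.x k r ∈ Ideal.span {ArSing.x k r} * IsLocalRing.maximalIdeal (ArSing.ring k r) := by
    have hsum : (∑ j, φ.toRingHom (c j) * yy j) ∈
        Ideal.span {ArSing.x k r} * IsLocalRing.maximalIdeal (ArSing.ring k r) := by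
      refine Ideal.sum_mem _ fun j _ => ?_
      exact Ideal.mul_mem_right _ _ (phi_mem k r r' φ hφx hφy _ (ha0 j))
    rwa [← hx0] at hsum
  rw [Ideal.mem_span_singleton_mul] at hxmem
  obtain ⟨w, hw, hxw⟩ := hxmem
  have h1 : ArSing.x k r * (w - 1) = 0 := by rw [mul_sub, hxw]; ring
  have h2 := (mem_nonZeroDivisors_iff_left.mp (x_mem_nonZeroDivisors k r)) _ h1
  have h3 : w = 1 := sub_eq_zero.mp h2
  rw [h3] at hw
  exact (IsLocalRing.maximalIdeal.isMaximal _).ne_top ((Ideal.eq_top_iff_one _).mpr hw)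

lemma length_quot_max :
    Module.length (ArSing.ring k r) (ArSing.ring k r ⧸ IsLocalRing.maximalIdeal (ArSing.ring k r)) = 1 := by
  have := length_quotient_eq_of_powerSeries k (IsLocalRing.maximalIdeal (ArSing.ring k r))
    (ArSing.xMap k r).toRingHom 1
    (by
      intro z
      obtain ⟨a, b, rfl⟩ := exists_decomp k r z
      refine ⟨a, ?_⟩
      change ArSing.xMap k r a + ArSing.xMap k r b * ArSing.y k r - ArSing.xMap k r a ∈ _
      rw [add_sub_cancel_left]
      exact Ideal.mul_mem_left _ _ (y_mem_max k r))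
    (by
      intro a
      change ArSing.xMap k r a ∈ _ ↔ _
      rw [mem_max_iff_aug, aug_xMap, pow_one, PowerSeries.X_dvd_iff])
  rw [this]; rfl

end Aux

/-- K algebraically closed of characteristic prime to 2 and to r+1, r = 2m - 1 with m ≥ 1, σ the
involution x ↦ -x, y ↦ -y of A_r = k[[x,y]]/(y^2 - x^(r+1)), and φ : A_m → A_r the k-algebra map x ↦
x^2, y ↦ xy. Then the invariant subalgebra of σ is the image of φ and φ is injective (so A_r^σ ≅
A_m), φ is not flat, and the fixed locus of σ is the reduced closed point and is not a Cartier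
divisor: the ideal generated by the elements σ(a) - a has quotient of length 1 and is not generated
by one nonzerodivisor. -/
theorem result (k : Type u) [Field k] [IsAlgClosed k] (m r : ℕ)
    (hm : 1 ≤ m) (hr : r = 2 * m - 1) (h2 : (2 : k) ≠ 0) (hr1 : ((r + 1 : ℕ) : k) ≠ 0)
    (σ : ArSing.ring k r ≃ₐ[k] ArSing.ring k r) (hx : σ (ArSing.x k r) = -ArSing.x k r)
    (hy : σ (ArSing.y k r) = -ArSing.y k r)
    (φ : ArSing.ring k m →ₐ[k] ArSing.ring k r) (hφx : φ (ArSing.x k m) = ArSing.x k r ^ 2)
    (hφy : φ (ArSing.y k m) = ArSing.x k r * ArSing.y k r) :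
    (∀ a : ArSing.ring k r, σ a = a ↔ a ∈ φ.range) ∧ Function.Injective φ ∧
    ¬ φ.toRingHom.Flat ∧
    Module.length (ArSing.ring k r) (ArSing.ring k r ⧸ Ideal.span (Set.range fun a : ArSing.ring k r => σ a - a)) = 1 ∧
    ¬ (∃ g : ArSing.ring k r, g ∈ nonZeroDivisors (ArSing.ring k r) ∧ Ideal.span (Set.range fun a : ArSing.ring k r => σ a - a) = Ideal.span {g}) := by
  have hr1' : 1 ≤ r := by omega
  refine ⟨?_, ?_, not_flat k r m φ hφx hφy, ?_, ?_⟩
  · intro z
    constructor
    · intro hz
      obtain ⟨a, b, rfl⟩ := exists_decomp k r z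
      change σ (dc k r a b) = dc k r a b at hz
      rw [sigma_dc k r σ hx hy] at hz
      obtain ⟨ha, hb⟩ := decomp_ext k r hz
      rw [rescale_neg_one_eq_self_iff h2] at ha
      have hb' : PowerSeries.rescale (-1 : k) b = -b := neg_eq_iff_eq_neg.mp hb
      rw [rescale_neg_one_eq_neg_iff h2] at hb'
      refine ⟨dc k m (evenPart a) (oddPart b), ?_⟩
      change φ (dc k m _ _) = dc k r a b
      rw [phi_dc k r m φ hφx hφy]
      have ea := even_add_odd a
      have eb := even_add_odd b
      rw [ha] at ea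
      rw [hb'] at eb
      simp only [map_zero, mul_zero, add_zero, zero_add] at ea eb
      rw [← ea, ← eb]
    · rintro ⟨w, rfl⟩
      exact sigma_comp_phi k r m σ hx hy φ hφx hφy w
  · rw [injective_iff_map_eq_zero]
    intro w hw
    obtain ⟨c, d, rfl⟩ := exists_decomp k m w
    change φ (dc k m c d) = 0 at hw
    rw [phi_dc k r m φ hφx hφy] at hw
    obtain ⟨h1, h2'⟩ := decomp_unique k r _ _ hw
    have hc : c = 0 := by
      have : E2 k c + PowerSeries.X * E2 k 0 = 0 := by rw [h1]; simp
      exact (E2_add_X_E2_eq_zero this).1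
    have hd : d = 0 := by
      have : E2 k 0 + PowerSeries.X * E2 k d = 0 := by rw [h2']; simp
      exact (E2_add_X_E2_eq_zero this).2
    rw [hc, hd]; simp
  · rw [span_fixed k r σ hx hy h2]
    exact length_quot_max k r
  · rw [span_fixed k r σ hx hy h2]
    exact max_not_principal k r hr1'

end Groth.Agent.S14095
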