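import Groth.Statements.S14096
import Groth.Agent.R2.H64Node

set_option autoImplicit false
universe u
open ArSing

namespace Groth.Agent.S14096

open Groth.Agent.R2.H64.ArSing Groth.Agent.R2.H64.Node

section Aux

variable (k : Type u) [Field k] (h2 : (2 : k) ≠ 0)
  (σ : ArSing.ring k 1 ≃ₐ[k] ArSing.ring k 1) (hx : σ (ArSing.x k 1) = ArSing.y k 1)
  (hy : σ (ArSing.y k 1) = ArSing.x k 1)
  (φ : ArSing.ring k 1 →ₐ[k] ArSing.ring k 1)
  (hφu : φ (ArSing.x k 1 + ArSing.y k 1) = ArSing.x k 1 + ArSing.y k 1)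
  (hφv : φ (ArSing.y k 1 - ArSing.x k 1) = (ArSing.y k 1 - ArSing.x k 1) ^ 2)

/-- The constant `1/2`. -/
noncomputable abbrev c2 : A k := algebraMap k (A k) (2⁻¹ : k)

/-- `Q(t) ↦ Q(-2 t^2)`. -/
noncomputable abbrev θ : PowerSeries k →ₐ[k] PowerSeries k := (E2 k).comp (rescaleₐ (-2 : k))

include h2 in
lemma two_mul_c2 : (2 : A k) * c2 k = 1 := by
  have : (2 : A k) = algebraMap k (A k) 2 := (map_ofNat _ 2).symm
  rw [this, ← map_mul, mul_inv_cancel₀ h2, map_one]

include h2 in
lemma x_eq : xx k = c2 k * (uu k - vv k) := by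
  have := two_mul_c2 k h2
  linear_combination (-(xx k)) * this

include h2 in
lemma y_eq : yy k = c2 k * (uu k + vv k) := by
  have := two_mul_c2 k h2
  linear_combination (-(yy k)) * this

include h2 hφu hφv in
lemma phi_x : φ (xx k) = c2 k * (uu k - vv k ^ 2) := by
  conv_lhs => rw [x_eq k h2]
  rw [map_mul, map_sub, hφu, hφv]
  congr 1
  exact φ.commutes _

include h2 hφu hφv in
lemma phi_y : φ (yy k) = c2 k * (uu k + vv k ^ 2) := by
  conv_lhs => rw [y_eq k h2]
  rw [map_mul, map_add, hφu, hφv]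
  congr 1
  exact φ.commutes _

include hx hy in
lemma sigma_u : σ (uu k) = uu k := by rw [map_add, hx, hy]; ring

include hx hy in
lemma sigma_v : σ (vv k) = - vv k := by rw [map_sub, hx, hy]; ring

include hx in
lemma u_mul_sigma_xM (P : PowerSeries k) : uu k * σ (xM k P) = uu k * xM k P := by
  have key := mul_algHom_eq (u_mul_v k) ((σ : A k →ₐ[k] A k).comp (xM k)) (xM k) ?_ ?_ P
  · rw [AlgHom.comp_apply] at key
    exact key
  · rw [AlgHom.comp_apply, xMap_X]
    change σ (ArSing.x k 1) - ArSing.x k 1 ∈ _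
    rw [hx]
    exact Ideal.subset_span rfl
  · rw [AlgHom.comp_apply, xMap_X]
    change σ (ArSing.x k 1) ∈ _
    rw [hx]
    exact y_mem_max k 1

include hx in
lemma v_mul_sigma_xM (Q : PowerSeries k) :
    vv k * σ (xM k Q) = vv k * xM k (PowerSeries.rescale (-1 : k) Q) := by
  have key := mul_algHom_eq (v_mul_u k) ((σ : A k →ₐ[k] A k).comp (xM k))
    ((xM k).comp (rescaleₐ (-1 : k))) ?_ ?_ Q
  · rw [AlgHom.comp_apply, AlgHom.comp_apply, rescaleₐ_apply] at key
    exact key
  · rw [AlgHom.comp_apply, AlgHom.comp_apply, xMap_X, rescaleₐ_apply,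
      PowerSeries.rescale_neg_one_X, map_neg, xMap_X]
    change σ (ArSing.x k 1) - -ArSing.x k 1 ∈ _
    rw [hx]
    have : ArSing.y k 1 - -ArSing.x k 1 = uu k := by ring
    rw [this]
    exact Ideal.subset_span rfl
  · rw [AlgHom.comp_apply, xMap_X]
    change σ (ArSing.x k 1) ∈ _
    rw [hx]
    exact y_mem_max k 1

include hx hy in
lemma sigma_N (c : k) (P Q : PowerSeries k) :
    σ (N k c P Q) = N k c P (-PowerSeries.rescale (-1 : k) Q) := by
  unfold N
  have h1 := u_mul_sigma_xM k σ hx P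
  have h3 := v_mul_sigma_xM k σ hx Q
  rw [map_add, map_add, map_mul, map_mul, AlgEquiv.commutes, sigma_u k σ hx hy, sigma_v k σ hx hy,
    map_neg]
  linear_combination h1 - h3

include h2 hφu hφv in
lemma phi_x_mem : φ (xx k) ∈ IsLocalRing.maximalIdeal (A k) := by
  rw [phi_x k h2 φ hφu hφv]
  exact Ideal.mul_mem_left _ _ (Ideal.sub_mem _ (u_mem_max k)
    (Ideal.pow_mem_of_mem _ (v_mem_max k) 2 two_pos))

include h2 hφu hφv in
lemma u_mul_phi_xM (P : PowerSeries k) : uu k * φ (xM k P) = uu k * xM k P := by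
  have key := mul_algHom_eq (u_mul_v k) (φ.comp (xM k)) (xM k) ?_ ?_ P
  · rw [AlgHom.comp_apply] at key
    exact key
  · rw [AlgHom.comp_apply, xMap_X, Ideal.mem_span_singleton']
    refine ⟨c2 k * (1 - vv k), ?_⟩
    change _ = φ (xx k) - xx k
    rw [phi_x k h2 φ hφu hφv]
    have e := x_eq k h2
    linear_combination e
  · rw [AlgHom.comp_apply, xMap_X]
    exact phi_x_mem k h2 φ hφu hφv

lemma theta_X : θ k PowerSeries.X = PowerSeries.C (-2 : k) * PowerSeries.X ^ 2 := by
  rw [AlgHom.comp_apply, rescaleₐ_apply, PowerSeries.rescale_X, map_mul, PowerSeries.expand_C,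
    PowerSeries.expand_X]

lemma xM_theta_X : xM k (θ k PowerSeries.X) = -2 * xx k ^ 2 := by
  rw [theta_X, map_mul, map_pow, xMap_X, xM_C, map_neg, map_ofNat]

include h2 hφu hφv in
lemma v_mul_phi_xM (Q : PowerSeries k) : vv k * φ (xM k Q) = vv k * xM k (θ k Q) := by
  have key := mul_algHom_eq (v_mul_u k) (φ.comp (xM k)) ((xM k).comp (θ k)) ?_ ?_ Q
  · rw [AlgHom.comp_apply, AlgHom.comp_apply] at key
    exact key
  · rw [AlgHom.comp_apply, AlgHom.comp_apply, xMap_X, Ideal.mem_span_singleton']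
    refine ⟨c2 k + xx k, ?_⟩
    change _ = φ (xx k) - xM k (θ k PowerSeries.X)
    rw [phi_x k h2 φ hφu hφv, xM_theta_X]
    linear_combination (c2 k) * v_sq k + (-(xx k) * vv k) * two_mul_c2 k h2
  · rw [AlgHom.comp_apply, xMap_X]
    exact phi_x_mem k h2 φ hφu hφv

include h2 hφu hφv in
lemma phi_N (c : k) (P Q : PowerSeries k) :
    φ (N k c P Q) = N k c P (-2 * PowerSeries.X * θ k Q) := by
  unfold N
  have e1 : φ (vv k) * φ (xM k Q) = vv k * (vv k * xM k (θ k Q)) := by
    rw [hφv, pow_two, mul_assoc, v_mul_phi_xM k h2 φ hφu hφv]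
  rw [map_add, map_add, map_mul, map_mul, φ.commutes, e1, hφu, u_mul_phi_xM k h2 φ hφu hφv,
    map_mul, map_mul, map_neg, map_ofNat, xMap_X]
  linear_combination (xM k (θ k Q)) * v_sq k

include h2 hx hy hφu hφv in
lemma sigma_comp_phi (w : A k) : σ (φ w) = φ w := by
  have hv2 : σ (vv k ^ 2) = vv k ^ 2 := by rw [map_pow, sigma_v k σ hx hy]; ring
  have hc : σ (c2 k) = c2 k := σ.commutes _
  have key := algHom_ext_xy k 1 (IsLocalRing.maximalIdeal (A k)) (iInf_max_pow k 1)
    ((σ : A k →ₐ[k] A k).comp φ) φ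
    (by
      rw [AlgHom.comp_apply]
      change σ (φ (xx k)) = φ (xx k)
      rw [phi_x k h2 φ hφu hφv, map_mul, map_sub, hc, hv2, sigma_u k σ hx hy])
    (by
      rw [AlgHom.comp_apply]
      change σ (φ (yy k)) = φ (yy k)
      rw [phi_y k h2 φ hφu hφv, map_mul, map_add, hc, hv2, sigma_u k σ hx hy])
    (by
      rw [AlgHom.comp_apply]
      change σ (φ (xx k)) ∈ _
      rw [phi_x k h2 φ hφu hφv, map_mul, map_sub, hc, hv2, sigma_u k σ hx hy]
      exact Ideal.mul_mem_left _ _ (Ideal.sub_mem _ (u_mem_max k)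
        (Ideal.pow_mem_of_mem _ (v_mem_max k) 2 two_pos)))
  exact DFunLike.congr_fun key w

include h2 in
lemma theta_injective {Q : PowerSeries k} (h : θ k Q = 0) : Q = 0 := by
  rw [AlgHom.comp_apply, rescaleₐ_apply] at h
  have h1 : E2 k (PowerSeries.rescale (-2 : k) Q) + PowerSeries.X * E2 k 0 = 0 := by
    rw [h]; simp
  have h3 := (E2_add_X_E2_eq_zero h1).1
  have hne : (-2 : k) ≠ 0 := neg_ne_zero.mpr h2
  apply PowerSeries.rescale_injective hne
  rw [h3, map_zero]

include h2 in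
/-- Every `X * E2 W` is of the form `-2 X θ(Q')`. -/
lemma exists_theta (W : PowerSeries k) :
    ∃ Q' : PowerSeries k, -2 * PowerSeries.X * θ k Q' = PowerSeries.X * E2 k W := by
  have hne : (-2 : k) ≠ 0 := neg_ne_zero.mpr h2
  refine ⟨PowerSeries.rescale ((-2 : k)⁻¹) (PowerSeries.C ((-2 : k)⁻¹) * W), ?_⟩
  rw [AlgHom.comp_apply, rescaleₐ_apply, PowerSeries.rescale_rescale, inv_mul_cancel₀ hne,
    PowerSeries.rescale_one, RingHom.id_apply, map_mul, PowerSeries.expand_C]
  have hC : (-2 : PowerSeries k) * PowerSeries.C ((-2 : k)⁻¹) = 1 := by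
    have : (-2 : PowerSeries k) = PowerSeries.C (-2 : k) := by
      rw [map_neg, map_ofNat]
    rw [this, ← map_mul, mul_inv_cancel₀ hne, map_one]
  linear_combination (PowerSeries.X * E2 k W) * hC

include h2 hx hy in
lemma span_fixed :
    Ideal.span (Set.range fun a : A k => σ a - a) = Ideal.span {vv k} := by
  apply le_antisymm
  · rw [Ideal.span_le]
    rintro _ ⟨z, rfl⟩
    obtain ⟨c, P, Q, rfl⟩ := exists_N h2 z
    change σ (N k c P Q) - N k c P Q ∈ Ideal.span {vv k}
    rw [sigma_N k σ hx hy, N_sub, N_mem_span_v_iff h2]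
    exact ⟨sub_self _, sub_self _⟩
  · rw [Ideal.span_le, Set.singleton_subset_iff]
    have hw := sigma_v k σ hx hy
    have h : vv k = algebraMap k (A k) (-(2 : k)⁻¹) * (σ (vv k) - vv k) := by
      rw [hw, ← Algebra.smul_def]
      have : (-vv k - vv k) = (-(2 : k)) • vv k := by
        rw [neg_smul, ofNat_smul_eq_nsmul, two_nsmul]; ring
      rw [this, smul_smul]
      simp [h2]
    rw [h]
    exact Ideal.mul_mem_left _ _ (Ideal.subset_span ⟨_, rfl⟩)

include h2 hφu hφv in
lemma not_flat : ¬ φ.toRingHom.Flat := by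
  intro hflat
  obtain ⟨n, c, yy', hv, hc⟩ := exists_of_flat_of_rel₁ φ.toRingHom hflat (uu k) (vv k) (by
    change φ (uu k) * vv k = 0
    rw [hφu]; exact u_mul_v k)
  have hmem : vv k ∈ Ideal.span {vv k ^ 2} := by
    have hsum : (∑ j, φ.toRingHom (c j) * yy' j) ∈ Ideal.span {vv k ^ 2} := by
      refine Ideal.sum_mem _ fun j _ => ?_
      refine Ideal.mul_mem_right _ _ ?_
      have hj := mem_span_v_of_u_mul_eq_zero h2 (hc j)
      rw [Ideal.mem_span_singleton'] at hj
      obtain ⟨w, hw⟩ := hj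
      change φ (c j) ∈ _
      rw [← hw, map_mul, hφv]
      exact Ideal.mul_mem_left _ _ (Ideal.subset_span rfl)
    rwa [← hv] at hsum
  rw [Ideal.mem_span_singleton'] at hmem
  obtain ⟨W, hW⟩ := hmem
  have h1 : vv k * (1 - W * vv k) = 0 := by
    linear_combination -hW
  have hu : IsUnit (1 - W * vv k) :=
    IsLocalRing.isUnit_one_sub_self_of_mem_nonunits _ (Ideal.mul_mem_left _ _ (v_mem_max k))
  have := (hu.mul_left_eq_zero).mp h1
  exact v_ne_zero h2 this

end Aux

/-- K algebraically closed of characteristic ≠ 2, σ the involution of the node algebra A_1 =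
k[[x,y]]/(y^2 - x^2) exchanging x and y, and φ : A_1 → A_1 the k-algebra map with φ(x + y) = x + y
and φ(y - x) = (y - x)^2 (in the branch coordinates u = x + y, v = y - x with uv = 0: u ↦ u, v ↦
v^2). Then the invariant subalgebra of σ is the image of φ and φ is injective (so A_1^σ ≅ A_1), and
the fixed locus of σ is the branch v = 0: the ideal generated by the elements σ(a) - a is the ideal
(y - x), a minimal prime ideal generated by a zero-divisor (so not a Cartier divisor). Moreover φ is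
not flat. (The published statement asserts that this extension is faithfully flat; it is not: as a
module over the invariant subalgebra B = k[[u,w]]/(uw), w = v^2, A_1 is B ⊕ (B/uB)·v, and B/uB is
not flat over B — equivalently the fibre length jumps from 1 on the branch w = 0 to 2 at the closed
point.) -/
theorem result (k : Type u) [Field k] [IsAlgClosed k]
    (h2 : (2 : k) ≠ 0)
    (σ : ArSing.ring k 1 ≃ₐ[k] ArSing.ring k 1) (hx : σ (ArSing.x k 1) = ArSing.y k 1)
    (hy : σ (ArSing.y k 1) = ArSing.x k 1)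
    (φ : ArSing.ring k 1 →ₐ[k] ArSing.ring k 1) (hφu : φ (ArSing.x k 1 + ArSing.y k 1) = ArSing.x k 1 + ArSing.y k 1)
    (hφv : φ (ArSing.y k 1 - ArSing.x k 1) = (ArSing.y k 1 - ArSing.x k 1) ^ 2) :
    (∀ a : ArSing.ring k 1, σ a = a ↔ a ∈ φ.range) ∧ Function.Injective φ ∧
    Ideal.span (Set.range fun a : ArSing.ring k 1 => σ a - a) = Ideal.span {ArSing.y k 1 - ArSing.x k 1} ∧
    (ArSing.y k 1 - ArSing.x k 1) ∉ nonZeroDivisors (ArSing.ring k 1) ∧
    Ideal.span {ArSing.y k 1 - ArSing.x k 1} ∈ minimalPrimes (ArSing.ring k 1) ∧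
    ¬ φ.toRingHom.Flat := by
  refine ⟨?_, ?_, span_fixed k h2 σ hx hy, ?_, span_v_mem_minimalPrimes h2,
    not_flat k h2 φ hφu hφv⟩
  · intro z
    constructor
    · intro hz
      obtain ⟨c, P, Q, rfl⟩ := exists_N h2 z
      rw [sigma_N k σ hx hy] at hz
      obtain ⟨-, -, hQ⟩ := N_inj h2 hz
      have hQ' : PowerSeries.rescale (-1 : k) Q = -Q := neg_eq_iff_eq_neg.mp hQ
      rw [rescale_neg_one_eq_neg_iff h2] at hQ'
      have eQ := even_add_odd Q
      rw [hQ'] at eQ
      simp only [map_zero, zero_add] at eQ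
      obtain ⟨Q', hQ''⟩ := exists_theta k h2 (oddPart Q)
      refine ⟨N k c P Q', ?_⟩
      change φ (N k c P Q') = N k c P Q
      rw [phi_N k h2 φ hφu hφv, hQ'', ← eQ]
    · rintro ⟨w, rfl⟩
      exact sigma_comp_phi k h2 σ hx hy φ hφu hφv w
  · rw [injective_iff_map_eq_zero]
    intro w hw
    obtain ⟨c, P, Q, rfl⟩ := exists_N h2 w
    rw [phi_N k h2 φ hφu hφv] at hw
    obtain ⟨hc, hP, hQ⟩ := N_eq_zero h2 hw
    have h2X : (-2 : PowerSeries k) * PowerSeries.X ≠ 0 :=
      mul_ne_zero (neg_ne_zero.mpr (two_ne_zero_ps h2)) PowerSeries.X_ne_zero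
    have hθ : θ k Q = 0 := (mul_eq_zero.mp hQ).resolve_left h2X
    have hQ0 := theta_injective k h2 hθ
    rw [hc, hP, hQ0]
    unfold N; simp
  · intro h
    have := (mem_nonZeroDivisors_iff_right.mp h) _ (u_mul_v k)
    exact u_ne_zero h2 this

end Groth.Agent.S14096
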