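import Groth.Statements.S14113
import Groth.Agent.R2.H99AffKProj

set_option autoImplicit false
universe u
open CategoryTheory CategoryTheory.Limits AlgebraicGeometry Opposite TopologicalSpace
attribute [local instance] HasDerivedCategory.standard
open DCoh

namespace Groth.Agent.S14113

/-- Let X be an affine scheme and E a bounded above cochain complex of finite locally free O_X-modules
(a strictly pseudo-coherent complex). Then E is acyclic if and only if the identity of E is null
homotopic. -/
theorem result {X : Scheme.{u}} [IsAffine X]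
    (E : CochainComplex X.Modules ℤ) (b : ℤ) (hEb : ∀ i : ℤ, b < i → IsZero (E.X i))
    (hE : ∀ i : ℤ, FlatMod.IsFinLocFree (E.X i)) :
    E.Acyclic ↔ Nonempty (Homotopy (𝟙 E) 0) := by
  constructor
  · intro hac
    have hq : ∀ i : ℤ, (E.X i).IsQuasicoherent := fun i =>
      Groth.Agent.R2.H99.AffKProj.isQuasicoherent_of_isFinLocFree _ (hE i)
    have hbij := Groth.Agent.R2.H99.AffKProj.qh_map_bijective_of_isAffine E E b hEb hE hq
    -- the zero endomorphism of an acyclic complex is a quasi-isomorphism
    have hqi : QuasiIso (0 : E ⟶ E) := by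
      refine ⟨fun i => ?_⟩
      rw [quasiIsoAt_iff_exactAt (0 : E ⟶ E) i (hac i)]
      exact hac i
    have hiso : IsIso ((DerivedCategory.Qh (C := X.Modules)).map
        ((HomotopyCategory.quotient X.Modules (ComplexShape.up ℤ)).map (0 : E ⟶ E))) := by
      rw [DerivedCategory.isIso_Qh_map_iff, HomotopyCategory.quotient_map_mem_quasiIso_iff]
      exact hqi
    have hz : (DerivedCategory.Qh (C := X.Modules)).map
        ((HomotopyCategory.quotient X.Modules (ComplexShape.up ℤ)).map (0 : E ⟶ E)) = 0 := by
      rw [Functor.map_zero, Functor.map_zero]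
    rw [hz] at hiso
    have hid : 𝟙 ((DerivedCategory.Qh (C := X.Modules)).obj
        ((HomotopyCategory.quotient X.Modules (ComplexShape.up ℤ)).obj E)) = 0 := by
      have := @IsIso.hom_inv_id _ _ _ _ (0 : (DerivedCategory.Qh (C := X.Modules)).obj
        ((HomotopyCategory.quotient X.Modules (ComplexShape.up ℤ)).obj E) ⟶
        (DerivedCategory.Qh (C := X.Modules)).obj
        ((HomotopyCategory.quotient X.Modules (ComplexShape.up ℤ)).obj E)) hiso
      rw [zero_comp] at this
      exact this.symm
    have heq : (DerivedCategory.Qh (C := X.Modules)).map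
        ((HomotopyCategory.quotient X.Modules (ComplexShape.up ℤ)).map (𝟙 E)) =
        (DerivedCategory.Qh (C := X.Modules)).map
        ((HomotopyCategory.quotient X.Modules (ComplexShape.up ℤ)).map (0 : E ⟶ E)) := by
      rw [hz, CategoryTheory.Functor.map_id, CategoryTheory.Functor.map_id]
      exact hid
    exact ⟨HomotopyCategory.homotopyOfEq _ _ (hbij.1 heq)⟩
  · rintro ⟨h⟩
    intro i
    rw [HomologicalComplex.exactAt_iff_isZero_homology]
    rw [IsZero.iff_id_eq_zero]
    have h1 := h.homologyMap_eq i
    rw [HomologicalComplex.homologyMap_id, HomologicalComplex.homologyMap_zero] at h1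
    exact h1

end Groth.Agent.S14113
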