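-- Statement S19618 (BlowUp.not_range_subset_support_of_intersectProperly_effCartier...).
-- Proof: if `Z ⊆ Y`, the generic point `ζ` of `Z` is the only point of `Y ∩ Z = Z` maximal under
-- generization, so proper intersection reads `dim O_{X,ζ} = codim(Y, X) + dim O_{X,ζ}`; but
-- `codim(Y, X) ≥ 1` (a nonzerodivisor in the maximal ideal) and `dim O_{X,ζ}` is finite.
import Groth.Statements.S19618

set_option autoImplicit false
universe u
open CategoryTheory CategoryTheory.Limits AlgebraicGeometry Opposite TopologicalSpace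
open BlowUp

namespace Groth.Agent.S19618

/-- the germ of a nonzerodivisor on an affine open is a nonzerodivisor. -/
theorem germ_mem_nonZeroDivisors' {X : Scheme.{u}} {V : X.Opens} (hV : IsAffineOpen V)
    (a : Γ(X, V)) (ha : a ∈ nonZeroDivisors Γ(X, V)) (x : X) (hx : x ∈ V) :
    X.presheaf.germ V x hx a ∈ nonZeroDivisors (X.presheaf.stalk x) := by
  let _ := TopCat.Presheaf.algebra_section_stalk X.presheaf (⟨x, hx⟩ : V)
  have := hV.isLocalization_stalk ⟨x, hx⟩
  exact IsLocalization.map_nonZeroDivisors_le (hV.primeIdealOf ⟨x, hx⟩).asIdeal.primeCompl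
    (X.presheaf.stalk x) (Submonoid.mem_map_of_mem _ ha)

/-- At a point of the support of an effective Cartier divisor on a locally Noetherian scheme the
local ring has dimension at least one. -/
theorem one_le_ringKrullDim_stalk {X : Scheme.{u}} [IsLocallyNoetherian X]
    (𝓘 : X.IdealSheafData) (hY : BlowUp.IsEffCartierIdeal 𝓘) (y : X)
    (hy : y ∈ (𝓘.support : Set X)) :
    (1 : WithBot ℕ∞) ≤ ringKrullDim (X.presheaf.stalk y) := by
  obtain ⟨U, hyU, f, hf, hfI⟩ := hY y
  have hz : y ∈ X.zeroLocus (U := U.1) (𝓘.ideal U) :=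
    (Scheme.IdealSheafData.mem_support_iff_of_mem hyU).mp hy
  have hnu : ¬ IsUnit (X.presheaf.germ U.1 y hyU f) := by
    have h1 := (Scheme.mem_zeroLocus_iff _ _ _).mp hz f (hfI ▸ Ideal.mem_span_singleton_self f)
    rwa [Scheme.mem_basicOpen _ _ _ hyU] at h1
  have hnzd := germ_mem_nonZeroDivisors' U.2 f hf y hyU
  by_contra hdim
  rw [not_le] at hdim
  have hle : ringKrullDim (X.presheaf.stalk y) ≤ 0 := Order.le_of_lt_succ hdim
  have : Ring.KrullDimLE 0 (X.presheaf.stalk y) := Ring.krullDimLE_iff.2 hle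
  obtain ⟨n, hn⟩ : IsNilpotent (X.presheaf.germ U.1 y hyU f) :=
    Ring.KrullDimLE.isNilpotent_iff_mem_nonunits.2 hnu
  exact zero_notMem_nonZeroDivisors (hn ▸ pow_mem hnzd n)

/-- Let X be a locally Noetherian scheme, Y an effective Cartier divisor on X (a quasi-coherent ideal
sheaf which, near every point, is generated on some affine open by one nonzerodivisor; Y is its
support) and Z a closed integral subscheme (a closed immersion i from an integral scheme with
generic point ξ). If Y and Z intersect properly — every point ζ of Y ∩ Z which is maximal under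
generization inside Y ∩ Z satisfies dim O_{X,ζ} = codim(Y,X) + codim(Z,X), where codim(Y,X) is the
infimum over y ∈ Y of dim O_{X,y} and codim(Z,X) = dim O_{X,i(ξ)} — then Z is not contained in Y. -/
theorem result {X Z : Scheme.{u}}
    [IsLocallyNoetherian X] (𝓘 : X.IdealSheafData) (hY : BlowUp.IsEffCartierIdeal 𝓘)
    (i : Z ⟶ X) [IsClosedImmersion i] [IsIntegral Z]
    (hprop : ∀ ζ : ↥X, ζ ∈ (𝓘.support : Set ↥X) ∩ Set.range i.base →
        (∀ ζ' : ↥X, ζ' ∈ (𝓘.support : Set ↥X) ∩ Set.range i.base → ζ' ⤳ ζ → ζ' = ζ) →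
        ringKrullDim ↑(X.presheaf.stalk ζ) =
          (⨅ y : (𝓘.support : Set ↥X), ringKrullDim ↑(X.presheaf.stalk y.1)) +
            ringKrullDim ↑(X.presheaf.stalk (i (genericPoint ↥Z)))) :
    ¬ Set.range i.base ⊆ (𝓘.support : Set ↥X) := by
  intro hsub
  have hζ : i (genericPoint ↥Z) ∈ (𝓘.support : Set ↥X) ∩ Set.range i.base :=
    ⟨hsub ⟨genericPoint ↥Z, rfl⟩, ⟨genericPoint ↥Z, rfl⟩⟩
  have hmax : ∀ ζ' : ↥X, ζ' ∈ (𝓘.support : Set ↥X) ∩ Set.range i.base →
      ζ' ⤳ i (genericPoint ↥Z) → ζ' = i (genericPoint ↥Z) := by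
    rintro ζ' ⟨-, z', rfl⟩ hsp
    have h1 : z' ⤳ genericPoint ↥Z :=
      (i.isClosedEmbedding.isInducing.specializes_iff).mp hsp
    have h2 : genericPoint ↥Z ⤳ z' := genericPoint_specializes z'
    exact congrArg _ (h1.antisymm h2).eq
  have key := hprop _ hζ hmax
  have hc : (1 : WithBot ℕ∞) ≤ ⨅ y : (𝓘.support : Set ↥X), ringKrullDim ↑(X.presheaf.stalk y.1) :=
    le_iInf fun y => one_le_ringKrullDim_stalk 𝓘 hY y.1 y.2
  have hne_top : ringKrullDim ↑(X.presheaf.stalk (i (genericPoint ↥Z))) ≠ ⊤ := ringKrullDim_ne_top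
  have hne_bot : ringKrullDim ↑(X.presheaf.stalk (i (genericPoint ↥Z))) ≠ ⊥ := ringKrullDim_ne_bot
  generalize ringKrullDim ↑(X.presheaf.stalk (i (genericPoint ↥Z))) = d at key hne_top hne_bot
  generalize (⨅ y : (𝓘.support : Set ↥X), ringKrullDim ↑(X.presheaf.stalk y.1)) = c at key hc
  -- arithmetic in `WithBot ℕ∞`
  induction d with
  | bot => exact hne_bot rfl
  | coe d =>
    induction d with
    | top => exact hne_top rfl
    | coe n =>
      induction c with
      | bot => simp at hc
      | coe c =>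
        induction c with
        | top =>
          have : ((n : ℕ∞) : WithBot ℕ∞) = ((⊤ : ℕ∞) : WithBot ℕ∞) := by
            rw [key]; rfl
          exact ENat.natCast_ne_top n (WithBot.coe_injective this)
        | coe m =>
          have h1 : (1 : ℕ∞) ≤ (m : ℕ∞) := by exact_mod_cast hc
          have h2 : ((n : ℕ∞) : WithBot ℕ∞) = (((m : ℕ∞) + (n : ℕ∞) : ℕ∞) : WithBot ℕ∞) := by
            rw [key]; rfl
          have h3 : (n : ℕ∞) = (m : ℕ∞) + (n : ℕ∞) := WithBot.coe_injective h2
          have h4 : (1 : ℕ) ≤ m := by exact_mod_cast h1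
          have h5 : n = m + n := by exact_mod_cast h3
          omega

end Groth.Agent.S19618
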