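import Groth.Statements.S14119
import Mathlib
import Groth.Agent.S19618
import Groth.Agent.R2.H96Catenary

set_option autoImplicit false
set_option linter.style.haveILetI false
universe u
open CategoryTheory CategoryTheory.Limits AlgebraicGeometry Opposite TopologicalSpace
open BlowUp

namespace Groth.Agent.S14119

section Dev
open Groth.Agent.R2.H96.Catenary

variable {X : Scheme.{u}}

/-- dimension of the local ring at the point of an affine open given by a prime. -/
theorem ringKrullDim_stalk_fromSpec {U : X.Opens} (hU : IsAffineOpen U)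
    (y : PrimeSpectrum Γ(X, U)) :
    ringKrullDim (X.presheaf.stalk (hU.fromSpec y)) = y.asIdeal.height := by
  have hy : hU.fromSpec y ∈ U := by
    have : hU.fromSpec y ∈ Set.range hU.fromSpec := ⟨y, rfl⟩
    rw [hU.range_fromSpec] at this
    exact this
  have h := hU.isLocalization_stalk' y hy
  exact @IsLocalization.AtPrime.ringKrullDim_eq_height _ _ y.asIdeal _
    (X.presheaf.stalk (hU.fromSpec y)) _
    (TopCat.Presheaf.algebra_section_stalk X.presheaf ⟨hU.fromSpec y, hy⟩) h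

theorem fromSpec_mem_basicOpen_iff {U : X.Opens} (hU : IsAffineOpen U)
    (y : PrimeSpectrum Γ(X, U)) (f : Γ(X, U)) :
    hU.fromSpec y ∈ X.basicOpen f ↔ f ∉ y.asIdeal := by
  have h := hU.fromSpec_preimage_basicOpen f
  have : hU.fromSpec y ∈ X.basicOpen f ↔ y ∈ hU.fromSpec ⁻¹ᵁ X.basicOpen f := Iff.rfl
  rw [this, h]
  exact PrimeSpectrum.mem_basicOpen f y

theorem fromSpec_mem_support_iff {U : X.affineOpens} (𝓘 : X.IdealSheafData) (f : Γ(X, U.1))
    (hf : 𝓘.ideal U = Ideal.span {f}) (y : PrimeSpectrum Γ(X, U.1)) :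
    U.2.fromSpec y ∈ (𝓘.support : Set X) ↔ f ∈ y.asIdeal := by
  have hy : U.2.fromSpec y ∈ U.1 := by
    have : U.2.fromSpec y ∈ Set.range U.2.fromSpec := ⟨y, rfl⟩
    rw [U.2.range_fromSpec] at this
    exact this
  have h1 : U.2.fromSpec y ∈ (𝓘.support : Set X) ↔ U.2.fromSpec y ∈ 𝓘.support := Iff.rfl
  rw [h1, Scheme.IdealSheafData.mem_support_iff_of_mem hy, Scheme.mem_zeroLocus_iff, hf]
  constructor
  · intro h
    have := h f (Ideal.mem_span_singleton_self f)
    rw [fromSpec_mem_basicOpen_iff] at this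
    exact not_not.mp this
  · intro h g hg
    rw [fromSpec_mem_basicOpen_iff, not_not]
    obtain ⟨a, rfl⟩ := Ideal.mem_span_singleton'.mp hg
    exact Ideal.mul_mem_left _ _ h

theorem fromSpec_specializes_iff {U : X.Opens} (hU : IsAffineOpen U)
    (y y' : PrimeSpectrum Γ(X, U)) :
    hU.fromSpec y ⤳ hU.fromSpec y' ↔ y ≤ y' := by
  rw [PrimeSpectrum.le_iff_specializes]
  exact hU.fromSpec.isOpenEmbedding.isInducing.specializes_iff

theorem fromSpec_injective {U : X.Opens} (hU : IsAffineOpen U) :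
    Function.Injective hU.fromSpec :=
  hU.fromSpec.isOpenEmbedding.injective

/-- the generic point of an integral scheme is not in the support of an effective Cartier
divisor. -/
theorem genericPoint_notMem_support {Z : Scheme.{u}} [IsIntegral Z] (𝓙 : Z.IdealSheafData)
    (h𝓙 : BlowUp.IsEffCartierIdeal 𝓙) : genericPoint Z ∉ (𝓙.support : Set Z) := by
  obtain ⟨W, hξW, g, hg, hgI⟩ := h𝓙 (genericPoint Z)
  intro hmem
  have h1 : genericPoint Z ∈ 𝓙.support := hmem
  rw [Scheme.IdealSheafData.mem_support_iff_of_mem hξW, Scheme.mem_zeroLocus_iff, hgI] at h1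
  have h2 := h1 g (Ideal.mem_span_singleton_self g)
  apply h2
  haveI : Nonempty W.1 := ⟨⟨genericPoint Z, hξW⟩⟩
  haveI : IsDomain Γ(Z, W.1) := inferInstance
  have hg0 : g ≠ 0 := nonZeroDivisors.ne_zero hg
  have hne : Z.basicOpen g ≠ ⊥ := fun e => hg0 ((AlgebraicGeometry.basicOpen_eq_bot_iff g).mp e)
  have hne' : (Z.basicOpen g : Set Z).Nonempty := by
    rw [Set.nonempty_iff_ne_empty]
    intro e
    apply hne
    ext1
    exact e
  exact ((genericPoint_spec Z).mem_open_set_iff (Z.basicOpen g).isOpen).mpr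
    (by simpa [Set.univ_inter] using hne')

theorem main {X Z : Scheme.{u}}
    [IsLocallyNoetherian X] [IrreducibleSpace ↥X]
    (hcat : ∀ x : ↥X, CAlg.IsCatenary ↑(X.presheaf.stalk x))
    (𝓘 : X.IdealSheafData) (hY : BlowUp.IsEffCartierIdeal 𝓘)
    (i : Z ⟶ X) [IsClosedImmersion i] [IsIntegral Z]
    (hc : BlowUp.IsEffCartierIdeal (𝓘.comap i))
    (ζ : ↥X) (hζ : ζ ∈ (𝓘.support : Set ↥X) ∩ Set.range i.base)
    (hmax : ∀ ζ' : ↥X, ζ' ∈ (𝓘.support : Set ↥X) ∩ Set.range i.base → ζ' ⤳ ζ → ζ' = ζ) :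
    ringKrullDim ↑(X.presheaf.stalk ζ) =
      (⨅ y : (𝓘.support : Set ↥X), ringKrullDim ↑(X.presheaf.stalk y.1)) +
        ringKrullDim ↑(X.presheaf.stalk (i (genericPoint ↥Z))) := by
  obtain ⟨U, hζU, f, hfnzd, hfI⟩ := hY ζ
  have hU : IsAffineOpen U.1 := U.2
  haveI : IsNoetherianRing Γ(X, U.1) := IsLocallyNoetherian.component_noetherian U
  -- the points
  set ξ' : X := i (genericPoint ↥Z) with hξ'
  obtain ⟨z, hz⟩ := hζ.2
  have hξζ : ξ' ⤳ ζ := by
    rw [← hz]
    exact (genericPoint_specializes z).map i.continuous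
  have hξU : ξ' ∈ U.1 := hξζ.mem_open U.1.isOpen hζU
  set Pζ := hU.primeIdealOf ⟨ζ, hζU⟩ with hPζ
  set 𝔭 := hU.primeIdealOf ⟨ξ', hξU⟩ with h𝔭
  have eζ : hU.fromSpec Pζ = ζ := hU.fromSpec_primeIdealOf ⟨ζ, hζU⟩
  have eξ : hU.fromSpec 𝔭 = ξ' := hU.fromSpec_primeIdealOf ⟨ξ', hξU⟩
  have h𝔭P : 𝔭 ≤ Pζ := by
    rw [← fromSpec_specializes_iff hU, eζ, eξ]; exact hξζ
  have hfP : f ∈ Pζ.asIdeal := by
    rw [← fromSpec_mem_support_iff 𝓘 f hfI, eζ]; exact hζ.1
  have hξY : ξ' ∉ (𝓘.support : Set X) := by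
    intro hmem
    have h1 := genericPoint_notMem_support (𝓘.comap i) hc
    apply h1
    rw [Scheme.IdealSheafData.support_comap]
    exact hmem
  have hf𝔭 : f ∉ 𝔭.asIdeal := by
    rw [← fromSpec_mem_support_iff 𝓘 f hfI, eξ]; exact hξY
  have hclosed : IsClosed (Set.range i.base) := i.isClosedEmbedding.isClosed_range
  have hmin : Pζ.asIdeal ∈ (𝔭.asIdeal ⊔ Ideal.span {f}).minimalPrimes := by
    refine ⟨⟨Pζ.2, sup_le h𝔭P ((Ideal.span_singleton_le_iff_mem _).mpr hfP)⟩, ?_⟩
    rintro y ⟨hyprime, hyle⟩ hyP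
    let y' : PrimeSpectrum Γ(X, U.1) := ⟨y, hyprime⟩
    have h1 : hU.fromSpec y' ∈ (𝓘.support : Set X) := by
      rw [fromSpec_mem_support_iff 𝓘 f hfI]
      exact hyle (le_sup_right (a := 𝔭.asIdeal) (Ideal.mem_span_singleton_self f))
    have h2 : hU.fromSpec y' ∈ Set.range i.base := by
      have h3 : ξ' ⤳ hU.fromSpec y' := by
        rw [← eξ, fromSpec_specializes_iff hU]
        exact le_sup_left.trans hyle
      exact h3.mem_closed hclosed ⟨genericPoint ↥Z, rfl⟩
    have h4 : hU.fromSpec y' ⤳ ζ := by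
      rw [← eζ, fromSpec_specializes_iff hU]
      exact hyP
    have h5 := hmax _ ⟨h1, h2⟩ h4
    rw [← eζ] at h5
    have h6 : y' = Pζ := fromSpec_injective hU h5
    exact (congrArg PrimeSpectrum.asIdeal h6).ge
  -- unique minimal prime of `Γ(X, U)`
  have huniq : ∀ p₁ p₂ : Ideal Γ(X, U.1), p₁ ∈ minimalPrimes Γ(X, U.1) →
      p₂ ∈ minimalPrimes Γ(X, U.1) → p₁ = p₂ := by
    have hη : genericPoint X ∈ U.1 :=
      ((genericPoint_spec X).mem_open_set_iff U.1.isOpen).mpr
        (by rw [Set.univ_inter]; exact ⟨ζ, hζU⟩)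
    set η := hU.primeIdealOf ⟨genericPoint X, hη⟩ with hηdef
    have eη : hU.fromSpec η = genericPoint X := hU.fromSpec_primeIdealOf ⟨genericPoint X, hη⟩
    have key : ∀ p : Ideal Γ(X, U.1), p ∈ minimalPrimes Γ(X, U.1) → p = η.asIdeal := by
      intro p hp
      haveI := hp.1.1
      have h1 : η ≤ (⟨p, hp.1.1⟩ : PrimeSpectrum Γ(X, U.1)) := by
        rw [← fromSpec_specializes_iff hU, eη]
        exact genericPoint_specializes _
      exact le_antisymm (hp.2 ⟨η.2, bot_le⟩ h1) h1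
    intro p₁ p₂ h1 h2
    rw [key p₁ h1, key p₂ h2]
  -- heights
  have hht : Pζ.asIdeal.height = 𝔭.asIdeal.height + 1 := by
    let _ := TopCat.Presheaf.algebra_section_stalk X.presheaf ⟨ζ, hζU⟩
    haveI := hU.isLocalization_stalk ⟨ζ, hζU⟩
    exact height_eq_add_one huniq Pζ.asIdeal 𝔭.asIdeal f hf𝔭 hmin (X.presheaf.stalk ζ) (hcat ζ)
  have hdζ : ringKrullDim (X.presheaf.stalk ζ) = Pζ.asIdeal.height := by
    rw [← ringKrullDim_stalk_fromSpec hU Pζ, eζ]
  have hdξ : ringKrullDim (X.presheaf.stalk ξ') = 𝔭.asIdeal.height := by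
    rw [← ringKrullDim_stalk_fromSpec hU 𝔭, eξ]
  -- codimension of Y is one
  have hc1 : (⨅ y : (𝓘.support : Set ↥X), ringKrullDim ↑(X.presheaf.stalk y.1)) = 1 := by
    apply le_antisymm
    · obtain ⟨𝔮, h𝔮, h𝔮P⟩ := Ideal.exists_minimalPrimes_le
        (show Ideal.span {f} ≤ Pζ.asIdeal from (Ideal.span_singleton_le_iff_mem _).mpr hfP)
      haveI := h𝔮.1.1
      have hht𝔮 : 𝔮.height ≤ 1 :=
        Ideal.height_le_one_of_isPrincipal_of_mem_minimalPrimes (Ideal.span {f}) 𝔮 h𝔮
      let y₀ : PrimeSpectrum Γ(X, U.1) := ⟨𝔮, h𝔮.1.1⟩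
      have hy₀ : hU.fromSpec y₀ ∈ (𝓘.support : Set X) := by
        rw [fromSpec_mem_support_iff 𝓘 f hfI]
        exact h𝔮.1.2 (Ideal.mem_span_singleton_self f)
      refine (iInf_le _ (⟨hU.fromSpec y₀, hy₀⟩ : (𝓘.support : Set ↥X))).trans ?_
      show ringKrullDim (X.presheaf.stalk (hU.fromSpec y₀)) ≤ 1
      rw [ringKrullDim_stalk_fromSpec hU y₀]
      exact_mod_cast hht𝔮
    · exact le_iInf fun y => Groth.Agent.S19618.one_le_ringKrullDim_stalk 𝓘 hY y.1 y.2
  rw [hc1, hdζ, hdξ, hht]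
  push_cast
  exact add_comm _ _
end Dev

/-- Let X be a locally Noetherian scheme, Y an effective Cartier divisor on X (a quasi-coherent ideal
sheaf which, near every point, is generated on some affine open by one nonzerodivisor; Y is its
support) and Z a closed integral subscheme (a closed immersion i from an integral scheme with
generic point ξ). Assume X irreducible with all local rings catenary (the first of the two printed
sufficient conditions), and assume that the inverse image ideal sheaf of Y on Z is the ideal of an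
effective Cartier divisor on Z. Then Y and Z intersect properly: every point ζ of Y ∩ Z that is
maximal under generization inside Y ∩ Z satisfies dim O_{X,ζ} = codim(Y,X) + codim(Z,X), where
codim(Y,X) is the infimum over y ∈ Y of dim O_{X,y} and codim(Z,X) = dim O_{X,i(ξ)}. (The published
statement also has a second sufficient condition, X biequidimensional, and a fourth equivalent
condition, vanishing of the higher Tor sheaves of O_Y against O_Z; neither is included in this row.) -/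
theorem result {X Z : Scheme.{u}}
    [IsLocallyNoetherian X] [IrreducibleSpace ↥X] (hcat : ∀ x : ↥X, CAlg.IsCatenary ↑(X.presheaf.stalk x))
    (𝓘 : X.IdealSheafData) (hY : BlowUp.IsEffCartierIdeal 𝓘)
    (i : Z ⟶ X) [IsClosedImmersion i] [IsIntegral Z] (hc : BlowUp.IsEffCartierIdeal (𝓘.comap i)) :
    (∀ ζ : ↥X, ζ ∈ (𝓘.support : Set ↥X) ∩ Set.range i.base →
        (∀ ζ' : ↥X, ζ' ∈ (𝓘.support : Set ↥X) ∩ Set.range i.base → ζ' ⤳ ζ → ζ' = ζ) →
        ringKrullDim ↑(X.presheaf.stalk ζ) =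
          (⨅ y : (𝓘.support : Set ↥X), ringKrullDim ↑(X.presheaf.stalk y.1)) +
            ringKrullDim ↑(X.presheaf.stalk (i (genericPoint ↥Z)))) := by
  intro ζ hζ hmax
  exact main hcat 𝓘 hY i hc ζ hζ hmax

end Groth.Agent.S14119
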