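import Groth.Statements.S1423
import Groth.Agent.R2.H7WeightCon
-- import your own Groth.Agent.* helpers here

set_option autoImplicit false
universe u
open FlatMor

namespace Groth.Agent.S1423

open AlgebraicGeometry CategoryTheory Limits in
/-- Let f be locally quasi-finite and w a weighting of f. Then every level set of w is locally
constructible in X. -/
theorem result {X Y : Scheme.{u}} (f : X ⟶ Y) [LocallyQuasiFinite f] [LocallyOfFiniteType f] (w : ↑X → ℤ) (hw : MoreMor.IsWeighting f w) (n : ℤ) :
    Topology.IsLocallyConstructible {x : ↑X | w x = n} := by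
  refine Topology.IsLocallyConstructible.of_isOpenCover X.affineCover.isOpenCover_opensRange
    (fun i => ?_)
  let U : X.Opens := (X.affineCover.f i).opensRange
  have : IsAffine (U : Scheme.{u}) := isAffineOpen_opensRange (X.affineCover.f i)
  have hwU := Groth.Agent.Lib.Helper2.Weight.isWeighting_opens f w hw U
  have H := Groth.Agent.R2.H7.Patch.isConstructible_fibres_of_locally_const (w ∘ U.ι)
    (fun x => Groth.Agent.R2.H7.WeightCon.exists_indC_nhd_const (U.ι ≫ f) (w ∘ U.ι) hwU x)
  exact (H.1 n).isLocallyConstructible

end Groth.Agent.S1423
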