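import Groth.Statements.S1424
import Groth.Agent.R2.H7WeightInt
import Groth.Agent.S1419
-- import your own Groth.Agent.* helpers here

set_option autoImplicit false
universe u
open FlatMor

namespace Groth.Agent.S1424

open AlgebraicGeometry CategoryTheory Limits in
/-- Let f be locally quasi-finite and of finite presentation and w a weighting of f. Then every level
set of the fibre integral of w along f is locally constructible in Y. -/
theorem result {X Y : Scheme.{u}} (f : X ⟶ Y) [LocallyQuasiFinite f] [LocallyOfFinitePresentation f] [QuasiCompact f] [QuasiSeparated f]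
    (w : ↑X → ℤ) (hw : MoreMor.IsWeighting f w) (n : ℤ) :
    Topology.IsLocallyConstructible {y : ↑Y | MoreMor.fibreIntegral f w y = n} := by
  have hfin : ∀ y : Y, (f ⁻¹' {y}).Finite := fun y => Scheme.Hom.finite_preimage_singleton f y
  refine Topology.IsLocallyConstructible.of_isOpenCover Y.affineCover.isOpenCover_opensRange
    (fun i => ?_)
  let U : Y.Opens := (Y.affineCover.f i).opensRange
  have : IsAffine (U : Scheme.{u}) := isAffineOpen_opensRange (Y.affineCover.f i)
  have hpb : IsPullback (f ⁻¹ᵁ U).ι (f ∣_ U) f U.ι := (isPullback_morphismRestrict f U).flip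
  have hwU : MoreMor.IsWeighting (f ∣_ U) (w ∘ ⇑(f ⁻¹ᵁ U).ι) :=
    Groth.Agent.S1419.result f w hw (f ∣_ U) (f ⁻¹ᵁ U).ι U.ι hpb
  have H := (Groth.Agent.R2.H7.WeightCon.isConstructible_level_fibreIntegral (f ∣_ U)
    (w ∘ ⇑(f ⁻¹ᵁ U).ι) hwU).1 n
  have heq : ((Subtype.val : ↥U → ↑Y) ⁻¹' {y : ↑Y | MoreMor.fibreIntegral f w y = n}) =
      {y : ↥U | MoreMor.fibreIntegral (f ∣_ U) (w ∘ ⇑(f ⁻¹ᵁ U).ι) y = n} := by
    ext y
    have h1 := (Groth.Agent.Lib.Helper2.Weight.fibreIntegral_baseChange f hfin (f ∣_ U)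
      (f ⁻¹ᵁ U).ι U.ι hpb w y).1
    change MoreMor.fibreIntegral f w (U.ι y) = n ↔ _
    rw [← h1]
    rfl
  have H' : Topology.IsLocallyConstructible
      ((Subtype.val : ↥U → ↑Y) ⁻¹' {y : ↑Y | MoreMor.fibreIntegral f w y = n}) := by
    rw [heq]
    exact H.isLocallyConstructible
  exact H'

end Groth.Agent.S1424
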