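import Groth.Statements.S14353
-- import your own Groth.Agent.* helpers here
import Groth.Agent.R2.H66ML
import Mathlib

set_option autoImplicit false
universe u
open CategoryTheory CategoryTheory.Limits CategoryTheory.MonoidalCategory
open CAlg

namespace Groth.Agent.S14353

section Helpers

open TensorProduct

variable {R : Type u} [CommRing R]

/-- elements of a limit of modules from compatible families -/
lemma exists_of_compatible (F : ℕᵒᵖ ⥤ ModuleCat.{u} R) (z : ∀ n, F.obj n)
    (hz : ∀ {n m : ℕᵒᵖ} (f : n ⟶ m), F.map f (z n) = z m) :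
    ∃ x : (limit F : ModuleCat.{u} R), ∀ n, limit.π F n x = z n := by
  let c : Cone F :=
    { pt := ModuleCat.of R R
      π :=
        { app := fun n => ModuleCat.ofHom (LinearMap.toSpanSingleton R _ (z n))
          naturality := by
            intro n m f
            ext
            simp [hz f] } }
  refine ⟨limit.lift F c (1 : R), fun n => ?_⟩
  have := congr($(limit.lift_π c n) (1 : R))
  simp [c]

lemma limit_w_apply (F : ℕᵒᵖ ⥤ ModuleCat.{u} R) {n m : ℕᵒᵖ} (f : n ⟶ m)
    (x : (limit F : ModuleCat.{u} R)) : F.map f (limit.π F n x) = limit.π F m x := by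
  have := congr($(limit.w F f) x)
  simp

/-- naturality of `piScalarRight` -/
lemma piScalarRight_rTensor {X Y : Type u} [AddCommGroup X] [Module R X] [AddCommGroup Y]
    [Module R Y] (k : ℕ) (f : X →ₗ[R] Y) (t : X ⊗[R] (Fin k → R)) :
    TensorProduct.piScalarRight R R Y (Fin k) (LinearMap.rTensor (Fin k → R) f t) =
      fun j => f (TensorProduct.piScalarRight R R X (Fin k) t j) := by
  induction t using TensorProduct.induction_on with
  | zero => simp; rfl
  | tmul x g =>
    ext j
    simp
  | add a b ha hb =>
    rw [map_add, map_add, ha, hb, map_add]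
    ext j
    simp

variable (M : ℕᵒᵖ ⥤ ModuleCat.{u} R)

/-- finite free case, injectivity -/
lemma ff_inj (k : ℕ) (t : (limit M : ModuleCat.{u} R) ⊗[R] (Fin k → R))
    (ht : ∀ n, LinearMap.rTensor (Fin k → R) (limit.π M n).hom t = 0) : t = 0 := by
  apply (TensorProduct.piScalarRight R R _ (Fin k)).injective
  rw [map_zero]
  ext j
  apply Concrete.limit_ext
  intro n
  have h1 := congrFun (piScalarRight_rTensor k (limit.π M n).hom t) j
  rw [ht n, map_zero] at h1
  simpa using h1.symm

/-- finite free case, surjectivity -/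
lemma ff_surj (k : ℕ) (v : ∀ n, (M.obj n : Type u) ⊗[R] (Fin k → R))
    (hv : ∀ {n m : ℕᵒᵖ} (f : n ⟶ m), LinearMap.rTensor (Fin k → R) (M.map f).hom (v n) = v m) :
    ∃ t : (limit M : ModuleCat.{u} R) ⊗[R] (Fin k → R),
      ∀ n, LinearMap.rTensor (Fin k → R) (limit.π M n).hom t = v n := by
  have hex : ∀ j : Fin k, ∃ x : (limit M : ModuleCat.{u} R),
      ∀ n, limit.π M n x = TensorProduct.piScalarRight R R _ (Fin k) (v n) j := by
    intro j
    apply exists_of_compatible M
    intro n m f
    have h1 := congrFun (piScalarRight_rTensor k (M.map f).hom (v n)) j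
    rw [hv f] at h1
    exact h1.symm
  choose l hl using hex
  refine ⟨(TensorProduct.piScalarRight R R _ (Fin k)).symm l, fun n => ?_⟩
  apply (TensorProduct.piScalarRight R R _ (Fin k)).injective
  rw [piScalarRight_rTensor]
  ext j
  rw [LinearEquiv.apply_symm_apply]
  exact hl j n

/-- the system `n ↦ M n ⊗ N` -/
noncomputable abbrev sys (N : Type u) [AddCommGroup N] [Module R N] : ℕᵒᵖ ⥤ ModuleCat.{u} R :=
  M ⋙ tensorRight (ModuleCat.of R N)

/-- the morphism of systems induced by a linear map -/
noncomputable def sysMap {N' N : Type u} [AddCommGroup N'] [Module R N'] [AddCommGroup N]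
    [Module R N] (p : N' →ₗ[R] N) : sys M N' ⟶ sys M N where
  app n := M.obj n ◁ ModuleCat.ofHom p
  naturality := by
    intro n m f
    exact (whisker_exchange _ _).symm

lemma sysMap_app {N' N : Type u} [AddCommGroup N'] [Module R N'] [AddCommGroup N]
    [Module R N] (p : N' →ₗ[R] N) (n : ℕᵒᵖ) (x : (M.obj n : Type u) ⊗[R] N') :
    (sysMap M p).app n x = LinearMap.lTensor (M.obj n) p x := rfl

lemma sys_map {N : Type u} [AddCommGroup N] [Module R N] {n m : ℕᵒᵖ} (f : n ⟶ m)
    (x : (M.obj n : Type u) ⊗[R] N) :
    (sys M N).map f x = LinearMap.rTensor N (M.map f).hom x := rfl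

lemma post_coord (N : Type u) [AddCommGroup N] [Module R N]
    (t : (limit M : ModuleCat.{u} R) ⊗[R] N) (n : ℕᵒᵖ) :
    limit.π (sys M N) n (limit.post M (tensorRight (ModuleCat.of R N)) t) =
      LinearMap.rTensor N (limit.π M n).hom t := by
  have := congr($(limit.post_π M (tensorRight (ModuleCat.of R N)) n) t)
  exact this

lemma isArtinian_sys (hart : ∀ n, IsArtinian R (M.obj n)) (k : ℕ) (n : ℕᵒᵖ) :
    IsArtinian R ((sys M (Fin k → R)).obj n) := by
  have := hart n
  exact isArtinian_of_linearEquiv (TensorProduct.piScalarRight R R (M.obj n) (Fin k)).symm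

lemma rTensor_lTensor_comm {X Y N' N : Type u} [AddCommGroup X] [Module R X] [AddCommGroup Y]
    [Module R Y] [AddCommGroup N'] [Module R N'] [AddCommGroup N] [Module R N]
    (f : X →ₗ[R] Y) (p : N' →ₗ[R] N) (t : X ⊗[R] N') :
    LinearMap.rTensor N f (LinearMap.lTensor X p t) =
      LinearMap.lTensor Y p (LinearMap.rTensor N' f t) := by
  rw [← LinearMap.comp_apply, ← LinearMap.comp_apply, LinearMap.rTensor_comp_lTensor,
    LinearMap.lTensor_comp_rTensor]

lemma coord_compat (N : Type u) [AddCommGroup N] [Module R N]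
    (t : (limit M : ModuleCat.{u} R) ⊗[R] N) {n m : ℕᵒᵖ} (f : n ⟶ m) :
    LinearMap.rTensor N (M.map f).hom (LinearMap.rTensor N (limit.π M n).hom t) =
      LinearMap.rTensor N (limit.π M m).hom t := by
  rw [← LinearMap.rTensor_comp_apply]
  congr 2
  have := limit.w M f
  rw [← this]
  rfl

end Helpers


/-- For a commutative ring R, an inverse system (M_n)_{n ∈ ℕ} of R-modules of finite length and a
finitely presented R-module N, the canonical comparison map (lim_n M_n) ⊗_R N ⟶ lim_n (M_n ⊗_R N) is
an isomorphism. (The published statement takes N = R/I for a finitely generated ideal I; the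
argument covers every finitely presented N, which is the form stated here.) -/
theorem result (R : Type u) [CommRing R]
    (M : ℕᵒᵖ ⥤ ModuleCat.{u} R) (hM : ∀ n : ℕᵒᵖ, IsFiniteLength R (M.obj n))
    (N : Type u) [AddCommGroup N] [Module R N] [Module.FinitePresentation R N] :
    IsIso (limit.post M (tensorRight (ModuleCat.of R N))) := by
  obtain ⟨b, a, p, q, hp, hpq⟩ := Module.FinitePresentation.exists_fin' R N
  have hart : ∀ n, IsArtinian R (M.obj n) :=
    fun n => (isFiniteLength_iff_isNoetherian_isArtinian.mp (hM n)).2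
  rw [ConcreteCategory.isIso_iff_bijective]
  constructor
  · -- injectivity
    rw [injective_iff_map_eq_zero]
    intro t ht
    have ht' : ∀ n, LinearMap.rTensor N (limit.π M n).hom t = 0 := by
      intro n
      rw [← post_coord, ht, map_zero]
    obtain ⟨t', rfl⟩ := LinearMap.lTensor_surjective (limit M : ModuleCat.{u} R) hp t
    -- the coordinates of t'
    have hv0 : ∀ n, LinearMap.lTensor (M.obj n) p
        (LinearMap.rTensor (Fin b → R) (limit.π M n).hom t') = 0 := by
      intro n
      rw [← rTensor_lTensor_comm, ht' n]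
    have hex := fun n => lTensor_exact (M.obj n) hpq hp
    obtain ⟨u, hucompat, hu⟩ := Groth.Agent.R2.H66.ML.exists_compatible_lift
      (sys M (Fin a → R)) (sys M (Fin b → R)) (sysMap M q) (isArtinian_sys M hart a)
      (fun n => LinearMap.rTensor (Fin b → R) (limit.π M n).hom t')
      (fun {n m} f => coord_compat M (Fin b → R) t' f)
      (fun n => ((hex n) _).mp (hv0 n))
    obtain ⟨t'', ht''⟩ := ff_surj M a u (fun {n m} f => hucompat f)
    have hkey : LinearMap.lTensor (limit M : ModuleCat.{u} R) q t'' = t' := by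
      rw [← sub_eq_zero]
      apply ff_inj M b
      intro n
      rw [map_sub, rTensor_lTensor_comm, ht'' n, sub_eq_zero]
      exact hu n
    rw [← hkey, ← LinearMap.lTensor_comp_apply, hpq.linearMap_comp_eq_zero, LinearMap.lTensor_zero,
      LinearMap.zero_apply]
  · -- surjectivity
    intro z
    obtain ⟨v, hvcompat, hv⟩ := Groth.Agent.R2.H66.ML.exists_compatible_lift
      (sys M (Fin b → R)) (sys M N) (sysMap M p) (isArtinian_sys M hart b)
      (fun n => limit.π (sys M N) n z)
      (fun {n m} f => limit_w_apply (sys M N) f z)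
      (fun n => LinearMap.lTensor_surjective (M.obj n) hp _)
    obtain ⟨t', ht'⟩ := ff_surj M b v (fun {n m} f => hvcompat f)
    refine ⟨LinearMap.lTensor (limit M : ModuleCat.{u} R) p t', ?_⟩
    apply Concrete.limit_ext
    intro n
    rw [post_coord, rTensor_lTensor_comm, ht' n]
    exact hv n

end Groth.Agent.S14353
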