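import Groth.Statements.S14355
-- import your own Groth.Agent.* helpers here
import Mathlib.Tactic

set_option autoImplicit false
universe v u
open CategoryTheory CategoryTheory.Limits
open SpSeqMor

namespace Groth.Agent.S14355

section Helpers

variable {C : Type u} [Category.{v} C] [Abelian C]

lemma isZero_page_of_isZero {r₀ : ℤ} (E : CohomologicalSpectralSequence C r₀) (pq : ℤ × ℤ)
    (r : ℤ) (hr : r₀ ≤ r) (h : IsZero ((E.page r hr).X pq)) :
    ∀ (r' : ℤ) (hr' : r ≤ r'), IsZero ((E.page r' (hr.trans hr')).X pq) := by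
  intro r' hr'
  induction r', hr' using Int.leInduction with
  | base => exact h
  | succ n hn ih =>
    refine IsZero.of_iso ?_ (E.iso n (n + 1) pq rfl (hr.trans hn)).symm
    exact ShortComplex.isZero_homology_of_isZero_X₂ _ ih

lemma hom_f_eq_zero_of_eq_zero {r₀ : ℤ} {E E' : CohomologicalSpectralSequence C r₀} (φ : E ⟶ E')
    (pq : ℤ × ℤ) (r : ℤ) (hr : r₀ ≤ r) (h : (φ.hom r hr).f pq = 0) :
    ∀ (r' : ℤ) (hr' : r ≤ r'), (φ.hom r' (hr.trans hr')).f pq = 0 := by
  intro r' hr'
  induction r', hr' using Int.leInduction with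
  | base => exact h
  | succ n hn ih =>
    have hcomm := φ.comm n (n + 1) pq rfl (hr.trans hn)
    have h0 : HomologicalComplex.homologyMap (φ.hom n (hr.trans hn)) pq = 0 := by
      rw [← cancel_epi ((E.page n (hr.trans hn)).homologyπ pq)]
      rw [HomologicalComplex.homologyπ_naturality, comp_zero]
      have : HomologicalComplex.cyclesMap (φ.hom n (hr.trans hn)) pq = 0 := by
        rw [← cancel_mono ((E'.page n (hr.trans hn)).iCycles pq)]
        rw [HomologicalComplex.cyclesMap_i, ih, comp_zero, zero_comp]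
      rw [this, zero_comp]
    rw [h0, zero_comp] at hcomm
    rw [← cancel_epi (E.iso n (n + 1) pq rfl (hr.trans hn)).hom, ← hcomm, comp_zero]

lemma fil_succ_eq_of_isZero_grPiece {X : C} (F : ℤ → Subobject X) (hF : Antitone F) (p : ℤ)
    (h : IsZero (SpSeq.grPiece F hF p)) : F (p + 1) = F p := by
  have hle : F (p + 1) ≤ F p := hF (Int.le_add_one le_rfl)
  refine le_antisymm hle ?_
  have hepi : Epi ((F (p + 1)).ofLE (F p) hle) := by
    have hex := (ShortComplex.mk _ _ (cokernel.condition ((F (p + 1)).ofLE (F p) hle))).exact_of_g_is_cokernel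
      (cokernelIsCokernel _)
    exact hex.epi_f (h.eq_of_tgt _ _)
  have : IsIso ((F (p + 1)).ofLE (F p) hle) := isIso_of_mono_of_epi _
  exact Subobject.le_of_comm (inv ((F (p + 1)).ofLE (F p) hle)) (by simp)

lemma fil_eq_top {X : C} (F : ℤ → Subobject X) (hF : Antitone F) (a₀ : ℤ)
    (hgr : ∀ i : ℤ, i < a₀ → IsZero (SpSeq.grPiece F hF i)) (htop : ∃ a : ℤ, F a = ⊤) :
    F a₀ = ⊤ := by
  obtain ⟨a, ha⟩ := htop
  by_cases hle : a₀ ≤ a
  · exact top_le_iff.mp (ha ▸ hF hle)
  · push Not at hle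
    have key : ∀ i : ℤ, a ≤ i → i ≤ a₀ → F i = ⊤ := by
      intro i hi
      induction i, hi using Int.leInduction with
      | base => intro _; exact ha
      | succ n hn ih =>
        intro hn'
        rw [fil_succ_eq_of_isZero_grPiece F hF n (hgr n (by omega))]
        exact ih (by omega)
    exact key a₀ hle.le le_rfl

lemma fil_eq_bot {X : C} (F : ℤ → Subobject X) (hF : Antitone F) (a₀ : ℤ)
    (hgr : ∀ i : ℤ, a₀ < i → IsZero (SpSeq.grPiece F hF i)) (hbot : ∃ b : ℤ, F b = ⊥) :
    F (a₀ + 1) = ⊥ := by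
  obtain ⟨b, hb⟩ := hbot
  by_cases hle : b ≤ a₀ + 1
  · exact le_bot_iff.mp (hb ▸ hF hle)
  · push Not at hle
    have key : ∀ i : ℤ, i ≤ b → a₀ + 1 ≤ i → F i = ⊥ := by
      intro i hi
      induction i, hi using Int.leInductionDown with
      | base => intro _; exact hb
      | pred n hn ih =>
        intro hn'
        have := fil_succ_eq_of_isZero_grPiece F hF (n - 1) (hgr (n - 1) (by omega))
        rw [sub_add_cancel] at this
        rw [← this]
        exact ih (by omega)
    exact key (a₀ + 1) hle.le le_rfl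

lemma isZero_grPiece_of_isZero {r₀ : ℤ} {E : CohomologicalSpectralSequence C r₀} {H : ℤ → C}
    (a : SpSeq.Abutment E H) (pq : ℤ × ℤ) (n : ℤ) (hn : pq.1 + pq.2 = n)
    (h : IsZero ((E.page r₀ le_rfl).X pq)) :
    IsZero (SpSeq.grPiece (a.fil n) (a.anti n) pq.1) := by
  subst hn
  exact IsZero.of_iso (isZero_page_of_isZero E pq r₀ le_rfl h _ (a.stat pq).1) (a.β pq).symm

lemma main {r₀ : ℤ} {E E' : CohomologicalSpectralSequence C r₀} (φ : E ⟶ E') {H H' : ℤ → C}
    (a : SpSeq.Abutment E H) (a' : SpSeq.Abutment E' H')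
    (f : SpSeqMor.AbutHom φ a a') (pq : ℤ × ℤ)
    (ha : a.IsFinite (pq.1 + pq.2)) (ha' : a'.IsFinite (pq.1 + pq.2))
    (hE : ∀ i : ℤ, i < pq.1 → IsZero ((E.page r₀ le_rfl).X (i, pq.1 + pq.2 - i)))
    (hE' : ∀ i : ℤ, pq.1 < i → IsZero ((E'.page r₀ le_rfl).X (i, pq.1 + pq.2 - i)))
    (hφ : (φ.hom r₀ le_rfl).f pq = 0) :
    f.hom (pq.1 + pq.2) = 0 := by
  -- the filtrations
  have htop : a.fil (pq.1 + pq.2) pq.1 = ⊤ := by
    refine fil_eq_top (a.fil (pq.1 + pq.2)) (a.anti (pq.1 + pq.2)) pq.1 (fun i hi => ?_) ha.1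
    exact isZero_grPiece_of_isZero a (i, (pq.1 + pq.2) - i) (pq.1 + pq.2) (by simp) (hE i hi)
  have hbot : a'.fil (pq.1 + pq.2) (pq.1 + 1) = ⊥ := by
    refine fil_eq_bot (a'.fil (pq.1 + pq.2)) (a'.anti (pq.1 + pq.2)) pq.1 (fun i hi => ?_) ha'.2
    exact isZero_grPiece_of_isZero a' (i, (pq.1 + pq.2) - i) (pq.1 + pq.2) (by simp) (hE' i hi)
  -- the graded map is zero
  have hgr : (f.fil (pq.1 + pq.2)).gr pq.1 = 0 := by
    set m := max (a.rk pq) (a'.rk pq) with hm
    have h1 : a.rk pq ≤ m := le_max_left _ _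
    have h2 : a'.rk pq ≤ m := le_max_right _ _
    have hkk : a.rk pq + ((m - a.rk pq).toNat : ℤ) = a'.rk pq + ((m - a'.rk pq).toNat : ℤ) := by
      rw [Int.toNat_of_nonneg (by omega), Int.toNat_of_nonneg (by omega)]
      ring
    have hc := f.comm pq (m - a.rk pq).toNat (m - a'.rk pq).toNat hkk
    have hz : (φ.hom (a'.rk pq + ((m - a'.rk pq).toNat : ℤ))
        (page_le (a'.stat pq).1 (m - a'.rk pq).toNat)).f pq = 0 :=
      hom_f_eq_zero_of_eq_zero φ pq r₀ le_rfl hφ _ (page_le (a'.stat pq).1 _)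
    rw [hz] at hc
    simp only [zero_comp, comp_zero] at hc
    exact (cancel_epi (a.β pq).hom).mp (hc.trans comp_zero.symm)
  -- conclude
  have hlift : (f.fil (pq.1 + pq.2)).lift pq.1 = 0 := by
    have hπ : cokernel.π ((a.filObj (pq.1 + pq.2)).stepLE (Int.le_add_one (le_refl pq.1))) ≫
        (f.fil (pq.1 + pq.2)).gr pq.1 =
        (f.fil (pq.1 + pq.2)).lift pq.1 ≫
          cokernel.π ((a'.filObj (pq.1 + pq.2)).stepLE (Int.le_add_one (le_refl pq.1))) :=
      cokernel.π_desc _ _ _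
    have hπ' : (f.fil (pq.1 + pq.2)).lift pq.1 ≫
          cokernel.π ((a'.filObj (pq.1 + pq.2)).stepLE (Int.le_add_one (le_refl pq.1))) = 0 := by
      rw [← hπ, hgr]
      exact comp_zero
    have hzero : (a'.filObj (pq.1 + pq.2)).stepLE (Int.le_add_one (le_refl pq.1)) = 0 := by
      rw [← cancel_mono ((a'.filObj (pq.1 + pq.2)).fil pq.1).arrow, zero_comp]
      simp only [SpSeq.FilObj.stepLE, Subobject.ofLE_arrow]
      change (a'.fil (pq.1 + pq.2) (pq.1 + 1)).arrow = 0
      rw [hbot, Subobject.bot_arrow]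
    have hmono : Mono (cokernel.π ((a'.filObj (pq.1 + pq.2)).stepLE (Int.le_add_one (le_refl pq.1)))) := by
      have hex := (ShortComplex.mk _ _ (cokernel.condition
        ((a'.filObj (pq.1 + pq.2)).stepLE (Int.le_add_one (le_refl pq.1))))).exact_of_g_is_cokernel
        (cokernelIsCokernel _)
      exact hex.mono_g hzero
    exact (cancel_mono (cokernel.π ((a'.filObj (pq.1 + pq.2)).stepLE
      (Int.le_add_one (le_refl pq.1))))).mp (hπ'.trans zero_comp.symm)
  have harrow := (f.fil (pq.1 + pq.2)).lift_arrow pq.1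
  rw [hlift, zero_comp] at harrow
  have hiso : IsIso ((a.filObj (pq.1 + pq.2)).fil pq.1).arrow := by
    change IsIso (a.fil (pq.1 + pq.2) pq.1).arrow
    rw [htop]
    infer_instance
  change (f.fil (pq.1 + pq.2)).hom = 0
  rw [← cancel_epi ((a.filObj (pq.1 + pq.2)).fil pq.1).arrow, comp_zero, ← harrow]

end Helpers


/-- Let φ : E ⟶ E' be a morphism of E_2-cohomological spectral sequences in an abelian category, with
abutments H and H' whose filtrations are finite in each degree, and f a morphism of abutment data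
over φ. Fix integers l and a₀. If E_2^{i, l-i} = 0 for i < a₀, E'_2^{i, l-i} = 0 for i > a₀ and
φ_2^{a₀, l-a₀} = 0, then f^l : H^l ⟶ H'^l is zero. (The published statement prints the two vanishing
hypotheses at positions (i, l); the argument works on the line of total degree l, at positions (i, l
- i), which is the form stated here.) -/
theorem result (C : Type u) [Category.{v} C] [Abelian C]
    (E E' : E₂CohomologicalSpectralSequence C) (φ : E ⟶ E') (H H' : ℤ → C)
    (a : SpSeq.Abutment E H) (a' : SpSeq.Abutment E' H')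
    (ha : ∀ n : ℤ, a.IsFinite n) (ha' : ∀ n : ℤ, a'.IsFinite n)
    (f : SpSeqMor.AbutHom φ a a') (l a₀ : ℤ)
    (hE : ∀ i : ℤ, i < a₀ → IsZero ((E.page 2 le_rfl).X (i, l - i)))
    (hE' : ∀ i : ℤ, a₀ < i → IsZero ((E'.page 2 le_rfl).X (i, l - i)))
    (hφ : (φ.hom 2 le_rfl).f (a₀, l - a₀) = 0) :
    f.hom l = 0 := by
  have hl : a₀ + (l - a₀) = l := by ring
  have key := main φ a a' f (a₀, l - a₀) (ha _) (ha' _)
    (fun i hi => by
      have : a₀ + (l - a₀) - i = l - i := by ring
      simpa [this] using hE i hi)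
    (fun i hi => by
      have : a₀ + (l - a₀) - i = l - i := by ring
      simpa [this] using hE' i hi)
    hφ
  have gen : ∀ n m : ℤ, n = m → f.hom n = 0 → f.hom m = 0 := by
    intro n m h hn
    subst h
    exact hn
  exact gen _ _ hl key

end Groth.Agent.S14355
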