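import Groth.Statements.S1436
import Mathlib
import Groth.Agent.S0440
import Groth.Agent.S1435
import Groth.Agent.Lib.Helper23AffVanish7
import Groth.Agent.R2.H10AffStrat
import Groth.Agent.R2.H10AffStratCoh

set_option autoImplicit false
set_option linter.style.haveILetI false
set_option linter.deprecated false
universe u
open FlatMor

namespace Groth.Agent.S1436

open AlgebraicGeometry CategoryTheory Limits in
/-- Let X be a scheme admitting an affine stratification with index set {0, …, n} (so X is quasi-compact
and quasi-separated, and its affine stratification number is at most n). Then H^p(X, F) = 0 for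
every quasi-coherent O_X-module F and every p > n. -/
theorem result (X : Scheme.{u}) (n : ℕ) (hX : MoreMor.HasAffineStratification X n)
    (F : X.Modules) (hF : Coh.IsQCoh F) (p : ℕ) (hp : n < p) :
    Subsingleton (Coh.HH X F p) := by
  induction n generalizing X F p with
  | zero =>
    obtain ⟨s, hs, hstr⟩ := hX
    obtain ⟨Z, ι, hι, hZ, hιa, hr⟩ := hstr (Fin.last 0)
    have hsurj : Function.Surjective ι := by
      rw [← Set.range_eq_univ, hr]
      ext x
      simp only [Set.mem_setOf_eq, Set.mem_univ, iff_true]
      exact @Subsingleton.elim (Fin 1) _ _ _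
    haveI : IsClosedImmersion ι := by
      apply IsClosedImmersion.of_isPreimmersion
      rw [hsurj.range_eq]
      exact isClosed_univ
    haveI : IsAffine X := Groth.Agent.S0440.result ι hsurj
    haveI : F.IsQuasicoherent := hF
    exact Groth.Agent.Lib.Helper23.AffVanish.subsingleton_HH F p hp
  | succ n ih =>
    obtain ⟨s, hs, hstr⟩ := hX
    obtain ⟨hc, hqs⟩ := (Groth.Agent.S1435.result X).1 ⟨n + 1, s, hs, hstr⟩
    obtain ⟨Z, ι, hι, hZ, hιa, hr⟩ := hstr (Fin.last (n + 1))
    have hU : IsAffineOpen (Groth.Agent.R2.H10.AffStrat.topOpen s hs) :=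
      Groth.Agent.R2.H10.AffStrat.isAffineOpen_of_range ι _ hr
    have hj : IsAffineHom (Groth.Agent.R2.H10.AffStrat.topOpen s hs).ι :=
      Groth.Agent.R2.H10.AffStrat.isAffineHom_ι_of_range ι _ hr
    haveI : F.IsQuasicoherent := hF
    refine Groth.Agent.R2.H10.AffStratCoh.step (Groth.Agent.R2.H10.AffStrat.topOpen s hs) hU hj n ?_ F p hp
    intro Y i hi hdis H hH q hq
    haveI := hi
    exact ih Y (Groth.Agent.R2.H10.AffStrat.hasAffineStratification_of_disjoint i s hs hstr
      (fun y => hdis y)) H hH q hq

end Groth.Agent.S1436
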