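import Groth.Statements.S14360
-- import your own Groth.Agent.* helpers here
import Mathlib.Tactic

set_option autoImplicit false
universe u
open AlgebraicGeometry
open Variety

namespace Groth.Agent.S14360

section Helpers

open CategoryTheory

/-- test-morphism form of `f.comp g ∼ id` -/
lemma exists_lifts_of_comp_equiv_id {X Y : Scheme.{u}} [PreirreducibleSpace X] [Nonempty Y]
    (f : X.PartialMap Y) [IsDominant f.hom] (g : Y.PartialMap X)
    (h : (f.comp g).equiv (Scheme.PartialMap.id X)) :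
    ∃ W : X.Opens, Dense (W : Set X) ∧ W ≤ f.domain ∧
      ∀ (T : Scheme.{u}) (t : T ⟶ X), (∀ x, t x ∈ W) →
        ∃ (tU : T ⟶ f.domain) (tV : T ⟶ g.domain),
          tU ≫ f.domain.ι = t ∧ tU ≫ f.hom = tV ≫ g.domain.ι ∧ tV ≫ g.hom = t := by
  obtain ⟨W, hW, hWl', hWr, e⟩ := h
  have hWl : W ≤ f.domain.ι ''ᵁ (f.hom ⁻¹ᵁ g.domain) := hWl'
  refine ⟨W, hW, hWl.trans (Scheme.Opens.ι_image_le _ _), fun T t ht => ?_⟩
  have hrange : Set.range t ⊆ Set.range W.ι := by
    rw [Scheme.Opens.range_ι]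
    rintro _ ⟨x, rfl⟩
    exact ht x
  let tW : T ⟶ W := IsOpenImmersion.lift W.ι t hrange
  have htW : tW ≫ W.ι = t := IsOpenImmersion.lift_fac _ _ _
  let tP : T ⟶ (f.hom ⁻¹ᵁ g.domain) :=
    tW ≫ X.homOfLE hWl ≫ (f.domain.ι.isoImage (f.hom ⁻¹ᵁ g.domain)).inv
  refine ⟨tP ≫ (f.hom ⁻¹ᵁ g.domain).ι, tP ≫ f.hom ∣_ g.domain, ?_, ?_, ?_⟩
  · simp only [tP, Category.assoc]
    rw [Scheme.Hom.isoImage_inv_ι, Scheme.homOfLE_ι, htW]
  · simp only [Category.assoc, morphismRestrict_ι]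
  · have e' : X.homOfLE hWl ≫ (f.domain.ι.isoImage (f.hom ⁻¹ᵁ g.domain)).inv ≫
        f.hom ∣_ g.domain ≫ g.hom = W.ι := by
      have e2 := e
      simp only [Scheme.PartialMap.restrict_hom, Scheme.PartialMap.comp_hom] at e2
      refine e2.trans ?_
      have key : ∀ (h : W ≤ (⊤ : X.Opens)), X.homOfLE h ≫ (X.topIso.hom ≫ 𝟙 X) = W.ι := by
        intro h
        rw [Category.comp_id, Scheme.topIso_hom]
        exact X.homOfLE_ι _
      exact key hWr
    simp only [tP, Category.assoc]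
    rw [e', htW]

/-- two partial maps which are mutually inverse on test morphisms give a partial isomorphism -/
lemma birational_of_lifts {X Y : Scheme.{u}} [IrreducibleSpace X] [IrreducibleSpace Y]
    (U : X.Opens) (V : Y.Opens) (φ : (U : Scheme.{u}) ⟶ Y) (γ : (V : Scheme.{u}) ⟶ X)
    [IsDominant φ] [IsDominant γ]
    (W : X.Opens) (hW : Dense (W : Set X))
    (W' : Y.Opens) (hW' : Dense (W' : Set Y))
    (L1 : ∀ (T : Scheme.{u}) (t : T ⟶ X), (∀ x, t x ∈ W) →
        ∃ (tU : T ⟶ U) (tV : T ⟶ V), tU ≫ U.ι = t ∧ tU ≫ φ = tV ≫ V.ι ∧ tV ≫ γ = t)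
    (L2 : ∀ (T : Scheme.{u}) (s : T ⟶ Y), (∀ x, s x ∈ W') →
        ∃ (sV : T ⟶ V) (sU : T ⟶ U), sV ≫ V.ι = s ∧ sV ≫ γ = sU ≫ U.ι ∧ sU ≫ φ = s) :
    Scheme.Birational X Y := by
  let U₀ : X.Opens := W ⊓ U.ι ''ᵁ (φ ⁻¹ᵁ W')
  let V₀ : Y.Opens := W' ⊓ V.ι ''ᵁ (γ ⁻¹ᵁ W)
  have hU₀ : Dense (U₀ : Set X) := by
    refine hW.inter_of_isOpen_left ?_ W.2
    refine (U.ι ''ᵁ φ ⁻¹ᵁ W').2.dense ?_
    simpa [← Set.nonempty_preimage_iff] using
      φ.denseRange.inter_open_nonempty _ W'.2 hW'.nonempty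
  have hV₀ : Dense (V₀ : Set Y) := by
    refine hW'.inter_of_isOpen_left ?_ W'.2
    refine (V.ι ''ᵁ γ ⁻¹ᵁ W).2.dense ?_
    simpa [← Set.nonempty_preimage_iff] using
      γ.denseRange.inter_open_nonempty _ W.2 hW.nonempty
  have hU₀W : ∀ x : U₀, U₀.ι x ∈ W := fun x => x.2.1
  have hV₀W : ∀ y : V₀, V₀.ι y ∈ W' := fun y => y.2.1
  obtain ⟨tU, tV, h1, h2, h3⟩ := L1 U₀ U₀.ι hU₀W
  obtain ⟨sV, sU, k1, k2, k3⟩ := L2 V₀ V₀.ι hV₀W
  have hrange_a : Set.range (tV ≫ V.ι) ⊆ Set.range V₀.ι := by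
    rw [Scheme.Opens.range_ι]
    rintro _ ⟨x, rfl⟩
    refine ⟨?_, ?_⟩
    · have hx : U₀.ι x ∈ U.ι ''ᵁ (φ ⁻¹ᵁ W') := x.2.2
      obtain ⟨u, hu, hux⟩ := hx
      have h4 : U.ι (tU x) = U₀.ι x := by
        rw [← Scheme.Hom.comp_apply, h1]
      have h5 : tU x = u := U.ι.isOpenEmbedding.injective (h4.trans hux.symm)
      rw [← h2, Scheme.Hom.comp_apply, h5]
      exact hu
    · refine ⟨tV x, ?_, by rw [Scheme.Hom.comp_apply]; rfl⟩
      change γ (tV x) ∈ W
      rw [← Scheme.Hom.comp_apply, h3]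
      exact hU₀W x
  have hrange_b : Set.range (sU ≫ U.ι) ⊆ Set.range U₀.ι := by
    rw [Scheme.Opens.range_ι]
    rintro _ ⟨y, rfl⟩
    refine ⟨?_, ?_⟩
    · rw [← k2, Scheme.Hom.comp_apply]
      have hy : V₀.ι y ∈ V.ι ''ᵁ (γ ⁻¹ᵁ W) := y.2.2
      obtain ⟨v, hv, hvy⟩ := hy
      have h4 : V.ι (sV y) = V₀.ι y := by
        rw [← Scheme.Hom.comp_apply, k1]
      have h5 : sV y = v := V.ι.isOpenEmbedding.injective (h4.trans hvy.symm)
      rw [h5]
      exact hv
    · refine ⟨sU y, ?_, by rw [Scheme.Hom.comp_apply]; rfl⟩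
      change φ (sU y) ∈ W'
      rw [← Scheme.Hom.comp_apply, k3]
      exact hV₀W y
  let a : (U₀ : Scheme.{u}) ⟶ V₀ := IsOpenImmersion.lift V₀.ι (tV ≫ V.ι) hrange_a
  let b : (V₀ : Scheme.{u}) ⟶ U₀ := IsOpenImmersion.lift U₀.ι (sU ≫ U.ι) hrange_b
  have ha : a ≫ V₀.ι = tV ≫ V.ι := IsOpenImmersion.lift_fac _ _ _
  have hb : b ≫ U₀.ι = sU ≫ U.ι := IsOpenImmersion.lift_fac _ _ _
  have hab : a ≫ b = 𝟙 _ := by
    rw [← cancel_mono U₀.ι, Category.assoc, hb, Category.id_comp, ← k2, ← Category.assoc]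
    have : a ≫ sV = tV := by
      rw [← cancel_mono V.ι, Category.assoc, k1, ha]
    rw [this, h3]
  have hba : b ≫ a = 𝟙 _ := by
    rw [← cancel_mono V₀.ι, Category.assoc, ha, Category.id_comp, ← h2, ← Category.assoc]
    have : b ≫ tU = sU := by
      rw [← cancel_mono U.ι, Category.assoc, h1, hb]
    rw [this, k3]
  exact ⟨⟨U₀, hU₀, V₀, hV₀, ⟨a, b, hab, hba⟩⟩⟩

lemma isDominant_toPartialMap_hom {X Y : Scheme.{u}} (e : X.PartialIso Y) :
    IsDominant e.toPartialMap.hom := by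
  have := AlgebraicGeometry.Opens.isDominant_ι e.dense_target
  dsimp [Scheme.PartialIso.toPartialMap]
  infer_instance

lemma comp_symm_hom_aux {X Y : Scheme.{u}} (U : X.Opens) (V : Y.Opens)
    (i : (U : Scheme.{u}) ≅ V) :
    (U.ι.isoImage ((i.hom ≫ V.ι) ⁻¹ᵁ V)).inv ≫ (i.hom ≫ V.ι) ∣_ V ≫ i.inv ≫ U.ι =
      (U.ι ''ᵁ ((i.hom ≫ V.ι) ⁻¹ᵁ V)).ι := by
  have h1 : (i.hom ≫ V.ι) ∣_ V ≫ i.inv = ((i.hom ≫ V.ι) ⁻¹ᵁ V).ι := by
    rw [← cancel_mono i.hom, Category.assoc, Iso.inv_hom_id, Category.comp_id,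
      ← cancel_mono V.ι, Category.assoc, morphismRestrict_ι]
  rw [← Category.assoc ((i.hom ≫ V.ι) ∣_ V), h1]
  exact Scheme.Hom.isoImage_inv_ι _ _

lemma comp_symm_equiv_id {X Y : Scheme.{u}} [PreirreducibleSpace X] [Nonempty Y]
    (e : X.PartialIso Y) [IsDominant e.toPartialMap.hom] :
    (e.toPartialMap.comp e.symm.toPartialMap).equiv (Scheme.PartialMap.id X) := by
  have hc : (e.toPartialMap.comp e.symm.toPartialMap).hom =
      (e.toPartialMap.comp e.symm.toPartialMap).domain.ι :=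
    comp_symm_hom_aux e.source e.target e.iso
  refine ⟨(e.toPartialMap.comp e.symm.toPartialMap).domain,
    (e.toPartialMap.comp e.symm.toPartialMap).dense_domain, le_rfl, le_top, ?_⟩
  simp only [Scheme.PartialMap.restrict_hom]
  rw [hc]
  have key : ∀ (W : X.Opens) (h : W ≤ (⊤ : X.Opens)),
      X.homOfLE h ≫ (X.topIso.hom ≫ 𝟙 X) = W.ι := by
    intro W h
    rw [Category.comp_id, Scheme.topIso_hom]
    exact X.homOfLE_ι _
  exact (X.homOfLE_ι _).trans (key _ le_top).symm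

end Helpers


/-- Let X and Y be integral schemes. Then X and Y have isomorphic dense open subschemes if and only if
they are birational in the sense of rational maps, i.e. there exist dominant rational maps f : X ⤏ Y
and g : Y ⤏ X such that the composites g ∘ f and f ∘ g are the identity rational maps of X and of Y. -/
theorem result (X Y : Scheme.{u})
    [IsIntegral X] [IsIntegral Y] :
    Scheme.Birational X Y ↔
      ∃ (f : X ⤏ Y) (g : Y ⤏ X) (_ : f.IsDominant) (_ : g.IsDominant),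
        f.comp g = Scheme.RationalMap.id X ∧ g.comp f = Scheme.RationalMap.id Y := by
  constructor
  · rintro ⟨e⟩
    have h1 := isDominant_toPartialMap_hom e
    have h2 := isDominant_toPartialMap_hom e.symm
    refine ⟨e.toRationalMap, e.symm.toRationalMap, inferInstance, inferInstance, ?_, ?_⟩
    · rw [Scheme.RationalMap.toRationalMap_comp, Scheme.PartialMap.toRationalMap_eq_iff]
      exact comp_symm_equiv_id e
    · rw [Scheme.RationalMap.toRationalMap_comp, Scheme.PartialMap.toRationalMap_eq_iff]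
      exact comp_symm_equiv_id e.symm
  · rintro ⟨f, g, hf, hg, hfg, hgf⟩
    have e1 : (f.representative.comp g.representative).equiv (Scheme.PartialMap.id X) := by
      rw [← Scheme.PartialMap.toRationalMap_eq_iff, ← Scheme.RationalMap.comp_def,
        Scheme.RationalMap.toRationalMap_representative]
      exact hfg
    have e2 : (g.representative.comp f.representative).equiv (Scheme.PartialMap.id Y) := by
      rw [← Scheme.PartialMap.toRationalMap_eq_iff, ← Scheme.RationalMap.comp_def,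
        Scheme.RationalMap.toRationalMap_representative]
      exact hgf
    obtain ⟨W, hW, -, L1⟩ := exists_lifts_of_comp_equiv_id _ _ e1
    obtain ⟨W', hW', -, L2⟩ := exists_lifts_of_comp_equiv_id _ _ e2
    exact birational_of_lifts f.representative.domain g.representative.domain
      f.representative.hom g.representative.hom W hW W' hW' L1 L2

end Groth.Agent.S14360
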