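import Groth.Statements.S14372
-- import your own Groth.Agent.* helpers here
import Groth.Agent.Lib.Helper29TsenClosed
import Mathlib.RingTheory.MvPolynomial.EulerIdentity
import Mathlib.Tactic

set_option autoImplicit false
universe u
open Fano

namespace Groth.Agent.S14372

section Helpers

open MvPolynomial

variable {k : Type*} [Field k] {σ : Type*} [Fintype σ] [DecidableEq σ]

/-- chain rule for a substitution of one-variable polynomials -/
lemma derivative_aeval (g : σ → Polynomial k) (F : MvPolynomial σ k) :
    Polynomial.derivative (aeval g F) =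
      ∑ i, aeval g (pderiv i F) * Polynomial.derivative (g i) := by
  induction F using MvPolynomial.induction_on with
  | C a => simp
  | add p q hp hq => simp [hp, hq, Finset.sum_add_distrib, add_mul]
  | mul_X p j hp =>
    simp only [map_mul, aeval_X, Polynomial.derivative_mul, hp, Derivation.leibniz, pderiv_X,
      smul_eq_mul, map_add]
    simp only [add_mul, Finset.sum_add_distrib]
    rw [add_comm]
    congr 1
    · rw [Finset.sum_eq_single j]
      · simp
      · intro x _ hx
        simp [Ne.symm hx]
      · simp
    · rw [Finset.sum_mul]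
      apply Finset.sum_congr rfl
      intro x _
      ring

/-- if `F` vanishes along the line `p + l u`, the derivative of `F` at `p` in the direction `u`
vanishes -/
lemma dir_deriv_eq_zero [Infinite k] (F : MvPolynomial σ k) (p u : σ → k)
    (h : ∀ l : k, eval (fun i => p i + l * u i) F = 0) :
    ∑ i, eval p (pderiv i F) * u i = 0 := by
  let g : σ → Polynomial k := fun i => Polynomial.C (p i) + Polynomial.C (u i) * Polynomial.X
  have hev : ∀ (G : MvPolynomial σ k) (l : k),
      (aeval g G).eval l = eval (fun i => p i + l * u i) G := by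
    intro G l
    have h1 := comp_aeval_apply (σ := σ) (R := k) (f := g) (Polynomial.aeval l) G
    have h2 : (fun i => (Polynomial.aeval l) (g i)) = fun i => p i + l * u i := by
      funext i
      show Polynomial.aeval l (Polynomial.C (p i) + Polynomial.C (u i) * Polynomial.X) =
        p i + l * u i
      simp only [map_add, map_mul, Polynomial.aeval_C, Polynomial.aeval_X,
        Algebra.algebraMap_self, RingHom.id_apply]
      ring
    rw [h2] at h1
    simpa [Polynomial.coe_aeval_eq_eval, MvPolynomial.coe_aeval_eq_eval] using h1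
  have hq : aeval g F = 0 := Polynomial.funext (fun l => by rw [hev, h, Polynomial.eval_zero])
  have hd := derivative_aeval g F
  rw [hq, Polynomial.derivative_zero] at hd
  have h0 := congrArg (Polynomial.eval 0) hd
  simp only [Polynomial.eval_zero, Polynomial.eval_finsetSum, Polynomial.eval_mul, hev] at h0
  rw [h0]
  apply Finset.sum_congr rfl
  intro i _
  simp [g]

end Helpers


/-- Over an algebraically closed field k of arbitrary characteristic, let f be a homogeneous form of
degree d ≥ 2 in n + 1 variables and U a linear subspace of k^(n+1) on which f vanishes, such that at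
every nonzero vector of U some partial derivative of f does not vanish (the hypersurface f = 0 in
P^n contains the r-plane P(U), r + 1 = dim U, and is smooth at every point of it). Then 2 · dim U ≤
n + 1, i.e. r ≤ (n − 1)/2. (The published statement assumes the hypersurface smooth everywhere; this
row assumes smoothness only along P(U).) -/
theorem result (k : Type u) [Field k] [IsAlgClosed k]
    (n d : ℕ) (hd : 2 ≤ d) (f : MvPolynomial (Fin (n + 1)) k) (hf : f.IsHomogeneous d)
    (U : Submodule k (Fin (n + 1) → k)) (hU : ∀ u ∈ U, MvPolynomial.eval u f = 0)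
    (hsm : ∀ u ∈ U, u ≠ 0 → ∃ i : Fin (n + 1), MvPolynomial.eval u (MvPolynomial.pderiv i f) ≠ 0) :
    2 * Module.finrank k ↥U ≤ n + 1 := by
  classical
  open MvPolynomial in
  by_contra hcon
  push Not at hcon
  set s := Module.finrank k U with hs
  have : Infinite k := IsAlgClosed.instInfinite
  -- basis of U
  let b : Module.Basis (Fin s) k U := Module.finBasis k U
  -- complement
  obtain ⟨U', hU'⟩ := Submodule.exists_isCompl U
  have hdim : s + Module.finrank k U' = n + 1 := by
    have := Submodule.finrank_add_eq_of_isCompl hU'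
    simpa using this
  set m := Module.finrank k U' with hm
  let c : Module.Basis (Fin m) k U' := Module.finBasis k U'
  have hms : m < s := by omega
  -- the linear forms
  let ℓ : Fin (n + 1) → MvPolynomial (Fin s) k :=
    fun i => ∑ j, C ((b j : Fin (n + 1) → k) i) * X j
  have hℓ : ∀ i, (ℓ i).IsHomogeneous 1 := by
    intro i
    apply IsHomogeneous.sum
    intro j _
    exact isHomogeneous_C_mul_X _ _
  let φ : (Fin s → k) → (Fin (n + 1) → k) := fun t => ∑ j, t j • (b j : Fin (n + 1) → k)
  have hφ_mem : ∀ t, φ t ∈ U := fun t =>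
    U.sum_mem (fun j _ => U.smul_mem _ (b j).2)
  have hevℓ : ∀ t i, eval t (ℓ i) = φ t i := by
    intro t i
    simp [ℓ, φ, Finset.sum_apply, mul_comm]
  have hev : ∀ (G : MvPolynomial (Fin (n + 1)) k) t, eval t (aeval ℓ G) = eval (φ t) G := by
    intro G t
    have h1 := comp_aeval_apply (f := ℓ) (MvPolynomial.aeval t : MvPolynomial (Fin s) k →ₐ[k] k) G
    have h2 : (fun i => (MvPolynomial.aeval t) (ℓ i)) = φ t := by
      funext i
      exact hevℓ t i
    rw [h2] at h1
    exact h1
  -- the forms
  let h : Fin m → MvPolynomial (Fin s) k :=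
    fun l => ∑ i, C ((c l : Fin (n + 1) → k) i) * aeval ℓ (pderiv i f)
  have hh : ∀ l, (h l).IsHomogeneous (d - 1) := by
    intro l
    apply IsHomogeneous.sum
    intro i _
    have h1 : (aeval ℓ (pderiv i f)).IsHomogeneous (1 * (d - 1)) :=
      (hf.pderiv (i := i)).aeval ℓ hℓ
    rw [one_mul] at h1
    have := (isHomogeneous_C (Fin s) ((c l : Fin (n + 1) → k) i)).mul h1
    simpa using this
  obtain ⟨t, ht0, ht⟩ := Groth.Agent.Lib.Helper29.TsenLang.isCi_zero_of_isAlgClosed m s h
    (fun _ => d - 1) hh (fun _ => by omega) (by simpa using hms)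
  -- the point
  have hp : φ t ∈ U := hφ_mem t
  have hp0 : φ t ≠ 0 := by
    intro h0
    apply ht0
    have h1 : ∑ j, t j • b j = 0 := by
      apply Subtype.ext
      simpa [φ] using h0
    have := Fintype.linearIndependent_iff.mp b.linearIndependent t h1
    funext j
    exact this j
  -- the functional
  let Γ : (Fin (n + 1) → k) →ₗ[k] k :=
    ∑ i, eval (φ t) (pderiv i f) • (LinearMap.proj i : (Fin (n + 1) → k) →ₗ[k] k)
  have hΓ_apply : ∀ v, Γ v = ∑ i, eval (φ t) (pderiv i f) * v i := by
    intro v
    simp [Γ, LinearMap.sum_apply]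
  have hΓU : ∀ u ∈ U, Γ u = 0 := by
    intro u hu
    rw [hΓ_apply]
    exact dir_deriv_eq_zero f (φ t) u (fun l => hU _ (U.add_mem hp (U.smul_mem l hu)))
  have hΓc : ∀ l, Γ (c l) = 0 := by
    intro l
    rw [hΓ_apply]
    have := ht l
    simp only [h, map_sum, map_mul, eval_C, hev] at this
    rw [← this]
    apply Finset.sum_congr rfl
    intro i _
    ring
  have hΓU' : ∀ u' ∈ U', Γ u' = 0 := by
    have h0 : Γ.comp U'.subtype = 0 := c.ext (fun l => by simpa using hΓc l)
    intro u' hu'
    exact LinearMap.congr_fun h0 ⟨u', hu'⟩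
  have hΓ : ∀ v, Γ v = 0 := by
    intro v
    have hv : v ∈ U ⊔ U' := by
      rw [hU'.sup_eq_top]
      trivial
    obtain ⟨u, hu, u', hu', rfl⟩ := Submodule.mem_sup.mp hv
    rw [map_add, hΓU u hu, hΓU' u' hu', add_zero]
  obtain ⟨i, hi⟩ := hsm (φ t) hp hp0
  apply hi
  have := hΓ (Pi.single i 1)
  rw [hΓ_apply] at this
  simpa [Pi.single_apply] using this

end Groth.Agent.S14372
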