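import Groth.Statements.S14412
-- import your own Groth.Agent.* helpers here
import Mathlib

set_option autoImplicit false
universe u
open CategoryTheory
open CAlg

namespace Groth.Agent.S14412

section Helpers

open Abelian

variable {R : Type u} [CommRing R] (S : Submonoid R)

/-- the localization functor -/
noncomputable abbrev Lf : ModuleCat.{u} R ⥤ ModuleCat.{u} (Localization S) :=
  ModuleCat.localizedModuleFunctor.{u} S

/-- the localization functor on the image of `M` -/
lemma L_map_mk {M N : ModuleCat.{u} R} (f : M ⟶ N) (m : M) :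
    ((Lf S).map f).hom (M.localizedModuleMkLinearMap S m) = N.localizedModuleMkLinearMap S (f.hom m) := by
  change IsLocalizedModule.mapExtendScalars S (M.localizedModuleMkLinearMap S)
    (N.localizedModuleMkLinearMap S) (Localization S) f.hom (M.localizedModuleMkLinearMap S m) = _
  rw [IsLocalizedModule.mapExtendScalars_apply_apply, IsLocalizedModule.map_apply]

/-- scalars from `S` act invertibly -/
lemma smul_eq_zero_of_algebraMap {X : Type*} [AddCommGroup X] [Module (Localization S) X]
    (s : S) (x : X) (h : algebraMap R (Localization S) (s : R) • x = 0) : x = 0 :=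
  ((IsLocalization.map_units (Localization S) s).smul_eq_zero).mp h

/-- extensionality for morphisms out of a localized module -/
lemma L_hom_ext {M : ModuleCat.{u} R} {Y : ModuleCat.{u} (Localization S)}
    (φ ψ : M.localizedModule S ⟶ Y)
    (h : ∀ m : M, φ.hom (M.localizedModuleMkLinearMap S m) = ψ.hom (M.localizedModuleMkLinearMap S m)) :
    φ = ψ := by
  ext x
  obtain ⟨⟨m, s⟩, hx⟩ := IsLocalizedModule.surj S (M.localizedModuleMkLinearMap S) x
  have hx' : algebraMap R (Localization S) (s : R) • x = M.localizedModuleMkLinearMap S m := by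
    rw [algebraMap_smul]; exact hx
  have h1 : algebraMap R (Localization S) (s : R) • (φ.hom x - ψ.hom x) = 0 := by
    rw [smul_sub, ← map_smul, ← map_smul, hx', h m, sub_self]
  exact sub_eq_zero.mp (smul_eq_zero_of_algebraMap S s _ h1)

lemma L_map_smul {M N : ModuleCat.{u} R} (r : R) (f : M ⟶ N) :
    (Lf S).map (r • f) = algebraMap R (Localization S) r • (Lf S).map f := by
  refine L_hom_ext S _ _ fun m => ?_
  have h1 := L_map_mk S (r • f) m
  have h2 := L_map_mk S f m
  change ((Lf S).map (r • f)).hom (M.localizedModuleMkLinearMap S m) =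
    algebraMap R (Localization S) r • ((Lf S).map f).hom (M.localizedModuleMkLinearMap S m)
  rw [h1, h2]
  have h3 : N.localizedModuleMkLinearMap S (r • f.hom m) =
      algebraMap R (Localization S) r • N.localizedModuleMkLinearMap S (f.hom m) := by
    rw [map_smul, algebraMap_smul]
  exact h3

lemma mapExt_smul {M N : ModuleCat.{u} R} (i : ℕ) (r : R) (e : Ext M N i) :
    (Lf S).mapExtAddHom M N i (r • e) =
      algebraMap R (Localization S) r • (Lf S).mapExtAddHom M N i e := by
  simp only [Functor.mapExtAddHom_apply]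
  rw [Ext.smul_eq_comp_mk₀, Ext.mapExactFunctor_comp, Ext.mapExactFunctor_mk₀, L_map_smul,
    CategoryTheory.Functor.map_id, ← Ext.smul_eq_comp_mk₀]

/-- the easy direction of (2) -/
lemma mapExt_eq_zero_of_smul {M N : ModuleCat.{u} R} (i : ℕ) (e : Ext M N i) (s : S)
    (h : (s : R) • e = 0) : (Lf S).mapExtAddHom M N i e = 0 := by
  apply smul_eq_zero_of_algebraMap S s
  rw [← mapExt_smul, h, map_zero]

lemma base1 {M N : ModuleCat.{u} R} [Module.FinitePresentation R M]
    (y : Ext ((Lf S).obj M) ((Lf S).obj N) 0) :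
    ∃ (e : Ext M N 0) (s : S),
      algebraMap R (Localization S) (s : R) • y = (Lf S).mapExtAddHom M N 0 e := by
  obtain ⟨g, rfl⟩ := (Ext.mk₀_bijective _ _).2 y
  let g₀ : M.localizedModule S ⟶ N.localizedModule S := g
  let g' : M →ₗ[R] N.localizedModule S :=
    (g₀.hom.restrictScalars R) ∘ₗ (M.localizedModuleMkLinearMap S)
  obtain ⟨h, s, hs⟩ := Module.FinitePresentation.exists_lift_of_isLocalizedModule S
    (N.localizedModuleMkLinearMap S) g'
  refine ⟨Ext.mk₀ (ModuleCat.ofHom h), s, ?_⟩
  rw [Functor.mapExtAddHom_apply, Ext.mapExactFunctor_mk₀, ← Ext.mk₀_smul]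
  congr 1
  refine L_hom_ext S _ _ fun m => ?_
  have h1 := L_map_mk S (ModuleCat.ofHom h) m
  have h2 := LinearMap.congr_fun hs m
  change algebraMap R (Localization S) (s : R) • g₀.hom (M.localizedModuleMkLinearMap S m) =
    ((Lf S).map (ModuleCat.ofHom h)).hom (M.localizedModuleMkLinearMap S m)
  rw [h1]
  have h3 : N.localizedModuleMkLinearMap S (h m) =
      algebraMap R (Localization S) (s : R) • g₀.hom (M.localizedModuleMkLinearMap S m) := by
    rw [algebraMap_smul]
    exact h2
  exact h3.symm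

lemma base2 {M N : ModuleCat.{u} R} [Module.Finite R M] (e : Ext M N 0)
    (he : (Lf S).mapExtAddHom M N 0 e = 0) : ∃ s : S, (s : R) • e = 0 := by
  obtain ⟨f, rfl⟩ := (Ext.mk₀_bijective _ _).2 e
  rw [Functor.mapExtAddHom_apply, Ext.mapExactFunctor_mk₀] at he
  have hf : (Lf S).map f = 0 := (Ext.mk₀_bijective _ _).1 (he.trans (Ext.mk₀_zero _ _).symm)
  have hcomp : (N.localizedModuleMkLinearMap S).comp f.hom =
      (N.localizedModuleMkLinearMap S).comp (0 : M →ₗ[R] N) := by
    ext m
    have h1 := L_map_mk S f m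
    rw [hf] at h1
    have h2 : N.localizedModuleMkLinearMap S (f.hom m) = 0 := h1.symm
    simp only [LinearMap.comp_apply, LinearMap.zero_apply, map_zero]
    exact h2
  obtain ⟨s, hs⟩ := Module.Finite.exists_smul_of_comp_eq_of_isLocalizedModule S
    (N.localizedModuleMkLinearMap S) f.hom 0 hcomp
  refine ⟨s, ?_⟩
  rw [← Ext.mk₀_smul]
  have : (s : R) • f = 0 := by
    ext m
    have h1 := LinearMap.congr_fun hs m
    simp only [LinearMap.smul_apply, LinearMap.zero_apply, smul_zero] at h1
    exact h1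
  rw [this, Ext.mk₀_zero]

section Abstract

universe w w' v v' u₁ u₂

variable {C : Type u₁} [Category.{v} C] [Abelian C] {D : Type u₂} [Category.{v'} D] [Abelian D]
  [HasExt.{w} C] [HasExt.{w'} D]
  (F : C ⥤ D) [F.Additive] [Limits.PreservesFiniteLimits F] [Limits.PreservesFiniteColimits F]
  {T : ShortComplex C} (hT : T.ShortExact)

include hT in
lemma les3 (Y : D) {n₁ : ℕ} (x₃ : Ext (F.obj T.X₃) Y n₁)
    (hx₃ : (Ext.mk₀ (F.map T.g)).comp x₃ (zero_add n₁) = 0) {n₀ : ℕ} (hn₀ : 1 + n₀ = n₁) :
    ∃ x₁ : Ext (F.obj T.X₁) Y n₀, (hT.extClass.mapExactFunctor F).comp x₁ hn₀ = x₃ := by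
  obtain ⟨x₁, hx₁⟩ := Ext.contravariant_sequence_exact₃ (hT.map_of_exact F) Y x₃ hx₃ hn₀
  exact ⟨x₁, by rw [Ext.mapExactFunctor_extClass]; exact hx₁⟩

include hT in
lemma les1 (Y : D) {n₀ : ℕ} (x₁ : Ext (F.obj T.X₁) Y n₀) {n₁ : ℕ} (hn₁ : 1 + n₀ = n₁)
    (hx₁ : (hT.extClass.mapExactFunctor F).comp x₁ hn₁ = 0) :
    ∃ x₂ : Ext (F.obj T.X₂) Y n₀, (Ext.mk₀ (F.map T.f)).comp x₂ (zero_add n₀) = x₁ := by
  have h : (hT.map_of_exact F).extClass.comp x₁ hn₁ = 0 := by
    rw [← Ext.mapExactFunctor_extClass]; exact hx₁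
  exact Ext.contravariant_sequence_exact₁ (hT.map_of_exact F) Y x₁ hn₁ h

end Abstract

/-- the inductive step, for a short exact sequence with projective middle term -/
lemma step (N : ModuleCat.{u} R) (i : ℕ) (T : ShortComplex (ModuleCat.{u} R)) (hT : T.ShortExact)
    (projF : Projective T.X₂)
    (ihK1 : ∀ y : Ext ((Lf S).obj T.X₁) ((Lf S).obj N) i, ∃ (e : Ext T.X₁ N i) (s : S),
        algebraMap R (Localization S) (s : R) • y = (Lf S).mapExtAddHom T.X₁ N i e)
    (ihK2 : ∀ e : Ext T.X₁ N i, (Lf S).mapExtAddHom T.X₁ N i e = 0 → ∃ s : S, (s : R) • e = 0)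
    (ihF1 : ∀ y : Ext ((Lf S).obj T.X₂) ((Lf S).obj N) i, ∃ (e : Ext T.X₂ N i) (s : S),
        algebraMap R (Localization S) (s : R) • y = (Lf S).mapExtAddHom T.X₂ N i e) :
    (∀ y : Ext ((Lf S).obj T.X₃) ((Lf S).obj N) (i + 1), ∃ (e : Ext T.X₃ N (i + 1)) (s : S),
        algebraMap R (Localization S) (s : R) • y = (Lf S).mapExtAddHom T.X₃ N (i + 1) e) ∧
      (∀ e : Ext T.X₃ N (i + 1), (Lf S).mapExtAddHom T.X₃ N (i + 1) e = 0 →
        ∃ s : S, (s : R) • e = 0) := by
  have projLF : Projective ((Lf S).obj T.X₂) := (Lf S).projective_obj T.X₂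
  have hi : 1 + i = i + 1 := by omega
  constructor
  · intro y
    have hy0 : (Ext.mk₀ ((Lf S).map T.g)).comp y (zero_add _) = 0 :=
      Ext.eq_zero_of_projective _
    obtain ⟨y₁, hy₁⟩ := les3 (Lf S) hT _ y hy0 hi
    obtain ⟨e₁, s, hs⟩ := ihK1 y₁
    refine ⟨hT.extClass.comp e₁ hi, s, ?_⟩
    rw [Functor.mapExtAddHom_apply, Ext.mapExactFunctor_comp, ← hy₁, ← Ext.comp_smul, hs]
    rfl
  · intro e he
    have he0 : (Ext.mk₀ T.g).comp e (zero_add _) = 0 := Ext.eq_zero_of_projective _
    obtain ⟨e₁, rfl⟩ := Ext.contravariant_sequence_exact₃ hT _ e he0 hi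
    have h1 : (hT.extClass.mapExactFunctor (Lf S)).comp ((Lf S).mapExtAddHom _ _ i e₁) hi
        = 0 := by
      rw [Functor.mapExtAddHom_apply, ← Ext.mapExactFunctor_comp]
      exact he
    obtain ⟨y₂, hy₂⟩ := les1 (Lf S) hT _ _ hi h1
    obtain ⟨e₂, s, hs⟩ := ihF1 y₂
    have h2 : (Lf S).mapExtAddHom _ _ i
        ((s : R) • e₁ - (Ext.mk₀ T.f).comp e₂ (zero_add _)) = 0 := by
      rw [map_sub, mapExt_smul, sub_eq_zero,
        Functor.mapExtAddHom_apply (Lf S) _ _ _ ((Ext.mk₀ T.f).comp e₂ (zero_add _)),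
        Ext.mapExactFunctor_comp, Ext.mapExactFunctor_mk₀, ← Functor.mapExtAddHom_apply,
        ← hs, Ext.comp_smul, hy₂]
    obtain ⟨s', hs'⟩ := ihK2 _ h2
    refine ⟨s' * s, ?_⟩
    rw [smul_sub, sub_eq_zero] at hs'
    rw [Submonoid.coe_mul, mul_smul, ← Ext.comp_smul, ← Ext.comp_smul, hs', Ext.comp_smul,
      hT.extClass_comp_assoc, smul_zero]

open Limits in
theorem main [IsNoetherianRing R] (N : ModuleCat.{u} R) (i : ℕ) :
    ∀ (M : ModuleCat.{u} R), Module.Finite R M →
      (∀ y : Ext ((Lf S).obj M) ((Lf S).obj N) i, ∃ (e : Ext M N i) (s : S),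
        algebraMap R (Localization S) (s : R) • y = (Lf S).mapExtAddHom M N i e) ∧
      (∀ e : Ext M N i, (Lf S).mapExtAddHom M N i e = 0 → ∃ s : S, (s : R) • e = 0) := by
  induction i with
  | zero =>
    intro M hM
    have : Module.FinitePresentation R M := Module.finitePresentation_of_finite R M
    exact ⟨base1 S, base2 S⟩
  | succ i ih =>
    intro M hM
    obtain ⟨n, π, hπ⟩ := Module.Finite.exists_fin' R M
    let F : ModuleCat.{u} R := ModuleCat.of R (Fin n → R)
    let g : F ⟶ M := ModuleCat.ofHom π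
    have hepi : Epi g := (ModuleCat.epi_iff_surjective g).mpr hπ
    have hT : (ShortComplex.mk (kernel.ι g) g (kernel.condition g)).ShortExact :=
      { exact := ShortComplex.exact_kernel g }
    have hF : Module.Finite R F := inferInstanceAs (Module.Finite R (Fin n → R))
    have hFN : IsNoetherian R F := isNoetherian_of_isNoetherianRing_of_finite R F
    have hK : Module.Finite R (kernel g : ModuleCat.{u} R) :=
      Module.Finite.of_injective (kernel.ι g).hom ((ModuleCat.mono_iff_injective _).mp inferInstance)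
    have projF : Projective F :=
      (IsProjective.iff_projective (Fin n → R)).mp inferInstance
    obtain ⟨ihK1, ihK2⟩ := ih (kernel g) hK
    obtain ⟨ihF1, -⟩ := ih F hF
    exact step S N i _ hT projF ihK1 ihK2 ihF1

end Helpers


/-- Let R be a Noetherian commutative ring, S a multiplicative subset of R, and M, N finitely generated
R-modules. For i ≥ 0 consider the map Ext^i_R(M, N) → Ext^i_{S⁻¹R}(S⁻¹M, S⁻¹N) induced on Ext groups
(computed in the categories of modules) by the exact localization functor M ↦ S⁻¹M. Then this map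
exhibits its target as the localization S⁻¹ Ext^i_R(M, N): every element of the target, after
multiplication by some s ∈ S, is the image of an element of Ext^i_R(M, N), and an element of
Ext^i_R(M, N) maps to zero if and only if it is annihilated by some element of S. (Equivalently, the
induced map identifies S⁻¹Ext^i_R(M, N) with Ext^i_{S⁻¹R}(S⁻¹M, S⁻¹N).) -/
theorem result (R : Type u) [CommRing R] [IsNoetherianRing R]
    (S : Submonoid R) (M N : ModuleCat.{u} R) [Module.Finite R M] [Module.Finite R N] (i : ℕ) :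
    (∀ y : Abelian.Ext ((ModuleCat.localizedModuleFunctor.{u} S).obj M) ((ModuleCat.localizedModuleFunctor.{u} S).obj N) i,
        ∃ (e : Abelian.Ext M N i) (s : S),
          algebraMap R (Localization S) (s : R) • y = (ModuleCat.localizedModuleFunctor.{u} S).mapExtAddHom M N i e) ∧
      (∀ e : Abelian.Ext M N i,
        (ModuleCat.localizedModuleFunctor.{u} S).mapExtAddHom M N i e = 0 ↔ ∃ s : S, (s : R) • e = 0) := by
  obtain ⟨h1, h2⟩ := main S N i M inferInstance
  refine ⟨h1, fun e => ⟨h2 e, ?_⟩⟩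
  rintro ⟨s, hs⟩
  exact mapExt_eq_zero_of_smul S i e s hs

end Groth.Agent.S14412
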