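import Groth.Statements.S14448
-- import your own Groth.Agent.* helpers here
import Mathlib.CategoryTheory.Adjunction.Mates
import Mathlib.Tactic

set_option autoImplicit false
universe u
open Coherent

namespace Groth.Agent.S14448

section Helpers

open CategoryTheory


universe v₁ v₂ v₃ v₄ v₅ v₆ u₁ u₂ u₃ u₄ u₅ u₆

section Conj

variable {C : Type u₁} {D : Type u₂} [Category.{v₁} C] [Category.{v₂} D]
  {L L' : C ⥤ D} {R R' : D ⥤ C}

lemma unit_comp_map_iso (adj : L ⊣ R) (adj' : L' ⊣ R') (α : L ≅ L') (c : R ≅ R')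
    (h : conjugateEquiv adj adj' α.inv = c.hom) (X : C) :
    adj.unit.app X ≫ R.map (α.hom.app X) = adj'.unit.app X ≫ c.inv.app (L'.obj X) := by
  have h1 := unit_conjugateEquiv adj adj' α.inv X
  rw [h] at h1
  have h2 : R.map (α.hom.app X) = c.hom.app (L.obj X) ≫ R'.map (α.hom.app X) ≫
      c.inv.app (L'.obj X) := by
    rw [← Category.assoc, ← c.hom.naturality, Category.assoc, Iso.hom_inv_id_app]
    exact (Category.comp_id _).symm
  rw [h2, ← Category.assoc, h1, Category.assoc, ← Category.assoc (R'.map _), ← R'.map_comp,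
    Iso.inv_hom_id_app, R'.map_id]
  congr 1
  exact Category.id_comp _

lemma homEquiv_of_conjugate (adj : L ⊣ R) (adj' : L' ⊣ R') (α : L ≅ L') (c : R ≅ R')
    (h : conjugateEquiv adj adj' α.inv = c.hom) (X : C) (Y : D) (t : L'.obj X ⟶ Y) :
    adj.homEquiv X Y (α.hom.app X ≫ t) = adj'.homEquiv X Y t ≫ c.inv.app Y := by
  rw [Adjunction.homEquiv_unit, Adjunction.homEquiv_unit, R.map_comp, ← Category.assoc,
    unit_comp_map_iso adj adj' α c h X, Category.assoc, Category.assoc, c.inv.naturality]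

lemma unit_eq_of_conjugate (adj : L ⊣ R) (adj' : L' ⊣ R') (α : L ≅ L') (c : R ≅ R')
    (h : conjugateEquiv adj adj' α.inv = c.hom) (X : C) :
    adj'.unit.app X = adj.unit.app X ≫ c.hom.app (L.obj X) ≫ R'.map (α.hom.app X) := by
  have h1 := unit_conjugateEquiv adj adj' α.inv X
  rw [h] at h1
  rw [← Category.assoc, h1, Category.assoc, ← R'.map_comp, Iso.inv_hom_id_app, R'.map_id]
  exact (Category.comp_id _).symm

end Conj

section Main

variable {AX : Type u₁} {AY : Type u₂} {AZ : Type u₃} {AU : Type u₄} {AV : Type u₅} {AW : Type u₆}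
  [Category.{v₁} AX] [Category.{v₂} AY] [Category.{v₃} AZ] [Category.{v₄} AU] [Category.{v₅} AV]
  [Category.{v₆} AW]
  {Lf : AY ⥤ AX} {Rf : AX ⥤ AY} (adjf : Lf ⊣ Rf)
  {Lg : AZ ⥤ AY} {Rg : AY ⥤ AZ} (adjg : Lg ⊣ Rg)
  {Lfg : AZ ⥤ AX} {Rfg : AX ⥤ AZ} (adjfg : Lfg ⊣ Rfg)
  {Lφ : AV ⥤ AU} {Rφ : AU ⥤ AV} (adjφ : Lφ ⊣ Rφ)
  {Lψ : AW ⥤ AV} {Rψ : AV ⥤ AW} (adjψ : Lψ ⊣ Rψ)
  {Lφψ : AW ⥤ AU} {Rφψ : AU ⥤ AW} (adjφψ : Lφψ ⊣ Rφψ)
  {Rξ : AX ⥤ AU} {Rη : AY ⥤ AV} {Rζ : AZ ⥤ AW}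
  (cfg : Rf ⋙ Rg ≅ Rfg) (αfg : Lg ⋙ Lf ≅ Lfg)
  (hfg : conjugateEquiv (adjg.comp adjf) adjfg αfg.inv = cfg.hom)
  (cφψ : Rφ ⋙ Rψ ≅ Rφψ) (αφψ : Lψ ⋙ Lφ ≅ Lφψ)
  (hφψ : conjugateEquiv (adjψ.comp adjφ) adjφψ αφψ.inv = cφψ.hom)
  (σ₁ : Rf ⋙ Rη ⟶ Rξ ⋙ Rφ) (σ₂ : Rg ⋙ Rζ ⟶ Rη ⋙ Rψ) (σ : Rfg ⋙ Rζ ⟶ Rξ ⋙ Rφψ)
  (hpaste : ∀ N : AX, σ₂.app (Rf.obj N) ≫ Rψ.map (σ₁.app N) ≫ cφψ.hom.app (Rξ.obj N) =
    Rζ.map (cfg.hom.app N) ≫ σ.app N)

include hfg hφψ hpaste in
theorem baseChange_paste (L : AZ) :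
    αφψ.hom.app (Rζ.obj L) ≫ (adjφψ.homEquiv (Rζ.obj L) (Rξ.obj (Lfg.obj L))).symm
        (Rζ.map (adjfg.unit.app L) ≫ σ.app (Lfg.obj L)) =
      Lφ.map ((adjψ.homEquiv (Rζ.obj L) (Rη.obj (Lg.obj L))).symm
          (Rζ.map (adjg.unit.app L) ≫ σ₂.app (Lg.obj L))) ≫
        (adjφ.homEquiv (Rη.obj (Lg.obj L)) (Rξ.obj (Lf.obj (Lg.obj L)))).symm
          (Rη.map (adjf.unit.app (Lg.obj L)) ≫ σ₁.app (Lf.obj (Lg.obj L))) ≫
        Rξ.map (αfg.hom.app L) := by
  apply (adjφ.homEquiv _ _).injective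
  apply (adjψ.homEquiv _ _).injective
  have hL := homEquiv_of_conjugate (adjψ.comp adjφ) adjφψ αφψ cφψ hφψ (Rζ.obj L) _
    ((adjφψ.homEquiv (Rζ.obj L) (Rξ.obj (Lfg.obj L))).symm
      (Rζ.map (adjfg.unit.app L) ≫ σ.app (Lfg.obj L)))
  rw [Adjunction.comp_homEquiv] at hL
  simp only [Equiv.trans_apply, Equiv.apply_symm_apply] at hL
  rw [hL]
  rw [Adjunction.homEquiv_naturality_left, Adjunction.homEquiv_naturality_right,
    Equiv.apply_symm_apply, Adjunction.homEquiv_naturality_right, Equiv.apply_symm_apply]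
  have hu := unit_eq_of_conjugate (adjg.comp adjf) adjfg αfg cfg hfg L
  rw [Adjunction.comp_unit_app] at hu
  rw [hu]
  have n1 : σ₂.app (Lg.obj L) ≫ Rψ.map (Rη.map (adjf.unit.app (Lg.obj L))) =
      Rζ.map (Rg.map (adjf.unit.app (Lg.obj L))) ≫ σ₂.app (Rf.obj (Lf.obj (Lg.obj L))) :=
    (σ₂.naturality (adjf.unit.app (Lg.obj L))).symm
  have n2 : σ₂.app (Rf.obj (Lf.obj (Lg.obj L))) ≫ Rψ.map (σ₁.app (Lf.obj (Lg.obj L))) =
      Rζ.map (cfg.hom.app (Lf.obj (Lg.obj L))) ≫ σ.app (Lf.obj (Lg.obj L)) ≫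
        cφψ.inv.app (Rξ.obj (Lf.obj (Lg.obj L))) := by
    have := hpaste (Lf.obj (Lg.obj L))
    rw [← Category.assoc, ← this, Category.assoc, Category.assoc,
      Iso.hom_inv_id_app]
    congr 1
    exact (Category.comp_id _).symm
  have n3 : σ.app (Lf.obj (Lg.obj L)) ≫ cφψ.inv.app (Rξ.obj (Lf.obj (Lg.obj L))) ≫
      Rψ.map (Rφ.map (Rξ.map (αfg.hom.app L))) =
      Rζ.map (Rfg.map (αfg.hom.app L)) ≫ σ.app (Lfg.obj L) ≫
        cφψ.inv.app (Rξ.obj (Lfg.obj L)) := by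
    have a1 := cφψ.inv.naturality (Rξ.map (αfg.hom.app L))
    have a2 := σ.naturality (αfg.hom.app L)
    dsimp at a1 a2
    rw [← a1, ← Category.assoc, ← a2, Category.assoc]
  simp only [Functor.map_comp, Category.assoc, Functor.comp_obj]
  rw [reassoc_of% n1, reassoc_of% n2, n3]

end Main


end Helpers


open AlgebraicGeometry CategoryTheory Scheme.Modules in
/-- Take two commutative squares of schemes side by side, f : X → Y over φ : U → V (vertical maps ξ : X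
→ U and η : Y → V, f ≫ η = ξ ≫ φ) and g : Y → Z over ψ : V → W (vertical map ζ : Z → W, g ≫ ζ = η ≫
ψ), and an O_Z-module L. For a commutative square the base change map β_{f,φ}(M) : φ^* η_* M → ξ_*
f^* M is the adjoint of η_*(unit) : η_* M → η_* f_* f^* M = φ_* ξ_* f^* M, and α denotes the
composition isomorphisms of module pullbacks. Then the composite of α_{φ,ψ}(ζ_* L) : φ^* ψ^* ζ_* L →
(φ ≫ ψ)^* ζ_* L with β_{f ≫ g, φ ≫ ψ}(L) equals the composite of φ^* β_{g,ψ}(L), β_{f,φ}(g^* L) and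
ξ_* α_{f,g}(L), as maps φ^* ψ^* ζ_* L → ξ_* (f ≫ g)^* L. No cartesian or finiteness hypothesis is
made; the outer square is used through any proof hw of its commutativity. -/
theorem result {X Y Z U V W : Scheme.{u}} (f : X ⟶ Y) (g : Y ⟶ Z)
    (ξ : X ⟶ U) (η : Y ⟶ V) (ζ : Z ⟶ W) (φ : U ⟶ V) (ψ : V ⟶ W)
    (h₁ : f ≫ η = ξ ≫ φ) (h₂ : g ≫ ζ = η ≫ ψ) (hw : (f ≫ g) ≫ ζ = ξ ≫ (φ ≫ ψ)) (L : Z.Modules) :
    (pullbackComp φ ψ).hom.app ((pushforward ζ).obj L) ≫
        (((pullbackPushforwardAdjunction (φ ≫ ψ)).homEquiv ((pushforward ζ).obj L)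
            ((pushforward ξ).obj ((pullback (f ≫ g)).obj L))).symm
          ((pushforward ζ).map ((pullbackPushforwardAdjunction (f ≫ g)).unit.app L) ≫
            (pushforwardComp (f ≫ g) ζ).hom.app ((pullback (f ≫ g)).obj L) ≫
            (pushforwardCongr hw).hom.app ((pullback (f ≫ g)).obj L) ≫
            (pushforwardComp ξ (φ ≫ ψ)).inv.app ((pullback (f ≫ g)).obj L))) =
      (pullback φ).map (((pullbackPushforwardAdjunction ψ).homEquiv ((pushforward ζ).obj L)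
            ((pushforward η).obj ((pullback g).obj L))).symm
          ((pushforward ζ).map ((pullbackPushforwardAdjunction g).unit.app L) ≫
            (pushforwardComp g ζ).hom.app ((pullback g).obj L) ≫
            (pushforwardCongr h₂).hom.app ((pullback g).obj L) ≫
            (pushforwardComp η ψ).inv.app ((pullback g).obj L))) ≫
        (((pullbackPushforwardAdjunction φ).homEquiv ((pushforward η).obj ((pullback g).obj L))
            ((pushforward ξ).obj ((pullback f).obj ((pullback g).obj L)))).symm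
          ((pushforward η).map ((pullbackPushforwardAdjunction f).unit.app ((pullback g).obj L)) ≫
            (pushforwardComp f η).hom.app ((pullback f).obj ((pullback g).obj L)) ≫
            (pushforwardCongr h₁).hom.app ((pullback f).obj ((pullback g).obj L)) ≫
            (pushforwardComp ξ φ).inv.app ((pullback f).obj ((pullback g).obj L)))) ≫
        (pushforward ξ).map ((pullbackComp f g).hom.app L) := by
  let σ₁ : pushforward f ⋙ pushforward η ⟶ pushforward ξ ⋙ pushforward φ :=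
    (pushforwardComp f η).hom ≫ (pushforwardCongr h₁).hom ≫ (pushforwardComp ξ φ).inv
  let σ₂ : pushforward g ⋙ pushforward ζ ⟶ pushforward η ⋙ pushforward ψ :=
    (pushforwardComp g ζ).hom ≫ (pushforwardCongr h₂).hom ≫ (pushforwardComp η ψ).inv
  let σ : pushforward (f ≫ g) ⋙ pushforward ζ ⟶ pushforward ξ ⋙ pushforward (φ ≫ ψ) :=
    (pushforwardComp (f ≫ g) ζ).hom ≫ (pushforwardCongr hw).hom ≫
      (pushforwardComp ξ (φ ≫ ψ)).inv
  have hpaste : ∀ N : X.Modules, σ₂.app ((pushforward f).obj N) ≫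
      (pushforward ψ).map (σ₁.app N) ≫ (pushforwardComp φ ψ).hom.app ((pushforward ξ).obj N) =
      (pushforward ζ).map ((pushforwardComp f g).hom.app N) ≫ σ.app N := by
    intro N
    refine Scheme.Modules.hom_ext _ _ (fun U => ?_)
    simp [σ₁, σ₂, σ]
    change N.presheaf.map _ ≫ N.presheaf.map _ = N.presheaf.map _
    rw [← Functor.map_comp]
    rfl
  exact baseChange_paste (pullbackPushforwardAdjunction f) (pullbackPushforwardAdjunction g)
    (pullbackPushforwardAdjunction (f ≫ g)) (pullbackPushforwardAdjunction φ)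
    (pullbackPushforwardAdjunction ψ) (pullbackPushforwardAdjunction (φ ≫ ψ))
    (pushforwardComp f g) (pullbackComp f g) (conjugateEquiv_pullbackComp_inv f g)
    (pushforwardComp φ ψ) (pullbackComp φ ψ) (conjugateEquiv_pullbackComp_inv φ ψ)
    σ₁ σ₂ σ hpaste L

end Groth.Agent.S14448
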