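import Groth.Statements.S14453
-- import your own Groth.Agent.* helpers here
import Mathlib

set_option autoImplicit false
universe w u
open CategoryTheory AlgebraicGeometry
open EtCore

namespace Groth.Agent.S14453

section Helpers

open Limits

variable {X : Scheme.{u}}

lemma mem_et (U : X.Etale) (R : Sieve U) :
    R ∈ X.smallEtaleTopology U ↔
      ∀ x : U.left, ∃ (Y : X.Etale) (f : Y ⟶ U) (y : Y.left), R f ∧ f.left y = x := by
  have h := Scheme.smallGrothendieckTopology_eq_toGrothendieck_smallPretopology X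
    (P := @Etale) (Q := @Etale) le_rfl
  have h2 := Scheme.mem_toGrothendieck_smallPretopology (P := @Etale) (Q := @Etale) U R
  constructor
  · intro hR x
    have hR' : R ∈ (X.smallPretopology (P := @Etale) (Q := @Etale)).toGrothendieck U := by
      rw [← h]; exact hR
    obtain ⟨Y, f, y, h1, _, h3⟩ := h2.1 hR' x
    exact ⟨Y, f, y, h1, h3⟩
  · intro hR
    have : R ∈ (X.smallPretopology (P := @Etale) (Q := @Etale)).toGrothendieck U := by
      refine h2.2 fun x => ?_
      obtain ⟨Y, f, y, h1, h3⟩ := hR x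
      exact ⟨Y, f, y, h1, inferInstance, h3⟩
    rw [← h] at this; exact this

lemma mem_zar (U : X.Etale) (R : Sieve U) :
    R ∈ X.smallGrothendieckTopology (P := @IsOpenImmersion) (Q := @Etale) U ↔
      ∀ x : U.left, ∃ (Y : X.Etale) (f : Y ⟶ U) (y : Y.left),
        R f ∧ IsOpenImmersion f.left ∧ f.left y = x := by
  have h := Scheme.smallGrothendieckTopology_eq_toGrothendieck_smallPretopology X
    (P := @IsOpenImmersion) (Q := @Etale) (fun _ _ f hf => by infer_instance)
  have h2 := Scheme.mem_toGrothendieck_smallPretopology (P := @IsOpenImmersion) (Q := @Etale) U R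
  rw [h]; exact h2

/-- the étale `X`-scheme given by an open of an étale `X`-scheme -/
noncomputable abbrev opn (Y : X.Etale) (W : Y.left.Opens) : X.Etale :=
  Scheme.Etale.mk (W.ι ≫ Y.hom)

/-- the inclusion of an open -/
noncomputable abbrev opnι (Y : X.Etale) (W : Y.left.Opens) : opn Y W ⟶ Y :=
  MorphismProperty.Over.homMk W.ι

/-- the affine open cover of an étale `X`-scheme as a pre-0-hypercover -/
noncomputable def aff (Y : X.Etale) : PreZeroHypercover.{u} Y where
  I₀ := Y.left.affineOpens
  X W := opn Y W.1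
  f W := opnι Y W.1

lemma aff_mem (Y : X.Etale) :
    (aff Y).sieve₀ ∈ X.smallGrothendieckTopology (P := @IsOpenImmersion) (Q := @Etale) Y := by
  rw [mem_zar]
  intro x
  obtain ⟨_, ⟨W, hW, rfl⟩, hxW, -⟩ :=
    Y.left.isBasis_affineOpens.exists_subset_of_mem_open (Set.mem_univ x) isOpen_univ
  refine ⟨opn Y W, opnι Y W, ⟨x, hxW⟩, (aff Y).sieve₀_f ⟨W, hW⟩, ?_, rfl⟩
  change IsOpenImmersion (Scheme.Opens.ι W)
  infer_instance

instance (Y : X.Etale) (W : (aff Y).I₀) : IsAffine ((aff Y).X W).left := W.2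

/-- the Zariski 1-hypercover of an étale `X`-scheme by affines, with affine refinements of the
pairwise intersections -/
noncomputable def oneHyp (Y : X.Etale) :
    (X.smallGrothendieckTopology (P := @IsOpenImmersion) (Q := @Etale)).OneHypercover Y :=
  GrothendieckTopology.OneHypercover.mk'
    ((aff Y).refineOneHypercover fun i j => aff (pullback ((aff Y).f i) ((aff Y).f j)))
    (aff_mem Y) (fun i j => by
      have h := PreZeroHypercover.sieve₁'_refineOneHypercover (aff Y)
        (fun i j => aff (pullback ((aff Y).f i) ((aff Y).f j))) i j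
      exact h ▸ aff_mem (pullback ((aff Y).f i) ((aff Y).f j)))

lemma isPullback_left {U V Y : X.Etale} (f : V ⟶ U) (k : Y ⟶ U) :
    IsPullback (pullback.fst f k).left (pullback.snd f k).left f.left k.left :=
  ((IsPullback.of_hasPullback f k).map (Scheme.Etale.forget X)).map (Over.forget X)

/-- Lemma B: pullback of the sieve of an affine surjection to an affine is a sheaf-for sieve -/
lemma lemmaB {F : X.Etaleᵒᵖ ⥤ Type w}
    (hA : ∀ (U V : X.Etale) [IsAffine U.left] [IsAffine V.left] (f : V ⟶ U) [Surjective f.left],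
          Presieve.IsSheafFor F (Presieve.singleton f))
    {U V Y : X.Etale} [IsAffine U.left] [IsAffine V.left] [IsAffine Y.left]
    (f : V ⟶ U) [Surjective f.left] (k : Y ⟶ U) :
    Presieve.IsSheafFor F ((Sieve.generate (Presieve.singleton f)).pullback k).arrows := by
  rw [← Sieve.pullbackArrows_comm, Presieve.pullback_singleton,
    ← Presieve.isSheafFor_iff_generate]
  have hp := isPullback_left f k
  have h1 : IsAffine (pullback f k).left := IsAffine.of_isIso hp.isoPullback.hom
  have h2 : Surjective (pullback.snd f k).left :=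
    MorphismProperty.of_isPullback (P := @Surjective) hp inferInstance
  exact hA Y (pullback f k) (pullback.snd f k)

/-- Claim A: the sieve of an affine surjection is covering for the finest topology of `F` -/
lemma claimA {F : X.Etaleᵒᵖ ⥤ Type w}
    (hZar : Presieve.IsSheaf (X.smallGrothendieckTopology (P := @IsOpenImmersion) (Q := @Etale)) F)
    (hA : ∀ (U V : X.Etale) [IsAffine U.left] [IsAffine V.left] (f : V ⟶ U) [Surjective f.left],
          Presieve.IsSheafFor F (Presieve.singleton f))
    {U V : X.Etale} [IsAffine U.left] [IsAffine V.left] (f : V ⟶ U) [Surjective f.left] :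
    Sieve.generate (Presieve.singleton f) ∈ Sheaf.finestTopologySingle F U := by
  intro Y g
  refine (oneHyp Y).isSheafFor_sieve_of_pullback hZar (fun i => ?_) (fun i j k => ?_)
  · have : IsAffine ((oneHyp Y).X i).left := i.2
    have h := lemmaB hA f ((oneHyp Y).f i ≫ g)
    rw [Sieve.pullback_comp] at h
    exact h
  · have : IsAffine ((oneHyp Y).Y k).left := k.2
    have h := lemmaB hA f (((oneHyp Y).p₁ k ≫ (oneHyp Y).f i) ≫ g)
    rw [Sieve.pullback_comp] at h
    exact h.isSeparatedFor

lemma exists_affine_local {A B : Scheme.{u}} (f : A ⟶ B) [Etale f] (y : A) :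
    ∃ (U'' : B.Opens) (V'' : A.Opens) (hle : V'' ≤ f ⁻¹ᵁ U''),
      IsAffineOpen U'' ∧ IsAffineOpen V'' ∧ f y ∈ U'' ∧ y ∈ V'' ∧
        Function.Surjective (f.resLE U'' V'' hle) := by
  obtain ⟨_, ⟨U', hU', rfl⟩, hxU', -⟩ :=
    B.isBasis_affineOpens.exists_subset_of_mem_open (Set.mem_univ (f y)) isOpen_univ
  obtain ⟨_, ⟨Y', hY', rfl⟩, hyY', hYU⟩ :=
    A.isBasis_affineOpens.exists_subset_of_mem_open (show y ∈ f ⁻¹ᵁ U' from hxU') (f ⁻¹ᵁ U').2
  let W : B.Opens := ⟨f '' Y', f.isOpenMap _ Y'.2⟩
  have hxW : f y ∈ W := ⟨y, hyY', rfl⟩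
  obtain ⟨r, hrW, hxr⟩ := hU'.exists_basicOpen_le ⟨f y, hxW⟩ hxU'
  have hle : A.basicOpen (f.appLE U' Y' hYU r) ≤ f ⁻¹ᵁ B.basicOpen r := by
    rw [Scheme.basicOpen_appLE]; exact inf_le_right
  refine ⟨B.basicOpen r, A.basicOpen (f.appLE U' Y' hYU r), hle, hU'.basicOpen r,
    hY'.basicOpen _, hxr, ?_, ?_⟩
  · rw [Scheme.basicOpen_appLE]; exact ⟨hyY', hxr⟩
  · intro u
    obtain ⟨y', hy', hy'u⟩ := hrW u.2
    have hy'2 : y' ∈ A.basicOpen (f.appLE U' Y' hYU r) := by
      rw [Scheme.basicOpen_appLE]
      refine ⟨hy', ?_⟩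
      change f y' ∈ B.basicOpen r
      rw [hy'u]; exact u.2
    refine ⟨⟨y', hy'2⟩, ?_⟩
    apply (B.basicOpen r).ι.isOpenEmbedding.injective
    rw [← Scheme.Hom.comp_apply, Scheme.Hom.resLE_comp_ι]
    exact hy'u

/-- étale covering sieves are covering for the finest topology of `F` -/
lemma et_mem_finest {F : X.Etaleᵒᵖ ⥤ Type w}
    (hZar : Presieve.IsSheaf (X.smallGrothendieckTopology (P := @IsOpenImmersion) (Q := @Etale)) F)
    (hA : ∀ (U V : X.Etale) [IsAffine U.left] [IsAffine V.left] (f : V ⟶ U) [Surjective f.left],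
          Presieve.IsSheafFor F (Presieve.singleton f))
    (U : X.Etale) (R : Sieve U) (hR : R ∈ X.smallEtaleTopology U) :
    R ∈ Sheaf.finestTopologySingle F U := by
  set J' := Sheaf.finestTopologySingle F with hJ'
  have hZ : X.smallGrothendieckTopology (P := @IsOpenImmersion) (Q := @Etale) ≤ J' := by
    intro T S hS T' g
    exact hZar _ ((X.smallGrothendieckTopology (P := @IsOpenImmersion) (Q := @Etale)).pullback_stable
      g hS)
  rw [mem_et] at hR
  choose Yx fx yx hRf hfy using hR
  have hloc := fun x => exists_affine_local (fx x).left (yx x)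
  choose U'' V'' hle hUaff hVaff hxU hyV hsurj using hloc
  let Ux : U.left → X.Etale := fun x => opn U (U'' x)
  let ux : ∀ x, Ux x ⟶ U := fun x => opnι U (U'' x)
  let Z : Sieve U := Sieve.ofArrows Ux ux
  have hZmem : Z ∈ J' U := by
    refine hZ _ ((mem_zar U Z).2 fun x => ?_)
    have hx : x ∈ U'' x := by
      have := hxU x
      rwa [hfy x] at this
    refine ⟨Ux x, ux x, ⟨x, hx⟩, Sieve.ofArrows_mk Ux ux x, ?_, rfl⟩
    change IsOpenImmersion (Scheme.Opens.ι (U'' x))
    infer_instance
  refine J'.transitive hZmem R ?_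
  rintro T g ⟨T', h, _, ⟨x⟩, rfl⟩
  rw [Sieve.pullback_comp]
  apply J'.pullback_stable
  let Vx : X.Etale := opn (Yx x) (V'' x)
  let gx : Vx ⟶ Ux x :=
    MorphismProperty.Over.homMk ((fx x).left.resLE (U'' x) (V'' x) (hle x)) (by
      change (fx x).left.resLE (U'' x) (V'' x) (hle x) ≫ (U'' x).ι ≫ U.hom = (V'' x).ι ≫ (Yx x).hom
      rw [Scheme.Hom.resLE_comp_ι_assoc, MorphismProperty.Over.w])
  have h1 : IsAffine (Ux x).left := hUaff x
  have h2 : IsAffine Vx.left := hVaff x
  have h3 : Surjective gx.left := ⟨hsurj x⟩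
  refine J'.transitive (claimA hZar hA gx) _ ?_
  rintro T2 g2 ⟨T3, h2, _, ⟨⟩, rfl⟩
  rw [Sieve.pullback_comp]
  apply J'.pullback_stable
  have htop : (R.pullback (ux x)).pullback gx = ⊤ := by
    rw [← Sieve.id_mem_iff_eq_top]
    change R ((𝟙 _ ≫ gx) ≫ ux x)
    have key : (𝟙 _ ≫ gx) ≫ ux x = opnι (Yx x) (V'' x) ≫ fx x := by
      apply MorphismProperty.Over.Hom.ext
      change (𝟙 _ ≫ (fx x).left.resLE (U'' x) (V'' x) (hle x)) ≫ (U'' x).ι =
        (V'' x).ι ≫ (fx x).left
      rw [Category.id_comp, Scheme.Hom.resLE_comp_ι]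
    rw [key]
    exact R.downward_closed (hRf x) _
  rw [htop]
  exact J'.top_mem _

lemma zar_le_et :
    X.smallGrothendieckTopology (P := @IsOpenImmersion) (Q := @Etale) ≤ X.smallEtaleTopology := by
  intro U R hR
  refine (mem_et U R).2 fun x => ?_
  obtain ⟨Y, f, y, h1, _, h3⟩ := (mem_zar U R).1 hR x
  exact ⟨Y, f, y, h1, h3⟩

lemma generate_singleton_mem_et {U V : X.Etale} (f : V ⟶ U) [Surjective f.left] :
    Sieve.generate (Presieve.singleton f) ∈ X.smallEtaleTopology U := by
  rw [mem_et]
  intro x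
  obtain ⟨y, hy⟩ := f.left.surjective x
  exact ⟨V, f, y, Sieve.le_generate _ _ _ Presieve.singleton.mk, hy⟩

end Helpers


/-- Let X be a scheme and F a presheaf of sets on the small étale site of X. Then F is an étale sheaf if
and only if F is a sheaf for the Zariski topology on the same category (coverings are jointly
surjective families of open immersions between étale X-schemes) and, for every morphism f : V ⟶ U of
étale X-schemes with U and V affine and f surjective, F satisfies the sheaf condition for the single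
arrow f. -/
theorem result (X : Scheme.{u})
    (F : X.Etaleᵒᵖ ⥤ Type w) :
    Presieve.IsSheaf X.smallEtaleTopology F ↔
      Presieve.IsSheaf (X.smallGrothendieckTopology (P := @IsOpenImmersion)) F ∧
        ∀ (U V : X.Etale) [IsAffine U.left] [IsAffine V.left] (f : V ⟶ U) [Surjective f.left],
          Presieve.IsSheafFor F (Presieve.singleton f) := by
  constructor
  · intro hF
    refine ⟨Presieve.isSheaf_of_le F zar_le_et hF, fun U V _ _ f _ => ?_⟩
    rw [Presieve.isSheafFor_iff_generate]
    exact hF _ (generate_singleton_mem_et f)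
  · rintro ⟨hZar, hA⟩ U R hR
    have h1 := et_mem_finest hZar hA U R hR U (𝟙 U)
    rwa [Sieve.pullback_id] at h1

end Groth.Agent.S14453
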