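import Groth.Statements.S14463
-- import your own Groth.Agent.* helpers here
import Mathlib.CategoryTheory.Extensive
import Mathlib.Tactic

set_option autoImplicit false
universe u
open CategoryTheory CategoryTheory.Limits AlgebraicGeometry
open BigSite

namespace Groth.Agent.S14463

section Helpers

variable {C : MorphismProperty Scheme.{u}}

/-- base change of a finite family in `C` -/
lemma C_sigmaDesc_fst [C.IsStableUnderBaseChange]
    {κ : Type u} [Finite κ] {W W' : Scheme.{u}} {V : κ → Scheme.{u}} (ψ : ∀ j, V j ⟶ W)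
    (g : W' ⟶ W) (h : C (Sigma.desc ψ)) : C (Sigma.desc fun j => pullback.fst g (ψ j)) := by
  have hp := FinitaryPreExtensive.isPullback_sigmaDesc (C := Scheme.{u}) (ι := PUnit.{u + 1})
    (ι' := κ) (S := W) (X := fun _ => W') (Y := V) (fun _ => g) ψ
  have ha := C.of_isPullback hp.flip h
  let e₂ : (∐ fun _ : PUnit.{u + 1} => W') ≅ W' := coproductUniqueIso (fun _ : PUnit.{u + 1} => W')
  let ε : κ ≃ PUnit.{u + 1} × κ := (Equiv.punitProd κ).symm
  let e₁ : (∐ fun j => pullback g (ψ j)) ≅ ∐ fun p : PUnit.{u + 1} × κ => pullback g (ψ p.2) :=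
    Sigma.reindex ε (fun p : PUnit.{u + 1} × κ => pullback g (ψ p.2))
  have key : (Sigma.desc fun j => pullback.fst g (ψ j)) = e₁.hom ≫
      (Sigma.desc fun p : PUnit.{u + 1} × κ =>
        pullback.fst g (ψ p.2) ≫ Sigma.ι (fun _ : PUnit.{u + 1} => W') p.1) ≫ e₂.hom := by
    apply Sigma.hom_ext
    intro j
    have r1 : Sigma.ι (fun j => pullback g (ψ j)) j ≫ e₁.hom =
        Sigma.ι (fun p : PUnit.{u + 1} × κ => pullback g (ψ p.2)) (PUnit.unit, j) :=
      Sigma.ι_reindex_hom ε (fun p : PUnit.{u + 1} × κ => pullback g (ψ p.2)) j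
    have r2 : Sigma.ι (fun _ : PUnit.{u + 1} => W') PUnit.unit ≫ e₂.hom = 𝟙 W' := by
      simp [e₂]
    rw [Sigma.ι_desc]
    symm
    calc Sigma.ι (fun j => pullback g (ψ j)) j ≫ e₁.hom ≫
          (Sigma.desc fun p : PUnit.{u + 1} × κ =>
            pullback.fst g (ψ p.2) ≫ Sigma.ι (fun _ : PUnit.{u + 1} => W') p.1) ≫ e₂.hom
        = (Sigma.ι (fun j => pullback g (ψ j)) j ≫ e₁.hom) ≫
          (Sigma.desc fun p : PUnit.{u + 1} × κ =>
            pullback.fst g (ψ p.2) ≫ Sigma.ι (fun _ : PUnit.{u + 1} => W') p.1) ≫ e₂.hom :=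
          (Category.assoc _ _ _).symm
      _ = Sigma.ι (fun p : PUnit.{u + 1} × κ => pullback g (ψ p.2)) (PUnit.unit, j) ≫
          (Sigma.desc fun p : PUnit.{u + 1} × κ =>
            pullback.fst g (ψ p.2) ≫ Sigma.ι (fun _ : PUnit.{u + 1} => W') p.1) ≫ e₂.hom := by
          rw [r1]
      _ = pullback.fst g (ψ j) := by
          rw [Sigma.ι_desc_assoc, Category.assoc, r2, Category.comp_id]
  have h2 := (C.cancel_left_of_respectsIso e₁.hom _).mpr
    ((C.cancel_right_of_respectsIso _ e₂.hom).mpr ha)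
  rw [key]
  exact h2

/-- composition of finite families in `C` -/
lemma C_sigmaDesc_comp [C.IsStableUnderComposition] [C.RespectsIso]
    (hcoprod : ∀ (κ : Type u) [Finite κ] (A B : κ → Scheme.{u}) (f : ∀ j, A j ⟶ B j),
      (∀ j, C (f j)) → C (Limits.Sigma.map f))
    {κ : Type u} [Finite κ] {W : Scheme.{u}} {V : κ → Scheme.{u}} (ψ : ∀ j, V j ⟶ W)
    {lam : κ → Type u} [∀ j, Finite (lam j)] {T : ∀ j, lam j → Scheme.{u}}
    (θ : ∀ j c, T j c ⟶ V j) (hψ : C (Sigma.desc ψ)) (hθ : ∀ j, C (Sigma.desc (θ j))) :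
    C (Sigma.desc fun p : Σ j, lam j => θ p.1 p.2 ≫ ψ p.1) := by
  have key : (Sigma.desc fun p : Σ j, lam j => θ p.1 p.2 ≫ ψ p.1) =
      (sigmaSigmaIso lam T).inv ≫ Limits.Sigma.map (fun j => Sigma.desc (θ j)) ≫ Sigma.desc ψ := by
    apply Sigma.hom_ext
    rintro ⟨j, c⟩
    simp
  rw [key, C.cancel_left_of_respectsIso]
  exact C.comp_mem _ _ (hcoprod κ _ _ _ hθ) hψ

variable (S : Scheme.{u}) (C)

/-- local covering data for the sieve `R` over the open `W` of `X` -/
def LocData {X : Over S} (R : Sieve X) (W : X.left.Opens) : Prop :=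
  ∃ (κ : Type u) (_ : Finite κ) (V : κ → Over S) (φ : ∀ j, V j ⟶ X)
    (ψ : ∀ j, (V j).left ⟶ (W : Scheme.{u})),
    (∀ j, IsAffine (V j).left) ∧ (∀ j, R.arrows (φ j)) ∧ (∀ j, ψ j ≫ W.ι = (φ j).left) ∧
      C (Limits.Sigma.desc ψ)

/-- covering sieves -/
def Cov (X : Over S) (R : Sieve X) : Prop :=
  ∃ (ι : Type u) (U : ι → X.left.Opens), (∀ i, IsAffineOpen (U i)) ∧ ⨆ i, U i = ⊤ ∧
    ∀ i, LocData C S R (U i)

variable {S C}

lemma LocData.pullback [C.IsStableUnderBaseChange] {X Y : Over S} (f : Y ⟶ X) (R : Sieve X)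
    (W : X.left.Opens) (hW : IsAffineOpen W) (h : LocData C S R W) (W' : Y.left.Opens)
    (hW' : IsAffineOpen W') (hle : W' ≤ f.left ⁻¹ᵁ W) : LocData C S (R.pullback f) W' := by
  obtain ⟨κ, hκ, V, φ, ψ, hV, hR, hψ, hC⟩ := h
  let g : (W' : Scheme.{u}) ⟶ W := f.left.resLE W W' hle
  have hg : g ≫ W.ι = W'.ι ≫ f.left := Scheme.Hom.resLE_comp_ι _ _
  have : IsAffine (W : Scheme.{u}) := hW
  have : IsAffine (W' : Scheme.{u}) := hW'
  refine ⟨κ, hκ, fun j => Over.mk (pullback.fst g (ψ j) ≫ W'.ι ≫ Y.hom),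
    fun j => Over.homMk (pullback.fst g (ψ j) ≫ W'.ι) (by simp),
    fun j => pullback.fst g (ψ j), fun j => ?_, fun j => ?_, fun j => ?_, C_sigmaDesc_fst ψ g hC⟩
  · have := hV j
    dsimp
    infer_instance
  · change R.arrows (Over.homMk _ _ ≫ f)
    have hw : pullback.snd g (ψ j) ≫ (V j).hom = pullback.fst g (ψ j) ≫ W'.ι ≫ Y.hom := by
      have h1 : (V j).hom = (φ j).left ≫ X.hom := (Over.w (φ j)).symm
      have h2 : Y.hom = f.left ≫ X.hom := (Over.w f).symm
      rw [h1, ← hψ j, h2]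
      simp only [Category.assoc]
      rw [← pullback.condition_assoc, reassoc_of% hg]
    have key : (Over.homMk (pullback.fst g (ψ j) ≫ W'.ι) (by simp) :
        Over.mk (pullback.fst g (ψ j) ≫ W'.ι ≫ Y.hom) ⟶ Y) ≫ f =
        (Over.homMk (pullback.snd g (ψ j)) hw :
          Over.mk (pullback.fst g (ψ j) ≫ W'.ι ≫ Y.hom) ⟶ V j) ≫ φ j := by
      ext
      simp only [Over.comp_left, Over.homMk_left, Category.assoc]
      rw [← hψ j, ← pullback.condition_assoc, ← hg]
    rw [key]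
    exact R.downward_closed (hR j) _
  · simp

/-- finite subcovers of affine schemes -/
lemma exists_finite_subcover {Z : Scheme.{u}} [IsAffine Z] {ι : Type u} (U : ι → Z.Opens)
    (hU : ⨆ i, U i = ⊤) : ∃ t : Finset ι, ⨆ a : {a // a ∈ t}, U a.1 = ⊤ := by
  have hc : IsCompact (Set.univ : Set Z) := isCompact_univ
  obtain ⟨t, ht⟩ := hc.elim_finite_subcover (fun i => (U i : Set Z)) (fun i => (U i).isOpen) (by
    intro x _
    have hx : x ∈ (⨆ i, U i : Z.Opens) := by rw [hU]; trivial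
    obtain ⟨i, hi⟩ := TopologicalSpace.Opens.mem_iSup.mp hx
    exact Set.mem_iUnion.mpr ⟨i, hi⟩)
  refine ⟨t, ?_⟩
  rw [eq_top_iff]
  intro x _
  obtain ⟨i, hi⟩ := Set.mem_iUnion.mp (ht (Set.mem_univ x))
  obtain ⟨hit, hx⟩ := Set.mem_iUnion.mp hi
  exact TopologicalSpace.Opens.mem_iSup.mpr ⟨⟨i, hit⟩, hx⟩

lemma LocData.trans [C.IsStableUnderComposition] [C.IsStableUnderBaseChange]
    (hcoprod : ∀ (κ : Type u) [Finite κ] (A B : κ → Scheme.{u}) (f : ∀ j, A j ⟶ B j),
      (∀ j, C (f j)) → C (Limits.Sigma.map f))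
    (haff : ∀ (U : Scheme.{u}) [IsAffine U] (κ : Type u) [Finite κ] (V : κ → U.Opens),
      (∀ j, IsAffineOpen (V j)) → ⨆ j, V j = ⊤ → C (Limits.Sigma.desc fun j => (V j).ι))
    {X : Over S} (R R' : Sieve X) (W : X.left.Opens) (h : LocData C S R W)
    (hR' : ∀ ⦃Y : Over S⦄ ⦃f : Y ⟶ X⦄, R.arrows f → Cov C S Y (R'.pullback f)) :
    LocData C S R' W := by
  obtain ⟨κ, hκ, V, φ, ψ, hV, hR, hψ, hC⟩ := h
  have hcov : ∀ j, Cov C S (V j) (R'.pullback (φ j)) := fun j => hR' (hR j)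
  choose ι' U' hU'aff hU'cov hU'loc using hcov
  have hfin : ∀ j, ∃ t : Finset (ι' j), ⨆ a : {a // a ∈ t}, U' j a.1 = ⊤ := fun j => by
    have := hV j
    exact exists_finite_subcover (U' j) (hU'cov j)
  choose t ht using hfin
  -- local data on each member of the finite subcovers
  have hloc : ∀ (p : Σ j, {a // a ∈ t j}), LocData C S (R'.pullback (φ p.1)) (U' p.1 p.2.1) :=
    fun p => hU'loc p.1 p.2.1
  choose κ' hκ' V' φ' ψ' hV' hR'' hψ' hC' using hloc
  have hfin' : ∀ p, Finite (κ' p) := hκ'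
  refine ⟨Σ p : (Σ j, {a // a ∈ t j}), κ' p, inferInstance, fun q => V' q.1 q.2,
    fun q => φ' q.1 q.2 ≫ φ q.1.1,
    fun q => ψ' q.1 q.2 ≫ ((U' q.1.1 q.1.2.1).ι ≫ ψ q.1.1), fun q => hV' q.1 q.2,
    fun q => hR'' q.1 q.2, fun q => ?_, ?_⟩
  · simp only [Category.assoc, Over.comp_left]
    rw [hψ q.1.1, reassoc_of% hψ' q.1 q.2]
  · have h1 : C (Sigma.desc fun p : Σ j, {a // a ∈ t j} => (U' p.1 p.2.1).ι ≫ ψ p.1) :=
      C_sigmaDesc_comp hcoprod ψ (fun j (a : {a // a ∈ t j}) => (U' j a.1).ι) hC (fun j => by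
        have := hV j
        exact haff (V j).left {a // a ∈ t j} (fun a => U' j a.1) (fun a => hU'aff j a.1) (ht j))
    exact C_sigmaDesc_comp hcoprod
      (fun p : Σ j, {a // a ∈ t j} => (U' p.1 p.2.1).ι ≫ ψ p.1) (fun p b => ψ' p b) h1 hC'

end Helpers


/-- Fix a scheme S and a class C of quasi-compact morphisms of schemes which is stable under composition
and base change, closed under finite coproducts, and contains ∐_j V_j → U for every finite affine
open cover (V_j) of an affine scheme U. Declare a sieve R on an S-scheme X to be covering when X has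
an affine open cover (U_i) such that for every i there are finitely many affine S-schemes V_j and
S-morphisms V_j → X in R factoring through U_i with the induced morphism ∐_j V_j → U_i in C. Then
there is a Grothendieck topology on S-schemes whose covering sieves are exactly these. (The
published statement also allows a local property of S-schemes preserved by the class and works on
the S-schemes having it, takes a class of morphisms of S-schemes, and says that covering may
equivalently be tested with arbitrary rather than affine opens and schemes; this row takes no such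
property and a class of morphisms of schemes, and defines covering sieves through affine opens and
affine schemes only.) -/
theorem result (S : Scheme.{u})
    (C : MorphismProperty Scheme.{u}) [C.IsStableUnderComposition] [C.IsStableUnderBaseChange]
    (hqc : ∀ {A B : Scheme.{u}} (f : A ⟶ B), C f → QuasiCompact f)
    (hcoprod : ∀ (κ : Type u) [Finite κ] (A B : κ → Scheme.{u}) (f : ∀ j, A j ⟶ B j),
      (∀ j, C (f j)) → C (Limits.Sigma.map f))
    (haff : ∀ (U : Scheme.{u}) [IsAffine U] (κ : Type u) [Finite κ] (V : κ → U.Opens),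
      (∀ j, IsAffineOpen (V j)) → ⨆ j, V j = ⊤ → C (Limits.Sigma.desc fun j => (V j).ι)) :
    ∃ J : GrothendieckTopology (Over S), ∀ (X : Over S) (R : Sieve X), R ∈ J X ↔
      ∃ (ι : Type u) (U : ι → X.left.Opens), (∀ i, IsAffineOpen (U i)) ∧ ⨆ i, U i = ⊤ ∧
        ∀ i, ∃ (κ : Type u) (_ : Finite κ) (V : κ → Over S) (φ : ∀ j, V j ⟶ X)
          (ψ : ∀ j, (V j).left ⟶ (U i : Scheme.{u})),
          (∀ j, IsAffine (V j).left) ∧ (∀ j, R.arrows (φ j)) ∧ (∀ j, ψ j ≫ (U i).ι = (φ j).left) ∧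
            C (Limits.Sigma.desc ψ) := by
  refine ⟨{ sieves := fun X => {R | Cov C S X R}
            top_mem' := ?_
            pullback_stable' := ?_
            transitive' := ?_ }, fun X R => Iff.rfl⟩
  · -- the maximal sieve
    intro X
    refine ⟨X.left.affineOpens, fun i => i.1, fun i => i.2, iSup_affineOpens_eq_top _, fun i => ?_⟩
    have hi : IsAffine (i.1 : Scheme.{u}) := i.2
    refine ⟨PUnit.{u + 1}, inferInstance,
      fun _ => Over.mk ((⊤ : (i.1 : Scheme.{u}).Opens).ι ≫ i.1.ι ≫ X.hom),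
      fun _ => Over.homMk ((⊤ : (i.1 : Scheme.{u}).Opens).ι ≫ i.1.ι) (by simp),
      fun _ => (⊤ : (i.1 : Scheme.{u}).Opens).ι, fun _ => ?_, fun _ => trivial, fun _ => by simp,
      ?_⟩
    · exact (isAffineOpen_top (i.1 : Scheme.{u}))
    · exact haff (i.1 : Scheme.{u}) PUnit.{u + 1} (fun _ => ⊤) (fun _ => isAffineOpen_top _)
        (by simp)
  · -- pullbacks
    intro X Y R f hR
    obtain ⟨ι, U, hUaff, hUcov, hloc⟩ := hR
    refine ⟨{W' : Y.left.affineOpens // ∃ i, W'.1 ≤ f.left ⁻¹ᵁ U i}, fun W' => W'.1.1,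
      fun W' => W'.1.2, ?_, fun W' => ?_⟩
    · rw [eq_top_iff]
      intro y _
      have hy : f.left y ∈ (⨆ i, U i : X.left.Opens) := by rw [hUcov]; trivial
      obtain ⟨i, hi⟩ := TopologicalSpace.Opens.mem_iSup.mp hy
      obtain ⟨_, ⟨W', hW', rfl⟩, hyW', hW'U⟩ :=
        Y.left.isBasis_affineOpens.exists_subset_of_mem_open
          (show y ∈ (f.left ⁻¹ᵁ U i : Y.left.Opens) from hi) (f.left ⁻¹ᵁ U i).2
      exact TopologicalSpace.Opens.mem_iSup.mpr ⟨⟨⟨W', hW'⟩, i, hW'U⟩, hyW'⟩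
    · obtain ⟨i, hi⟩ := W'.2
      exact LocData.pullback f R (U i) (hUaff i) (hloc i) W'.1.1 W'.1.2 hi
  · -- transitivity
    intro X R hR R' hR'
    obtain ⟨ι, U, hUaff, hUcov, hloc⟩ := hR
    exact ⟨ι, U, hUaff, hUcov, fun i => LocData.trans hcoprod haff R R' (U i) (hloc i) hR'⟩

end Groth.Agent.S14463
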