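import Groth.Statements.S14465
-- import your own Groth.Agent.* helpers here
import Groth.Agent.S14463
import Mathlib.CategoryTheory.Sites.Canonical
import Mathlib.CategoryTheory.Limits.Constructions.Over.Connected
import Mathlib.Tactic

set_option autoImplicit false
universe v u
open CategoryTheory CategoryTheory.Limits AlgebraicGeometry
open BigSite

namespace Groth.Agent.S14465

section Helpers

open Groth.Agent.S14463

/-- finite subcovers of quasi-compact schemes -/
lemma exists_finite_subcover' {Z : Scheme.{u}} [CompactSpace Z] {ι : Type u} (U : ι → Z.Opens)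
    (hU : ⨆ i, U i = ⊤) : ∃ t : Finset ι, ⨆ a : {a // a ∈ t}, U a.1 = ⊤ := by
  have hc : IsCompact (Set.univ : Set Z) := isCompact_univ
  obtain ⟨t, ht⟩ := hc.elim_finite_subcover (fun i => (U i : Set Z)) (fun i => (U i).isOpen) (by
    intro x _
    have hx : x ∈ (⨆ i, U i : Z.Opens) := by rw [hU]; trivial
    obtain ⟨i, hi⟩ := TopologicalSpace.Opens.mem_iSup.mp hx
    exact Set.mem_iUnion.mpr ⟨i, hi⟩)
  refine ⟨t, ?_⟩
  rw [eq_top_iff]
  intro x _
  obtain ⟨i, hi⟩ := Set.mem_iUnion.mp (ht (Set.mem_univ x))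
  obtain ⟨hit, hx⟩ := Set.mem_iUnion.mp hi
  exact TopologicalSpace.Opens.mem_iSup.mpr ⟨⟨i, hit⟩, hx⟩

variable {S : Scheme.{u}}

/-- a sieve containing an open cover is covering for the Zariski topology -/
lemma mem_zariski_over_of_cover {X : Over S} (R : Sieve X)
    (𝒰 : Scheme.Cover.{u} (Scheme.precoverage @IsOpenImmersion) X.left)
    (h : ∀ i, R.arrows (Over.homMk (𝒰.f i) : Over.mk (𝒰.f i ≫ X.hom) ⟶ X)) :
    R ∈ (Scheme.zariskiTopology.over S) X := by
  rw [GrothendieckTopology.mem_over_iff, Scheme.mem_grothendieckTopology_iff]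
  refine ⟨𝒰, ?_⟩
  rintro Y g ⟨i⟩
  rw [Sieve.overEquiv_iff]
  exact h i

variable {C : MorphismProperty Scheme.{u}} {J : GrothendieckTopology (Over S)}

/-- Zariski covering sieves are covering for `J` -/
lemma zariski_le (hJ : ∀ (X : Over S) (R : Sieve X), R ∈ J X ↔ Cov C S X R)
    (haff : ∀ (U : Scheme.{u}) [IsAffine U] (κ : Type u) [Finite κ] (V : κ → U.Opens),
      (∀ j, IsAffineOpen (V j)) → ⨆ j, V j = ⊤ → C (Limits.Sigma.desc fun j => (V j).ι)) :
    Scheme.zariskiTopology.over S ≤ J := by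
  intro X R hR
  rw [GrothendieckTopology.mem_over_iff, Scheme.mem_grothendieckTopology_iff] at hR
  obtain ⟨𝒰, h𝒰⟩ := hR
  rw [hJ]
  have hopen : ∀ i, IsOpenImmersion (𝒰.f i) := fun i => 𝒰.map_prop i
  refine ⟨{W : X.left.affineOpens // ∃ i, W.1 ≤ (𝒰.f i).opensRange}, fun W => W.1.1,
    fun W => W.1.2, ?_, fun W => ?_⟩
  · rw [eq_top_iff]
    intro x _
    obtain ⟨i, y, hy⟩ := 𝒰.exists_eq x
    have hx : x ∈ (𝒰.f i).opensRange := ⟨y, hy⟩
    obtain ⟨_, ⟨W, hW, rfl⟩, hxW, hWU⟩ :=
      X.left.isBasis_affineOpens.exists_subset_of_mem_open hx (𝒰.f i).opensRange.2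
    exact TopologicalSpace.Opens.mem_iSup.mpr ⟨⟨⟨W, hW⟩, i, hWU⟩, hxW⟩
  · obtain ⟨⟨W, hW⟩, i, hi⟩ := W
    have hWaff : IsAffine (W : Scheme.{u}) := hW
    have hrange : Set.range W.ι ⊆ Set.range (𝒰.f i) := by
      rw [Scheme.Opens.range_ι]
      exact hi
    let l : (W : Scheme.{u}) ⟶ 𝒰.X i := IsOpenImmersion.lift (𝒰.f i) W.ι hrange
    have hl : l ≫ 𝒰.f i = W.ι := IsOpenImmersion.lift_fac _ _ _
    have hRi : R.arrows (Over.homMk (𝒰.f i) : Over.mk (𝒰.f i ≫ X.hom) ⟶ X) :=
      (Sieve.overEquiv_iff _ _).mp (h𝒰 _ _ (Presieve.ofArrows.mk i))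
    refine ⟨PUnit.{u + 1}, inferInstance,
      fun _ => Over.mk ((⊤ : (W : Scheme.{u}).Opens).ι ≫ W.ι ≫ X.hom),
      fun _ => Over.homMk ((⊤ : (W : Scheme.{u}).Opens).ι ≫ W.ι) (by simp),
      fun _ => (⊤ : (W : Scheme.{u}).Opens).ι, fun _ => ?_, fun _ => ?_, fun _ => by simp, ?_⟩
    · exact (isAffineOpen_top (W : Scheme.{u}))
    · have key : (Over.homMk ((⊤ : (W : Scheme.{u}).Opens).ι ≫ W.ι) (by simp) :
          Over.mk ((⊤ : (W : Scheme.{u}).Opens).ι ≫ W.ι ≫ X.hom) ⟶ X) =
          (Over.homMk ((⊤ : (W : Scheme.{u}).Opens).ι ≫ l) (by simp [reassoc_of% hl]) :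
            Over.mk ((⊤ : (W : Scheme.{u}).Opens).ι ≫ W.ι ≫ X.hom) ⟶
              Over.mk (𝒰.f i ≫ X.hom)) ≫ Over.homMk (𝒰.f i) := by
        ext
        simp [hl]
      have h1 := R.downward_closed hRi
        (Over.homMk ((⊤ : (W : Scheme.{u}).Opens).ι ≫ l) (by simp [reassoc_of% hl]) :
            Over.mk ((⊤ : (W : Scheme.{u}).Opens).ι ≫ W.ι ≫ X.hom) ⟶
              Over.mk (𝒰.f i ≫ X.hom))
      rw [← key] at h1
      exact h1
    · exact haff (W : Scheme.{u}) PUnit.{u + 1} (fun _ => ⊤) (fun _ => isAffineOpen_top _)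
        (by simp)

/-- the sieve generated by a morphism in `C` is covering for `J` -/
lemma generate_singleton_mem [C.IsStableUnderBaseChange]
    (hJ : ∀ (X : Over S) (R : Sieve X), R ∈ J X ↔ Cov C S X R)
    (hqc : ∀ {A B : Scheme.{u}} (f : A ⟶ B), C f → QuasiCompact f)
    (hres : ∀ (W X' : Scheme.{u}) [IsAffine W] (f : X' ⟶ W), C f →
      ∀ (κ : Type u) [Finite κ] (A : κ → X'.Opens), (∀ l, IsAffineOpen (A l)) → ⨆ l, A l = ⊤ →
        C (Limits.Sigma.desc fun l => (A l).ι ≫ f))
    {X X' : Over S} (f : X' ⟶ X) (hf : C f.left) :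
    Sieve.generate (Presieve.singleton f) ∈ J X := by
  rw [hJ]
  refine ⟨X.left.affineOpens, fun W => W.1, fun W => W.2, iSup_affineOpens_eq_top _, fun W => ?_⟩
  obtain ⟨W, hW⟩ := W
  have hWaff : IsAffine (W : Scheme.{u}) := hW
  let Q : X'.left.Opens := f.left ⁻¹ᵁ W
  let fW : (Q : Scheme.{u}) ⟶ W := f.left ∣_ W
  have hfW : C fW := C.of_isPullback (isPullback_morphismRestrict f.left W).flip hf
  have hqcW : QuasiCompact fW := hqc fW hfW
  have hcomp : CompactSpace (Q : Scheme.{u}) := QuasiCompact.compactSpace_of_compactSpace fW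
  obtain ⟨t, ht⟩ := exists_finite_subcover' (Z := (Q : Scheme.{u}))
    (fun a : (Q : Scheme.{u}).affineOpens => a.1) (iSup_affineOpens_eq_top _)
  have hCt := hres (W : Scheme.{u}) (Q : Scheme.{u}) fW hfW {a // a ∈ t} (fun a => a.1.1)
    (fun a => a.1.2) ht
  refine ⟨{a // a ∈ t}, inferInstance,
    fun a => Over.mk (a.1.1.ι ≫ Q.ι ≫ X'.hom),
    fun a => Over.homMk (a.1.1.ι ≫ Q.ι ≫ f.left) (by simp),
    fun a => a.1.1.ι ≫ fW, fun a => a.1.2, fun a => ?_, fun a => ?_, hCt⟩
  · refine ⟨X', (Over.homMk (a.1.1.ι ≫ Q.ι) (by simp) :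
      Over.mk (a.1.1.ι ≫ Q.ι ≫ X'.hom) ⟶ X'), f, Presieve.singleton.mk, ?_⟩
    ext
    simp
  · simp [fW, Q]

/-- the sieve generated by a morphism in `C` is covering for the finest topology of `F` -/
lemma generate_singleton_mem_finest [C.IsStableUnderBaseChange] {F : (Over S)ᵒᵖ ⥤ Type v}
    (hCs : ∀ (X X' : Over S) (f : X' ⟶ X), C f.left →
      Presieve.IsSheafFor F (Presieve.singleton f))
    {X X' : Over S} (f : X' ⟶ X) (hf : C f.left) :
    Sieve.generate (Presieve.singleton f) ∈ Sheaf.finestTopologySingle F X := by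
  intro Y g
  rw [← Sieve.pullbackArrows_comm, Presieve.pullback_singleton,
    ← Presieve.isSheafFor_iff_generate]
  apply hCs
  have hp : IsPullback (pullback.fst f g).left (pullback.snd f g).left f.left g.left :=
    (IsPullback.of_hasPullback f g).map (Over.forget S)
  exact C.of_isPullback hp hf

/-- covering sieves for `J` are covering for the finest topology of `F` -/
lemma cov_mem_finest {F : (Over S)ᵒᵖ ⥤ Type v}
    (hZ : Scheme.zariskiTopology.over S ≤ Sheaf.finestTopologySingle F)
    (hC' : ∀ (X X' : Over S) (f : X' ⟶ X), C f.left →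
      Sieve.generate (Presieve.singleton f) ∈ Sheaf.finestTopologySingle F X)
    (X : Over S) (R : Sieve X) (hR : Cov C S X R) : R ∈ Sheaf.finestTopologySingle F X := by
  obtain ⟨ι, U, hUaff, hUcov, hloc⟩ := hR
  set J' := Sheaf.finestTopologySingle F with hJ'
  -- the Zariski covering by the `U i`
  let Ui : ι → Over S := fun i => Over.mk ((U i).ι ≫ X.hom)
  let ui : ∀ i, Ui i ⟶ X := fun i => Over.homMk (U i).ι
  let Z : Sieve X := Sieve.ofArrows Ui ui
  have hZmem : Z ∈ J' X := by
    apply hZ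
    refine mem_zariski_over_of_cover Z (X.left.openCoverOfIsOpenCover U hUcov) (fun i => ?_)
    exact Sieve.ofArrows_mk Ui ui i
  refine J'.transitive hZmem R ?_
  rintro Y g ⟨T, h, _, ⟨i⟩, rfl⟩
  rw [Sieve.pullback_comp]
  apply J'.pullback_stable
  -- now the sieve `R.pullback (ui i)` on `Ui i`
  obtain ⟨κ, hκ, V, φ, ψ, hV, hRφ, hψ, hC⟩ := hloc i
  let π : (∐ fun j => (V j).left) ⟶ (U i : Scheme.{u}) := Sigma.desc ψ
  let Po : Over S := Over.mk (π ≫ (Ui i).hom)
  let πo : Po ⟶ Ui i := Over.homMk π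
  have hT : Sieve.generate (Presieve.singleton πo) ∈ J' (Ui i) := hC' _ _ πo hC
  refine J'.transitive hT _ ?_
  rintro Y' g' ⟨T', h', _, ⟨⟩, rfl⟩
  rw [Sieve.pullback_comp]
  apply J'.pullback_stable
  -- the sieve on the coproduct contains the coproduct inclusions
  apply hZ
  refine mem_zariski_over_of_cover _ (sigmaOpenCover fun j => (V j).left) (fun j => ?_)
  change R.arrows ((Over.homMk (Sigma.ι (fun j => (V j).left) j) :
    Over.mk (Sigma.ι (fun j => (V j).left) j ≫ Po.hom) ⟶ Po) ≫ πo ≫ ui i)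
  let e : Over.mk (Sigma.ι (fun j => (V j).left) j ≫ Po.hom) ⟶ V j :=
    Over.homMk (𝟙 _) (by
      have h1 : (V j).hom = (φ j).left ≫ X.hom := (Over.w (φ j)).symm
      simp only [Over.mk_left, Over.mk_hom, Category.id_comp, Po, π, Ui, h1, ← hψ j]
      simp)
  have key : (Over.homMk (Sigma.ι (fun j => (V j).left) j) :
      Over.mk (Sigma.ι (fun j => (V j).left) j ≫ Po.hom) ⟶ Po) ≫ πo ≫ ui i = e ≫ φ j := by
    ext
    simp [e, πo, ui, π, hψ j]
  rw [key]
  exact R.downward_closed (hRφ j) _

end Helpers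


/-- Fix a scheme S and a class C of quasi-compact morphisms of schemes, stable under composition and
base change, closed under finite coproducts, and containing ∐_j V_j → U for every finite affine open
cover (V_j) of an affine scheme U. Assume moreover that for every morphism f : X' → W in C with W
affine and every finite affine open cover (A_l) of X', the induced morphism ∐_l A_l → W lies in C.
Let J be the Grothendieck topology on S-schemes whose covering sieves are those admitting
affine-local finite C-covering data (an affine open cover (U_i) of X and, for each i, finitely many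
affine S-schemes V_j → X in the sieve factoring through U_i with ∐_j V_j → U_i in C). Then a
presheaf of types on S-schemes is a J-sheaf if and only if it is a sheaf for the big Zariski
topology on S-schemes and satisfies the sheaf condition for every single S-morphism X' → X whose
underlying morphism of schemes lies in C. (The published statement does not assume the hypothesis on
finite affine open covers of the source of a C-morphism with affine target; its proof uses that
hypothesis, through an unproved equivalence between arbitrary and affine covering data, to see that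
the sieve generated by a C-morphism is covering. The hypothesis holds for the classes of fpqc
morphisms, of fppf morphisms and of surjective étale quasi-compact morphisms. The published
statement also allows a local property of S-schemes preserved by the class; this row takes no such
property and a class of morphisms of schemes.) -/
theorem result (S : Scheme.{u})
    (C : MorphismProperty Scheme.{u}) [C.IsStableUnderComposition] [C.IsStableUnderBaseChange]
    (hqc : ∀ {A B : Scheme.{u}} (f : A ⟶ B), C f → QuasiCompact f)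
    (hcoprod : ∀ (κ : Type u) [Finite κ] (A B : κ → Scheme.{u}) (f : ∀ j, A j ⟶ B j),
      (∀ j, C (f j)) → C (Limits.Sigma.map f))
    (haff : ∀ (U : Scheme.{u}) [IsAffine U] (κ : Type u) [Finite κ] (V : κ → U.Opens),
      (∀ j, IsAffineOpen (V j)) → ⨆ j, V j = ⊤ → C (Limits.Sigma.desc fun j => (V j).ι))
    (hres : ∀ (W X' : Scheme.{u}) [IsAffine W] (f : X' ⟶ W), C f →
      ∀ (κ : Type u) [Finite κ] (A : κ → X'.Opens), (∀ l, IsAffineOpen (A l)) → ⨆ l, A l = ⊤ →
        C (Limits.Sigma.desc fun l => (A l).ι ≫ f))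
    (J : GrothendieckTopology (Over S))
    (hJ : ∀ (X : Over S) (R : Sieve X), R ∈ J X ↔
      ∃ (ι : Type u) (U : ι → X.left.Opens), (∀ i, IsAffineOpen (U i)) ∧ ⨆ i, U i = ⊤ ∧
        ∀ i, ∃ (κ : Type u) (_ : Finite κ) (V : κ → Over S) (φ : ∀ j, V j ⟶ X)
          (ψ : ∀ j, (V j).left ⟶ (U i : Scheme.{u})),
          (∀ j, IsAffine (V j).left) ∧ (∀ j, R.arrows (φ j)) ∧ (∀ j, ψ j ≫ (U i).ι = (φ j).left) ∧
            C (Limits.Sigma.desc ψ))
    (F : (Over S)ᵒᵖ ⥤ Type v) :
    Presieve.IsSheaf J F ↔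
      (Presieve.IsSheaf (Scheme.zariskiTopology.over S) F ∧
        ∀ (X X' : Over S) (f : X' ⟶ X), C f.left → Presieve.IsSheafFor F (Presieve.singleton f)) := by
  have hJ' : ∀ (X : Over S) (R : Sieve X), R ∈ J X ↔ Groth.Agent.S14463.Cov C S X R := hJ
  constructor
  · intro hF
    refine ⟨Presieve.isSheaf_of_le F (zariski_le hJ' haff) hF, fun X X' f hf => ?_⟩
    rw [Presieve.isSheafFor_iff_generate]
    exact hF _ (generate_singleton_mem hJ' hqc hres f hf)
  · rintro ⟨hZar, hCs⟩
    have hZ : Scheme.zariskiTopology.over S ≤ Sheaf.finestTopologySingle F := by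
      intro X R hR Y g
      exact hZar _ ((Scheme.zariskiTopology.over S).pullback_stable g hR)
    intro X R hR
    have h1 := cov_mem_finest (C := C) hZ
      (fun X X' f hf => generate_singleton_mem_finest hCs f hf) X R ((hJ' X R).mp hR) X (𝟙 X)
    rwa [Sieve.pullback_id] at h1

end Groth.Agent.S14465
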