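import Groth.Statements.S1447
import Groth.Agent.R2.H93FibDegField

set_option autoImplicit false
universe u
open FlatMor

namespace Groth.Agent.S1447

open AlgebraicGeometry CategoryTheory Limits in
/-- For a separated, flat, locally quasi-finite morphism f : X → S which is locally of finite
presentation, assume the fibres of f over all field-valued points have rank (of their ring of global
functions) at most n. Then there is a function deg : S → ℕ bounded by n with every sublevel set {deg
≤ r} closed (equivalently a chain of closed subsets ∅ ⊂ Z_0 ⊂ ... ⊂ Z_n = S with strata {deg = r})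
such that for every morphism g : T → S and every r, deg ∘ g is constant with value r exactly when
the base change of f along g is finite locally free of degree r. -/
theorem result {X S : Scheme.{u}} (f : X ⟶ S) [Flat f] [LocallyOfFinitePresentation f] [IsSeparated f] [LocallyQuasiFinite f]
    (n : ℕ) (hn : ∀ (K : Type u) [Field K] (g : Spec (CommRingCat.of K) ⟶ S), (letI := ((Scheme.ΓSpecIso (CommRingCat.of K)).inv ≫ (pullback.snd f g).appTop).hom.toAlgebra
        Module.rank K (Γ(pullback f g, ⊤) : Type u)) ≤ (n : Cardinal.{u})) :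
    ∃ deg : ↑S → ℕ, (∀ s, deg s ≤ n) ∧ (∀ r : ℕ, IsClosed {s : ↑S | deg s ≤ r}) ∧
      ∀ (T : Scheme.{u}) (g : T ⟶ S) (r : ℕ), Mor2.IsFinLocFreeOfDeg r (pullback.snd f g) ↔ ∀ t : T, deg (g t) = r := by
  have hbound : ∀ (s : S) (d : ℕ), Groth.Agent.R2.H93.FibDeg.FD f d s → d ≤ n := by
    intro s d hd
    have hpt : (S.fromSpecResidueField s) (IsLocalRing.closedPoint (S.residueField s)) = s :=
      Scheme.fromSpecResidueField_apply _ _
    rw [← hpt] at hd
    have h1 := (Groth.Agent.R2.H93.FibDegField.FD_iff_rank_pullback (S.residueField s) f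
      (S.fromSpecResidueField s) d (IsLocalRing.closedPoint (S.residueField s))).1 hd
    have h2 := hn (S.residueField s) (S.fromSpecResidueField s)
    exact_mod_cast h1.trans h2
  obtain ⟨deg, hdeg⟩ := Groth.Agent.R2.H93.FibDegField.exists_deg f
    (fun s => ⟨n, fun d hd => hbound s d hd⟩)
  have hdeg_eq : ∀ (s : S) (r : ℕ), deg s = r ↔
      Groth.Agent.R2.H93.FibDeg.FD f r s ∧ ¬ Groth.Agent.R2.H93.FibDeg.FD f (r + 1) s := by
    intro s r
    rw [hdeg, hdeg]
    omega
  refine ⟨deg, fun s => hbound s _ ((hdeg s _).2 le_rfl), fun r => ?_, fun T g r => ?_⟩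
  · have : {s : ↑S | deg s ≤ r} = {s | Groth.Agent.R2.H93.FibDeg.FD f (r + 1) s}ᶜ := by
      ext s
      simp only [Set.mem_ofPred_eq, Set.mem_compl_iff]
      rw [hdeg]
      omega
    rw [this]
    exact (Groth.Agent.R2.H93.FibDeg.isOpen_FD f (r + 1)).isClosed_compl
  · rw [Groth.Agent.R2.H93.FibDeg.isFinLocFreeOfDeg_iff]
    refine forall_congr' fun t => ?_
    rw [hdeg_eq, Groth.Agent.R2.H93.FibDeg.FD_baseChange_iff (IsPullback.of_hasPullback f g),
      Groth.Agent.R2.H93.FibDeg.FD_baseChange_iff (IsPullback.of_hasPullback f g)]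

end Groth.Agent.S1447
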