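import Groth.Statements.S1448
import Groth.Agent.R2.H93FibDegQc

set_option autoImplicit false
universe u
open FlatMor

namespace Groth.Agent.S1448

open AlgebraicGeometry CategoryTheory Limits in
/-- Consider a separated, flat, quasi-compact and locally quasi-finite morphism f : X → S which is
locally of finite presentation. Then there is a function deg : S → ℕ with every sublevel set {deg ≤
r} closed and every level set retrocompact, such that for every morphism g : T → S and every r, deg
∘ g is constant with value r exactly when the base change of f along g is finite locally free of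
degree r. -/
theorem result {X S : Scheme.{u}} (f : X ⟶ S) [Flat f] [LocallyOfFinitePresentation f] [IsSeparated f] [LocallyQuasiFinite f] [QuasiCompact f] :
    ∃ deg : ↑S → ℕ, (∀ r : ℕ, IsClosed {s : ↑S | deg s ≤ r}) ∧ (∀ r : ℕ, IsRetrocompact {s : ↑S | deg s = r}) ∧
      ∀ (T : Scheme.{u}) (g : T ⟶ S) (r : ℕ), Mor2.IsFinLocFreeOfDeg r (pullback.snd f g) ↔ ∀ t : T, deg (g t) = r := by
  obtain ⟨deg, hdeg⟩ := Groth.Agent.R2.H93.FibDegField.exists_deg f
    (fun s => Groth.Agent.R2.H93.FibDegQc.exists_bound_FD f s)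
  have hdeg_eq : ∀ (s : S) (r : ℕ), deg s = r ↔
      Groth.Agent.R2.H93.FibDeg.FD f r s ∧ ¬ Groth.Agent.R2.H93.FibDeg.FD f (r + 1) s := by
    intro s r
    rw [hdeg, hdeg]
    omega
  refine ⟨deg, fun r => ?_, fun r => ?_, fun T g r => ?_⟩
  · have : {s : ↑S | deg s ≤ r} = {s | Groth.Agent.R2.H93.FibDeg.FD f (r + 1) s}ᶜ := by
      ext s
      simp only [Set.mem_ofPred_eq, Set.mem_compl_iff]
      rw [hdeg]
      omega
    rw [this]
    exact (Groth.Agent.R2.H93.FibDeg.isOpen_FD f (r + 1)).isClosed_compl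
  · have : {s : ↑S | deg s = r} = {s | Groth.Agent.R2.H93.FibDeg.FD f r s} ∩
        {s | Groth.Agent.R2.H93.FibDeg.FD f (r + 1) s}ᶜ := by
      ext s
      simp only [Set.mem_ofPred_eq, Set.mem_inter_iff, Set.mem_compl_iff]
      exact hdeg_eq s r
    rw [this]
    intro U hUc hUo
    have h1 := Groth.Agent.R2.H93.FibDegQc.isRetrocompact_FD f r hUc hUo
    have h2 : IsClosed {s | Groth.Agent.R2.H93.FibDeg.FD f (r + 1) s}ᶜ :=
      (Groth.Agent.R2.H93.FibDeg.isOpen_FD f (r + 1)).isClosed_compl
    have h3 := h1.inter_right h2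
    have : ({s | Groth.Agent.R2.H93.FibDeg.FD f r s} ∩
        {s | Groth.Agent.R2.H93.FibDeg.FD f (r + 1) s}ᶜ) ∩ U =
        ({s | Groth.Agent.R2.H93.FibDeg.FD f r s} ∩ U) ∩
          {s | Groth.Agent.R2.H93.FibDeg.FD f (r + 1) s}ᶜ := by
      ext s
      simp only [Set.mem_inter_iff]
      tauto
    rw [this]
    exact h3
  · rw [Groth.Agent.R2.H93.FibDeg.isFinLocFreeOfDeg_iff]
    refine forall_congr' fun t => ?_
    rw [hdeg_eq, Groth.Agent.R2.H93.FibDeg.FD_baseChange_iff (IsPullback.of_hasPullback f g),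
      Groth.Agent.R2.H93.FibDeg.FD_baseChange_iff (IsPullback.of_hasPullback f g)]

end Groth.Agent.S1448
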