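import Groth.Statements.S14481
import Groth.Agent.R2.H19PropInt

set_option autoImplicit false
set_option linter.style.haveILetI false
universe u
open CategoryTheory AlgebraicGeometry
open CharCyc

namespace Groth.Agent.S14481

open Groth.Agent.Lib.Helper4.VarDim Groth.Agent.R2.H19.PropInt Topology in
/-- Core of the statement, with `C` an explicit `k`-scheme. -/
theorem core (k : Type u) [Field k] (C X W : Scheme.{u})
    (q : X ⟶ Spec (CommRingCat.of k)) (π : C ⟶ X) (ι : W ⟶ X)
    [LocallyOfFiniteType q] [CompactSpace X] [LocallyOfFiniteType π]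
    (κ : RegImm.Kind) (n c : ℕ) (hι : RegImm.IsRegularImmersionOfCodim κ c ι)
    (hC : ∀ P ∈ irreducibleComponents (C : Type u), topologicalKrullDim P = n) :
    (∀ P ∈ irreducibleComponents (C : Type u), ∀ Q ∈ irreducibleComponents (P ∩ π ⁻¹' Set.range ι : Set C),
        topologicalKrullDim Q + (c : WithBot ℕ∞) = n) ↔
      topologicalKrullDim (π ⁻¹' Set.range ι : Set C) + (c : WithBot ℕ∞) ≤ n := by
  letI : C.Over (Spec (CommRingCat.of k)) := ⟨π ≫ q⟩
  haveI : LocallyOfFiniteType (C ↘ Spec (CommRingCat.of k)) :=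
    inferInstanceAs (LocallyOfFiniteType (π ≫ q))
  haveI : IsImmersion ι := hι.1
  haveI : IsLocallyNoetherian X := LocallyOfFiniteType.isLocallyNoetherian q
  haveI : IsNoetherian X := ⟨⟩
  haveI : TopologicalSpace.NoetherianSpace W := ι.isEmbedding.isInducing.noetherianSpace
  haveI : QuasiCompact ι := inferInstance
  set R : Set C := π ⁻¹' Set.range ι with hRdef
  have hRlc : IsLocallyClosed R := ι.isLocallyClosed_range.preimage π.continuous
  -- local equations
  have hR : ∀ ξ ∈ R, ∃ (V : C.Opens) (_ : IsAffineOpen V) (gs : List Γ(C, V)), ξ ∈ V ∧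
      gs.length = c ∧ ∀ η ∈ V, (η ∈ R ↔ ∀ g ∈ gs, η ∉ C.basicOpen g) := by
    rintro ξ ⟨z, hz⟩
    obtain ⟨U, hzU, hcl, rs, hlen, -, hker⟩ := hι.2 z
    have hξU : ξ ∈ π ⁻¹ᵁ U.1 := by
      show π ξ ∈ U.1
      rw [← hz]; exact hzU
    obtain ⟨V, hV, hξV, hVU⟩ := exists_isAffineOpen_mem_and_subset (U := π ⁻¹ᵁ U.1) (x := ξ) hξU
    have e : V ≤ π ⁻¹ᵁ U.1 := hVU
    refine ⟨V, hV, rs.map (π.appLE U.1 V e).hom, hξV, by rw [List.length_map, hlen], ?_⟩
    intro η hηV
    have hηU : π η ∈ U.1 := e hηV
    rw [hRdef, Set.mem_preimage, mem_range_iff_of_ker_eq ι U hcl rs hker (π η) hηU]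
    constructor
    · intro h g hg
      obtain ⟨r, hr, rfl⟩ := List.mem_map.mp hg
      intro hη
      have := Scheme.basicOpen_appLE π V U.1 e r
      rw [this] at hη
      exact h r hr hη.2
    · intro h r hr hη
      refine h _ (List.mem_map.mpr ⟨r, hr, rfl⟩) ?_
      rw [Scheme.basicOpen_appLE π V U.1 e r]
      exact ⟨hηV, hη⟩
  -- components are closed
  have hcomp : ∀ P ∈ irreducibleComponents (C : Type u), IsClosed P ∧ IsIrreducible P :=
    fun P hP => ⟨isClosed_of_mem_irreducibleComponents P hP, hP.1⟩
  constructor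
  · intro ha
    -- pointwise bound
    have hpt : ∀ t ∈ R, trdegNat k C t + c ≤ n := by
      intro t ht
      obtain ⟨P, hP, htP⟩ := exists_mem_irreducibleComponents_subset_of_isIrreducible ({t} : Set C)
        isIrreducible_singleton
      have htP' : t ∈ P := htP rfl
      let t' : ↥(P ∩ R) := ⟨t, htP', ht⟩
      obtain ⟨Q, hQ, htQ⟩ := exists_mem_irreducibleComponents_subset_of_isIrreducible
        ({t'} : Set ↥(P ∩ R)) isIrreducible_singleton
      have h1 := ha P hP Q hQ
      have h2 := trdegNat_le_dim_sub k C (P ∩ R) ((hcomp P hP).1.isLocallyClosed.inter hRlc) Q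
        (isClosed_of_mem_irreducibleComponents Q hQ) t' (htQ rfl)
      have h3 : ((trdegNat k C t : ℕ) : WithBot ℕ∞) + (c : WithBot ℕ∞) ≤ n := by
        rw [← h1]
        gcongr
      exact_mod_cast h3
    by_cases hne : R = ∅
    · rw [hne, topologicalKrullDim_eq_bot_of_isEmpty]
      simp
    · obtain ⟨t₀, ht₀⟩ := Set.nonempty_iff_ne_empty.mpr hne
      have hcn : c ≤ n := by have := hpt t₀ ht₀; omega
      haveI := quasiSober_of_isLocallyClosed R hRlc
      have h1 : topologicalKrullDim R ≤ ((n - c : ℕ) : WithBot ℕ∞) := by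
        refine topologicalKrullDim_le_of_forall_trdegNat_le k C R _ fun t ht => ?_
        have := hpt t ht
        have h2 : trdegNat k C t ≤ n - c := by omega
        exact_mod_cast h2
      calc topologicalKrullDim R + (c : WithBot ℕ∞)
          ≤ ((n - c : ℕ) : WithBot ℕ∞) + (c : WithBot ℕ∞) := by gcongr
        _ = (n : WithBot ℕ∞) := by
          have : n - c + c = n := by omega
          exact_mod_cast this
  · intro hb P hP Q hQ
    have hpt : ∀ t ∈ R, trdegNat k C t + c ≤ n := by
      intro t ht
      have h1 := trdegNat_le_topologicalKrullDim_of_isLocallyClosed k C R hRlc t ht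
      have h3 : ((trdegNat k C t : ℕ) : WithBot ℕ∞) + (c : WithBot ℕ∞) ≤ n :=
        le_trans (by gcongr) hb
      exact_mod_cast h3
    obtain ⟨t, htQ, hge⟩ := exists_trdegNat_add_ge k C P (hcomp P hP).1 (hcomp P hP).2 n
      (hC P hP) R hRlc c hR Q hQ
    have htR : t.1 ∈ R := t.2.2
    have heq : trdegNat k C t.1 + c = n := le_antisymm (hpt _ htR) hge
    have hTlc : IsLocallyClosed (P ∩ R) := (hcomp P hP).1.isLocallyClosed.inter hRlc
    have hQcl : IsClosed Q := isClosed_of_mem_irreducibleComponents Q hQ
    have h1 : topologicalKrullDim Q ≤ ((n - c : ℕ) : WithBot ℕ∞) := by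
      refine dim_sub_le k C (P ∩ R) hTlc Q hQcl _ fun t' _ => ?_
      have := hpt t'.1 t'.2.2
      have h2 : trdegNat k C t'.1 ≤ n - c := by omega
      exact_mod_cast h2
    have h2 : ((n - c : ℕ) : WithBot ℕ∞) ≤ topologicalKrullDim Q := by
      refine le_trans ?_ (trdegNat_le_dim_sub k C (P ∩ R) hTlc Q hQcl t htQ)
      have : n - c = trdegNat k C t.1 := by omega
      rw [this]
    rw [le_antisymm h1 h2]
    have : n - c + c = n := by omega
    exact_mod_cast this

/-- First equivalence: let k be a field, let π : C → X be a morphism between k-schemes of finite type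
such that every irreducible component of C has dimension n, and let ι : W → X be a regular immersion
of codimension c. The following are equivalent: (a) ι meets C properly, that is, whenever P is an
irreducible component of C and Q is an irreducible component of P ×_X W (the subspace P ∩ π⁻¹(ι(W))
of C), one has dim Q = dim P − c; (b) dim C ×_X W ≤ n − c (the subspace π⁻¹(ι(W)) of C). Dimensions
are written additively: dim Q + c = n and dim π⁻¹(ι(W)) + c ≤ n, the empty space having dimension ⊥.
(Stated for each of the four kinds of regular immersion of codimension c — regular, Koszul-regular,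
H₁-regular, quasi-regular; the published statement does not distinguish kinds.) -/
theorem result (k : Type u) [Field k] (C X W : Scheme.{u})
    (q : X ⟶ Spec (CommRingCat.of k)) (π : C ⟶ X) (ι : W ⟶ X)
    [LocallyOfFiniteType q] [CompactSpace X] [LocallyOfFiniteType π] [CompactSpace C]
    (κ : RegImm.Kind) (n c : ℕ) (hι : RegImm.IsRegularImmersionOfCodim κ c ι)
    (hC : ∀ P ∈ irreducibleComponents (C : Type u), topologicalKrullDim P = n) :
    (∀ P ∈ irreducibleComponents (C : Type u), ∀ Q ∈ irreducibleComponents (P ∩ π ⁻¹' Set.range ι : Set C),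
        topologicalKrullDim Q + (c : WithBot ℕ∞) = n) ↔
      topologicalKrullDim (π ⁻¹' Set.range ι : Set C) + (c : WithBot ℕ∞) ≤ n := by
  exact core k C X W q π ι κ n c hι hC

end Groth.Agent.S14481
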