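import Groth.Statements.S14483
import Groth.Agent.R2.H19Radicial
import Groth.Agent.R2.H19WellInt
import Groth.Agent.S14482

set_option autoImplicit false
set_option linter.style.haveILetI false
set_option linter.unusedVariables false
universe u
open CategoryTheory CategoryTheory.Limits AlgebraicGeometry
open CharCyc

namespace Groth.Agent.S14483

open Groth.Agent.Lib.Helper4.VarDim Groth.Agent.Lib.Helper4.FibDim
  Groth.Agent.Lib.Helper4.DimFormula Topology


/-- Let k be a field and let f : X → S be a morphism between separated k-schemes of finite type. Two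
closed subsets Y, Z of X are said to well intersect with respect to f when dim(Y ×_S Z ∖ Y ×_X Z) ≤
dim Y + dim Z − dim S; here Y ×_S Z ∖ Y ×_X Z is taken as the subspace of X ×_S X of points whose
two projections lie in Y and in Z and which are not in the image of the diagonal, and the inequality
is written additively as dim(Y ×_S Z ∖ Y ×_X Z) + dim S ≤ dim Y + dim Z (topological Krull
dimensions, the empty space having dimension ⊥). Let Y ⊆ X be closed and irreducible with dim Y <
dim S, and suppose that the pair Y, Y well intersects with respect to f. Then Y → S is generically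
radicial onto its image: there is an open subset V of X meeting Y such that f is injective on V ∩ Y
and, at every point of V ∩ Y, the residue field extension induced by f is purely inseparable. -/
theorem result (k : Type u) [Field k] (X S : Scheme.{u})
    (q : S ⟶ Spec (CommRingCat.of k)) (f : X ⟶ S)
    [LocallyOfFiniteType q] [CompactSpace S] [IsSeparated q] [LocallyOfFiniteType f] [CompactSpace X] [IsSeparated f]
    (Y : Set X) (hYc : IsClosed Y) (hYi : IsIrreducible Y)
    (hWI : topologicalKrullDim {p : ↥(pullback f f) | pullback.fst f f p ∈ Y ∧ pullback.snd f f p ∈ Y ∧ p ∉ Set.range (pullback.diagonal f)} + topologicalKrullDim S ≤ topologicalKrullDim Y + topologicalKrullDim Y)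
    (hYS : topologicalKrullDim Y < topologicalKrullDim S) :
    ∃ V : Set X, IsOpen V ∧ (V ∩ Y).Nonempty ∧ Set.InjOn f.base (V ∩ Y) ∧
      ∀ x ∈ V ∩ Y, (f.residueFieldMap x).hom.IsPurelyInseparable := by
  letI : S.Over (Spec (CommRingCat.of k)) := ⟨q⟩
  haveI : LocallyOfFiniteType (S ↘ Spec (CommRingCat.of k)) := ‹LocallyOfFiniteType q›
  letI : X.Over (Spec (CommRingCat.of k)) := ⟨f ≫ q⟩
  haveI : LocallyOfFiniteType (X ↘ Spec (CommRingCat.of k)) :=
    inferInstanceAs (LocallyOfFiniteType (f ≫ q))
  letI : (pullback f f).Over (Spec (CommRingCat.of k)) := ⟨pullback.fst f f ≫ f ≫ q⟩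
  haveI : LocallyOfFiniteType ((pullback f f) ↘ Spec (CommRingCat.of k)) :=
    inferInstanceAs (LocallyOfFiniteType (pullback.fst f f ≫ f ≫ q))
  have hpq : pullback.fst f f ≫ (X ↘ Spec (CommRingCat.of k)) =
      ((pullback f f) ↘ Spec (CommRingCat.of k)) := rfl
  -- Noetherianity
  haveI : IsLocallyNoetherian S := LocallyOfFiniteType.isLocallyNoetherian q
  haveI : IsLocallyNoetherian X := LocallyOfFiniteType.isLocallyNoetherian f
  haveI : IsNoetherian X := {}
  haveI : IsNoetherian S := {}
  haveI : IsLocallyNoetherian (pullback f f) :=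
    LocallyOfFiniteType.isLocallyNoetherian (pullback.fst f f)
  haveI : IsNoetherian (pullback f f) := {}
  -- generic point
  obtain ⟨η, hη⟩ := QuasiSober.sober hYi hYc
  have hη' : closure {η} = Y := hη
  have hηY : η ∈ Y := hη' ▸ subset_closure rfl
  haveI : Nonempty S := ⟨f η⟩
  obtain ⟨ηS, -, hdimS⟩ := exists_trdegNat_eq_topologicalKrullDim k S
  set N := trdegNat k S ηS with hN
  have hdimY : topologicalKrullDim Y = ((trdegNat k X η : ℕ) : WithBot ℕ∞) := by
    rw [← hη']; exact topologicalKrullDim_closure_singleton k X η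
  set dY := trdegNat k X η with hdY
  have hYN : dY < N := by
    rw [hdimY, hdimS] at hYS
    exact_mod_cast hYS
  set E : Set ↥(pullback f f) := {p : ↥(pullback f f) | pullback.fst f f p ∈ Y ∧
    pullback.snd f f p ∈ Y ∧ p ∉ Set.range (pullback.diagonal f)} with hE
  have hEeq : E = ((pullback.fst f f) ⁻¹' Y ∩ (pullback.snd f f) ⁻¹' Y) ∩
      (Set.range (pullback.diagonal f))ᶜ := by
    ext p
    simp only [hE, Set.mem_ofPred_eq, Set.mem_inter_iff, Set.mem_preimage, Set.mem_compl_iff]
    tauto
  have h1 : IsClosed ((pullback.fst f f) ⁻¹' Y ∩ (pullback.snd f f) ⁻¹' Y) :=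
    (hYc.preimage (pullback.fst f f).continuous).inter
      (hYc.preimage (pullback.snd f f).continuous)
  have h2 : IsOpen (Set.range (pullback.diagonal f))ᶜ :=
    (pullback.diagonal f).isClosedEmbedding.isClosed_range.isOpen_compl
  have hElc : IsLocallyClosed E := by
    rw [hEeq]
    exact h1.isLocallyClosed.inter h2.isLocallyClosed
  have hEc : IsConstructible E := by
    rw [hEeq]
    exact (Groth.Agent.Lib.Helper2.Constr.isConstructible_of_isClosed h1).inter
      (Groth.Agent.Lib.Helper2.Constr.isConstructible_of_isOpen h2)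
  have hWI' : topologicalKrullDim E + ((N : ℕ) : WithBot ℕ∞) ≤ ((dY + dY : ℕ) : WithBot ℕ∞) := by
    rw [hdimS, hdimY] at hWI
    exact_mod_cast hWI
  have hEpt : ∀ p ∈ E, trdegNat k (pullback f f) p + N ≤ dY + dY := fun p hp =>
    Groth.Agent.S14482.trdegNat_add_le k (pullback f f) E hElc N (dY + dY) hWI' p hp
  -- no point of `E` lies over `η`
  have hηE : η ∉ (pullback.fst f f).base '' E := by
    rintro ⟨p, hp, hpη⟩
    have h3 := hEpt p hp
    have h4 := trdegNat_eq_add_ptTrdeg k (pullback.fst f f) hpq p
    have hpη' : pullback.fst f f p = η := hpη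
    rw [hpη'] at h4
    omega
  have hFc : IsConstructible ((pullback.fst f f).base '' E) :=
    Scheme.Hom.isConstructible_image (pullback.fst f f) hEc
  obtain ⟨U, hU, hne, hUE⟩ := Groth.Agent.Lib.Helper2.Constr.exists_open_subset_or_compl hFc hYi
  have hηU : η ∈ U := by
    obtain ⟨t, htU, htY⟩ := hne
    have : η ⤳ t := specializes_iff_mem_closure.mpr (hη'.symm ▸ htY)
    exact this.mem_open hU htU
  have hUE' : U ∩ Y ⊆ ((pullback.fst f f).base '' E)ᶜ := by
    rcases hUE with h | h
    · exact absurd (h ⟨hηU, hηY⟩) hηE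
    · exact h
  have hdiag : ∀ x ∈ U ∩ Y, ∀ z : ↥(pullback f f), pullback.fst f f z = x →
      pullback.snd f f z ∈ Y → z ∈ Set.range (pullback.diagonal f) := by
    intro x hx z hz1 hz2
    by_contra hz3
    exact hUE' hx ⟨z, ⟨hz1 ▸ hx.2, hz2, hz3⟩, hz1⟩
  refine ⟨U, hU, hne, ?_, ?_⟩
  · intro x hx x' hx' hxx'
    obtain ⟨z, hz1, hz2⟩ := Scheme.Pullback.exists_preimage_pullback (f := f) (g := f) x x' hxx'
    obtain ⟨u, rfl⟩ := hdiag x hx z hz1 (hz2 ▸ hx'.2)
    have e1 : pullback.fst f f (pullback.diagonal f u) = u := by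
      rw [← Scheme.Hom.comp_apply, pullback.diagonal_fst]; rfl
    have e2 : pullback.snd f f (pullback.diagonal f u) = u := by
      rw [← Scheme.Hom.comp_apply, pullback.diagonal_snd]; rfl
    rw [← hz1, ← hz2, e1, e2]
  · intro x hx
    refine Groth.Agent.R2.H19.Radicial.isPurelyInseparable_residueFieldMap_of_forall_mem_range_diagonal
      f x fun z hz1 hz2 => hdiag x hx z hz1 (hz2 ▸ hx.2)

end Groth.Agent.S14483
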