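import Groth.Statements.S14484
import Groth.Agent.R2.H19WellInt
import Groth.Agent.S14482

set_option autoImplicit false
set_option linter.style.haveILetI false
set_option linter.unusedVariables false
universe u
open CategoryTheory CategoryTheory.Limits AlgebraicGeometry
open CharCyc

namespace Groth.Agent.S14484

open Groth.Agent.Lib.Helper4.VarDim Groth.Agent.Lib.Helper4.FibDim
  Groth.Agent.Lib.Helper4.DimFormula Topology

/-- Let k be a field and let f : X → S be a morphism between separated k-schemes of finite type. Two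
closed subsets Y, Z of X are said to well intersect with respect to f when dim(Y ×_S Z ∖ Y ×_X Z) ≤
dim Y + dim Z − dim S; here Y ×_S Z ∖ Y ×_X Z is taken as the subspace of X ×_S X of points whose
two projections lie in Y and in Z and which are not in the image of the diagonal, and the inequality
is written additively as dim(Y ×_S Z ∖ Y ×_X Z) + dim S ≤ dim Y + dim Z (topological Krull
dimensions, the empty space having dimension ⊥). Let Y, Z ⊆ X be closed irreducible subsets that
well intersect with respect to f, with dim Y < dim S and dim Z < dim S, and assume Y ⊄ Z. Then f(Y)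
is not contained in the closure of f(Y) ∩ f(Z); in particular f(Y) ⊄ f(Z). -/
theorem result (k : Type u) [Field k] (X S : Scheme.{u})
    (q : S ⟶ Spec (CommRingCat.of k)) (f : X ⟶ S)
    [LocallyOfFiniteType q] [CompactSpace S] [IsSeparated q] [LocallyOfFiniteType f] [CompactSpace X] [IsSeparated f]
    (Y Z : Set X) (hYc : IsClosed Y) (hYi : IsIrreducible Y) (hZc : IsClosed Z) (hZi : IsIrreducible Z)
    (hWI : topologicalKrullDim {p : ↥(pullback f f) | pullback.fst f f p ∈ Y ∧ pullback.snd f f p ∈ Z ∧ p ∉ Set.range (pullback.diagonal f)} + topologicalKrullDim S ≤ topologicalKrullDim Y + topologicalKrullDim Z)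
    (hYS : topologicalKrullDim Y < topologicalKrullDim S) (hZS : topologicalKrullDim Z < topologicalKrullDim S)
    (hYZ : ¬ Y ⊆ Z) :
    ¬ (f.base '' Y ⊆ closure (f.base '' Y ∩ f.base '' Z)) ∧ ¬ (f.base '' Y ⊆ f.base '' Z) := by
  letI : S.Over (Spec (CommRingCat.of k)) := ⟨q⟩
  haveI : LocallyOfFiniteType (S ↘ Spec (CommRingCat.of k)) := ‹LocallyOfFiniteType q›
  letI : X.Over (Spec (CommRingCat.of k)) := ⟨f ≫ q⟩
  haveI : LocallyOfFiniteType (X ↘ Spec (CommRingCat.of k)) :=
    inferInstanceAs (LocallyOfFiniteType (f ≫ q))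
  letI : (pullback f f).Over (Spec (CommRingCat.of k)) := ⟨pullback.fst f f ≫ f ≫ q⟩
  haveI : LocallyOfFiniteType ((pullback f f) ↘ Spec (CommRingCat.of k)) :=
    inferInstanceAs (LocallyOfFiniteType (pullback.fst f f ≫ f ≫ q))
  have hfq : f ≫ (S ↘ Spec (CommRingCat.of k)) = (X ↘ Spec (CommRingCat.of k)) := rfl
  have hpq : pullback.fst f f ≫ (X ↘ Spec (CommRingCat.of k)) =
      ((pullback f f) ↘ Spec (CommRingCat.of k)) := rfl
  -- Noetherianity
  haveI : IsLocallyNoetherian S := LocallyOfFiniteType.isLocallyNoetherian q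
  haveI : IsLocallyNoetherian X := LocallyOfFiniteType.isLocallyNoetherian f
  haveI : IsNoetherian X := {}
  haveI : IsNoetherian S := {}
  -- generic points
  obtain ⟨ηY, hηY⟩ := QuasiSober.sober hYi hYc
  obtain ⟨ηZ, hηZ⟩ := QuasiSober.sober hZi hZc
  have hηY' : closure {ηY} = Y := hηY
  have hηZ' : closure {ηZ} = Z := hηZ
  haveI : Nonempty S := ⟨f ηY⟩
  obtain ⟨ηS, -, hdimS⟩ := exists_trdegNat_eq_topologicalKrullDim k S
  set N := trdegNat k S ηS with hN
  have hdimY : topologicalKrullDim Y = ((trdegNat k X ηY : ℕ) : WithBot ℕ∞) := by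
    rw [← hηY']; exact topologicalKrullDim_closure_singleton k X ηY
  have hdimZ : topologicalKrullDim Z = ((trdegNat k X ηZ : ℕ) : WithBot ℕ∞) := by
    rw [← hηZ']; exact topologicalKrullDim_closure_singleton k X ηZ
  set dY := trdegNat k X ηY with hdY
  set dZ := trdegNat k X ηZ with hdZ
  have hZN : dZ < N := by
    rw [hdimZ, hdimS] at hZS
    exact_mod_cast hZS
  set E : Set ↥(pullback f f) := {p : ↥(pullback f f) | pullback.fst f f p ∈ Y ∧
    pullback.snd f f p ∈ Z ∧ p ∉ Set.range (pullback.diagonal f)} with hE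
  have hElc : IsLocallyClosed E := by
    have h1 : IsClosed ((pullback.fst f f) ⁻¹' Y ∩ (pullback.snd f f) ⁻¹' Z) :=
      (hYc.preimage (pullback.fst f f).continuous).inter
        (hZc.preimage (pullback.snd f f).continuous)
    have h2 : IsOpen (Set.range (pullback.diagonal f))ᶜ :=
      (pullback.diagonal f).isClosedEmbedding.isClosed_range.isOpen_compl
    have h3 : E = ((pullback.fst f f) ⁻¹' Y ∩ (pullback.snd f f) ⁻¹' Z) ∩
        (Set.range (pullback.diagonal f))ᶜ := by
      ext p
      simp only [hE, Set.mem_ofPred_eq, Set.mem_inter_iff, Set.mem_preimage, Set.mem_compl_iff]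
      tauto
    rw [h3]
    exact h1.isLocallyClosed.inter h2.isLocallyClosed
  have hWI' : topologicalKrullDim E + ((N : ℕ) : WithBot ℕ∞) ≤ ((dY + dZ : ℕ) : WithBot ℕ∞) := by
    rw [hdimS, hdimY, hdimZ] at hWI
    exact_mod_cast hWI
  have hEpt : ∀ p ∈ E, trdegNat k (pullback f f) p + N ≤ dY + dZ := fun p hp =>
    Groth.Agent.S14482.trdegNat_add_le k (pullback f f) E hElc N (dY + dZ) hWI' p hp
  have key : ¬ (f.base '' Y ⊆ closure (f.base '' Y ∩ f.base '' Z)) := by
    intro hsub
    set s : S := f ηY with hs
    set T : Set S := closure {s} with hT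
    have hYT : f.base '' Y ⊆ T := by
      rw [← hηY']
      exact image_closure_subset_closure_image f.continuous |>.trans (by rw [Set.image_singleton])
    have hE₀ : IsConstructible (f.base '' Y ∩ f.base '' Z) := by
      have h1 : IsConstructible (f.base '' Y) :=
        Scheme.Hom.isConstructible_image f (Groth.Agent.Lib.Helper2.Constr.isConstructible_of_isClosed hYc)
      have h2 : IsConstructible (f.base '' Z) :=
        Scheme.Hom.isConstructible_image f (Groth.Agent.Lib.Helper2.Constr.isConstructible_of_isClosed hZc)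
      exact h1.inter h2
    have hTi : IsIrreducible T := isIrreducible_singleton.closure
    have hsY : s ∈ f.base '' Y := ⟨ηY, hηY' ▸ subset_closure rfl, rfl⟩
    have hd : T ⊆ closure ((f.base '' Y ∩ f.base '' Z) ∩ T) := by
      have h1 : (f.base '' Y ∩ f.base '' Z) ∩ T = f.base '' Y ∩ f.base '' Z :=
        Set.inter_eq_left.mpr (Set.inter_subset_left.trans hYT)
      rw [h1]
      exact closure_minimal (Set.singleton_subset_iff.mpr (hsub hsY)) isClosed_closure
    obtain ⟨U, hU, hne, hUE⟩ := Groth.Agent.Lib.Helper2.Constr.exists_open_subset_of_dense hE₀ hTi hd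
    have hsU : s ∈ U := by
      obtain ⟨t, htU, htT⟩ := hne
      have : s ⤳ t := specializes_iff_mem_closure.mpr htT
      exact this.mem_open hU htU
    have hsZ : s ∈ f.base '' Z := (hUE ⟨hsU, subset_closure rfl⟩).2
    obtain ⟨z₀, hz₀, hz₀s⟩ := hsZ
    obtain ⟨p, hp1, hp2, -, -, hp5⟩ := Groth.Agent.R2.H19.WellInt.exists_big_point f Z hZc ηZ hηZ'
      ηY z₀ hz₀ hz₀s.symm
    have hpE : p ∈ E := by
      refine ⟨?_, hp2, ?_⟩
      · rw [hp1, ← hηY']; exact subset_closure rfl
      · rintro ⟨x, rfl⟩
        apply hYZ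
        have e1 : pullback.fst f f (pullback.diagonal f x) = x := by
          rw [← Scheme.Hom.comp_apply, pullback.diagonal_fst]; rfl
        have e2 : pullback.snd f f (pullback.diagonal f x) = x := by
          rw [← Scheme.Hom.comp_apply, pullback.diagonal_snd]; rfl
        rw [e1] at hp1
        rw [e2, hp1] at hp2
        rw [← hηY']
        exact closure_minimal (Set.singleton_subset_iff.mpr hp2) hZc
    have h1 := hEpt p hpE
    have h2 := trdegNat_eq_add_ptTrdeg k (pullback.fst f f) hpq p
    rw [hp1] at h2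
    have h3 := trdegNat_eq_add_ptTrdeg k f hfq ηZ
    omega
  refine ⟨key, fun h => key ?_⟩
  rw [Set.inter_eq_left.mpr h]
  exact subset_closure

end Groth.Agent.S14484
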