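import Groth.Statements.S14485
import Groth.Agent.R2.H19FibConst

set_option autoImplicit false
set_option linter.style.haveILetI false
set_option linter.unusedVariables false
universe u
open CategoryTheory CategoryTheory.Limits AlgebraicGeometry
open CharCyc

namespace Groth.Agent.S14485

open Groth.Agent.Lib.Helper4.VarDim Groth.Agent.Lib.Helper4.FibDim
  Groth.Agent.Lib.Helper4.DimFormula Topology Groth.Agent.R2.H19.FibConst


/-- Let k be a field and let f : X → S be a morphism between separated k-schemes of finite type. Two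
closed subsets Y, Z of X are said to well intersect with respect to f when dim(Y ×_S Z ∖ Y ×_X Z) ≤
dim Y + dim Z − dim S; here Y ×_S Z ∖ Y ×_X Z is taken as the subspace of X ×_S X of points whose
two projections lie in Y and in Z and which are not in the image of the diagonal, and the inequality
is written additively as dim(Y ×_S Z ∖ Y ×_X Z) + dim S ≤ dim Y + dim Z (topological Krull
dimensions, the empty space having dimension ⊥). Let Y, Z ⊆ X be closed subsets, and let g : S' → S
be faithfully flat with every fibre of dimension d (relative constant dimension d), where S' is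
again a separated k-scheme of finite type. Write f' : X' = X ×_S S' → S' for the base change and Y',
Z' ⊆ X' for the preimages of Y, Z. Then well-intersection of Y, Z with respect to f is equivalent to
well-intersection of Y', Z' with respect to f'. -/
theorem result (k : Type u) [Field k] (X S S' : Scheme.{u})
    (q : S ⟶ Spec (CommRingCat.of k)) (f : X ⟶ S) (g : S' ⟶ S)
    [LocallyOfFiniteType q] [CompactSpace S] [IsSeparated q] [LocallyOfFiniteType f] [CompactSpace X] [IsSeparated f]
    [LocallyOfFiniteType g] [CompactSpace S'] [IsSeparated g] [Flat g] [Surjective g]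
    (d : ℕ) (hd : ∀ s : S, topologicalKrullDim (g.fiber s) = d)
    (Y Z : Set X) (hYc : IsClosed Y) (hZc : IsClosed Z) :
    (topologicalKrullDim {p : ↥(pullback f f) | pullback.fst f f p ∈ Y ∧ pullback.snd f f p ∈ Z ∧ p ∉ Set.range (pullback.diagonal f)} + topologicalKrullDim S ≤ topologicalKrullDim Y + topologicalKrullDim Z) ↔
      (topologicalKrullDim {p : ↥(pullback (pullback.snd f g) (pullback.snd f g)) | pullback.fst (pullback.snd f g) (pullback.snd f g) p ∈ ((pullback.fst f g) ⁻¹' Y) ∧ pullback.snd (pullback.snd f g) (pullback.snd f g) p ∈ ((pullback.fst f g) ⁻¹' Z) ∧ p ∉ Set.range (pullback.diagonal (pullback.snd f g))} + topologicalKrullDim S' ≤ topologicalKrullDim ((pullback.fst f g) ⁻¹' Y) + topologicalKrullDim ((pullback.fst f g) ⁻¹' Z)) := by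
  set f' := pullback.snd f g with hf'
  set pr := pullback.fst f g with hpr
  let π : pullback f' f' ⟶ pullback f f :=
    pullback.map f' f' f f pr pr g pullback.condition.symm pullback.condition.symm
  have hπ1 : π ≫ pullback.fst f f = pullback.fst f' f' ≫ pr := pullback.lift_fst _ _ _
  have hπ2 : π ≫ pullback.snd f f = pullback.snd f' f' ≫ pr := pullback.lift_snd _ _ _
  -- the pullback squares
  have sqB : IsPullback pr f' f g := IsPullback.of_hasPullback f g
  have sqC1 : IsPullback (pullback.snd f' f' ≫ pr) (pullback.fst f' f') f (f' ≫ g) :=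
    (IsPullback.of_hasPullback f' f').flip.paste_horiz sqB
  have sqI : IsPullback π (pullback.fst f' f') (pullback.fst f f) pr := by
    refine IsPullback.of_right ?_ hπ1 (IsPullback.of_hasPullback f f).flip
    rw [hπ2]
    have : pr ≫ f = f' ≫ g := pullback.condition
    rw [this]
    exact sqC1
  have hΔ : pullback.diagonal f' ≫ π = pr ≫ pullback.diagonal f := by
    apply pullback.hom_ext
    · rw [Category.assoc, hπ1, pullback.diagonal_fst_assoc, Category.assoc, pullback.diagonal_fst,
        Category.comp_id]
    · rw [Category.assoc, hπ2, pullback.diagonal_snd_assoc, Category.assoc, pullback.diagonal_snd,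
        Category.comp_id]
  have sqIII : IsPullback (pullback.diagonal f') pr π (pullback.diagonal f) := by
    refine IsPullback.of_right ?_ hΔ sqI.flip
    rw [pullback.diagonal_fst, pullback.diagonal_fst]
    exact IsPullback.id_horiz pr
  -- structures over `k`
  letI : S.Over (Spec (CommRingCat.of k)) := ⟨q⟩
  haveI : LocallyOfFiniteType (S ↘ Spec (CommRingCat.of k)) := ‹LocallyOfFiniteType q›
  letI : S'.Over (Spec (CommRingCat.of k)) := ⟨g ≫ q⟩
  haveI : LocallyOfFiniteType (S' ↘ Spec (CommRingCat.of k)) :=
    inferInstanceAs (LocallyOfFiniteType (g ≫ q))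
  letI : X.Over (Spec (CommRingCat.of k)) := ⟨f ≫ q⟩
  haveI : LocallyOfFiniteType (X ↘ Spec (CommRingCat.of k)) :=
    inferInstanceAs (LocallyOfFiniteType (f ≫ q))
  letI : (pullback f g).Over (Spec (CommRingCat.of k)) := ⟨pr ≫ f ≫ q⟩
  haveI : LocallyOfFiniteType ((pullback f g) ↘ Spec (CommRingCat.of k)) :=
    inferInstanceAs (LocallyOfFiniteType (pr ≫ f ≫ q))
  letI : (pullback f f).Over (Spec (CommRingCat.of k)) := ⟨pullback.fst f f ≫ f ≫ q⟩
  haveI : LocallyOfFiniteType ((pullback f f) ↘ Spec (CommRingCat.of k)) :=
    inferInstanceAs (LocallyOfFiniteType (pullback.fst f f ≫ f ≫ q))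
  haveI : LocallyOfFiniteType π :=
    MorphismProperty.of_isPullback (P := @LocallyOfFiniteType) sqI.flip inferInstance
  letI : (pullback f' f').Over (Spec (CommRingCat.of k)) := ⟨π ≫ pullback.fst f f ≫ f ≫ q⟩
  haveI : LocallyOfFiniteType ((pullback f' f') ↘ Spec (CommRingCat.of k)) :=
    inferInstanceAs (LocallyOfFiniteType (π ≫ pullback.fst f f ≫ f ≫ q))
  -- fibre dimensions
  have hg : HasFibDim g d := hasFibDim_of_forall_dim_fiber g d hd
  have hprd : HasFibDim pr d := HasFibDim.of_isPullback sqB.flip hg
  have hπd : HasFibDim π d := HasFibDim.of_isPullback sqI.flip hprd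
  -- the four dimensions
  have hdimS : topologicalKrullDim S' = topologicalKrullDim S + (d : WithBot ℕ∞) := by
    have := topologicalKrullDim_preimage_eq_add k g rfl d hg Set.univ isClosed_univ.isLocallyClosed
    rwa [Set.preimage_univ, topologicalKrullDim_univ_eq, topologicalKrullDim_univ_eq] at this
  have hdimY := topologicalKrullDim_preimage_eq_add k pr rfl d hprd Y hYc.isLocallyClosed
  have hdimZ := topologicalKrullDim_preimage_eq_add k pr rfl d hprd Z hZc.isLocallyClosed
  set E : Set ↥(pullback f f) := {p : ↥(pullback f f) | pullback.fst f f p ∈ Y ∧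
    pullback.snd f f p ∈ Z ∧ p ∉ Set.range (pullback.diagonal f)} with hE
  have hElc : IsLocallyClosed E := by
    have h1 : IsClosed ((pullback.fst f f) ⁻¹' Y ∩ (pullback.snd f f) ⁻¹' Z) :=
      (hYc.preimage (pullback.fst f f).continuous).inter
        (hZc.preimage (pullback.snd f f).continuous)
    have h2 : IsOpen (Set.range (pullback.diagonal f))ᶜ :=
      (pullback.diagonal f).isClosedEmbedding.isClosed_range.isOpen_compl
    have h3 : E = ((pullback.fst f f) ⁻¹' Y ∩ (pullback.snd f f) ⁻¹' Z) ∩
        (Set.range (pullback.diagonal f))ᶜ := by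
      ext p
      simp only [hE, Set.mem_ofPred_eq, Set.mem_inter_iff, Set.mem_preimage, Set.mem_compl_iff]
      tauto
    rw [h3]
    exact h1.isLocallyClosed.inter h2.isLocallyClosed
  have hE' : {p : ↥(pullback f' f') | pullback.fst f' f' p ∈ (pr ⁻¹' Y) ∧
      pullback.snd f' f' p ∈ (pr ⁻¹' Z) ∧ p ∉ Set.range (pullback.diagonal f')} = π ⁻¹' E := by
    ext p
    have e1 : pullback.fst f f (π p) = pr (pullback.fst f' f' p) := by
      rw [← Scheme.Hom.comp_apply, hπ1, Scheme.Hom.comp_apply]
    have e2 : pullback.snd f f (π p) = pr (pullback.snd f' f' p) := by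
      rw [← Scheme.Hom.comp_apply, hπ2, Scheme.Hom.comp_apply]
    have e3 : p ∈ Set.range (pullback.diagonal f') ↔ π p ∈ Set.range (pullback.diagonal f) := by
      constructor
      · rintro ⟨x', rfl⟩
        refine ⟨pr x', ?_⟩
        rw [← Scheme.Hom.comp_apply, ← hΔ, Scheme.Hom.comp_apply]
      · rintro ⟨x, hx⟩
        obtain ⟨x', hx'1, -⟩ := Scheme.exists_preimage_of_isPullback sqIII p x hx.symm
        exact ⟨x', hx'1⟩
    simp only [hE, Set.mem_ofPred_eq, Set.mem_preimage, e1, e2, e3]
  have hdimE := topologicalKrullDim_preimage_eq_add k π rfl d hπd E hElc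
  rw [hE', hdimE, hdimS, hdimY, hdimZ]
  have l1 : topologicalKrullDim E + (d : WithBot ℕ∞) + (topologicalKrullDim S + (d : WithBot ℕ∞)) =
      (topologicalKrullDim E + topologicalKrullDim S) + ((d + d : ℕ) : WithBot ℕ∞) := by
    push_cast
    exact add_add_add_comm _ _ _ _
  have l2 : topologicalKrullDim Y + (d : WithBot ℕ∞) + (topologicalKrullDim Z + (d : WithBot ℕ∞)) =
      (topologicalKrullDim Y + topologicalKrullDim Z) + ((d + d : ℕ) : WithBot ℕ∞) := by
    push_cast
    exact add_add_add_comm _ _ _ _
  rw [l1, l2, add_natCast_le_add_natCast_iff]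

end Groth.Agent.S14485
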