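import Groth.Statements.S1449
import Groth.Agent.R2.H93FibDegField

set_option autoImplicit false
universe u
open FlatMor

namespace Groth.Agent.S1449

open AlgebraicGeometry CategoryTheory Limits in
/-- Consider a separated, flat, locally quasi-finite morphism f : X → S which is locally of finite
presentation. Then there are opens S = U_0 ⊇ U_1 ⊇ U_2 ⊇ ... of S with the property that a morphism
from the spectrum of a field to S lands in U_d exactly when the base change of X to that field has
rank (of its ring of global functions over the field) at least d. -/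
theorem result {X S : Scheme.{u}} (f : X ⟶ S) [Flat f] [LocallyOfFinitePresentation f] [IsSeparated f] [LocallyQuasiFinite f] :
    ∃ U : ℕ → S.Opens, Antitone U ∧ U 0 = ⊤ ∧ ∀ (K : Type u) [Field K] (g : Spec (CommRingCat.of K) ⟶ S) (d : ℕ),
      Set.range ⇑g ⊆ (U d : Set ↑S) ↔ (d : Cardinal.{u}) ≤ (letI := ((Scheme.ΓSpecIso (CommRingCat.of K)).inv ≫ (pullback.snd f g).appTop).hom.toAlgebra
        Module.rank K (Γ(pullback f g, ⊤) : Type u)) := by
  refine ⟨fun d => ⟨{s | Groth.Agent.R2.H93.FibDeg.FD f d s},
    Groth.Agent.R2.H93.FibDeg.isOpen_FD f d⟩, ?_, ?_, ?_⟩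
  · intro d d' hdd' s hs
    exact Groth.Agent.R2.H93.FibDeg.FD.mono hs hdd'
  · ext s
    simp only [TopologicalSpace.Opens.coe_mk, Set.mem_ofPred_eq, TopologicalSpace.Opens.coe_top,
      Set.mem_univ, iff_true]
    exact Groth.Agent.R2.H93.FibDeg.FD.zero f s
  · intro K _ g d
    have hpt := Groth.Agent.R2.H93.FibDegField.FD_iff_rank_pullback K f g d
      (IsLocalRing.closedPoint K)
    have hrange : Set.range ⇑g ⊆ {s | Groth.Agent.R2.H93.FibDeg.FD f d s} ↔
        Groth.Agent.R2.H93.FibDeg.FD f d (g (IsLocalRing.closedPoint K)) := by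
      constructor
      · intro h
        exact h ⟨_, rfl⟩
      · rintro h _ ⟨x, rfl⟩
        have hx : x = IsLocalRing.closedPoint K := Subsingleton.elim _ _
        rw [hx]
        exact h
    exact hrange.trans hpt

end Groth.Agent.S1449
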