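import Groth.Statements.S14492
-- import your own Groth.Agent.* helpers here
import Groth.Agent.R2.H66IndYoneda

set_option autoImplicit false
universe v
open IndCof

namespace Groth.Agent.S14492


open CategoryTheory CategoryTheory.Limits in
/-- Let C be a small abelian category all of whose objects are Artinian and killed by some power of a
prime p, and let A be an ind-object of C of cofinite type, i.e. for every n the p^n-torsion
sub-object A[p^n] (the kernel of multiplication by p^n) is isomorphic to an object of C. Then A /
p^n A (the cokernel of multiplication by p^n) is isomorphic to an object of C for every n. -/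
theorem result {C : Type v} [SmallCategory C] [Abelian C]
    (hart : ∀ X : C, IsArtinianObject X) (p : ℕ) (hp : p.Prime)
    (htor : ∀ X : C, ∃ n : ℕ, (p ^ n) • 𝟙 X = 0)
    (A : Ind C) (hA : ∀ n : ℕ, (Ind.yoneda (C := C)).essImage (kernel ((p ^ n) • 𝟙 A))) (n : ℕ) :
    (Ind.yoneda (C := C)).essImage (cokernel ((p ^ n) • 𝟙 A)) := by
  have hA' : ∀ k : ℕ, (Groth.Agent.R2.H66.IndYoneda.setup hart).P
      (Groth.Agent.R2.H66.Cofinite.T ((p ^ n) ^ k) A) := by
    intro k
    rw [← pow_mul]
    exact hA (n * k)
  obtain ⟨N, hN⟩ := Groth.Agent.R2.H66.Cofinite.exists_decomp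
    (S := Groth.Agent.R2.H66.IndYoneda.setup hart) (p ^ n)
    (Groth.Agent.R2.H66.IndYoneda.union_prime_pow p htor n) A hA'
  exact Groth.Agent.R2.H66.Cofinite.P_cokernel_smul (p ^ n) N A hN (hA' N) (hA' (N + 1))

end Groth.Agent.S14492
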