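import Groth.Statements.S14493
-- import your own Groth.Agent.* helpers here
import Groth.Agent.R2.H66IndYoneda

set_option autoImplicit false
universe v
open IndCof

namespace Groth.Agent.S14493


open CategoryTheory CategoryTheory.Limits in
/-- Let C be a small abelian category all of whose objects are Artinian and killed by some power of a
prime p. The ind-objects of cofinite type (those A in Ind C with every p^n-torsion sub-object A[p^n]
isomorphic to an object of C) form an abelian subcategory of Ind C: for a morphism f : A ⟶ B between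
ind-objects of cofinite type, the kernel and the cokernel of f in Ind C are of cofinite type. -/
theorem result {C : Type v} [SmallCategory C] [Abelian C]
    (hart : ∀ X : C, IsArtinianObject X) (p : ℕ) (hp : p.Prime)
    (htor : ∀ X : C, ∃ n : ℕ, (p ^ n) • 𝟙 X = 0)
    (A B : Ind C) (hA : ∀ n : ℕ, (Ind.yoneda (C := C)).essImage (kernel ((p ^ n) • 𝟙 A))) (hB : ∀ n : ℕ, (Ind.yoneda (C := C)).essImage (kernel ((p ^ n) • 𝟙 B))) (f : A ⟶ B) :
    (∀ n : ℕ, (Ind.yoneda (C := C)).essImage (kernel ((p ^ n) • 𝟙 (kernel f)))) ∧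
      (∀ n : ℕ, (Ind.yoneda (C := C)).essImage (kernel ((p ^ n) • 𝟙 (cokernel f)))) := by
  let Q : Set ℕ := Set.range (fun n : ℕ => p ^ n)
  have hQ : ∀ q ∈ Q, ∀ k : ℕ, q ^ k ∈ Q := by
    rintro _ ⟨n, rfl⟩ k
    exact ⟨n * k, by simp [pow_mul]⟩
  have hU : ∀ q ∈ Q, Groth.Agent.R2.H66.Cofinite.Union (D := Ind C) q := by
    rintro _ ⟨n, rfl⟩
    exact Groth.Agent.R2.H66.IndYoneda.union_prime_pow p htor n
  have hA' : Groth.Agent.R2.H66.Cofinite.Cof (Groth.Agent.R2.H66.IndYoneda.setup hart) Q A := by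
    rintro _ ⟨n, rfl⟩
    exact hA n
  have hB' : Groth.Agent.R2.H66.Cofinite.Cof (Groth.Agent.R2.H66.IndYoneda.setup hart) Q B := by
    rintro _ ⟨n, rfl⟩
    exact hB n
  exact ⟨fun n => Groth.Agent.R2.H66.Cofinite.cof_kernel Q f hA' hB' (p ^ n) ⟨n, rfl⟩,
    fun n => Groth.Agent.R2.H66.Cofinite.cof_cokernel Q hQ hU f hA' hB' (p ^ n) ⟨n, rfl⟩⟩

end Groth.Agent.S14493
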