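import Groth.Statements.S14496
-- import your own Groth.Agent.* helpers here
import Groth.Agent.R2.H66IndYoneda
import Groth.Agent.R2.H66FMSub

set_option autoImplicit false
universe v
open IndCof

namespace Groth.Agent.S14496

section Helpers

open CategoryTheory CategoryTheory.Limits Groth.Agent.R2.H66.FMChase Groth.Agent.R2.H66.FMSub
  Groth.Agent.R2.H66.Cofinite

universe v' u'

variable {D : Type u'} [Category.{v'} D] [Abelian D]

lemma nonempty_iso_of_range_eq {X X' A : D} (i : X ⟶ A) (i' : X' ⟶ A) [Mono i] [Mono i']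
    (h : ∀ a : El A, (∃ x, ap i x = a) ↔ ∃ x', ap i' x' = a) : Nonempty (X ≅ X') := by
  obtain ⟨l, hl⟩ := exists_lift_of_range_le i i' (fun x => (h _).mp ⟨x, rfl⟩)
  obtain ⟨l', hl'⟩ := exists_lift_of_range_le i' i (fun x => (h _).mpr ⟨x, rfl⟩)
  refine ⟨⟨l, l', ?_, ?_⟩⟩
  · rw [← cancel_mono i, Category.assoc, hl', hl, Category.id_comp]
  · rw [← cancel_mono i', Category.assoc, hl, hl', Category.id_comp]

lemma epi_smul_iff' {X : D} (k : ℕ) :
    Epi (k • 𝟙 X) ↔ ∀ x : El X, ∃ y : El X, k • y = x := by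
  rw [epi_iff_ap_surjective]
  constructor
  · intro h x
    obtain ⟨y, hy⟩ := h x
    exact ⟨y, by simpa using hy⟩
  · intro h x
    obtain ⟨y, hy⟩ := h x
    exact ⟨y, by simpa using hy⟩

lemma exists_pow_smul_of_div {X : D} (p : ℕ) (h : ∀ x : El X, ∃ y : El X, p • y = x) (N : ℕ) :
    ∀ x : El X, ∃ y : El X, (p ^ N) • y = x := by
  induction N with
  | zero => intro x; exact ⟨x, by simp⟩
  | succ N ih =>
    intro x
    obtain ⟨y, rfl⟩ := ih x
    obtain ⟨z, rfl⟩ := h y
    exact ⟨z, by rw [pow_succ, mul_smul]⟩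

/-- the torsion of the image of `b` -/
lemma P_T_image {S : Setup D} (a b : ℕ) (A : D) (ha : S.P (T a A)) (hab : S.P (T (a * b) A)) :
    S.P (T a (imageSubobject (b • 𝟙 A) : D)) := by
  let g : T (a * b) A ⟶ T a A := kernel.lift (a • 𝟙 A) (ιT (a * b) A ≫ (b • 𝟙 A)) (by
    apply hom_ext_ap
    intro x
    simp only [ap_comp, ap_nsmul, ap_id, ap_zero]
    rw [← mul_smul]
    exact ιT_smul _ _ _)
  have hg : ∀ x, ap (ιT a A) (ap g x) = b • ap (ιT (a * b) A) x := by
    intro x
    rw [← ap_comp, kernel.lift_ι]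
    simp
  obtain ⟨I', m', hm', hPI', hrange⟩ := exists_image_P g hab ha
  have e : Nonempty (I' ≅ T a (imageSubobject (b • 𝟙 A) : D)) := by
    refine nonempty_iso_of_range_eq (m' ≫ ιT a A)
      (ιT a (imageSubobject (b • 𝟙 A) : D) ≫ (imageSubobject (b • 𝟙 A)).arrow) (fun w => ?_)
    constructor
    · rintro ⟨z, rfl⟩
      obtain ⟨x, hx⟩ := (hrange (ap m' z)).mp ⟨z, rfl⟩
      -- the element `b • ιT x`
      obtain ⟨u, hu⟩ := (range_imageSubobject_arrow (b • 𝟙 A) (b • ap (ιT (a * b) A) x)).mpr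
        ⟨ap (ιT (a * b) A) x, by simp⟩
      have hau : a • u = 0 := by
        apply arrow_injective
        rw [map_nsmul, hu, map_zero, ← mul_smul]
        exact ιT_smul _ _ _
      obtain ⟨t, ht⟩ := (mem_T_iff a _ u).mpr hau
      refine ⟨t, ?_⟩
      rw [ap_comp, ht, hu, ap_comp, ← hx, hg]
    · rintro ⟨t, rfl⟩
      obtain ⟨x, hx⟩ := (range_imageSubobject_arrow (b • 𝟙 A) _).mp
        ⟨ap (ιT a (imageSubobject (b • 𝟙 A) : D)) t, rfl⟩
      simp only [ap_nsmul, ap_id] at hx
      have hx0 : (a * b) • x = 0 := by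
        rw [mul_smul, hx, ← map_nsmul, ιT_smul, map_zero]
      obtain ⟨s, hs⟩ := (mem_T_iff (a * b) A x).mpr hx0
      obtain ⟨z, hz⟩ := (hrange (ap g s)).mpr ⟨s, rfl⟩
      refine ⟨z, ?_⟩
      rw [ap_comp, hz, hg, hs, hx, ap_comp]
  exact S.P_iso e.some hPI'

end Helpers


open CategoryTheory CategoryTheory.Limits in
/-- Let C be a small abelian category all of whose objects are Artinian and killed by some power of a
prime p, and A an ind-object of C of cofinite type. Let N be such that p^n A = p^N A for all n ≥ N,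
so that the divisible part A_div = ⋂ p^n A equals p^N A. Then A_div is of cofinite type and
divisible (multiplication by p on it is an epimorphism; integers prime to p act invertibly on every
ind-object here, so this is divisibility by all positive integers); it is the largest divisible
sub-object of A; and A / A_div is the largest quotient of A lying in C: every epimorphism from A
onto an object isomorphic to an object of C vanishes on A_div. (The row takes the stabilization
index N as a hypothesis instead of forming the intersection; that A / A_div itself lies in C is the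
statement about A / p^N A and is not repeated here.) -/
theorem result {C : Type v} [SmallCategory C] [Abelian C]
    (hart : ∀ X : C, IsArtinianObject X) (p : ℕ) (hp : p.Prime)
    (htor : ∀ X : C, ∃ n : ℕ, (p ^ n) • 𝟙 X = 0)
    (A : Ind C) (hA : ∀ n : ℕ, (Ind.yoneda (C := C)).essImage (kernel ((p ^ n) • 𝟙 A))) (N : ℕ)
    (hN : ∀ n : ℕ, N ≤ n → imageSubobject ((p ^ n) • 𝟙 A) = imageSubobject ((p ^ N) • 𝟙 A)) :
    (∀ n : ℕ, (Ind.yoneda (C := C)).essImage
        (kernel ((p ^ n) • 𝟙 ((imageSubobject ((p ^ N) • 𝟙 A) : Subobject A) : Ind C)))) ∧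
      Epi (p • 𝟙 ((imageSubobject ((p ^ N) • 𝟙 A) : Subobject A) : Ind C)) ∧
      (∀ D : Subobject A, Epi (p • 𝟙 (D : Ind C)) → D ≤ imageSubobject ((p ^ N) • 𝟙 A)) ∧
      (∀ (Q : Ind C) (q : A ⟶ Q), Epi q → (Ind.yoneda (C := C)).essImage Q →
        (imageSubobject ((p ^ N) • 𝟙 A)).arrow ≫ q = 0) := by
  open Groth.Agent.R2.H66.FMChase Groth.Agent.R2.H66.FMSub Groth.Agent.R2.H66.Cofinite in
  -- equality of images on elements
  have hNel : ∀ n : ℕ, N ≤ n → ∀ x : El A, ∃ x' : El A, (p ^ n) • x' = (p ^ N) • x := by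
    intro n hn x
    have := ((imageSubobject_eq_iff _ _).mp (hN n hn) ((p ^ N) • x)).mpr ⟨x, by simp⟩
    obtain ⟨x', hx'⟩ := this
    exact ⟨x', by simpa using hx'⟩
  refine ⟨?_, ?_, ?_, ?_⟩
  · intro n
    have h := P_T_image (S := Groth.Agent.R2.H66.IndYoneda.setup hart) (p ^ n) (p ^ N) A (hA n)
      (by rw [← pow_add]; exact hA (n + N))
    exact h
  · rw [epi_smul_iff']
    intro z
    obtain ⟨x, hx⟩ := (range_imageSubobject_arrow ((p ^ N) • 𝟙 A) _).mp ⟨z, rfl⟩
    simp only [ap_nsmul, ap_id] at hx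
    obtain ⟨x', hx'⟩ := hNel (N + 1) (Nat.le_succ N) x
    obtain ⟨z', hz'⟩ := (range_imageSubobject_arrow ((p ^ N) • 𝟙 A) ((p ^ N) • x')).mpr
      ⟨x', by simp⟩
    refine ⟨z', ?_⟩
    apply arrow_injective
    rw [map_nsmul, hz', ← hx, ← hx', pow_succ', mul_smul]
  · intro D hD
    rw [le_imageSubobject_iff]
    intro x
    obtain ⟨y, rfl⟩ := exists_pow_smul_of_div p ((epi_smul_iff' p).mp hD) N x
    exact ⟨ap D.arrow y, by simp⟩
  · intro Q q _ hQ
    obtain ⟨X, ⟨e⟩⟩ := hQ
    obtain ⟨j, hj⟩ := htor X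
    have hjQ : (p ^ j) • 𝟙 Q = 0 := by
      haveI : (Ind.yoneda (C := C)).Additive := Functor.additive_of_preserves_binary_products _
      have h1 : (p ^ j) • 𝟙 (Ind.yoneda.obj X) = 0 := by
        have := congrArg (fun t => (Ind.yoneda (C := C)).map t) hj
        simpa [Functor.map_nsmul] using this
      have h2 : (p ^ j) • 𝟙 Q = e.inv ≫ ((p ^ j) • 𝟙 (Ind.yoneda.obj X)) ≫ e.hom := by
        simp
      rw [h2, h1]
      simp
    apply eq_zero_of_ap
    intro z
    obtain ⟨x, hx⟩ := (range_imageSubobject_arrow ((p ^ N) • 𝟙 A) _).mp ⟨z, rfl⟩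
    simp only [ap_nsmul, ap_id] at hx
    obtain ⟨x', hx'⟩ := hNel (N + j) (Nat.le_add_right N j) x
    rw [ap_comp, ← hx, ← hx', map_nsmul, pow_add, mul_smul]
    have : (p ^ j) • ap q x' = 0 := by
      have := congrArg (fun t => ap t (ap q x')) hjQ
      simpa using this
    rw [this, smul_zero]

end Groth.Agent.S14496
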