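import Groth.Statements.S14497
-- import your own Groth.Agent.* helpers here
import Groth.Agent.R2.H66FMSub

set_option autoImplicit false
universe v u
open IndCof

namespace Groth.Agent.S14497

section Helpers

open CategoryTheory CategoryTheory.Limits Groth.Agent.R2.H66.FMChase Groth.Agent.R2.H66.FMSub

variable {V : Type u} [Category.{v} V] [Abelian V]

lemma epi_smul_iff {X : V} (k : ℕ) :
    Epi (k • 𝟙 X) ↔ ∀ x : El X, ∃ y : El X, k • y = x := by
  rw [epi_iff_ap_surjective]
  constructor
  · intro h x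
    obtain ⟨y, hy⟩ := h x
    exact ⟨y, by simpa using hy⟩
  · intro h x
    obtain ⟨y, hy⟩ := h x
    exact ⟨y, by simpa using hy⟩

lemma image_smul_eq_iff {B : V} (a b : ℕ) :
    imageSubobject (a • 𝟙 B) = imageSubobject (b • 𝟙 B) ↔
      ∀ w : El B, (∃ x : El B, a • x = w) ↔ ∃ y : El B, b • y = w := by
  rw [imageSubobject_eq_iff]
  simp only [ap_nsmul, ap_id]

/-- if `B'` is divisible with `B / B'` killed by `M`, then the elements of `B'` are exactly the
multiples of `M` -/
lemma range_arrow_eq {B : V} (B' : Subobject B)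
    (hdiv : ∀ k : ℕ, 0 < k → Epi (k • 𝟙 (B' : V))) (M : ℕ) (hM : 0 < M)
    (hkill : M • 𝟙 (cokernel B'.arrow) = 0) (w : El B) :
    (∃ z : El (B' : V), ap B'.arrow z = w) ↔ ∃ x : El B, M • x = w := by
  constructor
  · rintro ⟨z, rfl⟩
    obtain ⟨z', rfl⟩ := (epi_smul_iff M).mp (hdiv M hM) z
    exact ⟨ap B'.arrow z', by rw [map_nsmul]⟩
  · rintro ⟨x, rfl⟩
    have h0 : ap (cokernel.π B'.arrow) (M • x) = 0 := by
      have := congrArg (fun t => ap t (ap (cokernel.π B'.arrow) x)) hkill
      simpa using this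
    exact (cokernel_π_eq_zero_iff _ _).mp h0

end Helpers


open CategoryTheory CategoryTheory.Limits in
/-- Let B be an object of an abelian category and consider the inverse system, indexed by the positive
integers ordered by divisibility, with every term equal to B and transition map from the m-th to the
n-th term (n ∣ m) given by multiplication by m/n. This system is Mittag-Leffler, i.e. for every n
the images in the n-th term of the transition maps are eventually constant, if and only if B has a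
divisible sub-object B' (multiplication by every positive integer is an epimorphism of B') with B/B'
killed by some positive integer. Moreover such a B' is the largest divisible sub-object of B. -/
theorem result
    {V : Type u} [Category.{v} V] [Abelian V] (B : V) :
    ((∀ n : ℕ, 0 < n → ∃ m : ℕ, 0 < m ∧ n ∣ m ∧ ∀ m' : ℕ, 0 < m' → m ∣ m' →
        imageSubobject ((m' / n) • 𝟙 B) = imageSubobject ((m / n) • 𝟙 B)) ↔
      ∃ B' : Subobject B, (∀ k : ℕ, 0 < k → Epi (k • 𝟙 (B' : V))) ∧
        ∃ M : ℕ, 0 < M ∧ M • 𝟙 (cokernel B'.arrow) = 0) ∧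
    (∀ B' : Subobject B, (∀ k : ℕ, 0 < k → Epi (k • 𝟙 (B' : V))) →
      (∃ M : ℕ, 0 < M ∧ M • 𝟙 (cokernel B'.arrow) = 0) →
      ∀ D : Subobject B, (∀ k : ℕ, 0 < k → Epi (k • 𝟙 (D : V))) → D ≤ B') := by
  open Groth.Agent.R2.H66.FMChase Groth.Agent.R2.H66.FMSub in
  refine ⟨⟨?_, ?_⟩, ?_⟩
  · -- Mittag-Leffler implies the existence of a divisible subobject
    intro hML
    obtain ⟨m, hm, -, hm'⟩ := hML 1 Nat.one_pos
    simp only [Nat.div_one] at hm'
    refine ⟨imageSubobject (m • 𝟙 B), ?_, m, hm, ?_⟩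
    · intro k hk
      rw [epi_smul_iff]
      intro z
      -- z corresponds to m • x; m • x = (k m) • x'
      obtain ⟨x, hx⟩ := (range_imageSubobject_arrow (m • 𝟙 B) _).mp ⟨z, rfl⟩
      simp only [ap_nsmul, ap_id] at hx
      have hkm := (image_smul_eq_iff (B := B) (k * m) m).mp
        (hm' (k * m) (Nat.mul_pos hk hm) (Dvd.intro_left k rfl)) (ap (imageSubobject (m • 𝟙 B)).arrow z)
      obtain ⟨x', hx'⟩ := hkm.mpr ⟨x, hx⟩
      obtain ⟨z', hz'⟩ := (range_imageSubobject_arrow (m • 𝟙 B) (m • x')).mpr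
        ⟨x', by simp⟩
      refine ⟨z', ?_⟩
      apply arrow_injective
      rw [map_nsmul, hz', ← hx', mul_smul]
    · apply eq_zero_of_ap
      intro y
      obtain ⟨x, rfl⟩ := cokernel_π_surjective (imageSubobject (m • 𝟙 B)).arrow y
      simp only [ap_nsmul, ap_id]
      rw [← map_nsmul, cokernel_π_eq_zero_iff]
      exact (range_imageSubobject_arrow (m • 𝟙 B) _).mpr ⟨x, by simp⟩
  · -- a divisible subobject with bounded cokernel gives Mittag-Leffler
    rintro ⟨B', hdiv, M, hM, hkill⟩ n hn
    refine ⟨n * M, Nat.mul_pos hn hM, Dvd.intro M rfl, ?_⟩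
    intro m' hm' hdvd
    obtain ⟨t, rfl⟩ := hdvd
    have htpos : 0 < t := by
      rcases Nat.eq_zero_or_pos t with h | h
      · rw [h, mul_zero] at hm'
        omega
      · exact h
    have e1 : n * M * t / n = M * t := by
      rw [mul_assoc]
      exact Nat.mul_div_cancel_left _ hn
    have e2 : n * M / n = M := Nat.mul_div_cancel_left _ hn
    rw [e1, e2, image_smul_eq_iff]
    intro w
    constructor
    · rintro ⟨x, rfl⟩
      exact ⟨t • x, by rw [mul_smul]⟩
    · rintro ⟨y, rfl⟩
      -- M • y lies in B', which is t-divisible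
      obtain ⟨z, hz⟩ := (range_arrow_eq B' hdiv M hM hkill (M • y)).mpr ⟨y, rfl⟩
      obtain ⟨z', rfl⟩ := (epi_smul_iff t).mp (hdiv t htpos) z
      obtain ⟨x, hx⟩ := (range_arrow_eq B' hdiv M hM hkill (ap B'.arrow z')).mp ⟨z', rfl⟩
      refine ⟨x, ?_⟩
      rw [mul_comm, mul_smul, hx, ← hz, map_nsmul]
  · -- maximality
    rintro B' hdiv ⟨M, hM, hkill⟩ D hD
    rw [subobject_le_iff]
    intro x
    obtain ⟨x', rfl⟩ := (epi_smul_iff M).mp (hD M hM) x
    exact (range_arrow_eq B' hdiv M hM hkill _).mpr ⟨ap D.arrow x', by rw [map_nsmul]⟩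

end Groth.Agent.S14497
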