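import Groth.Statements.S14500
-- import your own Groth.Agent.* helpers here
import Groth.Agent.R2.H66IndTorsion

set_option autoImplicit false
universe v
open IndCof

namespace Groth.Agent.S14500


open CategoryTheory CategoryTheory.Limits in
/-- Let C be a small abelian category all of whose objects are Artinian and killed by some positive
integer. The ind-objects of cofinite type (those A in Ind C with A[n] isomorphic to an object of C
for every n ≥ 1) form an abelian subcategory of Ind C: for a morphism f : A ⟶ B between such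
objects, the kernel and the cokernel of f in Ind C are of cofinite type. -/
theorem result {C : Type v} [SmallCategory C] [Abelian C]
    (hart : ∀ X : C, IsArtinianObject X)
    (htor : ∀ X : C, ∃ n : ℕ, 0 < n ∧ n • 𝟙 X = 0)
    (A B : Ind C) (hA : ∀ n : ℕ, 0 < n → (Ind.yoneda (C := C)).essImage (kernel (n • 𝟙 A))) (hB : ∀ n : ℕ, 0 < n → (Ind.yoneda (C := C)).essImage (kernel (n • 𝟙 B))) (f : A ⟶ B) :
    (∀ n : ℕ, 0 < n → (Ind.yoneda (C := C)).essImage (kernel (n • 𝟙 (kernel f)))) ∧
      (∀ n : ℕ, 0 < n → (Ind.yoneda (C := C)).essImage (kernel (n • 𝟙 (cokernel f)))) := by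
  let Q : Set ℕ := {n | 0 < n}
  have hQ : ∀ q ∈ Q, ∀ k : ℕ, q ^ k ∈ Q := fun q hq k => Nat.pow_pos hq
  have hU : ∀ q ∈ Q, Groth.Agent.R2.H66.Cofinite.Union (D := Ind C) q :=
    fun q _ => Groth.Agent.R2.H66.IndTorsion.union_of_torsion htor q
  have hA' : Groth.Agent.R2.H66.Cofinite.Cof (Groth.Agent.R2.H66.IndYoneda.setup hart) Q A :=
    fun q hq => hA q hq
  have hB' : Groth.Agent.R2.H66.Cofinite.Cof (Groth.Agent.R2.H66.IndYoneda.setup hart) Q B :=
    fun q hq => hB q hq
  exact ⟨fun n hn => Groth.Agent.R2.H66.Cofinite.cof_kernel Q f hA' hB' n hn,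
    fun n hn => Groth.Agent.R2.H66.Cofinite.cof_cokernel Q hQ hU f hA' hB' n hn⟩

end Groth.Agent.S14500
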