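import Groth.Statements.S14512
import Groth.Agent.R2.H85GenusIso
import Groth.Agent.S1585
import Groth.Agent.Lib.Helper6SmRegSch3
import Groth.Agent.Lib.Helper10CurveFlat

set_option autoImplicit false
universe u
open CategoryTheory CategoryTheory.Limits AlgebraicGeometry
open Curves

namespace Groth.Agent.S14512

/-- Let k be an algebraically closed field and X a complete curve over k (integral, proper over k, of
dimension one) of arithmetic genus dim_k H^1(X, O_X) = 0. Then X is smooth over k. (Over a
non-closed field an integral proper curve with vanishing H^1 need not be smooth, e.g. a projective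
line over an inseparable extension of k viewed over k.) -/
theorem result (k : Type u) [Field k] [IsAlgClosed k] (X : Scheme.{u}) [X.Over (Spec (CommRingCat.of k))]
    [IsIntegral X] [IsProper (X ↘ (Spec (CommRingCat.of k)))] (hdim : topologicalKrullDim X = 1)
    (hg : Curv2.genus k X = 0) :
    Smooth (X ↘ (Spec (CommRingCat.of k))) := by
  classical
  haveI : IsLocallyNoetherian X :=
    LocallyOfFiniteType.isLocallyNoetherian (X ↘ Spec (CommRingCat.of k))
  haveI : CompactSpace X :=
    QuasiCompact.compactSpace_of_compactSpace (X ↘ Spec (CommRingCat.of k))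
  haveI : IsNoetherian X := {}
  haveI : QuasiCompact (X.fromSpecStalk (genericPoint X)) := inferInstance
  haveI : QuasiSeparated (X.fromSpecStalk (genericPoint X)) := inferInstance
  obtain ⟨hfin, -, ⟨V, hVne, hViso⟩, hint, hnorm⟩ := Groth.Agent.S1585.result k X
  haveI := hfin
  haveI := hint
  letI : (Curv2.normalization X).Over (Spec (CommRingCat.of k)) :=
    ⟨Curv2.normalizationι X ≫ (X ↘ Spec (CommRingCat.of k))⟩
  have hf : Curv2.normalizationι X ≫ (X ↘ Spec (CommRingCat.of k)) =
      (Curv2.normalization X) ↘ Spec (CommRingCat.of k) := rfl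
  have hVd : Dense (V : Set X) := V.isOpen.dense hVne
  haveI : IsIso (Curv2.normalizationι X ∣_ V) := hViso
  have hV'd : Dense (((Curv2.normalizationι X) ⁻¹ᵁ V : (Curv2.normalization X).Opens) :
      Set (Curv2.normalization X)) := by
    refine ((Curv2.normalizationι X) ⁻¹ᵁ V).isOpen.dense ?_
    obtain ⟨x, hx⟩ := hVne
    obtain ⟨y, hy⟩ := (Scheme.homeoOfIso (asIso (Curv2.normalizationι X ∣_ V))).surjective ⟨x, hx⟩
    exact ⟨y.1, y.2⟩
  have hle := Groth.Agent.R2.H85.GenusLe.genus_le_of_proper k (le_of_eq hdim)
    (Curv2.normalizationι X) hf V hVd hV'd hViso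
  have hg' : Curv2.genus k (Curv2.normalization X) = Curv2.genus k X := by omega
  -- surjectivity on global sections
  have h0 : Function.Surjective ((Curv2.normalizationι X).app ⊤).hom := by
    set p' : Curv2.normalization X ⟶ Spec (CommRingCat.of k) :=
      Curv2.normalizationι X ≫ (X ↘ Spec (CommRingCat.of k)) with hp'
    haveI : IsProper p' := by rw [hp']; infer_instance
    have hfield : IsField Γ(Curv2.normalization X, ⊤) := isField_of_universallyClosed k p'
    let F := (Scheme.ΓSpecIso (CommRingCat.of k)).inv ≫ p'.appTop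
    have hF : F.hom.IsIntegral := by
      apply RingHom.isIntegral_respectsIso.2
        (e := (Scheme.ΓSpecIso _).symm.commRingCatIsoToRingEquiv)
      exact isIntegral_appTop_of_universallyClosed p'
    letI := hfield.toField
    algebraize [F.hom]
    have hbij : Function.Bijective (algebraMap k Γ(Curv2.normalization X, ⊤)) :=
      IsAlgClosed.algebraMap_bijective_of_isIntegral
    intro y
    obtain ⟨c, hc⟩ := hbij.2 y
    refine ⟨(X ↘ Spec (CommRingCat.of k)).appTop.hom
      ((Scheme.ΓSpecIso (CommRingCat.of k)).inv.hom c), ?_⟩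
    rw [← hc]
    rfl
  haveI : IsIso (Curv2.normalizationι X) :=
    Groth.Agent.R2.H85.GenusLe.isIso_of_genus_eq k (le_of_eq hdim) (Curv2.normalizationι X) hf V hVd
      hV'd hViso h0 hg'
  -- all stalks are regular
  rw [← Scheme.Hom.smoothLocus_eq_top_iff]
  ext x
  simp only [TopologicalSpace.Opens.coe_top, Set.mem_univ, iff_true, SetLike.mem_coe]
  rw [Groth.Agent.Lib.Helper6.SmRegSch3.mem_smoothLocus_iff_isRegularLocalRing]
  obtain ⟨y, rfl⟩ := (Curv2.normalizationι X).homeomorph.surjective x
  show IsRegularLocalRing (X.presheaf.stalk ((Curv2.normalizationι X) y))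
  let e : X.presheaf.stalk ((Curv2.normalizationι X) y) ≃+*
      (Curv2.normalization X).presheaf.stalk y :=
    (asIso ((Curv2.normalizationι X).stalkMap y)).commRingCatIsoToRingEquiv
  haveI : IsIntegrallyClosed ((Curv2.normalization X).presheaf.stalk y) := (hnorm y).2
  haveI : IsIntegrallyClosed (X.presheaf.stalk ((Curv2.normalizationι X) y)) :=
    IsIntegrallyClosed.of_equiv e.symm
  haveI := Groth.Agent.Lib.Helper10.CurveFlat.isDedekindDomain_stalk X (le_of_eq hdim)
    ((Curv2.normalizationι X) y) inferInstance
  exact IsRegularLocalRing.of_isRegularRing_of_isLocalRing _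

end Groth.Agent.S14512
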