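import Groth.Statements.S14521
import Groth.Agent.R2.H62SnapComp2
import Groth.Agent.R2.H62IntNum

set_option autoImplicit false
universe u
open CategoryTheory CategoryTheory.Limits AlgebraicGeometry
open Variety

namespace Groth.Agent.S14521

/-- Let k be an algebraically closed field, X a complete variety over k (reduced and proper over k) of
dimension at most d, L_1, …, L_r line bundles with tensor inverses M_1, …, M_r, and F a coherent
O_X-module whose support has dimension at most r. Let Y_1, …, Y_s be the r-dimensional irreducible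
components of Supp F, with generic points ξ_1, …, ξ_s (given as a finite set s of points: ξ ∈ s iff
ξ ∈ Supp F and the closure of ξ has dimension r), each Y_i with its reduced structure. Then
(L_1⋯L_r; F) = Σ_i length_{O_{X,ξ_i}}(F_{ξ_i}) · (L_1⋯L_r · Y_i), where all intersection numbers are
the alternating Euler-characteristic sums in the M_i (the prelude's FGA.intNum). -/
theorem result (k : Type u) [Field k] [IsAlgClosed k]
    (X : Scheme.{u}) [X.Over (Spec (CommRingCat.of k))] [IsReduced X] [IsProper (X ↘ (Spec (CommRingCat.of k)))] (d : ℕ) (hd : topologicalKrullDim X ≤ d)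
    {r : ℕ} (M : Fin r → X.Modules) (hM : ∀ i, PicF.IsInvertible (M i))
    (F : X.Modules) (hF : Coh.IsCoh F) (hsupp : topologicalKrullDim ↥(CohB1.support F) ≤ r)
    (s : Finset X) (hs : ∀ ξ : X, ξ ∈ s ↔ ξ ∈ CohB1.support F ∧ topologicalKrullDim ↥(closure ({ξ} : Set X)) = r) :
    FGA.intNum k X d M F =
      ∑ ξ ∈ s, ((Module.length (X.presheaf.stalk ξ) (F.presheaf.stalk ξ)).toNat : ℤ) *
        FGA.intNum k X d M (ClSub.quotMod (Scheme.IdealSheafData.vanishingIdeal ⟨closure ({ξ} : Set X), isClosed_closure⟩)) := by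
  classical
  have hXN : IsNoetherian X := Groth.Agent.R2.H62.Snapper.isNoetherian_of_isProper k
  have hsm : Groth.Agent.R2.H62.Snapper.SmallSupp F (r + 1) :=
    Groth.Agent.R2.H62.Snapper.smallSupp_of_support F hF (r + 1)
      (Groth.Agent.R2.H62.Snapper.withBot_lt_succ_of_le hsupp)
  obtain ⟨h1, h2, h3⟩ := Groth.Agent.R2.H62.Snapper.snapper_comp k r M hM r F hF hsm
  have hz := Groth.Agent.R2.H62.Snapper.altI_eq_zero_of_isNumPolyLT h3
  rw [Groth.Agent.R2.H62.Snapper.altI_sub, sub_eq_zero] at hz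
  have hT : Groth.Agent.R2.H62.Snapper.topPts r F ⊆ ↑s := by
    rintro ξ ⟨hξ, hne⟩
    rw [Finset.mem_coe, hs]
    exact ⟨fun hsub => hne (Groth.Agent.R2.H62.Snapper.len_eq_zero_of_subsingleton F ξ hsub), hξ⟩
  have hcs : ∀ n, Groth.Agent.R2.H62.Snapper.compSum k r M r F n =
      ∑ ξ ∈ s, ((Groth.Agent.R2.H62.Snapper.len F ξ).toNat : ℤ) *
        Groth.Agent.R2.H62.Snapper.chiF k r M (Groth.Agent.R2.H62.Snapper.Zmod ξ) n := by
    intro n
    rw [Groth.Agent.R2.H62.Snapper.compSum_eq_sum k r M r F n s hT]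
    refine Finset.sum_congr rfl fun ξ hξ => ?_
    unfold Groth.Agent.R2.H62.Snapper.compTerm
    have hdp : Groth.Agent.R2.H62.Snapper.IsDPt r ξ := ((hs ξ).1 hξ).2
    rw [if_pos hdp]
  rw [Groth.Agent.R2.H62.Snapper.intNum_eq_altI k d hd, hz,
    Groth.Agent.R2.H62.Snapper.altI_congr hcs, Groth.Agent.R2.H62.Snapper.altI_sum_mul]
  refine Finset.sum_congr rfl fun ξ _ => ?_
  rw [Groth.Agent.R2.H62.Snapper.intNum_eq_altI k d hd]
  rfl

end Groth.Agent.S14521
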