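import Groth.Statements.S14608
import Groth.Agent.R2.H67LocFree
-- import your own Groth.Agent.* helpers here

set_option autoImplicit false
universe u v
open CAlg

namespace Groth.Agent.S14608

open TensorProduct Groth.Agent.R2.H67.LocFree

section aux

variable {A : Type u} [CommRing A] {M F : Type v} [AddCommGroup M] [Module A M]
  [AddCommGroup F] [Module A F] (δ : M →ₗ[A] F) (κ : Type*) [CommRing κ] [Algebra A κ]

lemma exact_ker_rangeRestrict :
    Function.Exact (LinearMap.ker δ).subtype δ.rangeRestrict := by
  rw [LinearMap.exact_iff, LinearMap.ker_rangeRestrict, Submodule.range_subtype]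

/-- exchange property (a) is equivalent to injectivity of `κ ⊗ im δ → κ ⊗ F`. -/
lemma exact_iff_injective :
    Function.Exact (LinearMap.lTensor κ (LinearMap.ker δ).subtype) (LinearMap.lTensor κ δ) ↔
      Function.Injective (LinearMap.lTensor κ (LinearMap.range δ).subtype) := by
  have hsurj : Function.Surjective δ.rangeRestrict := LinearMap.surjective_rangeRestrict δ
  have E1 : Function.Exact (LinearMap.lTensor κ (LinearMap.ker δ).subtype)
      (LinearMap.lTensor κ δ.rangeRestrict) := lTensor_exact κ (exact_ker_rangeRestrict δ) hsurj
  have S1 : Function.Surjective (LinearMap.lTensor κ δ.rangeRestrict) :=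
    LinearMap.lTensor_surjective κ hsurj
  have hcomp : ∀ y, LinearMap.lTensor κ δ y =
      LinearMap.lTensor κ (LinearMap.range δ).subtype (LinearMap.lTensor κ δ.rangeRestrict y) := by
    intro y
    rw [← LinearMap.comp_apply, ← LinearMap.lTensor_comp, LinearMap.subtype_comp_codRestrict]
  constructor
  · intro h
    rw [injective_iff_map_eq_zero]
    intro w hw
    obtain ⟨y, rfl⟩ := S1 w
    rw [← hcomp] at hw
    exact (E1 y).mpr ((h y).mp hw)
  · intro h y
    rw [hcomp, ← E1 y]
    constructor
    · intro hy
      exact h (by rw [hy, map_zero])
    · intro hy
      rw [hy, map_zero]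

end aux

open TensorProduct in
/-- Let A be a Noetherian ring, M a finitely generated A-module, F a finitely generated free A-module, δ
: M → F an A-linear map and p a prime of A with residue field κ(p). The following are equivalent:
(a) the natural map (ker δ) ⊗ κ(p) → ker(δ ⊗ κ(p)) is surjective (its image is the whole kernel);
(b) that map is bijective; (c) (F / im δ) localized at p is a free module over the local ring A_p.
Moreover, if these hold then (im δ) localized at p is free over A_p. (The published statement takes
M to be the cokernel of a map of finitely generated free modules; over a Noetherian ring this is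
every finitely generated M, which is what this row takes.) -/
theorem result (A : Type u) [CommRing A] [IsNoetherianRing A]
    (M : Type v) (F : Type v) [AddCommGroup M] [Module A M] [Module.Finite A M]
    [AddCommGroup F] [Module A F] [Module.Finite A F] [Module.Free A F]
    (δ : M →ₗ[A] F) (p : Ideal A) [p.IsPrime] :
    [ Function.Exact (LinearMap.lTensor p.ResidueField (LinearMap.ker δ).subtype)
        (LinearMap.lTensor p.ResidueField δ),
      Function.Exact (LinearMap.lTensor p.ResidueField (LinearMap.ker δ).subtype)
        (LinearMap.lTensor p.ResidueField δ) ∧
        Function.Injective (LinearMap.lTensor p.ResidueField (LinearMap.ker δ).subtype),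
      Module.Free (Localization.AtPrime p)
        (LocalizedModule p.primeCompl (F ⧸ LinearMap.range δ)) ].TFAE ∧
    (Function.Exact (LinearMap.lTensor p.ResidueField (LinearMap.ker δ).subtype)
        (LinearMap.lTensor p.ResidueField δ) →
      Module.Free (Localization.AtPrime p)
        (LocalizedModule p.primeCompl (LinearMap.range δ))) := by
  have hexI : Function.Exact (LinearMap.range δ).subtype (LinearMap.range δ).mkQ :=
    LinearMap.exact_subtype_mkQ _
  have hinjI : Function.Injective (LinearMap.range δ).subtype := Subtype.val_injective
  have hsurjQ : Function.Surjective (LinearMap.range δ).mkQ := Submodule.mkQ_surjective _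
  have h13 : Function.Exact (LinearMap.lTensor p.ResidueField (LinearMap.ker δ).subtype)
        (LinearMap.lTensor p.ResidueField δ) →
      Module.Free (Localization.AtPrime p)
        (LocalizedModule p.primeCompl (F ⧸ LinearMap.range δ)) := by
    intro h
    exact free_localizedModule_of_lTensor_residueField_injective p _ _ hsurjQ hexI
      ((exact_iff_injective δ p.ResidueField).mp h)
  have hproj : Module.Free (Localization.AtPrime p)
        (LocalizedModule p.primeCompl (F ⧸ LinearMap.range δ)) →
      Module.Projective (Localization.AtPrime p)
        (Localization.AtPrime p ⊗[A] (F ⧸ LinearMap.range δ)) := by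
    intro h
    have : Module.Free (Localization.AtPrime p)
        (Localization.AtPrime p ⊗[A] (F ⧸ LinearMap.range δ)) :=
      Module.Free.of_equiv (locEquiv p (F ⧸ LinearMap.range δ)).symm
    infer_instance
  refine ⟨?_, ?_⟩
  · tfae_have 1 → 3 := h13
    tfae_have 2 → 1 := fun h => h.1
    tfae_have 3 → 2 := by
      intro h
      have := hproj h
      have hI : Function.Injective (LinearMap.lTensor p.ResidueField (LinearMap.range δ).subtype) :=
        lTensor_residueField_injective_of_projective p _ _ hinjI hsurjQ hexI
      refine ⟨(exact_iff_injective δ p.ResidueField).mpr hI, ?_⟩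
      have hfreeI : Module.Free (Localization.AtPrime p)
          (Localization.AtPrime p ⊗[A] (LinearMap.range δ)) :=
        free_baseChange_of_projective_quotient p _ _ hinjI hsurjQ hexI
      exact lTensor_residueField_injective_of_projective p (LinearMap.ker δ).subtype
        δ.rangeRestrict Subtype.val_injective (LinearMap.surjective_rangeRestrict δ)
        (exact_ker_rangeRestrict δ)
    tfae_finish
  · intro h
    have := hproj (h13 h)
    have hfreeI : Module.Free (Localization.AtPrime p)
        (Localization.AtPrime p ⊗[A] (LinearMap.range δ)) :=
      free_baseChange_of_projective_quotient p _ _ hinjI hsurjQ hexI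
    exact Module.Free.of_equiv (locEquiv p (LinearMap.range δ))

end Groth.Agent.S14608
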