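import Groth.Statements.S14611
import Groth.Statements.S14611
import Groth.Agent.R2.H67LocFree
-- import your own Groth.Agent.* helpers here

set_option autoImplicit false
universe u
open FlatCx

namespace Groth.Agent.S14611

open CategoryTheory CategoryTheory.Limits in
/-- exactness of a complex of modules at a degree, in terms of the underlying linear maps. -/
lemma function_exact_of_isZero_homology {A : Type u} [CommRing A]
    (K : CochainComplex (ModuleCat.{u} A) ℤ) (i j k : ℤ) (hij : i + 1 = j) (hjk : j + 1 = k)
    (h : IsZero (K.homology j)) : Function.Exact (K.d i j).hom (K.d j k).hom := by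
  have h1 : K.ExactAt j := (HomologicalComplex.exactAt_iff_isZero_homology K j).mpr h
  rw [HomologicalComplex.exactAt_iff' K i j k ((ComplexShape.up ℤ).prev_eq' hij)
    ((ComplexShape.up ℤ).next_eq' hjk)] at h1
  exact (ShortComplex.ShortExact.moduleCat_exact_iff_function_exact _).mp h1

open CategoryTheory CategoryTheory.Limits in
/-- Let A be a Noetherian ring, Q a cochain complex whose terms are finitely generated projective
A-modules, and d an integer such that H^p(Q) = 0 for every p < d and H^p(Q ⊗_A A/m) = 0 for every p
< d and every maximal ideal m of A. Then Q^d / im(Q^{d-1} → Q^d), the degree-d term of the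
truncation τ_{≥ d} Q, is a projective A-module, so that τ_{≥ d} Q is again a complex of projective
modules. (The published statement also asserts that Q → τ_{≥ d} Q is a quasi-isomorphism when H^p(Q)
= 0 for p < d; this row omits that clause.) -/
theorem result (A : Type u) [CommRing A] [IsNoetherianRing A]
    (Q : CochainComplex (ModuleCat.{u} A) ℤ)
    (hQ : ∀ i, Module.Finite A (Q.X i) ∧ Module.Projective A (Q.X i)) (d : ℤ)
    (h1 : ∀ p < d, IsZero (Q.homology p))
    (h2 : ∀ (m : Ideal A) [m.IsMaximal], ∀ p < d,
      IsZero ((CohIII.tensorObj Q (ModuleCat.of A (A ⧸ m))).homology p)) :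
    Module.Projective A (Q.opcycles d) := by
  have hd1 : (d - 2) + 1 = d - 1 := by ring
  have hd2 : (d - 1) + 1 = d := by ring
  have := (hQ (d - 1)).1
  have := (hQ d).1
  have := (hQ d).2
  have hef : Function.Exact (Q.d (d - 2) (d - 1)).hom (Q.d (d - 1) d).hom :=
    function_exact_of_isZero_homology Q _ _ _ hd1 hd2 (h1 (d - 1) (by omega))
  have hcok : (ShortComplex.mk (Q.d (d - 1) d) (Q.pOpcycles d) (Q.d_pOpcycles _ _)).Exact :=
    ShortComplex.exact_of_g_is_cokernel _
      (Q.opcyclesIsCokernel (d - 1) d ((ComplexShape.up ℤ).prev_eq' hd2))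
  have hfg : Function.Exact (Q.d (d - 1) d).hom (Q.pOpcycles d).hom :=
    (ShortComplex.ShortExact.moduleCat_exact_iff_function_exact _).mp hcok
  have hg : Function.Surjective (Q.pOpcycles d).hom :=
    (ModuleCat.epi_iff_surjective _).mp inferInstance
  refine Groth.Agent.R2.H67.LocFree.projective_of_forall_maximal_rTensor_exact
    (Q.d (d - 2) (d - 1)).hom (Q.d (d - 1) d).hom (Q.pOpcycles d).hom hef hfg hg ?_
  intro m hm
  exact function_exact_of_isZero_homology (CohIII.tensorObj Q (ModuleCat.of A (A ⧸ m)))
    _ _ _ hd1 hd2 (h2 m (d - 1) (by omega))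

end Groth.Agent.S14611
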