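import Groth.Statements.S14624
import Groth.Statements.S14624
import Groth.Agent.Lib.Helper14IndFG
import Groth.Agent.R2.H67QuotColim
-- import your own Groth.Agent.* helpers here

set_option autoImplicit false
open CategoryTheory CategoryTheory.Limits
universe u
open Hensel

namespace Groth.Agent.S14624

open Groth.Agent.Lib.Helper14.WEField Groth.Agent.R2.H67.QuotColim

/-- elements of the value of a functor preserving a filtered colimit come from a stage -/
lemma exists_stage {C : Type (u + 1)} [Category.{u} C] {J : Type u} [SmallCategory J]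
    (F : C ⥤ Type u) [PreservesColimitsOfShape J F] {D : J ⥤ C} {c : Cocone D} (hc : IsColimit c)
    (ξ : F.obj c.pt) : ∃ (j : J) (x : F.obj (D.obj j)), F.map (c.ι.app j) x = ξ :=
  Types.jointly_surjective_of_isColimit (isColimitOfPreserves F hc) ξ

/-- Let A be a commutative ring, m a proper ideal of A and Â the m-adic completion. Assume the
approximation property for polynomial systems: whenever finitely many polynomials over A in finitely
many variables have a common zero â in Â, then for every c there is a common zero a in A which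
agrees with â in A/m^c. Let F be a functor from A-algebras (commutative rings under A) to sets which
preserves filtered colimits, c a natural number and ξ ∈ F(Â). Then there is η ∈ F(A) whose image in
F(A/m^c) equals the image of ξ; here π is the A-algebra map Â → A/m^c (pinned by its underlying ring
map) and ρ the A-algebra map A → A/m^c. (The published statement takes for A the henselization at a
prime ideal of an algebra of finite type over a field or over an excellent discrete valuation ring,
for which the approximation property of polynomial systems is quoted; this row carries that property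
as a hypothesis and draws the published conclusion for functors.) -/
theorem result (A : Type u) [CommRing A]
    (m : Ideal A) (hm : m ≠ ⊤)
    (hAP : ∀ (k l c : ℕ) (f : Fin l → MvPolynomial (Fin k) A) (â : Fin k → AdicCompletion m A),
      (∀ i, MvPolynomial.aeval â (f i) = 0) →
      ∃ a : Fin k → A, (∀ i, MvPolynomial.eval a (f i) = 0) ∧
        ∀ j, Ideal.Quotient.mk (m ^ c) (a j) = AdicCompletion.evalₐ m c (â j))
    (F : Under (CommRingCat.of A) ⥤ Type u)
    (hF : ∀ (J : Type u) [SmallCategory J] [IsFiltered J], PreservesColimitsOfShape J F)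
    (c : ℕ)
    (π : Under.mk (CommRingCat.ofHom (algebraMap A (AdicCompletion m A))) ⟶
      Under.mk (CommRingCat.ofHom (algebraMap A (A ⧸ m ^ c))))
    (hπ : π.right = CommRingCat.ofHom
      (AdicCompletion.evalₐ m c : AdicCompletion m A →ₐ[A] A ⧸ m ^ c).toRingHom)
    (ρ : Under.mk (𝟙 (CommRingCat.of A)) ⟶ Under.mk (CommRingCat.ofHom (algebraMap A (A ⧸ m ^ c))))
    (ξ : F.obj (Under.mk (CommRingCat.ofHom (algebraMap A (AdicCompletion m A))))) :
    ∃ η : F.obj (Under.mk (𝟙 (CommRingCat.of A))), F.map ρ η = F.map π ξ := by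
  classical
  -- Step 1: ξ comes from a finitely generated subalgebra `S` of the completion.
  have := hF (FGSub A (AdicCompletion m A))
  obtain ⟨⟨S, hS⟩, ξS, hξS⟩ := exists_stage F (fgIsColimit A (AdicCompletion m A)) ξ
  have hft : Algebra.FiniteType A S := (Subalgebra.fg_iff_finiteType S).mp hS
  obtain ⟨k, g, hg⟩ := Algebra.FiniteType.iff_quotient_mvPolynomial''.mp hft
  let I : Ideal (MvPolynomial (Fin k) A) := RingHom.ker g.toRingHom
  let e : (MvPolynomial (Fin k) A ⧸ I) ≃ₐ[A] S := Ideal.quotientKerAlgEquivOfSurjective hg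
  let eU : Under.mk (CommRingCat.ofHom (algebraMap A (MvPolynomial (Fin k) A ⧸ I))) ⟶
      Under.mk (CommRingCat.ofHom (algebraMap A S)) :=
    Under.homMk (CommRingCat.ofHom e.toAlgHom.toRingHom) (by ext r; exact e.commutes r)
  let eUinv : Under.mk (CommRingCat.ofHom (algebraMap A S)) ⟶
      Under.mk (CommRingCat.ofHom (algebraMap A (MvPolynomial (Fin k) A ⧸ I))) :=
    Under.homMk (CommRingCat.ofHom e.symm.toAlgHom.toRingHom) (by ext r; exact e.symm.commutes r)
  have heU : eUinv ≫ eU = 𝟙 _ := by
    ext x
    exact e.apply_symm_apply x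
  -- Step 2: it comes from a finitely presented algebra.
  have := hF (FGIdeal (MvPolynomial (Fin k) A) I)
  obtain ⟨⟨I', hI'fg, hI'le⟩, ξ'', hξ''⟩ :=
    exists_stage F (fgIdealIsColimit A (MvPolynomial (Fin k) A) I) (F.map eUinv ξS)
  let φU : Under.mk (CommRingCat.ofHom (algebraMap A (MvPolynomial (Fin k) A ⧸ I'))) ⟶
      Under.mk (CommRingCat.ofHom (algebraMap A (AdicCompletion m A))) :=
    (fgIdealCocone A (MvPolynomial (Fin k) A) I).ι.app ⟨I', hI'fg, hI'le⟩ ≫ eU ≫
      (fgCocone A (AdicCompletion m A)).ι.app ⟨S, hS⟩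
  have hφξ : F.map φU ξ'' = ξ := by
    have h2 : F.map eU (F.map eUinv ξS) = ξS := by
      rw [← Functor.map_comp_apply, heU, Functor.map_id_apply]
    have h1 : F.map φU ξ'' = F.map ((fgCocone A (AdicCompletion m A)).ι.app ⟨S, hS⟩)
        (F.map eU (F.map ((fgIdealCocone A (MvPolynomial (Fin k) A) I).ι.app
          ⟨I', hI'fg, hI'le⟩) ξ'')) := by
      show F.map ((fgIdealCocone A (MvPolynomial (Fin k) A) I).ι.app ⟨I', hI'fg, hI'le⟩ ≫ eU ≫
        (fgCocone A (AdicCompletion m A)).ι.app ⟨S, hS⟩) ξ'' = _
      rw [Functor.map_comp_apply, Functor.map_comp_apply]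
      rfl
    exact h1.trans ((congrArg (fun z => F.map ((fgCocone A (AdicCompletion m A)).ι.app ⟨S, hS⟩)
      (F.map eU z)) hξ'').trans
        ((congrArg (F.map ((fgCocone A (AdicCompletion m A)).ι.app ⟨S, hS⟩)) h2).trans hξS))
  obtain ⟨l, f, hf⟩ := Submodule.fg_iff_exists_fin_generating_family.mp hI'fg
  let φ : MvPolynomial (Fin k) A ⧸ I' →+* AdicCompletion m A := φU.right.hom
  have hφA : ∀ r : A, φ (algebraMap A _ r) = algebraMap A (AdicCompletion m A) r := by
    intro r
    have := congr($(Under.w φU).hom r)
    exact this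
  let â : Fin k → AdicCompletion m A := fun j => φ (Ideal.Quotient.mk I' (MvPolynomial.X j))
  let Φ : MvPolynomial (Fin k) A →ₐ[A] AdicCompletion m A :=
    { φ.comp (Ideal.Quotient.mk I') with
      commutes' := fun r => hφA r }
  have hΦ : MvPolynomial.aeval â = Φ := by
    apply MvPolynomial.algHom_ext
    intro j
    simp only [MvPolynomial.aeval_X]
    rfl
  have hzero : ∀ i, MvPolynomial.aeval â (f i) = 0 := by
    intro i
    rw [hΦ]
    have hmem : f i ∈ I' := by
      rw [← hf]
      exact Submodule.subset_span ⟨i, rfl⟩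
    have h0 : Ideal.Quotient.mk I' (f i) = 0 := Ideal.Quotient.eq_zero_iff_mem.mpr hmem
    show φ (Ideal.Quotient.mk I' (f i)) = 0
    rw [h0, map_zero]
  obtain ⟨a, ha0, hac⟩ := hAP k l c f â hzero
  let ψ : MvPolynomial (Fin k) A ⧸ I' →+* A := Ideal.Quotient.lift I' (MvPolynomial.eval a) (by
    intro x hx
    rw [← hf] at hx
    refine Submodule.span_induction (p := fun x _ => MvPolynomial.eval a x = 0) ?_ ?_ ?_ ?_ hx
    · rintro _ ⟨i, rfl⟩
      exact ha0 i
    · exact map_zero _
    · intro x y _ _ hx hy
      rw [map_add, hx, hy, add_zero]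
    · intro r x _ hx
      rw [smul_eq_mul, map_mul, hx, mul_zero])
  let ψU : Under.mk (CommRingCat.ofHom (algebraMap A (MvPolynomial (Fin k) A ⧸ I'))) ⟶
      Under.mk (𝟙 (CommRingCat.of A)) :=
    Under.homMk (CommRingCat.ofHom ψ) (by
      ext r
      show ψ (Ideal.Quotient.mk I' (MvPolynomial.C r)) = r
      simp [ψ])
  have key : ψU ≫ ρ = φU ≫ π := by
    apply Under.UnderMorphism.ext
    apply CommRingCat.hom_ext
    apply Ideal.Quotient.ringHom_ext
    apply MvPolynomial.ringHom_ext
    · intro r
      have h1 := congr($(Under.w (ψU ≫ ρ)).hom r)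
      have h2 := congr($(Under.w (φU ≫ π)).hom r)
      exact h1.trans h2.symm
    · intro j
      have h1 : ρ.right.hom (a j) = Ideal.Quotient.mk (m ^ c) (a j) := by
        have := congr($(Under.w ρ).hom (a j))
        exact this
      have h2 : π.right.hom (â j) = AdicCompletion.evalₐ m c (â j) := by
        rw [hπ]
        rfl
      have h3 : ψ (Ideal.Quotient.mk I' (MvPolynomial.X j)) = a j := by
        simp [ψ]
      show ρ.right.hom (ψ (Ideal.Quotient.mk I' (MvPolynomial.X j))) = π.right.hom (â j)
      rw [h3, h1, h2]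
      exact hac j
  refine ⟨F.map ψU ξ'', ?_⟩
  rw [← hφξ, ← Functor.map_comp_apply, ← Functor.map_comp_apply, key]

end Groth.Agent.S14624
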