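import Groth.Statements.S14626
import Mathlib
import Groth.Agent.R2.H67CechPush

set_option autoImplicit false
set_option linter.style.haveILetI false
open CategoryTheory CategoryTheory.Limits AlgebraicGeometry
universe u
open EtBase

namespace Groth.Agent.S14626

open Groth.Agent.R2.H67.CechPush

/-- For the direct image along a morphism of schemes on small étale sites; take a morphism of schemes f
: X → Y and an abelian étale sheaf F on X which is flasque in the Čech sense, i.e. for every étale U
over X and every jointly surjective family of étale U-schemes the Čech cohomology groups of F in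
positive degrees vanish. Then the direct image f_*F is flasque in the same sense on Y. The finite
products of the over categories (the fibre products entering the Čech complexes) are carried as
instance hypotheses. -/
theorem result {X Y : Scheme.{u}} (f : X ⟶ Y)
    [∀ U : X.Etale, HasFiniteProducts (Over U)] [∀ V : Y.Etale, HasFiniteProducts (Over V)]
    (F : EtCoh.Ab X)
    (hF : ∀ (U : X.Etale) (ι : Type (u + 1)) (Uf : ι → Over U),
      (∀ x : ↥(U.left), ∃ (i : ι) (y : ↥((Uf i).left.left)), (Uf i).hom.left.base y = x) →
      ∀ p : ℕ, 0 < p → IsZero (EtCech.cechH Uf F.obj p))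
    (V : Y.Etale) (ι : Type (u + 1)) (Vf : ι → Over V)
    (hV : ∀ x : ↥(V.left), ∃ (i : ι) (y : ↥((Vf i).left.left)), (Vf i).hom.left.base y = x)
    (p : ℕ) (hp : 0 < p) :
    IsZero (EtCech.cechH Vf ((EtCoh.push f).obj F).obj p) := by
  haveI : PreservesFiniteProducts (Over.post (X := V) (EtCoh.bc f)) := inferInstance
  have hcov : ∀ x : ↥(((EtCoh.bc f).obj V).left),
      ∃ (i : ι) (y : ↥((uY (EtCoh.bc f) Vf i).left.left)),
        (uY (EtCoh.bc f) Vf i).hom.left.base y = x := by
    intro x'
    obtain ⟨i, v, hv⟩ := hV ((pullback.fst V.hom f : ((EtCoh.bc f).obj V).left ⟶ V.left) x')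
    have sq := EtCoh.isPullback_bc_map f (Vf i).hom
    obtain ⟨z, hz1, -⟩ := Scheme.Pullback.exists_preimage_pullback
      (f := (pullback.fst V.hom f : ((EtCoh.bc f).obj V).left ⟶ V.left)) (g := (Vf i).hom.left)
      x' v hv.symm
    refine ⟨i, sq.isoPullback.inv z, ?_⟩
    rw [← hz1]
    have := congrArg (fun m => m.base z) (IsPullback.isoPullback_inv_fst sq)
    exact this
  have h := hF ((EtCoh.bc f).obj V) ι (uY (EtCoh.bc f) Vf) hcov p hp
  exact isZero_cechH_push (EtCoh.bc f) Vf F.obj p h

end Groth.Agent.S14626
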