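import Groth.Statements.S14628
import Mathlib
import Groth.Agent.R2.H67CechSurj
import Groth.Agent.Lib.Helper16SmallEtale

set_option autoImplicit false
set_option linter.style.haveILetI false
open CategoryTheory CategoryTheory.Limits AlgebraicGeometry
universe u
open EtBase

namespace Groth.Agent.S14628

open Groth.Agent.R2.H67.CechSurj Groth.Agent.Lib.Helper9.CechDelta Opposite
  Groth.Agent.Lib.Helper16.SmallEtale

/-- sheaf condition for a covering family, in `Type`-valued form. -/
lemma isSheafFor_of_cover {X : Scheme.{u}} (F : EtCoh.Ab X) {V : X.Etale} {ι : Type (u + 1)}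
    (Y : ι → Over V)
    (hY : Sieve.ofArrows (fun k => (Y k).left) (fun k => (Y k).hom) ∈ X.smallEtaleTopology V) :
    Presieve.IsSheafFor (F.obj ⋙ forget AddCommGrpCat.{u + 1})
      (Presieve.ofArrows (fun k => (Y k).left) (fun k => (Y k).hom)) := by
  have hP := F.property
  rw [Presheaf.isSheaf_iff_isSheaf_forget _ F.obj (forget _), isSheaf_iff_isSheaf_of_type] at hP
  rw [Presieve.isSheafFor_iff_generate]
  exact hP _ hY

/-- the underlying sequence of presheaves of a short exact sequence of sheaves is short exact as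
soon as `Ȟ¹` of the kernel vanishes for all covering families. -/
theorem presheaf_shortExact {X : Scheme.{u}}
    [∀ U : X.Etale, HasFiniteProducts (Over U)] (S : ShortComplex (EtCoh.Ab X)) (hS : S.ShortExact)
    (h1 : (∀ (U : X.Etale) (ι : Type (u + 1)) (Uf : ι → Over U),
      (∀ x : ↥(U.left), ∃ (i : ι) (y : ↥((Uf i).left.left)), (Uf i).hom.left.base y = x) →
      IsZero (EtCech.cechH Uf S.X₁.obj 1))) :
    (S.map (sheafToPresheaf X.smallEtaleTopology AddCommGrpCat.{u + 1})).ShortExact := by
  set Φ := sheafToPresheaf X.smallEtaleTopology AddCommGrpCat.{u + 1} with hΦ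
  haveI := hS.mono_f
  haveI := hS.epi_g
  have hexact : (S.map Φ).Exact := hS.exact.map_of_mono_of_preservesKernel Φ inferInstance inferInstance
  have hmono : Mono (S.map Φ).f := by
    change Mono (Φ.map S.f)
    infer_instance
  -- objectwise statements
  have hev : ∀ V : X.Etaleᵒᵖ, ((S.map Φ).map ((evaluation _ _).obj V)).Exact := fun V =>
    hexact.map _
  have hfinj : ∀ V : X.Etaleᵒᵖ, Function.Injective (S.f.hom.app V).hom := by
    intro V
    have : Mono ((S.map Φ).f.app V) := inferInstance
    exact (AddCommGrpCat.mono_iff_injective _).1 this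
  have hex : ∀ (V : X.Etaleᵒᵖ) (x : S.X₂.obj.obj V), (S.g.hom.app V).hom x = 0 →
      ∃ y, (S.f.hom.app V).hom y = x := by
    intro V x hx
    exact (ShortComplex.ab_exact_iff _).1 (hev V) x hx
  have hfg : ∀ (V : X.Etaleᵒᵖ) (y : S.X₁.obj.obj V),
      (S.g.hom.app V).hom ((S.f.hom.app V).hom y) = 0 := by
    intro V y
    have h := congrArg (fun m => (m.hom.app V).hom y) S.zero
    exact h
  refine ShortComplex.ShortExact.mk' hexact hmono ?_
  -- surjectivity
  have hsurj : ∀ V : X.Etaleᵒᵖ, Function.Surjective (S.g.hom.app V).hom := by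
    intro V
    induction V using Opposite.rec with | _ V => ?_
    intro t
    have hls : Sheaf.IsLocallySurjective S.g := (Sheaf.isLocallySurjective_iff_epi' (φ := S.g)).2 inferInstance
    have hcovS : Presheaf.imageSieve S.g.hom t ∈ X.smallEtaleTopology V :=
      Presheaf.imageSieve_mem _ S.g.hom t
    let ι : Type (u + 1) := Σ W : X.Etale, {g : W ⟶ V // Presheaf.imageSieve S.g.hom t g}
    let Y : ι → Over V := fun i => Over.mk i.2.1
    have hY : Sieve.ofArrows (fun k => (Y k).left) (fun k => (Y k).hom) ∈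
        X.smallEtaleTopology V := by
      refine X.smallEtaleTopology.superset_covering ?_ hcovS
      intro W g hg
      exact Sieve.ofArrows_mk (fun k => (Y k).left) (fun k => (Y k).hom) (⟨W, g, hg⟩ : ι)
    have hcov : ∀ x : ↥(V.left), ∃ (i : ι) (y : ↥((Y i).left.left)),
        (Y i).hom.left.base y = x := by
      intro x
      obtain ⟨W, g, y, hg, hy⟩ := (mem_smallEtale_iff V _).1 hcovS x
      exact ⟨⟨W, g, hg⟩, y, hy⟩
    have hs : ∀ k : ι, ∃ s : S.X₂.obj.obj (op (Y k).left),
        (S.g.hom.app _).hom s = (S.X₃.obj.map (Y k).hom.op).hom t := fun k => k.2.2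
    choose s hs using hs
    exact exists_lift Y S.f.hom S.g.hom hfinj hex hfg
      (sep_of_isSheafFor Y S.X₃.obj (isSheafFor_of_cover S.X₃ Y hY))
      (glue_of_isSheafFor Y S.X₂.obj (isSheafFor_of_cover S.X₂ Y hY))
      (h1 V ι Y hcov) t s hs
  change Epi (Φ.map S.g)
  have : ∀ V : X.Etaleᵒᵖ, Epi ((Φ.map S.g).app V) := fun V =>
    (AddCommGrpCat.epi_iff_surjective _).2 (hsurj V)
  exact NatTrans.epi_of_epi_app _

/-- On the small étale site of a scheme, let 0 → F' → F → F'' → 0 be a short exact sequence of abelian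
étale sheaves on a scheme X. If F' and F are flasque in the Čech sense (for every étale U over X and
every jointly surjective family of étale U-schemes, Čech cohomology in positive degrees vanishes),
then so is F''. The finite products of the over categories (the fibre products entering the Čech
complexes) are carried as instance hypotheses. -/
theorem result {X : Scheme.{u}}
    [∀ U : X.Etale, HasFiniteProducts (Over U)] (S : ShortComplex (EtCoh.Ab X)) (hS : S.ShortExact)
    (h1 : (∀ (U : X.Etale) (ι : Type (u + 1)) (Uf : ι → Over U),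
      (∀ x : ↥(U.left), ∃ (i : ι) (y : ↥((Uf i).left.left)), (Uf i).hom.left.base y = x) →
      ∀ p : ℕ, 0 < p → IsZero (EtCech.cechH Uf S.X₁.obj p)))
    (h2 : (∀ (U : X.Etale) (ι : Type (u + 1)) (Uf : ι → Over U),
      (∀ x : ↥(U.left), ∃ (i : ι) (y : ↥((Uf i).left.left)), (Uf i).hom.left.base y = x) →
      ∀ p : ℕ, 0 < p → IsZero (EtCech.cechH Uf S.X₂.obj p)))
    (U : X.Etale) (ι : Type (u + 1)) (Uf : ι → Over U)
    (hU : ∀ x : ↥(U.left), ∃ (i : ι) (y : ↥((Uf i).left.left)), (Uf i).hom.left.base y = x)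
    (p : ℕ) (hp : 0 < p) :
    IsZero (EtCech.cechH Uf S.X₃.obj p) := by
  have hS' := presheaf_shortExact S hS (fun V κ Vf hV => h1 V κ Vf hV 1 Nat.one_pos)
  have hG := shortExact_G Uf _ hS'
  have hex := hG.homology_exact₃ p (p + 1) rfl
  have hz2 : IsZero (EtCech.cechH Uf S.X₂.obj p) := h2 U ι Uf hU p hp
  have hz1 : IsZero (EtCech.cechH Uf S.X₁.obj (p + 1)) := h1 U ι Uf hU (p + 1) (Nat.succ_pos p)
  exact hex.isZero_X₂ (hz2.eq_of_src _ _) (hz1.eq_of_tgt _ _)

end Groth.Agent.S14628
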