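import Groth.Statements.S14633
import Mathlib
import Groth.Agent.Lib.Helper12Act
import Groth.Agent.Lib.Helper12GeomConn
import Groth.Agent.Lib.Helper12Reduced
import Groth.Agent.R2.H67ConnAlg
import Groth.Agent.R2.H67ConnSch

set_option autoImplicit false
set_option linter.style.haveILetI false
universe u
open CategoryTheory MonoidalCategory CartesianMonoidalCategory MonObj GrpObj AlgebraicGeometry CategoryTheory.Limits
open AlgGrp

namespace Groth.Agent.S14633

open Groth.Agent.Lib.Helper12

/-- the local statement: over the open point `U = {z}` of `Z`. -/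
theorem local_eq {k : Type u} [Field k] {P Z : Scheme.{u}} (hP : P ⟶ Spec (CommRingCat.of k))
    (hZ : Z ⟶ Spec (CommRingCat.of k)) [LocallyOfFiniteType hZ]
    [IsReduced Z] [DiscreteTopology Z] [IsReduced P]
    (actL sndL : P ⟶ Z) (hact : actL ≫ hZ = hP) (hsnd : sndL ≫ hZ = hP)
    [GeometricallyConnected sndL] (sec : Z ⟶ P) (hsec1 : sec ≫ actL = 𝟙 Z) (hsec2 : sec ≫ sndL = 𝟙 Z)
    (z : Z) :
    (sndL ⁻¹ᵁ (⟨{z}, isOpen_discrete _⟩ : Z.Opens)).ι ≫ actL =
      (sndL ⁻¹ᵁ (⟨{z}, isOpen_discrete _⟩ : Z.Opens)).ι ≫ sndL := by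
  set U : Z.Opens := ⟨{z}, isOpen_discrete _⟩ with hU
  set W : P.Opens := sndL ⁻¹ᵁ U with hW
  haveI : Subsingleton U := by
    constructor
    rintro ⟨x, hx⟩ ⟨y, hy⟩
    exact Subtype.ext ((Set.mem_singleton_iff.mp hx).trans (Set.mem_singleton_iff.mp hy).symm)
  haveI : Nonempty U := ⟨⟨z, rfl⟩⟩
  haveI : IsReduced U.toScheme := isReduced_of_isOpenImmersion U.ι
  haveI : IsReduced W.toScheme := isReduced_of_isOpenImmersion W.ι
  haveI : ConnectedSpace W := by
    have := sndL.isConnected_preimage_singleton z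
    exact isConnected_iff_connectedSpace.mp this
  -- the section restricted to U
  let s' : U.toScheme ⟶ P := U.ι ≫ sec
  have hs'1 : s' ≫ actL = U.ι := by
    simp only [s', Category.assoc, hsec1, Category.comp_id]
  have hs'2 : s' ≫ sndL = U.ι := by
    simp only [s', Category.assoc, hsec2, Category.comp_id]
  have hs'range : Set.range s'.base ⊆ Set.range W.ι.base := by
    rintro _ ⟨u, rfl⟩
    rw [Scheme.Opens.range_ι]
    show sndL (s' u) ∈ U
    have h1 : sndL (s' u) = (s' ≫ sndL) u := rfl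
    rw [h1, hs'2]
    exact u.2
  let s : U.toScheme ⟶ W.toScheme := IsOpenImmersion.lift W.ι s' hs'range
  have hs : s ≫ W.ι = s' := IsOpenImmersion.lift_fac _ _ _
  -- f₂
  let f₂ : W.toScheme ⟶ U.toScheme := sndL ∣_ U
  have hf₂ : f₂ ≫ U.ι = W.ι ≫ sndL := morphismRestrict_ι _ _
  -- f₁
  have hrange : Set.range (W.ι ≫ actL).base ⊆ Set.range U.ι.base := by
    rw [Scheme.Opens.range_ι]
    rintro _ ⟨w, rfl⟩
    have hpre : _root_.IsPreconnected (Set.range (W.ι ≫ actL).base) :=
      isPreconnected_range (W.ι ≫ actL).continuous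
    have hsub := hpre.subsingleton
    have hz : z ∈ Set.range (W.ι ≫ actL).base := by
      refine ⟨s ⟨z, rfl⟩, ?_⟩
      have h1 : (W.ι ≫ actL) (s ⟨z, rfl⟩) = (s ≫ W.ι ≫ actL) ⟨z, rfl⟩ := rfl
      rw [h1, ← Category.assoc, hs, hs'1]
      rfl
    have := hsub ⟨w, rfl⟩ hz
    rw [this]
    rfl
  let f₁ : W.toScheme ⟶ U.toScheme := IsOpenImmersion.lift U.ι (W.ι ≫ actL) hrange
  have hf₁ : f₁ ≫ U.ι = W.ι ≫ actL := IsOpenImmersion.lift_fac _ _ _
  have hsf₁ : s ≫ f₁ = 𝟙 _ := by
    rw [← cancel_mono U.ι, Category.assoc, hf₁, ← Category.assoc, hs, hs'1, Category.id_comp]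
  have hsf₂ : s ≫ f₂ = 𝟙 _ := by
    rw [← cancel_mono U.ι, Category.assoc, hf₂, ← Category.assoc, hs, hs'2, Category.id_comp]
  suffices h : f₁ = f₂ by rw [← hf₁, ← hf₂, h]
  haveI : IsAffine U.toScheme := inferInstance
  apply ext_of_isAffine
  -- ring level
  haveI : IsIntegral U.toScheme := (isIntegral_iff_irreducibleSpace_and_isReduced _).mpr
    ⟨⟨inferInstance⟩, inferInstance⟩
  letI : Field Γ(U.toScheme, ⊤) := (isField_of_isIntegral_of_subsingleton U.toScheme).toField
  let c : k →+* Γ(U.toScheme, ⊤) :=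
    ((U.ι ≫ hZ).appTop.hom).comp (Scheme.ΓSpecIso (CommRingCat.of k)).inv.hom
  letI : Algebra k Γ(U.toScheme, ⊤) := c.toAlgebra
  have hft : RingHom.FiniteType (U.ι ≫ hZ).appTop.hom :=
    (HasRingHomProperty.iff_of_isAffine (P := @LocallyOfFiniteType)).mp inferInstance
  have hft' : RingHom.FiniteType c := by
    refine hft.comp (RingHom.FiniteType.of_surjective _ ?_)
    exact (ConcreteCategory.bijective_of_isIso (Scheme.ΓSpecIso (CommRingCat.of k)).inv).2
  haveI : Algebra.FiniteType k Γ(U.toScheme, ⊤) := hft'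
  haveI : Module.Finite k Γ(U.toScheme, ⊤) := finite_of_finite_type_of_isJacobsonRing k _
  haveI : Algebra.IsAlgebraic k Γ(U.toScheme, ⊤) := Algebra.IsAlgebraic.of_finite k _
  have hk : f₁.appTop.hom.comp (algebraMap k Γ(U.toScheme, ⊤)) =
      f₂.appTop.hom.comp (algebraMap k Γ(U.toScheme, ⊤)) := by
    have e1 : f₁ ≫ U.ι ≫ hZ = f₂ ≫ U.ι ≫ hZ := by
      rw [← Category.assoc, hf₁, ← Category.assoc f₂, hf₂, Category.assoc, Category.assoc, hact,
        hsnd]
    have e2 := congrArg (fun m => (Scheme.Hom.appTop m).hom) e1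
    simp only [Scheme.Hom.comp_appTop, CommRingCat.hom_comp] at e2
    show f₁.appTop.hom.comp c = f₂.appTop.hom.comp c
    simp only [c, Scheme.Hom.comp_appTop, CommRingCat.hom_comp, ← RingHom.comp_assoc]
    simp only [← RingHom.comp_assoc] at e2
    rw [e2]
  have key := Groth.Agent.R2.H67.ConnAlg.ringHom_eq_of_retraction (k := k)
    (fun e he => Groth.Agent.R2.H67.ConnSch.eq_zero_or_one_of_idempotent e he)
    f₁.appTop.hom f₂.appTop.hom hk s.appTop.hom
    (fun b => by
      have := congrArg (fun m => (Scheme.Hom.appTop m).hom b) hsf₁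
      simpa using this)
    (fun b => by
      have := congrArg (fun m => (Scheme.Hom.appTop m).hom b) hsf₂
      simpa using this)
  exact CommRingCat.hom_ext key

/-- Over a field k, let G be a smooth connected k-group scheme of finite type and let Z be a reduced
k-scheme of finite type of dimension at most 0 (for Z empty the conclusion is immediate). Then every
action of G on Z is trivial: the action morphism G × Z → Z is the second projection. -/
theorem result (k : Type u) [Field k]
    (G Z : Over (Spec (CommRingCat.of k))) [GrpObj G] [Smooth G.hom] [QuasiCompact G.hom] [ConnectedSpace ↥G.left]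
    [LocallyOfFiniteType Z.hom] [QuasiCompact Z.hom] [IsReduced Z.left] (hdim : topologicalKrullDim ↥Z.left ≤ 0)
    (a : AlgGrp.Action G Z) : a.act = CartesianMonoidalCategory.snd G Z := by
  haveI : IsLocallyNoetherian Z.left := LocallyOfFiniteType.isLocallyNoetherian Z.hom
  haveI : IsLocallyArtinian Z.left := .of_topologicalKrullDim_le_zero hdim
  haveI : DiscreteTopology Z.left := inferInstance
  haveI : GeometricallyConnected G.hom :=
    GeomConn.geometricallyConnected_of_section G.hom (η[G]).left (Over.w η[G])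
  have hsndL : (snd G Z).left = pullback.snd G.hom Z.hom := rfl
  haveI : GeometricallyConnected (snd G Z).left := by rw [hsndL]; infer_instance
  haveI : Smooth (snd G Z).left := by rw [hsndL]; infer_instance
  haveI : IsReduced (G ⊗ Z).left := Reduced.isReduced_of_smooth (snd G Z).left
  let sec : Z ⟶ G ⊗ Z := lift (toUnit Z ≫ η[G]) (𝟙 Z)
  have hsec1 : sec ≫ a.act = 𝟙 Z := by
    have := act_one a (𝟙 Z)
    rwa [Hom.one_def] at this
  have hsec2 : sec ≫ snd G Z = 𝟙 Z := lift_snd _ _
  apply Over.OverMorphism.ext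
  have hcov : TopologicalSpace.IsOpenCover
      (fun z : Z.left => (snd G Z).left ⁻¹ᵁ (⟨{z}, isOpen_discrete _⟩ : Z.left.Opens)) := by
    refine TopologicalSpace.Opens.ext ?_
    ext p
    simp only [TopologicalSpace.Opens.coe_iSup, Set.mem_iUnion, TopologicalSpace.Opens.coe_top,
      Set.mem_univ, iff_true]
    exact ⟨(snd G Z).left p, rfl⟩
  refine Scheme.Cover.hom_ext ((G ⊗ Z).left.openCoverOfIsOpenCover _ hcov) _ _ (fun z => ?_)
  exact local_eq (G ⊗ Z).hom Z.hom a.act.left (snd G Z).left (Over.w a.act) (Over.w (snd G Z))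
    sec.left (congrArg (fun m => m.left) hsec1) (congrArg (fun m => m.left) hsec2) z

end Groth.Agent.S14633
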