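import Groth.Statements.S14637
import Groth.Agent.R2.H67LaurentUnits
-- import your own Groth.Agent.* helpers here

set_option autoImplicit false
universe u
open CategoryTheory MonoidalCategory CartesianMonoidalCategory MonObj GrpObj AlgebraicGeometry CategoryTheory.Limits
open AlgGrp

namespace Groth.Agent.S14637

open LaurentPolynomial Groth.Agent.R2.H67.LaurentUnits

section

variable (k : Type u) [Field k]

/-- the coordinate function `T` on `Spec k[T, T⁻¹]` -/
noncomputable abbrev Tel : Γ(Spec (CommRingCat.of (LaurentPolynomial k)), ⊤) :=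
  (Scheme.ΓSpecIso (CommRingCat.of (LaurentPolynomial k))).inv.hom (LaurentPolynomial.T 1)

variable {k}
variable {G : Over (Spec (CommRingCat.of k))}
  (e : G.left ≅ Spec (CommRingCat.of (LaurentPolynomial k)))

/-- the `T`-coordinate of a point of `G` -/
noncomputable def tc {S : Over (Spec (CommRingCat.of k))} (g : S ⟶ G) : Γ(S.left, ⊤) :=
  (g.left ≫ e.hom).appTop.hom (Tel k)

lemma tc_comp {S S' : Over (Spec (CommRingCat.of k))} (w : S' ⟶ S) (g : S ⟶ G) :
    tc e (w ≫ g) = w.left.appTop.hom (tc e g) := by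
  simp only [tc, Over.comp_left, Category.assoc, Scheme.Hom.comp_appTop, CommRingCat.hom_comp,
    RingHom.comp_apply]

variable (he : e.hom ≫ Spec.map (CommRingCat.ofHom (algebraMap k (LaurentPolynomial k))) = G.hom)
include he

/-- the value of the coordinate ring map on constants is determined by the structure map -/
lemma appTop_const {S : Over (Spec (CommRingCat.of k))} (g : S ⟶ G) (c : k) :
    (g.left ≫ e.hom).appTop.hom
      ((Scheme.ΓSpecIso (CommRingCat.of (LaurentPolynomial k))).inv.hom (LaurentPolynomial.C c)) =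
    S.hom.appTop.hom ((Scheme.ΓSpecIso (CommRingCat.of k)).inv.hom c) := by
  have h1 : (g.left ≫ e.hom) ≫ Spec.map (CommRingCat.ofHom (algebraMap k (LaurentPolynomial k))) =
      S.hom := by
    rw [Category.assoc, he, Over.w]
  have h2 := Scheme.ΓSpecIso_inv_naturality
    (CommRingCat.ofHom (algebraMap k (LaurentPolynomial k)))
  have h3 : (Scheme.ΓSpecIso (CommRingCat.of (LaurentPolynomial k))).inv.hom (LaurentPolynomial.C c) =
      (Spec.map (CommRingCat.ofHom (algebraMap k (LaurentPolynomial k)))).appTop.hom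
        ((Scheme.ΓSpecIso (CommRingCat.of k)).inv.hom c) := by
    have := congr($(h2).hom c)
    exact this
  rw [h3, ← h1, Scheme.Hom.comp_appTop]
  rfl

lemma tc_injective {S : Over (Spec (CommRingCat.of k))} (g h : S ⟶ G)
    (hgh : tc e g = tc e h) : g = h := by
  apply Over.OverMorphism.ext
  rw [← cancel_mono e.hom]
  apply ext_of_isAffine
  rw [← cancel_epi (Scheme.ΓSpecIso (CommRingCat.of (LaurentPolynomial k))).inv]
  apply CommRingCat.hom_ext
  apply ringHom_ext'
  · intro c
    exact (appTop_const e he g c).trans (appTop_const e he h c).symm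
  · exact hgh

end


section Points

variable {k : Type u} [Field k] {G : Over (Spec (CommRingCat.of k))}
  (e : G.left ≅ Spec (CommRingCat.of (LaurentPolynomial k)))
  (he : e.hom ≫ Spec.map (CommRingCat.ofHom (algebraMap k (LaurentPolynomial k))) = G.hom)

/-- the affine `k`-scheme `Spec B` as an object over `Spec k` -/
noncomputable abbrev SpecOver (k : Type u) [Field k] (B : Type u) [CommRing B] [Algebra k B] :
    Over (Spec (CommRingCat.of k)) :=
  Over.mk (Spec.map (CommRingCat.ofHom (algebraMap k B)))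

/-- the morphism of affine `k`-schemes induced by an algebra map -/
noncomputable def specMap {B B' : Type u} [CommRing B] [Algebra k B] [CommRing B'] [Algebra k B']
    (σ : B →ₐ[k] B') : SpecOver k B' ⟶ SpecOver k B :=
  Over.homMk (Spec.map (CommRingCat.ofHom σ.toRingHom)) (by
    dsimp
    rw [← Spec.map_comp]
    congr 1
    ext c
    exact σ.commutes c)

/-- the point of `G` with values in `B` and `T`-coordinate `b` -/
noncomputable def pt (B : Type u) [CommRing B] [Algebra k B] (b : Bˣ) : SpecOver k B ⟶ G :=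
  Over.homMk (Spec.map (CommRingCat.ofHom (LaurentPolynomial.eval₂ (algebraMap k B) b)) ≫ e.inv) (by
    dsimp
    rw [Category.assoc, ← he, Iso.inv_hom_id_assoc, ← Spec.map_comp]
    congr 1
    ext c
    show LaurentPolynomial.eval₂ (algebraMap k B) b (algebraMap k (LaurentPolynomial k) c) = _
    rw [← LaurentPolynomial.C_eq_algebraMap, LaurentPolynomial.eval₂_C]
    rfl)

/-- the coordinate of a `B`-valued point of `G` as an element of `B` -/
noncomputable def co {B : Type u} [CommRing B] [Algebra k B] (g : SpecOver k B ⟶ G) : B :=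
  (Scheme.ΓSpecIso (CommRingCat.of B)).hom.hom (tc e g)

lemma tc_eq_co {B : Type u} [CommRing B] [Algebra k B] (g : SpecOver k B ⟶ G) :
    tc e g = (Scheme.ΓSpecIso (CommRingCat.of B)).inv.hom (co e g) := by
  unfold co
  exact (Iso.hom_inv_id_apply (Scheme.ΓSpecIso (CommRingCat.of B)) (tc e g)).symm

include he in
lemma co_injective {B : Type u} [CommRing B] [Algebra k B] (g h : SpecOver k B ⟶ G)
    (hgh : co e g = co e h) : g = h := by
  apply tc_injective e he
  rw [tc_eq_co, tc_eq_co, hgh]

lemma co_pt (B : Type u) [CommRing B] [Algebra k B] (b : Bˣ) : co e (pt e he B b) = b := by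
  unfold co tc pt
  simp only [Over.homMk_left, Category.assoc, Iso.inv_hom_id, Category.comp_id]
  have h1 := Scheme.ΓSpecIso_inv_naturality
    (CommRingCat.ofHom (LaurentPolynomial.eval₂ (algebraMap k B) b))
  have h2 := congr($(h1).hom (LaurentPolynomial.T 1))
  have h3 : (Spec.map (CommRingCat.ofHom (LaurentPolynomial.eval₂ (algebraMap k B) b))).appTop.hom
      (Tel k) = (Scheme.ΓSpecIso (CommRingCat.of B)).inv.hom
        (LaurentPolynomial.eval₂ (algebraMap k B) b (LaurentPolynomial.T 1)) := h2.symm
  rw [h3, LaurentPolynomial.eval₂_T, zpow_one]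
  exact Iso.inv_hom_id_apply (Scheme.ΓSpecIso (CommRingCat.of B)) _

lemma co_specMap_comp {B B' : Type u} [CommRing B] [Algebra k B] [CommRing B'] [Algebra k B']
    (σ : B →ₐ[k] B') (g : SpecOver k B ⟶ G) : co e (specMap σ ≫ g) = σ (co e g) := by
  have h1 : tc e (specMap σ ≫ g) = (Scheme.ΓSpecIso (CommRingCat.of B')).inv.hom (σ (co e g)) := by
    rw [tc_comp, tc_eq_co]
    have h1 := Scheme.ΓSpecIso_inv_naturality (CommRingCat.ofHom σ.toRingHom)
    have h2 := congr($(h1).hom (co e g))
    exact h2.symm
  unfold co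
  rw [h1]
  exact Iso.inv_hom_id_apply (Scheme.ΓSpecIso (CommRingCat.of B')) _

end Points


section Zpow

variable {R : Type*} [CommRing R]

lemma unit_T_zpow (b : ℤ) :
    (((isUnit_T (R := R) 1).unit ^ b : (LaurentPolynomial R)ˣ) : LaurentPolynomial R) = T b := by
  let φ : Multiplicative ℤ →* (LaurentPolynomial R)ˣ :=
    { toFun := fun n => (isUnit_T (R := R) (Multiplicative.toAdd n)).unit
      map_one' := Units.ext T_zero
      map_mul' := fun a b => Units.ext (T_add _ _) }
  have h1 : (isUnit_T (R := R) 1).unit = φ (Multiplicative.ofAdd 1) := rfl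
  rw [h1, ← map_zpow, ← ofAdd_zsmul]
  show T (b • (1 : ℤ)) = T b
  simp

end Zpow

section Group

variable {k : Type u} [Field k] {G : Over (Spec (CommRingCat.of k))} [GrpObj G]
  (e : G.left ≅ Spec (CommRingCat.of (LaurentPolynomial k)))
  (he : e.hom ≫ Spec.map (CommRingCat.ofHom (algebraMap k (LaurentPolynomial k))) = G.hom)
  (hunit : ((η[G]).left ≫ e.hom).appTop.hom (Tel k) = 1)

include hunit in
lemma tc_one (S : Over (Spec (CommRingCat.of k))) : tc e (1 : S ⟶ G) = 1 := by
  rw [Hom.one_def, tc_comp]
  show (toUnit S).left.appTop.hom (((η[G]).left ≫ e.hom).appTop.hom (Tel k)) = 1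
  rw [hunit, map_one]

include hunit in
lemma co_one (B : Type u) [CommRing B] [Algebra k B] : co e (1 : SpecOver k B ⟶ G) = 1 := by
  unfold co
  rw [tc_one e hunit, map_one]

lemma isUnit_Tel : IsUnit (Tel k) := (isUnit_T 1).map _

omit [GrpObj G] in
lemma isUnit_tc {S : Over (Spec (CommRingCat.of k))} (g : S ⟶ G) : IsUnit (tc e g) :=
  (isUnit_Tel (k := k)).map _

omit [GrpObj G] in
lemma isUnit_co {B : Type u} [CommRing B] [Algebra k B] (g : SpecOver k B ⟶ G) :
    IsUnit (co e g) := (isUnit_tc e g).map _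

/-- the first specialisation `X ↦ 1, Y ↦ T` -/
noncomputable def σ₁ (k : Type u) [Field k] :
    LaurentPolynomial (LaurentPolynomial k) →ₐ[k] LaurentPolynomial k :=
  { LaurentPolynomial.eval₂ (LaurentPolynomial.eval₂ (C : k →+* LaurentPolynomial k) 1)
      (isUnit_T 1).unit with
    commutes' := fun c => by
      show LaurentPolynomial.eval₂ _ _ (algebraMap k (LaurentPolynomial (LaurentPolynomial k)) c) = _
      rw [LaurentPolynomial.algebraMap_apply, LaurentPolynomial.eval₂_C,
        ← LaurentPolynomial.C_eq_algebraMap, LaurentPolynomial.eval₂_C] }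

/-- the second specialisation `X ↦ T, Y ↦ 1` -/
noncomputable def σ₂ (k : Type u) [Field k] :
    LaurentPolynomial (LaurentPolynomial k) →ₐ[k] LaurentPolynomial k :=
  { LaurentPolynomial.eval₂ (RingHom.id (LaurentPolynomial k)) 1 with
    commutes' := fun c => by
      show LaurentPolynomial.eval₂ _ _ (algebraMap k (LaurentPolynomial (LaurentPolynomial k)) c) = _
      rw [LaurentPolynomial.algebraMap_apply, LaurentPolynomial.eval₂_C]
      rfl }

lemma σ₁_apply (c : k) (a b : ℤ) :
    σ₁ k (C (C c * T a) * T b) = C c * T b := by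
  show LaurentPolynomial.eval₂ _ _ _ = _
  rw [LaurentPolynomial.eval₂_C_mul_T, LaurentPolynomial.eval₂_C_mul_T, one_zpow, Units.val_one,
    _root_.mul_one, unit_T_zpow]

lemma σ₂_apply (c : k) (a b : ℤ) :
    σ₂ k (C (C c * T a) * T b) = C c * T a := by
  show LaurentPolynomial.eval₂ _ _ _ = _
  rw [LaurentPolynomial.eval₂_C_mul_T, one_zpow, Units.val_one, _root_.mul_one]
  rfl

lemma eq_one_of_C_mul_T_eq_T {c : k} {b : ℤ} (hc : c ≠ 0)
    (h : (C c * T b : LaurentPolynomial k) = T 1) : c = 1 ∧ b = 1 := by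
  have h1 := congrArg (fun p : LaurentPolynomial k => p.coeff b) h
  simp only [← single_eq_C_mul_T] at h1
  rw [T_apply] at h1
  have h2 : (AddMonoidAlgebra.single b c : LaurentPolynomial k).coeff b = c :=
    Finsupp.single_eq_same
  rw [h2] at h1
  by_cases hb : 1 = b
  · rw [if_pos hb] at h1
    exact ⟨h1, hb.symm⟩
  · rw [if_neg hb] at h1
    exact absurd h1 hc

end Group


section Universal

variable {k : Type u} [Field k] {G : Over (Spec (CommRingCat.of k))} [GrpObj G]
  (e : G.left ≅ Spec (CommRingCat.of (LaurentPolynomial k)))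
  (he : e.hom ≫ Spec.map (CommRingCat.ofHom (algebraMap k (LaurentPolynomial k))) = G.hom)
  (hunit : ((η[G]).left ≫ e.hom).appTop.hom (Tel k) = 1)

/-- the unit `X` of `k[X^±][Y^±]` -/
noncomputable def Xu (k : Type u) [Field k] : (LaurentPolynomial (LaurentPolynomial k))ˣ :=
  ((isUnit_T (R := k) 1).map (C : LaurentPolynomial k →+* LaurentPolynomial (LaurentPolynomial k))).unit

/-- the unit `Y` of `k[X^±][Y^±]` -/
noncomputable def Yu (k : Type u) [Field k] : (LaurentPolynomial (LaurentPolynomial k))ˣ :=
  (isUnit_T (R := LaurentPolynomial k) 1).unit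

lemma Xu_val : ((Xu k : (LaurentPolynomial (LaurentPolynomial k))ˣ) :
    LaurentPolynomial (LaurentPolynomial k)) = C (T 1) := rfl

lemma Yu_val : ((Yu k : (LaurentPolynomial (LaurentPolynomial k))ˣ) :
    LaurentPolynomial (LaurentPolynomial k)) = T 1 := rfl

include he hunit in
/-- the universal computation: the coordinate of the product of the two universal points. -/
theorem co_universal :
    co e (pt e he (LaurentPolynomial (LaurentPolynomial k)) (Xu k) *
      pt e he (LaurentPolynomial (LaurentPolynomial k)) (Yu k)) = C (T 1) * T 1 := by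
  set x := pt e he (LaurentPolynomial (LaurentPolynomial k)) (Xu k) with hx
  set y := pt e he (LaurentPolynomial (LaurentPolynomial k)) (Yu k) with hy
  have hcx : co e x = C (T 1) := (co_pt e he _ (Xu k)).trans (Xu_val)
  have hcy : co e y = T 1 := (co_pt e he _ (Yu k)).trans (Yu_val)
  obtain ⟨r, b, hr, hub⟩ := exists_eq_C_mul_T_of_isUnit _ (isUnit_co e (x * y))
  obtain ⟨c, a, hc, hra⟩ := exists_eq_C_mul_T_of_isUnit r hr
  rw [hra] at hub
  have hc0 : c ≠ 0 := hc.ne_zero
  -- first specialisation
  have e1 : σ₁ k (co e (x * y)) = T 1 := by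
    rw [← co_specMap_comp, MonObj.comp_mul]
    have h1 : specMap (σ₁ k) ≫ x = 1 := by
      apply co_injective e he
      rw [co_specMap_comp, hcx, co_one e hunit]
      show LaurentPolynomial.eval₂ _ _ (C (T 1)) = 1
      rw [LaurentPolynomial.eval₂_C, LaurentPolynomial.eval₂_T, one_zpow, Units.val_one]
    rw [h1, _root_.one_mul, co_specMap_comp, hcy]
    show LaurentPolynomial.eval₂ _ _ (T 1) = T 1
    rw [LaurentPolynomial.eval₂_T, unit_T_zpow]
  -- second specialisation
  have e2 : σ₂ k (co e (x * y)) = T 1 := by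
    rw [← co_specMap_comp, MonObj.comp_mul]
    have h1 : specMap (σ₂ k) ≫ y = 1 := by
      apply co_injective e he
      rw [co_specMap_comp, hcy, co_one e hunit]
      show LaurentPolynomial.eval₂ _ _ (T 1) = 1
      rw [LaurentPolynomial.eval₂_T, one_zpow, Units.val_one]
    rw [h1, _root_.mul_one, co_specMap_comp, hcx]
    show LaurentPolynomial.eval₂ _ _ (C (T 1)) = T 1
    rw [LaurentPolynomial.eval₂_C]
    rfl
  rw [hub, σ₁_apply] at e1
  rw [hub, σ₂_apply] at e2
  obtain ⟨hc1, hb1⟩ := eq_one_of_C_mul_T_eq_T hc0 e1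
  obtain ⟨-, ha1⟩ := eq_one_of_C_mul_T_eq_T hc0 e2
  rw [hub, hc1, hb1, ha1, map_one, _root_.one_mul]

end Universal


section General

variable {k : Type u} [Field k] {G : Over (Spec (CommRingCat.of k))}
  (e : G.left ≅ Spec (CommRingCat.of (LaurentPolynomial k)))

/-- the structure ring map `k → Γ(S, O_S)` -/
noncomputable def strHom (S : Over (Spec (CommRingCat.of k))) : k →+* Γ(S.left, ⊤) :=
  S.hom.appTop.hom.comp (Scheme.ΓSpecIso (CommRingCat.of k)).inv.hom

/-- the classifying ring map of a pair of units -/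
noncomputable def θ (S : Over (Spec (CommRingCat.of k))) (a b : Γ(S.left, ⊤)ˣ) :
    LaurentPolynomial (LaurentPolynomial k) →+* Γ(S.left, ⊤) :=
  LaurentPolynomial.eval₂ (LaurentPolynomial.eval₂ (strHom S) a) b

lemma θ_algebraMap (S : Over (Spec (CommRingCat.of k))) (a b : Γ(S.left, ⊤)ˣ) (c : k) :
    θ S a b (algebraMap k (LaurentPolynomial (LaurentPolynomial k)) c) = strHom S c := by
  unfold θ
  rw [LaurentPolynomial.algebraMap_apply, LaurentPolynomial.eval₂_C,
    ← LaurentPolynomial.C_eq_algebraMap, LaurentPolynomial.eval₂_C]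

/-- the classifying morphism of a pair of units -/
noncomputable def wMor (S : Over (Spec (CommRingCat.of k))) (a b : Γ(S.left, ⊤)ˣ) :
    S ⟶ SpecOver k (LaurentPolynomial (LaurentPolynomial k)) :=
  Over.homMk (S.left.toSpecΓ ≫ Spec.map (CommRingCat.ofHom (θ S a b))) (by
    dsimp
    rw [Category.assoc, ← Spec.map_comp]
    have h1 : CommRingCat.ofHom (algebraMap k (LaurentPolynomial (LaurentPolynomial k))) ≫
        CommRingCat.ofHom (θ S a b) =
        (Scheme.ΓSpecIso (CommRingCat.of k)).inv ≫ S.hom.appTop := by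
      ext c
      exact θ_algebraMap S a b c
    rw [h1, Spec.map_comp, ← Scheme.toSpecΓ_naturality_assoc, toSpecΓ_SpecMap_ΓSpecIso_inv,
      Category.comp_id])

lemma wMor_appTop (S : Over (Spec (CommRingCat.of k))) (a b : Γ(S.left, ⊤)ˣ)
    (z : LaurentPolynomial (LaurentPolynomial k)) :
    (wMor S a b).left.appTop.hom
      ((Scheme.ΓSpecIso (CommRingCat.of (LaurentPolynomial (LaurentPolynomial k)))).inv.hom z) =
      θ S a b z := by
  unfold wMor
  show (S.left.toSpecΓ ≫ Spec.map (CommRingCat.ofHom (θ S a b))).appTop.hom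
    ((Scheme.ΓSpecIso (CommRingCat.of (LaurentPolynomial (LaurentPolynomial k)))).inv.hom z) = _
  rw [Scheme.Hom.comp_appTop, Scheme.toSpecΓ_appTop]
  have h1 := Scheme.ΓSpecIso_inv_naturality (CommRingCat.ofHom (θ S a b))
  have h2 := congr($(h1).hom z)
  show (Scheme.ΓSpecIso Γ(S.left, ⊤)).hom.hom
    ((Spec.map (CommRingCat.ofHom (θ S a b))).appTop.hom
      ((Scheme.ΓSpecIso (CommRingCat.of (LaurentPolynomial (LaurentPolynomial k)))).inv.hom z)) = _
  have h3 : (Spec.map (CommRingCat.ofHom (θ S a b))).appTop.hom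
      ((Scheme.ΓSpecIso (CommRingCat.of (LaurentPolynomial (LaurentPolynomial k)))).inv.hom z) =
      (Scheme.ΓSpecIso Γ(S.left, ⊤)).inv.hom (θ S a b z) := h2.symm
  rw [h3]
  exact Iso.inv_hom_id_apply (Scheme.ΓSpecIso Γ(S.left, ⊤)) _

lemma tc_wMor_comp (S : Over (Spec (CommRingCat.of k))) (a b : Γ(S.left, ⊤)ˣ)
    (g' : SpecOver k (LaurentPolynomial (LaurentPolynomial k)) ⟶ G) :
    tc e (wMor S a b ≫ g') = θ S a b (co e g') := by
  rw [tc_comp, tc_eq_co, wMor_appTop]

end General


/-- Over a field k, the only structure of algebraic group on the punctured affine line Spec k[T, T⁻¹]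
with unit element the point T = 1 is the multiplicative group. Precisely: let G be a k-group scheme
and e an isomorphism of k-schemes from the underlying scheme of G to Spec k[T, T⁻¹] under which the
unit section has T-coordinate 1; then for every k-scheme S and all S-valued points g, h of G, the
T-coordinate of g · h (the pull-back of the global function T along the point composed with e) is
the product of the T-coordinates of g and of h. -/
theorem result (k : Type u) [Field k]
    (G : Over (Spec (CommRingCat.of k))) [GrpObj G]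
    (e : G.left ≅ Spec (CommRingCat.of (LaurentPolynomial k)))
    (he : e.hom ≫ Spec.map (CommRingCat.ofHom (algebraMap k (LaurentPolynomial k))) = G.hom)
    (hunit : ((η[G]).left ≫ e.hom).appTop.hom ((Scheme.ΓSpecIso (CommRingCat.of (LaurentPolynomial k))).inv.hom (LaurentPolynomial.T 1)) = 1)
    (S : Over (Spec (CommRingCat.of k))) (g h : S ⟶ G) :
    ((g * h).left ≫ e.hom).appTop.hom ((Scheme.ΓSpecIso (CommRingCat.of (LaurentPolynomial k))).inv.hom (LaurentPolynomial.T 1)) =
      (g.left ≫ e.hom).appTop.hom ((Scheme.ΓSpecIso (CommRingCat.of (LaurentPolynomial k))).inv.hom (LaurentPolynomial.T 1)) * (h.left ≫ e.hom).appTop.hom ((Scheme.ΓSpecIso (CommRingCat.of (LaurentPolynomial k))).inv.hom (LaurentPolynomial.T 1)) := by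
  show tc e (g * h) = tc e g * tc e h
  set a : Γ(S.left, ⊤)ˣ := (isUnit_tc e g).unit with ha
  set b : Γ(S.left, ⊤)ˣ := (isUnit_tc e h).unit with hb
  set x := pt e he (LaurentPolynomial (LaurentPolynomial k)) (Xu k) with hx
  set y := pt e he (LaurentPolynomial (LaurentPolynomial k)) (Yu k) with hy
  have hcx : co e x = C (T 1) := (co_pt e he _ (Xu k)).trans (Xu_val)
  have hcy : co e y = T 1 := (co_pt e he _ (Yu k)).trans (Yu_val)
  have hθX : θ S a b (C (T 1)) = tc e g := by
    unfold θ
    rw [LaurentPolynomial.eval₂_C, LaurentPolynomial.eval₂_T, zpow_one]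
    rfl
  have hθY : θ S a b (T 1) = tc e h := by
    unfold θ
    rw [LaurentPolynomial.eval₂_T, zpow_one]
    rfl
  have hgx : wMor S a b ≫ x = g := by
    apply tc_injective e he
    rw [tc_wMor_comp, hcx, hθX]
  have hhy : wMor S a b ≫ y = h := by
    apply tc_injective e he
    rw [tc_wMor_comp, hcy, hθY]
  rw [← hgx, ← hhy, ← MonObj.comp_mul, tc_wMor_comp, tc_wMor_comp, tc_wMor_comp,
    co_universal e he hunit, map_mul, hcx, hcy]


end Groth.Agent.S14637
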