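import Groth.Statements.S14643
import Mathlib
import Groth.Agent.Lib.Helper12Act
import Groth.Agent.Lib.Helper12Kernel
import Groth.Agent.Lib.Helper12BundleMap
import Groth.Agent.Lib.Helper6LfpComp

set_option autoImplicit false
universe u
open CategoryTheory MonoidalCategory CartesianMonoidalCategory MonObj GrpObj AlgebraicGeometry CategoryTheory.Limits
open AlgGrp

namespace Groth.Agent.S14643

open Groth.Agent.Lib.Helper12 Groth.Agent.Lib.Helper12.Kernel Groth.Agent.Lib.Helper12.BundleMap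
  CategoryTheory.Limits

section core

variable {S : Scheme.{u}} {G N Q X : Over S}

/-- the square exhibiting `π ▷ X` as a base change of `π`. -/
lemma isPullback_whiskerRight (π : G ⟶ Q) :
    IsPullback (π ▷ X) (fst G X) (fst Q X) π := by
  refine isPullback_of_existsUnique_sq (by simp) ?_
  intro T b c hbc
  refine ⟨lift c (b ≫ snd Q X), ⟨?_, lift_fst _ _⟩, ?_⟩
  · apply CartesianMonoidalCategory.hom_ext
    · simp [hbc]
    · simp
  · rintro a' ⟨h1, h2⟩
    apply CartesianMonoidalCategory.hom_ext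
    · rw [lift_fst]; exact h2
    · rw [lift_snd, ← h1]; simp

variable [GrpObj G] [GrpObj Q]

/-- the action of `g` only depends on its image in `Q`. -/
lemma key (a : AlgGrp.Action G X) (n : N ⟶ G) (π : G ⟶ Q) [IsMonHom π]
    (hker : IsPullback n (toUnit N) π η[Q])
    (hN : ∀ (T : Over S) (g : T ⟶ G),
      (∃ m : T ⟶ N, m ≫ n = g) →
        ∀ (T' : Over S) (s : T' ⟶ T) (x : T' ⟶ X), lift (s ≫ g) x ≫ a.act = x)
    {T : Over S} (g₁ g₂ : T ⟶ G) (x : T ⟶ X) (h : g₁ ≫ π = g₂ ≫ π) :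
    lift g₁ x ≫ a.act = lift g₂ x ≫ a.act := by
  have h1 : (g₂⁻¹ * g₁) ≫ π = toUnit T ≫ η[Q] := by
    rw [mul_comp, inv_comp, h, inv_mul_cancel, Hom.one_def]
  have h2 := hN T (g₂⁻¹ * g₁) ⟨hker.lift _ _ h1, hker.lift_fst _ _ _⟩ T (𝟙 T) x
  rw [Category.id_comp] at h2
  have h3 : g₁ = g₂ * (g₂⁻¹ * g₁) := by group
  rw [h3, act_mul, h2]

omit [GrpObj G] [GrpObj Q] in
/-- local lifting of points of `Q` to `G`. -/
lemma exists_lift (π : G ⟶ Q)
    (hloc : NonAbH1.IsLocallyTrivialFor Scheme.fpqcPrecoverage (Over.mk π.left : Over Q.left))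
    {T : Over S} (q : T ⟶ Q) :
    ∃ (T' : Over S) (ρ : T' ⟶ T) (_ : Epi ρ) (g : T' ⟶ G), g ≫ π = ρ ≫ q := by
  have sq : IsPullback (pullback.fst q π) (pullback.snd q π) q π := IsPullback.of_hasPullback _ _
  have hρloc : NonAbH1.IsLocallyTrivialFor Scheme.fpqcPrecoverage
      (Over.mk (pullback.fst q π).left : Over T.left) :=
    isLocallyTrivialFor_of_isPullback (sq.map (Over.forget S)) hloc
  exact ⟨_, pullback.fst q π, epi_of_isLocallyTrivialFor _ hρloc, pullback.snd q π, sq.w.symm⟩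

theorem core (a : AlgGrp.Action G X) (n : N ⟶ G) (π : G ⟶ Q) [IsMonHom π]
    (hloc : NonAbH1.IsLocallyTrivialFor Scheme.fpqcPrecoverage (Over.mk π.left : Over Q.left))
    (hker : IsPullback n (toUnit N) π η[Q])
    (hN : ∀ (T : Over S) (g : T ⟶ G),
      (∃ m : T ⟶ N, m ≫ n = g) ↔
        ∀ (T' : Over S) (s : T' ⟶ T) (x : T' ⟶ X), lift (s ≫ g) x ≫ a.act = x) :
    (∃! b : AlgGrp.Action Q X, (π ▷ X) ≫ b.act = a.act) ∧
    ∀ b : AlgGrp.Action Q X, (π ▷ X) ≫ b.act = a.act →
      (∀ (T : Over S) (q : T ⟶ Q),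
        (∀ (T' : Over S) (s : T' ⟶ T) (x : T' ⟶ X), lift (s ≫ q) x ≫ b.act = x) → q = 1) := by
  have hkey := fun {T : Over S} (g₁ g₂ : T ⟶ G) (x : T ⟶ X) (h : g₁ ≫ π = g₂ ≫ π) =>
    key a n π hker (fun T g => (hN T g).1) g₁ g₂ x h
  have sqX : IsPullback (π ▷ X) (fst G X) (fst Q X) π := isPullback_whiskerRight π
  have hlocX : NonAbH1.IsLocallyTrivialFor Scheme.fpqcPrecoverage
      (Over.mk (π ▷ X).left : Over (Q ⊗ X).left) :=
    isLocallyTrivialFor_of_isPullback (sqX.map (Over.forget S)) hloc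
  have hepiX : Epi (π ▷ X) := epi_of_isLocallyTrivialFor _ hlocX
  obtain ⟨bact, hbact, -⟩ := existsUnique_desc_over (π ▷ X) hlocX a.act (by
    intro W p₁ p₂ h12
    have e₁ : p₁ = lift (p₁ ≫ fst G X) (p₁ ≫ snd G X) := by
      apply CartesianMonoidalCategory.hom_ext <;> simp
    have e₂ : p₂ = lift (p₂ ≫ fst G X) (p₂ ≫ snd G X) := by
      apply CartesianMonoidalCategory.hom_ext <;> simp
    have hf : (p₁ ≫ fst G X) ≫ π = (p₂ ≫ fst G X) ≫ π := by
      have := congrArg (fun m => m ≫ fst Q X) h12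
      simpa using this
    have hs : p₁ ≫ snd G X = p₂ ≫ snd G X := by
      have := congrArg (fun m => m ≫ snd Q X) h12
      simpa using this
    rw [e₁, e₂, hs]
    exact hkey _ _ _ hf)
  -- point form of the relation between `bact` and `a.act`
  have hrel : ∀ {T : Over S} (g : T ⟶ G) (x : T ⟶ X),
      lift (g ≫ π) x ≫ bact = lift g x ≫ a.act := by
    intro T g x
    rw [← hbact, ← Category.assoc]
    congr 1
    apply CartesianMonoidalCategory.hom_ext <;> simp
  have hone : (η[Q] ▷ X) ≫ bact = (λ_ X).hom := by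
    rw [← IsMonHom.one_hom π, comp_whiskerRight, Category.assoc, hbact, a.one_act]
  have hmul : (μ[Q] ▷ X) ≫ bact = (α_ Q Q X).hom ≫ (Q ◁ bact) ≫ bact := by
    -- point form
    obtain ⟨T₁, ρ₁, hρ₁, g₁, hg₁⟩ := exists_lift π hloc (fst (Q ⊗ Q) X ≫ fst Q Q)
    obtain ⟨T₂, ρ₂, hρ₂, g₂, hg₂⟩ := exists_lift π hloc (ρ₁ ≫ fst (Q ⊗ Q) X ≫ snd Q Q)
    rw [← cancel_epi ρ₁, ← cancel_epi ρ₂]
    have e : ρ₂ ≫ ρ₁ = lift (lift ((ρ₂ ≫ g₁) ≫ π) (g₂ ≫ π)) (ρ₂ ≫ ρ₁ ≫ snd (Q ⊗ Q) X) := by
      apply CartesianMonoidalCategory.hom_ext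
      · apply CartesianMonoidalCategory.hom_ext
        · simp [hg₁]
        · simp [hg₂]
      · simp
    have hL : lift (lift ((ρ₂ ≫ g₁) ≫ π) (g₂ ≫ π)) (ρ₂ ≫ ρ₁ ≫ snd (Q ⊗ Q) X) ≫ (μ[Q] ▷ X) =
        lift (((ρ₂ ≫ g₁) * g₂) ≫ π) (ρ₂ ≫ ρ₁ ≫ snd (Q ⊗ Q) X) := by
      apply CartesianMonoidalCategory.hom_ext
      · simp [Hom.mul_def]
      · simp
    have hR : lift (lift ((ρ₂ ≫ g₁) ≫ π) (g₂ ≫ π)) (ρ₂ ≫ ρ₁ ≫ snd (Q ⊗ Q) X) ≫
        (α_ Q Q X).hom ≫ (Q ◁ bact) =
        lift ((ρ₂ ≫ g₁) ≫ π) (lift (g₂ ≫ π) (ρ₂ ≫ ρ₁ ≫ snd (Q ⊗ Q) X) ≫ bact) := by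
      apply CartesianMonoidalCategory.hom_ext
      · simp
      · simp
    calc ρ₂ ≫ ρ₁ ≫ (μ[Q] ▷ X) ≫ bact
        = (ρ₂ ≫ ρ₁) ≫ (μ[Q] ▷ X) ≫ bact := by simp only [Category.assoc]
      _ = lift (((ρ₂ ≫ g₁) * g₂) ≫ π) (ρ₂ ≫ ρ₁ ≫ snd (Q ⊗ Q) X) ≫ bact := by
          rw [e, ← Category.assoc, hL]
      _ = lift ((ρ₂ ≫ g₁) ≫ π) (lift (g₂ ≫ π) (ρ₂ ≫ ρ₁ ≫ snd (Q ⊗ Q) X) ≫ bact) ≫ bact := by
          rw [hrel, act_mul, hrel, hrel]
      _ = (ρ₂ ≫ ρ₁) ≫ (α_ Q Q X).hom ≫ (Q ◁ bact) ≫ bact := by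
          rw [e, ← hR]; simp only [Category.assoc]
      _ = ρ₂ ≫ ρ₁ ≫ (α_ Q Q X).hom ≫ (Q ◁ bact) ≫ bact := by simp only [Category.assoc]
  refine ⟨⟨⟨bact, hone, hmul⟩, hbact, ?_⟩, ?_⟩
  · intro b' hb'
    have : b'.act = bact := by
      rw [← cancel_epi (π ▷ X), hb', hbact]
    cases b'
    cases this
    rfl
  · intro b hb T q hq
    obtain ⟨T', ρ, hρ, g, hg⟩ := exists_lift π hloc q
    have hrel' : ∀ {T : Over S} (g : T ⟶ G) (x : T ⟶ X),
        lift (g ≫ π) x ≫ b.act = lift g x ≫ a.act := by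
      intro T g x
      rw [← hb, ← Category.assoc]
      congr 1
      apply CartesianMonoidalCategory.hom_ext <;> simp
    obtain ⟨m, hm⟩ := (hN T' g).2 (by
      intro T'' s x
      rw [← hrel', Category.assoc, hg, ← Category.assoc]
      exact hq T'' (s ≫ ρ) x)
    rw [← cancel_epi ρ, ← hg, ← hm, Category.assoc, hker.w, comp_one, ← Category.assoc,
      Hom.one_def]
    congr 1
    exact toUnit_unique _ _

end core

/-- Over a field k, let G be a smooth k-group scheme of finite type acting on a variety X (a separated,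
geometrically integral k-scheme of finite type). Let n : N → G be the kernel of the action: a closed
subgroup scheme such that, for every k-scheme T, a T-point of G factors through N exactly when it
acts as the identity on all points of X over T-schemes. Let π : G → Q be a homomorphism onto a
k-group scheme of finite type which is flat and surjective with kernel N (the quotient G/N). Then
there is a unique action of Q on X inducing the given one along π; this action of Q is faithful (a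
T-point of Q acting as the identity on all points of X over T-schemes is the unit); and X is
homogeneous under G (surjective graph morphism (g, x) ↦ (x, g·x)) if and only if it is homogeneous
under Q, and almost homogeneous under G (dominant graph morphism) if and only if it is almost
homogeneous under Q. -/
theorem result (k : Type u) [Field k]
    (G N Q X : Over (Spec (CommRingCat.of k))) [GrpObj G] [Smooth G.hom] [QuasiCompact G.hom]
    [IsSeparated X.hom] [LocallyOfFiniteType X.hom] [QuasiCompact X.hom] [GeometricallyIntegral X.hom] (a : AlgGrp.Action G X)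
    [GrpObj N] (n : N ⟶ G) [IsMonHom n] [IsClosedImmersion n.left]
    (hN : ∀ (T : Over (Spec (CommRingCat.of k))) (g : T ⟶ G),
      (∃ m : T ⟶ N, m ≫ n = g) ↔
        ∀ (T' : Over (Spec (CommRingCat.of k))) (s : T' ⟶ T) (x : T' ⟶ X), CartesianMonoidalCategory.lift (s ≫ g) x ≫ a.act = x)
    [GrpObj Q] [LocallyOfFiniteType Q.hom] [QuasiCompact Q.hom] (π : G ⟶ Q) [IsMonHom π] [Flat π.left] [Surjective π.left]
    (hker : AlgGrp.IsKernel n π) :
    (∃! b : AlgGrp.Action Q X, (π ▷ X) ≫ b.act = a.act) ∧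
    ∀ b : AlgGrp.Action Q X, (π ▷ X) ≫ b.act = a.act →
      (∀ (T : Over (Spec (CommRingCat.of k))) (q : T ⟶ Q),
        (∀ (T' : Over (Spec (CommRingCat.of k))) (s : T' ⟶ T) (x : T' ⟶ X), CartesianMonoidalCategory.lift (s ≫ q) x ≫ b.act = x) → q = 1) ∧
      (Surjective (CartesianMonoidalCategory.lift (CartesianMonoidalCategory.snd G X) a.act).left ↔
        Surjective (CartesianMonoidalCategory.lift (CartesianMonoidalCategory.snd Q X) b.act).left) ∧
      (IsDominant (CartesianMonoidalCategory.lift (CartesianMonoidalCategory.snd G X) a.act).left ↔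
        IsDominant (CartesianMonoidalCategory.lift (CartesianMonoidalCategory.snd Q X) b.act).left) := by
  have hlfp : LocallyOfFinitePresentation π.left := by
    refine Groth.Agent.Lib.Helper6.locallyOfFinitePresentation_of_comp (g := Q.hom) inferInstance ?_
    rw [Over.w π]
    infer_instance
  have hR : Presieve.singleton π.left ∈ Scheme.fpqcPrecoverage Q.left :=
    Scheme.fppfPrecoverage_le_fpqcPrecoverage _ π.left.singleton_mem_fppfPrecoverage
  have hloc : NonAbH1.IsLocallyTrivialFor Scheme.fpqcPrecoverage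
      (Over.mk π.left : Over Q.left) := by
    refine ⟨Presieve.singleton π.left, hR, ?_⟩
    rintro T _ ⟨⟩
    exact ⟨𝟙 _, Category.id_comp _⟩
  obtain ⟨h1, h2⟩ := core a n π hloc hker hN
  refine ⟨h1, fun b hb => ⟨h2 b hb, ?_⟩⟩
  have sqX : IsPullback (fst G X) (π ▷ X) π (fst Q X) := (isPullback_whiskerRight π).flip
  have hsurj : Surjective (π ▷ X).left :=
    MorphismProperty.of_isPullback (P := @Surjective) (sqX.map (Over.forget _))
      (inferInstanceAs (Surjective π.left))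
  have hgraph : lift (snd G X) a.act = (π ▷ X) ≫ lift (snd Q X) b.act := by
    apply CartesianMonoidalCategory.hom_ext
    · simp
    · simp [hb]
  rw [hgraph, Over.comp_left]
  exact ⟨Surjective.comp_iff _ _, IsDominant.comp_iff _ _⟩

end Groth.Agent.S14643
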