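import Groth.Statements.S14666
import Groth.Agent.R2.H34RigidityEpi

set_option autoImplicit false
universe u
open CategoryTheory CategoryTheory.Limits AlgebraicGeometry
open AbSch

namespace Groth.Agent.S14666

/-- Let S be a locally Noetherian scheme, ξ : X ⟶ S a proper morphism all of whose geometric fibres are
integral and for which O_S ⟶ ξ_*O_X is an isomorphism (the map Γ(U, O_S) → Γ(ξ⁻¹U, O_X) is bijective
for every open U of S), v : Y ⟶ S an arbitrary S-scheme and f : X ⟶ Y a morphism over S. Let U be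
the set of points s of S such that f sends every point of the fibre ξ⁻¹(s) to one and the same point
of Y. Then U is open in S, and for every morphism τ : T ⟶ S the base change of f to T factors
through the projection X ×_S T ⟶ T — that is, there is r : T ⟶ Y with r ≫ v = τ and fst ≫ f = snd ≫
r on X ×_S T — if and only if τ maps every point of T into U. -/
theorem result {X Y S : Scheme.{u}} [IsLocallyNoetherian S]
    (ξ : X ⟶ S) [IsProper ξ] [GeometricallyIntegral ξ]
    (h0 : ∀ U : S.Opens, Function.Bijective (ξ.app U).hom)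
    (v : Y ⟶ S) (f : X ⟶ Y) (hf : f ≫ v = ξ) :
    IsOpen {s : ↥S | ∃ y : ↥Y, ∀ x : ↥X, ξ.base x = s → f.base x = y} ∧
    ∀ (T : Scheme.{u}) (τ : T ⟶ S),
      ((∃ r : T ⟶ Y, r ≫ v = τ ∧ pullback.fst ξ τ ≫ f = pullback.snd ξ τ ≫ r) ↔
        ∀ t : ↥T, τ.base t ∈ {s : ↥S | ∃ y : ↥Y, ∀ x : ↥X, ξ.base x = s → f.base x = y}) := by
  classical
  have hO : ∀ s : S, ∃ U : S.Opens, s ∈ U ∧ ∀ V : S.Opens, V ≤ U → IsIso (ξ.app V) :=
    fun s => ⟨⊤, trivial, fun V _ => (ConcreteCategory.isIso_iff_bijective _).mpr (h0 V)⟩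
  have hinj : ∀ U : S.Opens, Function.Injective (ξ.app U).hom := fun U => (h0 U).1
  have hcl : IsClosedMap ξ := ξ.isClosedMap
  have hsurj : Surjective ξ := by
    constructor
    have hclosed : IsClosed (Set.range ξ) := hcl.isClosed_range
    let U : S.Opens := ⟨(Set.range ξ)ᶜ, hclosed.isOpen_compl⟩
    have hpre : ξ ⁻¹ᵁ U = ⊥ := by
      ext x
      simp [U]
    have h1 : Subsingleton Γ(X, ξ ⁻¹ᵁ U) := by
      rw [hpre]
      infer_instance
    have h2 : Subsingleton Γ(S, U) := (h0 U).1.subsingleton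
    have hU : U = ⊥ := by
      rw [← S.basicOpen_one (U := U), Subsingleton.elim (1 : Γ(S, U)) 0, S.basicOpen_zero]
    intro s
    by_contra hs
    have : s ∈ U := hs
    rw [hU] at this
    exact this
  have hC : {s : ↥S | ∃ y : ↥Y, ∀ x : ↥X, ξ.base x = s → f.base x = y} =
      Groth.Agent.R2.H34.Rigidity.collapsed ξ f := by
    ext s
    constructor
    · rintro ⟨y, hy⟩ x x' hx hx'
      exact (hy x hx).trans (hy x' hx').symm
    · intro hs
      obtain ⟨x0, hx0⟩ := ξ.surjective s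
      exact ⟨f x0, fun x hx => hs x x0 hx hx0⟩
  have hloc : ∀ s ∈ Groth.Agent.R2.H34.Rigidity.collapsed ξ f, ∃ U : S.Opens, s ∈ U ∧
      Groth.Agent.R2.H34.Rigidity.FactorsOver ξ f U :=
    fun s hs => Groth.Agent.R2.H34.Rigidity.exists_factorsOver_of_mem_collapsed hcl hO hs
  rw [hC]
  refine ⟨?_, fun T τ => ⟨?_, ?_⟩⟩
  · rw [isOpen_iff_forall_mem_open]
    intro s hs
    obtain ⟨U, hsU, hU⟩ := hloc s hs
    exact ⟨U, Groth.Agent.R2.H34.Rigidity.subset_collapsed_of_factorsOver hU, U.2, hsU⟩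
  · rintro ⟨r, hr1, hr2⟩ t x x' hx hx'
    obtain ⟨z, hz1, hz2⟩ := Scheme.Pullback.exists_preimage_pullback (f := ξ) (g := τ) x t hx
    obtain ⟨z', hz1', hz2'⟩ := Scheme.Pullback.exists_preimage_pullback (f := ξ) (g := τ) x' t hx'
    have e1 : f x = r t := by
      rw [← hz1, ← hz2, ← Scheme.Hom.comp_apply, ← Scheme.Hom.comp_apply, hr2]
    have e2 : f x' = r t := by
      rw [← hz1', ← hz2', ← Scheme.Hom.comp_apply, ← Scheme.Hom.comp_apply, hr2]
    rw [e1, e2]
  · intro h
    exact Groth.Agent.R2.H34.RigidityEpi.exists_factor_baseChange hinj v hf τ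
      (fun t => hloc _ (h t))

end Groth.Agent.S14666
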