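import Groth.Statements.S1467
import Groth.Agent.R2.H3StrictHensA
import Groth.Agent.S1412

set_option autoImplicit false
universe u
open FlatMor

namespace Groth.Agent.S1467

open AlgebraicGeometry CategoryTheory Limits in
/-- A morphism f : X → Y is weakly étale if and only if, for every point x of X, strict henselizations
of the local rings at f x and at x coincide under the stalk map: every strict henselization of O_{X,
x} is, through the composite map O_{Y, f x} → O_{X, x} → (strict henselization), a strict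
henselization of O_{Y, f x}. -/
theorem result {X Y : Scheme.{u}} (f : X ⟶ Y) :
    WeaklyEtale f ↔ ∀ (x : X) (R : Type u) [CommRing R] [IsLocalRing R] [Algebra ↑(X.presheaf.stalk x) R]
      [IsLocalHom (algebraMap ↑(X.presheaf.stalk x) R)] [Hensel.IsStrictHenselization ↑(X.presheaf.stalk x) R],
      letI : Algebra ↑(Y.presheaf.stalk (f x)) R := ((algebraMap ↑(X.presheaf.stalk x) R).comp (f.stalkMap x).hom).toAlgebra
      ∃ _ : IsLocalHom (algebraMap ↑(Y.presheaf.stalk (f x)) R), Hensel.IsStrictHenselization ↑(Y.presheaf.stalk (f x)) R := by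
  rw [Groth.Agent.S1412.result f]
  constructor
  · intro h x R _ _ _ _ _
    obtain ⟨hflat, hmul⟩ := h x
    letI : Algebra ↑(Y.presheaf.stalk (f x)) ↑(X.presheaf.stalk x) := (f.stalkMap x).hom.toAlgebra
    haveI : Algebra.WeaklyEtale ↑(Y.presheaf.stalk (f x)) ↑(X.presheaf.stalk x) := ⟨hflat, hmul⟩
    haveI : IsLocalHom (algebraMap ↑(Y.presheaf.stalk (f x)) ↑(X.presheaf.stalk x)) :=
      inferInstanceAs (IsLocalHom (f.stalkMap x).hom)
    letI : Algebra ↑(Y.presheaf.stalk (f x)) R :=
      ((algebraMap ↑(X.presheaf.stalk x) R).comp (f.stalkMap x).hom).toAlgebra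
    haveI : IsScalarTower ↑(Y.presheaf.stalk (f x)) ↑(X.presheaf.stalk x) R :=
      IsScalarTower.of_algebraMap_eq (fun _ => rfl)
    exact Groth.Agent.R2.H3.StrictHens.isStrictHenselization_of_weaklyEtale
      ↑(Y.presheaf.stalk (f x)) ↑(X.presheaf.stalk x) R
  · intro h x
    obtain ⟨R, _, _, _, _, hR⟩ := Groth.Agent.S0537.result ↑(X.presheaf.stalk x)
    obtain ⟨hloc, hsh⟩ := h x R
    letI : Algebra ↑(Y.presheaf.stalk (f x)) ↑(X.presheaf.stalk x) := (f.stalkMap x).hom.toAlgebra
    letI : Algebra ↑(Y.presheaf.stalk (f x)) R :=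
      ((algebraMap ↑(X.presheaf.stalk x) R).comp (f.stalkMap x).hom).toAlgebra
    haveI : IsScalarTower ↑(Y.presheaf.stalk (f x)) ↑(X.presheaf.stalk x) R :=
      IsScalarTower.of_algebraMap_eq (fun _ => rfl)
    haveI := hloc
    haveI := hsh
    have hwe := Groth.Agent.R2.H3.StrictHens.weaklyEtale_of_isStrictHenselization
      ↑(Y.presheaf.stalk (f x)) ↑(X.presheaf.stalk x) R
    exact ⟨hwe.flat, Algebra.WeaklyEtale.flat_lmul' _ _⟩

end Groth.Agent.S1467
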