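import Groth.Statements.S14678
import Mathlib
-- import your own Groth.Agent.* helpers here

set_option autoImplicit false
universe u
open CategoryTheory CategoryTheory.Limits AlgebraicGeometry
open EtBase

namespace Groth.Agent.S14678

/-- Let S be a scheme, s a point of S and ℓ a finite field extension of the residue field κ(s). Then,
fppf-locally around s, ℓ occurs as a residue field: there are an affine scheme U', a flat morphism b
: U' ⟶ S locally of finite presentation (so with open image containing s) and a morphism t : Spec ℓ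
⟶ U' over the canonical morphism Spec ℓ ⟶ Spec κ(s) ⟶ S which is a preimmersion, i.e. the inclusion
of a point s' of U' above s together with an identification of κ(s') with ℓ over κ(s); such a point
is closed in its fibre over s. (The published statement gives an affine open neighbourhood U of s
and an fppf morphism U' ⟶ U; this row asks only for a flat, locally finitely presented U' ⟶ S, whose
open image then contains s.) -/
theorem result (S : Scheme.{u}) (s : ↥S)
    (ℓ : Type u) [Field ℓ] [Algebra (S.residueField s) ℓ] [Module.Finite (S.residueField s) ℓ] :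
    ∃ (U' : Scheme.{u}) (b : U' ⟶ S) (t : Spec (CommRingCat.of ℓ) ⟶ U'),
      IsAffine U' ∧ Flat b ∧ LocallyOfFinitePresentation b ∧ IsPreimmersion t ∧
        t ≫ b = Spec.map (CommRingCat.ofHom (algebraMap (S.residueField s) ℓ)) ≫ S.fromSpecResidueField s := by
  obtain ⟨_, ⟨U, hU : IsAffineOpen U, rfl⟩, hsU, -⟩ :=
    S.isBasis_affineOpens.exists_subset_of_mem_open (Set.mem_univ s) isOpen_univ
  obtain ⟨n, x, hx⟩ := Module.Finite.exists_fin (R := S.residueField s) (M := ℓ)
  let A := Γ(S, U)
  let ψ : A →+* S.residueField s := (S.presheaf.germ U s hsU ≫ S.residue s).hom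
  let φ : MvPolynomial (Fin n) A →+* ℓ := MvPolynomial.eval₂Hom ((algebraMap _ ℓ).comp ψ) x
  refine ⟨Spec (CommRingCat.of (MvPolynomial (Fin n) A)),
    Spec.map (CommRingCat.ofHom (algebraMap A (MvPolynomial (Fin n) A))) ≫ hU.fromSpec,
    Spec.map (CommRingCat.ofHom φ), inferInstance, ?_, ?_, ?_, ?_⟩
  · -- flat
    have h1 : Flat (Spec.map (CommRingCat.ofHom (algebraMap A (MvPolynomial (Fin n) A)))) := by
      rw [HasRingHomProperty.Spec_iff (P := @Flat)]
      exact RingHom.flat_algebraMap_iff.mpr inferInstance
    infer_instance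
  · -- locally of finite presentation
    have h1 : LocallyOfFinitePresentation
        (Spec.map (CommRingCat.ofHom (algebraMap A (MvPolynomial (Fin n) A)))) := by
      rw [HasRingHomProperty.Spec_iff (P := @LocallyOfFinitePresentation)]
      exact RingHom.finitePresentation_algebraMap.mpr inferInstance
    infer_instance
  · -- preimmersion
    have hκ : ∀ c : S.residueField s, ∃ a d : A, ψ d ≠ 0 ∧ ψ d * c = ψ a := by
      intro c
      obtain ⟨z, rfl⟩ := Ideal.Quotient.mk_surjective c
      let _ := TopCat.Presheaf.algebra_section_stalk S.presheaf ⟨s, hsU⟩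
      have hloc := hU.isLocalization_stalk ⟨s, hsU⟩
      obtain ⟨⟨a, d⟩, had⟩ := IsLocalization.surj (hU.primeIdealOf ⟨s, hsU⟩).asIdeal.primeCompl z
      have hd : IsUnit (algebraMap A (S.presheaf.stalk s) d) :=
        IsLocalization.map_units (S.presheaf.stalk s) d
      refine ⟨a, d, ?_, ?_⟩
      · exact ((hd.map (S.residue s).hom)).ne_zero
      · have := congrArg (S.residue s).hom had
        rw [map_mul, mul_comm] at this
        exact this
    apply IsPreimmersion.mk_SpecMap
    · exact Topology.IsEmbedding.of_subsingleton _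
    · apply RingHom.surjectiveOnStalks_of_exists_div
      intro y
      have hy : y ∈ Submodule.span (S.residueField s) (Set.range x) := by rw [hx]; trivial
      induction hy using Submodule.span_induction with
      | mem y hy =>
        obtain ⟨i, rfl⟩ := hy
        exact ⟨MvPolynomial.X i, 1, by simp, by simp [φ]⟩
      | zero => exact ⟨0, 1, by simp, by simp⟩
      | add y₁ y₂ _ _ h₁ h₂ =>
        obtain ⟨r₁, s₁, hu₁, e₁⟩ := h₁
        obtain ⟨r₂, s₂, hu₂, e₂⟩ := h₂
        refine ⟨r₁ * s₂ + r₂ * s₁, s₁ * s₂, by simpa using hu₁.mul hu₂, ?_⟩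
        simp only [CommRingCat.hom_ofHom, map_mul, map_add] at e₁ e₂ ⊢
        rw [← e₁, ← e₂]; ring
      | smul c y _ h =>
        obtain ⟨r, s₁, hu, e⟩ := h
        obtain ⟨a, d, hd, had⟩ := hκ c
        refine ⟨MvPolynomial.C a * r, MvPolynomial.C d * s₁, ?_, ?_⟩
        · simp only [CommRingCat.hom_ofHom, map_mul]
          refine IsUnit.mul ?_ hu
          simp only [φ, MvPolynomial.coe_eval₂Hom, MvPolynomial.eval₂_C, RingHom.comp_apply]
          exact (isUnit_iff_ne_zero.mpr hd).map _
        · simp only [CommRingCat.hom_ofHom, map_mul] at e ⊢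
          rw [← e]
          simp only [φ, MvPolynomial.coe_eval₂Hom, MvPolynomial.eval₂_C, RingHom.comp_apply]
          rw [← had, map_mul, Algebra.smul_def]; ring
  · rw [Scheme.fromSpecResidueField, ← hU.fromSpecStalk_eq_fromSpecStalk hsU,
      IsAffineOpen.fromSpecStalk, ← Spec.map_comp_assoc, ← Spec.map_comp_assoc,
      ← Spec.map_comp_assoc]
    congr 2
    ext a
    simp [φ, ψ]

end Groth.Agent.S14678
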