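import Groth.Statements.S14688
import Mathlib
import Groth.Agent.R2.H90NormalTorsor
import Groth.Agent.R2.H90SekSuwaPts

set_option autoImplicit false
universe u
open CategoryTheory AlgebraicGeometry
open SekSuwa

namespace Groth.Agent.S14688

/-- Let R be a discrete valuation ring of characteristic zero and residue characteristic p, n ≥ 1, λ ∈ R
satisfying the divisibility condition under which the finite flat R-group scheme G_{λ,n} (the kernel
of ψ on the one-parameter group with law s + t + λst, of order p^n) and its homomorphism α^{λ,n} to
μ_{p^n} are defined, and X a normal integral scheme which is faithfully flat over Spec R. If an fppf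
torsor P over X under G_{λ,n} becomes trivial after extension of the structure group along α^{λ,n} —
there is an fppf μ_{p^n}-torsor P' over X with an α^{λ,n}-equivariant X-morphism P → P', and P' has
a section over X — then P has a section over X. So H¹(X, G_{λ,n}) → H¹(X, μ_{p^n}) has trivial
kernel, and the groups H¹(X, G_{π^i,n}) for decreasing i form an increasing filtration of H¹(X,
μ_{p^n}). (The published statement is the filtration itself, for the commutative groups in question
injectivity of these homomorphisms; the trivial-kernel assertion stated here is what the argument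
establishes.) -/
theorem result (R : Type u) [CommRing R] [IsDomain R] [IsDiscreteValuationRing R] [CharZero R]
    (p : ℕ) [Fact p.Prime] [CharP (IsLocalRing.ResidueField R) p]
    (n : ℕ) (hn : 0 < n) (lam : R) (h : SekSuwa.DivCond lam (p ^ n))
    (X : Scheme.{u}) [IsIntegral X] (hX : Pi1.IsNormalScheme X)
    (f : X ⟶ Spec (CommRingCat.of R)) [Flat f] [Surjective f]
    (P : Over X) (a : AlgGrp.Action (Red.bc f (SekSuwa.GK R lam (p ^ n) h)) P)
    (hP : NonAbH1.IsTorsorFor Scheme.fppfPrecoverage a)
    (P' : Over X) (a' : AlgGrp.Action (Red.bc f (Red.diag R (ZMod (p ^ n)))) P')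
    (hP' : NonAbH1.IsTorsorFor Scheme.fppfPrecoverage a')
    (hpush : NonAbH1.IsPushforwardAlongSch ((Over.pullback f).map (SekSuwa.alphaN R lam (p ^ n) h)) a a')
    (htriv : NonAbH1.HasSectionOver P' (𝟙 X)) :
    NonAbH1.HasSectionOver P (𝟙 X) := by
  have hN : 0 < p ^ n := pow_pos (Fact.out : p.Prime).pos n
  -- `G_{λ,n}` is finite over `R`, hence so is its base change to `X`
  have hfin0 : IsFinite (SekSuwa.GK R lam (p ^ n) h).hom := by
    have := Groth.Agent.Lib.Helper24GKFree.finite hN h
    change IsFinite (Spec.map (CommRingCat.ofHom (algebraMap R (SekSuwa.AK R lam (p ^ n) h))))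
    rw [IsFinite.SpecMap_iff]
    simpa [RingHom.finite_algebraMap]
  have hfin : IsFinite (Red.bc f (SekSuwa.GK R lam (p ^ n) h)).hom := by
    change IsFinite (Limits.pullback.snd (SekSuwa.GK R lam (p ^ n) h).hom f)
    infer_instance
  have hmon : IsMonHom ((Over.pullback f).map (SekSuwa.alphaN R lam (p ^ n) h)) := inferInstance
  refine Groth.Agent.R2.H90.NormalTorsor.section_of_pushforward hX _ _
    ((Over.pullback f).map (SekSuwa.alphaN R lam (p ^ n) h)) ?_ P a hP P' a' hP'.1 hpush htriv
  intro T₀
  apply Groth.Agent.R2.H90.TorsorPts.pullback_map_comp_bijective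
  apply Groth.Agent.R2.H90.SekSuwaPts.comp_alphaN_bijective R lam (p ^ n) h hN
  exact Groth.Agent.R2.H90.SekSuwaPts.isUnit_Phi_generic f lam h.nzd T₀

end Groth.Agent.S14688
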