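import Groth.Statements.S14691
import Groth.Agent.S7782

set_option linter.style.haveILetI false

set_option autoImplicit false
universe u
open CategoryTheory AlgebraicGeometry
open SekSuwa

namespace Groth.Agent.S14691

namespace Aux

open CategoryTheory.Limits MonoidalCategory CartesianMonoidalCategory MonObj GrpObj

/-- If `m` kills the identity of `X` then `m` kills every `Ext` group out of `X`. -/
theorem ext_nsmul_eq_zero {C : Type*} [Category C] [Abelian C] [HasExt C] {X Y : C} {n : ℕ}
    (m : ℕ) (h : m • 𝟙 X = 0) (x : Abelian.Ext X Y n) : m • x = 0 := by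
  have h0 : m • Abelian.Ext.mk₀ (𝟙 X) = 0 := by
    have := map_nsmul (Abelian.Ext.addEquiv₀ (X := X) (Y := X)).symm m (𝟙 X)
    rw [Abelian.Ext.addEquiv₀_symm_apply, Abelian.Ext.addEquiv₀_symm_apply, h,
      Abelian.Ext.mk₀_zero] at this
    exact this.symm
  have h1 : (Abelian.Ext.bilinearComp X X Y 0 n n (zero_add n)) (Abelian.Ext.mk₀ (𝟙 X)) x = x :=
    Abelian.Ext.mk₀_id_comp x
  have h2 := congrArg (fun f => f x)
    (map_nsmul (Abelian.Ext.bilinearComp X X Y 0 n n (zero_add n)) m (Abelian.Ext.mk₀ (𝟙 X)))
  simp only [AddMonoidHom.smul_apply] at h2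
  rw [h0, h1, map_zero, AddMonoidHom.zero_apply] at h2
  exact h2.symm

variable {S : Scheme.{u}} (K : Precoverage Scheme.{u}) [(QuotSh.J K S).Subcanonical]

/-- If every point of the commutative group scheme `G` is killed by `m`, then `m` kills the
identity of the sheaf of points of `G`. -/
theorem nsmul_id_pts (G : Over S) [GrpObj G] [IsCommMonObj G] (m : ℕ)
    (h : ∀ (T : Over S) (g : T ⟶ G), g ^ m = 1) : m • 𝟙 (CGrpSh.pts K G) = 0 := by
  apply (sheafToPresheaf (QuotSh.J K S) AddCommGrpCat.{u+1}).map_injective
  rw [Functor.map_nsmul, Functor.map_zero]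
  ext T x
  rw [NatTrans.app_nsmul, NatTrans.app_zero]
  change (m • AddCommGrpCat.Hom.hom (𝟙 ((CGrpSh.pts K G).obj.obj T))) x = 0
  rw [AddMonoidHom.smul_apply]
  change m • x = 0
  apply ULift.ext
  change m • x.down = 0
  have h1 := h T.unop x.down.toMul
  have h2 : Additive.ofMul (x.down.toMul ^ m) = m • x.down := rfl
  rw [← h2, h1]
  rfl

end Aux

/-- Let R be a discrete valuation ring of characteristic zero and residue characteristic p, and G a
commutative finite flat R-group scheme of order m (finite locally free of degree m over Spec R).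
Then the endomorphism of Ext¹(G, 𝔾_m) induced by the m-th power map of the multiplicative group —
that is, multiplication by m on this group — is zero. Here Ext¹ is taken between the abelian sheaves
of points of G and of the split multiplicative group on the big fppf site of Spec R. (The published
statement is made under a standing assumption that R contains a primitive p²-th root of unity; this
row does not assume it, the argument not using it.) -/
theorem result (R : Type u) [CommRing R] [IsDomain R] [IsDiscreteValuationRing R] [CharZero R]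
    (p : ℕ) [Fact p.Prime] [CharP (IsLocalRing.ResidueField R) p]
    (G : Over (Spec (CommRingCat.of R))) [GrpObj G] [IsCommMonObj G]
    (m : ℕ) (hG : Mor2.IsFinLocFreeOfDeg m G.hom)
    (x : CGrpSh.ExtS Scheme.fppfPrecoverage G (Red.diag R ℤ) 1) : m • x = 0 := by
  obtain ⟨⟨h1, h2, h3⟩, hr⟩ := hG
  haveI := h1
  haveI := h2
  haveI := h3
  exact Aux.ext_nsmul_eq_zero m
    (Aux.nsmul_id_pts Scheme.fppfPrecoverage G m
      (fun T g => Groth.Agent.S7782.result G m hr T g)) x

end Groth.Agent.S14691
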