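import Groth.Statements.S14695
import Mathlib
import Groth.Agent.S13152
import Groth.Agent.R2.H90TorsorPts

set_option autoImplicit false
universe u
open CategoryTheory AlgebraicGeometry
open NonAbH1

namespace Groth.Agent.S14695

/-- In the case where the morphism Y → X is the identity of X: let X be a normal integral scheme
(integral, with every local ring an integrally closed domain), G and G' X-group schemes which are
finite and flat over X, and g : G → G' a homomorphism which becomes an isomorphism after base change
to the spectrum of the function field of X. If an fppf G-torsor P over X becomes trivial after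
extension of the structure group along g — there is an fppf G'-torsor P' over X with a g-equivariant
X-morphism P → P', and P' has a section over X — then P has a section over X. (The published
statement takes G, G' commutative and all schemes Noetherian, allows also composition with the
pull-back along a morphism Y → X admitting a rational section, and is phrased as injectivity of
H¹(X, G) → H¹(Y, G'_Y); this row is the case where Y → X is the identity of X, as the trivial-kernel
assertion the argument establishes, for which commutativity and the Noetherian condition are not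
needed.) -/
theorem result {X : Scheme.{u}} [IsIntegral X]
    (hX : Pi1.IsNormalScheme X) (G G' : Over X) [GrpObj G] [GrpObj G']
    [IsFinite G.hom] [Flat G.hom] [IsFinite G'.hom] [Flat G'.hom]
    (g : G ⟶ G') [IsMonHom g]
    (hg : IsIso ((Over.pullback (X.fromSpecStalk (genericPoint X))).map g))
    (P : Over X) (a : AlgGrp.Action G P) (hP : NonAbH1.IsTorsorFor Scheme.fppfPrecoverage a)
    (P' : Over X) (a' : AlgGrp.Action G' P') (hP' : NonAbH1.IsTorsorFor Scheme.fppfPrecoverage a')
    (hpush : NonAbH1.IsPushforwardAlongSch g a a') (htriv : NonAbH1.HasSectionOver P' (𝟙 X)) :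
    NonAbH1.HasSectionOver P (𝟙 X) := by
  refine Groth.Agent.S13152.result hX G P a hP ?_
  obtain ⟨f, hf⟩ := hpush
  obtain ⟨σ, hσ⟩ := htriv
  let σ' : MonoidalCategory.tensorUnit (Over X) ⟶ P' := Over.homMk σ hσ
  -- `P → X` is finite
  have hfin : IsFinite P.hom := by
    obtain ⟨hpt, R', hR', hsec⟩ := hP
    exact (Groth.Agent.S18860.result a
      ⟨hpt, R', Scheme.fppfPrecoverage_le_fpqcPrecoverage _ hR', hsec⟩).2.2.1 inferInstance
  -- `P` has a point over the generic point
  have hne : ∃ y : P.left, P.hom y = genericPoint X := by
    obtain ⟨-, R', hR', hsec⟩ := hP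
    obtain ⟨I, V, φ, rfl⟩ := Presieve.exists_eq_ofArrows R'
    rw [Scheme.fppfPrecoverage, Scheme.ofArrows_mem_precoverage_iff] at hR'
    obtain ⟨i, v, hv⟩ := hR'.1 (genericPoint X)
    obtain ⟨s, hs⟩ := hsec (φ i) ⟨i⟩
    refine ⟨s v, ?_⟩
    rw [← Scheme.Hom.comp_apply, hs, hv]
  -- the generic fibre of `P` is an fpqc cover of the generic point
  set j := X.fromSpecStalk (genericPoint X) with hj
  have hflat : Flat (Limits.pullback.snd P.hom j) :=
    Groth.Agent.R2.H90.TorsorPts.flat_of_isField (Field.toIsField X.functionField) _
  have hsurj : Surjective (Limits.pullback.snd P.hom j) := by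
    obtain ⟨y, hy⟩ := hne
    have hcl : j (IsLocalRing.closedPoint (X.presheaf.stalk (genericPoint X))) = genericPoint X :=
      Scheme.fromSpecStalk_closedPoint
    obtain ⟨z, -, hz⟩ := Scheme.Pullback.exists_preimage_pullback (f := P.hom) (g := j) y
      (IsLocalRing.closedPoint (X.presheaf.stalk (genericPoint X))) (hy.trans hcl.symm)
    constructor
    intro w
    have : Subsingleton (Spec (X.presheaf.stalk (genericPoint X))) := by
      show Subsingleton (PrimeSpectrum X.functionField)
      infer_instance
    exact ⟨z, Subsingleton.elim _ _⟩
  have hqc : QuasiCompact (Limits.pullback.snd P.hom j) := inferInstance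
  obtain ⟨z, hz⟩ := Groth.Agent.R2.H90.TorsorPts.exists_point_of_pushforward j g a a' f hg
    hP.1 hP'.1 hf σ'
  exact ⟨z, hz⟩

end Groth.Agent.S14695
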