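import Groth.Statements.S14783
import Groth.Agent.R2.H68Subtr

set_option autoImplicit false
universe u
open CategoryTheory CategoryTheory.Limits AlgebraicGeometry
open Subtr

namespace Groth.Agent.S14783

/-- Let f : S' ⟶ S be a quasi-compact morphism of schemes every base change of which has the lifting
property for ordered pairs of points, and E ⊆ S any subset. For E to be both locally closed and
retrocompact it is necessary and sufficient that f⁻¹(E) be both. -/
theorem result {S' S : Scheme.{u}} (f : S' ⟶ S)
    [QuasiCompact f] (hf : Subtr.UnivSSubtrusive f) (E : Set S) :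
    (IsLocallyClosed E ∧ IsRetrocompact E) ↔
      (IsLocallyClosed (f ⁻¹' E) ∧ IsRetrocompact (f ⁻¹' E)) := by
  have hsub : Subtr.IsSSubtrusive f := hf (𝟙 S') (𝟙 S) f IsPullback.of_id_snd
  haveI : Surjective f := ⟨fun y => by
    obtain ⟨x, x', -, hx, -⟩ := hsub (specializes_rfl : y ⤳ y)
    exact ⟨x, hx⟩⟩
  constructor
  · rintro ⟨h1, h2⟩
    have hpro :=
      Groth.Agent.R2.H68.Subtr.isProConstructible_of_isLocallyClosed_of_isRetrocompact S h1 h2
    have hpro' := Groth.Agent.Lib.Helper5.isProConstructible_preimage f E hpro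
    exact ⟨h1.preimage f.continuous,
      Groth.Agent.R2.H68.Subtr.isRetrocompact_of_isProConstructible S' hpro'⟩
  · rintro ⟨h1, h2⟩
    have hpro' :=
      Groth.Agent.R2.H68.Subtr.isProConstructible_of_isLocallyClosed_of_isRetrocompact S' h1 h2
    have hpro : ProCons.IsProConstructible E :=
      ((Groth.Agent.S4586.result f (Or.inl inferInstance) E).2.1).2 hpro'
    exact ⟨Groth.Agent.R2.H68.Subtr.isLocallyClosed_of_preimage f hf E hpro h1,
      Groth.Agent.R2.H68.Subtr.isRetrocompact_of_isProConstructible S hpro⟩

end Groth.Agent.S14783
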