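import Groth.Statements.S14796
import Groth.Agent.R2.H68WSCb

set_option autoImplicit false
universe u
open CategoryTheory CategoryTheory.Limits AlgebraicGeometry
open Subtr

namespace Groth.Agent.S14796

open TensorProduct Groth.Agent.R2.H68.WSCb

theorem aux_cond {A A' : Type u} [CommRing A] [CommRing A'] [Algebra A A']
    (hA' : (∃ M : Submonoid A, IsLocalization M A') ∨ Algebra.Etale A A') :
    Module.Flat A A' ∧
      (∀ (B : Type u) [CommRing B] [Algebra A B],
        Function.Surjective (TensorProduct.toIntegralClosure A A' B)) ∧
      (∀ (R : Type u) [CommRing R] [Algebra A R] [IsReduced R], IsReduced (A' ⊗[A] R)) := by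
  rcases hA' with ⟨M, hM⟩ | hE
  · refine ⟨IsLocalization.flat A' M, ?_, ?_⟩
    · intro B _ _
      exact (TensorProduct.toIntegralClosure_bijective_of_isLocalization M).2
    · intro R _ _ _
      let _ := Algebra.TensorProduct.rightAlgebra (R := A) (A := A') (B := R)
      have : IsLocalization (Algebra.algebraMapSubmonoid R M) (A' ⊗[A] R) :=
        IsLocalization.tensorRight A' M
      exact isReduced_localizationPreserves (Algebra.algebraMapSubmonoid R M) (A' ⊗[A] R)
        inferInstance
  · refine ⟨inferInstance, ?_, ?_⟩
    · intro B _ _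
      exact (TensorProduct.toIntegralClosure_bijective_of_smooth).2
    · intro R _ _ _
      have h1 : IsReduced (R ⊗[A] A') :=
        Groth.Agent.Lib.Helper3.EtRed.isReduced_of_etale R (R ⊗[A] A')
      exact isReduced_of_injective (Algebra.TensorProduct.comm A A' R).toAlgHom
        (Algebra.TensorProduct.comm A A' R).injective

/-- Let A ⊆ B be a ring extension and A ⟶ A' a ring map that is a localization or étale; put B' = A' ⊗_A
B. Let C ⊆ B be the weak subintegral closure of A in B and C' ⊆ B' that of A' in B' (each the
largest subalgebra whose spectrum maps to the base by a universal homeomorphism, characterised here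
by that maximality). Then C' is the image of A' ⊗_A C ⟶ A' ⊗_A B: the weak subintegral closure
commutes with such base changes. -/
theorem result {A B A' : Type u} [CommRing A] [CommRing B]
    [CommRing A'] [Algebra A B] [Algebra A A'] (hinj : Function.Injective (algebraMap A B))
    (hA' : (∃ M : Submonoid A, IsLocalization M A') ∨ Algebra.Etale A A')
    (C : Subalgebra A B) (hC : FlatMor.IsUnivHomeo (Spec.map (CommRingCat.ofHom (algebraMap A C))))
    (hmax : ∀ D : Subalgebra A B, FlatMor.IsUnivHomeo (Spec.map (CommRingCat.ofHom (algebraMap A D))) → D ≤ C)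
    (C' : Subalgebra A' (TensorProduct A A' B)) (hC' : FlatMor.IsUnivHomeo (Spec.map (CommRingCat.ofHom (algebraMap A' C'))))
    (hmax' : ∀ D : Subalgebra A' (TensorProduct A A' B), FlatMor.IsUnivHomeo (Spec.map (CommRingCat.ofHom (algebraMap A' D))) → D ≤ C') :
    (C' : Set (TensorProduct A A' B)) =
      Set.range (Algebra.TensorProduct.map (AlgHom.id A A') C.val) := by
  obtain ⟨hflat, hic, hred⟩ := aux_cond hA'
  apply Set.Subset.antisymm
  · intro c' hc'
    exact mem_range_of_mem A B A' (hic B) hred hinj C hmax C' hC' c' hc'
  · rintro _ ⟨y, rfl⟩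
    have h1 := isUnivHomeo_range_map A B A' C hC
    have h2 := hmax' _ h1
    apply h2
    exact ⟨y, rfl⟩

end Groth.Agent.S14796
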