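import Groth.Statements.S1481
import Groth.Agent.Lib.Helper6ValRing

set_option autoImplicit false
universe u
open FlatMor

namespace Groth.Agent.S1481

open AlgebraicGeometry CategoryTheory Limits Topology

/-- a closed subset intersected with a fibre of a continuous map from a quasi-sober space to a
T0 space is quasi-sober. -/
theorem quasiSober_closed_inter_fibre {α β : Type*} [TopologicalSpace α] [TopologicalSpace β]
    [QuasiSober α] [T0Space β] (φ : α → β) (hφ : Continuous φ) (A : Set α) (hA : IsClosed A)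
    (b : β) : QuasiSober ↥(A ∩ φ ⁻¹' {b}) := by
  constructor
  intro C hCirr hCcl
  set C' : Set α := Subtype.val '' C with hC'
  have hC'irr : IsIrreducible C' := hCirr.image _ continuous_subtype_val.continuousOn
  obtain ⟨c, hc⟩ := QuasiSober.sober hC'irr.closure isClosed_closure
  have hcA : c ∈ A := by
    have h1 : closure C' ⊆ A := by
      apply closure_minimal _ hA
      rintro _ ⟨w, _, rfl⟩
      exact w.2.1
    exact h1 (hc.mem)
  obtain ⟨w, hw⟩ := hCirr.nonempty
  have hcw : c ⤳ w.1 := hc.specializes (subset_closure ⟨w, hw, rfl⟩)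
  have h1 : φ c ⤳ b := by
    have := hcw.map hφ
    rwa [show φ w.1 = b from w.2.2] at this
  have h2 : b ⤳ φ c := by
    rw [specializes_iff_mem_closure]
    have h3 : φ '' closure C' ⊆ closure (φ '' C') := image_closure_subset_closure_image hφ
    have h4 : φ '' C' ⊆ {b} := by
      rintro _ ⟨_, ⟨v, _, rfl⟩, rfl⟩
      exact v.2.2
    exact closure_mono h4 (h3 ⟨c, hc.mem, rfl⟩)
  have hcb : φ c = b := (h1.antisymm h2).eq
  refine ⟨⟨c, hcA, hcb⟩, ?_⟩
  show closure {(⟨c, hcA, hcb⟩ : ↥(A ∩ φ ⁻¹' {b}))} = C
  rw [IsInducing.subtypeVal.closure_eq_preimage_closure_image, Set.image_singleton, hc.def,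
    ← IsInducing.subtypeVal.closure_eq_preimage_closure_image, hCcl.closure_eq]

/-- in a quasi-sober space every point has a generization which is the generic point of an
irreducible component. -/
theorem exists_generic_generization {α : Type*} [TopologicalSpace α] [QuasiSober α] (p : α) :
    ∃ q : α, q ⤳ p ∧ ∃ C ∈ irreducibleComponents α, IsGenericPoint q C := by
  obtain ⟨q, hq⟩ := QuasiSober.sober (isIrreducible_irreducibleComponent (x := p))
    isClosed_irreducibleComponent
  refine ⟨q, ?_, irreducibleComponent p, irreducibleComponent_mem_irreducibleComponents p, hq⟩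
  exact hq.specializes mem_irreducibleComponent

/-- a generization of the generic point of an irreducible component is that point. -/
theorem eq_of_specializes_generic {α : Type*} [TopologicalSpace α] [T0Space α] {x z : α}
    {C : Set α} (hC : C ∈ irreducibleComponents α) (hx : IsGenericPoint x C) (hz : z ⤳ x) :
    z = x := by
  have h1 : C ⊆ closure {z} := by
    rw [← hx.def]
    exact closure_minimal (Set.singleton_subset_iff.2 (specializes_iff_mem_closure.1 hz))
      isClosed_closure
  have h2 : closure {z} ⊆ C := hC.2 isIrreducible_singleton.closure h1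
  have h3 : x ⤳ z := by
    rw [specializes_iff_mem_closure, hx.def]
    exact h2 (subset_closure rfl)
  exact (hz.antisymm h3).eq


open AlgebraicGeometry CategoryTheory Limits in
/-- Let f : X → S, y a point of X with image t, Y the closure of y, s a point of S and x a point of Y
over s which is generic in an irreducible component of the fibre of Y over s (fibres as subspaces).
Then there are a valuation ring R and a morphism g : Spec R → S sending the generic point to t and
the closed point to s, such that, writing X' for the base change with projections g' : X' → X and f'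
: X' → Spec R, there is a point y' of X' over the generic point with g' y' = y which is generic in
an irreducible component of the generic fibre of g'⁻¹(Y), and a point x' in the closure of y' over
the closed point with g' x' = x which is generic in an irreducible component of the special fibre of
the closure of y'. -/
theorem result {X S : Scheme.{u}} (f : X ⟶ S) (y : X) (s : S) (x : X)
    (hx : x ∈ closure ({y} : Set ↑X)) (hxs : f x = s)
    (hgen : ∃ C ∈ irreducibleComponents ↑(closure ({y} : Set ↑X) ∩ f ⁻¹' {s}), IsGenericPoint (⟨x, hx, hxs⟩ : ↑(closure ({y} : Set ↑X) ∩ f ⁻¹' {s})) C) :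
    ∃ (R : Type u) (_ : CommRing R) (_ : IsDomain R) (_ : ValuationRing R) (g : Spec (CommRingCat.of R) ⟶ S),
      g (⊥ : PrimeSpectrum R) = f y ∧ g (IsLocalRing.closedPoint R) = s ∧
      ∃ (y' : ↑(pullback f g)) (hy't : pullback.snd f g y' = (⊥ : PrimeSpectrum R)) (hy'Y : pullback.fst f g y' ∈ closure ({y} : Set ↑X)),
        pullback.fst f g y' = y ∧
        (∃ C ∈ irreducibleComponents ↑((pullback.fst f g) ⁻¹' closure ({y} : Set ↑X) ∩ (pullback.snd f g) ⁻¹' {(⊥ : PrimeSpectrum R)}),
          IsGenericPoint (⟨y', hy'Y, hy't⟩ : ↑((pullback.fst f g) ⁻¹' closure ({y} : Set ↑X) ∩ (pullback.snd f g) ⁻¹' {(⊥ : PrimeSpectrum R)})) C) ∧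
        ∃ (x' : ↑(pullback f g)) (hx' : x' ∈ closure ({y'} : Set ↑(pullback f g))) (hx's : pullback.snd f g x' = IsLocalRing.closedPoint R),
          pullback.fst f g x' = x ∧
          ∃ C ∈ irreducibleComponents ↑(closure ({y'} : Set ↑(pullback f g)) ∩ (pullback.snd f g) ⁻¹' {IsLocalRing.closedPoint R}),
            IsGenericPoint (⟨x', hx', hx's⟩ : ↑(closure ({y'} : Set ↑(pullback f g)) ∩ (pullback.snd f g) ⁻¹' {IsLocalRing.closedPoint R})) C := by
  have hyx : y ⤳ x := specializes_iff_mem_closure.2 hx
  obtain ⟨A, ι, hι0, hιK⟩ :=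
    Groth.Agent.Lib.Helper6.ValRing.exists_valuationRing_of_specializes hyx
  -- generic point goes to y
  have hιη : ι (⊥ : PrimeSpectrum A) = y := by
    have hgen : (Spec.map (CommRingCat.ofHom (algebraMap A (X.residueField y))))
        (IsLocalRing.closedPoint (X.residueField y) : PrimeSpectrum (X.residueField y)) =
        (⊥ : PrimeSpectrum A) := by
      apply PrimeSpectrum.ext
      show Ideal.comap (algebraMap A (X.residueField y))
        (IsLocalRing.closedPoint (X.residueField y)).asIdeal = ⊥
      have : (IsLocalRing.closedPoint (X.residueField y)).asIdeal = ⊥ := Ideal.eq_bot_of_prime _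
      rw [this, ← RingHom.ker_eq_comap_bot]
      exact (RingHom.injective_iff_ker_eq_bot _).mp
        (IsFractionRing.injective A (X.residueField y))
    rw [← hgen, ← Scheme.Hom.comp_apply, hιK]
    exact Scheme.fromSpecResidueField_apply y _
  set g : Spec (CommRingCat.of A) ⟶ S := ι ≫ f with hg
  let σ : Spec (CommRingCat.of A) ⟶ pullback f g :=
    pullback.lift ι (𝟙 _) (by rw [Category.id_comp])
  have hσ1 : σ ≫ pullback.fst f g = ι := pullback.lift_fst _ _ _
  have hσ2 : σ ≫ pullback.snd f g = 𝟙 _ := pullback.lift_snd _ _ _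
  refine ⟨A, inferInstance, inferInstance, inferInstance, g, ?_, ?_, ?_⟩
  · rw [hg, Scheme.Hom.comp_apply, hιη]
  · rw [hg, Scheme.Hom.comp_apply, hι0, hxs]
  -- the first point
  set y₀ : ↑(pullback f g) := σ (⊥ : PrimeSpectrum A) with hy₀
  set x₀ : ↑(pullback f g) := σ (IsLocalRing.closedPoint A) with hx₀
  have hy₀1 : pullback.fst f g y₀ = y := by
    rw [hy₀, ← Scheme.Hom.comp_apply, hσ1, hιη]
  have hy₀2 : pullback.snd f g y₀ = (⊥ : PrimeSpectrum A) := by
    rw [hy₀, ← Scheme.Hom.comp_apply, hσ2]; rfl
  have hx₀1 : pullback.fst f g x₀ = x := by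
    rw [hx₀, ← Scheme.Hom.comp_apply, hσ1, hι0]
  have hx₀2 : pullback.snd f g x₀ = IsLocalRing.closedPoint A := by
    rw [hx₀, ← Scheme.Hom.comp_apply, hσ2]; rfl
  have hy₀x₀ : y₀ ⤳ x₀ := by
    apply Specializes.map _ σ.continuous
    exact (PrimeSpectrum.le_iff_specializes (⊥ : PrimeSpectrum A) (IsLocalRing.closedPoint A)).mp
      bot_le
  -- W1
  have hcl1 : IsClosed ((pullback.fst f g) ⁻¹' closure ({y} : Set ↑X)) :=
    isClosed_closure.preimage (pullback.fst f g).continuous
  have : QuasiSober ↥((pullback.fst f g) ⁻¹' closure ({y} : Set ↑X) ∩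
      (pullback.snd f g) ⁻¹' {(⊥ : PrimeSpectrum A)}) :=
    quasiSober_closed_inter_fibre _ (pullback.snd f g).continuous _ hcl1 _
  have hy₀W : y₀ ∈ (pullback.fst f g) ⁻¹' closure ({y} : Set ↑X) ∩
      (pullback.snd f g) ⁻¹' {(⊥ : PrimeSpectrum A)} := by
    refine ⟨?_, hy₀2⟩
    show pullback.fst f g y₀ ∈ closure {y}
    rw [hy₀1]; exact subset_closure rfl
  obtain ⟨⟨y', hy'Y, hy't⟩, hq1, C1, hC1, hC1gen⟩ :=
    exists_generic_generization (⟨y₀, hy₀W⟩ : ↥((pullback.fst f g) ⁻¹' closure ({y} : Set ↑X) ∩
      (pullback.snd f g) ⁻¹' {(⊥ : PrimeSpectrum A)}))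
  have hy'y₀ : y' ⤳ y₀ := by
    have := hq1.map continuous_subtype_val
    exact this
  have hfsty' : pullback.fst f g y' = y := by
    have h1 : pullback.fst f g y' ⤳ y := by
      have := hy'y₀.map (pullback.fst f g).continuous
      rwa [hy₀1] at this
    have h2 : y ⤳ pullback.fst f g y' := specializes_iff_mem_closure.2 hy'Y
    exact (h1.antisymm h2).eq
  refine ⟨y', hy't, hy'Y, hfsty', ⟨C1, hC1, hC1gen⟩, ?_⟩
  -- W2
  have hy'x₀ : y' ⤳ x₀ := hy'y₀.trans hy₀x₀
  have : QuasiSober ↥(closure ({y'} : Set ↑(pullback f g)) ∩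
      (pullback.snd f g) ⁻¹' {IsLocalRing.closedPoint A}) :=
    quasiSober_closed_inter_fibre _ (pullback.snd f g).continuous _ isClosed_closure _
  have hx₀W : x₀ ∈ closure ({y'} : Set ↑(pullback f g)) ∩
      (pullback.snd f g) ⁻¹' {IsLocalRing.closedPoint A} :=
    ⟨specializes_iff_mem_closure.1 hy'x₀, hx₀2⟩
  obtain ⟨⟨x', hx', hx's⟩, hq2, C2, hC2, hC2gen⟩ :=
    exists_generic_generization (⟨x₀, hx₀W⟩ : ↥(closure ({y'} : Set ↑(pullback f g)) ∩
      (pullback.snd f g) ⁻¹' {IsLocalRing.closedPoint A}))
  have hx'x₀ : x' ⤳ x₀ := hq2.map continuous_subtype_val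
  refine ⟨x', hx', hx's, ?_, C2, hC2, hC2gen⟩
  -- fst x' = x
  obtain ⟨C, hC, hCgen⟩ := hgen
  have hm1 : pullback.fst f g x' ∈ closure ({y} : Set ↑X) := by
    have h1 : y' ⤳ x' := specializes_iff_mem_closure.2 hx'
    have h2 := h1.map (pullback.fst f g).continuous
    rw [hfsty'] at h2
    exact specializes_iff_mem_closure.1 h2
  have hm2 : f (pullback.fst f g x') = s := by
    rw [← Scheme.Hom.comp_apply, pullback.condition, Scheme.Hom.comp_apply, hx's, hg,
      Scheme.Hom.comp_apply, hι0, hxs]
  have hz : (⟨pullback.fst f g x', hm1, hm2⟩ : ↥(closure ({y} : Set ↑X) ∩ f ⁻¹' {s})) ⤳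
      ⟨x, hx, hxs⟩ := by
    rw [subtype_specializes_iff]
    show pullback.fst f g x' ⤳ x
    have := hx'x₀.map (pullback.fst f g).continuous
    rwa [hx₀1] at this
  have := eq_of_specializes_generic hC hCgen hz
  exact congrArg Subtype.val this

end Groth.Agent.S1481
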