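import Groth.Statements.S1483
import Groth.Agent.R2.H22FibCritSch
import Groth.Agent.S1393
import Groth.Agent.Lib.Helper6LfpComp

set_option autoImplicit false
set_option linter.style.haveILetI false
universe u
open FlatMor

namespace Groth.Agent.S1483

open AlgebraicGeometry CategoryTheory Limits in
/-- Fibrewise flatness criterion (critère de platitude par fibres), pointwise equivalence for a module:
let f : X → Y and g : Y → S be morphisms of schemes with X locally of finite presentation over S
(via g ∘ f) and Y locally of finite type over S, F a finitely presented quasi-coherent O_X-module,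
and x a point of X with images y = f(x) and s = g(y) at which the stalk F_x is nonzero. The
following are equivalent: (a) F is flat over S at x and F_x / 𝔪_s F_x is flat over O_{Y,y} / 𝔪_s
O_{Y,y}; (b) the morphism g is flat at the point y and F is Y-flat at x. The published statement
also asserts that the locus of such x is open in the support of F; that is not restated here (the
companion statement for F = O_X carries it). -/
theorem result {X Y S : Scheme.{u}} (f : X ⟶ Y) (g : Y ⟶ S) [LocallyOfFinitePresentation (f ≫ g)] [LocallyOfFiniteType g]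
    (F : X.Modules) (hq : Coh.IsQCoh F) (hfp : CohB1.IsFP F) (x : X) (hx : Nontrivial ↑(F.presheaf.stalk x)) :
    letI := FlatMod.moduleStalkOver f F x
    (FlatMod.IsFlatOverAt (f ≫ g) F x ∧
      Module.Flat (↑(Y.presheaf.stalk (f x)) ⧸ Ideal.map (g.stalkMap (f x)).hom (IsLocalRing.maximalIdeal ↑(S.presheaf.stalk (g (f x)))))
        (↑(F.presheaf.stalk x) ⧸ (Ideal.map (g.stalkMap (f x)).hom (IsLocalRing.maximalIdeal ↑(S.presheaf.stalk (g (f x)))) •
          (⊤ : Submodule ↑(Y.presheaf.stalk (f x)) ↑(F.presheaf.stalk x))))) ↔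
    ((g.stalkMap (f x)).hom.Flat ∧ FlatMod.IsFlatOverAt f F x) := by
  classical
  haveI : F.IsQuasicoherent := hq
  haveI : SheafOfModules.IsFinitePresentation (R := X.ringCatSheaf) F := hfp
  haveI := Groth.Agent.S1393.finitePresentation_stalk F x
  haveI hflfp : LocallyOfFinitePresentation f :=
    Groth.Agent.Lib.Helper6.locallyOfFinitePresentation_of_comp (g := g) inferInstance inferInstance
  letI algRS : Algebra (S.presheaf.stalk (g (f x))) (Y.presheaf.stalk (f x)) :=
    (g.stalkMap (f x)).hom.toAlgebra
  letI algSS' : Algebra (Y.presheaf.stalk (f x)) (X.presheaf.stalk x) := (f.stalkMap x).hom.toAlgebra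
  letI algRS' : Algebra (S.presheaf.stalk (g (f x))) (X.presheaf.stalk x) :=
    ((f ≫ g).stalkMap x).hom.toAlgebra
  have hcomp : ∀ r, ((f ≫ g).stalkMap x).hom r = (f.stalkMap x).hom ((g.stalkMap (f x)).hom r) := by
    intro r
    rw [Scheme.Hom.stalkMap_comp]
    rfl
  haveI : IsScalarTower (S.presheaf.stalk (g (f x))) (Y.presheaf.stalk (f x)) (X.presheaf.stalk x) :=
    IsScalarTower.of_algebraMap_eq hcomp
  letI modS : Module (Y.presheaf.stalk (f x)) (F.presheaf.stalk x) := FlatMod.moduleStalkOver f F x
  letI modR : Module (S.presheaf.stalk (g (f x))) (F.presheaf.stalk x) :=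
    FlatMod.moduleStalkOver (f ≫ g) F x
  haveI : IsScalarTower (Y.presheaf.stalk (f x)) (X.presheaf.stalk x) (F.presheaf.stalk x) :=
    ⟨fun r s y => by
      change ((f.stalkMap x).hom r * s) • y = (f.stalkMap x).hom r • (s • y)
      rw [mul_smul]⟩
  haveI : IsScalarTower (S.presheaf.stalk (g (f x))) (X.presheaf.stalk x) (F.presheaf.stalk x) :=
    ⟨fun r s y => by
      change (((f ≫ g).stalkMap x).hom r * s) • y = ((f ≫ g).stalkMap x).hom r • (s • y)
      rw [mul_smul]⟩
  haveI : IsScalarTower (S.presheaf.stalk (g (f x))) (Y.presheaf.stalk (f x)) (F.presheaf.stalk x) :=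
    ⟨fun r s y => by
      change (f.stalkMap x).hom ((g.stalkMap (f x)).hom r * s) • y =
        ((f ≫ g).stalkMap x).hom r • ((f.stalkMap x).hom s • y)
      rw [map_mul, mul_smul]
      exact congrArg (fun t => t • ((f.stalkMap x).hom s • y)) (hcomp r).symm⟩
  haveI : IsLocalHom (algebraMap (S.presheaf.stalk (g (f x))) (Y.presheaf.stalk (f x))) :=
    inferInstanceAs (IsLocalHom (g.stalkMap (f x)).hom)
  haveI : IsLocalHom (algebraMap (Y.presheaf.stalk (f x)) (X.presheaf.stalk x)) :=
    inferInstanceAs (IsLocalHom (f.stalkMap x).hom)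
  have hess : CAlgX.IsEssFinitePresentation (Y.presheaf.stalk (f x)) (X.presheaf.stalk x) :=
    Groth.Agent.R2.H22.EssStalk.essFP_stalkMap f x
  constructor
  · rintro ⟨h1, h2⟩
    haveI : Module.Flat (S.presheaf.stalk (g (f x))) (F.presheaf.stalk x) := h1
    exact Groth.Agent.R2.H22.FibCritSch.fibre_criterion_local hess h2
  · rintro ⟨hg, hf⟩
    haveI : Module.Flat (S.presheaf.stalk (g (f x))) (Y.presheaf.stalk (f x)) := hg
    haveI : Module.Flat (Y.presheaf.stalk (f x)) (F.presheaf.stalk x) := hf
    refine ⟨?_, ?_⟩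
    · exact Module.Flat.trans (S.presheaf.stalk (g (f x))) (Y.presheaf.stalk (f x))
        (F.presheaf.stalk x)
    · exact Groth.Agent.R2.H22.FibCritSch.flat_quotient_of_flat _

end Groth.Agent.S1483
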