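import Groth.Statements.S14845
-- import your own Groth.Agent.* helpers here

set_option autoImplicit false
open CategoryTheory CategoryTheory.Limits AlgebraicGeometry
universe u
open HilbD

namespace Groth.Agent.S14845

section aux

variable {X S : Scheme.{u}} (f : X ⟶ S)

/-- The graph section `(g₀, id) : T ⟶ X ×_S T`. -/
noncomputable def sec (T : Over S) (g₀ : T.left ⟶ X) (hg : g₀ ≫ f = T.hom) :
    T.left ⟶ PicF.XT f T :=
  pullback.lift g₀ (𝟙 T.left) (by simpa using hg)

@[reassoc (attr := simp)]
lemma sec_fst (T : Over S) (g₀ : T.left ⟶ X) (hg : g₀ ≫ f = T.hom) :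
    sec f T g₀ hg ≫ pullback.fst f T.hom = g₀ :=
  pullback.lift_fst _ _ _

@[reassoc (attr := simp)]
lemma sec_snd (T : Over S) (g₀ : T.left ⟶ X) (hg : g₀ ≫ f = T.hom) :
    sec f T g₀ hg ≫ pullback.snd f T.hom = 𝟙 _ :=
  pullback.lift_snd _ _ _

lemma XTmap_fst {T T' : Over S} (g : T' ⟶ T) :
    PicF.XTmap f g ≫ pullback.fst f T.hom = pullback.fst f T'.hom := by
  unfold PicF.XTmap
  exact (pullback.lift_fst _ _ _).trans (Category.comp_id _)

lemma XTmap_snd {T T' : Over S} (g : T' ⟶ T) :
    PicF.XTmap f g ≫ pullback.snd f T.hom = pullback.snd f T'.hom ≫ g.left := by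
  unfold PicF.XTmap
  exact pullback.lift_snd _ _ _

lemma XTmap_fst' {T' : Over S} (g : T' ⟶ Over.mk f) :
    PicF.XTmap f g ≫ pullback.fst f f = pullback.fst f T'.hom := XTmap_fst f g

lemma XTmap_snd' {T' : Over S} (g : T' ⟶ Over.mk f) :
    PicF.XTmap f g ≫ pullback.snd f f = pullback.snd f T'.hom ≫ g.left := XTmap_snd f g

lemma diag_fst : pullback.diagonal f ≫ pullback.fst f f = 𝟙 X := pullback.lift_fst _ _ _

lemma diag_snd : pullback.diagonal f ≫ pullback.snd f f = 𝟙 X := pullback.lift_snd _ _ _

/-- On the scheme-theoretic image of the diagonal the two projections agree. -/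
lemma diag_imageι_fst_eq_snd [IsSeparated f] :
    (pullback.diagonal f).ker.subschemeι ≫ pullback.fst f f =
      (pullback.diagonal f).ker.subschemeι ≫ pullback.snd f f := by
  rw [← cancel_epi (pullback.diagonal f).toImage]
  have h : (pullback.diagonal f).toImage ≫ (pullback.diagonal f).ker.subschemeι =
      pullback.diagonal f := (pullback.diagonal f).toImage_imageι
  rw [← Category.assoc, ← Category.assoc, h, diag_fst, diag_snd]

/-- The base change of the diagonal along `X_T ⟶ X ×_S X` is the graph of `g₀`. -/
lemma pull_diag_ker [IsSeparated f] (T : Over S) (g₀ : T.left ⟶ X) (hg : g₀ ≫ f = T.hom) :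
    HilbD.pull f (Over.homMk g₀ hg : T ⟶ Over.mk f) (pullback.diagonal f).ker =
      (sec f T g₀ hg).ker := by
  set g : T ⟶ Over.mk f := Over.homMk g₀ hg with hgdef
  set d := pullback.diagonal f with hd
  set σ := sec f T g₀ hg with hσ
  have hgl : g.left = g₀ := rfl
  let q := pullback.snd d.ker.subschemeι (PicF.XTmap f g)
  -- key compatibility
  have hcomp : (g₀ ≫ d.toImage) ≫ d.ker.subschemeι = σ ≫ PicF.XTmap f g := by
    have h : d.toImage ≫ d.ker.subschemeι = d := d.toImage_imageι
    rw [Category.assoc, h]
    apply pullback.hom_ext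
    · rw [Category.assoc, Category.assoc, diag_fst, XTmap_fst', Category.comp_id, sec_fst]
    · rw [Category.assoc, Category.assoc, diag_snd, XTmap_snd', Category.comp_id, sec_snd_assoc, hgl]
  have hq : q ≫ pullback.fst f T.hom = q ≫ pullback.snd f T.hom ≫ g₀ := by
    have hc : pullback.fst d.ker.subschemeι (PicF.XTmap f g) ≫ d.ker.subschemeι =
        q ≫ PicF.XTmap f g := pullback.condition
    have h1 : q ≫ pullback.fst f T.hom =
        pullback.fst d.ker.subschemeι (PicF.XTmap f g) ≫ d.ker.subschemeι ≫ pullback.fst f f := by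
      rw [← Category.assoc, hc, Category.assoc, XTmap_fst']
    have h2 : q ≫ pullback.snd f T.hom ≫ g₀ =
        pullback.fst d.ker.subschemeι (PicF.XTmap f g) ≫ d.ker.subschemeι ≫ pullback.snd f f := by
      rw [← Category.assoc (pullback.fst d.ker.subschemeι (PicF.XTmap f g)), hc, Category.assoc,
        XTmap_snd', hgl]
    rw [h1, h2, diag_imageι_fst_eq_snd]
  -- the isomorphism `T ≅ P`
  let e : T.left ⟶ pullback d.ker.subschemeι (PicF.XTmap f g) :=
    pullback.lift (g₀ ≫ d.toImage) σ hcomp
  have heq : e ≫ q = σ := pullback.lift_snd _ _ _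
  have hqσ : q ≫ pullback.snd f T.hom ≫ σ = q := by
    apply pullback.hom_ext
    · rw [Category.assoc, Category.assoc, sec_fst, hq]
    · rw [Category.assoc, Category.assoc, sec_snd, Category.comp_id]
  haveI : IsIso e := by
    refine ⟨q ≫ pullback.snd f T.hom, ?_, ?_⟩
    · rw [← Category.assoc, heq, sec_snd]
    · rw [← cancel_mono q, Category.assoc, Category.assoc, heq, hqσ, Category.id_comp]
  show q.ker = σ.ker
  rw [← heq, Scheme.Hom.ker_comp_of_isIso]

instance isClosedImmersion_sec [IsSeparated f] (T : Over S) (g₀ : T.left ⟶ X)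
    (hg : g₀ ≫ f = T.hom) : IsClosedImmersion (sec f T g₀ hg) := by
  haveI : IsClosedImmersion (sec f T g₀ hg ≫ pullback.snd f T.hom) := by
    rw [sec_snd]; infer_instance
  exact IsClosedImmersion.of_comp (sec f T g₀ hg) (pullback.snd f T.hom)

end aux


/-- For a separated morphism f : X → S, the Hilbert functor of one point of X over S is represented by X
with the diagonal as universal family: the diagonal of X ×_S X (the graph of the identity section of
X over itself) is a closed subscheme finite locally free of degree 1 over X, and every closed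
subscheme of X ×_S T which is finite locally free of degree 1 over T is its base change along a
unique S-morphism T → X. (The published statement takes S Noetherian, f locally of finite type and
the Hilbert functor on locally Noetherian S-schemes with flat proper families of Hilbert polynomial
1; this row uses the functor of families finite locally free of degree 1 on all S-schemes, for which
the same argument applies without Noetherian hypotheses.) -/
theorem result {X S : Scheme.{u}} (f : X ⟶ S) [IsSeparated f] :
    ∃ Δ : HilbD.Obj f 1 (Over.mk f),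
      Δ.1 = HilbD.secGraph f (Over.mk f) (𝟙 X) (Category.id_comp f) ∧
      HilbD.IsUniversal f 1 (Over.mk f) Δ := by
  have hΔeq : HilbD.secGraph f (Over.mk f) (𝟙 X) (Category.id_comp f) =
      (pullback.diagonal f).ker := rfl
  have hB : (pullback.diagonal f).ker.subschemeι ≫ pullback.snd f f =
      inv (pullback.diagonal f).toImage := by
    apply IsIso.eq_inv_of_hom_inv_id
    have h : (pullback.diagonal f).toImage ≫ (pullback.diagonal f).ker.subschemeι =
        pullback.diagonal f := (pullback.diagonal f).toImage_imageι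
    rw [← Category.assoc, h, diag_snd]
  have hiso : IsIso ((pullback.diagonal f).ker.subschemeι ≫ PicF.XTproj f (Over.mk f)) := by
    show IsIso ((pullback.diagonal f).ker.subschemeι ≫ pullback.snd f f)
    rw [hB]; infer_instance
  have hdeg : Mor2.IsFinLocFreeOfDeg 1
      ((pullback.diagonal f).ker.subschemeι ≫ PicF.XTproj f (Over.mk f)) := by
    refine ⟨⟨inferInstance, inferInstance, inferInstance⟩, fun y => ?_⟩
    rw [Scheme.Hom.finrank_eq_one_of_isIso]; rfl
  refine ⟨⟨(pullback.diagonal f).ker, hdeg⟩, hΔeq.symm, ?_⟩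
  intro T Z'
  obtain ⟨I', hI'⟩ := Z'
  let p := I'.subschemeι ≫ PicF.XTproj f T
  haveI : IsFinite p := hI'.1.1
  haveI : Flat p := hI'.1.2.1
  haveI : LocallyOfFinitePresentation p := hI'.1.2.2
  haveI : IsIso p := (Scheme.Hom.isIso_iff_finrank_eq p).2 (funext fun y => hI'.2 y)
  let g₀ : T.left ⟶ X := inv p ≫ I'.subschemeι ≫ pullback.fst f T.hom
  have hg : g₀ ≫ f = T.hom := by
    have h1 : I'.subschemeι ≫ pullback.fst f T.hom ≫ f = p ≫ T.hom := by
      rw [pullback.condition]; rfl
    simp only [g₀, Category.assoc]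
    rw [h1, IsIso.inv_hom_id_assoc]
  have hσ : sec f T g₀ hg = inv p ≫ I'.subschemeι := by
    apply pullback.hom_ext
    · rw [sec_fst, Category.assoc]
    · rw [sec_snd, Category.assoc]
      exact (IsIso.inv_hom_id p).symm
  have hkerσ : (sec f T g₀ hg).ker = I' := by
    rw [hσ, Scheme.Hom.ker_comp_of_isIso, Scheme.IdealSheafData.ker_subschemeι]
  refine ⟨Over.homMk g₀ hg, ?_, ?_⟩
  · show HilbD.pull f (Over.homMk g₀ hg : T ⟶ Over.mk f) (pullback.diagonal f).ker = I'
    rw [pull_diag_ker, hkerσ]
  · intro g' hg'
    have hg'w : g'.left ≫ f = T.hom := Over.w g'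
    have hg'eq : g' = Over.homMk g'.left hg'w := by ext; rfl
    have hg'' : HilbD.pull f (Over.homMk g'.left hg'w : T ⟶ Over.mk f)
        (pullback.diagonal f).ker = I' := by rw [← hg'eq]; exact hg'
    rw [pull_diag_ker] at hg''
    have hker : (sec f T g₀ hg).ker ≤ (sec f T g'.left hg'w).ker := by rw [hg'', hkerσ]
    let l := IsClosedImmersion.lift (sec f T g₀ hg) (sec f T g'.left hg'w) hker
    have hl : l ≫ sec f T g₀ hg = sec f T g'.left hg'w := IsClosedImmersion.lift_fac _ _ _
    have hl1 : l = 𝟙 _ := by
      have := congrArg (· ≫ pullback.snd f T.hom) hl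
      simpa only [Category.assoc, sec_snd, Category.comp_id] using this
    have hleft : g'.left = g₀ := by
      rw [← sec_fst f T g'.left hg'w, ← hl, hl1, Category.id_comp, sec_fst]
    rw [hg'eq]
    ext
    exact hleft

end Groth.Agent.S14845
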