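import Groth.Statements.S14875
import Mathlib

set_option autoImplicit false
universe u v
open PLie

namespace Groth.Agent.S14875


section Helpers

variable {k : Type u} [Field k] {L : Type v} [LieRing L] [LieAlgebra k L] [Module.Finite k L]

theorem ad_iterate {p : ℕ} [CharP k p] (φ : PLie.PMap k p L) (n : ℕ) (x : L) :
    LieAlgebra.ad k L (φ.toFun^[n] x) = (LieAlgebra.ad k L x) ^ (p ^ n) := by
  induction n generalizing x with
  | zero => simp
  | succ n ih =>
    rw [Function.iterate_succ_apply, ih, φ.ad_map, ← pow_mul, pow_succ']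

theorem isNilpotent_ad_of_isPNilpotent {p : ℕ} [CharP k p] (φ : PLie.PMap k p L) (x : L)
    (hx : PLie.IsPNilpotent φ x) : IsNilpotent (LieAlgebra.ad k L x) := by
  obtain ⟨n, hn⟩ := hx
  refine ⟨p ^ n, ?_⟩
  rw [← ad_iterate, hn, map_zero]

/-- an ideal `U` of `H` consisting of ad-nilpotent elements is Killing-orthogonal to `H` -/
theorem killingForm_eq_zero_of_nil (U H : LieSubalgebra k L)
    (hUH : ∀ h ∈ H, ∀ u ∈ U, ⁅h, u⁆ ∈ U)
    (hnil : ∀ u ∈ U, IsNilpotent (LieAlgebra.ad k L u)) (h : L) (hh : h ∈ H) (x : L)
    (hx : x ∈ U) : killingForm k L h x = 0 := by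
  haveI : LieModule.IsNilpotent ↥U L := by
    rw [LieModule.isNilpotent_iff_forall' (R := k)]
    intro u
    exact hnil u u.2
  obtain ⟨m, hm⟩ := LieModule.IsNilpotent.nilpotent k ↥U L
  -- (a)
  have ha : ∀ i : ℕ, ∀ v ∈ LieModule.lowerCentralSeries k ↥U L i, ∀ u ∈ U,
      ⁅u, v⁆ ∈ LieModule.lowerCentralSeries k ↥U L (i + 1) := by
    intro i v hv u hu
    rw [LieModule.lowerCentralSeries_succ]
    exact LieSubmodule.lie_mem_lie (LieSubmodule.mem_top (⟨u, hu⟩ : ↥U)) hv
  -- (b)
  have hb : ∀ i : ℕ, ∀ v ∈ LieModule.lowerCentralSeries k ↥U L i, ∀ h ∈ H,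
      ⁅h, v⁆ ∈ LieModule.lowerCentralSeries k ↥U L i := by
    intro i
    induction i with
    | zero =>
      intro v _ h _
      simp
    | succ i ih =>
      intro v hv h hh
      rw [LieModule.lowerCentralSeries_succ, ← LieSubmodule.mem_toSubmodule,
        LieSubmodule.lieIdeal_oper_eq_linear_span'] at hv
      induction hv using Submodule.span_induction with
      | mem w hw =>
        obtain ⟨u, -, n, hn, rfl⟩ := hw
        have e : ⁅h, ⁅(u : L), n⁆⁆ = ⁅⁅h, (u : L)⁆, n⁆ + ⁅(u : L), ⁅h, n⁆⁆ := by
          rw [leibniz_lie]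
        change ⁅h, ⁅(u : L), n⁆⁆ ∈ _
        rw [e]
        exact add_mem (ha i n hn _ (hUH h hh u u.2)) (ha i _ (ih n hn h hh) u u.2)
      | zero => simp
      | add a b _ _ ha' hb' => rw [lie_add]; exact add_mem ha' hb'
      | smul c a _ ha' => rw [lie_smul]; exact Submodule.smul_mem _ c ha'
  -- (c)
  have hc : ∀ j : ℕ, ∀ v : L, ((LieAlgebra.ad k L h ∘ₗ LieAlgebra.ad k L x) ^ j) v ∈
      LieModule.lowerCentralSeries k ↥U L j := by
    intro j
    induction j with
    | zero => intro v; simp
    | succ j ih =>
      intro v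
      rw [pow_succ', Module.End.mul_apply]
      exact hb (j + 1) _ (ha j _ (ih v) x hx) h hh
  have hnilp : IsNilpotent (LieAlgebra.ad k L h ∘ₗ LieAlgebra.ad k L x) := by
    refine ⟨m, LinearMap.ext fun v => ?_⟩
    have := hc m v
    rw [hm] at this
    simpa using this
  rw [killingForm_apply_apply]
  exact (LinearMap.isNilpotent_trace_of_isNilpotent hnilp).eq_zero

end Helpers

/-- Let `L` be a finite-dimensional Lie algebra over a field of characteristic `p` equipped with a
`p`-mapping `φ`, whose Killing form is non-degenerate. Let `U` and `H` be Lie subalgebras of `L`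
such that `H` is the normaliser of `U`, `U` is the set of elements of `H` that lie in the solvable
radical of `H` and are `p`-nilpotent, and the orthogonal of `U` for the Killing form is closed under
the bracket. Then `U` is the orthogonal of `H` for the Killing form. (The published statement is for
the Lie algebra of a reductive group over a field of characteristic `p` with its canonical
`p`-structure; this row states it for any finite-dimensional Lie algebra with a `p`-mapping.) -/
theorem result
    (k : Type u) [Field k] (p : ℕ) [Fact p.Prime] [CharP k p]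
    (L : Type v) [LieRing L] [LieAlgebra k L] [Module.Finite k L]
    (φ : PLie.PMap k p L) (hκ : (killingForm k L).Nondegenerate)
    (U H : LieSubalgebra k L) (hH : H = U.normalizer)
    (hU : ∀ x : L, x ∈ U ↔ ∃ hx : x ∈ H, (⟨x, hx⟩ : ↥H) ∈ LieAlgebra.radical k ↥H ∧ PLie.IsPNilpotent φ x)
    (hperp : ∀ a b : L, (∀ y ∈ U, killingForm k L a y = 0) → (∀ y ∈ U, killingForm k L b y = 0) →
      ∀ y ∈ U, killingForm k L ⁅a, b⁆ y = 0) :
    ∀ x : L, x ∈ U ↔ ∀ h ∈ H, killingForm k L h x = 0 := by
  intro x
  have hsymm : ∀ a b : L, killingForm k L a b = killingForm k L b a :=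
    fun a b => LieModule.traceForm_comm k L L a b
  have hrefl : (killingForm k L).IsRefl := (LieModule.traceForm_isSymm k L L).isRefl
  constructor
  · intro hx h hh
    refine killingForm_eq_zero_of_nil U H ?_ ?_ h hh x hx
    · intro h hh u hu
      rw [hH, LieSubalgebra.mem_normalizer_iff] at hh
      exact hh u hu
    · intro u hu
      obtain ⟨_, _, hpn⟩ := (hU u).mp hu
      exact isNilpotent_ad_of_isPNilpotent φ u hpn
  · intro hx
    -- P = U^⊥ ⊆ H
    have hPH : ∀ a : L, (∀ y ∈ U, killingForm k L a y = 0) → a ∈ H := by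
      intro a ha
      rw [hH, LieSubalgebra.mem_normalizer_iff]
      intro u hu
      have hmem : ⁅a, u⁆ ∈ (killingForm k L).orthogonal
          ((killingForm k L).orthogonal U.toSubmodule) := by
        rw [LinearMap.BilinForm.mem_orthogonal_iff]
        intro b hb
        rw [LinearMap.BilinForm.mem_orthogonal_iff] at hb
        have hb' : ∀ y ∈ U, killingForm k L b y = 0 := fun y hy => by
          rw [hsymm]; exact hb y hy
        have := hperp b a hb' ha u hu
        rwa [LieModule.traceForm_apply_lie_apply] at this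
      rw [LinearMap.BilinForm.orthogonal_orthogonal hκ hrefl] at hmem
      exact hmem
    have hmem : x ∈ (killingForm k L).orthogonal
        ((killingForm k L).orthogonal U.toSubmodule) := by
      rw [LinearMap.BilinForm.mem_orthogonal_iff]
      intro b hb
      rw [LinearMap.BilinForm.mem_orthogonal_iff] at hb
      exact hx b (hPH b (fun y hy => by rw [hsymm]; exact hb y hy))
    rw [LinearMap.BilinForm.orthogonal_orthogonal hκ hrefl] at hmem
    exact hmem

end Groth.Agent.S14875
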