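import Groth.Statements.S14885
import Mathlib

set_option autoImplicit false
universe u v
open CategoryTheory TopologicalSpace Opposite AlgebraicGeometry Topology
open AlgGrp

namespace Groth.Agent.S14885


/-- lifting a ring map through an injective ring map whose range contains its image -/
theorem exists_lift_of_injective {A B C : CommRingCat.{u}} (ι : B ⟶ C) (hι : Function.Injective ι)
    (φ : A ⟶ C) (h : ∀ a, φ a ∈ Set.range ι) : ∃ ψ : A ⟶ B, ψ ≫ ι = φ := by
  classical
  choose g hg using h
  have hadd : ∀ a b, g (a + b) = g a + g b := fun a b => hι (by rw [map_add, hg, hg, hg, map_add])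
  have hmul : ∀ a b, g (a * b) = g a * g b := fun a b => hι (by rw [map_mul, hg, hg, hg, map_mul])
  have hone : g 1 = 1 := hι (by rw [hg, map_one, map_one])
  have hzero : g 0 = 0 := hι (by rw [hg, map_zero, map_zero])
  refine ⟨CommRingCat.ofHom ⟨⟨⟨g, hone⟩, hmul⟩, hzero, hadd⟩, ?_⟩
  ext a
  exact hg a

/-- Let a group Γ act on a ringed space X (a topological space with a sheaf of rings) by automorphisms
τ_g, and let π : X → Y be a Γ-invariant morphism of ringed spaces which exhibits Y as the quotient
ringed space X/Γ: the underlying continuous map of π is a topological quotient map whose fibres are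
exactly the Γ-orbits, and for every open subset V of Y the ring map O_Y(V) → O_X(π⁻¹V) is injective
with image the sections s satisfying τ_g^♯(s) = s for all g. Then (Y, π) is a categorical quotient
for the action in the category of ringed spaces: every morphism of ringed spaces f : X → Z with f ∘
τ_g = f for all g (as morphisms of ringed spaces) factors uniquely as f = f̄ ∘ π. -/
theorem result (X Y : SheafedSpace CommRingCat.{u}) (Γ : Type v) [Group Γ]
    (τ : Γ →* Aut X) (π : X ⟶ Y) (hτ : ∀ g : Γ, (τ g).hom ≫ π = π)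
    (h1 : IsQuotientMap π.hom.base)
    (h2 : ∀ x x' : X, π.hom.base x = π.hom.base x' ↔ ∃ g : Γ, (τ g).hom.hom.base x = x')
    (h3 : ∀ V : Opens Y, Function.Injective (π.hom.c.app (op V)) ∧
      Set.range (π.hom.c.app (op V)) =
        {s | ∀ g : Γ, (τ g).hom.hom.c.app (op ((Opens.map π.hom.base).obj V)) s =
          X.presheaf.map (eqToHom (congrArg (fun f : X ⟶ Y => op ((Opens.map f.hom.base).obj V)) (hτ g).symm)) s})
    (Z : SheafedSpace CommRingCat.{u}) (f : X ⟶ Z) (hf : ∀ g : Γ, (τ g).hom ≫ f = f) :
    ∃! fbar : Y ⟶ Z, π ≫ fbar = f := by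
  classical
  -- the base map
  obtain ⟨fb, hcomp⟩ : ∃ fb : (Y : TopCat) ⟶ (Z : TopCat), π.hom.base ≫ fb = f.hom.base := by
    have hfac : Function.FactorsThrough f.hom.base π.hom.base := by
      intro x x' hxx'
      obtain ⟨g, rfl⟩ := (h2 x x').mp hxx'
      have := congrArg (fun φ : X ⟶ Z => φ.hom.base x) (hf g)
      exact this.symm
    refine ⟨TopCat.ofHom (h1.lift f.hom.base.hom hfac), ?_⟩
    ext x
    exact congrArg (fun φ : C(X, Z) => φ x) (h1.lift_comp f.hom.base.hom hfac)
  obtain ⟨⟨fbase, fc⟩⟩ := f
  dsimp only at hcomp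
  subst hcomp
  -- the sheaf part, objectwise
  have hlift : ∀ W : (Opens Z)ᵒᵖ, ∃ ψ : Z.presheaf.obj W ⟶
      Y.presheaf.obj (op ((Opens.map fb).obj W.unop)),
      ψ ≫ π.hom.c.app (op ((Opens.map fb).obj W.unop)) = fc.app W := by
    intro W
    refine exists_lift_of_injective _ (h3 _).1 _ (fun s => ?_)
    rw [(h3 _).2]
    intro g
    have h4 := SheafedSpace.congr_hom_app (hf g) W
    rw [SheafedSpace.comp_hom_c_app] at h4
    have h5 := congrArg (fun φ => φ.hom s) h4
    exact h5
  choose ψ hψ using hlift
  have hmono : ∀ V : Opens Y, Mono (π.hom.c.app (op V)) :=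
    fun V => ConcreteCategory.mono_of_injective _ (h3 V).1
  let cbar : Z.presheaf ⟶ fb _* Y.presheaf :=
    { app := ψ
      naturality := by
        intro W W' i
        haveI := hmono ((Opens.map fb).obj W'.unop)
        rw [← cancel_mono (π.hom.c.app (op ((Opens.map fb).obj W'.unop))), Category.assoc, hψ,
          Category.assoc]
        have nat1 := π.hom.c.naturality ((Opens.map fb).op.map i)
        have nat2 := fc.naturality i
        erw [nat1, ← Category.assoc, hψ, nat2]
        rfl }
  let fbar : Y ⟶ Z := InducedCategory.homMk ⟨fb, cbar⟩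
  refine ⟨fbar, ?_, ?_⟩
  · have hc : (π ≫ fbar).hom.c = fc := by
      refine NatTrans.ext (funext fun W => ?_)
      exact hψ W
    change (InducedCategory.homMk ⟨π.hom.base ≫ fb, (π ≫ fbar).hom.c⟩ : X ⟶ Z) = _
    rw [hc]
    rfl
  · intro fbar' hfbar'
    obtain ⟨⟨fb', c'⟩⟩ := fbar'
    have hb : π.hom.base ≫ fb' = π.hom.base ≫ fb :=
      congrArg (fun φ : X ⟶ Z => φ.hom.base) hfbar'
    have hbb : fb' = fb := by
      ext y
      obtain ⟨x, rfl⟩ := h1.surjective y
      exact congrArg (fun φ : (X : TopCat) ⟶ (Z : TopCat) => φ x) hb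
    subst hbb
    have hc' : c' = cbar := by
      refine NatTrans.ext (funext fun W => ?_)
      haveI := hmono ((Opens.map fb').obj W.unop)
      rw [← cancel_mono (π.hom.c.app (op ((Opens.map fb').obj W.unop)))]
      have h6 := SheafedSpace.congr_hom_app hfbar' W
      have e3 : ∀ (U V : (Opens X)ᵒᵖ) (h : U = V) (A : CommRingCat) (φ : A ⟶ X.presheaf.obj U),
          φ ≫ X.presheaf.map (eqToHom h) = φ ≫ eqToHom (by rw [h]) := by
        intro U V h A φ
        subst h
        simp
      rw [e3] at h6
      exact h6.trans ((Category.comp_id _).trans (hψ W).symm)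
    rw [hc']
    rfl

end Groth.Agent.S14885
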