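import Groth.Statements.S14896
import Mathlib.RingTheory.Unramified.LocalStructure
import Mathlib.RingTheory.QuasiFinite.Basic

set_option autoImplicit false
universe u
open CAlg

namespace Groth.Agent.S14896

/-- Let L/K be a finite extension of valued fields, v_L extending v_K, with K° = the valuation ring of
v_K having finite spectrum (finite height), and L° the valuation ring of v_L. If L° is local-étale
over K°, i.e. L° is the localization at a prime ideal of some étale K°-algebra B compatibly with the
K°-algebra structures, then L° is étale over K°. (For valued fields of finite height 'unramified' in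
the local-étale sense is thus the same as K° → L° étale; the published lemma phrases the hypothesis
as 'L/K unramified'.) -/
theorem result
    {K L Γ₀ Γ₁ : Type u} [Field K] [Field L] [Algebra K L] [FiniteDimensional K L]
    [LinearOrderedCommGroupWithZero Γ₀] [LinearOrderedCommGroupWithZero Γ₁]
    (vK : Valuation K Γ₀) (vL : Valuation L Γ₁) [vK.HasExtension vL]
    [Finite (PrimeSpectrum vK.valuationSubring)]
    (B : Type u) [CommRing B] [Algebra vK.valuationSubring B] [Algebra.Etale vK.valuationSubring B]
    [Algebra B vL.valuationSubring] [IsScalarTower vK.valuationSubring B vL.valuationSubring]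
    (P : Ideal B) [P.IsPrime] [IsLocalization.AtPrime vL.valuationSubring P] :
    Algebra.Etale vK.valuationSubring vL.valuationSubring := by
  classical
  haveI : Algebra.QuasiFinite vK.valuationSubring B := inferInstance
  haveI : Finite (PrimeSpectrum B) := Algebra.QuasiFinite.finite_primeSpectrum vK.valuationSubring B
  -- choose an element avoiding `P` lying in all primes not contained in `P`
  have hch : ∀ Q : PrimeSpectrum B, ∃ g : B, g ∉ P ∧ (¬ Q.asIdeal ≤ P → g ∈ Q.asIdeal) := by
    intro Q
    by_cases hQ : Q.asIdeal ≤ P
    · exact ⟨1, fun h1 => (inferInstance : P.IsPrime).ne_top ((Ideal.eq_top_iff_one _).mpr h1),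
        fun h => absurd hQ h⟩
    · obtain ⟨g, hgQ, hgP⟩ := Set.not_subset.mp hQ
      exact ⟨g, hgP, fun _ => hgQ⟩
  choose F hFP hFQ using hch
  haveI := Fintype.ofFinite (PrimeSpectrum B)
  set f : B := ∏ Q : PrimeSpectrum B, F Q with hf
  have hfP : f ∉ P := by
    intro h
    obtain ⟨Q, -, hQ⟩ := (Ideal.IsPrime.prod_mem_iff).mp h
    exact hFP Q hQ
  have hle : Submonoid.powers f ≤ P.primeCompl := by
    rintro _ ⟨k, rfl⟩
    exact fun h => hfP ((inferInstance : P.IsPrime).mem_of_pow_mem _ h)
  have hdvd : ∀ n ∈ P.primeCompl, ∃ m ∈ Submonoid.powers f, n ∣ m := by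
    intro n hn
    have hrad : f ∈ (Ideal.span {n}).radical := by
      rw [Ideal.radical_eq_sInf, Ideal.mem_sInf]
      rintro Q ⟨hnQ, hQprime⟩
      have hnQ' : n ∈ Q := hnQ (Ideal.subset_span rfl)
      have hQP : ¬ (⟨Q, hQprime⟩ : PrimeSpectrum B).asIdeal ≤ P := fun h => hn (h hnQ')
      have h1 := hFQ ⟨Q, hQprime⟩ hQP
      exact Q.mem_of_dvd (Finset.dvd_prod_of_mem F (Finset.mem_univ (⟨Q, hQprime⟩ : PrimeSpectrum B))) h1
    obtain ⟨k, hk⟩ := hrad
    exact ⟨f ^ k, ⟨k, rfl⟩, Ideal.mem_span_singleton.mp hk⟩
  haveI : IsLocalization (Submonoid.powers f) vL.valuationSubring :=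
    (IsLocalization.iff_of_le_of_exists_dvd (M := Submonoid.powers f) (S := vL.valuationSubring)
      P.primeCompl hle hdvd).mpr inferInstance
  haveI : IsLocalization.Away f vL.valuationSubring := this
  haveI : Algebra.Etale B vL.valuationSubring := Algebra.Etale.of_isLocalizationAway f
  exact Algebra.Etale.comp vK.valuationSubring B vL.valuationSubring

end Groth.Agent.S14896
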