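import Groth.Statements.S14901
import Groth.Agent.Lib.Helper6OpenDimD
import Groth.Agent.Lib.Helper4DimFormulaAP
import Groth.Agent.Lib.Helper2Constr
import Groth.Agent.Lib.Helper4VarDim9

set_option autoImplicit false
set_option linter.style.haveILetI false
set_option linter.unusedVariables false
universe u
open MovLem

namespace Groth.Agent.S14901

open CategoryTheory CategoryTheory.Limits AlgebraicGeometry

open Groth.Agent.Lib.Helper4.VarDim Groth.Agent.Lib.Helper4.FibDim
  Groth.Agent.Lib.Helper4.DimFormula Topology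

/-- In a Noetherian scheme of finite type over a field, the transcendence degree of a point of a
constructible set is bounded by the dimension of that set. -/
theorem trdegNat_le_dim_of_isConstructible (k : Type u) [Field k] (X : Scheme.{u})
    [X.Over (Spec (CommRingCat.of k))] [LocallyOfFiniteType (X ↘ Spec (CommRingCat.of k))]
    (T : Set X) (hT : IsConstructible T) (x : X) (hx : x ∈ T) :
    ((trdegNat k X x : ℕ) : WithBot ℕ∞) ≤ topologicalKrullDim T := by
  have hYi : IsIrreducible (closure ({x} : Set X)) := isIrreducible_singleton.closure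
  have hd : closure ({x} : Set X) ⊆ closure (T ∩ closure {x}) :=
    closure_mono (Set.singleton_subset_iff.mpr ⟨hx, subset_closure rfl⟩)
  obtain ⟨U, hU, hne, hUT⟩ := Groth.Agent.Lib.Helper2.Constr.exists_open_subset_of_dense hT hYi hd
  have hxU : x ∈ U := by
    obtain ⟨t, htU, htY⟩ := hne
    have : x ⤳ t := specializes_iff_mem_closure.mpr htY
    exact this.mem_open hU htU
  have hlc : IsLocallyClosed (U ∩ closure ({x} : Set X)) :=
    hU.isLocallyClosed.inter isClosed_closure.isLocallyClosed
  exact (trdegNat_le_topologicalKrullDim_of_isLocallyClosed k X _ hlc x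
    ⟨hxU, subset_closure rfl⟩).trans (topologicalKrullDim_mono_set hUT)


open AlgebraicGeometry CategoryTheory in
/-- Let k be a field, let S and X be separated k-schemes of finite type that are locally equidimensional
(all irreducible components passing through a given point have the same dimension), let f : S → X be
a k-morphism and Z ⊆ X a closed subset. Let d be the dimension of the image f(S), as a subspace of
X. If every point s of S with f(s) ∈ Z satisfies dim O_{S,s} ≥ d + 1 (equivalently: the closed
subset f⁻¹(Z) of S has local codimension at least d + 1 at each of its points), then f⁻¹(Z) is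
empty. -/
theorem result (k : Type u) [Field k] (S X : Scheme.{u})
    (pS : S ⟶ Spec (CommRingCat.of k)) (pX : X ⟶ Spec (CommRingCat.of k))
    [IsSeparated pS] [LocallyOfFiniteType pS] [QuasiCompact pS]
    [IsSeparated pX] [LocallyOfFiniteType pX] [QuasiCompact pX]
    (hS : ∀ (s : S) (A B : Set S), A ∈ irreducibleComponents (S : Type u) → B ∈ irreducibleComponents (S : Type u) →
      s ∈ A → s ∈ B → topologicalKrullDim A = topologicalKrullDim B)
    (hX : ∀ (x : X) (A B : Set X), A ∈ irreducibleComponents (X : Type u) → B ∈ irreducibleComponents (X : Type u) →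
      x ∈ A → x ∈ B → topologicalKrullDim A = topologicalKrullDim B)
    (f : S ⟶ X) (hf : f ≫ pX = pS) (Z : Set X) (hZ : IsClosed Z)
    (h : ∀ s : S, f.base s ∈ Z →
      topologicalKrullDim (Set.range f.base) + 1 ≤ ringKrullDim (S.presheaf.stalk s)) :
    f.base ⁻¹' Z = ∅ := by
  letI : S.Over (Spec (CommRingCat.of k)) := ⟨pS⟩
  haveI : LocallyOfFiniteType (S ↘ Spec (CommRingCat.of k)) := ‹LocallyOfFiniteType pS›
  letI : X.Over (Spec (CommRingCat.of k)) := ⟨pX⟩
  haveI : LocallyOfFiniteType (X ↘ Spec (CommRingCat.of k)) := ‹LocallyOfFiniteType pX›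
  have hf' : f ≫ (X ↘ Spec (CommRingCat.of k)) = (S ↘ Spec (CommRingCat.of k)) := hf
  haveI : LocallyOfFiniteType (f ≫ pX) := hf ▸ inferInstance
  haveI : LocallyOfFiniteType f := locallyOfFiniteType_of_comp f pX
  haveI : CompactSpace S := QuasiCompact.compactSpace_of_compactSpace pS
  haveI : CompactSpace X := QuasiCompact.compactSpace_of_compactSpace pX
  haveI : IsLocallyNoetherian S := LocallyOfFiniteType.isLocallyNoetherian pS
  haveI : IsLocallyNoetherian X := LocallyOfFiniteType.isLocallyNoetherian pX
  haveI : IsNoetherian X := {}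
  haveI : IsNoetherian S := {}
  by_contra hne
  obtain ⟨s₀, hs₀⟩ := Set.nonempty_iff_ne_empty.mpr hne
  -- a point of `f⁻¹ Z` of maximal transcendence degree
  obtain ⟨N, hN⟩ := exists_trdegNat_le k S
  set A : Set ℕ := (trdegNat k S) '' (f.base ⁻¹' Z) with hA
  have hAne : A.Nonempty := ⟨_, ⟨s₀, hs₀, rfl⟩⟩
  have hAb : BddAbove A := ⟨N, by rintro _ ⟨s, -, rfl⟩; exact hN s⟩
  obtain ⟨s, hsZ, hsmax⟩ := Nat.sSup_mem hAne hAb
  have hsZ' : f s ∈ Z := hsZ
  have hmax' : ∀ s' : S, f s' ∈ Z → trdegNat k S s' ≤ trdegNat k S s := by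
    intro s' hs'
    rw [hsmax]
    exact le_csSup hAb ⟨s', hs', rfl⟩
  have hmax : ∀ w : S, w ⤳ s → f w ∈ Z → w = s := by
    intro w hw hwZ
    by_contra hws
    have := trdegNat_lt_of_specializes k S w s hw hws
    have := hmax' w hwZ
    omega
  obtain ⟨b, hb⟩ := exists_ringKrullDim_stalk_eq k S s
  have hloc := localDim_eq_add k S s (trdegNat k S s) b (trdeg_eq_trdegNat k S s) hb
  have hfib : FlatMor.fibreDimAt f s = (ptTrdeg f s : WithBot ℕ∞) := by
    obtain ⟨w', hw'1, hw'2, hw'3⟩ := exists_ptTrdeg_eq_fibreDimAt f s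
    have : w' = s := hmax w' hw'2 (by show f w' ∈ Z; rw [show f w' = f s from hw'1]; exact hsZ')
    rw [hw'3, this]
  have hs := h s hsZ'
  rw [hb] at hs
  have hTc : IsConstructible (Set.range f.base) := by
    rw [← Set.image_univ]
    exact Scheme.Hom.isConstructible_image f IsConstructible.univ
  have hrange : ∀ ζ : S, ((trdegNat k X (f ζ) : ℕ) : WithBot ℕ∞) ≤
      topologicalKrullDim (Set.range f.base) := fun ζ =>
    trdegNat_le_dim_of_isConstructible k X _ hTc (f ζ) ⟨ζ, rfl⟩
  generalize hD : topologicalKrullDim (Set.range f.base) = D at hs hrange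
  induction D using WithBot.recBotCoe with
  | bot => simpa using hrange s
  | coe D =>
    induction D using ENat.recTopCoe with
    | top =>
      have h1 : ((⊤ : ℕ∞) : WithBot ℕ∞) + 1 = ((⊤ : ℕ∞) : WithBot ℕ∞) := rfl
      rw [h1] at hs
      have h2 : ((⊤ : ℕ∞) : WithBot ℕ∞) ≤ ((b : ℕ∞) : WithBot ℕ∞) := hs
      rw [WithBot.coe_le_coe] at h2
      simp at h2
    | coe n =>
      have hn1 : n + 1 ≤ b := by exact_mod_cast hs
      have hle : FlatMor.localDim S s ≤ ((trdegNat k S s + n : ℕ) : WithBot ℕ∞) := by
        refine Groth.Agent.Lib.Helper6.OpenDim.localDim_le_of_forall_maximal k S s _ ?_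
        intro ζ hζs _
        have e1 := trdegNat_eq_add_ptTrdeg k f hf' ζ
        have e2 := trdegNat_eq_add_ptTrdeg k f hf' s
        have e3 : ptTrdeg f ζ ≤ ptTrdeg f s := by
          have := (ptTrdeg_le_fibreDimAt f ζ).trans (fibreDimAt_le_of_specializes f ζ s hζs)
          rw [hfib] at this
          exact_mod_cast this
        have e4 : trdegNat k X (f ζ) ≤ n := by exact_mod_cast hrange ζ
        omega
      rw [hloc] at hle
      have : trdegNat k S s + b ≤ trdegNat k S s + n := by exact_mod_cast hle
      omega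

end Groth.Agent.S14901
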