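import Groth.Statements.S14915
import Groth.Agent.R2.H69PerfAffine

set_option autoImplicit false
universe u
open CategoryTheory AlgebraicGeometry
open PerfSch

namespace Groth.Agent.S14915

/-- Let p be a prime and let X, Y, X', Y' be schemes of characteristic p (p = 0 in the structure sheaf).
Let π_X : X' ⟶ X and π_Y : Y' ⟶ Y be perfections: X' is perfect (its absolute Frobenius is an
isomorphism) and every morphism from a perfect scheme of characteristic p to X factors uniquely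
through π_X, and likewise for π_Y. Let f : X ⟶ Y be a morphism and f' : X' ⟶ Y' the induced morphism
of perfections, the one with f' ≫ π_Y = π_X ≫ f. Then f is affine if and only if f' is affine. -/
theorem result (p : ℕ) [Fact p.Prime] {X Y XP YP : Scheme.{u}}
    [FrobSch.IsCharP X p] [FrobSch.IsCharP Y p] [FrobSch.IsCharP XP p] [FrobSch.IsCharP YP p]
    (πX : XP ⟶ X) (πY : YP ⟶ Y) (hX : FrobSch.IsPerfection πX p) (hY : FrobSch.IsPerfection πY p)
    (f : X ⟶ Y) (fP : XP ⟶ YP) (w : fP ≫ πY = πX ≫ f) :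
    AlgebraicGeometry.IsAffineHom f ↔ AlgebraicGeometry.IsAffineHom fP := by
  classical
  obtain ⟨hXint, -, -⟩ := Groth.Agent.Lib.Helper20.Perfection.props_of_isPerfection p πX hX
  obtain ⟨hYint, -, -⟩ := Groth.Agent.Lib.Helper20.Perfection.props_of_isPerfection p πY hY
  haveI : IsAffineHom πX := inferInstance
  haveI : IsAffineHom πY := inferInstance
  constructor
  · intro hf
    haveI : IsAffineHom (fP ≫ πY) := by rw [w]; infer_instance
    exact IsAffineHom.of_comp fP πY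
  · intro hfP
    refine ⟨fun U hU => ?_⟩
    have e : πX ⁻¹ᵁ (f ⁻¹ᵁ U) = fP ⁻¹ᵁ (πY ⁻¹ᵁ U) := by
      rw [← Scheme.Hom.comp_preimage, ← Scheme.Hom.comp_preimage, w]
    have haff : IsAffineOpen (πX ⁻¹ᵁ (f ⁻¹ᵁ U)) := by
      rw [e]
      exact (hU.preimage πY).preimage fP
    haveI : FrobSch.IsCharP (πX ⁻¹ᵁ (f ⁻¹ᵁ U)).toScheme p :=
      FrobSch.IsCharP.of_hom ((πX ⁻¹ᵁ (f ⁻¹ᵁ U)).ι) p
    haveI : FrobSch.IsCharP (f ⁻¹ᵁ U).toScheme p := FrobSch.IsCharP.of_hom ((f ⁻¹ᵁ U).ι) p
    have hres := Groth.Agent.Lib.Helper20.Perfection.isPerfection_restrict p πX hX (f ⁻¹ᵁ U)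
    haveI : IsAffine (πX ⁻¹ᵁ (f ⁻¹ᵁ U)).toScheme := haff
    exact Groth.Agent.R2.H69.PerfAffine.isAffine_of_isPerfection_of_isAffine p hres

end Groth.Agent.S14915
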