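import Groth.Statements.S14979
import Groth.Agent.R2.H33HopfFree
import Groth.Agent.R2.H33HopfFibre
import Groth.Agent.Lib.Helper25FinQuot

set_option autoImplicit false
universe u
open CategoryTheory MonoidalCategory CartesianMonoidalCategory MonObj AlgebraicGeometry
open CoactBr

namespace Groth.Agent.S14979

open Groth.Agent.R2.H33 in
/-- Let `R` be a local commutative ring, `A` a commutative Hopf algebra over `R` which is finite and
flat as an `R`-module (so `G = Spec A` is a finite flat group scheme over `S = Spec R`), and `B` a
commutative `R`-algebra with a coaction of `A` that is an algebra map (an action of `G` on `X = Spec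
B`) whose ring of invariants is `R` itself: the structure map `R → B^A` is bijective, so that `S` is
the quotient `Y = Spec B^A`. Let `K` be a field over `R` in which exactly the maximal ideal of `R`
vanishes and `x : B → K` an `R`-algebra map, a point of `X` over the closed point of `Y`. Then the
action is free — for every scheme `T` over `S`, every `T`-point of `G` fixing a `T`-point of `X` is
the unit — if and only if the inertia group scheme at `x` is trivial: for every `T` over `Spec K`,
every `T`-point of `G` fixing the point of `X` induced by `x` is the unit. (The published statement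
does not say that `G` is finite over `S`; its proof uses it, and it is assumed here.) -/
theorem result
    (R A B K : Type u) [CommRing R] [IsLocalRing R] [CommRing A] [HopfAlgebra R A]
    [Module.Flat R A] [Module.Finite R A]
    [CommRing B] [Algebra R B] [HopfRep.Comod R A B] [GLin.IsCoactAlg R A B]
    (hC : Function.Bijective (algebraMap R (GLin.invariants R A B)))
    [Field K] [Algebra R K] (hK : RingHom.ker (algebraMap R K) = IsLocalRing.maximalIdeal R)
    (x : B →ₐ[R] K) :
    (∀ (T : Over (Spec (CommRingCat.of R))) (ζ : T ⟶ CoactBr.sp R B) (g : T ⟶ CoactBr.sp R A),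
        lift g ζ ≫ (CoactBr.action R A B).act = ζ → g = 1) ↔
      ∀ (T : Over (Spec (CommRingCat.of R))) (h : T ⟶ CoactBr.sp R K) (g : T ⟶ CoactBr.sp R A),
        lift g (h ≫ CoactBr.pt x) ≫ (CoactBr.action R A B).act = h ≫ CoactBr.pt x → g = 1 := by
  constructor
  · intro hfree T h g hg
    exact hfree T (h ≫ pt x) g hg
  · intro hx
    have : Module.Free R A := Module.free_of_flat_of_isLocalRing
    have : Algebra.IsIntegral R (GLin.invariants R A B) := Algebra.isIntegral_of_surjective hC.2
    have : Algebra.IsIntegral (GLin.invariants R A B) B :=
      ⟨fun b => Groth.Agent.Lib.Helper25.isIntegral_invariants b⟩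
    have hint : Algebra.IsIntegral R B := Algebra.IsIntegral.trans (GLin.invariants R A B)
    have hall : ∀ 𝔫 : Ideal B, 𝔫.IsMaximal → ∃ f : B, f ∉ 𝔫 ∧ HopfFree.Triv R A B f := by
      intro 𝔫 h𝔫
      have := h𝔫.isPrime
      apply HopfFree.exists_triv_of_inertia_trivial R A B 𝔫
      intro T h g hg
      refine HopfFibre.inertia_trivial_transfer R A B K 𝔫.ResidueField hC ?_ x
        (IsScalarTower.toAlgHom R B 𝔫.ResidueField) hx T h g hg
      rw [hK, IsScalarTower.algebraMap_eq R B 𝔫.ResidueField, ← RingHom.comap_ker,
        Ideal.ker_algebraMap_residueField]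
      have : (𝔫.comap (algebraMap R B)).IsMaximal :=
        Ideal.isMaximal_comap_of_isIntegral_of_isMaximal 𝔫
      exact (IsLocalRing.eq_maximalIdeal this).symm
    have h1 := HopfFree.triv_one_of_forall_maximal hall
    intro T ζ g hg
    exact HopfFree.free_of_triv_one h1 T ζ g hg

end Groth.Agent.S14979
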