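import Groth.Statements.S14988
import Groth.Agent.Lib.Helper1FLF1
import Groth.Agent.Lib.Helper1Sky9

set_option autoImplicit false
universe u
open CategoryTheory CategoryTheory.Limits AlgebraicGeometry
open ResProp

namespace Groth.Agent.S14988


/-- the functor `Wi ⊗ f^*(-)` -/
noncomputable def GW {X Y : Scheme.{u}} (f : X ⟶ Y) (Wi : X.Modules) : Y.Modules ⥤ X.Modules :=
  Scheme.Modules.pullback f ⋙ (DCoh.tensorBi (X := X)).obj Wi

theorem GW_obj {X Y : Scheme.{u}} (f : X ⟶ Y) (Wi : X.Modules) (P : Y.Modules) :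
    (GW f Wi).obj P = CohB1.tensorMod Wi ((Scheme.Modules.pullback f).obj P) := rfl

instance GW_preserves {X Y : Scheme.{u}} (f : X ⟶ Y) (Wi : X.Modules) :
    PreservesColimitsOfSize.{u, u} (GW f Wi) := by
  haveI : PreservesColimitsOfSize.{u, u} (Scheme.Modules.pullback f) :=
    (Scheme.Modules.pullbackPushforwardAdjunction f).leftAdjoint_preservesColimits
  haveI : PreservesColimitsOfSize.{u, u} ((DCoh.tensorBi (X := X)).obj Wi) :=
    Groth.Agent.Lib.Helper21.ModTensor3.tL_preservesColimits X.sheaf Wi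
  exact comp_preservesColimits _ _

theorem GW_finLocFree {X Y : Scheme.{u}} (f : X ⟶ Y) (Wi : X.Modules)
    (hWi : FlatMod.IsFinLocFree Wi) (P : Y.Modules) (hP : FlatMod.IsFinLocFree P) :
    FlatMod.IsFinLocFree ((GW f Wi).obj P) :=
  Groth.Agent.Lib.Helper1.FLF.isFinLocFree_tensor _ _ hWi
    (Groth.Agent.Lib.Helper1.Sky.isFinLocFree_pullback f _ hP)

attribute [irreducible] GW

/-- the key categorical step -/
theorem key {X Y : Scheme.{u}} (f : X ⟶ Y) {ι : Type u} (W : ι → X.Modules) (M : X.Modules)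
    (κ : Type u) (j : κ → ι) (N : κ → Y.Modules)
    (π : (∐ fun k => (GW f (W (j k))).obj (N k)) ⟶ M) (hπ : Epi π)
    (κ' : κ → Type u) (V : ∀ k, κ' k → Y.Modules) (ρ : ∀ k, (∐ V k) ⟶ N k) (hρ : ∀ k, Epi (ρ k)) :
    ∃ Φ : (∐ fun kl : (Σ k, κ' k) => (GW f (W (j kl.1))).obj (V kl.1 kl.2)) ⟶ M, Epi Φ := by
  refine ⟨Sigma.desc (fun kl => (GW f (W (j kl.1))).map (Sigma.ι (V kl.1) kl.2 ≫ ρ kl.1) ≫
      Sigma.ι (fun k => (GW f (W (j k))).obj (N k)) kl.1 ≫ π), ⟨fun {T} g h hgh => ?_⟩⟩
  rw [← cancel_epi π]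
  refine Sigma.hom_ext _ _ (fun k => ?_)
  haveI : Epi (ρ k) := hρ k
  haveI : Epi ((GW f (W (j k))).map (ρ k)) := inferInstance
  rw [← cancel_epi ((GW f (W (j k))).map (ρ k))]
  refine (isColimitOfPreserves (GW f (W (j k))) (coproductIsCoproduct (V k))).hom_ext ?_
  rintro ⟨l⟩
  have h1 := congrArg (fun φ => Sigma.ι (fun kl : (Σ k, κ' k) =>
    (GW f (W (j kl.1))).obj (V kl.1 kl.2)) ⟨k, l⟩ ≫ φ) hgh
  simp only [Sigma.ι_desc_assoc, Category.assoc] at h1
  simp only [Functor.mapCocone_ι_app, Cofan.mk_ι_app]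
  rw [Functor.map_comp, Category.assoc] at h1
  exact h1


unseal GW in
/-- `key` with the domain of `π` in the form of the statement -/
theorem key' {X Y : Scheme.{u}} (f : X ⟶ Y) {ι : Type u} (W : ι → X.Modules) (M : X.Modules)
    (κ : Type u) (j : κ → ι) (N : κ → Y.Modules)
    (π : (∐ fun k => CohB1.tensorMod (W (j k)) ((Scheme.Modules.pullback f).obj (N k))) ⟶ M)
    (hπ : Epi π)
    (κ' : κ → Type u) (V : ∀ k, κ' k → Y.Modules) (ρ : ∀ k, (∐ V k) ⟶ N k) (hρ : ∀ k, Epi (ρ k)) :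
    ∃ Φ : (∐ fun kl : (Σ k, κ' k) => (GW f (W (j kl.1))).obj (V kl.1 kl.2)) ⟶ M, Epi Φ :=
  key f W M κ j N π hπ κ' V ρ hρ

/-- In the case of schemes, let f : X ⟶ Y be a morphism of quasi-compact quasi-separated schemes. If
every quasi-coherent module on Y is a quotient of a direct sum of finite locally free modules (Y has
the resolution property) and some family (W_i) of finite locally free modules on X is f-generating,
i.e. every quasi-coherent module on X is a quotient of a direct sum of modules W_i ⊗ f^*N with N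
quasi-coherent on Y, then every quasi-coherent module on X is a quotient of a direct sum of finite
locally free modules (X has the resolution property). (The published statement is for quasi-compact
quasi-separated morphisms of algebraic stacks and assumes the family universally f-generating; this
row is the case of schemes and assumes the family only f-generating, which is what the argument
uses.) -/
theorem result {X Y : Scheme.{u}}
    [CompactSpace X] [QuasiSeparatedSpace X] [CompactSpace Y] [QuasiSeparatedSpace Y] (f : X ⟶ Y)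
    (hY : ∀ N : Y.Modules, Coh.IsQCoh N →
      ∃ (κ : Type u) (V : κ → Y.Modules) (π : (∐ V) ⟶ N), (∀ k, FlatMod.IsFinLocFree (V k)) ∧ Epi π)
    {ι : Type u} (W : ι → X.Modules) (hW : ∀ i, FlatMod.IsFinLocFree (W i))
    (hf : ∀ M : X.Modules, Coh.IsQCoh M →
      ∃ (κ : Type u) (j : κ → ι) (N : κ → Y.Modules)
        (π : (∐ fun k => CohB1.tensorMod (W (j k)) ((Scheme.Modules.pullback f).obj (N k))) ⟶ M),
        (∀ k, Coh.IsQCoh (N k)) ∧ Epi π) :
    ∀ M : X.Modules, Coh.IsQCoh M →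
      ∃ (κ : Type u) (E : κ → X.Modules) (π : (∐ E) ⟶ M), (∀ k, FlatMod.IsFinLocFree (E k)) ∧ Epi π := by
  intro M hM
  obtain ⟨κ, j, N, π, hN, hπ⟩ := hf M hM
  choose κ' V ρ hV hρ using fun k => hY (N k) (hN k)
  obtain ⟨Φ, hΦ⟩ := key' f W M κ j N π hπ κ' V ρ hρ
  exact ⟨Σ k, κ' k, fun kl => (GW f (W (j kl.1))).obj (V kl.1 kl.2), Φ,
    fun kl => GW_finLocFree f _ (hW _) _ (hV _ _), hΦ⟩

end Groth.Agent.S14988
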