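import Groth.Statements.S1500
import Mathlib
import Groth.Agent.Lib.Helper23TwExt
import Groth.Agent.Lib.Helper23PB2
import Groth.Agent.Lib.Helper23TensorUnit
import Groth.Agent.R2.H8InvMod3

set_option autoImplicit false
universe u
open FlatMor

namespace Groth.Agent.S1500
open CategoryTheory CategoryTheory.Limits AlgebraicGeometry TopologicalSpace
open Groth.Agent.Lib.Helper23.AmpleIso Groth.Agent.Lib.Helper23.SecTw Groth.Agent.Lib.Helper23.TwExt
open Groth.Agent.Lib.Helper23.PB Groth.Agent.Lib.Helper23.TensorUnit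

open AlgebraicGeometry CategoryTheory Limits in
/-- Let D_1, …, D_m be effective Cartier divisors on X (ideal sheaves locally generated by a
nonzerodivisor) with empty common support, and L_1, …, L_m invertible O_X-modules with L_i ample on
the open complement of D_i. Then X has an ample family of invertible modules. -/
theorem result {X : Scheme.{u}} {m : ℕ} (D : Fin m → X.IdealSheafData)
    (hD : ∀ i, BlowUp.IsEffCartierIdeal (D i)) (hcap : ⋂ i, ((D i).support : Set ↑X) = ∅)
    (L : Fin m → X.Modules) (hL : ∀ i, PicF.IsInvertible (L i)) (hamp : ∀ i, CohB1.IsAmple ((L i).restrict (Scheme.Opens.ι (D i).support.compl))) :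
    MoreMor.HasAmpleFamily X := by
  -- data at each point: `(P, σ) = (O(D_i), 1_{D_i})` for some `i` with `x ∉ Supp D_i`
  have key : ∀ x : X, ∃ (i : Fin m) (P : X.Modules) (σ : Coh.structureModule X ⟶ P), PicF.IsInvertible P ∧
      x ∈ CohB1.genLocus P σ ∧ CohB1.IsAmple ((L i).restrict (CohB1.genLocus P σ).ι) := by
    intro x
    have hx : ∃ i, x ∉ ((D i).support : Set ↑X) := by
      by_contra hcon
      push Not at hcon
      have : x ∈ ⋂ i, ((D i).support : Set ↑X) := Set.mem_iInter.2 hcon
      rw [hcap] at this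
      exact this
    obtain ⟨i, hi⟩ := hx
    obtain ⟨P, σ, hP, hσ⟩ := Groth.Agent.R2.H8.InvMod.exists_invertible_genLocus_eq (D i) (hD i)
    have hgen : CohB1.genLocus P σ = (D i).support.compl := by
      apply SetLike.coe_injective
      rw [hσ]
      rfl
    refine ⟨i, P, σ, hP, ?_, ?_⟩
    · rw [hgen]; exact hi
    · rw [hgen]; exact hamp i
  have hXc : CompactSpace X := by
    rw [← isCompact_univ_iff]
    have hcov : (Set.univ : Set X) = ⋃ i : Fin m, (((D i).support.compl : X.Opens) : Set X) := by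
      ext x
      simp only [Set.mem_univ, Set.mem_iUnion, true_iff]
      obtain ⟨i, P, σ, hP, hx, -⟩ := key x
      by_contra hcon
      push Not at hcon
      have : x ∈ ⋂ i, ((D i).support : Set ↑X) := Set.mem_iInter.2 fun j => by
        by_contra hj
        exact hcon j hj
      rw [hcap] at this
      exact this
    rw [hcov]
    refine isCompact_iUnion fun i => ?_
    rw [isCompact_iff_compactSpace]
    exact (hamp i).2.1
  have : QuasiSeparatedSpace X := by
    refine quasiSeparatedSpace_of_opens_cover X (fun x => ?_)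
    obtain ⟨i, P, σ, hP, hx, hamp'⟩ := key x
    refine ⟨CohB1.genLocus P σ, hx, quasiSeparatedSpace_of_isAmple _ hamp', fun A => ?_⟩
    exact (isAffineOpen_inf_genLocus P hP σ A.1 A.2).isCompact
  refine ⟨hXc, fun x => ?_⟩
  obtain ⟨i, P, σ, hP, hx, hamp'⟩ := key x
  obtain ⟨U, hU⟩ : ∃ U : X.Opens, U = CohB1.genLocus P σ := ⟨_, rfl⟩
  rw [← hU] at hx hamp'
  obtain ⟨k, s', hxs', haff'⟩ := hamp'.2.2 (⟨x, hx⟩ : (↑U : Scheme.{u}))
  obtain ⟨Φ⟩ := nonempty_restrict_tensorPow_iso (L i) (hL i) U (k + 1)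
  have hQ := isInvertible_tensorPow (hL i) (k + 1)
  obtain ⟨n', u, hu⟩ := exists_twisted_section_genLocus_eq P hP σ (CohB1.tensorPow (L i) (k + 1)) hQ U hU
    (s' ≫ Φ.inv)
  have hgl : CohB1.genLocus _ (s' ≫ Φ.inv) = CohB1.genLocus _ s' := genLocus_comp_iso Φ.symm s'
  rw [hgl] at hu
  have hM : PicF.IsInvertible (CohB1.tensorMod (CohB1.tensorMod (CohB1.tensorPow (L i) (k + 1))
      (CohB1.tensorPow P n')) P) :=
    isInvertible_tensorMod (isInvertible_tensorMod hQ (isInvertible_tensorPow hP n')) hP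
  refine ⟨_, 1, u ≫ (unitTensorIso _).inv, hM, le_rfl, ?_, ?_⟩
  · have h1 : CohB1.genLocus _ (u ≫ (unitTensorIso _).inv) = CohB1.genLocus _ u :=
      genLocus_comp_iso (unitTensorIso _).symm u
    change x ∈ CohB1.genLocus _ (u ≫ (unitTensorIso _).inv)
    rw [h1, hu]
    exact ⟨⟨x, hx⟩, hxs', rfl⟩
  · have h1 : CohB1.genLocus _ (u ≫ (unitTensorIso _).inv) = CohB1.genLocus _ u :=
      genLocus_comp_iso (unitTensorIso _).symm u
    change IsAffineOpen (CohB1.genLocus _ (u ≫ (unitTensorIso _).inv))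
    rw [h1, hu]
    exact haff'.image_of_isOpenImmersion U.ι

end Groth.Agent.S1500
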