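import Groth.Statements.S15013
import Groth.Agent.R2.H69TorsionFreeEmbed
import Mathlib.Algebra.Homology.DerivedCategory.Ext.ExactSequences
import Mathlib.Algebra.Homology.DerivedCategory.Ext.EnoughProjectives
import Mathlib.Algebra.Homology.ShortComplex.ModuleCat
import Mathlib.Algebra.Category.ModuleCat.Projective

set_option autoImplicit false
universe u
open CategoryTheory
open TFCurv

namespace Groth.Agent.S15013

/-- Let O be a one-dimensional Noetherian local domain with algebraically closed residue field whose
integral closure O~ in its fraction field K is a finite O-module, and let w be a canonical ideal of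
O, taken here as a nonzero finitely generated O-submodule of K whose injective dimension as an
O-module is at most one. Then Ext^i_O(M, w) vanishes for all i ≥ 1 and every finitely generated
torsion-free O-module M. -/
theorem result (O : Type u) [CommRing O] [IsDomain O] [IsNoetherianRing O] [IsLocalRing O] (hdim : ringKrullDim O = 1) [IsAlgClosed (IsLocalRing.ResidueField O)] (K : Type u) [Field K] [Algebra O K] [IsFractionRing O K] (hfin : Module.Finite O ↥(integralClosure O K)) (ω : Submodule O K) (hω0 : ω ≠ ⊥) (hωfg : ω.FG) (hωinj : HasInjectiveDimensionLT (ModuleCat.of O ↥ω) 2) (M : Type u) [AddCommGroup M] [Module O M] [Module.Finite O M] [NoZeroSMulDivisors O M] (i : ℕ) (hi : 1 ≤ i) : Subsingleton (Abelian.Ext (ModuleCat.of O M) (ModuleCat.of O ↥ω) i) := by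
  obtain ⟨n, g, hg⟩ := Groth.Agent.R2.H69.TorsionFreeEmbed.exists_injective_to_free O M
  let S : ShortComplex (ModuleCat.{u} O) :=
    ShortComplex.mk (ModuleCat.ofHom g) (ModuleCat.ofHom (LinearMap.range g).mkQ)
      (by ext x; exact (LinearMap.exact_map_mkQ_range g).apply_apply_eq_zero x)
  have hS : S.ShortExact := ModuleCat.shortComplex_shortExact S
    (LinearMap.exact_map_mkQ_range g) hg (Submodule.mkQ_surjective _)
  haveI : Module.Projective O (Fin n → O) := inferInstance
  haveI : Projective (ModuleCat.of O (Fin n → O)) :=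
    (IsProjective.iff_projective (ModuleCat.of O (Fin n → O))).mp inferInstance
  refine ⟨fun x y => ?_⟩
  have key : ∀ x : Abelian.Ext (ModuleCat.of O M) (ModuleCat.of O ↥ω) i, x = 0 := by
    intro x
    have h2 : 2 ≤ 1 + i := by omega
    have hx : hS.extClass.comp x (rfl : 1 + i = 1 + i) = 0 :=
      Abelian.Ext.eq_zero_of_hasInjectiveDimensionLT _ 2 h2
    obtain ⟨x₂, hx₂⟩ := Abelian.Ext.contravariant_sequence_exact₁ hS (ModuleCat.of O ↥ω) x rfl hx
    obtain ⟨j, rfl⟩ : ∃ j, i = j + 1 := ⟨i - 1, by omega⟩
    have h0 : x₂ = 0 := Abelian.Ext.eq_zero_of_projective x₂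
    rw [← hx₂, h0, Abelian.Ext.comp_zero]
  rw [key x, key y]

end Groth.Agent.S15013
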