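import Groth.Statements.S15024
import Groth.Agent.Lib.Helper13TorMore

set_option autoImplicit false
universe u
open CategoryTheory
open TFCurv

namespace Groth.Agent.S15024

/-- Let O be a one-dimensional Noetherian local domain with algebraically closed residue field whose
integral closure O~ in its fraction field K is a finite O-module, M a finitely generated
torsion-free O-module and f : O^n → M an injective O-linear map whose cokernel T has finite length.
Then Tor_1^O(O~, M) and Tor_1^O(O~, T) are isomorphic (existence of an isomorphism only), and O~ ⊗_O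
f : O~ ⊗ O^n → O~ ⊗ M is injective, so that 0 → O~^n → O~ ⊗ M → O~ ⊗ T → 0 is exact. -/
theorem result (O : Type u) [CommRing O] [IsDomain O] [IsNoetherianRing O] [IsLocalRing O] (hdim : ringKrullDim O = 1) [IsAlgClosed (IsLocalRing.ResidueField O)] (K : Type u) [Field K] [Algebra O K] [IsFractionRing O K] (hfin : Module.Finite O ↥(integralClosure O K)) (M : Type u) [AddCommGroup M] [Module O M] [Module.Finite O M] [NoZeroSMulDivisors O M] (n : ℕ) (f : (Fin n → O) →ₗ[O] M) (hf : Function.Injective f) (hT : IsFiniteLength O (M ⧸ LinearMap.range f)) : Nonempty (((Tor (ModuleCat.{u} O) 1).obj (ModuleCat.of O ↥(integralClosure O K))).obj (ModuleCat.of O M) ≅ ((Tor (ModuleCat.{u} O) 1).obj (ModuleCat.of O ↥(integralClosure O K))).obj (ModuleCat.of O (M ⧸ LinearMap.range f))) ∧ Function.Injective (LinearMap.lTensor ↥(integralClosure O K) f) := by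
  have hb : Function.Injective (LinearMap.lTensor ↥(integralClosure O K) f) := by
    let ι : ↥(integralClosure O K) →ₗ[O] K := (integralClosure O K).val.toLinearMap
    have hι : Function.Injective ι := Subtype.val_injective
    have : Module.Flat O K := IsLocalization.flat K (nonZeroDivisors O)
    have h1 : Function.Injective (LinearMap.lTensor K f) :=
      Module.Flat.lTensor_preserves_injective_linearMap f hf
    have h2 : Function.Injective (LinearMap.rTensor (Fin n → O) ι) :=
      Module.Flat.rTensor_preserves_injective_linearMap ι hι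
    have h3 : (LinearMap.rTensor M ι).comp (LinearMap.lTensor ↥(integralClosure O K) f) =
        (LinearMap.lTensor K f).comp (LinearMap.rTensor (Fin n → O) ι) := by
      rw [LinearMap.rTensor_comp_lTensor, LinearMap.lTensor_comp_rTensor]
    have h4 : Function.Injective ((LinearMap.rTensor M ι).comp
        (LinearMap.lTensor ↥(integralClosure O K) f)) := by
      rw [h3]
      exact h1.comp h2
    exact Function.Injective.of_comp h4
  refine ⟨?_, hb⟩
  let X : ModuleCat.{u} O := ModuleCat.of O ↥(integralClosure O K)
  let S : ShortComplex (ModuleCat.{u} O) :=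
    ShortComplex.mk (ModuleCat.ofHom f) (ModuleCat.ofHom (LinearMap.range f).mkQ)
      (ModuleCat.hom_ext (LinearMap.ext fun x =>
        (LinearMap.exact_map_mkQ_range f).apply_apply_eq_zero x))
  have hS : S.ShortExact := ModuleCat.shortComplex_shortExact S
    (LinearMap.exact_map_mkQ_range f) hf (Submodule.mkQ_surjective _)
  have : Module.Flat O S.X₁ := (inferInstance : Module.Flat O (Fin n → O))
  have h0 : Limits.IsZero (((Tor (ModuleCat.{u} O) 1).obj X).obj S.X₁) :=
    Groth.Agent.Helper13Tor.isZero_tor_of_flat_right X S.X₁ 1 one_pos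
  have hex := Groth.Agent.Helper13Tor.tor₂_exact₂ X S hS 1
  obtain ⟨δ, w₁, w₂, hex₁, hex₂⟩ := Groth.Agent.Helper13Tor.tor₂_exists_δ X S hS 0
  have hmono0 : Mono (((Tor (ModuleCat.{u} O) 0).obj X).map S.f) :=
    (Groth.Agent.Helper13Tor.mono_tor_zero_map_iff X S.f).mpr hb
  have hδ : δ = 0 := by
    rw [← cancel_mono (((Tor (ModuleCat.{u} O) 0).obj X).map S.f), w₂, Limits.zero_comp]
  have hmono : Mono (((Tor (ModuleCat.{u} O) 1).obj X).map S.g) :=
    hex.mono_g (h0.eq_of_src _ _)
  have hepi : Epi (((Tor (ModuleCat.{u} O) 1).obj X).map S.g) := hex₁.epi_f hδ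
  have : IsIso (((Tor (ModuleCat.{u} O) 1).obj X).map S.g) := isIso_of_mono_of_epi _
  exact ⟨asIso (((Tor (ModuleCat.{u} O) 1).obj X).map S.g)⟩

end Groth.Agent.S15024
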