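import Groth.Statements.S15025
import Groth.Agent.Lib.Helper13TorMore

set_option autoImplicit false
universe u
open CategoryTheory
open TFCurv

namespace Groth.Agent.S15025

theorem exists_pow_smul_eq_zero {O : Type u} [CommRing O] [IsLocalRing O] (a : O)
    (ha : a ∈ IsLocalRing.maximalIdeal O) {T : Type u} [AddCommGroup T] [Module O T]
    (hT : IsFiniteLength O T) : ∃ k : ℕ, ∀ t : T, a ^ k • t = 0 := by
  induction hT with
  | of_subsingleton => exact ⟨0, fun t => Subsingleton.elim _ _⟩
  | @of_simple_quotient M _ _ N _ _ ih =>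
    obtain ⟨k, hk⟩ := ih
    refine ⟨k + 1, fun t => ?_⟩
    have h1 : a • t ∈ N := by
      have hann : a ∈ Module.annihilator O (M ⧸ N) := by
        have hmax := IsSimpleModule.annihilator_isMaximal (R := O) (M := M ⧸ N)
        rw [IsLocalRing.eq_maximalIdeal hmax]
        exact ha
      have := Module.mem_annihilator.mp hann (Submodule.Quotient.mk t)
      rwa [← Submodule.Quotient.mk_smul, Submodule.Quotient.mk_eq_zero] at this
    have h2 := hk ⟨a • t, h1⟩
    have h3 := congrArg Subtype.val h2
    simp only [Submodule.coe_smul, Submodule.coe_zero] at h3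
    rw [pow_succ, mul_smul]
    exact h3

/-- Let O be a one-dimensional Noetherian local domain with algebraically closed residue field whose
integral closure O~ in its fraction field K is a finite O-module, M a finitely generated
torsion-free O-module and g : M → O^n an injective O-linear map whose cokernel T' has finite length.
Then the torsion submodule of O~ ⊗_O M is O-linearly isomorphic to Tor_1^O(O~, T') (existence of an
isomorphism only). -/
theorem result (O : Type u) [CommRing O] [IsDomain O] [IsNoetherianRing O] [IsLocalRing O] (hdim : ringKrullDim O = 1) [IsAlgClosed (IsLocalRing.ResidueField O)] (K : Type u) [Field K] [Algebra O K] [IsFractionRing O K] (hfin : Module.Finite O ↥(integralClosure O K)) (M : Type u) [AddCommGroup M] [Module O M] [Module.Finite O M] [NoZeroSMulDivisors O M] (n : ℕ) (g : M →ₗ[O] (Fin n → O)) (hg : Function.Injective g) (hT : IsFiniteLength O ((Fin n → O) ⧸ LinearMap.range g)) : Nonempty (↥(Submodule.torsion O (TensorProduct O ↥(integralClosure O K) M)) ≃ₗ[O] ↑(((Tor (ModuleCat.{u} O) 1).obj (ModuleCat.of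 O ↥(integralClosure O K))).obj (ModuleCat.of O ((Fin n → O) ⧸ LinearMap.range g)))) := by
  classical
  obtain ⟨a, ham, ha0⟩ : ∃ a ∈ IsLocalRing.maximalIdeal O, a ≠ 0 := by
    by_contra h
    have hbot : IsLocalRing.maximalIdeal O = ⊥ := by
      rw [eq_bot_iff]
      intro x hx
      by_contra hx0
      exact h ⟨x, hx, hx0⟩
    have hfield : IsField O := IsLocalRing.isField_iff_maximalIdeal_eq.mpr hbot
    have h0 := ringKrullDim_eq_zero_of_isField hfield
    rw [hdim] at h0
    exact one_ne_zero h0
  obtain ⟨k, hk⟩ := exists_pow_smul_eq_zero a ham hT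
  have hr0 : a ^ k ≠ 0 := pow_ne_zero k ha0
  have hrange : ∀ y : Fin n → O, (a ^ k) • y ∈ LinearMap.range g := fun y => by
    have := hk (Submodule.Quotient.mk y)
    rwa [← Submodule.Quotient.mk_smul, Submodule.Quotient.mk_eq_zero] at this
  -- the kernel of `O~ ⊗ g` is the torsion submodule
  have hker : LinearMap.ker (LinearMap.lTensor ↥(integralClosure O K) g) =
      Submodule.torsion O (TensorProduct O ↥(integralClosure O K) M) := by
    ext x
    constructor
    · intro hx
      let ψ : (Fin n → O) →ₗ[O] LinearMap.range g :=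
        ((a ^ k) • (LinearMap.id : (Fin n → O) →ₗ[O] (Fin n → O))).codRestrict
          (LinearMap.range g) hrange
      let h : (Fin n → O) →ₗ[O] M := (LinearEquiv.ofInjective g hg).symm.toLinearMap.comp ψ
      have hhg : h.comp g = (a ^ k) • (LinearMap.id : M →ₗ[O] M) := by
        ext m
        apply hg
        have h1 : g (h (g m)) = (a ^ k) • g m := by
          have := (LinearEquiv.ofInjective g hg).apply_symm_apply (ψ (g m))
          exact congrArg Subtype.val this
        simp only [LinearMap.comp_apply, LinearMap.smul_apply, LinearMap.id_apply, map_smul]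
        exact h1
      rw [Submodule.mem_torsion_iff]
      refine ⟨⟨a ^ k, mem_nonZeroDivisors_of_ne_zero hr0⟩, ?_⟩
      have h2 : (LinearMap.lTensor ↥(integralClosure O K) (h.comp g)) x = (a ^ k) • x := by
        rw [hhg, LinearMap.lTensor_smul, LinearMap.lTensor_id]
        rfl
      rw [LinearMap.lTensor_comp, LinearMap.comp_apply, LinearMap.mem_ker.mp hx, map_zero] at h2
      exact h2.symm
    · intro hx
      rw [Submodule.mem_torsion_iff] at hx
      obtain ⟨c, hc⟩ := hx
      rw [LinearMap.mem_ker]
      let ι : ↥(integralClosure O K) →ₗ[O] K := (integralClosure O K).val.toLinearMap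
      have hι : Function.Injective ι := Subtype.val_injective
      have h2 : Function.Injective (LinearMap.rTensor (Fin n → O) ι) :=
        Module.Flat.rTensor_preserves_injective_linearMap ι hι
      apply h2
      rw [map_zero]
      set w := (LinearMap.rTensor (Fin n → O) ι) ((LinearMap.lTensor ↥(integralClosure O K) g) x)
        with hw
      have h3 : (c : O) • w = 0 := by
        rw [hw, ← map_smul, ← map_smul]
        have : (c : O) • x = 0 := hc
        rw [this, map_zero, map_zero]
      have h4 : (algebraMap O K (c : O)) • w = 0 := by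
        rw [algebraMap_smul]
        exact h3
      have h5 : algebraMap O K (c : O) ≠ 0 := by
        intro h
        exact nonZeroDivisors.coe_ne_zero c (IsFractionRing.injective O K (by rw [h, map_zero]))
      exact (smul_eq_zero.mp h4).resolve_left h5
  let X : ModuleCat.{u} O := ModuleCat.of O ↥(integralClosure O K)
  let S : ShortComplex (ModuleCat.{u} O) :=
    ShortComplex.mk (ModuleCat.ofHom g) (ModuleCat.ofHom (LinearMap.range g).mkQ)
      (ModuleCat.hom_ext (LinearMap.ext fun x =>
        (LinearMap.exact_map_mkQ_range g).apply_apply_eq_zero x))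
  have hS : S.ShortExact := ModuleCat.shortComplex_shortExact S
    (LinearMap.exact_map_mkQ_range g) hg (Submodule.mkQ_surjective _)
  have : Module.Flat O S.X₂ := (inferInstance : Module.Flat O (Fin n → O))
  have h0 : Limits.IsZero (((Tor (ModuleCat.{u} O) 1).obj X).obj S.X₂) :=
    Groth.Agent.Helper13Tor.isZero_tor_of_flat_right X S.X₂ 1 one_pos
  obtain ⟨δ, w₁, w₂, hex₁, hex₂⟩ := Groth.Agent.Helper13Tor.tor₂_exists_δ X S hS 0
  have hδmono : Mono δ := hex₁.mono_g (h0.eq_of_src _ _)
  obtain ⟨e₁, e₂, hn⟩ : ∃ (e₁ : ((Tor (ModuleCat.{u} O) 0).obj X).obj S.X₁ ≅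
        (Groth.Agent.Helper13Tor.tL X).obj S.X₁)
      (e₂ : ((Tor (ModuleCat.{u} O) 0).obj X).obj S.X₂ ≅ (Groth.Agent.Helper13Tor.tL X).obj S.X₂),
      ((Tor (ModuleCat.{u} O) 0).obj X).map S.f ≫ e₂.hom =
        e₁.hom ≫ (Groth.Agent.Helper13Tor.tL X).map S.f :=
    ⟨(Groth.Agent.Helper13Tor.tL X).leftDerivedZeroIsoSelf.app S.X₁,
      (Groth.Agent.Helper13Tor.tL X).leftDerivedZeroIsoSelf.app S.X₂,
      (Groth.Agent.Helper13Tor.tL X).leftDerivedZeroIsoSelf.hom.naturality S.f⟩
  have hrk : LinearMap.range δ.hom =
      LinearMap.ker (((Tor (ModuleCat.{u} O) 0).obj X).map S.f).hom :=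
    (ShortComplex.moduleCat_exact_iff_range_eq_ker _).mp hex₂
  have hmono' : Mono (δ ≫ e₁.hom) := mono_comp _ _
  have hinj : Function.Injective (δ ≫ e₁.hom).hom := (ModuleCat.mono_iff_injective _).mp hmono'
  have hFmap : ∀ y, ((Groth.Agent.Helper13Tor.tL X).map S.f).hom y =
      (LinearMap.lTensor ↥(integralClosure O K) g) y := fun y => rfl
  have hn' : ∀ z, e₂.hom.hom ((((Tor (ModuleCat.{u} O) 0).obj X).map S.f).hom z) =
      ((Groth.Agent.Helper13Tor.tL X).map S.f).hom (e₁.hom.hom z) := by
    intro z
    have := congrArg (fun φ => φ.hom z) hn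
    simpa only [ModuleCat.hom_comp, LinearMap.comp_apply] using this
  have he₂inj : Function.Injective e₂.hom.hom :=
    (ModuleCat.mono_iff_injective e₂.hom).mp inferInstance
  have he₁ : ∀ y, e₁.hom.hom (e₁.inv.hom y) = y := by
    intro y
    have := congrArg (fun φ => φ.hom y) e₁.inv_hom_id
    simpa only [ModuleCat.hom_comp, LinearMap.comp_apply, ModuleCat.hom_id, LinearMap.id_apply]
      using this
  have hrange' : LinearMap.range (δ ≫ e₁.hom).hom =
      LinearMap.ker (LinearMap.lTensor ↥(integralClosure O K) g) := by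
    ext y
    constructor
    · rintro ⟨t, rfl⟩
      rw [LinearMap.mem_ker]
      have h1 : δ.hom t ∈ LinearMap.ker (((Tor (ModuleCat.{u} O) 0).obj X).map S.f).hom := by
        rw [← hrk]; exact ⟨t, rfl⟩
      rw [LinearMap.mem_ker] at h1
      have h2 := hn' (δ.hom t)
      rw [h1, map_zero] at h2
      rw [ModuleCat.hom_comp, LinearMap.comp_apply, ← hFmap]
      exact h2.symm
    · intro hy
      rw [LinearMap.mem_ker] at hy
      have h1 : e₁.inv.hom y ∈ LinearMap.ker (((Tor (ModuleCat.{u} O) 0).obj X).map S.f).hom := by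
        rw [LinearMap.mem_ker]
        apply he₂inj
        rw [map_zero, hn', he₁, hFmap]
        exact hy
      rw [← hrk] at h1
      obtain ⟨t, ht⟩ := h1
      refine ⟨t, ?_⟩
      rw [ModuleCat.hom_comp, LinearMap.comp_apply, ht, he₁]
  refine ⟨((LinearEquiv.ofInjective (δ ≫ e₁.hom).hom hinj).trans
    (LinearEquiv.ofEq _ _ (hrange'.trans hker))).symm⟩

end Groth.Agent.S15025
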