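import Groth.Statements.S1507
import Mathlib
import Groth.Agent.R2.H7PCFlat
import Groth.Agent.S7017
-- import your own Groth.Agent.* helpers here

set_option autoImplicit false
universe u
attribute [local instance] HasDerivedCategory.standard
open FlatMor

namespace Groth.Agent.S1507



open Groth.Agent.Lib.Helper1.Restrict Groth.Agent.Lib.Helper1.RelPC
open Groth.Agent.Lib.Helper1.PC Groth.Agent.Lib.Helper1.PCTower
open Groth.Agent.R2.H7.PCHom Groth.Agent.R2.H7.PCBase Groth.Agent.R2.H7.PCFlat
open CategoryTheory CategoryTheory.Limits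

/-- cancellation: if `B` is pseudo-coherent over `A` and `C` is pseudo-coherent over `A`, then `C` is
pseudo-coherent over `B`. -/
lemma bpc_of_comp {A B C : Type u} [CommRing A] [CommRing B] [CommRing C] (φ : A →+* B)
    (ψ : B →+* C) (hφ : BPC φ) (h : BPC (ψ.comp φ)) : BPC ψ := by
  intro j
  rw [isPC_restrictD_iff φ hφ _ j]
  refine isPC_of_iso ?_ (h j)
  exact (restrictDSingleIso φ _ 0 ≪≫ (DerivedCategory.singleFunctor (ModuleCat.{u} A) 0).mapIso
    (ModuleCat.restrictScalarsComp'App φ ψ (ψ.comp φ) rfl (ModuleCat.of C C)).symm).symm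

/-- `B ⧸ I` is a pseudo-coherent `B`-module iff `I` is -/
lemma pc'_quotient_iff {B : Type u} [CommRing B] (I : Ideal B) :
    DRing.IsPseudoCoherentModule' B (B ⧸ I) ↔ DRing.IsPseudoCoherentModule' B ↥I := by
  let f₀ : ↥I →ₗ[B] B := I.subtype
  let g₀ : B →ₗ[B] B ⧸ I := Submodule.mkQ I
  have w : ModuleCat.ofHom f₀ ≫ ModuleCat.ofHom g₀ = 0 := by
    ext x
    show Submodule.mkQ I ((x : ↥I) : B) = 0
    rw [Submodule.mkQ_apply, Submodule.Quotient.mk_eq_zero]
    exact x.2
  let S : ShortComplex (ModuleCat.{u} B) :=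
    ShortComplex.mk (ModuleCat.ofHom f₀) (ModuleCat.ofHom g₀) w
  have hS : S.ShortExact := by
    refine ShortComplex.ShortExact.mk' ?_ ?_ ?_
    · rw [ShortComplex.moduleCat_exact_iff]
      intro (b : B) hb
      have hb' : Submodule.mkQ I b = 0 := hb
      rw [Submodule.mkQ_apply, Submodule.Quotient.mk_eq_zero] at hb'
      exact ⟨⟨b, hb'⟩, rfl⟩
    · rw [ModuleCat.mono_iff_injective]
      exact I.subtype_injective
    · rw [ModuleCat.epi_iff_surjective]
      exact Submodule.mkQ_surjective I
  have hT := hS.singleTriangle_distinguished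
  have hB : DRing.IsPseudoCoherent' B
      ((DerivedCategory.singleFunctor (ModuleCat.{u} B) 0).obj (ModuleCat.of B B)) :=
    isPseudoCoherent'_of_forall _ (fun j => isPC_of_rep _ (rep_single _ (FF_self B) 0))
  have h := Groth.Agent.S7017.result B _ hT
  exact ⟨fun h3 => h.2.2 hB h3, fun h1 => h.1 h1 hB⟩

/-- Let A → B be flat and of finite presentation and I an ideal of B. Then A → B/I is a pseudo-coherent
ring map if and only if I is a pseudo-coherent B-module. -/
theorem result {A B : Type u} [CommRing A] [CommRing B] [Algebra A B] [Module.Flat A B] [Algebra.FinitePresentation A B] (I : Ideal B) :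
    MoreMor.IsPseudoCoherentHom A (B ⧸ I) ↔ DRing.IsPseudoCoherentModule' B ↥I := by
  have hAB : PCH (algebraMap A B) := pch_of_flat_of_finitePresentation A B
  have : Algebra.FiniteType A B := inferInstance
  obtain ⟨n, γ, hγ⟩ := exists_presentation A B
  have hbγ : BPC γ.toRingHom := hAB.bpc_of_presentation _ (algHom_comp_C γ) hγ
  let π : B →+* B ⧸ I := algebraMap B (B ⧸ I)
  have hπ : Function.Surjective π := Ideal.Quotient.mk_surjective
  have key : BPC π ↔ DRing.IsPseudoCoherentModule' B ↥I :=
    ⟨fun h => (pc'_quotient_iff I).1 (pcModule'_of_bpc h),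
      fun h => bpc_of_algebra ((pc'_quotient_iff I).2 h)⟩
  have hC : (π.comp γ.toRingHom).comp MvPolynomial.C = algebraMap A (B ⧸ I) := by
    ext a
    show algebraMap B (B ⧸ I) (γ (MvPolynomial.C a)) = _
    have : γ (MvPolynomial.C a) = algebraMap A B a := γ.commutes a
    rw [this, ← IsScalarTower.algebraMap_apply]
  rw [isPseudoCoherentHom_iff, ← key]
  constructor
  · intro h
    have h1 : BPC (π.comp γ.toRingHom) := h.bpc_of_presentation _ hC (hπ.comp hγ)
    exact bpc_of_comp _ _ hbγ h1
  · intro h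
    exact ⟨n, π.comp γ.toRingHom, hC, hπ.comp hγ, bpc_comp _ _ hbγ h⟩

end Groth.Agent.S1507
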