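import Groth.Statements.S15126
import Mathlib

set_option autoImplicit false
universe u
open Formal

namespace Groth.Agent.S15126

section Construction

variable (k : Type u) [Field k] (n : ℕ) (R : Type u) [CommRing R] [Algebra (MvPowerSeries (Fin n) k) R]

/-- the polynomial ring on the coefficients of the universal series -/
abbrev T := MvPolynomial (R × (Fin n →₀ ℕ)) k

/-- the generic series attached to `r` -/
noncomputable def gen (r : R) : MvPowerSeries (Fin n) (T k n R) :=
  fun m => MvPolynomial.X (r, m)

theorem coeff_gen (r : R) (m : Fin n →₀ ℕ) :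
    MvPowerSeries.coeff m (gen k n R r) = MvPolynomial.X (r, m) := rfl

/-- the relations -/
def rels : Set (T k n R) :=
  {t | (∃ r s m, t = MvPolynomial.X (r + s, m) - MvPolynomial.X (r, m) - MvPolynomial.X (s, m)) ∨
       (∃ r s m, t = MvPolynomial.X (r * s, m) - MvPowerSeries.coeff m (gen k n R r * gen k n R s)) ∨
       (∃ (a : MvPowerSeries (Fin n) k) (m : Fin n →₀ ℕ),
          t = MvPolynomial.X (algebraMap (MvPowerSeries (Fin n) k) R a, m) -
            MvPolynomial.C (MvPowerSeries.coeff m a))}

/-- the ideal of relations -/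
noncomputable def relIdeal : Ideal (T k n R) := Ideal.span (rels k n R)

/-- the corepresenting algebra -/
abbrev P := T k n R ⧸ relIdeal k n R

/-- the universal map, as a function -/
noncomputable def uFun (r : R) : MvPowerSeries (Fin n) (P k n R) :=
  MvPowerSeries.map (Ideal.Quotient.mk (relIdeal k n R)) (gen k n R r)

theorem coeff_uFun (r : R) (m : Fin n →₀ ℕ) :
    MvPowerSeries.coeff m (uFun k n R r) = Ideal.Quotient.mk (relIdeal k n R) (MvPolynomial.X (r, m)) := by
  rw [uFun, MvPowerSeries.coeff_map, coeff_gen]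

theorem uFun_add (r s : R) : uFun k n R (r + s) = uFun k n R r + uFun k n R s := by
  ext m
  rw [map_add, coeff_uFun, coeff_uFun, coeff_uFun, ← map_add, ← sub_eq_zero, ← map_sub,
    Ideal.Quotient.eq_zero_iff_mem]
  apply Ideal.subset_span
  left
  exact ⟨r, s, m, by ring⟩

theorem uFun_mul (r s : R) : uFun k n R (r * s) = uFun k n R r * uFun k n R s := by
  rw [uFun, uFun, uFun, ← map_mul]
  ext m
  rw [MvPowerSeries.coeff_map, MvPowerSeries.coeff_map, coeff_gen, ← sub_eq_zero, ← map_sub,
    Ideal.Quotient.eq_zero_iff_mem]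
  apply Ideal.subset_span
  right; left
  exact ⟨r, s, m, rfl⟩

theorem uFun_algebraMap (a : MvPowerSeries (Fin n) k) :
    uFun k n R (algebraMap _ R a) = algebraMap (MvPowerSeries (Fin n) k) (MvPowerSeries (Fin n) (P k n R)) a := by
  ext m
  rw [coeff_uFun, MvPowerSeries.algebraMap_apply'', MvPowerSeries.coeff_map]
  have : algebraMap k (P k n R) (MvPowerSeries.coeff m a) =
      Ideal.Quotient.mk (relIdeal k n R) (MvPolynomial.C (MvPowerSeries.coeff m a)) := rfl
  rw [this, ← sub_eq_zero, ← map_sub, Ideal.Quotient.eq_zero_iff_mem]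
  apply Ideal.subset_span
  right; right
  exact ⟨a, m, rfl⟩

/-- the universal `k[[z]]`-algebra homomorphism -/
noncomputable def uHom : R →ₐ[MvPowerSeries (Fin n) k] MvPowerSeries (Fin n) (P k n R) where
  toFun := uFun k n R
  map_one' := by
    have := uFun_algebraMap k n R 1
    rwa [map_one, map_one] at this
  map_mul' := uFun_mul k n R
  map_zero' := by
    have := uFun_add k n R 0 0
    rw [add_zero] at this
    exact left_eq_add.mp this
  map_add' := uFun_add k n R
  commutes' := uFun_algebraMap k n R

theorem coeff_uHom (r : R) (m : Fin n →₀ ℕ) :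
    MvPowerSeries.coeff m (uHom k n R r) = Ideal.Quotient.mk (relIdeal k n R) (MvPolynomial.X (r, m)) :=
  coeff_uFun k n R r m

variable {k n R}

/-- the classifying map of `f`, on the polynomial ring -/
noncomputable def cls₀ {Q : Type u} [CommRing Q] [Algebra k Q]
    (f : R →ₐ[MvPowerSeries (Fin n) k] MvPowerSeries (Fin n) Q) : T k n R →ₐ[k] Q :=
  MvPolynomial.aeval (fun rm : R × (Fin n →₀ ℕ) => MvPowerSeries.coeff rm.2 (f rm.1))

theorem cls₀_X {Q : Type u} [CommRing Q] [Algebra k Q]
    (f : R →ₐ[MvPowerSeries (Fin n) k] MvPowerSeries (Fin n) Q) (r : R) (m : Fin n →₀ ℕ) :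
    cls₀ f (MvPolynomial.X (r, m)) = MvPowerSeries.coeff m (f r) := by
  rw [cls₀, MvPolynomial.aeval_X]

theorem map_cls₀_gen {Q : Type u} [CommRing Q] [Algebra k Q]
    (f : R →ₐ[MvPowerSeries (Fin n) k] MvPowerSeries (Fin n) Q) (r : R) :
    MvPowerSeries.map (cls₀ f : T k n R →+* Q) (gen k n R r) = f r := by
  ext m
  rw [MvPowerSeries.coeff_map, coeff_gen]
  exact cls₀_X f r m

theorem relIdeal_le_ker {Q : Type u} [CommRing Q] [Algebra k Q]
    (f : R →ₐ[MvPowerSeries (Fin n) k] MvPowerSeries (Fin n) Q) :
    ∀ t ∈ relIdeal k n R, cls₀ f t = 0 := by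
  intro t ht
  have hle : relIdeal k n R ≤ RingHom.ker (cls₀ f : T k n R →+* Q) := by
    apply Ideal.span_le.mpr
    rintro t (⟨r, s, m, rfl⟩ | ⟨r, s, m, rfl⟩ | ⟨a, m, rfl⟩)
    · change (cls₀ f) _ = 0
      rw [map_sub, map_sub, cls₀_X, cls₀_X, cls₀_X, map_add, map_add]
      ring
    · change (cls₀ f) _ = 0
      rw [map_sub, cls₀_X, sub_eq_zero]
      have h1 : (cls₀ f) (MvPowerSeries.coeff m (gen k n R r * gen k n R s)) =
          MvPowerSeries.coeff m (MvPowerSeries.map (cls₀ f : T k n R →+* Q) (gen k n R r * gen k n R s)) := by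
        rw [MvPowerSeries.coeff_map]; rfl
      rw [h1, (MvPowerSeries.map _).map_mul, map_cls₀_gen, map_cls₀_gen, map_mul]
    · change (cls₀ f) _ = 0
      rw [map_sub, cls₀_X, sub_eq_zero, f.commutes, MvPowerSeries.algebraMap_apply'',
        MvPowerSeries.coeff_map]
      change _ = (cls₀ f) (algebraMap k (T k n R) _)
      rw [AlgHom.commutes]
  exact hle ht

/-- the classifying map of `f` -/
noncomputable def cls {Q : Type u} [CommRing Q] [Algebra k Q]
    (f : R →ₐ[MvPowerSeries (Fin n) k] MvPowerSeries (Fin n) Q) : P k n R →ₐ[k] Q :=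
  Ideal.Quotient.liftₐ (relIdeal k n R) (cls₀ f) (relIdeal_le_ker f)

theorem cls_mk_X {Q : Type u} [CommRing Q] [Algebra k Q]
    (f : R →ₐ[MvPowerSeries (Fin n) k] MvPowerSeries (Fin n) Q) (r : R) (m : Fin n →₀ ℕ) :
    cls f (Ideal.Quotient.mk (relIdeal k n R) (MvPolynomial.X (r, m))) = MvPowerSeries.coeff m (f r) := by
  exact cls₀_X f r m

theorem algHom_ext_P {Q : Type u} [CommRing Q] [Algebra k Q] {g g' : P k n R →ₐ[k] Q}
    (h : ∀ r m, g (Ideal.Quotient.mk (relIdeal k n R) (MvPolynomial.X (r, m))) =
      g' (Ideal.Quotient.mk (relIdeal k n R) (MvPolynomial.X (r, m)))) : g = g' := by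
  apply Ideal.Quotient.algHom_ext
  apply MvPolynomial.algHom_ext
  rintro ⟨r, m⟩
  exact h r m

/-- the generators of `P` coming from a generating set of `R` -/
def genSet (s : Set R) : Set (P k n R) :=
  (fun rm : R × (Fin n →₀ ℕ) => Ideal.Quotient.mk (relIdeal k n R) (MvPolynomial.X rm)) ''
    (s ×ˢ (Set.univ : Set (Fin n →₀ ℕ)))

theorem genSet_countable {s : Set R} (hs : s.Countable) : (genSet (k := k) (n := n) s).Countable := by
  apply Set.Countable.image
  exact hs.prod Set.countable_univ

theorem mk_X_mem_adjoin {s : Set R} (hs : Algebra.adjoin (MvPowerSeries (Fin n) k) s = ⊤) (r : R) :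
    ∀ m : Fin n →₀ ℕ, Ideal.Quotient.mk (relIdeal k n R) (MvPolynomial.X (r, m)) ∈
      Algebra.adjoin k (genSet (k := k) (n := n) s) := by
  have hr : r ∈ Algebra.adjoin (MvPowerSeries (Fin n) k) s := by rw [hs]; trivial
  induction hr using Algebra.adjoin_induction with
  | mem x hx =>
    intro m
    apply Algebra.subset_adjoin
    exact ⟨(x, m), ⟨hx, trivial⟩, rfl⟩
  | algebraMap a =>
    intro m
    rw [← coeff_uHom, AlgHom.commutes, MvPowerSeries.algebraMap_apply'', MvPowerSeries.coeff_map]
    exact Subalgebra.algebraMap_mem _ _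
  | add x y _ _ hx hy =>
    intro m
    rw [← coeff_uHom, map_add, map_add, coeff_uHom, coeff_uHom]
    exact Subalgebra.add_mem _ (hx m) (hy m)
  | mul x y _ _ hx hy =>
    intro m
    classical
    rw [← coeff_uHom, map_mul, MvPowerSeries.coeff_mul]
    apply Subalgebra.sum_mem
    intro ij _
    rw [coeff_uHom, coeff_uHom]
    exact Subalgebra.mul_mem _ (hx _) (hy _)

theorem adjoin_genSet_eq_top {s : Set R} (hs : Algebra.adjoin (MvPowerSeries (Fin n) k) s = ⊤) :
    Algebra.adjoin k (genSet (k := k) (n := n) s) = ⊤ := by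
  have key : ∀ t : T k n R, Ideal.Quotient.mk (relIdeal k n R) t ∈
      Algebra.adjoin k (genSet (k := k) (n := n) s) := by
    intro t
    induction t using MvPolynomial.induction_on with
    | C a => exact Subalgebra.algebraMap_mem _ a
    | add p q hp hq =>
      rw [map_add]
      exact Subalgebra.add_mem _ hp hq
    | mul_X p i hp =>
      rw [map_mul]
      exact Subalgebra.mul_mem _ hp (mk_X_mem_adjoin hs i.1 i.2)
  rw [eq_top_iff]
  intro x _
  obtain ⟨t, rfl⟩ := Ideal.Quotient.mk_surjective x
  exact key t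

end Construction

/-- Affine case. Let k be a field, n > 0, and R a commutative algebra over the power series ring
k[[z_1,…,z_n]]; for a commutative k-algebra Q regard Q[[z_1,…,z_n]] as a k[[z]]-algebra
coefficientwise. Then the functor Q ↦ Hom_{k[[z]]-alg}(R, Q[[z]]) on commutative k-algebras is
corepresentable: there exist a commutative k-algebra P and a k[[z]]-algebra homomorphism u : R →
P[[z]] such that every k[[z]]-algebra homomorphism R → Q[[z]] arises from u by applying a unique
k-algebra homomorphism P → Q coefficientwise. If moreover R is countably generated as a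
k[[z]]-algebra, P may be taken countably generated over k. (The published statement is for an adic
formal scheme Y over the formal disc Spf k[[z]], asserting that the sheaf of sections of Y over the
disc is a scheme, affine over the fibre of Y at the origin, and of pro-finite type when Y is; this
row is the case Y = Spf R, to which the published argument reduces, stated for the underlying
algebra R; k is algebraically closed there, which is not used.) -/
theorem result
    (k : Type u) [Field k] (n : ℕ) (hn : 0 < n)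
    (R : Type u) [CommRing R] [Algebra (MvPowerSeries (Fin n) k) R] :
    ∃ (P : Type u) (_ : CommRing P) (_ : Algebra k P)
      (u : R →ₐ[MvPowerSeries (Fin n) k] MvPowerSeries (Fin n) P),
      (∀ (Q : Type u) [CommRing Q] [Algebra k Q]
          (f : R →ₐ[MvPowerSeries (Fin n) k] MvPowerSeries (Fin n) Q),
          ∃! g : P →ₐ[k] Q,
            (MvPowerSeries.map (σ := Fin n) (g : P →+* Q)).comp (u : R →+* MvPowerSeries (Fin n) P) =
              (f : R →+* MvPowerSeries (Fin n) Q)) ∧
      ((∃ s : Set R, s.Countable ∧ Algebra.adjoin (MvPowerSeries (Fin n) k) s = ⊤) →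
        ∃ t : Set P, t.Countable ∧ Algebra.adjoin k t = ⊤) := by
  refine ⟨P k n R, inferInstance, inferInstance, uHom k n R, ?_, ?_⟩
  · intro Q _ _ f
    refine ⟨cls f, ?_, ?_⟩
    · ext r m
      change MvPowerSeries.coeff m (MvPowerSeries.map (cls f : P k n R →+* Q) (uHom k n R r)) =
        MvPowerSeries.coeff m (f r)
      rw [MvPowerSeries.coeff_map, coeff_uHom]
      exact cls_mk_X f r m
    · intro g' hg'
      apply algHom_ext_P
      intro r m
      rw [cls_mk_X]
      have := congrArg (fun φ : R →+* MvPowerSeries (Fin n) Q => MvPowerSeries.coeff m (φ r)) hg'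
      change MvPowerSeries.coeff m (MvPowerSeries.map (g' : P k n R →+* Q) (uHom k n R r)) =
        MvPowerSeries.coeff m (f r) at this
      rw [MvPowerSeries.coeff_map, coeff_uHom] at this
      exact this
  · rintro ⟨s, hs, hs'⟩
    exact ⟨genSet s, genSet_countable hs, adjoin_genSet_eq_top hs'⟩

end Groth.Agent.S15126
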