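import Groth.Statements.S15152
import Mathlib

set_option autoImplicit false
universe u
open HilbZeta

namespace Groth.Agent.S15152

section helpers

variable {k : Type u} [Field k] {s : ℕ}

/-- The conductor: tuples of polynomials divisible by `X ^ C` (with `C ≥ c i`) multiply everything
into `A`. -/
lemma mul_mem_A {R : Subalgebra k (Fin s → PowerSeries k)} {c : Fin s → ℕ}
    (hc : ∀ f : Fin s → PowerSeries k,
      (∀ g : Fin s → PowerSeries k, g * f ∈ R) ↔ ∀ i, ((c i : ℕ) : ℕ∞) ≤ (f i).order)
    {A : Subalgebra k (Fin s → Polynomial k)}
    (hA : ∀ g : Fin s → Polynomial k, g ∈ A ↔ (fun i => ((g i : Polynomial k) : PowerSeries k)) ∈ R)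
    {C : ℕ} (hC : ∀ i, c i ≤ C) (p q : Fin s → Polynomial k) (hp : ∀ i, Polynomial.X ^ C ∣ p i) :
    q * p ∈ A := by
  rw [hA]
  have h1 : (fun i => (((q * p) i : Polynomial k) : PowerSeries k)) =
      (fun i => ((q i : Polynomial k) : PowerSeries k)) *
        (fun i => ((p i : Polynomial k) : PowerSeries k)) := by
    funext i
    simp [Polynomial.coe_mul]
  rw [h1]
  apply (hc _).mpr
  intro i
  apply PowerSeries.nat_le_order
  intro j hj
  rw [Polynomial.coeff_coe]
  exact (Polynomial.X_pow_dvd_iff.mp (dvd_trans (pow_dvd_pow _ (hC i)) (hp i))) j hj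

lemma single_mem_A {R : Subalgebra k (Fin s → PowerSeries k)} {c : Fin s → ℕ}
    (hc : ∀ f : Fin s → PowerSeries k,
      (∀ g : Fin s → PowerSeries k, g * f ∈ R) ↔ ∀ i, ((c i : ℕ) : ℕ∞) ≤ (f i).order)
    {A : Subalgebra k (Fin s → Polynomial k)}
    (hA : ∀ g : Fin s → Polynomial k, g ∈ A ↔ (fun i => ((g i : Polynomial k) : PowerSeries k)) ∈ R)
    {C : ℕ} (hC : ∀ i, c i ≤ C) (i : Fin s) (h : Polynomial k) :
    Pi.single i (Polynomial.X ^ C * h) ∈ A := by
  have := mul_mem_A hc hA hC (Pi.single i (Polynomial.X ^ C * h)) 1 (by
    intro l
    by_cases hl : l = i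
    · subst hl; simp
    · simp [Pi.single_eq_of_ne hl])
  simpa using this

/-- The tuple ring is a finitely generated `k`-algebra. -/
lemma fg_top_tuples : (⊤ : Subalgebra k (Fin s → Polynomial k)).FG := by
  classical
  refine ⟨(Finset.univ.image fun i : Fin s => (Pi.single i 1 : Fin s → Polynomial k)) ∪
    (Finset.univ.image fun i : Fin s => (Pi.single i Polynomial.X : Fin s → Polynomial k)), ?_⟩
  rw [eq_top_iff]
  intro p _
  set T : Set (Fin s → Polynomial k) :=
    ↑((Finset.univ.image fun i : Fin s => (Pi.single i 1 : Fin s → Polynomial k)) ∪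
    (Finset.univ.image fun i : Fin s => (Pi.single i Polynomial.X : Fin s → Polynomial k))) with hT
  have h1 : ∀ i, (Pi.single i 1 : Fin s → Polynomial k) ∈ Algebra.adjoin k T := fun i =>
    Algebra.subset_adjoin (by simp [hT])
  have hX : ∀ i, (Pi.single i Polynomial.X : Fin s → Polynomial k) ∈ Algebra.adjoin k T := fun i =>
    Algebra.subset_adjoin (by simp [hT])
  have hsingle : ∀ (i : Fin s) (f : Polynomial k),
      (Pi.single i f : Fin s → Polynomial k) ∈ Algebra.adjoin k T := by
    intro i f
    have e : (Pi.single i f : Fin s → Polynomial k) =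
        Polynomial.aeval (Pi.single i Polynomial.X : Fin s → Polynomial k) f * Pi.single i 1 := by
      funext l
      by_cases hl : l = i
      · subst hl
        have : (Polynomial.aeval (Pi.single l Polynomial.X : Fin s → Polynomial k) f) l =
            Polynomial.aeval ((Pi.single l Polynomial.X : Fin s → Polynomial k) l) f := by
          exact (Polynomial.aeval_algHom_apply
            (Pi.evalAlgHom k (fun _ : Fin s => Polynomial k) l) _ f).symm
        simp [this]
      · simp [Pi.single_eq_of_ne hl]
    rw [e]
    exact Subalgebra.mul_mem _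
      (Algebra.adjoin_mono (Set.singleton_subset_iff.mpr (by simp [hT]))
        (Polynomial.aeval_mem_adjoin_singleton k _)) (h1 i)
  rw [← Finset.univ_sum_single p]
  exact Subalgebra.sum_mem _ fun i _ => hsingle i (p i)

end helpers

/-- Let k be a field, s a natural number and R a k-subalgebra of the product of s copies of the power
series ring k[[x]], of finite codimension δ over k and local with residue field k (all components of
an element of R have the same constant term); write v_i for the x-adic order of the i-th component
of an s-tuple, and let c = (c_1, …, c_s) be the conductor exponents, so that an s-tuple f satisfies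
f·g ∈ R for every s-tuple g exactly when v_i(f) ≥ c_i for all i (over an algebraically closed field
such an R is precisely the completed local ring of a reduced curve singularity having s branches
sitting inside its normalisation, δ is its delta invariant and the conductor ideal is generated by
the x_i^{c_i}). Let A be the k-subalgebra of the product of s polynomial rings k[x] consisting of
the tuples whose image in the power series product lies in R, and m₀ its ideal of tuples with zero
constant terms. Then: A is of finite type over k and has no idempotents besides 0 and 1; the product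
of polynomial rings is a finite A-module, and for some N every product of N elements of m₀
multiplies all of it into A; every element of R is approximated to any x-adic order by elements of
A; and for every N there is an M such that every element of A whose components are all divisible by
x^M lies in m₀^N. In words: Y = Spec A is a connected affine curve whose normalisation is the
disjoint union of s affine lines and is an isomorphism away from the origin, and the completed local
ring of Y at the origin is R, compatibly with the inclusion of the polynomial product in the power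
series product. (The published statement asserts the existence of such a curve Y and is over an
algebraically closed field; this row names Y and allows any field.) -/
theorem result (k : Type u) [Field k] (s : ℕ)
    (R : Subalgebra k (Fin s → PowerSeries k))
    (hfin : Module.Finite k ((Fin s → PowerSeries k) ⧸ Subalgebra.toSubmodule R))
    (hloc : ∀ f ∈ R, ∀ i j : Fin s, PowerSeries.constantCoeff (f i) = PowerSeries.constantCoeff (f j))
    (c : Fin s → ℕ)
    (hc : ∀ f : Fin s → PowerSeries k,
      (∀ g : Fin s → PowerSeries k, g * f ∈ R) ↔ ∀ i, ((c i : ℕ) : ℕ∞) ≤ (f i).order)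
    (A : Subalgebra k (Fin s → Polynomial k))
    (hA : ∀ g : Fin s → Polynomial k, g ∈ A ↔ (fun i => ((g i : Polynomial k) : PowerSeries k)) ∈ R) :
    Algebra.FiniteType k ↥A ∧
    (∀ e ∈ A, e * e = e → e = 0 ∨ e = 1) ∧
    Module.Finite ↥A (Fin s → Polynomial k) ∧
    (∃ N : ℕ, ∀ g : Fin N → (Fin s → Polynomial k),
      (∀ n, g n ∈ A ∧ ∀ i, (g n i).coeff 0 = 0) → ∀ p : Fin s → Polynomial k, p * ∏ n, g n ∈ A) ∧
    (∀ f ∈ R, ∀ N : ℕ, ∃ g ∈ A, ∀ i : Fin s, (N : ℕ∞) ≤ (f i - ((g i : Polynomial k) : PowerSeries k)).order) ∧
    (∀ N : ℕ, ∃ M : ℕ, ∀ g : ↥A, (∀ i : Fin s, Polynomial.X ^ M ∣ (g : Fin s → Polynomial k) i) →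
      g ∈ (Ideal.span {h : ↥A | ∀ i : Fin s, ((h : Fin s → Polynomial k) i).coeff 0 = 0}) ^ N) := by
  classical
  -- a uniform bound for the conductor exponents
  set C : ℕ := Finset.univ.sup c + 1 with hCdef
  have hC : ∀ i, c i ≤ C := fun i => by
    have := Finset.le_sup (f := c) (Finset.mem_univ i)
    omega
  have hCpos : 0 < C := by omega
  have hmul := fun (p q : Fin s → Polynomial k) (hp : ∀ i, Polynomial.X ^ C ∣ p i) =>
    mul_mem_A hc hA hC p q hp
  have hsingle := fun (i : Fin s) (h : Polynomial k) => single_mem_A hc hA hC i h
  -- (G3) finiteness of the tuple ring over A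
  have hG3 : Module.Finite ↥A (Fin s → Polynomial k) := by
    refine ⟨⟨insert (1 : Fin s → Polynomial k)
      ((Finset.univ ×ˢ Finset.range C).image fun ij : Fin s × ℕ =>
        (Pi.single ij.1 (Polynomial.X ^ ij.2) : Fin s → Polynomial k)), ?_⟩⟩
    rw [eq_top_iff]
    intro p _
    set W : Submodule ↥A (Fin s → Polynomial k) := Submodule.span ↥A
      (↑(insert (1 : Fin s → Polynomial k)
      ((Finset.univ ×ˢ Finset.range C).image fun ij : Fin s × ℕ =>
        (Pi.single ij.1 (Polynomial.X ^ ij.2) : Fin s → Polynomial k))) : Set _) with hW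
    have h1 : (1 : Fin s → Polynomial k) ∈ W := Submodule.subset_span (by simp)
    have hAW : ∀ a : Fin s → Polynomial k, a ∈ A → a ∈ W := by
      intro a ha
      have : a = (⟨a, ha⟩ : ↥A) • (1 : Fin s → Polynomial k) := by
        rw [Subalgebra.smul_def]; simp
      rw [this]
      exact W.smul_mem _ h1
    have hgen : ∀ (i : Fin s) (j : ℕ), j < C →
        (Pi.single i (Polynomial.X ^ j) : Fin s → Polynomial k) ∈ W := by
      intro i j hj
      apply Submodule.subset_span
      simp only [Finset.coe_insert, Finset.coe_image, Set.mem_insert_iff, Set.mem_image,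
        Finset.mem_coe, Finset.mem_product, Finset.mem_univ, Finset.mem_range, true_and]
      exact Or.inr ⟨(i, j), hj, rfl⟩
    have hmon : ∀ (i : Fin s) (j : ℕ) (a : k), j < C →
        (Pi.single i (Polynomial.monomial j a) : Fin s → Polynomial k) ∈ W := by
      intro i j a hj
      have : (Pi.single i (Polynomial.monomial j a) : Fin s → Polynomial k) =
          (algebraMap k ↥A a) • (Pi.single i (Polynomial.X ^ j) : Fin s → Polynomial k) := by
        rw [Subalgebra.smul_def]
        funext l
        by_cases hl : l = i
        · subst hl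
          simp [← Polynomial.C_mul_X_pow_eq_monomial, Algebra.algebraMap_eq_smul_one,
            Polynomial.smul_eq_C_mul]
        · simp [Pi.single_eq_of_ne hl]
      rw [this]
      exact W.smul_mem _ (hgen i j hj)
    have hsingleW : ∀ (i : Fin s) (f : Polynomial k),
        (Pi.single i f : Fin s → Polynomial k) ∈ W := by
      intro i f
      have hmonic : (Polynomial.X ^ C : Polynomial k).Monic := Polynomial.monic_X_pow C
      have hdecomp : f = f %ₘ (Polynomial.X ^ C) + Polynomial.X ^ C * (f /ₘ (Polynomial.X ^ C)) :=
        (Polynomial.modByMonic_add_div f (Polynomial.X ^ C)).symm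
      have hdeg : (f %ₘ (Polynomial.X ^ C)).natDegree < C := by
        have h := Polynomial.natDegree_modByMonic_lt f hmonic (by
          intro h1
          have := congrArg Polynomial.natDegree h1
          simp at this)
        simpa using h
      have hr : f %ₘ (Polynomial.X ^ C) =
          ∑ j ∈ Finset.range C, Polynomial.monomial j ((f %ₘ (Polynomial.X ^ C)).coeff j) :=
        Polynomial.as_sum_range' _ C hdeg
      have e : (Pi.single i f : Fin s → Polynomial k) =
          (∑ j ∈ Finset.range C, (Pi.single i
            (Polynomial.monomial j ((f %ₘ (Polynomial.X ^ C)).coeff j)) : Fin s → Polynomial k))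
          + Pi.single i (Polynomial.X ^ C * (f /ₘ (Polynomial.X ^ C))) := by
        conv_lhs => rw [hdecomp, hr]
        rw [Pi.single_add]
        congr 1
        exact map_sum (AddMonoidHom.single (fun _ : Fin s => Polynomial k) i) _ _
      rw [e]
      refine W.add_mem (W.sum_mem fun j hj => hmon i j _ (Finset.mem_range.mp hj)) ?_
      exact hAW _ (hsingle i _)
    rw [← Finset.univ_sum_single p]
    exact W.sum_mem fun i _ => hsingleW i (p i)
  refine ⟨?_, ?_, hG3, ?_, ?_, ?_⟩
  · -- (G1) Artin–Tate
    exact ⟨fg_of_fg_of_fg k ↥A (Fin s → Polynomial k) fg_top_tuples hG3.1 Subtype.val_injective⟩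
  · -- (G2) idempotents
    intro e he hee
    have hcomp : ∀ i, e i = 0 ∨ e i = 1 := by
      intro i
      have h1 : e i * e i = e i := congrFun hee i
      have h2 : e i * (e i - 1) = 0 := by rw [mul_sub, h1, mul_one, sub_self]
      rcases mul_eq_zero.mp h2 with h | h
      · exact Or.inl h
      · exact Or.inr (sub_eq_zero.mp h)
    have hconst : ∀ i j, (e i).coeff 0 = (e j).coeff 0 := by
      intro i j
      have := hloc _ ((hA e).mp he) i j
      simpa [Polynomial.coeff_coe] using this
    by_cases h0 : ∀ i, e i = 0
    · left; funext i; exact h0 i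
    · right
      push Not at h0
      obtain ⟨i₀, hi₀⟩ := h0
      have hi₀' : e i₀ = 1 := (hcomp i₀).resolve_left hi₀
      funext j
      rcases hcomp j with hj | hj
      · exfalso
        have := hconst i₀ j
        rw [hi₀', hj] at this
        simp at this
      · rw [hj]; rfl
  · -- (G4)
    refine ⟨C, fun g hg p => ?_⟩
    apply hmul
    intro i
    have hX : ∀ n, Polynomial.X ∣ g n i := fun n => by
      rw [Polynomial.X_dvd_iff]; exact (hg n).2 i
    have : (∏ n, g n) i = ∏ n : Fin C, g n i := by
      rw [Finset.prod_apply]
    rw [this]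
    calc (Polynomial.X : Polynomial k) ^ C = ∏ _n : Fin C, (Polynomial.X : Polynomial k) := by
          simp
      _ ∣ ∏ n : Fin C, g n i := Finset.prod_dvd_prod_of_dvd _ _ (fun n _ => hX n)
  · -- (G5)
    intro f hf N
    set N' := max N C with hN'
    let g : Fin s → Polynomial k := fun i => PowerSeries.trunc N' (f i)
    have hord : ∀ i, (N' : ℕ∞) ≤ (f i - ((g i : Polynomial k) : PowerSeries k)).order := by
      intro i
      apply PowerSeries.nat_le_order
      intro j hj
      rw [map_sub, Polynomial.coeff_coe, PowerSeries.coeff_trunc, if_pos hj, sub_self]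
    have hdiff : (fun i => f i - ((g i : Polynomial k) : PowerSeries k)) ∈ R := by
      have := (hc (fun i => f i - ((g i : Polynomial k) : PowerSeries k))).mpr (fun i => by
        refine le_trans ?_ (hord i)
        exact_mod_cast (hC i).trans (le_max_right N C)) 1
      simpa using this
    refine ⟨g, ?_, fun i => le_trans (by exact_mod_cast le_max_left N C) (hord i)⟩
    rw [hA]
    have : (fun i => ((g i : Polynomial k) : PowerSeries k)) =
        f - (fun i => f i - ((g i : Polynomial k) : PowerSeries k)) := by
      funext i; simp
    rw [this]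
    exact R.sub_mem hf hdiff
  · -- (G6)
    intro N
    refine ⟨(N + 1) * C, fun g hg => ?_⟩
    set 𝔪 := Ideal.span {h : ↥A | ∀ i : Fin s, ((h : Fin s → Polynomial k) i).coeff 0 = 0} with h𝔪
    -- the elements `X^C e_i`
    let u : Fin s → ↥A := fun i => ⟨Pi.single i (Polynomial.X ^ C * 1), hsingle i 1⟩
    have hu : ∀ i, u i ∈ 𝔪 := by
      intro i
      apply Ideal.subset_span
      intro l
      change ((Pi.single i (Polynomial.X ^ C * 1) : Fin s → Polynomial k) l).coeff 0 = 0
      by_cases hl : l = i
      · subst hl
        simp [Polynomial.coeff_X_pow, hCpos.ne]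
      · simp [Pi.single_eq_of_ne hl]
    choose hq hhq using hg
    let w : Fin s → ↥A := fun i => ⟨Pi.single i (Polynomial.X ^ C * hq i), hsingle i (hq i)⟩
    have hgsum : g = ∑ i, u i ^ N * w i := by
      apply Subtype.ext
      rw [AddSubmonoidClass.coe_finsetSum]
      funext l
      rw [Finset.sum_apply]
      simp only [MulMemClass.coe_mul, SubmonoidClass.coe_pow, Pi.mul_apply, Pi.pow_apply, u, w]
      rw [Finset.sum_eq_single l]
      · simp only [Pi.single_eq_same, mul_one]
        rw [hhq l]; ring
      · intro b _ hb
        simp [Pi.single_eq_of_ne (Ne.symm hb)]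
      · simp
    rw [hgsum]
    exact Ideal.sum_mem _ fun i _ => Ideal.mul_mem_right _ _ (Ideal.pow_mem_pow (hu i) N)

end Groth.Agent.S15152
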