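import Groth.Statements.S15155
import Mathlib
import Groth.Agent.R2.H70AltDet

set_option autoImplicit false
open CAlg

namespace Groth.Agent.S15155

open Groth.Agent.R2.H70.AltDet

section aux

variable {N : Type} [Fintype N] [DecidableEq N] {S : Type*} [CommRing S]

/-- `det W` as a square, given that `Js * W` is antisymmetric and `det Js` is a unit with a square
root of its inverse. -/
lemma det_eq_sq_aux {pf : MvPolynomial (N × N) ℤ} (hpf : (genAlt N).det = pf ^ 2)
    (h : S) (hh : 2 * h = 1) (Js W : Matrix N N S) (hJW : (Js * W).transpose = -(Js * W))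
    (e g : S) (he : Js.det * e = 1) (hg : g ^ 2 = e) :
    W.det = (g * MvPolynomial.aeval (fun ij : N × N => h * (Js * W) ij.1 ij.2) pf) ^ 2 := by
  have h1 := det_eq_sq_of_transpose_eq_neg hpf h hh (Js * W) hJW
  rw [Matrix.det_mul] at h1
  rw [mul_pow, hg, ← h1]
  linear_combination (-W.det) * he

end aux

/-- The matrix `J`. -/
abbrev JJ (m : ℕ) : Matrix (Fin m ⊕ Fin m) (Fin m ⊕ Fin m) ℂ := Matrix.fromBlocks 0 1 (-1) 0

lemma JJ_transpose (m : ℕ) : (JJ m).transpose = -JJ m := by
  rw [JJ, Matrix.fromBlocks_transpose, Matrix.fromBlocks_neg]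
  simp

lemma JJ_mul_JJ (m : ℕ) : JJ m * JJ m = -1 := by
  rw [JJ, Matrix.fromBlocks_multiply, ← Matrix.fromBlocks_one, Matrix.fromBlocks_neg]
  simp

lemma JJ_det_sq (m : ℕ) : (JJ m).det * (JJ m).det = 1 := by
  rw [← Matrix.det_mul, JJ_mul_JJ, Matrix.det_neg, Matrix.det_one, mul_one, Fintype.card_sum,
    Fintype.card_fin, ← two_mul, pow_mul]
  simp

/-- The entries of `J * A` as polynomials in the entries of `A`. -/
noncomputable def entryQ (m : ℕ) (ij : (Fin m ⊕ Fin m) × (Fin m ⊕ Fin m)) :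
    MvPolynomial ((Fin m ⊕ Fin m) × (Fin m ⊕ Fin m)) ℂ :=
  MvPolynomial.C (1 / 2 : ℂ) * ∑ k, MvPolynomial.C (JJ m ij.1 k) * MvPolynomial.X (k, ij.2)

/-- The entries of `J * (X - A)` as polynomials in the entries of `A` over `ℂ[X]`. -/
noncomputable def entryP (m : ℕ) (ij : (Fin m ⊕ Fin m) × (Fin m ⊕ Fin m)) :
    MvPolynomial ((Fin m ⊕ Fin m) × (Fin m ⊕ Fin m)) (Polynomial ℂ) :=
  MvPolynomial.C (Polynomial.C (1 / 2 : ℂ)) *
    (MvPolynomial.C (Polynomial.C (JJ m ij.1 ij.2) * Polynomial.X)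
      - ∑ k, MvPolynomial.C (Polynomial.C (JJ m ij.1 k)) * MvPolynomial.X (k, ij.2))

lemma eval_aeval {σ τ : Type*} {S : Type*} [CommRing S] (g : τ → S)
    (f : σ → MvPolynomial τ S) (p : MvPolynomial σ ℤ) :
    MvPolynomial.eval g (MvPolynomial.aeval f p) =
      MvPolynomial.aeval (fun i => MvPolynomial.eval g (f i)) p := by
  have := MvPolynomial.comp_aeval (R := ℤ) f ((MvPolynomial.eval g).toIntAlgHom)
  exact AlgHom.congr_fun this p

/-- Let J be the 2m × 2m block matrix with blocks 0, I_m in the first row and −I_m, 0 in the second,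
over the complex numbers. On the set of complex 2m × 2m matrices A with ᵗA · J = J · A (equivalently
ᵗA = J A J⁻¹, J being invertible), the characteristic polynomial is the square of a single
polynomial in the entries of A with coefficients in ℂ[X], and the determinant is the square of a
single polynomial in the entries of A. -/
theorem result (m : ℕ) :
    (∃ P : MvPolynomial ((Fin m ⊕ Fin m) × (Fin m ⊕ Fin m)) (Polynomial ℂ),
      ∀ A : Matrix (Fin m ⊕ Fin m) (Fin m ⊕ Fin m) ℂ,
        A.transpose * Matrix.fromBlocks 0 1 (-1) 0 = Matrix.fromBlocks 0 1 (-1) 0 * A →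
        A.charpoly = (MvPolynomial.eval (fun ij => Polynomial.C (A ij.1 ij.2)) P) ^ 2) ∧
    (∃ Q : MvPolynomial ((Fin m ⊕ Fin m) × (Fin m ⊕ Fin m)) ℂ,
      ∀ A : Matrix (Fin m ⊕ Fin m) (Fin m ⊕ Fin m) ℂ,
        A.transpose * Matrix.fromBlocks 0 1 (-1) 0 = Matrix.fromBlocks 0 1 (-1) 0 * A →
        A.det = (MvPolynomial.eval (fun ij => A ij.1 ij.2) Q) ^ 2) := by
  obtain ⟨pf, hpf⟩ := exists_pf (Fin m ⊕ Fin m)
  set ε := (JJ m).det with hε
  have hεε : ε * ε = 1 := JJ_det_sq m
  obtain ⟨γ, hγ⟩ := IsAlgClosed.exists_pow_nat_eq ε (n := 2) (by norm_num)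
  have hhalf : (2 : ℂ) * (1 / 2) = 1 := by norm_num
  constructor
  · refine ⟨MvPolynomial.C (Polynomial.C γ) * MvPolynomial.aeval (entryP m) pf, ?_⟩
    intro A hA
    let Js : Matrix (Fin m ⊕ Fin m) (Fin m ⊕ Fin m) (Polynomial ℂ) :=
      (Polynomial.C : ℂ →+* Polynomial ℂ).mapMatrix (JJ m)
    let A' : Matrix (Fin m ⊕ Fin m) (Fin m ⊕ Fin m) (Polynomial ℂ) :=
      (Polynomial.C : ℂ →+* Polynomial ℂ).mapMatrix A
    have hJsT : Js.transpose = -Js := by
      simp only [Js, RingHom.mapMatrix_apply]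
      rw [← Matrix.transpose_map, JJ_transpose,
        Matrix.map_neg _ (fun a => map_neg (Polynomial.C : ℂ →+* Polynomial ℂ) a)]
    have hA' : A'.transpose * Js = Js * A' := by
      simp only [Js, A', RingHom.mapMatrix_apply]
      rw [← Matrix.transpose_map, ← Matrix.map_mul, ← Matrix.map_mul]
      exact congrArg (fun M => M.map Polynomial.C) hA
    have hchar : A.charmatrix = Matrix.scalar _ (Polynomial.X : Polynomial ℂ) - A' := rfl
    have hJW : (Js * A.charmatrix).transpose = -(Js * A.charmatrix) := by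
      rw [Matrix.transpose_mul, hJsT, hchar, Matrix.transpose_sub, Matrix.mul_sub, Matrix.sub_mul,
        Matrix.mul_neg, Matrix.mul_neg, hA']
      have hsc : (Matrix.scalar (Fin m ⊕ Fin m) (Polynomial.X : Polynomial ℂ)).transpose * Js
          = Js * Matrix.scalar (Fin m ⊕ Fin m) (Polynomial.X : Polynomial ℂ) := by
        rw [Matrix.scalar_apply, Matrix.diagonal_transpose]
        exact ((Matrix.scalar_commute (Polynomial.X : Polynomial ℂ) (fun r => mul_comm _ _) Js)).eq
      rw [hsc]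
      abel
    have hdetJs : Js.det * Polynomial.C ε = 1 := by
      have : Js.det = Polynomial.C ε := (RingHom.map_det _ _).symm
      rw [this, ← map_mul, hεε, map_one]
    have hg : (Polynomial.C γ) ^ 2 = Polynomial.C ε := by rw [← map_pow, hγ]
    have hCh : (2 : Polynomial ℂ) * Polynomial.C (1 / 2 : ℂ) = 1 := by
      have h2 : (2 : Polynomial ℂ) = Polynomial.C 2 := (map_ofNat Polynomial.C 2).symm
      rw [h2, ← map_mul, hhalf, map_one]
    have key := det_eq_sq_aux hpf (Polynomial.C (1 / 2 : ℂ)) hCh Js A.charmatrix hJW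
      (Polynomial.C ε) (Polynomial.C γ) hdetJs hg
    have e1 : MvPolynomial.eval (fun ij => Polynomial.C (A ij.1 ij.2))
        (MvPolynomial.aeval (entryP m) pf) =
        MvPolynomial.aeval (fun ij : (Fin m ⊕ Fin m) × (Fin m ⊕ Fin m) =>
          Polynomial.C (1 / 2 : ℂ) * (Js * A.charmatrix) ij.1 ij.2) pf := by
      refine (eval_aeval _ _ _).trans ?_
      congr 2
      funext ij
      simp only [entryP, map_mul, map_sub, map_sum, MvPolynomial.eval_C, MvPolynomial.eval_X]
      congr 1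
      rw [Matrix.mul_apply]
      simp only [Matrix.charmatrix_apply, mul_sub, Finset.sum_sub_distrib, Js,
        RingHom.mapMatrix_apply, Matrix.map_apply, Matrix.diagonal_apply, mul_ite, mul_zero,
        Finset.sum_ite_eq', Finset.mem_univ, if_true]
    rw [Matrix.charpoly, key, map_mul, MvPolynomial.eval_C, e1]
    rfl
  · refine ⟨MvPolynomial.C γ * MvPolynomial.aeval (entryQ m) pf, ?_⟩
    intro A hA
    have hJW : (JJ m * A).transpose = -(JJ m * A) := by
      rw [Matrix.transpose_mul, JJ_transpose, Matrix.mul_neg, hA]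
    have key := det_eq_sq_aux hpf (1 / 2 : ℂ) hhalf (JJ m) A hJW ε γ hεε hγ
    have e1 : MvPolynomial.eval (fun ij => A ij.1 ij.2) (MvPolynomial.aeval (entryQ m) pf) =
        MvPolynomial.aeval (fun ij : (Fin m ⊕ Fin m) × (Fin m ⊕ Fin m) =>
          (1 / 2 : ℂ) * (JJ m * A) ij.1 ij.2) pf := by
      refine (eval_aeval _ _ _).trans ?_
      congr 2
      funext ij
      simp only [entryQ, map_mul, map_sum, MvPolynomial.eval_C, MvPolynomial.eval_X]
      rw [Matrix.mul_apply]
    rw [key, map_mul, MvPolynomial.eval_C, e1]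

end Groth.Agent.S15155
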