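import Groth.Statements.S15173
import Groth.Agent.Lib.LeadRadical

set_option autoImplicit false
universe u v
open Polynomial
open BddFin

namespace Groth.Agent.S15173

/-- in a commutative group all of whose `p`-th powers lie in `Z`, finitely many elements which are
pairwise distinct modulo `Z` generate, with `Z`, a subgroup in which `Z` has finite index at least
the number of these elements -/
theorem exists_large_relIndex {G : Type*} [CommGroup G] (Z : Subgroup G) {p : ℕ} (hp : 0 < p)
    (hpow : ∀ g : G, g ^ p ∈ Z) (S : Finset G) (hS : ∀ s ∈ S, ∀ t ∈ S, s / t ∈ Z → s = t) :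
    ∃ H : Subgroup G, Z ≤ H ∧ Z.relIndex H ≠ 0 ∧ S.card ≤ Z.relIndex H := by
  classical
  let π := QuotientGroup.mk' Z
  let P : Subgroup (G ⧸ Z) := Subgroup.closure ((S.image π : Finset (G ⧸ Z)) : Set (G ⧸ Z))
  have htors : IsMulTorsion (G ⧸ Z) := by
    intro q
    obtain ⟨g, rfl⟩ := QuotientGroup.mk'_surjective Z q
    rw [isOfFinOrder_iff_pow_eq_one]
    refine ⟨p, hp, ?_⟩
    rw [← map_pow]
    exact (QuotientGroup.eq_one_iff _).mpr (hpow g)
  have hfin : Finite P := CommGroup.finite_of_fg_isMulTorsion (G := P) (htors.subgroup P)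
  refine ⟨P.comap π, ?_, ?_⟩
  · intro z hz
    rw [Subgroup.mem_comap]
    have : π z = 1 := (QuotientGroup.eq_one_iff _).mpr hz
    rw [this]; exact P.one_mem
  have hrel : Z.relIndex (P.comap π) = Nat.card P := by
    have hZ : (⊥ : Subgroup (G ⧸ Z)).comap π = Z := by
      rw [MonoidHom.comap_bot, QuotientGroup.ker_mk']
    have h1 := Subgroup.relIndex_comap (⊥ : Subgroup (G ⧸ Z)) π (P.comap π)
    rw [hZ, Subgroup.map_comap_eq_self_of_surjective (QuotientGroup.mk'_surjective Z),
      Subgroup.relIndex_bot_left] at h1
    exact h1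
  rw [hrel]
  refine ⟨Nat.card_pos.ne', ?_⟩
  let f : S → P := fun s => ⟨π s.1, Subgroup.subset_closure (by
    rw [Finset.coe_image]; exact ⟨s.1, s.2, rfl⟩)⟩
  have hf : Function.Injective f := by
    intro s t hst
    have h1 : π s.1 = π t.1 := congrArg Subtype.val hst
    apply Subtype.ext
    apply hS s.1 s.2 t.1 t.2
    rw [← QuotientGroup.eq_one_iff, QuotientGroup.mk_div]
    change π s.1 / π t.1 = 1
    rw [h1, div_self']
  have := Nat.card_le_card_of_injective f hf
  rwa [Nat.card_eq_fintype_card, Fintype.card_coe] at this

/-- Let K be a field of characteristic p > 0 such that K contains all roots of unity (for every n ≥ 1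
the polynomial X^n − 1 splits into linear factors over K), and A a finite-dimensional central
division algebra over K. If A contains an element w not in K with w ^ p in K, then the quotient of
the unit group of A by that of K has unbounded finite subgroups: for every N there is a subgroup H
of the units of A containing the units of K as a subgroup of finite index greater than N. (The
published statement assumes only that some element of A is inseparable over K and passes at once to
a purely inseparable subfield of degree p; this row assumes an element generating such a subfield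
directly, which is what the rest of the printed argument uses.) -/
theorem result
    (K : Type u) [Field K] (p : ℕ) [Fact p.Prime] [CharP K p] (hK : ∀ n : ℕ, 0 < n → (X ^ n - 1 : K[X]).Splits)
    (A : Type v) [DivisionRing A] [Algebra K A] [Algebra.IsCentral K A] [FiniteDimensional K A]
    (w : A) (hw : w ^ p ∈ (algebraMap K A).range) (hwK : w ∉ (algebraMap K A).range) (N : ℕ) :
    ∃ H : Subgroup Aˣ, (Units.map (algebraMap K A : K →* A)).range ≤ H ∧
      N < ((Units.map (algebraMap K A : K →* A)).range).relIndex H := by
  classical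
  have hp : p.Prime := Fact.out
  have hcharA : CharP A p := charP_of_injective_algebraMap (algebraMap K A).injective p
  -- K is infinite
  have hKinf : Infinite K := by
    by_contra hfin
    rw [not_infinite_iff_finite] at hfin
    have : PerfectRing K p := PerfectField.toPerfectRing p
    obtain ⟨k, hk⟩ := hw
    obtain ⟨k₁, hk₁⟩ := surjective_frobenius K p k
    have hcomm : Commute w (algebraMap K A k₁) := (Algebra.commutes k₁ w).symm
    have h1 : (w - algebraMap K A k₁) ^ p = 0 := by
      rw [sub_pow_char_of_commute p hcomm, ← map_pow, ← frobenius_def, hk₁, hk, sub_self]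
    have h2 : w - algebraMap K A k₁ = 0 := pow_eq_zero_iff hp.ne_zero |>.mp h1
    exact hwK ⟨k₁, (sub_eq_zero.mp h2).symm⟩
  -- the commutative subfield generated by w
  set E : Subalgebra K A := Algebra.adjoin K ({w} : Set A) with hE
  have hEcomm := Groth.Agent.Lib.LeadCSA.adjoin_singleton_comm (k := K) w
  let _ : Field E := Groth.Agent.Lib.LeadCSA.fieldOfComm E hEcomm
  have hwE : w ∈ E := Algebra.subset_adjoin rfl
  -- p-th powers of elements of E lie in K
  have hEpowA : ∀ x ∈ E, x ^ p ∈ (algebraMap K A).range := by
    intro x hx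
    induction hx using Algebra.adjoin_induction with
    | mem y hy =>
      rw [Set.mem_singleton_iff] at hy
      rw [hy]; exact hw
    | algebraMap k => exact ⟨k ^ p, map_pow _ _ _⟩
    | add y z hy hz hy' hz' =>
      rw [add_pow_char_of_commute p (hEcomm y hy z hz)]
      exact Subring.add_mem _ hy' hz'
    | mul y z hy hz hy' hz' =>
      rw [(show Commute y z from hEcomm y hy z hz).mul_pow]
      exact Subring.mul_mem _ hy' hz'
  have hEpow : ∀ z : E, z ^ p ∈ (algebraMap K E).range := by
    intro z
    obtain ⟨k, hk⟩ := hEpowA z.1 z.2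
    exact ⟨k, Subtype.ext hk⟩
  -- the subgroup of scalars in Eˣ
  set ZE : Subgroup Eˣ := (Units.map (algebraMap K E : K →* E)).range with hZE
  have hpowE : ∀ g : Eˣ, g ^ p ∈ ZE := by
    intro g
    obtain ⟨k, hk⟩ := hEpow (g : E)
    have hk0 : k ≠ 0 := by
      rintro rfl
      rw [map_zero] at hk
      exact (pow_ne_zero p g.ne_zero) hk.symm
    refine ⟨Units.mk0 k hk0, ?_⟩
    apply Units.ext
    rw [Units.coe_map, Units.val_pow_eq_pow_val]
    exact hk
  -- the elements 1 + a w
  have hne : ∀ a : K, (⟨1 + algebraMap K A a * w, E.add_mem E.one_mem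
      (E.mul_mem (E.algebraMap_mem a) hwE)⟩ : E) ≠ 0 := by
    intro a h0
    have h1 : 1 + algebraMap K A a * w = 0 := congrArg Subtype.val h0
    have ha : a ≠ 0 := by
      rintro rfl
      rw [map_zero, zero_mul, add_zero] at h1
      exact one_ne_zero h1
    apply hwK
    refine ⟨-a⁻¹, ?_⟩
    have h2 : algebraMap K A a * w = -1 := by rw [← add_eq_zero_iff_eq_neg']; exact h1
    have : w = algebraMap K A a⁻¹ * (algebraMap K A a * w) := by
      rw [← mul_assoc, ← map_mul, inv_mul_cancel₀ ha, map_one, one_mul]
    rw [this, h2, map_neg, mul_neg, mul_one]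
  let uE : K → Eˣ := fun a => Units.mk0 _ (hne a)
  have huE : ∀ a : K, ((uE a : E) : A) = 1 + algebraMap K A a * w := fun a => rfl
  -- distinctness modulo scalars
  have hdist : ∀ a b : K, uE a / uE b ∈ ZE → a = b := by
    intro a b hab
    obtain ⟨z, hz⟩ := hab
    have h1 : uE a = uE b * Units.map (algebraMap K E : K →* E) z := by
      rw [hz, mul_div_cancel]
    have h2 : (1 : A) + algebraMap K A a * w = (1 + algebraMap K A b * w) * algebraMap K A (z : K) := by
      have := congrArg (fun g : Eˣ => ((g : E) : A)) h1
      simpa [huE] using this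
    have h3 : algebraMap K A (a - b * z) * w = algebraMap K A ((z : K) - 1) := by
      have hc : algebraMap K A b * w * algebraMap K A (z : K) = algebraMap K A (b * z) * w := by
        rw [map_mul, mul_assoc, ← Algebra.commutes (z : K) w, ← mul_assoc]
      rw [add_mul, one_mul, hc] at h2
      rw [map_sub, map_sub, map_one, sub_mul]
      rw [sub_eq_sub_iff_add_eq_add, add_comm, h2]
    by_cases h4 : a - b * z = 0
    · rw [h4, map_zero, zero_mul] at h3
      have h5 : (z : K) - 1 = 0 := (algebraMap K A).injective (by rw [← h3, map_zero])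
      have h6 : (z : K) = 1 := sub_eq_zero.mp h5
      rw [h6, mul_one] at h4
      exact sub_eq_zero.mp h4
    · exfalso
      apply hwK
      refine ⟨(a - b * z)⁻¹ * ((z : K) - 1), ?_⟩
      rw [map_mul, ← h3, ← mul_assoc, ← map_mul, inv_mul_cancel₀ h4, map_one, one_mul]
  -- choose N + 1 scalars
  obtain ⟨S₀, hS₀⟩ := Infinite.exists_subset_card_eq K (N + 1)
  have hinj : Set.InjOn uE (S₀ : Set K) := fun a _ b _ hab => hdist a b (by
    rw [hab, div_self']; exact ZE.one_mem)
  obtain ⟨HE, hZHE, hfinE, hcardE⟩ := exists_large_relIndex ZE hp.pos hpowE (S₀.image uE) (by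
    intro s hs t ht hst
    rw [Finset.mem_image] at hs ht
    obtain ⟨a, -, rfl⟩ := hs
    obtain ⟨b, -, rfl⟩ := ht
    rw [hdist a b hst])
  rw [Finset.card_image_of_injOn hinj, hS₀] at hcardE
  -- transport to Aˣ
  let φ : Eˣ →* Aˣ := Units.map (E.val : E →* A)
  have hφ : Function.Injective φ := Units.map_injective Subtype.val_injective
  have hZA : (Units.map (algebraMap K A : K →* A)).range = ZE.map φ := by
    rw [hZE, MonoidHom.map_range]
    rfl
  refine ⟨HE.map φ, ?_, ?_⟩
  · rw [hZA]
    exact Subgroup.map_mono hZHE
  · rw [hZA, Subgroup.relIndex_map_map_of_injective _ _ hφ]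
    omega

end Groth.Agent.S15173
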