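import Groth.Statements.S15185
import Groth.Agent.Lib.LeadRadical

set_option autoImplicit false
universe u v
open Polynomial
open BddFin

namespace Groth.Agent.S15185

open scoped TensorProduct

/-- the size of a matrix splitting of `A` is the degree of `A` -/
theorem size_eq_of_splitting {K : Type u} [Field K] {A : Type v} [Ring A] [Algebra K A]
    [FiniteDimensional K A] {n : ℕ} (hA : Module.finrank K A = n ^ 2)
    {K' : Type u} [Field K'] [Algebra K K'] {n₁ : ℕ}
    (φ : K' ⊗[K] A ≃ₐ[K'] Matrix (Fin n₁) (Fin n₁) K') : n₁ = n := by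
  have h1 : Module.finrank K' (K' ⊗[K] A) = n ^ 2 := by
    rw [Module.finrank_baseChange, hA]
  have h2 : Module.finrank K' (K' ⊗[K] A) = n₁ ^ 2 := by
    rw [φ.toLinearEquiv.finrank_eq, Module.finrank_matrix, Fintype.card_fin, Module.finrank_self,
      mul_one, pow_two]
  have : n₁ ^ 2 = n ^ 2 := by rw [← h1, ← h2]
  exact Nat.pow_left_injective (by norm_num : 2 ≠ 0) this

/-- Let K be a field of characteristic p > 0 such that K contains all roots of unity (for every n ≥ 1
the polynomial X^n − 1 splits into linear factors over K), A a central division algebra of dimension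
n ^ 2 over K, and write n = n' · p ^ m with n' prime to p; let N be the reduced norm of A. Consider
the kernel of the homomorphism from the units of A modulo those of K to Kˣ/(Kˣ)^(p^m) induced by N.
Every element of finite order of that kernel has order dividing n': if x ≠ 0 in A has x ^ r in K for
some r ≥ 1 and N x is a (p ^ m)-th power of a non-zero element of K, then x ^ n' lies in K. -/
theorem result
    (K : Type u) [Field K] (p : ℕ) [Fact p.Prime] [CharP K p] (hK : ∀ n : ℕ, 0 < n → (X ^ n - 1 : K[X]).Splits)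
    (A : Type v) [DivisionRing A] [Algebra K A] [Algebra.IsCentral K A] [FiniteDimensional K A]
    (n n' m : ℕ) (hA : Module.finrank K A = n ^ 2) (hn : n = n' * p ^ m) (hn' : ¬ p ∣ n')
    (N : A →* K) (hN : CSAGal.IsRedNorm K A N)
    (x : A) (hx : x ≠ 0) (hxr : ∃ r : ℕ, 0 < r ∧ x ^ r ∈ (algebraMap K A).range)
    (hNx : ∃ b : K, b ≠ 0 ∧ N x = b ^ (p ^ m)) :
    x ^ n' ∈ (algebraMap K A).range := by
  classical
  have hp : p.Prime := Fact.out
  obtain ⟨r, hr, hxr'⟩ := hxr
  obtain ⟨b, hb0, hNb⟩ := hNx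
  have hint : IsIntegral K x := Algebra.IsIntegral.isIntegral x
  set f := minpoly K x with hf
  set d := f.natDegree with hd
  have hdpos : 0 < d := minpoly.natDegree_pos hint
  obtain ⟨c, hc⟩ := Groth.Agent.Lib.LeadCSA.pow_natDegree_minpoly_mem_range hK hint hr hxr'
  rw [← hf, ← hd] at hc
  -- c ≠ 0
  have hc0 : c ≠ 0 := by
    rintro rfl
    rw [map_zero] at hc
    exact hx (pow_eq_zero_iff hdpos.ne' |>.mp hc.symm)
  -- d ∣ n
  have hdn : d ∣ n := by
    have h := Groth.Agent.Lib.LeadCSA.finrank_comm_subalgebra_dvd (Algebra.adjoin K ({x} : Set A))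
      (Groth.Agent.Lib.LeadCSA.adjoin_singleton_comm (k := K) x) hA
    rwa [Groth.Agent.Lib.LeadCSA.finrank_adjoin_singleton] at h
  -- f = X^d - C c
  have hfm : f.Monic := minpoly.monic hint
  have hfirr : Irreducible f := minpoly.irreducible hint
  have hfeq : f = X ^ d - C c := by
    have hmon : (X ^ d - C c : K[X]).Monic := monic_X_pow_sub_C c hdpos.ne'
    have hdvd : f ∣ X ^ d - C c := by
      apply minpoly.dvd
      simp [hc]
    have hdeg : (X ^ d - C c : K[X]).natDegree ≤ f.natDegree := by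
      rw [natDegree_X_pow_sub_C]
    exact (eq_of_monic_of_dvd_of_natDegree_le hfm hmon hdvd hdeg).symm
  -- the norm relation N x ^ d = c ^ n
  have hnorm : N x ^ d = c ^ n := by
    obtain ⟨K', _, _, _, n₁, φ, hφ⟩ := hN
    have hn₁ : n₁ = n := size_eq_of_splitting hA φ
    have h1 : (φ (1 ⊗ₜ[K] x)) ^ d = algebraMap K' _ (algebraMap K K' c) := by
      rw [← map_pow, Algebra.TensorProduct.tmul_pow, one_pow, ← hc]
      have : (1 : K') ⊗ₜ[K] (algebraMap K A c) = algebraMap K' (K' ⊗[K] A) (algebraMap K K' c) := by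
        rw [Algebra.TensorProduct.algebraMap_apply, Algebra.algebraMap_eq_smul_one,
          Algebra.algebraMap_eq_smul_one (A := K') c, TensorProduct.tmul_smul,
          Algebra.algebraMap_self, RingHom.id_apply, TensorProduct.smul_tmul']
      rw [this, AlgEquiv.commutes]
    have h2 : (algebraMap K K' (N x)) ^ d = (algebraMap K K' c) ^ n := by
      rw [hφ x, ← Matrix.det_pow, h1, Matrix.algebraMap_eq_diagonal, Matrix.det_diagonal]
      simp [hn₁]
    apply (algebraMap K K').injective
    rw [map_pow, map_pow, h2]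
  -- b ^ d = c ^ n'
  have hbd : b ^ d = c ^ n' := by
    have h : (b ^ d) ^ (p ^ m) = (c ^ n') ^ (p ^ m) := by
      rw [← pow_mul, ← pow_mul, mul_comm d, pow_mul, ← hNb, hnorm, hn]
    exact iterateFrobenius_inj K p m h
  -- p ∤ d
  have hpd : ¬ p ∣ d := by
    rintro ⟨d'', hd''⟩
    have hcop : Nat.Coprime n' p := (Nat.Coprime.symm ((Nat.Prime.coprime_iff_not_dvd hp).mpr hn'))
    obtain ⟨u, -, hu⟩ := Nat.exists_mul_mod_eq_one_of_coprime hcop hp.one_lt
    set v := n' * u / p with hv
    have huv : n' * u = p * v + 1 := by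
      have := Nat.div_add_mod (n' * u) p
      rw [hu] at this
      exact this.symm
    -- c = c₁ ^ p
    have hc1 : c = (b ^ (d'' * u) / c ^ v) ^ p := by
      have hcv : c ^ v ≠ 0 := pow_ne_zero _ hc0
      rw [div_pow, eq_div_iff (pow_ne_zero _ hcv)]
      calc c * (c ^ v) ^ p = c ^ (p * v + 1) := by rw [pow_succ, pow_mul, mul_comm, ← pow_mul, mul_comm v p, pow_mul]
        _ = (c ^ n') ^ u := by rw [← huv, pow_mul]
        _ = (b ^ (d'' * u)) ^ p := by rw [← hbd, hd'', ← pow_mul, ← pow_mul]; ring_nf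
    set c₁ := b ^ (d'' * u) / c ^ v with hc₁
    have hfp : f = (X ^ d'' - C c₁) ^ p := by
      rw [hfeq, sub_pow_char, ← pow_mul, ← C_pow, ← hc1, hd'', mul_comm]
    rw [hfp] at hfirr
    exact not_irreducible_pow hp.one_lt.ne' hfirr
  have hdn' : d ∣ n' := by
    rw [hn] at hdn
    have hcop : Nat.Coprime d (p ^ m) := Nat.Coprime.pow_right m
      (Nat.Coprime.symm ((Nat.Prime.coprime_iff_not_dvd hp).mpr hpd))
    exact hcop.dvd_of_dvd_mul_right hdn
  obtain ⟨q, hq⟩ := hdn'
  refine ⟨c ^ q, ?_⟩
  rw [map_pow, hc, hq, pow_mul]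

end Groth.Agent.S15185
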