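import Groth.Statements.S15245
import Mathlib

set_option autoImplicit false
universe u
open CategoryTheory AlgebraicGeometry
open RedSub

namespace Groth.Agent.S15245

section Aux

theorem apply_inv' {α : Type*} (w : Equiv.Perm α) (x : α) : w (w⁻¹ x) = x :=
  Equiv.apply_symm_apply w x

theorem inv_apply' {α : Type*} (w : Equiv.Perm α) (x : α) : w⁻¹ (w x) = x :=
  Equiv.symm_apply_apply w x

variable {idx M N : Type} [AddCommGroup M] [AddCommGroup N]
  (P : RootPairing idx ℤ M N) (b : P.Base)

/-- the cone of non-negative combinations of simple roots -/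
abbrev cone : AddSubmonoid M := AddSubmonoid.closure (P.root '' (b.support : Set idx))

theorem mem_posRoots_iff (a : idx) : a ∈ RedSub.posRoots P b ↔ P.root a ∈ cone P b := Iff.rfl

theorem mem_negRoots_iff (a : idx) : a ∈ RedSub.negRoots P b ↔ -P.root a ∈ cone P b := Iff.rfl

/-- elements of the cone are natural combinations of the simple roots -/
theorem exists_nat_comb (m : M) (hm : m ∈ cone P b) :
    ∃ f : idx → ℕ, m = ∑ j ∈ b.support, f j • P.root j := by
  classical
  refine AddSubmonoid.closure_induction ?_ ⟨0, by simp⟩ ?_ hm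
  · rintro - ⟨j, hj, rfl⟩
    refine ⟨Pi.single j 1, ?_⟩
    rw [Finset.sum_eq_single_of_mem j hj]
    · simp
    · intro i _ hij
      simp [hij]
  · intro _ _ _ _ ⟨f, hf'⟩ ⟨g, hg'⟩
    exact ⟨f + g, by simp [hf', hg', add_smul, Finset.sum_add_distrib]⟩

/-- the cone is salient -/
theorem eq_zero_of_mem_of_neg_mem (m : M) (hm : m ∈ cone P b) (hm' : -m ∈ cone P b) : m = 0 := by
  classical
  obtain ⟨f, hf⟩ := exists_nat_comb P b m hm
  obtain ⟨g, hg⟩ := exists_nat_comb P b (-m) hm'
  have h0 : ∑ j ∈ b.support, ((f j + g j : ℕ) : ℤ) • P.root j = 0 := by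
    have h : ∑ j ∈ b.support, f j • P.root j + ∑ j ∈ b.support, g j • P.root j = 0 := by
      rw [← hf, ← hg, add_neg_cancel]
    rw [← h, ← Finset.sum_add_distrib]
    apply Finset.sum_congr rfl
    intro j _
    rw [natCast_zsmul, add_smul]
  have h1 := linearIndepOn_iff'.mp b.linearIndepOn_root b.support
    (fun j => ((f j + g j : ℕ) : ℤ)) (le_refl _) h0
  rw [hf]
  apply Finset.sum_eq_zero
  intro j hj
  have h2 := h1 j hj
  have h3 : f j = 0 := by
    have : (f j + g j : ℕ) = 0 := by exact_mod_cast h2
    omega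
  rw [h3, zero_smul]

theorem not_pos_and_neg (a : idx) (h1 : a ∈ RedSub.posRoots P b) (h2 : a ∈ RedSub.negRoots P b) :
    False :=
  P.ne_zero a (eq_zero_of_mem_of_neg_mem P b _ h1 h2)

theorem zsmul_mem_cone {n : ℤ} (hn : 0 ≤ n) {m : M} (hm : m ∈ cone P b) : n • m ∈ cone P b := by
  obtain ⟨k, rfl⟩ := Int.eq_ofNat_of_zero_le hn
  rw [natCast_zsmul]
  exact AddSubmonoid.nsmul_mem _ hm k

/-- the linear action of a word -/
noncomputable def wordLin (l : List idx) : M ≃ₗ[ℤ] M := (l.map P.reflection).prod

theorem wordPerm_cons (i : idx) (l : List idx) :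
    RedSub.wordPerm P (i :: l) = P.reflectionPerm i * RedSub.wordPerm P l := by
  simp [RedSub.wordPerm]

theorem root_wordPerm (l : List idx) (a : idx) :
    P.root (RedSub.wordPerm P l a) = wordLin P l (P.root a) := by
  induction l with
  | nil => simp [RedSub.wordPerm, wordLin]
  | cons i l ih =>
    rw [wordPerm_cons, Equiv.Perm.mul_apply, P.root_reflectionPerm, ih]
    simp [wordLin]

theorem root_wordPerm_inv (l : List idx) (a : idx) :
    P.root ((RedSub.wordPerm P l)⁻¹ a) = (wordLin P l).symm (P.root a) := by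
  rw [LinearEquiv.eq_symm_apply, ← root_wordPerm]
  simp

/-- the forward direction -/
theorem ncard_lt [Finite idx] (l : List idx) (c : idx) (hc : c ∈ RedSub.posRoots P b)
    (hβ : (RedSub.wordPerm P l)⁻¹ c ∈ RedSub.posRoots P b) :
    Set.ncard {a : idx | a ∈ RedSub.posRoots P b ∧ RedSub.wordPerm P l a ∈ RedSub.negRoots P b} <
      Set.ncard {a : idx | a ∈ RedSub.posRoots P b ∧
        (P.reflectionPerm c * RedSub.wordPerm P l) a ∈ RedSub.negRoots P b} := by
  classical
  set w := RedSub.wordPerm P l with hw
  set W := wordLin P l with hW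
  set t := P.reflectionPerm c with ht
  set β := w⁻¹ c with hβdef
  have hrβ : P.root β = W.symm (P.root c) := root_wordPerm_inv P l c
  -- the root of w⁻¹ t w a
  have hroot : ∀ a : idx, P.root (w⁻¹ (t (w a))) = P.root a - P.pairing (w a) c • P.root β := by
    intro a
    rw [hw, root_wordPerm_inv, ← hw, ht, P.root_reflectionPerm, P.reflection_apply_root, map_sub,
      map_zsmul, ← hrβ, hw, root_wordPerm, LinearEquiv.symm_apply_apply]
  have hroot' : ∀ a : idx, P.root (t (w a)) = P.root (w a) - P.pairing (w a) c • P.root c := by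
    intro a
    rw [ht, P.root_reflectionPerm, P.reflection_apply_root]
  let ψ : idx → idx := fun a => if w⁻¹ (t (w a)) ∈ RedSub.posRoots P b then w⁻¹ (t (w a)) else a
  set I := {a : idx | a ∈ RedSub.posRoots P b ∧ w a ∈ RedSub.negRoots P b} with hI
  set J := {a : idx | a ∈ RedSub.posRoots P b ∧ (t * w) a ∈ RedSub.negRoots P b} with hJ
  have hmaps : ∀ a ∈ I, ψ a ∈ J := by
    rintro a ⟨ha1, ha2⟩
    by_cases h : w⁻¹ (t (w a)) ∈ RedSub.posRoots P b
    · simp only [ψ, if_pos h]
      refine ⟨h, ?_⟩
      rw [Equiv.Perm.mul_apply, apply_inv', ht, P.reflectionPerm_self]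
      exact ha2
    · simp only [ψ, if_neg h]
      refine ⟨ha1, ?_⟩
      rw [Equiv.Perm.mul_apply, mem_negRoots_iff, hroot']
      have hn : 0 < P.pairing (w a) c := by
        by_contra hn
        rw [not_lt] at hn
        apply h
        rw [mem_posRoots_iff, hroot, sub_eq_add_neg, ← neg_smul]
        exact AddSubmonoid.add_mem _ ha1 (zsmul_mem_cone P b (by omega) hβ)
      rw [neg_sub, sub_eq_add_neg, add_comm]
      exact AddSubmonoid.add_mem _ ha2 (zsmul_mem_cone P b hn.le hc)
  have hinj : Set.InjOn ψ I := by
    rintro a₁ ⟨ha1, ha1'⟩ a₂ ⟨ha2, ha2'⟩ h12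
    by_cases h1 : w⁻¹ (t (w a₁)) ∈ RedSub.posRoots P b <;>
      by_cases h2 : w⁻¹ (t (w a₂)) ∈ RedSub.posRoots P b
    · simp only [ψ, if_pos h1, if_pos h2] at h12
      have := w⁻¹.injective h12
      exact w.injective (t.injective this)
    · simp only [ψ, if_pos h1, if_neg h2] at h12
      exfalso
      apply h2
      rw [← h12, apply_inv', ht, P.reflectionPerm_self, inv_apply']
      exact ha1
    · simp only [ψ, if_neg h1, if_pos h2] at h12
      exfalso
      apply h1
      rw [h12, apply_inv', ht, P.reflectionPerm_self, inv_apply']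
      exact ha2
    · simp only [ψ, if_neg h1, if_neg h2] at h12
      exact h12
  have hβJ : β ∈ J := by
    refine ⟨hβ, ?_⟩
    rw [Equiv.Perm.mul_apply, hβdef, apply_inv', mem_negRoots_iff, ht,
      P.root_reflectionPerm, P.reflection_apply_self, neg_neg]
    exact hc
  have hβnot : β ∉ ψ '' I := by
    rintro ⟨a, ⟨ha1, ha2⟩, haβ⟩
    by_cases h : w⁻¹ (t (w a)) ∈ RedSub.posRoots P b
    · simp only [ψ, if_pos h] at haβ
      -- then root a = - root β
      have h1 : t (w a) = c := by
        have := congrArg w haβ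
        rwa [apply_inv', hβdef, apply_inv'] at this
      have h2 : w a = t c := by
        rw [← h1, ht, P.reflectionPerm_self]
      have h3 : P.root a = - P.root β := by
        have h4 : W (P.root a) = - P.root c := by
          rw [hW, ← root_wordPerm, ← hw, h2, ht, P.root_reflectionPerm, P.reflection_apply_self]
        rw [hrβ, ← map_neg, ← h4, LinearEquiv.symm_apply_apply]
      apply not_pos_and_neg P b a ha1
      rw [mem_negRoots_iff, h3, neg_neg]
      exact hβ
    · simp only [ψ, if_neg h] at haβ
      rw [haβ, hβdef, apply_inv'] at ha2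
      exact not_pos_and_neg P b c hc ha2
  have hsub : ψ '' I ⊂ J := by
    refine ⟨?_, fun h => hβnot (h hβJ)⟩
    rintro _ ⟨a, ha, rfl⟩
    exact hmaps a ha
  have := Set.ncard_lt_ncard hsub (Set.toFinite J)
  rwa [Set.InjOn.ncard_image hinj] at this

end Aux

/-- Let Φ be a finite reduced root system (a reduced root pairing over ℤ on a finite index set) with a
base b, w an element of its Weyl group, given as the product of the reflections along a word l and
acting on the roots, and γ a positive root. Writing ℓ(u) for the number of positive roots a with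
u(a) negative, one has ℓ(w) < ℓ(σ_γ w) if and only if w⁻¹(γ) is positive. (Here the length is taken
as the number of inverted positive roots.) -/
theorem result {idx M N : Type}
    [AddCommGroup M] [AddCommGroup N] [Finite idx]
    (P : RootPairing idx ℤ M N) [P.IsReduced] (b : P.Base) (l : List idx) (c : idx)
    (hc : c ∈ RedSub.posRoots P b) :
    Set.ncard {a : idx | a ∈ RedSub.posRoots P b ∧ RedSub.wordPerm P l a ∈ RedSub.negRoots P b} <
        Set.ncard {a : idx | a ∈ RedSub.posRoots P b ∧
          (P.reflectionPerm c * RedSub.wordPerm P l) a ∈ RedSub.negRoots P b} ↔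
      (RedSub.wordPerm P l)⁻¹ c ∈ RedSub.posRoots P b := by
  constructor
  · intro hlt
    by_contra hβ
    -- then w⁻¹ c is negative, and we apply the forward direction to the word c :: l
    have hneg : (RedSub.wordPerm P l)⁻¹ c ∈ RedSub.negRoots P b := by
      rcases b.root_mem_or_neg_mem ((RedSub.wordPerm P l)⁻¹ c) with h | h
      · exact absurd h hβ
      · exact h
    have hβ' : (RedSub.wordPerm P (c :: l))⁻¹ c ∈ RedSub.posRoots P b := by
      rw [mem_posRoots_iff, root_wordPerm_inv]
      have h1 : wordLin P (c :: l) = P.reflection c * wordLin P l := by simp [wordLin]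
      have h2 : (wordLin P (c :: l)).symm (P.root c) = - (wordLin P l).symm (P.root c) := by
        rw [LinearEquiv.symm_apply_eq, h1, LinearEquiv.mul_apply, map_neg,
          LinearEquiv.apply_symm_apply, map_neg, P.reflection_apply_self, neg_neg]
      rw [h2, ← root_wordPerm_inv]
      exact hneg
    have := ncard_lt P b (c :: l) c hc hβ'
    rw [wordPerm_cons, ← mul_assoc] at this
    have hsq : P.reflectionPerm c * P.reflectionPerm c = 1 := by
      rw [← sq, P.reflectionPerm_sq]
    rw [hsq, one_mul] at this
    exact lt_asymm hlt this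
  · intro hβ
    exact ncard_lt P b l c hc hβ

end Groth.Agent.S15245
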