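import Groth.Statements.S15251
import Groth.Agent.R2.H59StackBoot
import Groth.Agent.R2.H83FpAtlas

set_option autoImplicit false
open CategoryTheory AlgebraicGeometry
universe u
open AlgSt

namespace Groth.Agent.S15251

/-- Let S be a scheme and f : 𝒳 → 𝒴 a 1-morphism of stacks in groupoids over the category of schemes
over S. If 𝒴 is a Deligne–Mumford stack and for every scheme U over S and every 1-morphism g : U → 𝒴
the 2-fibre product U ×_𝒴 𝒳 is a Deligne–Mumford stack, then 𝒳 is a Deligne–Mumford stack. All
stacks here are for the étale topology on schemes over S; an algebraic stack is a stack in groupoids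
whose diagonal is representable by algebraic spaces and which has a smooth surjective atlas from a
scheme, and a Deligne–Mumford stack is an algebraic stack with an étale surjective atlas from a
scheme. (The published statement asks the fibre-product condition only for affine schemes U and uses
Deligne–Mumford stacks whose diagonal is moreover separated and quasi-compact; this row asks the
condition for every scheme U over S and uses Deligne–Mumford stacks with no condition on the
diagonal beyond representability by algebraic spaces.) -/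
theorem result {S : Scheme.{u}} {𝒳 𝒴 : AlgSt.Cat S}
    (h𝒳 : Stk.IsStack (QuotSh.J Scheme.etalePrecoverage S) 𝒳)
    (h𝒴 : AlgSt.IsDM Scheme.etalePrecoverage 𝒴) (f : 𝒳 ⥤ᵇ 𝒴)
    (hf : ∀ (U : Over S) (g : FibCat.overCat U ⥤ᵇ 𝒴),
      AlgSt.IsDM Scheme.etalePrecoverage (FibCat.fp g f)) :
    AlgSt.IsDM Scheme.etalePrecoverage 𝒳 := by
  have halg : AlgSt.IsAlgStack Scheme.etalePrecoverage 𝒳 := by
    obtain ⟨V, y, hy₁, hy₂⟩ := h𝒴.1.atlas
    have hW := (hf V y).1
    obtain ⟨U, x, hsm, hsurj⟩ :=
      Groth.Agent.Lib.Helper15Atlas.hasAtlas_of_cover hW.isStack.1 (FibCat.fpSnd y f)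
        (Groth.Agent.Lib.Helper17.repByAlgSpWith_fpSnd _ y f hy₁)
        (Groth.Agent.Lib.Helper17.repByAlgSpWith_fpSnd _ y f hy₂) hW.atlas
    exact Groth.Agent.R2.H59.StackBoot.isAlgStack_et_of_cover h𝒳
      (Groth.Agent.Lib.Helper15DiagRepSp.repByAlgSp_overCat U) x hsm hsurj
  refine ⟨halg, ?_⟩
  obtain ⟨V, y, hy₁, hy₂⟩ := h𝒴.2
  have hW := hf V y
  exact Groth.Agent.R2.H83.FpAtlas.hasAtlas_of_cover _ Groth.Agent.R2.H83.FpAtlas.compCond_isEtaleMor
    hW.1.isStack.1 (FibCat.fpSnd y f)
    (Groth.Agent.Lib.Helper17.repByAlgSpWith_fpSnd _ y f hy₁)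
    (Groth.Agent.Lib.Helper17.repByAlgSpWith_fpSnd _ y f hy₂) hW.2

end Groth.Agent.S15251
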