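import Groth.Statements.S1527
import Groth.Agent.S0020
import Groth.Agent.Lib.Helper7TopDim
import Groth.Agent.Lib.Helper23LocGen
import Groth.Agent.Lib.Helper23Support
import Groth.Agent.Lib.Helper23SecTw3
import Groth.Agent.Lib.Helper23SecTw6
-- import your own Groth.Agent.* helpers here

set_option autoImplicit false
universe u
open CategoryTheory CategoryTheory.Limits AlgebraicGeometry
open Variety

namespace Groth.Agent.S1527

/-- On a proper scheme over a field, a coherent module whose support has dimension at most zero is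
globally generated (a quotient of a free module). -/
theorem result (k : Type u) [Field k] (X : Scheme.{u}) [X.Over (Spec (CommRingCat.of k))] [IsProper (X ↘ (Spec (CommRingCat.of k)))]
    (F : X.Modules) (hF : Coh.IsCoh F) (hsupp : topologicalKrullDim (CohB1.support F) ≤ 0) :
    Curv2.IsGloballyGenerated F := by
  classical
  have hN : IsLocallyNoetherian X :=
    LocallyOfFiniteType.isLocallyNoetherian (X ↘ (Spec (CommRingCat.of k)))
  have hXc : CompactSpace X := QuasiCompact.compactSpace_of_compactSpace (X ↘ (Spec (CommRingCat.of k)))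
  have : IsNoetherian X := { }
  have hcl : IsClosed (CohB1.support F) := Groth.Agent.S0020.result X F hF.2
  -- every point of the support is closed in X
  have hpt : ∀ x ∈ CohB1.support F, IsClosed ({x} : Set X) := by
    intro x hx
    have h1 : IsClosed ({⟨x, hx⟩} : Set (CohB1.support F)) :=
      Groth.Agent.Lib.Helper7.TopDim.isClosed_singleton_of_dim_le_zero hsupp ⟨x, hx⟩
    have h2 := hcl.isClosedEmbedding_subtypeVal.isClosedMap _ h1
    simpa using h2
  -- the support is finite
  have hfin : (CohB1.support F).Finite := by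
    by_cases hne : Nonempty (CohB1.support F)
    · have h0 : topologicalKrullDim (CohB1.support F) = 0 :=
        le_antisymm hsupp Groth.Agent.Lib.Helper7.TopDim.topologicalKrullDim_nonneg
      have := (Groth.Agent.Lib.Helper7.TopDim.dim_eq_zero_iff_finite_discrete
        (X := CohB1.support F)).1 h0
      exact Set.finite_coe_iff.mp this.1
    · rw [not_nonempty_iff] at hne
      exact Set.finite_coe_iff.mp inferInstance
  -- closedness of subsets of the support
  have hsub : ∀ T : Set X, T ⊆ CohB1.support F → IsClosed T := by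
    intro T hT
    have hTfin : T.Finite := hfin.subset hT
    have : T = ⋃ x ∈ T, {x} := by simp
    rw [this]
    exact hTfin.isClosed_biUnion (fun x hx => hpt x (hT hx))
  open Groth.Agent.Lib.Helper23.LocGen Groth.Agent.Lib.Helper23.SecTw Groth.Agent.Lib.Helper6 in
  refine isGloballyGenerated_of_locGen F (fun x => ?_)
  let V : X.Opens := ⟨(CohB1.support F \ {x})ᶜ, (hsub _ Set.sdiff_subset).isOpen_compl⟩
  refine ⟨V, fun h => h.2 rfl, ?_⟩
  intro A hA m y hyA
  by_cases hxs : x ∈ CohB1.support F
  · let W : X.Opens := ⟨({x} : Set X)ᶜ, (hpt x hxs).isOpen_compl⟩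
    have hAW : ∀ z ∈ A ⊓ W, z ∉ CohB1.support F := by
      rintro z ⟨hzA, hzW⟩ hzs
      exact hA hzA ⟨hzs, hzW⟩
    by_cases hyx : y = x
    · subst hyx
      have h0 : res F (inf_le_left : A ⊓ W ≤ A) m = 0 :=
        Groth.Agent.Lib.Helper23.Support.eq_zero_of_disjoint_support F (A ⊓ W) hAW _
      have hcover : (⊤ : X.Opens) ≤ A ⊔ W := by
        intro z _
        by_cases hz : z = y
        · subst hz; exact Or.inl hyA
        · exact Or.inr hz
      obtain ⟨t, ht1, -⟩ := exists_res_eq₂ F (V := ⊤) (W := A ⊓ W) le_top le_top hcover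
        inf_le_left inf_le_right le_rfl m 0 (by rw [h0, res_zero])
      refine ⟨A, le_rfl, hyA, ?_⟩
      have hm : res F (le_refl A) m = sv (Groth.Agent.Lib.Helper23.SecTw.secHom F t) A := by
        rw [Groth.Agent.Lib.Helper23.SecTw.sv_secHom, ht1]
        exact Groth.Agent.Lib.Helper23.SecTw.res_self F m
      rw [hm]
      exact sv_mem_gspan F _ A
    · refine ⟨A ⊓ W, inf_le_left, ⟨hyA, hyx⟩, ?_⟩
      rw [Groth.Agent.Lib.Helper23.Support.eq_zero_of_disjoint_support F (A ⊓ W) hAW
        (res F (inf_le_left : A ⊓ W ≤ A) m)]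
      exact zero_mem _
  · refine ⟨A, le_rfl, hyA, ?_⟩
    have hA' : ∀ z ∈ A, z ∉ CohB1.support F := by
      intro z hzA hzs
      refine hA hzA ⟨hzs, ?_⟩
      rintro rfl
      exact hxs hzs
    rw [Groth.Agent.Lib.Helper23.Support.eq_zero_of_disjoint_support F A hA'
      (res F (le_refl A) m)]
    exact zero_mem _

end Groth.Agent.S1527
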