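import Groth.Statements.S15286
import Groth.Agent.R2.H71PicTorsor

set_option autoImplicit false
universe v v' u u'
open PicCat

namespace Groth.Agent.S15286

open CategoryTheory MonoidalCategory in
/-- Let C be a Picard category, D a commutative (braided) Picard category, F, G : C ⥤ D lax monoidal
functors and θ₀ : F ⟶ G a monoidal natural transformation. Identify an endomorphism φ of the unit of
D with the automorphism λ⁻¹ ≫ (φ ▷ Z) ≫ λ of any object Z. Then the monoidal natural transformations
F ⟶ G form a torsor under the monoid homomorphisms χ from the monoid of isomorphism classes of C to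
End(𝟙_D): every monoidal θ : F ⟶ G is X ↦ θ₀_X ≫ (action of χ[X] on G X) for a unique such χ, and
for every χ this formula defines a monoidal natural transformation. (The published statement allows
D non-commutative; for a non-braided monoidal groupoid the classes so obtained are crossed rather
than plain homomorphisms, so D is taken braided here.) -/
theorem result
    {C : Type u} [Category.{v} C] [MonoidalCategory C] [IsGroupoid C]
    {D : Type u'} [Category.{v'} D] [MonoidalCategory D] [BraidedCategory D] [IsGroupoid D]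
    (hC : ∀ X : C, (tensorLeft X).IsEquivalence ∧ (tensorRight X).IsEquivalence)
    (hD : ∀ X : D, (tensorLeft X).IsEquivalence ∧ (tensorRight X).IsEquivalence)
    (F G : C ⥤ D) [F.LaxMonoidal] [G.LaxMonoidal] (θ₀ : F ⟶ G) [NatTrans.IsMonoidal θ₀] :
    (∀ θ : F ⟶ G, NatTrans.IsMonoidal θ →
      ∃! χ : Skeleton C →* End (𝟙_ D), ∀ X : C,
        θ.app X = θ₀.app X ≫ (λ_ (G.obj X)).inv ≫
          ((χ (toSkeleton X) : 𝟙_ D ⟶ 𝟙_ D) ▷ G.obj X) ≫ (λ_ (G.obj X)).hom) ∧
    (∀ χ : Skeleton C →* End (𝟙_ D), ∃ θ : F ⟶ G, NatTrans.IsMonoidal θ ∧ ∀ X : C,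
        θ.app X = θ₀.app X ≫ (λ_ (G.obj X)).inv ≫
          ((χ (toSkeleton X) : 𝟙_ D ⟶ 𝟙_ D) ▷ G.obj X) ≫ (λ_ (G.obj X)).hom) := by
  classical
  have hfaith : ∀ Z : D, (tensorRight Z).Faithful := fun Z => by
    have := (hD Z).2; infer_instance
  have hfull : ∀ Z : D, (tensorRight Z).Full := fun Z => by
    have := (hD Z).2; infer_instance
  have hform : ∀ (φ : 𝟙_ D ⟶ 𝟙_ D) (Z : D),
      (λ_ Z).inv ≫ (φ ▷ Z) ≫ (λ_ Z).hom = Groth.Agent.R2.H71.PicTorsor.act φ Z := fun _ _ => rfl
  constructor
  · intro θ hθ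
    have := hθ
    have hc : ∀ X : C, ∃ φ : 𝟙_ D ⟶ 𝟙_ D,
        Groth.Agent.R2.H71.PicTorsor.act φ (G.obj X) = inv (θ₀.app X) ≫ θ.app X := fun X => by
      have := hfull (G.obj X)
      exact Groth.Agent.R2.H71.PicTorsor.act_surjective _ _
    choose c hc using hc
    have hθc : ∀ X : C, θ.app X = θ₀.app X ≫ Groth.Agent.R2.H71.PicTorsor.act (c X) (G.obj X) := by
      intro X
      rw [hc X, IsIso.hom_inv_id_assoc]
    -- `c` is invariant under isomorphism
    have hciso : ∀ {X Y : C} (f : X ⟶ Y), c X = c Y := by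
      intro X Y f
      have := hfaith (G.obj X)
      apply Groth.Agent.R2.H71.PicTorsor.act_injective (G.obj X)
      have h1 : Groth.Agent.R2.H71.PicTorsor.act (c X) (G.obj X) ≫ G.map f =
          Groth.Agent.R2.H71.PicTorsor.act (c Y) (G.obj X) ≫ G.map f := by
        rw [Groth.Agent.R2.H71.PicTorsor.act_naturality (c Y) (G.map f), hc X, hc Y]
        have h2 : inv (θ₀.app X) ≫ F.map f = G.map f ≫ inv (θ₀.app Y) := by
          rw [IsIso.inv_comp_eq, ← Category.assoc, IsIso.eq_comp_inv]
          exact (θ₀.naturality f)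
        rw [Category.assoc, ← θ.naturality f, ← Category.assoc, h2, Category.assoc]
      exact (cancel_mono (G.map f)).mp h1
    -- multiplicativity
    have hcmul : ∀ X Y : C, c (X ⊗ Y) = c Y ≫ c X := by
      intro X Y
      have := hfaith (G.obj (X ⊗ Y))
      apply Groth.Agent.R2.H71.PicTorsor.act_injective (G.obj (X ⊗ Y))
      rw [hc (X ⊗ Y), IsIso.inv_comp_eq]
      apply (cancel_epi (Functor.LaxMonoidal.μ F X Y)).mp
      have e1 : Functor.LaxMonoidal.μ F X Y ≫ θ.app (X ⊗ Y) =
          (θ.app X ⊗ₘ θ.app Y) ≫ Functor.LaxMonoidal.μ G X Y := NatTrans.IsMonoidal.tensor X Y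
      have e2 : Functor.LaxMonoidal.μ F X Y ≫ θ₀.app (X ⊗ Y) =
          (θ₀.app X ⊗ₘ θ₀.app Y) ≫ Functor.LaxMonoidal.μ G X Y := NatTrans.IsMonoidal.tensor X Y
      rw [e1, ← Category.assoc, e2, Category.assoc, ← Groth.Agent.R2.H71.PicTorsor.act_naturality,
        ← Groth.Agent.R2.H71.PicTorsor.act_tensorHom', ← Category.assoc,
        MonoidalCategory.tensorHom_comp_tensorHom, ← hθc X, ← hθc Y]
    have hcone : c (𝟙_ C) = 𝟙 (𝟙_ D) := by
      have := hfaith (G.obj (𝟙_ C))
      apply Groth.Agent.R2.H71.PicTorsor.act_injective (G.obj (𝟙_ C))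
      rw [hc (𝟙_ C), Groth.Agent.R2.H71.PicTorsor.act_id, IsIso.inv_comp_eq, Category.comp_id]
      apply (cancel_epi (Functor.LaxMonoidal.ε F)).mp
      rw [NatTrans.IsMonoidal.unit, NatTrans.IsMonoidal.unit]
    have hkey : ∀ X : C, c ((fromSkeleton C).obj (toSkeleton X)) = c X := fun X =>
      hciso (fromSkeletonToSkeletonIso X).hom
    let χ : Skeleton C →* End (𝟙_ D) :=
      { toFun := fun s => c ((fromSkeleton C).obj s)
        map_one' := by
          rw [Skeleton.one_eq, hkey, hcone]
          rfl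
        map_mul' := by
          intro s t
          obtain ⟨X, rfl⟩ : ∃ X, toSkeleton X = s := ⟨_, toSkeleton_fromSkeleton_obj s⟩
          obtain ⟨Y, rfl⟩ : ∃ Y, toSkeleton Y = t := ⟨_, toSkeleton_fromSkeleton_obj t⟩
          rw [← Skeleton.toSkeleton_tensorObj, hkey, hkey, hkey, hcmul, End.mul_def] }
    have hχ : ∀ X : C, χ (toSkeleton X) = c X := hkey
    refine ⟨χ, ?_, ?_⟩
    · intro X
      rw [hform, hχ X]
      exact hθc X
    · intro χ' hχ'
      ext s
      obtain ⟨X, rfl⟩ : ∃ X, toSkeleton X = s := ⟨_, toSkeleton_fromSkeleton_obj s⟩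
      have := hfaith (G.obj X)
      apply Groth.Agent.R2.H71.PicTorsor.act_injective (G.obj X)
      have h1 := hχ' X
      rw [hform, hθc X] at h1
      rw [hχ X]
      exact ((cancel_epi (θ₀.app X)).mp h1).symm
  · intro χ
    let θ : F ⟶ G :=
      { app := fun X => θ₀.app X ≫ Groth.Agent.R2.H71.PicTorsor.act (χ (toSkeleton X)) (G.obj X)
        naturality := by
          intro X Y f
          have hXY : toSkeleton X = toSkeleton Y := congr_toSkeleton_of_iso (asIso f)
          rw [Category.assoc, Groth.Agent.R2.H71.PicTorsor.act_naturality, hXY,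
            ← Category.assoc, ← Category.assoc, θ₀.naturality f] }
    have hθapp : ∀ X, θ.app X =
        θ₀.app X ≫ Groth.Agent.R2.H71.PicTorsor.act (χ (toSkeleton X)) (G.obj X) := fun X => rfl
    refine ⟨θ, ?_, fun X => ?_⟩
    · constructor
      · rw [hθapp, ← Skeleton.one_eq, map_one, End.one_def, Groth.Agent.R2.H71.PicTorsor.act_id,
          Category.comp_id, NatTrans.IsMonoidal.unit]
      · intro X Y
        have e2 : Functor.LaxMonoidal.μ F X Y ≫ θ₀.app (X ⊗ Y) =
            (θ₀.app X ⊗ₘ θ₀.app Y) ≫ Functor.LaxMonoidal.μ G X Y := NatTrans.IsMonoidal.tensor X Y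
        rw [hθapp, hθapp, hθapp, ← Category.assoc, e2, Category.assoc, Skeleton.toSkeleton_tensorObj, map_mul,
          End.mul_def, ← Groth.Agent.R2.H71.PicTorsor.act_naturality,
          ← Groth.Agent.R2.H71.PicTorsor.act_tensorHom', ← Category.assoc,
          MonoidalCategory.tensorHom_comp_tensorHom]
    · rw [hform]

end Groth.Agent.S15286
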