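import Groth.Statements.S15301
import Groth.Agent.R2.H17MilnorTop

set_option autoImplicit false
universe u
open HomAlg3

namespace Groth.Agent.S15301

open CategoryTheory CategoryTheory.Limits TopologicalSpace Opposite Groth.Agent.R2.H17.MilnorExt
  Groth.Agent.R2.H17.MilnorTop in
/-- For the functor of sections over an open U, let (F_n)_n be a tower of sheaves of abelian groups on a
topological space X, indexed by the natural numbers, with limit sheaf lim F_n, and let B be a basis
of opens of X such that for every V in B (a) every transition map F_{n+1}(V) → F_n(V) is surjective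
and (b) every H^i(V, F_n) with i > 0 vanishes. Then for every open U and every i = j + 1 ≥ 1 there
is a short exact sequence 0 → lim¹_n H^j(U, F_n) → H^i(U, lim F_n) → lim_n H^i(U, F_n) → 0: every
family of classes in the H^i(U, F_n) compatible under the transition maps comes from a class on lim
F_n, and the kernel of H^i(U, lim F_n) → ∏_n H^i(U, F_n) is isomorphic to lim¹ of the tower (H^j(U,
F_n))_n (existence of an isomorphism only). In particular the comparison map is injective as soon as
that lim¹ vanishes. (The published statement is for any functor T on abelian sheaves commuting with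
products, such as Γ, Γ_Y, f_*; this row is the case T = Γ(U, −).) -/
theorem result {X : TopCat.{u}} (F : ℕᵒᵖ ⥤ CohTop.Ab X)
    (B : Set (Opens X)) (hB : Opens.IsBasis B)
    (hsurj : ∀ V ∈ B, ∀ n : ℕ,
      Function.Surjective ((F.map (homOfLE (Nat.le_succ n)).op).hom.app (op V)).hom)
    (hvan : ∀ V ∈ B, ∀ (n i : ℕ), 0 < i → Subsingleton (CohTop.HU (F.obj (op n)) i V))
    (U : Opens X) (i j : ℕ) (hij : j + 1 = i) :
    (∀ ξ : ∀ n : ℕ, CohTop.HU (F.obj (op n)) i U,
      (∀ n, CohTop.HUmap (F.map (homOfLE (Nat.le_succ n)).op) i U (ξ (n + 1)) = ξ n) →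
        ∃ η : CohTop.HU (limit F) i U, ∀ n, CohTop.HUmap (limit.π F (op n)) i U η = ξ n) ∧
    Nonempty ((AddMonoidHom.pi fun n : ℕ => CohTop.HUmap (limit.π F (op n)) i U).ker ≃+
      Formal2.limOne (fun n : ℕ => CohTop.HU (F.obj (op n)) j U)
        (fun n : ℕ => CohTop.HUmap (F.map (homOfLE (Nat.le_succ n)).op) j U)) := by
  subst hij
  have hB' : ∀ U : Opens X, ∃ (ι : Type u) (Y : ι → Opens X) (f : ∀ i, Y i ⟶ U),
      Sieve.ofArrows Y f ∈ Opens.grothendieckTopology X U ∧ ∀ i, Y i ∈ B := by
    intro U
    refine ⟨{V : Opens X // V ∈ B ∧ V ≤ U}, fun V => V.1, fun V => homOfLE V.2.2, ?_, fun V => V.2.1⟩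
    intro x hx
    obtain ⟨V, hVB, hxV, hVU⟩ := Opens.isBasis_iff_nbhd.1 hB hx
    exact ⟨V, homOfLE hVU, Sieve.ofArrows_mk _ _ (⟨V, hVB, hVU⟩ : {V : Opens X // V ∈ B ∧ V ≤ U}), hxV⟩
  let Z : CohTop.Ab X := CohCx.freeSheaf (Opens.grothendieckTopology X) U
  obtain ⟨α, β, hα, hβ, hαβ, hβn⟩ := milnor_ext F B hB'
    (fun V hV p n => hvan V hV n (p + 1) (Nat.succ_pos p))
    (fun V hV => Groth.Agent.R2.H17.FormalLim.limOneIsZero_of_surjective _ _ (fun n => hsurj V hV n))
    Z j
  refine ⟨fun ξ hξ => ?_, ?_⟩
  · have hmem : (show ∀ n, Abelian.Ext Z (Fo F n) (j + 1) from ξ) ∈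
        Formal2.limZero (fun n => Abelian.Ext Z (Fo F n) (j + 1)) (fun n => extMap Z (Ft F n) (j + 1)) := by
      rw [AddMonoidHom.mem_ker]
      funext n
      exact sub_eq_zero.2 (hξ n).symm
    obtain ⟨η, hη⟩ := hβ ⟨ξ, hmem⟩
    refine ⟨η, fun n => ?_⟩
    exact (hβn η n).symm.trans (congrFun (congrArg Subtype.val hη) n)
  · have hker : (AddMonoidHom.pi fun n : ℕ => extMap Z (limit.π F (op n)) (j + 1)).ker = α.range := by
      rw [hαβ]
      ext x
      rw [AddMonoidHom.mem_ker, AddMonoidHom.mem_ker]
      constructor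
      · intro hx
        apply Subtype.ext
        funext n
        rw [hβn x n]
        exact congrFun hx n
      · intro hx
        funext n
        change extMap Z (limit.π F (op n)) (j + 1) x = 0
        rw [← hβn x n, hx]
        rfl
    exact ⟨(AddEquiv.addSubgroupCongr hker).trans (AddMonoidHom.ofInjective hα).symm⟩

end Groth.Agent.S15301
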