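import Groth.Statements.S15316
import Groth.Agent.R2.H71NodeAxis

set_option autoImplicit false
universe u
open ArLef ArLef.NodeAlg

namespace Groth.Agent.S15316

open Groth.Agent.R2.H71.NodeAlg in
/-- If `p ∣ σ q` for variables `p, q`, then `σ q` is a unit multiple of `p`. -/
theorem claim {B : Type u} [CommRing B] [IsDomain B] [IsDiscreteValuationRing B] {π : B}
    (hπ : Irreducible π) (σ : ArLef.NodeAlg B π ≃+* ArLef.NodeAlg B π)
    (hσ : Associated (σ (algebraMap B (ArLef.NodeAlg B π) π)) (algebraMap B (ArLef.NodeAlg B π) π))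
    {i i' j' : Fin 2} (hi : i' ≠ j') (h : var π i ∣ σ (var π i')) :
    ∃ α : (ArLef.NodeAlg B π)ˣ, σ (var π i') = (α : ArLef.NodeAlg B π) * var π i := by
  obtain ⟨j, hij⟩ := Groth.Agent.R2.H71.NodeAlg.exists_ne i
  obtain ⟨a, ha⟩ := h
  obtain ⟨u, hu⟩ := hσ
  have hτ : σ.symm (var π i) * σ.symm (var π j) =
      var π i' * (var π j' * σ.symm (u : ArLef.NodeAlg B π)) := by
    rw [← map_mul, var_mul_var hij, ← mul_assoc, var_mul_var hi]
    conv_lhs => rw [← hu]
    rw [map_mul, RingEquiv.symm_apply_apply]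
  have h1 : var π i' ∣ σ.symm (var π i) * σ.symm (var π j) := ⟨_, hτ⟩
  rcases var_dvd_mul hπ i' h1 with ⟨b, hb⟩ | ⟨b, hb⟩
  · have h2 : var π i = var π i * (a * σ b) := by
      have := congrArg σ hb
      rw [RingEquiv.apply_symm_apply, map_mul, ha] at this
      exact this.trans (mul_assoc _ _ _)
    have h3 : a * σ b = 1 := by
      have h4 : var π i * (1 - a * σ b) = 0 := by
        rw [mul_sub, mul_one, ← h2, sub_self]
      have := var_regular hπ i _ h4
      exact (sub_eq_zero.mp this).symm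
    refine ⟨⟨a, σ b, h3, by rw [mul_comm]; exact h3⟩, ?_⟩
    rw [ha]
    exact mul_comm _ _
  · exfalso
    apply not_var_dvd_var hπ hij
    have := congrArg σ hb
    rw [RingEquiv.apply_symm_apply, map_mul, ha] at this
    exact ⟨a * σ b, this.trans (mul_assoc _ _ _)⟩

/-- Let B be a discrete valuation ring with uniformizer π and N = B[[t, e]]/(te - π) the complete local
ring of a semi-stable arithmetic surface at a singular point of the closed fibre. A ring
automorphism σ of N with σ(π) associated to π (for instance a B-algebra automorphism, or one lying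
over an automorphism of B) either stabilizes the two branches, σ(t) = α t and σ(e) = β e for units
α, β, or switches them, σ(t) = α e and σ(e) = β t for units α, β. (The published setting has B
complete with algebraically closed residue field and σ linear over B or over an automorphism of B;
the argument uses only that σ(π) generates (π).) -/
theorem result (B : Type u) [CommRing B] [IsDomain B] [IsDiscreteValuationRing B] (π : B) (hπ : Irreducible π)
    (σ : ArLef.NodeAlg B π ≃+* ArLef.NodeAlg B π)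
    (hσ : Associated (σ (algebraMap B (ArLef.NodeAlg B π) π)) (algebraMap B (ArLef.NodeAlg B π) π)) :
    (∃ α β : (ArLef.NodeAlg B π)ˣ, σ (ArLef.NodeAlg.t π) = (α : ArLef.NodeAlg B π) * ArLef.NodeAlg.t π ∧ σ (ArLef.NodeAlg.e π) = (β : ArLef.NodeAlg B π) * ArLef.NodeAlg.e π) ∨
      (∃ α β : (ArLef.NodeAlg B π)ˣ, σ (ArLef.NodeAlg.t π) = (α : ArLef.NodeAlg B π) * ArLef.NodeAlg.e π ∧ σ (ArLef.NodeAlg.e π) = (β : ArLef.NodeAlg B π) * ArLef.NodeAlg.t π) := by
  open Groth.Agent.R2.H71.NodeAlg in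
  have key : ∀ i i' j' : Fin 2, i' ≠ j' → var π i ∣ σ (var π i') →
      ∃ α : (ArLef.NodeAlg B π)ˣ, σ (var π i') = (α : ArLef.NodeAlg B π) * var π i :=
    fun i i' j' h1 h2 => claim hπ σ hσ h1 h2
  obtain ⟨u, hu⟩ := hσ
  have h01 : (0 : Fin 2) ≠ 1 := by decide
  have h10 : (1 : Fin 2) ≠ 0 := by decide
  have hprod : σ (Groth.Agent.R2.H71.NodeAlg.var π 0) * σ (Groth.Agent.R2.H71.NodeAlg.var π 1) * u =
      Groth.Agent.R2.H71.NodeAlg.var π 0 * Groth.Agent.R2.H71.NodeAlg.var π 1 := by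
    rw [← map_mul, Groth.Agent.R2.H71.NodeAlg.var_mul_var h01, hu]
  have ht : Groth.Agent.R2.H71.NodeAlg.var π 0 ∣
      σ (Groth.Agent.R2.H71.NodeAlg.var π 0) * σ (Groth.Agent.R2.H71.NodeAlg.var π 1) := by
    apply Groth.Agent.R2.H71.NodeAlg.var_dvd_mul_unit hπ 0 u.isUnit
    rw [hprod]
    exact Dvd.intro _ rfl
  have he : Groth.Agent.R2.H71.NodeAlg.var π 1 ∣
      σ (Groth.Agent.R2.H71.NodeAlg.var π 0) * σ (Groth.Agent.R2.H71.NodeAlg.var π 1) := by
    apply Groth.Agent.R2.H71.NodeAlg.var_dvd_mul_unit hπ 1 u.isUnit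
    rw [hprod]
    exact Dvd.intro_left _ rfl
  rcases Groth.Agent.R2.H71.NodeAlg.var_dvd_mul hπ 0 ht with h | h
  · -- `t ∣ σ t`
    left
    obtain ⟨α, hα⟩ := key 0 0 1 h01 h
    have he' : Groth.Agent.R2.H71.NodeAlg.var π 1 ∣ σ (Groth.Agent.R2.H71.NodeAlg.var π 1) := by
      rcases Groth.Agent.R2.H71.NodeAlg.var_dvd_mul hπ 1 he with h' | h'
      · exfalso
        obtain ⟨c, hc⟩ := h'
        have h'' : Groth.Agent.R2.H71.NodeAlg.var π 1 ∣
            Groth.Agent.R2.H71.NodeAlg.var π 0 * (α : ArLef.NodeAlg B π) :=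
          ⟨c, by rw [← hc, hα, mul_comm]⟩
        exact Groth.Agent.R2.H71.NodeAlg.not_var_dvd_var hπ h10
          (Groth.Agent.R2.H71.NodeAlg.var_dvd_mul_unit hπ 1 α.isUnit h'')
      · exact h'
    obtain ⟨β, hβ⟩ := key 1 1 0 h10 he'
    exact ⟨α, β, hα, hβ⟩
  · -- `t ∣ σ e`
    right
    obtain ⟨β, hβ⟩ := key 0 1 0 h10 h
    have he' : Groth.Agent.R2.H71.NodeAlg.var π 1 ∣ σ (Groth.Agent.R2.H71.NodeAlg.var π 0) := by
      rcases Groth.Agent.R2.H71.NodeAlg.var_dvd_mul hπ 1 he with h' | h'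
      · exact h'
      · exfalso
        obtain ⟨c, hc⟩ := h'
        have h'' : Groth.Agent.R2.H71.NodeAlg.var π 1 ∣
            Groth.Agent.R2.H71.NodeAlg.var π 0 * (β : ArLef.NodeAlg B π) :=
          ⟨c, by rw [← hc, hβ, mul_comm]⟩
        exact Groth.Agent.R2.H71.NodeAlg.not_var_dvd_var hπ h10
          (Groth.Agent.R2.H71.NodeAlg.var_dvd_mul_unit hπ 1 β.isUnit h'')
    obtain ⟨α, hα⟩ := key 1 0 1 h01 he'
    exact ⟨α, β, hα, hβ⟩

end Groth.Agent.S15316
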