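import Groth.Statements.S15317
import Groth.Agent.R2.H71NodeFix

set_option autoImplicit false
universe u
open ArLef ArLef.NodeAlg

namespace Groth.Agent.S15317

/-- Let B be a discrete valuation ring with uniformizer π, N = B[[t, e]]/(te - π), and σ a non-trivial
B-algebra automorphism of N stabilizing both branches of the closed fibre (σ(t) associated to t,
σ(e) associated to e). Then the fixed-point ideal of σ, generated by all σ(r) - r, is g·(t, e) for a
non-zero g: the divisorial part of the fixed locus is cut out by g and its residual part is the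
reduced closed point, of multiplicity one. (Stated in the complete local ring, where the published
argument takes place; the published setting has B complete with algebraically closed residue field.) -/
theorem result (B : Type u) [CommRing B] [IsDomain B] [IsDiscreteValuationRing B] (π : B) (hπ : Irreducible π)
    (σ : ArLef.NodeAlg B π ≃ₐ[B] ArLef.NodeAlg B π) (hσ : σ ≠ AlgEquiv.refl)
    (ht : Associated (σ (ArLef.NodeAlg.t π)) (ArLef.NodeAlg.t π))
    (he : Associated (σ (ArLef.NodeAlg.e π)) (ArLef.NodeAlg.e π)) :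
    ∃ g : ArLef.NodeAlg B π, g ≠ 0 ∧
      ArLef.fixIdeal σ = Ideal.span {g} * Ideal.span ({ArLef.NodeAlg.t π, ArLef.NodeAlg.e π} : Set (ArLef.NodeAlg B π)) := by
  classical
  obtain ⟨u, hu⟩ := ht
  obtain ⟨v, hv⟩ := he
  obtain ⟨α, hσt⟩ : ∃ α : (ArLef.NodeAlg B π)ˣ,
      σ (ArLef.NodeAlg.t π) = (α : ArLef.NodeAlg B π) * ArLef.NodeAlg.t π :=
    ⟨u⁻¹, by rw [mul_comm ((u⁻¹ : (ArLef.NodeAlg B π)ˣ) : ArLef.NodeAlg B π)]
             exact (Units.eq_mul_inv_iff_mul_eq u).mpr hu⟩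
  obtain ⟨β, hσe⟩ : ∃ β : (ArLef.NodeAlg B π)ˣ,
      σ (ArLef.NodeAlg.e π) = (β : ArLef.NodeAlg B π) * ArLef.NodeAlg.e π :=
    ⟨v⁻¹, by rw [mul_comm ((v⁻¹ : (ArLef.NodeAlg B π)ˣ) : ArLef.NodeAlg B π)]
             exact (Units.eq_mul_inv_iff_mul_eq v).mpr hv⟩
  have hte := Groth.Agent.R2.H71.NodeAlg.t_mul_e π
  have hαβ : (α : ArLef.NodeAlg B π) * β = 1 := by
    have h1 : σ (ArLef.NodeAlg.t π * ArLef.NodeAlg.e π) = ArLef.NodeAlg.t π * ArLef.NodeAlg.e π := by
      rw [hte]; exact σ.commutes π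
    rw [map_mul, hσt, hσe] at h1
    have h2 : algebraMap B (ArLef.NodeAlg B π) π * ((α : ArLef.NodeAlg B π) * β - 1) = 0 := by
      rw [← hte]
      linear_combination h1
    exact sub_eq_zero.mp (Groth.Agent.R2.H71.NodeAlg.pi_regular hπ _ h2)
  set g : ArLef.NodeAlg B π := (α : ArLef.NodeAlg B π) - 1 with hg
  have hβg : (β : ArLef.NodeAlg B π) - 1 = g * (-β) := by
    rw [hg]; linear_combination hαβ
  have hgβ : g = ((β : ArLef.NodeAlg B π) - 1) * (-α) := by
    rw [hg]; linear_combination hαβ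
  have htm : ArLef.NodeAlg.t π ∈ Ideal.span ({ArLef.NodeAlg.t π, ArLef.NodeAlg.e π} : Set (ArLef.NodeAlg B π)) :=
    Ideal.subset_span (by simp)
  have hem : ArLef.NodeAlg.e π ∈ Ideal.span ({ArLef.NodeAlg.t π, ArLef.NodeAlg.e π} : Set (ArLef.NodeAlg B π)) :=
    Ideal.subset_span (by simp)
  have hle : ArLef.fixIdeal σ ≤
      Ideal.span {g} * Ideal.span ({ArLef.NodeAlg.t π, ArLef.NodeAlg.e π} : Set (ArLef.NodeAlg B π)) := by
    apply Groth.Agent.R2.H71.NodeAlg.fixIdeal_le π (σ : ArLef.NodeAlg B π →+* ArLef.NodeAlg B π)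
    · intro b
      have : σ (algebraMap B (ArLef.NodeAlg B π) b) = algebraMap B (ArLef.NodeAlg B π) b := σ.commutes b
      show σ (algebraMap B (ArLef.NodeAlg B π) b) - _ ∈ _
      rw [this, sub_self]
      exact Ideal.zero_mem _
    · show σ (ArLef.NodeAlg.t π) - _ ∈ _
      have : σ (ArLef.NodeAlg.t π) - ArLef.NodeAlg.t π = g * ArLef.NodeAlg.t π := by
        rw [hσt, hg]; ring
      rw [this]
      exact Ideal.mul_mem_mul (Ideal.mem_span_singleton_self g) htm
    · show σ (ArLef.NodeAlg.e π) - _ ∈ _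
      have : σ (ArLef.NodeAlg.e π) - ArLef.NodeAlg.e π = g * (-β * ArLef.NodeAlg.e π) := by
        rw [hσe]
        linear_combination ArLef.NodeAlg.e π * hβg
      rw [this]
      exact Ideal.mul_mem_mul (Ideal.mem_span_singleton_self g) (Ideal.mul_mem_left _ _ hem)
  have hge : Ideal.span {g} * Ideal.span ({ArLef.NodeAlg.t π, ArLef.NodeAlg.e π} : Set (ArLef.NodeAlg B π)) ≤
      ArLef.fixIdeal σ := by
    rw [Ideal.span_singleton_mul_le_iff]
    intro z hz
    rw [Ideal.mem_span_pair] at hz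
    obtain ⟨a, b, rfl⟩ := hz
    have h1 : σ (ArLef.NodeAlg.t π) - ArLef.NodeAlg.t π ∈ ArLef.fixIdeal σ :=
      Ideal.subset_span ⟨_, rfl⟩
    have h2 : σ (ArLef.NodeAlg.e π) - ArLef.NodeAlg.e π ∈ ArLef.fixIdeal σ :=
      Ideal.subset_span ⟨_, rfl⟩
    have : g * (a * ArLef.NodeAlg.t π + b * ArLef.NodeAlg.e π) =
        a * (σ (ArLef.NodeAlg.t π) - ArLef.NodeAlg.t π) +
          (b * -α) * (σ (ArLef.NodeAlg.e π) - ArLef.NodeAlg.e π) := by
      rw [hσt, hσe]
      have e1 : (α : ArLef.NodeAlg B π) * ArLef.NodeAlg.t π - ArLef.NodeAlg.t π = g * ArLef.NodeAlg.t π := by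
        rw [hg]; ring
      have e2 : (β : ArLef.NodeAlg B π) * ArLef.NodeAlg.e π - ArLef.NodeAlg.e π =
          ((β : ArLef.NodeAlg B π) - 1) * ArLef.NodeAlg.e π := by ring
      rw [e1, e2]
      linear_combination (b * ArLef.NodeAlg.e π) * hgβ
    rw [this]
    exact Ideal.add_mem _ (Ideal.mul_mem_left _ _ h1) (Ideal.mul_mem_left _ _ h2)
  refine ⟨g, ?_, le_antisymm hle hge⟩
  intro hg0
  apply hσ
  have hbot : ArLef.fixIdeal σ ≤ ⊥ := by
    refine hle.trans ?_
    rw [hg0]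
    simp
  ext r
  have : σ r - r ∈ ArLef.fixIdeal σ := Ideal.subset_span ⟨_, rfl⟩
  have := hbot this
  rw [Ideal.mem_bot] at this
  exact sub_eq_zero.mp this

end Groth.Agent.S15317
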