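import Groth.Statements.S15318
import Groth.Agent.R2.H71NodeFix

set_option autoImplicit false
universe u
open ArLef ArLef.NodeAlg

namespace Groth.Agent.S15318

/-- Let B be a discrete valuation ring with uniformizer π, N = B[[t, e]]/(te - π), and σ a B-algebra
automorphism of N switching the two branches of the closed fibre (σ(t) associated to e, σ(e)
associated to t). Then the fixed-point ideal of σ is principal, generated by an element h of order
one (h is not in (t, e)²), and π is a non-zero-divisor modulo h: the fixed locus is a horizontal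
regular divisor through the point with empty residual part. (Stated in the complete local ring,
where the published argument takes place; the published setting has B complete with algebraically
closed residue field.) -/
theorem result (B : Type u) [CommRing B] [IsDomain B] [IsDiscreteValuationRing B] (π : B) (hπ : Irreducible π)
    (σ : ArLef.NodeAlg B π ≃ₐ[B] ArLef.NodeAlg B π)
    (ht : Associated (σ (ArLef.NodeAlg.t π)) (ArLef.NodeAlg.e π))
    (he : Associated (σ (ArLef.NodeAlg.e π)) (ArLef.NodeAlg.t π)) :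
    ∃ h : ArLef.NodeAlg B π, ArLef.fixIdeal σ = Ideal.span {h} ∧
      h ∉ (Ideal.span ({ArLef.NodeAlg.t π, ArLef.NodeAlg.e π} : Set (ArLef.NodeAlg B π))) ^ 2 ∧
      IsSMulRegular (ArLef.NodeAlg B π ⧸ Ideal.span ({h} : Set (ArLef.NodeAlg B π))) π := by
  classical
  obtain ⟨u, hu⟩ := ht
  obtain ⟨v, hv⟩ := he
  obtain ⟨α, hσt⟩ : ∃ α : (ArLef.NodeAlg B π)ˣ,
      σ (ArLef.NodeAlg.t π) = (α : ArLef.NodeAlg B π) * ArLef.NodeAlg.e π :=
    ⟨u⁻¹, by rw [mul_comm ((u⁻¹ : (ArLef.NodeAlg B π)ˣ) : ArLef.NodeAlg B π)]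
             exact (Units.eq_mul_inv_iff_mul_eq u).mpr hu⟩
  obtain ⟨β, hσe⟩ : ∃ β : (ArLef.NodeAlg B π)ˣ,
      σ (ArLef.NodeAlg.e π) = (β : ArLef.NodeAlg B π) * ArLef.NodeAlg.t π :=
    ⟨v⁻¹, by rw [mul_comm ((v⁻¹ : (ArLef.NodeAlg B π)ˣ) : ArLef.NodeAlg B π)]
             exact (Units.eq_mul_inv_iff_mul_eq v).mpr hv⟩
  have hte := Groth.Agent.R2.H71.NodeAlg.t_mul_e π
  have hαβ : (α : ArLef.NodeAlg B π) * β = 1 := by
    have h1 : σ (ArLef.NodeAlg.t π * ArLef.NodeAlg.e π) = ArLef.NodeAlg.t π * ArLef.NodeAlg.e π := by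
      rw [hte]; exact σ.commutes π
    rw [map_mul, hσt, hσe] at h1
    have h2 : algebraMap B (ArLef.NodeAlg B π) π * ((α : ArLef.NodeAlg B π) * β - 1) = 0 := by
      rw [← hte]
      linear_combination h1
    exact sub_eq_zero.mp (Groth.Agent.R2.H71.NodeAlg.pi_regular hπ _ h2)
  set h : ArLef.NodeAlg B π := (α : ArLef.NodeAlg B π) * ArLef.NodeAlg.e π - ArLef.NodeAlg.t π with hh
  have hmax := Groth.Agent.R2.H71.NodeAlg.maximalIdeal_eq hπ
  have hπm := Groth.Agent.R2.H71.NodeAlg.mem_maximalIdeal_of_eq hmax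
  have h01 : (0 : Fin 2) ≠ 1 := by decide
  have h10 : (1 : Fin 2) ≠ 0 := by decide
  -- images of `h` under the branch maps
  have hb0 : Groth.Agent.R2.H71.NodeAlg.branch hπm 0 h = -PowerSeries.X := by
    rw [hh, map_sub, map_mul]
    rw [← Groth.Agent.R2.H71.NodeAlg.var_one, ← Groth.Agent.R2.H71.NodeAlg.var_zero,
      Groth.Agent.R2.H71.NodeAlg.branch_var_ne _ h10, Groth.Agent.R2.H71.NodeAlg.branch_var_same,
      mul_zero, zero_sub]
  have hb1 : Groth.Agent.R2.H71.NodeAlg.branch hπm 1 h =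
      Groth.Agent.R2.H71.NodeAlg.branch hπm 1 α * PowerSeries.X := by
    rw [hh, map_sub, map_mul]
    rw [← Groth.Agent.R2.H71.NodeAlg.var_one, ← Groth.Agent.R2.H71.NodeAlg.var_zero,
      Groth.Agent.R2.H71.NodeAlg.branch_var_ne _ h01, Groth.Agent.R2.H71.NodeAlg.branch_var_same,
      sub_zero]
  refine ⟨h, ?_, ?_, ?_⟩
  · -- the fixed-point ideal
    apply le_antisymm
    · apply Groth.Agent.R2.H71.NodeAlg.fixIdeal_le π (σ : ArLef.NodeAlg B π →+* ArLef.NodeAlg B π)
      · intro b
        have : σ (algebraMap B (ArLef.NodeAlg B π) b) = algebraMap B (ArLef.NodeAlg B π) b := σ.commutes b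
        show σ (algebraMap B (ArLef.NodeAlg B π) b) - _ ∈ _
        rw [this, sub_self]
        exact Ideal.zero_mem _
      · show σ (ArLef.NodeAlg.t π) - _ ∈ _
        rw [hσt]
        exact Ideal.mem_span_singleton_self h
      · show σ (ArLef.NodeAlg.e π) - _ ∈ _
        have : σ (ArLef.NodeAlg.e π) - ArLef.NodeAlg.e π = (-β) * h := by
          rw [hσe, hh]
          linear_combination ArLef.NodeAlg.e π * hαβ
        rw [this]
        exact Ideal.mul_mem_left _ _ (Ideal.mem_span_singleton_self h)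
    · rw [Ideal.span_singleton_le_iff_mem]
      have : h = σ (ArLef.NodeAlg.t π) - ArLef.NodeAlg.t π := by rw [hσt]
      rw [this]
      exact Ideal.subset_span ⟨_, rfl⟩
  · -- `h` has order one
    intro hmem
    have h2 := Groth.Agent.R2.H71.NodeAlg.X_pow_dvd_branch hπ 0 2 hmem
    rw [hb0, dvd_neg, PowerSeries.X_pow_dvd_iff] at h2
    have := h2 1 (by norm_num)
    rw [PowerSeries.coeff_one_X] at this
    exact one_ne_zero this
  · -- `π` is regular modulo `h`
    rw [isSMulRegular_iff_right_eq_zero_of_smul]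
    intro x hx
    obtain ⟨r, rfl⟩ := Ideal.Quotient.mk_surjective x
    have hx' : algebraMap B (ArLef.NodeAlg B π) π * r ∈ Ideal.span ({h} : Set (ArLef.NodeAlg B π)) := by
      rw [← Ideal.Quotient.eq_zero_iff_mem, ← hx, ← Algebra.smul_def]
      rfl
    rw [Ideal.mem_span_singleton'] at hx'
    obtain ⟨s, hs⟩ := hx'
    have hκ : IsLocalRing.residue B π = 0 := (IsLocalRing.residue_eq_zero_iff π).mpr hπm
    have hs0 : Groth.Agent.R2.H71.NodeAlg.branch hπm 0 s = 0 := by
      have := congrArg (Groth.Agent.R2.H71.NodeAlg.branch hπm 0) hs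
      rw [map_mul, map_mul, hb0, Groth.Agent.R2.H71.NodeAlg.branch_algebraMap, hκ, map_zero,
        zero_mul, mul_neg, neg_eq_zero] at this
      rcases mul_eq_zero.mp this with h' | h'
      · exact h'
      · exact absurd h' PowerSeries.X_ne_zero
    have hs1 : Groth.Agent.R2.H71.NodeAlg.branch hπm 1 s = 0 := by
      have := congrArg (Groth.Agent.R2.H71.NodeAlg.branch hπm 1) hs
      rw [map_mul, map_mul, hb1, Groth.Agent.R2.H71.NodeAlg.branch_algebraMap, hκ, map_zero,
        zero_mul] at this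
      rcases mul_eq_zero.mp this with h' | h'
      · exact h'
      · rcases mul_eq_zero.mp h' with h'' | h''
        · exact absurd h'' ((α.isUnit.map _).ne_zero)
        · exact absurd h'' PowerSeries.X_ne_zero
    rw [Groth.Agent.R2.H71.NodeAlg.branch_eq_zero_iff hmax h10] at hs0
    rw [Groth.Agent.R2.H71.NodeAlg.branch_eq_zero_iff hmax h01] at hs1
    obtain ⟨a', ha'⟩ := Groth.Agent.R2.H71.NodeAlg.pi_dvd_of_var_dvd hπ h10 hs0 hs1
    have h3 : algebraMap B (ArLef.NodeAlg B π) π * (r - a' * h) = 0 := by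
      rw [mul_sub, ← hs, ha']
      ring
    have h4 := sub_eq_zero.mp (Groth.Agent.R2.H71.NodeAlg.pi_regular hπ _ h3)
    rw [Ideal.Quotient.eq_zero_iff_mem, h4]
    exact Ideal.mul_mem_left _ _ (Ideal.mem_span_singleton_self h)

end Groth.Agent.S15318
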