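import Groth.Statements.S15320
import Groth.Agent.R2.H71NodeLen

set_option autoImplicit false
universe u
open ArLef ArLef.NodeAlg

namespace Groth.Agent.S15320

/-- Let B be a discrete valuation ring with uniformizer π, N = B[[t, e]]/(te - π) the complete local
ring of a semi-stable arithmetic surface over B at a singular point x of the closed fibre, and σ a
ring automorphism of N over an automorphism τ of B with v(τ(π) - π) = j ≥ 1, that is σ(π) = π + γ
π^j with γ a unit of B, and with σ(b) - b ∈ π^j N for every b ∈ B (automatic when B is totally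
ramified over the fixed ring of τ, as in the published setting, where the residue field is
algebraically closed). If σ switches the two branches through x (σ(t) associated to e and σ(e) to
t), then the fixed-point ideal I of σ is contained in no proper principal ideal (x is not on the
divisorial part of the fixed locus) and N/I has length 2j - 1 (the multiplicity of x in the residual
fixed-point scheme). -/
theorem result (B : Type u) [CommRing B] [IsDomain B] [IsDiscreteValuationRing B] (π : B) (hπ : Irreducible π)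
    (j : ℕ) (hj : 1 ≤ j) (γ : B) (hγ : IsUnit γ)
    (σ : ArLef.NodeAlg B π ≃+* ArLef.NodeAlg B π)
    (hσB : ∀ b : B, σ (algebraMap B (ArLef.NodeAlg B π) b) - algebraMap B (ArLef.NodeAlg B π) b ∈
      Ideal.span ({algebraMap B (ArLef.NodeAlg B π) (π ^ j)} : Set (ArLef.NodeAlg B π)))
    (hσπ : σ (algebraMap B (ArLef.NodeAlg B π) π) = algebraMap B (ArLef.NodeAlg B π) (π + γ * π ^ j))
    (ht : Associated (σ (ArLef.NodeAlg.t π)) (ArLef.NodeAlg.e π)) (he : Associated (σ (ArLef.NodeAlg.e π)) (ArLef.NodeAlg.t π)) :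
    (∀ g : ArLef.NodeAlg B π, ArLef.fixIdeal σ ≤ Ideal.span ({g} : Set (ArLef.NodeAlg B π)) → IsUnit g) ∧
      Module.length (ArLef.NodeAlg B π) (ArLef.NodeAlg B π ⧸ ArLef.fixIdeal σ) = ((2 * j - 1 : ℕ) : ℕ∞) := by
  classical
  obtain ⟨u, hu⟩ := ht
  obtain ⟨v, hv⟩ := he
  obtain ⟨α, hσt⟩ : ∃ α : (ArLef.NodeAlg B π)ˣ,
      σ (ArLef.NodeAlg.t π) = (α : ArLef.NodeAlg B π) * ArLef.NodeAlg.e π :=
    ⟨u⁻¹, by rw [mul_comm ((u⁻¹ : (ArLef.NodeAlg B π)ˣ) : ArLef.NodeAlg B π)]
             exact (Units.eq_mul_inv_iff_mul_eq u).mpr hu⟩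
  obtain ⟨β, hσe⟩ : ∃ β : (ArLef.NodeAlg B π)ˣ,
      σ (ArLef.NodeAlg.e π) = (β : ArLef.NodeAlg B π) * ArLef.NodeAlg.t π :=
    ⟨v⁻¹, by rw [mul_comm ((v⁻¹ : (ArLef.NodeAlg B π)ˣ) : ArLef.NodeAlg B π)]
             exact (Units.eq_mul_inv_iff_mul_eq v).mpr hv⟩
  have hte := Groth.Agent.R2.H71.NodeAlg.t_mul_e π
  obtain ⟨i, hi⟩ : ∃ i, j = i + 1 := ⟨j - 1, by omega⟩
  subst hi
  -- notation
  set P : ArLef.NodeAlg B π := algebraMap B (ArLef.NodeAlg B π) π with hP
  set G : ArLef.NodeAlg B π := algebraMap B (ArLef.NodeAlg B π) γ with hG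
  set T : ArLef.NodeAlg B π := ArLef.NodeAlg.t π with hT
  set E : ArLef.NodeAlg B π := ArLef.NodeAlg.e π with hE
  have hGu : IsUnit G := hγ.map _
  have hσP : σ P = P + G * P ^ (i + 1) := by
    rw [hσπ, map_add, map_mul, map_pow]
  have hαβ : (α : ArLef.NodeAlg B π) * β = 1 + G * P ^ i := by
    have h1 : σ (T * E) = P + G * P ^ (i + 1) := by
      rw [hte]; exact hσP
    rw [map_mul, hσt, hσe] at h1
    have h2 : P * ((α : ArLef.NodeAlg B π) * β - (1 + G * P ^ i)) = 0 := by
      have : P * ((α : ArLef.NodeAlg B π) * β - (1 + G * P ^ i)) =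
          (α : ArLef.NodeAlg B π) * E * (β * T) - (T * E) * 0 - (P + G * P ^ (i + 1)) + (P - T * E) * (α * β) := by
        rw [pow_succ]; ring
      rw [this, h1, hte]; ring
    exact sub_eq_zero.mp (Groth.Agent.R2.H71.NodeAlg.pi_regular hπ _ h2)
  set h : ArLef.NodeAlg B π := (α : ArLef.NodeAlg B π) * E - T with hh
  -- `P ≡ α E^2` modulo `h`
  have hF1 : P - (α : ArLef.NodeAlg B π) * E ^ 2 = -E * h := by
    rw [hh, ← hte]; ring
  have hpow : ∀ m : ℕ, P ^ m - ((α : ArLef.NodeAlg B π) * E ^ 2) ^ m ∈ Ideal.span ({h} : Set (ArLef.NodeAlg B π)) := by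
    intro m
    obtain ⟨c, hc⟩ := sub_dvd_pow_sub_pow P ((α : ArLef.NodeAlg B π) * E ^ 2) m
    rw [hc, hF1]
    exact Ideal.mul_mem_right _ _ (Ideal.mul_mem_left _ _ (Ideal.mem_span_singleton_self h))
  have hσe' : σ E - E = G * (P ^ i * E) - β * h := by
    rw [hσe, hh]
    linear_combination E * hαβ
  -- the ideal
  have hn : 2 * (i + 1) - 1 = 2 * i + 1 := by omega
  rw [hn]
  set J : Ideal (ArLef.NodeAlg B π) := Ideal.span {h} ⊔ Ideal.span {E ^ (2 * i + 1)} with hJ
  have hhJ : Ideal.span ({h} : Set (ArLef.NodeAlg B π)) ≤ J := le_sup_left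
  have hEJ : E ^ (2 * i + 1) ∈ J := Submodule.mem_sup_right (Ideal.mem_span_singleton_self _)
  have hPE : P ^ i * E ∈ J := by
    have : P ^ i * E = (P ^ i - ((α : ArLef.NodeAlg B π) * E ^ 2) ^ i) * E + α ^ i * E ^ (2 * i + 1) := by
      ring
    rw [this]
    exact J.add_mem (J.mul_mem_right _ (hhJ (hpow i))) (J.mul_mem_left _ hEJ)
  have hPJ : P ^ (i + 1) ∈ J := by
    have : P ^ (i + 1) = (P ^ (i + 1) - ((α : ArLef.NodeAlg B π) * E ^ 2) ^ (i + 1)) +
        α ^ (i + 1) * E * E ^ (2 * i + 1) := by ring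
    rw [this]
    exact J.add_mem (hhJ (hpow (i + 1))) (J.mul_mem_left _ hEJ)
  have hfix : ArLef.fixIdeal σ = J := by
    apply le_antisymm
    · apply Groth.Agent.R2.H71.NodeAlg.fixIdeal_le π (σ : ArLef.NodeAlg B π →+* ArLef.NodeAlg B π)
      · intro b
        have := hσB b
        rw [Ideal.mem_span_singleton'] at this
        obtain ⟨c, hc⟩ := this
        show σ (algebraMap B (ArLef.NodeAlg B π) b) - _ ∈ _
        rw [← hc, map_pow]
        exact J.mul_mem_left _ hPJ
      · show σ T - T ∈ J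
        rw [hσt]
        exact hhJ (Ideal.mem_span_singleton_self h)
      · show σ E - E ∈ J
        rw [hσe']
        exact J.sub_mem (J.mul_mem_left _ hPE) (J.mul_mem_left _ (hhJ (Ideal.mem_span_singleton_self h)))
    · have hhfix : h ∈ ArLef.fixIdeal σ := by
        have : h = σ T - T := by rw [hσt]
        rw [this]
        exact Ideal.subset_span ⟨_, rfl⟩
      have hefix : σ E - E ∈ ArLef.fixIdeal σ := Ideal.subset_span ⟨_, rfl⟩
      have hPEfix : P ^ i * E ∈ ArLef.fixIdeal σ := by
        obtain ⟨G', hG'⟩ := hGu.exists_left_inv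
        have : P ^ i * E = G' * ((σ E - E) + β * h) := by
          rw [hσe']
          linear_combination (-(P ^ i * E)) * hG'
        rw [this]
        exact Ideal.mul_mem_left _ _ (Ideal.add_mem _ hefix (Ideal.mul_mem_left _ _ hhfix))
      have hEfix : E ^ (2 * i + 1) ∈ ArLef.fixIdeal σ := by
        have h1 : (α : ArLef.NodeAlg B π) ^ i * E ^ (2 * i + 1) ∈ ArLef.fixIdeal σ := by
          have : (α : ArLef.NodeAlg B π) ^ i * E ^ (2 * i + 1) =
              P ^ i * E - (P ^ i - ((α : ArLef.NodeAlg B π) * E ^ 2) ^ i) * E := by ring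
          rw [this]
          refine Ideal.sub_mem _ hPEfix (Ideal.mul_mem_right _ _ ?_)
          exact (Ideal.span_singleton_le_iff_mem _).mpr hhfix (hpow i)
        have hu : IsUnit ((α : ArLef.NodeAlg B π) ^ i) := α.isUnit.pow i
        obtain ⟨a', ha'⟩ := hu.exists_left_inv
        have : E ^ (2 * i + 1) = a' * ((α : ArLef.NodeAlg B π) ^ i * E ^ (2 * i + 1)) := by
          rw [← mul_assoc, ha', one_mul]
        rw [this]
        exact Ideal.mul_mem_left _ _ h1
      rw [hJ]
      exact sup_le ((Ideal.span_singleton_le_iff_mem _).mpr hhfix)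
        ((Ideal.span_singleton_le_iff_mem _).mpr hEfix)
  have h01 : (0 : Fin 2) ≠ 1 := by decide
  have h10 : (1 : Fin 2) ≠ 0 := by decide
  constructor
  · -- contained in no proper principal ideal
    intro g hg
    have hhg : g ∣ h := by
      rw [← Ideal.mem_span_singleton]
      apply hg
      rw [hfix]
      exact hhJ (Ideal.mem_span_singleton_self h)
    have hPg : g ∣ P ^ (i + 1) := by
      rw [← Ideal.mem_span_singleton]
      apply hg
      rw [hfix]
      exact hPJ
    have hg0 : ¬ Groth.Agent.R2.H71.NodeAlg.var π 0 ∣ g := by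
      intro h0
      have h1 : Groth.Agent.R2.H71.NodeAlg.var π 0 ∣ h := h0.trans hhg
      have h2 : Groth.Agent.R2.H71.NodeAlg.var π 0 ∣ Groth.Agent.R2.H71.NodeAlg.var π 1 * (α : ArLef.NodeAlg B π) := by
        have : Groth.Agent.R2.H71.NodeAlg.var π 1 * (α : ArLef.NodeAlg B π) = h + Groth.Agent.R2.H71.NodeAlg.var π 0 := by
          rw [hh]
          show E * (α : ArLef.NodeAlg B π) = (α : ArLef.NodeAlg B π) * E - T + T
          ring
        rw [this]
        exact dvd_add h1 dvd_rfl
      exact Groth.Agent.R2.H71.NodeAlg.not_var_dvd_var hπ h01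
        (Groth.Agent.R2.H71.NodeAlg.var_dvd_mul_unit hπ 0 α.isUnit h2)
    have hg1 : ¬ Groth.Agent.R2.H71.NodeAlg.var π 1 ∣ g := by
      intro h0
      have h1 : Groth.Agent.R2.H71.NodeAlg.var π 1 ∣ h := h0.trans hhg
      have h2 : Groth.Agent.R2.H71.NodeAlg.var π 1 ∣ Groth.Agent.R2.H71.NodeAlg.var π 0 := by
        have : Groth.Agent.R2.H71.NodeAlg.var π 0 = Groth.Agent.R2.H71.NodeAlg.var π 1 * (α : ArLef.NodeAlg B π) - h := by
          rw [hh]
          show T = E * (α : ArLef.NodeAlg B π) - ((α : ArLef.NodeAlg B π) * E - T)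
          ring
        rw [this]
        exact dvd_sub (Dvd.intro _ rfl) h1
      exact Groth.Agent.R2.H71.NodeAlg.not_var_dvd_var hπ h10 h2
    apply Groth.Agent.R2.H71.NodeAlg.isUnit_of_dvd_var_pow_mul hπ hg0 hg1 (i + 1) (i + 1)
    have : Groth.Agent.R2.H71.NodeAlg.var π 0 ^ (i + 1) * Groth.Agent.R2.H71.NodeAlg.var π 1 ^ (i + 1) = P ^ (i + 1) := by
      rw [← mul_pow, Groth.Agent.R2.H71.NodeAlg.var_mul_var h01]
    rw [this]
    exact hPg
  · -- the length
    rw [hfix, hJ]
    rw [Groth.Agent.R2.H71.Len.length_quotient_sup_span_pow (Ideal.span {h}) E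
      (fun y hy => Groth.Agent.R2.H71.NodeAlg.e_mul_mem_span_switch hπ α hy) (2 * i + 1)]
    have hsup : Ideal.span ({h} : Set (ArLef.NodeAlg B π)) ⊔ Ideal.span {E} =
        Ideal.span ({T, E} : Set (ArLef.NodeAlg B π)) := by
      apply le_antisymm
      · apply sup_le
        · rw [Ideal.span_singleton_le_iff_mem, hh]
          exact Ideal.sub_mem _ (Ideal.mul_mem_left _ _ (Ideal.subset_span (by simp)))
            (Ideal.subset_span (by simp))
        · rw [Ideal.span_singleton_le_iff_mem]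
          exact Ideal.subset_span (by simp)
      · rw [Ideal.span_le]
        rintro x hx
        rcases hx with rfl | rfl
        · have : T = (α : ArLef.NodeAlg B π) * E - h := by rw [hh]; ring
          show T ∈ _
          rw [this]
          exact Ideal.sub_mem _
            (Ideal.mul_mem_left _ _ (Submodule.mem_sup_right (Ideal.mem_span_singleton_self _)))
            (Submodule.mem_sup_left (Ideal.mem_span_singleton_self _))
        · exact Submodule.mem_sup_right (Ideal.mem_span_singleton_self _)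
    rw [hsup, Groth.Agent.R2.H71.NodeAlg.length_quotient_span_te
      (Groth.Agent.R2.H71.NodeAlg.maximalIdeal_eq hπ), mul_one]

end Groth.Agent.S15320
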