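import Groth.Statements.S15321
import Groth.Agent.R2.H71PowerFix

set_option autoImplicit false
universe u
open ArLef

namespace Groth.Agent.S15321

/-- In the case of a smooth point with the closed fibre outside the divisorial part, let B be a discrete
valuation ring with uniformizer π and residue field k, B[[t]] the complete local ring of a
semi-stable arithmetic surface over B at a point x where the closed fibre is smooth, and σ a ring
automorphism of B[[t]] over an automorphism τ of B with v(τ(π) - π) = j ≥ 1, that is σ(π) = π + γ
π^j with γ a unit, and σ(b) - b ∈ π^j B[[t]] for all b ∈ B (automatic for B totally ramified over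
the fixed ring of τ, as in the published setting). If π does not divide f = σ(t) - t (the closed
fibre is not in the divisorial part of the fixed locus near x), then the length of B[[t]] modulo the
fixed-point ideal of σ is j m, where m, the length of k[[t]]/(f mod π), is the multiplicity of x as
a fixed point of σ on the closed fibre. -/
theorem result (B : Type u) [CommRing B] [IsDomain B] [IsDiscreteValuationRing B] (π : B) (hπ : Irreducible π)
    (j : ℕ) (hj : 1 ≤ j) (γ : B) (hγ : IsUnit γ)
    (σ : PowerSeries B ≃+* PowerSeries B)
    (hσB : ∀ b : B, σ (algebraMap B (PowerSeries B) b) - algebraMap B (PowerSeries B) b ∈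
      Ideal.span ({algebraMap B (PowerSeries B) (π ^ j)} : Set (PowerSeries B)))
    (hσπ : σ (algebraMap B (PowerSeries B) π) = algebraMap B (PowerSeries B) (π + γ * π ^ j))
    (h0 : ¬ (algebraMap B (PowerSeries B) π ∣ σ PowerSeries.X - PowerSeries.X)) :
    Module.length (PowerSeries B) (PowerSeries B ⧸ ArLef.fixIdeal σ) =
      (j : ℕ∞) * Module.length (PowerSeries (IsLocalRing.ResidueField B)) (PowerSeries (IsLocalRing.ResidueField B) ⧸
        Ideal.span ({PowerSeries.map (IsLocalRing.residue B) (σ PowerSeries.X - PowerSeries.X)} : Set (PowerSeries (IsLocalRing.ResidueField B)))) := by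
  classical
  have hmax : IsLocalRing.maximalIdeal B = Ideal.span {π} := hπ.maximalIdeal_eq
  set P : PowerSeries B := algebraMap B (PowerSeries B) π with hP
  set G : PowerSeries B := algebraMap B (PowerSeries B) γ with hG
  set f : PowerSeries B := σ PowerSeries.X - PowerSeries.X with hf
  have hGu : IsUnit G := hγ.map _
  obtain ⟨G', hG'⟩ := hGu.exists_left_inv
  have hσP : σ P = P + G * P ^ j := by
    rw [hσπ, map_add, map_mul, map_pow]
  have hP0 : P ≠ 0 := by
    rw [hP, PowerSeries.algebraMap_eq]
    intro h
    exact hπ.ne_zero (PowerSeries.C_injective (by rw [h, map_zero]))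
  -- the fixed-point ideal
  set I : Ideal (PowerSeries B) := Ideal.span {f} ⊔ Ideal.span {P ^ j} with hI
  have hfI : f ∈ I := Submodule.mem_sup_left (Ideal.mem_span_singleton_self _)
  have hPI : P ^ j ∈ I := Submodule.mem_sup_right (Ideal.mem_span_singleton_self _)
  have hfix : ArLef.fixIdeal σ = I := by
    apply le_antisymm
    · apply Groth.Agent.R2.H71.PS.fixIdeal_le (σ : PowerSeries B →+* PowerSeries B)
      · intro b'
        have := hσB b'
        rw [Ideal.mem_span_singleton'] at this
        obtain ⟨c, hc⟩ := this
        show σ (algebraMap B (PowerSeries B) b') - _ ∈ _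
        rw [← hc, map_pow]
        exact I.mul_mem_left _ hPI
      · exact hfI
    · rw [hI]
      refine sup_le ?_ ?_
      · rw [Ideal.span_singleton_le_iff_mem]
        exact Ideal.subset_span ⟨_, rfl⟩
      · rw [Ideal.span_singleton_le_iff_mem]
        have h1 : σ P - P ∈ ArLef.fixIdeal σ := Ideal.subset_span ⟨_, rfl⟩
        have : P ^ j = G' * (σ P - P) := by
          rw [hσP]
          linear_combination (-(P ^ j)) * hG'
        rw [this]
        exact Ideal.mul_mem_left _ _ h1
  rw [hfix, hI]
  -- `P` is regular modulo `f`
  have hρf : PowerSeries.map (IsLocalRing.residue B) f ≠ 0 := by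
    intro h
    exact h0 ((Groth.Agent.R2.H71.PS.map_residue_eq_zero_iff hmax f).mp h)
  have hreg : ∀ y, P * y ∈ Ideal.span ({f} : Set (PowerSeries B)) →
      y ∈ Ideal.span ({f} : Set (PowerSeries B)) := by
    intro y hy
    rw [Ideal.mem_span_singleton'] at hy ⊢
    obtain ⟨s, hs⟩ := hy
    have h1 := congrArg (PowerSeries.map (IsLocalRing.residue B)) hs
    have hρP : PowerSeries.map (IsLocalRing.residue B) P = 0 :=
      (Groth.Agent.R2.H71.PS.map_residue_eq_zero_iff hmax P).mpr dvd_rfl
    rw [map_mul, map_mul, hρP, zero_mul] at h1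
    rcases mul_eq_zero.mp h1 with h2 | h2
    · obtain ⟨s', rfl⟩ := (Groth.Agent.R2.H71.PS.map_residue_eq_zero_iff hmax s).mp h2
      refine ⟨s', ?_⟩
      apply mul_left_cancel₀ hP0
      rw [← hs]; ring
    · exact absurd h2 hρf
  rw [Groth.Agent.R2.H71.Len.length_quotient_sup_span_pow (Ideal.span {f}) P hreg j]
  congr 1
  -- compare with the residue field
  have hsurj : Function.Surjective
      (algebraMap (PowerSeries B) (PowerSeries (IsLocalRing.ResidueField B))) :=
    PowerSeries.map_surjective _ IsLocalRing.residue_surjective
  have hker : RingHom.ker (algebraMap (PowerSeries B) (PowerSeries (IsLocalRing.ResidueField B))) ≤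
      Ideal.span ({f} : Set (PowerSeries B)) ⊔ Ideal.span {P} := by
    intro r hr
    have : PowerSeries.map (IsLocalRing.residue B) r = 0 := hr
    obtain ⟨c, rfl⟩ := (Groth.Agent.R2.H71.PS.map_residue_eq_zero_iff hmax r).mp this
    exact Submodule.mem_sup_right (Ideal.mul_mem_right _ _ (Ideal.mem_span_singleton_self _))
  rw [Groth.Agent.R2.H71.PS.length_quotient_map hsurj _ hker]
  have hmap : Ideal.map (algebraMap (PowerSeries B) (PowerSeries (IsLocalRing.ResidueField B)))
      (Ideal.span ({f} : Set (PowerSeries B)) ⊔ Ideal.span {P}) =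
      Ideal.span ({PowerSeries.map (IsLocalRing.residue B) f} :
        Set (PowerSeries (IsLocalRing.ResidueField B))) := by
    rw [Ideal.map_sup, Ideal.map_span, Ideal.map_span, Set.image_singleton, Set.image_singleton]
    have hρP : algebraMap (PowerSeries B) (PowerSeries (IsLocalRing.ResidueField B)) P = 0 :=
      (Groth.Agent.R2.H71.PS.map_residue_eq_zero_iff hmax P).mpr dvd_rfl
    rw [hρP, Ideal.span_singleton_eq_bot.mpr rfl, sup_bot_eq]
    rfl
  rw [hmap]

end Groth.Agent.S15321
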