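import Groth.Statements.S15323
import Groth.Agent.R2.H71NodeLen

set_option autoImplicit false
universe u
open ArLef ArLef.NodeAlg

namespace Groth.Agent.S15323

/-- In the cases where the branches through the point do not lie in the divisorial part of the fixed
locus, let B be a discrete valuation ring with uniformizer π, N = B[[t, e]]/(te - π) the complete
local ring of a semi-stable arithmetic surface over B at a singular point x of the closed fibre, and
σ a ring automorphism of N with σ(π) = π + γ π^j (γ a unit of B, j ≥ 1) and σ(b) - b ∈ π^j N for all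
b ∈ B (σ lies over an automorphism τ of B with v(τ(π) - π) = j, B totally ramified over the fixed
ring as in the published setting). Suppose σ fixes the branches, σ(t) = α t and σ(e) = β e with
units α, β, and that t does not divide β - 1 and e does not divide α - 1. Then the length of N
modulo the fixed-point ideal of σ (the multiplicity of x in the residual fixed-point scheme) is j
(s₁ + s₂) + 1, where s₁ = length N/(t, β - 1) and s₂ = length N/(e, α - 1) are the fixed-point
multiplicities of σ at x along the two branches, each lowered by one. -/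
theorem result (B : Type u) [CommRing B] [IsDomain B] [IsDiscreteValuationRing B] (π : B) (hπ : Irreducible π)
    (j : ℕ) (hj : 1 ≤ j) (γ : B) (hγ : IsUnit γ)
    (σ : ArLef.NodeAlg B π ≃+* ArLef.NodeAlg B π)
    (hσB : ∀ b : B, σ (algebraMap B (ArLef.NodeAlg B π) b) - algebraMap B (ArLef.NodeAlg B π) b ∈
      Ideal.span ({algebraMap B (ArLef.NodeAlg B π) (π ^ j)} : Set (ArLef.NodeAlg B π)))
    (hσπ : σ (algebraMap B (ArLef.NodeAlg B π) π) = algebraMap B (ArLef.NodeAlg B π) (π + γ * π ^ j))
    (α β : (ArLef.NodeAlg B π)ˣ) (ht : σ (ArLef.NodeAlg.t π) = (α : ArLef.NodeAlg B π) * ArLef.NodeAlg.t π) (he : σ (ArLef.NodeAlg.e π) = (β : ArLef.NodeAlg B π) * ArLef.NodeAlg.e π)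
    (htb : ¬ (ArLef.NodeAlg.t π ∣ (β : ArLef.NodeAlg B π) - 1)) (hea : ¬ (ArLef.NodeAlg.e π ∣ (α : ArLef.NodeAlg B π) - 1)) :
    Module.length (ArLef.NodeAlg B π) (ArLef.NodeAlg B π ⧸ ArLef.fixIdeal σ) =
      (j : ℕ∞) * (Module.length (ArLef.NodeAlg B π) (ArLef.NodeAlg B π ⧸ Ideal.span ({ArLef.NodeAlg.t π, (β : ArLef.NodeAlg B π) - 1} : Set (ArLef.NodeAlg B π))) +
        Module.length (ArLef.NodeAlg B π) (ArLef.NodeAlg B π ⧸ Ideal.span ({ArLef.NodeAlg.e π, (α : ArLef.NodeAlg B π) - 1} : Set (ArLef.NodeAlg B π)))) + 1 := by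
  classical
  have hmax := Groth.Agent.R2.H71.NodeAlg.maximalIdeal_eq hπ
  have hte := Groth.Agent.R2.H71.NodeAlg.t_mul_e π
  obtain ⟨i, hi⟩ : ∃ i, j = i + 1 := ⟨j - 1, by omega⟩
  subst hi
  have h01 : (0 : Fin 2) ≠ 1 := by decide
  have h10 : (1 : Fin 2) ≠ 0 := by decide
  -- notation
  set P : ArLef.NodeAlg B π := algebraMap B (ArLef.NodeAlg B π) π with hP
  set G : ArLef.NodeAlg B π := algebraMap B (ArLef.NodeAlg B π) γ with hG
  set T : ArLef.NodeAlg B π := ArLef.NodeAlg.t π with hT
  set E : ArLef.NodeAlg B π := ArLef.NodeAlg.e π with hE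
  have hT0 : Groth.Agent.R2.H71.NodeAlg.var π 0 = T := rfl
  have hE1 : Groth.Agent.R2.H71.NodeAlg.var π 1 = E := rfl
  have hGu : IsUnit G := hγ.map _
  obtain ⟨G', hG'⟩ := hGu.exists_left_inv
  have hσP : σ P = P + G * P ^ (i + 1) := by
    rw [hσπ, map_add, map_mul, map_pow]
  have hαβ : (α : ArLef.NodeAlg B π) * β = 1 + G * P ^ i := by
    have h1 : σ (T * E) = P + G * P ^ (i + 1) := by
      rw [hte]; exact hσP
    rw [map_mul, ht, he] at h1
    have h2 : P * ((α : ArLef.NodeAlg B π) * β - (1 + G * P ^ i)) = 0 := by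
      have : P * ((α : ArLef.NodeAlg B π) * β - (1 + G * P ^ i)) =
          (α : ArLef.NodeAlg B π) * T * (β * E) - (P + G * P ^ (i + 1)) + (P - T * E) * (α * β) := by
        rw [pow_succ]; ring
      rw [this, h1, hte]; ring
    exact sub_eq_zero.mp (Groth.Agent.R2.H71.NodeAlg.pi_regular hπ _ h2)
  set a : ArLef.NodeAlg B π := (α : ArLef.NodeAlg B π) - 1 with ha
  set b : ArLef.NodeAlg B π := (β : ArLef.NodeAlg B π) - 1 with hb
  have hR : a + b + a * b = G * P ^ i := by
    rw [ha, hb]; linear_combination hαβ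
  have hσt : σ T - T = a * T := by rw [ht, ha]; ring
  have hσe : σ E - E = b * E := by rw [he, hb]; ring
  obtain ⟨α', hα'⟩ := α.isUnit.exists_left_inv
  obtain ⟨β', hβ'⟩ := β.isUnit.exists_left_inv
  -- `b = α⁻¹ (G P^i - a)` and `a = β⁻¹ (G P^i - b)`
  have hb_eq : b = α' * (G * P ^ i - a) := by
    have : (α : ArLef.NodeAlg B π) * b = G * P ^ i - a := by
      rw [← hR, ha]; ring
    rw [← this, ← mul_assoc, hα', one_mul]
  have ha_eq : a = β' * (G * P ^ i - b) := by
    have : (β : ArLef.NodeAlg B π) * a = G * P ^ i - b := by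
      rw [← hR, hb]; ring
    rw [← this, ← mul_assoc, hβ', one_mul]
  have hTb : ¬ T ∣ b := htb
  have hEa : ¬ E ∣ a := hea
  have hTE : ¬ T ∣ E := Groth.Agent.R2.H71.NodeAlg.not_var_dvd_var hπ h01
  have hET : ¬ E ∣ T := Groth.Agent.R2.H71.NodeAlg.not_var_dvd_var hπ h10
  have hTprime : ∀ {x y : ArLef.NodeAlg B π}, T ∣ x * y → T ∣ x ∨ T ∣ y :=
    fun h => Groth.Agent.R2.H71.NodeAlg.var_dvd_mul hπ 0 h
  have hEprime : ∀ {x y : ArLef.NodeAlg B π}, E ∣ x * y → E ∣ x ∨ E ∣ y :=
    fun h => Groth.Agent.R2.H71.NodeAlg.var_dvd_mul hπ 1 h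
  have hTreg : ∀ x : ArLef.NodeAlg B π, T * x = 0 → x = 0 :=
    fun x h => Groth.Agent.R2.H71.NodeAlg.var_regular hπ 0 x h
  have hEreg : ∀ x : ArLef.NodeAlg B π, E * x = 0 → x = 0 :=
    fun x h => Groth.Agent.R2.H71.NodeAlg.var_regular hπ 1 x h
  have hPTE : ∀ m : ℕ, P ^ m = T ^ m * E ^ m := by
    intro m; rw [← mul_pow, hte]
  -- the fixed-point ideal
  set I : Ideal (ArLef.NodeAlg B π) :=
    Ideal.span {a * T} ⊔ Ideal.span {b * E} ⊔ Ideal.span {P ^ (i + 1)} with hI
  have haTI : a * T ∈ I :=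
    Submodule.mem_sup_left (Submodule.mem_sup_left (Ideal.mem_span_singleton_self _))
  have hbEI : b * E ∈ I :=
    Submodule.mem_sup_left (Submodule.mem_sup_right (Ideal.mem_span_singleton_self _))
  have hPI : P ^ (i + 1) ∈ I := Submodule.mem_sup_right (Ideal.mem_span_singleton_self _)
  have hfix : ArLef.fixIdeal σ = I := by
    apply le_antisymm
    · apply Groth.Agent.R2.H71.NodeAlg.fixIdeal_le π (σ : ArLef.NodeAlg B π →+* ArLef.NodeAlg B π)
      · intro b'
        have := hσB b'
        rw [Ideal.mem_span_singleton'] at this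
        obtain ⟨c, hc⟩ := this
        show σ (algebraMap B (ArLef.NodeAlg B π) b') - _ ∈ _
        rw [← hc, map_pow]
        exact I.mul_mem_left _ hPI
      · show σ T - T ∈ I
        rw [hσt]; exact haTI
      · show σ E - E ∈ I
        rw [hσe]; exact hbEI
    · rw [hI]
      refine sup_le (sup_le ?_ ?_) ?_
      · rw [Ideal.span_singleton_le_iff_mem, ← hσt]
        exact Ideal.subset_span ⟨_, rfl⟩
      · rw [Ideal.span_singleton_le_iff_mem, ← hσe]
        exact Ideal.subset_span ⟨_, rfl⟩
      · rw [Ideal.span_singleton_le_iff_mem]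
        have h1 : σ P - P ∈ ArLef.fixIdeal σ := Ideal.subset_span ⟨_, rfl⟩
        have : P ^ (i + 1) = G' * (σ P - P) := by
          rw [hσP]
          linear_combination (-(P ^ (i + 1))) * hG'
        rw [this]
        exact Ideal.mul_mem_left _ _ h1
  rw [hfix]
  -- Step 1: colon by `T`
  set K₁ : Ideal (ArLef.NodeAlg B π) :=
    Ideal.span {a} ⊔ Ideal.span {b * E} ⊔ Ideal.span {T ^ i * E ^ (i + 1)} with hK₁
  have hK₁mem : ∀ y, y ∈ K₁ ↔ T * y ∈ I := by
    intro y
    constructor
    · intro hy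
      obtain ⟨pq, hpq, r, hr, rfl⟩ := Submodule.mem_sup.mp hy
      obtain ⟨p, hp, q, hq, rfl⟩ := Submodule.mem_sup.mp hpq
      obtain ⟨c, rfl⟩ := Ideal.mem_span_singleton'.mp hp
      obtain ⟨d, rfl⟩ := Ideal.mem_span_singleton'.mp hq
      obtain ⟨f, rfl⟩ := Ideal.mem_span_singleton'.mp hr
      have : T * (c * a + d * (b * E) + f * (T ^ i * E ^ (i + 1))) =
          c * (a * T) + (T * d) * (b * E) + f * P ^ (i + 1) := by
        rw [hPTE]; ring
      rw [this]
      exact I.add_mem (I.add_mem (I.mul_mem_left _ haTI) (I.mul_mem_left _ hbEI))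
        (I.mul_mem_left _ hPI)
    · intro hy
      obtain ⟨pq, hpq, r, hr, hsum⟩ := Submodule.mem_sup.mp hy
      obtain ⟨p, hp, q, hq, rfl⟩ := Submodule.mem_sup.mp hpq
      obtain ⟨c, rfl⟩ := Ideal.mem_span_singleton'.mp hp
      obtain ⟨d, rfl⟩ := Ideal.mem_span_singleton'.mp hq
      obtain ⟨f, rfl⟩ := Ideal.mem_span_singleton'.mp hr
      have h1 : T * (y - c * a - f * (T ^ i * E ^ (i + 1))) = d * (b * E) := by
        rw [mul_sub, mul_sub, ← hsum, hPTE]; ring
      have h2 : T ∣ d * (b * E) := ⟨_, h1.symm⟩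
      have h3 : T ∣ d := by
        rcases hTprime h2 with h | h
        · exact h
        · rcases hTprime h with h' | h'
          · exact absurd h' hTb
          · exact absurd h' hTE
      obtain ⟨d', rfl⟩ := h3
      have h4 : T * (y - c * a - f * (T ^ i * E ^ (i + 1)) - d' * (b * E)) = 0 := by
        rw [mul_sub, h1]; ring
      have h5 := hTreg _ h4
      have : y = c * a + d' * (b * E) + f * (T ^ i * E ^ (i + 1)) := by
        linear_combination h5
      rw [this]
      exact Submodule.add_mem_sup (Submodule.add_mem_sup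
        (Ideal.mul_mem_left _ _ (Ideal.mem_span_singleton_self _))
        (Ideal.mul_mem_left _ _ (Ideal.mem_span_singleton_self _)))
        (Ideal.mul_mem_left _ _ (Ideal.mem_span_singleton_self _))
  have hL1 := Groth.Agent.R2.H71.Len.length_quotient_eq_add I K₁ T hK₁mem
  have hIT : I ⊔ Ideal.span {T} = Ideal.span {T} ⊔ Ideal.span {E * b} := by
    have hTm : T ∈ Ideal.span ({T} : Set (ArLef.NodeAlg B π)) ⊔ Ideal.span {E * b} :=
      Submodule.mem_sup_left (Ideal.mem_span_singleton_self _)
    apply le_antisymm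
    · refine sup_le (sup_le (sup_le ?_ ?_) ?_) le_sup_left
      · rw [Ideal.span_singleton_le_iff_mem]
        exact Ideal.mul_mem_left _ _ hTm
      · rw [Ideal.span_singleton_le_iff_mem, mul_comm b E]
        exact Submodule.mem_sup_right (Ideal.mem_span_singleton_self _)
      · rw [Ideal.span_singleton_le_iff_mem, hPTE, pow_succ']
        exact Ideal.mul_mem_right _ _ (Ideal.mul_mem_right _ _ hTm)
    · refine sup_le le_sup_right ?_
      rw [Ideal.span_singleton_le_iff_mem, mul_comm E b]
      exact Submodule.mem_sup_left hbEI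
  have hL1' := Groth.Agent.R2.H71.Len.length_quotient_sup_span_mul (Ideal.span {T}) E b
    (fun y hy => by
      rw [← hT0] at hy ⊢
      rw [← hE1] at hy
      exact Groth.Agent.R2.H71.NodeAlg.var_mul_mem_span_var hmax h10 hy)
  have hTEsup : Ideal.span ({T} : Set (ArLef.NodeAlg B π)) ⊔ Ideal.span {E} = Ideal.span {T, E} := by
    rw [← Ideal.span_union]; rfl
  have hTbsup : Ideal.span ({T} : Set (ArLef.NodeAlg B π)) ⊔ Ideal.span {b} = Ideal.span {T, b} := by
    rw [← Ideal.span_union]; rfl
  have hEasup : Ideal.span ({E} : Set (ArLef.NodeAlg B π)) ⊔ Ideal.span {a} = Ideal.span {E, a} := by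
    rw [← Ideal.span_union]; rfl
  rw [hTEsup, hTbsup, Groth.Agent.R2.H71.NodeAlg.length_quotient_span_te hmax] at hL1'
  -- Step 2: colon by `E`
  set K₂ : Ideal (ArLef.NodeAlg B π) := Ideal.span {a} ⊔ Ideal.span {P ^ i} with hK₂
  have hbK₂ : b ∈ K₂ := by
    rw [hb_eq]
    refine Ideal.mul_mem_left _ _ (Ideal.sub_mem _ ?_ ?_)
    · exact Ideal.mul_mem_left _ _ (Submodule.mem_sup_right (Ideal.mem_span_singleton_self _))
    · exact Submodule.mem_sup_left (Ideal.mem_span_singleton_self _)
  have hK₂mem : ∀ y, y ∈ K₂ ↔ E * y ∈ K₁ := by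
    intro y
    constructor
    · intro hy
      obtain ⟨p, hp, q, hq, rfl⟩ := Submodule.mem_sup.mp hy
      obtain ⟨c, rfl⟩ := Ideal.mem_span_singleton'.mp hp
      obtain ⟨f, rfl⟩ := Ideal.mem_span_singleton'.mp hq
      have : E * (c * a + f * P ^ i) = (E * c) * a + f * (T ^ i * E ^ (i + 1)) := by
        rw [hPTE]; ring
      rw [this]
      exact Submodule.add_mem_sup (Submodule.mem_sup_left
        (Ideal.mul_mem_left _ _ (Ideal.mem_span_singleton_self _)))
        (Ideal.mul_mem_left _ _ (Ideal.mem_span_singleton_self _))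
    · intro hy
      obtain ⟨pq, hpq, r, hr, hsum⟩ := Submodule.mem_sup.mp hy
      obtain ⟨p, hp, q, hq, rfl⟩ := Submodule.mem_sup.mp hpq
      obtain ⟨c, rfl⟩ := Ideal.mem_span_singleton'.mp hp
      obtain ⟨d, rfl⟩ := Ideal.mem_span_singleton'.mp hq
      obtain ⟨f, rfl⟩ := Ideal.mem_span_singleton'.mp hr
      have h1 : E * (y - d * b - f * P ^ i) = c * a := by
        rw [mul_sub, mul_sub, ← hsum, hPTE]; ring
      have h2 : E ∣ c * a := ⟨_, h1.symm⟩
      have h3 : E ∣ c := by
        rcases hEprime h2 with h | h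
        · exact h
        · exact absurd h hEa
      obtain ⟨c', rfl⟩ := h3
      have h4 : E * (y - d * b - f * P ^ i - c' * a) = 0 := by
        rw [mul_sub, h1]; ring
      have h5 := hEreg _ h4
      have : y = c' * a + d * b + f * P ^ i := by
        linear_combination h5
      rw [this]
      exact K₂.add_mem (K₂.add_mem
        (Ideal.mul_mem_left _ _ (Submodule.mem_sup_left (Ideal.mem_span_singleton_self _)))
        (Ideal.mul_mem_left _ _ hbK₂))
        (Ideal.mul_mem_left _ _ (Submodule.mem_sup_right (Ideal.mem_span_singleton_self _)))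
  have hL2 := Groth.Agent.R2.H71.Len.length_quotient_eq_add K₁ K₂ E hK₂mem
  have hK₁E : K₁ ⊔ Ideal.span {E} = Ideal.span {E, a} := by
    rw [← hEasup]
    have hEm : E ∈ Ideal.span ({E} : Set (ArLef.NodeAlg B π)) ⊔ Ideal.span {a} :=
      Submodule.mem_sup_left (Ideal.mem_span_singleton_self _)
    apply le_antisymm
    · refine sup_le (sup_le (sup_le le_sup_right ?_) ?_) le_sup_left
      · rw [Ideal.span_singleton_le_iff_mem]
        exact Ideal.mul_mem_left _ _ hEm
      · rw [Ideal.span_singleton_le_iff_mem, pow_succ']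
        exact Ideal.mul_mem_left _ _ (Ideal.mul_mem_right _ _ hEm)
    · refine sup_le le_sup_right ?_
      exact le_sup_of_le_left (le_sup_of_le_left le_sup_left)
  rw [hK₁E] at hL2
  -- Step 3: `length N/K₂ = i (s₁ + s₂)`
  have hL3 : Module.length (ArLef.NodeAlg B π) (ArLef.NodeAlg B π ⧸ K₂) =
      (i : ℕ∞) * (Module.length (ArLef.NodeAlg B π) (ArLef.NodeAlg B π ⧸ Ideal.span ({T, b} : Set (ArLef.NodeAlg B π))) +
        Module.length (ArLef.NodeAlg B π) (ArLef.NodeAlg B π ⧸ Ideal.span ({E, a} : Set (ArLef.NodeAlg B π)))) := by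
    rcases Nat.eq_zero_or_pos i with hi0 | hipos
    · subst hi0
      have : K₂ = ⊤ := by
        rw [hK₂, pow_zero, Ideal.span_singleton_one, sup_top_eq]
      rw [this, Nat.cast_zero, zero_mul]
      exact Module.length_eq_zero
    · obtain ⟨i', rfl⟩ : ∃ i', i = i' + 1 := ⟨i - 1, by omega⟩
      have hTP : T ∣ P ^ (i' + 1) := ⟨T ^ i' * E ^ (i' + 1), by rw [hPTE, pow_succ' T]; ring⟩
      have hTa : ¬ T ∣ a := by
        intro hTa
        have h1 : T ∣ (α : ArLef.NodeAlg B π) * b := by
          have : (α : ArLef.NodeAlg B π) * b = G * P ^ (i' + 1) - a := by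
            rw [← hR, ha]; ring
          rw [this]
          exact dvd_sub (Dvd.dvd.mul_left hTP _) hTa
        rcases hTprime h1 with h | h
        · exact Groth.Agent.R2.H71.NodeAlg.not_var_dvd_unit hπ 0 α.isUnit h
        · exact hTb h
      -- `T` is regular modulo `a`
      have hTrega : ∀ y, T * y ∈ Ideal.span ({a} : Set (ArLef.NodeAlg B π)) →
          y ∈ Ideal.span ({a} : Set (ArLef.NodeAlg B π)) := by
        intro y hy
        rw [Ideal.mem_span_singleton'] at hy ⊢
        obtain ⟨s, hs⟩ := hy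
        have h1 : T ∣ s * a := ⟨y, hs⟩
        rcases hTprime h1 with h | h
        · obtain ⟨s', rfl⟩ := h
          refine ⟨s', ?_⟩
          have : T * (s' * a - y) = 0 := by rw [mul_sub, ← hs]; ring
          exact sub_eq_zero.mp (hTreg _ this)
        · exact absurd h hTa
      -- `P` is regular modulo `a`
      have hPrega : ∀ y, P * y ∈ Ideal.span ({a} : Set (ArLef.NodeAlg B π)) →
          y ∈ Ideal.span ({a} : Set (ArLef.NodeAlg B π)) := by
        intro y hy
        rw [Ideal.mem_span_singleton'] at hy ⊢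
        obtain ⟨s, hs⟩ := hy
        have h1 : T ∣ s := by
          have : T ∣ s * a := ⟨E * y, by rw [hs, ← hte]; ring⟩
          rcases hTprime this with h | h
          · exact h
          · exact absurd h hTa
        have h2 : E ∣ s := by
          have : E ∣ s * a := ⟨T * y, by rw [hs, ← hte]; ring⟩
          rcases hEprime this with h | h
          · exact h
          · exact absurd h hEa
        obtain ⟨s', hs'⟩ := Groth.Agent.R2.H71.NodeAlg.pi_dvd_of_var_dvd hπ h01 h1 h2
        refine ⟨s', ?_⟩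
        have : P * (s' * a - y) = 0 := by
          rw [mul_sub, ← hs, hs']; ring
        exact sub_eq_zero.mp (Groth.Agent.R2.H71.NodeAlg.pi_regular hπ _ this)
      rw [hK₂, Groth.Agent.R2.H71.Len.length_quotient_sup_span_pow (Ideal.span {a}) P hPrega (i' + 1)]
      congr 1
      rw [← hte, Groth.Agent.R2.H71.Len.length_quotient_sup_span_mul (Ideal.span {a}) T E hTrega]
      have e1 : Ideal.span ({a} : Set (ArLef.NodeAlg B π)) ⊔ Ideal.span {E} = Ideal.span {E, a} := by
        rw [sup_comm, hEasup]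
      have e2 : Ideal.span ({a} : Set (ArLef.NodeAlg B π)) ⊔ Ideal.span {T} = Ideal.span {T, b} := by
        rw [← hTbsup]
        have hTm : T ∈ Ideal.span ({T} : Set (ArLef.NodeAlg B π)) ⊔ Ideal.span {b} :=
          Submodule.mem_sup_left (Ideal.mem_span_singleton_self _)
        have hTm' : T ∈ Ideal.span ({a} : Set (ArLef.NodeAlg B π)) ⊔ Ideal.span {T} :=
          Submodule.mem_sup_right (Ideal.mem_span_singleton_self _)
        obtain ⟨w, hw⟩ := hTP
        apply le_antisymm
        · refine sup_le ?_ le_sup_left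
          rw [Ideal.span_singleton_le_iff_mem, ha_eq, hw]
          refine Ideal.mul_mem_left _ _ (Ideal.sub_mem _ ?_ ?_)
          · exact Ideal.mul_mem_left _ _ (Ideal.mul_mem_right _ _ hTm)
          · exact Submodule.mem_sup_right (Ideal.mem_span_singleton_self _)
        · refine sup_le le_sup_right ?_
          rw [Ideal.span_singleton_le_iff_mem, hb_eq, hw]
          refine Ideal.mul_mem_left _ _ (Ideal.sub_mem _ ?_ ?_)
          · exact Ideal.mul_mem_left _ _ (Ideal.mul_mem_right _ _ hTm')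
          · exact Submodule.mem_sup_left (Ideal.mem_span_singleton_self _)
      rw [e1, e2, add_comm]
  rw [hL1, hIT, hL1', hL2, hL3]
  push_cast
  ring

end Groth.Agent.S15323
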