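import Groth.Statements.S15325
import Groth.Agent.R2.H71NodeLen

set_option autoImplicit false
universe u
open ArLef ArLef.NodeAlg

namespace Groth.Agent.S15325

/-- Let k be a field, A = k[[t, e]]/(te) the complete local ring of a nodal curve at a node x, and σ a
k-algebra automorphism of A fixing the two branches, σ(t) = α t and σ(e) = β e with units α, β.
Writing I for the fixed-point ideal of σ (generated by all σ(r) - r), the fixed-point multiplicity
length(A/I) of σ at x and the fixed-point multiplicities length(A/(I + (t))), length(A/(I + (e))) of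
the automorphisms induced on the two branches satisfy length(A/I) + 1 = length(A/(I + (t))) +
length(A/(I + (e))), as extended natural numbers (both sides are infinite when σ fixes a branch
pointwise). (The published setting has k algebraically closed.) -/
theorem result (k : Type u) [Field k]
    (σ : ArLef.NodeAlg k 0 ≃ₐ[k] ArLef.NodeAlg k 0) (α β : (ArLef.NodeAlg k 0)ˣ)
    (ht : σ (ArLef.NodeAlg.t (0 : k)) = (α : ArLef.NodeAlg k 0) * ArLef.NodeAlg.t (0 : k)) (he : σ (ArLef.NodeAlg.e (0 : k)) = (β : ArLef.NodeAlg k 0) * ArLef.NodeAlg.e (0 : k)) :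
    Module.length (ArLef.NodeAlg k 0) (ArLef.NodeAlg k 0 ⧸ ArLef.fixIdeal σ) + 1 =
      Module.length (ArLef.NodeAlg k 0) (ArLef.NodeAlg k 0 ⧸ (ArLef.fixIdeal σ ⊔ Ideal.span ({ArLef.NodeAlg.t (0 : k)} : Set (ArLef.NodeAlg k 0)))) +
        Module.length (ArLef.NodeAlg k 0) (ArLef.NodeAlg k 0 ⧸ (ArLef.fixIdeal σ ⊔ Ideal.span ({ArLef.NodeAlg.e (0 : k)} : Set (ArLef.NodeAlg k 0)))) := by
  classical
  have hmax : IsLocalRing.maximalIdeal k = Ideal.span {(0 : k)} := by
    rw [IsLocalRing.maximalIdeal_eq_bot, Ideal.span_singleton_eq_bot.mpr rfl]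
  have hπm := Groth.Agent.R2.H71.NodeAlg.mem_maximalIdeal_of_eq hmax
  have hte : ArLef.NodeAlg.t (0 : k) * ArLef.NodeAlg.e (0 : k) = 0 :=
    (Groth.Agent.R2.H71.NodeAlg.t_mul_e (0 : k)).trans (map_zero _)
  set T : ArLef.NodeAlg k 0 := ArLef.NodeAlg.t (0 : k) with hT
  set E : ArLef.NodeAlg k 0 := ArLef.NodeAlg.e (0 : k) with hE
  have hT0 : Groth.Agent.R2.H71.NodeAlg.var (0 : k) 0 = T := rfl
  have hE1 : Groth.Agent.R2.H71.NodeAlg.var (0 : k) 1 = E := rfl
  have h01 : (0 : Fin 2) ≠ 1 := by decide
  have h10 : (1 : Fin 2) ≠ 0 := by decide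
  set a : ArLef.NodeAlg k 0 := (α : ArLef.NodeAlg k 0) - 1 with ha
  set b : ArLef.NodeAlg k 0 := (β : ArLef.NodeAlg k 0) - 1 with hb
  have hσt : σ T - T = a * T := by rw [ht, ha]; ring
  have hσe : σ E - E = b * E := by rw [he, hb]; ring
  set I : Ideal (ArLef.NodeAlg k 0) := Ideal.span {a * T} ⊔ Ideal.span {b * E} with hI
  have hfix : ArLef.fixIdeal σ = I := by
    apply le_antisymm
    · apply Groth.Agent.R2.H71.NodeAlg.fixIdeal_le (0 : k) (σ : ArLef.NodeAlg k 0 →+* ArLef.NodeAlg k 0)
      · intro c
        have : σ (algebraMap k (ArLef.NodeAlg k 0) c) = algebraMap k (ArLef.NodeAlg k 0) c := σ.commutes c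
        show σ (algebraMap k (ArLef.NodeAlg k 0) c) - _ ∈ _
        rw [this, sub_self]
        exact Ideal.zero_mem _
      · show σ T - T ∈ I
        rw [hσt]
        exact Submodule.mem_sup_left (Ideal.mem_span_singleton_self _)
      · show σ E - E ∈ I
        rw [hσe]
        exact Submodule.mem_sup_right (Ideal.mem_span_singleton_self _)
    · rw [hI]
      apply sup_le
      · rw [Ideal.span_singleton_le_iff_mem, ← hσt]
        exact Ideal.subset_span ⟨_, rfl⟩
      · rw [Ideal.span_singleton_le_iff_mem, ← hσe]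
        exact Ideal.subset_span ⟨_, rfl⟩
  rw [hfix]
  -- the colon ideal `(I : T) = (a, E)`
  have hK : ∀ y, y ∈ Ideal.span {a} ⊔ Ideal.span {E} ↔ T * y ∈ I := by
    intro y
    constructor
    · intro hy
      obtain ⟨p, hp, q, hq, rfl⟩ := Submodule.mem_sup.mp hy
      obtain ⟨c, rfl⟩ := Ideal.mem_span_singleton'.mp hp
      obtain ⟨d, rfl⟩ := Ideal.mem_span_singleton'.mp hq
      have : T * (c * a + d * E) = c * (a * T) := by
        have : T * (c * a + d * E) = c * (a * T) + d * (T * E) := by ring
        rw [this, hte, mul_zero, add_zero]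
      rw [this]
      exact Submodule.mem_sup_left (Ideal.mul_mem_left _ _ (Ideal.mem_span_singleton_self _))
    · intro hy
      obtain ⟨p, hp, q, hq, hpq⟩ := Submodule.mem_sup.mp hy
      obtain ⟨c, rfl⟩ := Ideal.mem_span_singleton'.mp hp
      obtain ⟨d, rfl⟩ := Ideal.mem_span_singleton'.mp hq
      -- `T * (y - c * a) = d * b * E`
      have h1 : T * (y - c * a) = d * (b * E) := by
        rw [mul_sub, ← hpq]; ring
      have h2 : Groth.Agent.R2.H71.NodeAlg.branch hπm 1 (d * b) = 0 := by
        have := congrArg (Groth.Agent.R2.H71.NodeAlg.branch hπm 1) h1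
        rw [map_mul, ← hT0, Groth.Agent.R2.H71.NodeAlg.branch_var_ne _ h01, zero_mul, ← mul_assoc,
          map_mul, ← hE1, Groth.Agent.R2.H71.NodeAlg.branch_var_same] at this
        rcases mul_eq_zero.mp this.symm with h' | h'
        · exact h'
        · exact absurd h' PowerSeries.X_ne_zero
      rw [Groth.Agent.R2.H71.NodeAlg.branch_eq_zero_iff hmax h01, hT0] at h2
      obtain ⟨c', hc'⟩ := h2
      have h3 : T * (y - c * a) = 0 := by
        rw [h1, ← mul_assoc, hc']
        have : T * c' * E = c' * (T * E) := by ring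
        rw [this, hte, mul_zero]
      rw [← hT0] at h3
      have h4 := Groth.Agent.R2.H71.NodeAlg.var_dvd_of_var_mul_eq_zero hmax h01 h3
      rw [hE1] at h4
      obtain ⟨c'', hc''⟩ := h4
      have : y = c * a + c'' * E := by
        have : y = (y - c * a) + c * a := by ring
        rw [this, hc'']; ring
      rw [this]
      exact Submodule.add_mem_sup (Ideal.mul_mem_left _ _ (Ideal.mem_span_singleton_self _))
        (Ideal.mul_mem_left _ _ (Ideal.mem_span_singleton_self _))
  have hL1 := Groth.Agent.R2.H71.Len.length_quotient_eq_add I (Ideal.span {a} ⊔ Ideal.span {E}) T hK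
  -- `I + (E) = (E) + (T a)`
  have hIE : I ⊔ Ideal.span {E} = Ideal.span {E} ⊔ Ideal.span {T * a} := by
    rw [hI]
    apply le_antisymm
    · apply sup_le
      · apply sup_le
        · rw [Ideal.span_singleton_le_iff_mem, mul_comm a T]
          exact Submodule.mem_sup_right (Ideal.mem_span_singleton_self _)
        · rw [Ideal.span_singleton_le_iff_mem]
          exact Submodule.mem_sup_left (Ideal.mul_mem_left _ _ (Ideal.mem_span_singleton_self _))
      · exact le_sup_left
    · apply sup_le
      · exact le_sup_right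
      · rw [Ideal.span_singleton_le_iff_mem, mul_comm T a]
        exact Submodule.mem_sup_left (Submodule.mem_sup_left (Ideal.mem_span_singleton_self _))
  have hL2 := Groth.Agent.R2.H71.Len.length_quotient_sup_span_mul (Ideal.span {E}) T a
    (fun y hy => by
      rw [← hE1] at hy ⊢
      rw [← hT0] at hy
      exact Groth.Agent.R2.H71.NodeAlg.var_mul_mem_span_var hmax h01 hy)
  have hET : Ideal.span ({E} : Set (ArLef.NodeAlg k 0)) ⊔ Ideal.span {T} = Ideal.span {T, E} := by
    rw [sup_comm, ← Ideal.span_union]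
    rfl
  rw [hET, Groth.Agent.R2.H71.NodeAlg.length_quotient_span_te hmax] at hL2
  rw [hIE, hL2, hL1, sup_comm (Ideal.span {a}) (Ideal.span {E})]
  ring

end Groth.Agent.S15325
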