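import Groth.Statements.S1534
import Groth.Agent.R2.H85CurveCM

set_option autoImplicit false
universe u
open CategoryTheory CategoryTheory.Limits AlgebraicGeometry
open Curves

namespace Groth.Agent.S1534

/-- A proper scheme of dimension one over a field k whose global functions are k is connected, all of
its local rings are Cohen–Macaulay, and every irreducible component has dimension one. -/
theorem result (k : Type u) [Field k] (X : Scheme.{u}) [X.Over (Spec (CommRingCat.of k))]
    [IsProper (X ↘ (Spec (CommRingCat.of k)))] (hdim : topologicalKrullDim X = 1) (h0 : Module.finrank k (Coh.HH X (Coh.structureModule X) 0) = 1) :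
    ConnectedSpace X ∧ (∀ x : X, LocCoh.IsCohenMacaulayLocalRing (X.presheaf.stalk x)) ∧
      ∀ Z ∈ irreducibleComponents (X : Type u), topologicalKrullDim Z = 1 := by
  haveI : IsLocallyNoetherian X :=
    LocallyOfFiniteType.isLocallyNoetherian (X ↘ Spec (CommRingCat.of k))
  haveI : CompactSpace X :=
    QuasiCompact.compactSpace_of_compactSpace (X ↘ Spec (CommRingCat.of k))
  haveI : Nonempty X := Groth.Agent.R2.H85.CurveCM.nonempty_of_dim_eq_one hdim
  exact ⟨Groth.Agent.R2.H85.CurveCM.connectedSpace_of_finrank_one k h0,
    fun x => Groth.Agent.R2.H85.CurveCM.isCohenMacaulay_stalk k hdim h0 x,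
    fun Z hZ => Groth.Agent.R2.H85.CurveCM.dim_irreducibleComponent_eq_one k hdim h0 Z hZ⟩

end Groth.Agent.S1534
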