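import Groth.Statements.S1536
-- import your own Groth.Agent.* helpers here
import Mathlib
import Groth.Agent.S0002
import Groth.Agent.R2.H5CohThick
import Groth.Agent.R2.H89GammaField
import Groth.Agent.R2.H89GammaBC

set_option autoImplicit false
universe u
open CategoryTheory CategoryTheory.Limits AlgebraicGeometry
open Variety

namespace Groth.Agent.S1536

/-- For a proper scheme X over a field k which is geometrically reduced and geometrically connected,
H^0(X, O_X) is one-dimensional over k, i.e. the global functions are the constants. -/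
theorem result (k : Type u) [Field k] (X : Scheme.{u}) [X.Over (Spec (CommRingCat.of k))] [IsProper (X ↘ (Spec (CommRingCat.of k)))]
    [GeometricallyReduced (X ↘ (Spec (CommRingCat.of k)))] [GeometricallyConnected (X ↘ (Spec (CommRingCat.of k)))] :
    Module.finrank k (Coh.HH X (Coh.structureModule X) 0) = 1 := by
  classical
  open Groth.Agent.R2.H89.GammaField Groth.Agent.R2.H89.GammaBC in
  letI algX : Algebra k Γ(X, ⊤) := (toΓ (X ↘ Spec (CommRingCat.of k))).toAlgebra
  haveI : CompactSpace X :=
    QuasiCompact.compactSpace_of_compactSpace (X ↘ Spec (CommRingCat.of k))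
  haveI : QuasiSeparatedSpace X :=
    quasiSeparatedSpace_of_quasiSeparated (X ↘ Spec (CommRingCat.of k))
  refine (Groth.Agent.R2.H89.GammaField.finrank_HH_zero k X).trans ?_
  change Module.finrank k Γ(X, ⊤) = 1
  -- base change to the algebraic closure
  let K := AlgebraicClosure k
  letI ovY : (Curv2.bc k X K).Over (Spec (CommRingCat.of K)) := ⟨Curv2.bcSnd k X K⟩
  haveI : IsProper ((Curv2.bc k X K) ↘ Spec (CommRingCat.of K)) :=
    (inferInstance : IsProper (pullback.snd (X ↘ Spec (CommRingCat.of k))
      (Spec.map (CommRingCat.ofHom (algebraMap k K)))))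
  haveI : IsReduced (Curv2.bc k X K) :=
    GeometricallyReduced.geometrically_isReduced (f := X ↘ Spec (CommRingCat.of k)) _ _ _
      (IsPullback.of_hasPullback _ _)
  haveI : ConnectedSpace (Curv2.bc k X K) :=
    GeometricallyConnected.geometrically_connectedSpace (f := X ↘ Spec (CommRingCat.of k)) _ _ _
      (IsPullback.of_hasPullback _ _)
  letI algY : Algebra K Γ(Curv2.bc k X K, ⊤) :=
    (Groth.Agent.R2.H89.GammaBC.toΓ (Curv2.bcSnd k X K)).toAlgebra
  have hbc : Module.finrank K Γ(Curv2.bc k X K, ⊤) = Module.finrank k Γ(X, ⊤) :=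
    Groth.Agent.R2.H89.GammaBC.finrank_Γ_bc k X K
  rw [← hbc]
  have hfin : Module.Finite K Γ(Curv2.bc k X K, ⊤) :=
    Groth.Agent.R2.H89.GammaField.finite_Γ K (Curv2.bc k X K)
      (Groth.Agent.S0002.result K (Curv2.bc k X K) _
        (Groth.Agent.R2.H5.CohThick.isCoh_structureModule (Curv2.bc k X K)) 0)
  have hK : IsField Γ(Curv2.bc k X K, ⊤) :=
    Groth.Agent.R2.H89.GammaField.isField_Γ K (Curv2.bc k X K) hfin
  haveI : IsDomain Γ(Curv2.bc k X K, ⊤) := hK.isDomain
  haveI : Algebra.IsIntegral K Γ(Curv2.bc k X K, ⊤) := Algebra.IsIntegral.of_finite K _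
  have hbij : Function.Bijective (algebraMap K Γ(Curv2.bc k X K, ⊤)) :=
    IsAlgClosed.algebraMap_bijective_of_isIntegral
  have e : K ≃ₗ[K] Γ(Curv2.bc k X K, ⊤) :=
    LinearEquiv.ofBijective (Algebra.linearMap K Γ(Curv2.bc k X K, ⊤)) hbij
  rw [← e.finrank_eq, Module.finrank_self]

end Groth.Agent.S1536
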