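import Groth.Statements.S15366
import Mathlib

set_option autoImplicit false
universe u
open CAlg

namespace Groth.Agent.S15366

/-- Let k be an algebraically closed field of characteristic p > 0, R = k[[t₁, t₂]], and O = R_{(t₁)}
the local ring of Spec R at the generic point x of the divisor t₁ = 0 (a discrete valuation ring,
with uniformizer t₁ and residue field k((t₂))). Then O embeds, by an injective local k-algebra map
φ, into some complete discrete valuation ring A containing k whose residue field is algebraically
closed and in which φ(t₁) is still a uniformizer. The prime ideal (t₁) is passed as an ideal P equal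
to it together with its primality. -/
theorem result
    (p : ℕ) [Fact p.Prime] (k : Type u) [Field k] [IsAlgClosed k] [CharP k p]
    (P : Ideal (MvPowerSeries (Fin 2) k))
    (hP : P = Ideal.span {(MvPowerSeries.X 0 : MvPowerSeries (Fin 2) k)}) [P.IsPrime] :
    ∃ (A : Type u) (_ : CommRing A) (_ : IsDomain A) (_ : IsDiscreteValuationRing A) (_ : Algebra k A)
      (φ : Localization.AtPrime P →ₐ[k] A),
      IsAdicComplete (IsLocalRing.maximalIdeal A) A ∧ IsAlgClosed (IsLocalRing.ResidueField A) ∧
        Function.Injective φ ∧ IsLocalHom φ.toRingHom ∧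
          Irreducible (φ (algebraMap (MvPowerSeries (Fin 2) k) (Localization.AtPrime P)
            (MvPowerSeries.X 0))) := by
  classical
  -- the target ring
  let R1 := MvPowerSeries (Fin 1) k
  let K := AlgebraicClosure (FractionRing R1)
  let ι : R1 →+* K := algebraMap R1 K
  have hι : Function.Injective ι := by
    have h1 : Function.Injective (algebraMap R1 (FractionRing R1)) := IsFractionRing.injective _ _
    have h2 : Function.Injective (algebraMap (FractionRing R1) K) :=
      (algebraMap (FractionRing R1) K).injective
    have : ι = (algebraMap (FractionRing R1) K).comp (algebraMap R1 (FractionRing R1)) :=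
      IsScalarTower.algebraMap_eq R1 (FractionRing R1) K
    rw [this]
    exact h2.comp h1
  let e := MvPowerSeries.finSuccEquiv k 1
  let ψ : MvPowerSeries (Fin 2) k →+* PowerSeries K :=
    (PowerSeries.map ι).comp (e : MvPowerSeries (Fin 2) k →+* PowerSeries R1)
  have hψ_inj : Function.Injective ψ :=
    (PowerSeries.map_injective ι hι).comp e.injective
  have hψX : ψ (MvPowerSeries.X 0) = PowerSeries.X := by
    show PowerSeries.map ι (e (MvPowerSeries.X 0)) = _
    rw [MvPowerSeries.finSuccEquiv_X_zero, PowerSeries.map_X]
  -- units
  have hunit : ∀ f : MvPowerSeries (Fin 2) k, IsUnit (ψ f) ↔ f ∉ P := by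
    intro f
    rw [PowerSeries.isUnit_iff_constantCoeff, hP, Ideal.mem_span_singleton]
    have h1 : PowerSeries.constantCoeff (ψ f) = ι (PowerSeries.constantCoeff (e f)) := by
      show PowerSeries.constantCoeff (PowerSeries.map ι (e f)) = _
      rw [← PowerSeries.coeff_zero_eq_constantCoeff_apply, PowerSeries.coeff_map,
        PowerSeries.coeff_zero_eq_constantCoeff_apply]
    rw [h1, isUnit_iff_ne_zero, Ne, map_eq_zero_iff ι hι, ← PowerSeries.X_dvd_iff,
      ← MvPowerSeries.finSuccEquiv_X_zero (R := k) (n := 1)]
    exact not_congr (map_dvd_iff e)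
  have hg : ∀ y : P.primeCompl, IsUnit (ψ y) := fun y => (hunit y).mpr y.2
  let φ₀ : Localization.AtPrime P →+* PowerSeries K := IsLocalization.lift hg
  have hφ₀ : ∀ f, φ₀ (algebraMap _ _ f) = ψ f := fun f => IsLocalization.lift_eq hg f
  let _ : Algebra k (PowerSeries K) := (φ₀.comp (algebraMap k (Localization.AtPrime P))).toAlgebra
  let φ : Localization.AtPrime P →ₐ[k] PowerSeries K := { φ₀ with commutes' := fun r => rfl }
  refine ⟨PowerSeries K, inferInstance, inferInstance, inferInstance, inferInstance, φ, ?_, ?_, ?_, ?_, ?_⟩
  · rw [PowerSeries.maximalIdeal_eq_span_X]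
    infer_instance
  · exact IsAlgClosed.of_ringEquiv _ _ (PowerSeries.residueFieldOfPowerSeries (k := K)).symm
  · show Function.Injective φ₀
    rw [IsLocalization.lift_injective_iff]
    intro x y
    have hinj : Function.Injective (algebraMap (MvPowerSeries (Fin 2) k) (Localization.AtPrime P)) :=
      IsLocalization.injective _ (Ideal.primeCompl_le_nonZeroDivisors P)
    rw [hinj.eq_iff, hψ_inj.eq_iff]
  · constructor
    intro a ha
    change IsUnit (φ₀ a) at ha
    obtain ⟨⟨f, s⟩, rfl⟩ := IsLocalization.mk'_surjective P.primeCompl a
    rw [IsLocalization.AtPrime.isUnit_mk'_iff (Localization.AtPrime P) P]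
    have h2 : IsUnit (ψ f) := by
      have h3 := congrArg φ₀ (IsLocalization.mk'_spec (Localization.AtPrime P) f s)
      rw [map_mul, hφ₀, hφ₀] at h3
      rw [← h3]
      exact ha.mul (hg s)
    exact (hunit f).mp h2
  · show Irreducible (φ₀ (algebraMap _ _ (MvPowerSeries.X 0)))
    rw [hφ₀, hψX]
    exact PowerSeries.X_irreducible

end Groth.Agent.S15366
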