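import Groth.Statements.S15424
import Groth.Agent.R2.H72GrRegFinal

set_option autoImplicit false
universe u
open GrSyz

namespace Groth.Agent.S15424

/-- Let k be a field, S = k[x_0, …, x_r] graded by degree, 𝔪 = (x_0, …, x_r) and M a finitely generated
ℤ-graded S-module; graded local cohomology is computed from any *injective resolution of M in the
graded category. Then the Castelnuovo–Mumford regularity of M in the sense of minimal graded free
resolutions (an extended integer, −∞ for the zero module) equals the supremum over i ≥ 0 of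
end(H^i_𝔪(M)) + i, where end is the largest degree of a nonzero piece. -/
theorem result (k : Type u) [Field k] (r : ℕ)
    (M : Type u) [AddCommGroup M] [Module k M] [Module (MvPolynomial (Fin (r + 1)) k) M]
    [IsScalarTower k (MvPolynomial (Fin (r + 1)) k) M] [Module.Finite (MvPolynomial (Fin (r + 1)) k) M]
    (ℳ : ℤ → Submodule k M) [DirectSum.Decomposition ℳ] [SetLike.GradedSMul (GrSyz.stdGr k (Fin (r + 1))) ℳ]
    (E : GrLC.StarInjRes (GrSyz.stdGr k (Fin (r + 1))) ℳ) :
    GrSyz.reg (GrSyz.stdGr k (Fin (r + 1))) ℳ (GrSyz.irrel (GrSyz.stdGr k (Fin (r + 1)))).toIdeal = ⨆ i : ℕ, (GrLC.endDeg (E.Hgr (GrSyz.irrel (GrSyz.stdGr k (Fin (r + 1)))) i) + (((i : ℤ) : WithTop ℤ) : WithBot (WithTop ℤ))) := by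
  apply Groth.Agent.R2.H72.GrRegFinal.eq_of_forall_le_coe_iff
  intro ρ
  rw [Groth.Agent.R2.H72.GrRegFinal.reg_le_coe_iff, iSup_le_iff]
  obtain ⟨F, hF⟩ := Groth.Agent.Helper13MinRes.exists_freeRes_isMinimal (k := k)
    (σ := Fin (r + 1)) ℳ
  rw [← Groth.Agent.R2.H72.GrSyzLC.isGenLE_iff_reg F hF ρ,
    Groth.Agent.R2.H72.GrSyzLC.isGenLE_iff_van F hF ρ]
  constructor
  · intro h i
    rw [Groth.Agent.R2.H72.GrSyzLC.add_coe_le_iff, Groth.Agent.R2.H72.GrRegPoly.endDeg_le_iff]
    intro j hj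
    rw [Groth.Agent.R2.H72.GrRegPoly.Hgr_eq_bot_iff]
    exact (Groth.Agent.R2.H72.GrLCFinLen.van_Mg_iff ℳ E i j).1 (h i j hj)
  · intro h q e he
    have h1 := h q
    rw [Groth.Agent.R2.H72.GrSyzLC.add_coe_le_iff, Groth.Agent.R2.H72.GrRegPoly.endDeg_le_iff] at h1
    have h2 := h1 e he
    rw [Groth.Agent.R2.H72.GrRegPoly.Hgr_eq_bot_iff] at h2
    exact (Groth.Agent.R2.H72.GrLCFinLen.van_Mg_iff ℳ E q e).2 h2

end Groth.Agent.S15424
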