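import Groth.Statements.S1549
import Groth.Agent.R2.H34GeomRedSmooth

set_option autoImplicit false
universe u
open CategoryTheory CategoryTheory.Limits AlgebraicGeometry
open Variety

namespace Groth.Agent.S1549

/-- For a reduced scheme locally of finite type over k, being geometrically reduced is equivalent to
having a dense open subscheme that is smooth over k. -/
theorem result (k : Type u) [Field k] (X : Scheme.{u}) [X.Over (Spec (CommRingCat.of k))] [IsReduced X] [LocallyOfFiniteType (X ↘ (Spec (CommRingCat.of k)))] :
    GeometricallyReduced (X ↘ (Spec (CommRingCat.of k))) ↔ ∃ U : X.Opens, Dense (U : Set X) ∧ Smooth (U.ι ≫ (X ↘ (Spec (CommRingCat.of k)))) := by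
  haveI : IsLocallyNoetherian X :=
    LocallyOfFiniteType.isLocallyNoetherian (X ↘ (Spec (CommRingCat.of k)))
  constructor
  · intro h
    exact Groth.Agent.R2.H34.GeomRedSmooth.exists_dense_smooth_of_geometricallyReduced k
      (X ↘ (Spec (CommRingCat.of k)))
  · rintro ⟨U, hU, hsm⟩
    refine Groth.Agent.R2.H34.PInsepGeomRed.geometricallyReduced_of_dense_smooth k
      (X ↘ (Spec (CommRingCat.of k))) U.ι ?_
    rw [Scheme.Opens.range_ι]
    exact hU

end Groth.Agent.S1549
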