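import Groth.Statements.S15522
import Groth.Agent.S0002
import Groth.Agent.S2381
import Groth.Agent.S2406
import Groth.Agent.R2.H16CbcFIFib
import Groth.Agent.R2.H16CbcConsumers

set_option autoImplicit false
universe u
attribute [local instance] HasDerivedCategory.standard
open Coherent

namespace Groth.Agent.S15522

open AlgebraicGeometry CategoryTheory in
/-- Let A be a reduced Noetherian ring, X a proper scheme over Spec A with structure morphism f, F a
coherent O_X-module flat over Spec A, and p a natural number such that the function y ↦ dim_{κ(y)}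
H^p(X_y, F_y) is locally constant on Spec A. For each q write T^q for the functor M ↦ H^q(X, f^*(M~)
⊗ F) from A-modules to abelian groups. Then T^p takes surjections to surjections, and so does
T^(p-1) when p ≥ 1; equivalently, every base-change map H^q(X, F) ⊗_A M → H^q(X, F ⊗_A M) is
bijective for q = p and q = p - 1. (The published statement also asserts that R^p f_*F is locally
free of finite rank; this row states the two exchange properties only, over an affine base.) -/
theorem result (A : Type u) [CommRing A]
    [IsNoetherianRing A] [IsReduced A] (X : Scheme.{u}) [X.Over (Spec (CommRingCat.of A))]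
    [IsProper (X ↘ Spec (CommRingCat.of A))] (F : X.Modules) (hF : Coh.IsCoh F)
    (hfl : FlatMod.IsFlatOver (X ↘ Spec (CommRingCat.of A)) F) (p : ℕ)
    (hconst : IsLocallyConstant (CohIII.fiberRank (X ↘ Spec (CommRingCat.of A)) F p)) :
    (CohIII.tensorAFunctor A F ⋙ CohIII.HAb X p).PreservesEpimorphisms ∧
      ∀ q : ℕ, q + 1 = p → (CohIII.tensorAFunctor A F ⋙ CohIII.HAb X q).PreservesEpimorphisms := by
  haveI : CompactSpace X :=
    (quasiCompact_iff_compactSpace (X ↘ Spec (CommRingCat.of A))).1 inferInstance
  obtain ⟨L, hL, -, hiso, hrank⟩ :=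
    Groth.Agent.R2.H16.CbcFIFib.exists_bridge_fiberRank (A := A) (X := X) (F := F) hF.1 hfl
      (fun n => Groth.Agent.S0002.result A X F hF n)
  have hP : ∀ n, Module.Finite A (L.X n) ∧ Module.Flat A (L.X n) := fun n => by
    haveI := (hL n).2
    exact ⟨(hL n).1, inferInstance⟩
  have hconst' : IsLocallyConstant (CohIII.dRank L (-(p : ℤ))) := by
    have : CohIII.fiberRank (X ↘ Spec (CommRingCat.of A)) F p =
        fun y => CohIII.dRank L (-(p : ℤ)) y := funext fun y => hrank p y
    rw [this] at hconst
    exact hconst
  obtain ⟨hmono, hepi⟩ :=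
    (Groth.Agent.S2381.result L hP (-(p : ℤ))).2 inferInstance hconst'
  refine ⟨?_, ?_⟩
  · obtain ⟨e⟩ := hiso p
    exact (Groth.Agent.R2.H16.CbcConsumers.preservesEpi_iff _ L (-(p : ℤ)) e).2 hepi
  · intro q hq
    obtain ⟨e⟩ := hiso q
    refine (Groth.Agent.R2.H16.CbcConsumers.preservesEpi_iff _ L (-(q : ℤ)) e).2 ?_
    refine (Groth.Agent.S2406.result L (fun i => (hP i).2) (-(q : ℤ)) (-(p : ℤ)) ?_).2 hmono
    subst hq
    push_cast
    ring

end Groth.Agent.S15522
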