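import Groth.Statements.S15544
import Groth.Agent.S0058
import Groth.Agent.R2.H5CohThick
import Groth.Agent.R2.H64SteinCore
import Groth.Agent.R2.H34SteinAsm
import Groth.Agent.R2.H34BirNormal
import Groth.Agent.R2.H40SteinFact

set_option autoImplicit false
open CategoryTheory AlgebraicGeometry
universe u
open Coherent

namespace Groth.Agent.S15544

open Groth.Agent.R2.H34.SteinAsm Groth.Agent.R2.H34.SteinSupp in
/-- Package ST-0 of PROJ:stein (helper64's `isPreconnected_of_isLocalRing` fed with `S0058`, and the
support computations of `R2/H34SteinSupp`). -/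
private theorem st0 : ST0.{u} := by
  intro A _ _ I X _ _ _
  have hO := Groth.Agent.R2.H5.CohThick.isCoh_structureModule X
  have h1 := support_modPow_one_structureModule (X := X) A I
  refine Groth.Agent.R2.H64.SteinCore.isPreconnected_of_isLocalRing I ?_
    (Groth.Agent.S0058.result A I X (Coh.structureModule X) hO 0) ?_
  · intro n
    rw [h1]
    exact fun x hx => (support_modPow_subset A I (n + 1) (Coh.structureModule X) hx).2
  · rw [h1]
    exact (PrimeSpectrum.isClosed_zeroLocus _).preimage
      (X ↘ Spec (CommRingCat.of A)).continuous

/-- Let X and Y be integral schemes, Y locally Noetherian with all local rings integrally closed, and f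
: X ⟶ Y a proper birational morphism (the generic point of X maps to that of Y and the stalk map
there is an isomorphism). Then every fibre of f is connected and nonempty. (The published statement
takes X and Y Noetherian; over a locally Noetherian Y this is the same assertion fibre by fibre.) -/
theorem result {X Y : Scheme.{u}} [IsIntegral X]
    [IsIntegral Y] [IsLocallyNoetherian Y] (hY : Pi1.IsNormalScheme Y) (f : X ⟶ Y) [IsProper f]
    (hgen : f.base (genericPoint X) = genericPoint Y) (hbir : IsIso (f.stalkMap (genericPoint X)))
    (y : Y) : ConnectedSpace ↥(f.fiber y) := by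
  obtain ⟨_, ⟨V, hV, rfl⟩, hyV, -⟩ :=
    Y.isBasis_affineOpens.exists_subset_of_mem_open (Set.mem_univ y) isOpen_univ
  haveI : Nonempty V := ⟨⟨y, hyV⟩⟩
  have hf : IsIso (f.app V) :=
    Groth.Agent.R2.H34.BirNormal.isIso_app_of_finite_of_birational hY f hgen hbir V hV
      (Groth.Agent.R2.H40.SteinFact.finite_app_of_isProper f V hV)
  exact Groth.Agent.R2.H34.SteinAsm.connectedSpace_fiber_of_isIso_app st0 f y V hV hyV hf

end Groth.Agent.S15544
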