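import Groth.Statements.S15555
import Groth.Agent.R2.H71HermSec

set_option autoImplicit false
universe u
open CategoryTheory AlgebraicGeometry
open Zeta

namespace Groth.Agent.S15555

/-- Let k be a finite field with q elements and n ≥ 1 a natural number; in the 2n + 2 variables X_0, …,
X_n, Y_0, …, Y_n (indexed by Fin (n+1) ⊕ Fin (n+1), the left summand carrying the X_i) let F = Σ_i
(X_i Y_i^q − Y_i X_i^q), a form of degree q + 1 defining the hypersurface Hyp ⊂ P^{2n+1}_k. Then no
hyperplane of P^{2n+1}_k defined over k meets Hyp transversally: for every linear form L = Σ_v c_v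
x_v with a nonzero coefficient vector c over k, the scheme-theoretic intersection Hyp ∩ (L = 0) ⊂
P^{2n+1}_k is not smooth over k. The intersection is presented through the standard open pieces of
its affine cone: with R = k[X, Y]/(F, L), the piece x_w ≠ 0 of the cone Spec R is (Hyp ∩ (L = 0) ∩
D₊(x_w)) × 𝔾_m, so Hyp ∩ (L = 0) is smooth over k exactly when every localisation R[1/x_w] is a
smooth k-algebra, and the row states that not all of them are. (The published example is stated for
every n ≥ 0; for n = 0 the hypersurface is the set of the q + 1 rational points of P^1_k, it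
contains every rational point H, and Hyp ∩ H = H is a reduced point, smooth over k; so this row
takes n ≥ 1, where no rational hyperplane is contained in Hyp and each one is tangent to Hyp at a
rational point, at which the intersection is singular.) -/
theorem result (k : Type u) [Field k] [Fintype k] (n : ℕ) (hn : 1 ≤ n)
    (F L : MvPolynomial (Fin (n + 1) ⊕ Fin (n + 1)) k)
    (hF : F = ∑ i : Fin (n + 1), (MvPolynomial.X (Sum.inl i) * MvPolynomial.X (Sum.inr i) ^ Fintype.card k -
      MvPolynomial.X (Sum.inr i) * MvPolynomial.X (Sum.inl i) ^ Fintype.card k))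
    (c : Fin (n + 1) ⊕ Fin (n + 1) → k) (hc : c ≠ 0)
    (hL : L = ∑ v, MvPolynomial.C (c v) * MvPolynomial.X v) :
    ¬ ∀ w : Fin (n + 1) ⊕ Fin (n + 1),
      Smooth (Spec.map (CommRingCat.ofHom (algebraMap k
        (Localization.Away (Ideal.Quotient.mk (Ideal.span {F, L}) (MvPolynomial.X w)))))) := by
  classical
  intro hall
  subst hF hL
  -- a nonzero coefficient
  obtain ⟨u₀, hu₀⟩ : ∃ u₀, c u₀ ≠ 0 := by
    by_contra hcon
    push Not at hcon
    exact hc (funext hcon)
  -- an index in another pair
  have : Nontrivial (Fin (n + 1)) := Fin.nontrivial_iff_two_le.mpr (by omega)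
  obtain ⟨j, hj⟩ := exists_ne (Sum.elim id id u₀ : Fin (n + 1))
  have h1 : u₀ ≠ Sum.inl j := by
    rintro rfl
    exact hj rfl
  have h2 : u₀ ≠ Sum.inr j := by
    rintro rfl
    exact hj rfl
  -- a nonzero coordinate of the tangency point
  obtain ⟨w, hw⟩ : ∃ w, Groth.Agent.R2.H71HermSec.pt c w ≠ 0 := by
    rcases u₀ with i | i
    · exact ⟨Sum.inr i, by simpa [Groth.Agent.R2.H71HermSec.pt] using hu₀⟩
    · exact ⟨Sum.inl i, by simpa [Groth.Agent.R2.H71HermSec.pt] using hu₀⟩
  -- smoothness gives formal smoothness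
  have hsm := hall w
  rw [HasRingHomProperty.Spec_iff (P := @Smooth)] at hsm
  have hsm2 : (algebraMap k (Localization.Away (Ideal.Quotient.mk
      (Ideal.span {Groth.Agent.R2.H71HermSec.formF k (Fin (n + 1)),
        Groth.Agent.R2.H71HermSec.formL c}) (MvPolynomial.X w)))).Smooth := hsm
  rw [RingHom.smooth_algebraMap] at hsm2
  have := hsm2.formallySmooth
  -- apply the core
  refine Groth.Agent.R2.H71HermSec.not_formallySmooth_of_universal c u₀ hu₀ j h1 h2
    (S := Localization.Away (Ideal.Quotient.mk
      (Ideal.span {Groth.Agent.R2.H71HermSec.formF k (Fin (n + 1)),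
        Groth.Agent.R2.H71HermSec.formL c}) (MvPolynomial.X w)))
    (fun u => algebraMap _ _ (Ideal.Quotient.mk
      (Ideal.span {Groth.Agent.R2.H71HermSec.formF k (Fin (n + 1)),
        Groth.Agent.R2.H71HermSec.formL c}) (MvPolynomial.X u))) ?_ ?_ w hw ?_
  · -- F vanishes
    have := MvPolynomial.comp_aeval_apply (R := k) (f := MvPolynomial.X)
      ((IsScalarTower.toAlgHom k _ (Localization.Away (Ideal.Quotient.mk
      (Ideal.span {Groth.Agent.R2.H71HermSec.formF k (Fin (n + 1)),
        Groth.Agent.R2.H71HermSec.formL c}) (MvPolynomial.X w)))).comp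
        (Ideal.Quotient.mkₐ k (Ideal.span {Groth.Agent.R2.H71HermSec.formF k (Fin (n + 1)),
        Groth.Agent.R2.H71HermSec.formL c}))) (Groth.Agent.R2.H71HermSec.formF k (Fin (n + 1)))
    rw [MvPolynomial.aeval_X_left, AlgHom.id_apply] at this
    refine Eq.trans this.symm ?_
    have hmem : (Ideal.Quotient.mk (Ideal.span {Groth.Agent.R2.H71HermSec.formF k (Fin (n + 1)),
        Groth.Agent.R2.H71HermSec.formL c})) (Groth.Agent.R2.H71HermSec.formF k (Fin (n + 1))) = 0 :=
      Ideal.Quotient.eq_zero_iff_mem.mpr (Ideal.subset_span (Set.mem_insert _ _))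
    rw [AlgHom.comp_apply, Ideal.Quotient.mkₐ_eq_mk, hmem, map_zero]
  · have := MvPolynomial.comp_aeval_apply (R := k) (f := MvPolynomial.X)
      ((IsScalarTower.toAlgHom k _ (Localization.Away (Ideal.Quotient.mk
      (Ideal.span {Groth.Agent.R2.H71HermSec.formF k (Fin (n + 1)),
        Groth.Agent.R2.H71HermSec.formL c}) (MvPolynomial.X w)))).comp
        (Ideal.Quotient.mkₐ k (Ideal.span {Groth.Agent.R2.H71HermSec.formF k (Fin (n + 1)),
        Groth.Agent.R2.H71HermSec.formL c}))) (Groth.Agent.R2.H71HermSec.formL c)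
    rw [MvPolynomial.aeval_X_left, AlgHom.id_apply] at this
    refine Eq.trans this.symm ?_
    have hmem : (Ideal.Quotient.mk (Ideal.span {Groth.Agent.R2.H71HermSec.formF k (Fin (n + 1)),
        Groth.Agent.R2.H71HermSec.formL c})) (Groth.Agent.R2.H71HermSec.formL c) = 0 :=
      Ideal.Quotient.eq_zero_iff_mem.mpr (Ideal.subset_span
        (Set.mem_insert_of_mem _ (Set.mem_singleton _)))
    rw [AlgHom.comp_apply, Ideal.Quotient.mkₐ_eq_mk, hmem, map_zero]
  · -- universal property
    intro B' _ _ γ hγF hγL hγw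
    have hle : ∀ a ∈ Ideal.span {Groth.Agent.R2.H71HermSec.formF k (Fin (n + 1)),
        Groth.Agent.R2.H71HermSec.formL c}, MvPolynomial.aeval γ a = 0 := by
      intro a ha
      have hle' : Ideal.span {Groth.Agent.R2.H71HermSec.formF k (Fin (n + 1)),
          Groth.Agent.R2.H71HermSec.formL c} ≤ RingHom.ker (MvPolynomial.aeval (R := k) γ) := by
        rw [Ideal.span_le]
        rintro x (rfl | rfl)
        · exact hγF
        · exact hγL
      exact hle' ha
    let φ₂ := Ideal.Quotient.liftₐ (Ideal.span {Groth.Agent.R2.H71HermSec.formF k (Fin (n + 1)),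
        Groth.Agent.R2.H71HermSec.formL c}) (MvPolynomial.aeval (R := k) γ) hle
    have hφ₂ : ∀ u, φ₂ (Ideal.Quotient.mk _ (MvPolynomial.X u)) = γ u := by
      intro u
      show MvPolynomial.aeval γ (MvPolynomial.X u) = γ u
      exact MvPolynomial.aeval_X γ u
    have hunit : IsUnit (φ₂ (Ideal.Quotient.mk _ (MvPolynomial.X w))) := by
      rw [hφ₂]; exact hγw
    refine ⟨IsLocalization.Away.liftAlgHom (Ideal.Quotient.mk _ (MvPolynomial.X w)) hunit, ?_⟩
    intro u
    rw [IsLocalization.Away.liftAlgHom_apply, IsLocalization.Away.lift_eq]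
    exact hφ₂ u

end Groth.Agent.S15555
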