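import Groth.Statements.S15556
-- import your own Groth.Agent.* helpers here
import Groth.Agent.R2.H9InsepChowB

set_option autoImplicit false
universe u
open CategoryTheory AlgebraicGeometry
open CategoryTheory.Limits
open Cyc

namespace Groth.Agent.S15556

set_option linter.style.haveILetI false

/-- Let k be a field of characteristic p > 0, E a finite purely inseparable field extension of k, X a
separated scheme of finite type over k, X' = X ×_k E with projection f : X' → X (any pullback
square), δ a dimension function on X making (X, δ) a cycle setup (X locally Noetherian with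
universally catenary local rings) and δ' the induced dimension function on X' (so (X', δ') is a
cycle setup and δ' is compatible with δ along f, which has relative dimension 0). Then flat pullback
of cycles along f induces a bijection of Chow groups of i-cycles after inverting p, in the following
two-sided sense: for every i-cycle β on X' there are an i-cycle α on X, an i-cycle α' on X' with the
flat-pullback coefficients of α, and an exponent s with [α'] = p^s · [β] in CH_i(X'); and for every
i-cycle α on X and every i-cycle α' on X' with the flat-pullback coefficients of α, if [α'] = 0 in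
CH_i(X') then p^s · [α] = 0 in CH_i(X) for some s. (The published statement allows an arbitrary
purely inseparable extension E of k; this row takes E finite over k, the case the printed argument
carries out.) -/
theorem result (k E : Type u) [Field k] [Field E] [Algebra k E] (p : ℕ) [Fact p.Prime] [CharP k p] [Module.Finite k E] [IsPurelyInseparable k E] (X X' : Scheme.{u}) (g : X ⟶ Spec (CommRingCat.of k)) [IsSeparated g] [LocallyOfFiniteType g] [QuasiCompact g] (f : X' ⟶ X) (g' : X' ⟶ Spec (CommRingCat.of E)) (hsq : IsPullback f g' g (Spec.map (CommRingCat.ofHom (algebraMap k E)))) (δ : X → ℤ) (δ' : X' → ℤ) (hX : Cyc.IsSetup X δ) (hX' : Cyc.IsSetup X' δ') (hδ : Cyc.DeltaCompat f δ' δ) (i : ℤ) : (∀ (β : AlgebraicCycle X' ℤ) (hβ : β ∈ Cyc.Zk X' δ' i), ∃ (α : AlgebraicCycle X ℤ) (hα : α ∈ Cyc.Zk X δ i) (α' : AlgebraicCycle X' ℤ) (hα' : α' ∈ Cyc.Zk X' δ' i) (s : ℕ), ⇑α' = Cyc.pullFun f δ' δ 0 ⇑α ∧ ChowOps.cl α' hα' = p ^ s • ChowOps.cl β hβ) ∧ (∀ (α : AlgebraicCycle X ℤ) (hα : α ∈ Cyc.Zk X δ i) (α' : AlgebraicCycle X'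 ℤ) (hα' : α' ∈ Cyc.Zk X' δ' i), ⇑α' = Cyc.pullFun f δ' δ 0 ⇑α → ChowOps.cl α' hα' = 0 → ∃ s : ℕ, p ^ s • ChowOps.cl α hα = 0) := by
  haveI : ExpChar k p := ExpChar.prime Fact.out
  haveI : IsIntegralHom f := Groth.Agent.R2.H9.InsepChow.isIntegralHom_fst hsq
  haveI : CompactSpace ↥X := QuasiCompact.compactSpace_of_compactSpace g
  haveI : CompactSpace ↥X' := QuasiCompact.compactSpace_of_compactSpace f
  have hδ0 := Groth.Agent.R2.H9.InsepChow.delta_eq' hsq δ δ' hδ
  refine ⟨fun β hβ => ?_, fun α hα α' hα' hpull hcl => ?_⟩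
  · have hfin : (Function.support (⇑β : X' → ℤ)).Finite := by
      have h1 := (Function.locallyFinsupp.locallyFiniteSupport β).finite_inter_support_of_isCompact
        isCompact_univ
      rw [Set.univ_inter] at h1
      exact h1
    obtain ⟨N, α, hα, hN⟩ := Groth.Agent.R2.H9.PerfBC.exists_smul_eq_pullFun f p δ' δ
      (Groth.Agent.R2.H9.InsepChow.injective_fst' hsq) hδ0
      (Groth.Agent.R2.H9.InsepChow.exists_length_quot_eq_pow' hsq p) i β hβ hfin
    have hmem : (p ^ N) • β ∈ Cyc.Zk X' δ' i := by
      intro x hx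
      rw [Function.locallyFinsuppWithin.coe_nsmul, Pi.smul_apply, hβ x hx, smul_zero]
    refine ⟨α, hα, (p ^ N) • β, hmem, N, ?_, ?_⟩
    · rw [← hN, Function.locallyFinsuppWithin.coe_nsmul]
      funext x
      simp only [Pi.smul_apply, nsmul_eq_mul, smul_eq_mul]
      push_cast
      rfl
    · unfold ChowOps.cl
      rw [← map_nsmul]
      rfl
  · unfold ChowOps.cl at hcl ⊢
    have hmemT : (⟨α', hα'⟩ : ↥(ChowOps.zk X' δ' i)) ∈ ChowOps.ratTriv X' δ' i :=
      (QuotientAddGroup.eq_zero_iff _).mp hcl
    obtain ⟨N₀, hN₀⟩ := Groth.Agent.R2.H9.InsepChow.exists_pullFun_of_mem_ratTriv hsq p δ δ' hX hX'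
      hδ i _ hmemT
    obtain ⟨c, hc, hcx⟩ := hN₀ N₀ le_rfl
    refine ⟨N₀, ?_⟩
    rw [← map_nsmul]
    apply (QuotientAddGroup.eq_zero_iff _).mpr
    have heq : (p ^ N₀) • (⟨α, hα⟩ : ↥(ChowOps.zk X δ i)) = c := by
      apply Subtype.ext
      apply DFunLike.coe_injective
      apply Groth.Agent.R2.H9.InsepChow.pullFun_injective hsq p δ δ' hδ
      funext x'
      rw [← hcx x']
      change Cyc.pullFun f δ' δ 0 ⇑((p ^ N₀) • α) x' = _
      rw [Groth.Agent.R2.H9.InsepChow.pullFun_eq hsq δ δ' hδ, hpull,
        Groth.Agent.R2.H9.InsepChow.pullFun_eq hsq δ δ' hδ,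
        Function.locallyFinsuppWithin.coe_nsmul]
      simp only [Pi.smul_apply, nsmul_eq_mul]
      push_cast
      ring
    rw [heq]
    exact hc

end Groth.Agent.S15556
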