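import Groth.Statements.S15595
import Groth.Agent.R2.H77RegFlat

set_option autoImplicit false
universe u
open TensorProduct
attribute [local instance] RingHom.ker_isPrime
open CAlg

namespace Groth.Agent.S15595

open IsLocalRing

theorem flat_includeRight (k K A : Type u) [Field k] [Field K]
    [Algebra k K] [CommRing A] [Algebra k A] :
    (Algebra.TensorProduct.includeRight : A →ₐ[k] K ⊗[k] A).toRingHom.Flat := by
  have h1 : (algebraMap A (A ⊗[k] K)).Flat := RingHom.flat_algebraMap_iff.mpr inferInstance
  have h2 : ((Algebra.TensorProduct.comm k A K : A ⊗[k] K ≃ₐ[k] K ⊗[k] A) :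
      A ⊗[k] K →+* K ⊗[k] A).Flat :=
    RingHom.Flat.of_bijective (Algebra.TensorProduct.comm k A K).bijective
  have h3 := RingHom.Flat.comp h1 h2
  convert h3 using 1
  ext a
  simp

theorem aux (k K A : Type u) [Field k] [Field K]
    [Algebra k K] [CommRing A] [Algebra k A] [IsLocalRing A] [IsNoetherianRing A]
    (π : A →ₐ[k] k) (hπ : RingHom.ker π = IsLocalRing.maximalIdeal A)
    (q : Ideal (K ⊗[k] A)) [q.IsPrime]
    (hq : q = RingHom.ker
      ((Algebra.TensorProduct.rid k K K).toAlgHom.comp (Algebra.TensorProduct.map (AlgHom.id K K) π)))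
    [IsNoetherianRing (Localization.AtPrime q)] :
    IsRegularLocalRing A ↔ IsRegularLocalRing (Localization.AtPrime q) := by
  let f : A →+* Localization.AtPrime q :=
    (algebraMap (K ⊗[k] A) (Localization.AtPrime q)).comp
      (Algebra.TensorProduct.includeRight : A →ₐ[k] K ⊗[k] A).toRingHom
  have hf : f.Flat := RingHom.Flat.comp (flat_includeRight k K A)
    (RingHom.flat_algebraMap_iff.mpr (IsLocalization.flat _ q.primeCompl))
  let _ : Algebra A (Localization.AtPrime q) := f.toAlgebra
  have hflat : Module.Flat A (Localization.AtPrime q) := hf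
  have hπs : Function.Surjective π := fun c => ⟨c • 1, by simp⟩
  have hq' : q = (maximalIdeal A).map
      (Algebra.TensorProduct.includeRight : A →ₐ[k] K ⊗[k] A).toRingHom := by
    have hker := Algebra.TensorProduct.lTensor_ker (A := K) π hπs
    rw [hq, ← hπ]
    refine Eq.trans ?_ hker
    ext x
    simp only [RingHom.mem_ker]
    change (Algebra.TensorProduct.rid k K K) (Algebra.TensorProduct.map (AlgHom.id K K) π x) = 0 ↔
      (Algebra.TensorProduct.map (AlgHom.id k K) π x) = 0
    rw [EmbeddingLike.map_eq_zero_iff]
    rfl
  have hmap : (maximalIdeal A).map (algebraMap A (Localization.AtPrime q)) =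
      maximalIdeal (Localization.AtPrime q) := by
    rw [← Localization.AtPrime.map_eq_maximalIdeal (I := q)]
    have h3 := congrArg (Ideal.map (algebraMap (K ⊗[k] A) (Localization.AtPrime q))) hq'
    rw [h3, Ideal.map_map]
    rfl
  exact Groth.Agent.R2.H77.RegFlat.isRegularLocalRing_iff_of_flat hmap

/-- Let k ⊆ K be a field extension and A a Noetherian local k-algebra with residue field k, recorded by
a k-algebra map π : A → k whose kernel is the maximal ideal. Let π_K : K ⊗_k A → K be the induced
K-algebra map, m' its kernel, and A' the localization of K ⊗_k A at m'. Assume A' is Noetherian.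
Then A is a regular local ring if and only if A' is a regular local ring. -/
theorem result (k K A : Type u) [Field k] [Field K]
    [Algebra k K] [CommRing A] [Algebra k A] [IsLocalRing A] [IsNoetherianRing A]
    (π : A →ₐ[k] k) (hπ : RingHom.ker π = IsLocalRing.maximalIdeal A)
    [IsNoetherianRing (Localization.AtPrime (RingHom.ker
      ((Algebra.TensorProduct.rid k K K).toAlgHom.comp (Algebra.TensorProduct.map (AlgHom.id K K) π))))] :
    IsRegularLocalRing A ↔ IsRegularLocalRing (Localization.AtPrime (RingHom.ker
      ((Algebra.TensorProduct.rid k K K).toAlgHom.comp (Algebra.TensorProduct.map (AlgHom.id K K) π)))) := by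
  exact aux k K A π hπ _ rfl

end Groth.Agent.S15595
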