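import Groth.Statements.S1563
import Groth.Agent.S7606
import Groth.Agent.R2.H49GeomRegDesc

set_option autoImplicit false
universe u
open CategoryTheory CategoryTheory.Limits AlgebraicGeometry
open Variety

namespace Groth.Agent.S1563

/-- Geometric regularity descends along a morphism f of locally Noetherian k-schemes which is flat at
the point x (the map of local rings at x is flat): if X has it at x then Y has it at f(x). -/
theorem result (k : Type u) [Field k] (X Y : Scheme.{u}) [X.Over (Spec (CommRingCat.of k))] [Y.Over (Spec (CommRingCat.of k))]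
    [IsLocallyNoetherian X] [IsLocallyNoetherian Y] (f : X ⟶ Y) (hf : f ≫ (Y ↘ (Spec (CommRingCat.of k))) = X ↘ (Spec (CommRingCat.of k)))
    (x : X) (hflat : (f.stalkMap x).hom.Flat) (hx : Curv2.IsGeomRegularAt k X x) :
    Curv2.IsGeomRegularAt k Y (f.base x) := by
  have hB : @CAlg.IsGeometricallyRegular k _ (X.presheaf.stalk x) _ (Curv2.stalkAlgebra k X x) :=
    (Groth.Agent.S7606.result k X x).2.1 ((Groth.Agent.S7606.result k X x).1.1 hx)
  refine (Groth.Agent.S7606.result k Y (f x)).1.2 ((Groth.Agent.S7606.result k Y (f x)).2.2 ?_)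
  let _ : Algebra k (X.presheaf.stalk x) := Curv2.stalkAlgebra k X x
  let _ : Algebra k (Y.presheaf.stalk (f x)) := Curv2.stalkAlgebra k Y (f x)
  let _ : Algebra (Y.presheaf.stalk (f x)) (X.presheaf.stalk x) := (f.stalkMap x).hom.toAlgebra
  have hcomp : ∀ a : k, (f.stalkMap x).hom (Curv2.stalkMap k Y (f x) a) =
      Curv2.stalkMap k X x a := by
    intro a
    have h1 : Coh.toGlobal (X ↘ Spec (CommRingCat.of k)) a =
        f.appTop.hom (Coh.toGlobal (Y ↘ Spec (CommRingCat.of k)) a) := by
      rw [← hf]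
      simp only [Coh.toGlobal, Scheme.Hom.comp_appTop, CommRingCat.hom_comp]
      rfl
    change (f.stalkMap x).hom ((Y.presheaf.germ ⊤ (f x) trivial).hom
      (Coh.toGlobal (Y ↘ Spec (CommRingCat.of k)) a)) =
      (X.presheaf.germ ⊤ x trivial).hom (Coh.toGlobal (X ↘ Spec (CommRingCat.of k)) a)
    rw [h1]
    exact ConcreteCategory.congr_hom (Scheme.Hom.germ_stalkMap f ⊤ x trivial)
      (Coh.toGlobal (Y ↘ Spec (CommRingCat.of k)) a)
  have : IsScalarTower k (Y.presheaf.stalk (f x)) (X.presheaf.stalk x) :=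
    IsScalarTower.of_algebraMap_eq (fun a => (hcomp a).symm)
  have : Module.Flat (Y.presheaf.stalk (f x)) (X.presheaf.stalk x) := hflat
  have : IsLocalHom (algebraMap (Y.presheaf.stalk (f x)) (X.presheaf.stalk x)) :=
    inferInstanceAs (IsLocalHom (f.stalkMap x).hom)
  have : Module.FaithfullyFlat (Y.presheaf.stalk (f x)) (X.presheaf.stalk x) :=
    Module.FaithfullyFlat.of_flat_of_isLocalHom
  exact Groth.Agent.R2.H49.GeomRegDesc.isGeometricallyRegular_of_faithfullyFlat k
    (Y.presheaf.stalk (f x)) (X.presheaf.stalk x) hB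

end Groth.Agent.S1563
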