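import Groth.Statements.S1564
import Groth.Agent.S0002
import Groth.Agent.R2.H98CurveH0Main

set_option autoImplicit false
universe u
open CategoryTheory CategoryTheory.Limits AlgebraicGeometry
open Curves

namespace Groth.Agent.S1564

/-- Let X be a proper curve over a field k (an integral scheme of dimension 1, proper over k) with
H^0(X, O_X) of dimension 1 over k, and L an invertible O_X-module with H^0(X, L) ≠ 0. Then dim_k
H^0(X, L) ≤ deg L + 1, and if equality holds and deg L > 0 then X has genus zero, i.e. H^1(X, O_X) =
0. (This is the statement that a linear series of degree d and dimension r has r ≤ d, with equality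
for d ≥ 1 only in genus zero. The published statement does not exclude r = d = 0 in the equality
clause, where (O_X, H^0(X, O_X)) is a linear series on every such curve and the conclusion fails in
positive genus; the hypothesis 0 < deg L is therefore added to the equality clause here.) -/
theorem result (k : Type u) [Field k] (X : Scheme.{u}) [X.Over (Spec (CommRingCat.of k))]
    [IsIntegral X] [IsProper (X ↘ (Spec (CommRingCat.of k)))] (hdim : topologicalKrullDim X = 1)
    (h0 : Module.finrank k (Coh.HH X (Coh.structureModule X) 0) = 1)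
    (L : X.Modules) (hL : PicF.IsInvertible L) (hs : Nontrivial (Coh.HH X L 0)) :
    (Module.finrank k (Coh.HH X L 0) : ℤ) ≤ Curv2.deg k X L 1 + 1 ∧
      ((Module.finrank k (Coh.HH X L 0) : ℤ) = Curv2.deg k X L 1 + 1 → 0 < Curv2.deg k X L 1 →
        Curv2.genus k X = 0) := by
  classical
  have hfin : Groth.Agent.R2.H62.CurveCore.HFin k X :=
    fun M hM n => Groth.Agent.S0002.result k X M hM n
  -- a nonzero section
  obtain ⟨y, hy⟩ := exists_ne (0 : Coh.HH X L 0)
  let e := Groth.Agent.Lib.Helper27PnSections.hh0Equiv X L
  have hT : e y ≠ 0 := fun h => hy (e.injective (h.trans (map_zero e).symm))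
  let s : Coh.structureModule X ⟶ L := Groth.Agent.Lib.Helper23.SecTw.secHom L (e y)
  have hs0 : s ≠ 0 := by
    intro h
    apply hT
    have h1 := Groth.Agent.Lib.Helper23.SecTw.sv_secHom L (e y) ⊤
    have h2 : Groth.Agent.Lib.Helper23.SecTw.sv s ⊤ = 0 := by
      rw [h]; exact Groth.Agent.Lib.Helper23.SecTw.sv_zero ⊤
    have h3 : Groth.Agent.Lib.Helper6.res L (le_refl (⊤ : X.Opens)) (e y) = e y :=
      Groth.Agent.Lib.Helper23.SecTw.res_self L (e y)
    rw [← h3]
    exact h1.symm.trans h2
  have hle := Groth.Agent.R2.H98.CurveH0.finrank_H0_le hdim.le hfin hL s hs0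
  rw [h0] at hle
  refine ⟨by exact_mod_cast hle, fun heq hpos => ?_⟩
  have hsub := Groth.Agent.R2.H98.CurveH0.subsingleton_H1_of_finrank_eq hdim.le hfin hL s hs0
    (by rw [h0]; exact_mod_cast heq) hpos
  unfold Curv2.genus
  exact Module.finrank_zero_of_subsingleton

end Groth.Agent.S1564
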