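-- Statement S15696 (InvFld: stable equivalence of fields of invariants of two faithful representations)
import Groth.Statements.S15696
import Groth.Agent.R2.H73InvFld2

set_option autoImplicit false
universe u
open InvFld

namespace Groth.Agent.S15696

open Groth.Agent.R2.H73.InvFld2

/-- Let k be a characteristic-zero field and suppose a finite group has two faithful finite-dimensional
linear representations V and W over k. Then the fields of invariants k(V)^G and k(W)^G are stably
equivalent. Stated with V = k^n, W = k^m: G and H are finite groups of k-algebra automorphisms of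
k(x_1, ..., x_n) and of k(y_1, ..., y_m), each element sending every variable to a k-linear
combination of the variables, and G, H are isomorphic as abstract groups; then for some r, s the
purely transcendental extension in r variables of the fixed field of G is k-isomorphic to the
purely transcendental extension in s variables of the fixed field of H (existence of an isomorphism only). -/
theorem result (k : Type u) [Field k] [CharZero k] (n m : ℕ)
    (G : Subgroup (InvFld.Fld (Fin n) k ≃ₐ[k] InvFld.Fld (Fin n) k)) [Finite G]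
    (H : Subgroup (InvFld.Fld (Fin m) k ≃ₐ[k] InvFld.Fld (Fin m) k)) [Finite H] (e : G ≃* H)
    (hG : ∀ σ ∈ G, ∀ i : Fin n, σ (InvFld.X i) ∈ Submodule.span k (Set.range fun j : Fin n => (InvFld.X j : InvFld.Fld (Fin n) k)))
    (hH : ∀ τ ∈ H, ∀ i : Fin m, τ (InvFld.X i) ∈ Submodule.span k (Set.range fun j : Fin m => (InvFld.X j : InvFld.Fld (Fin m) k))) :
    ∃ r s : ℕ, Nonempty (InvFld.Fld (Fin r) (IntermediateField.fixedField G) ≃ₐ[k]
      InvFld.Fld (Fin s) (IntermediateField.fixedField H)) := by
  have hGp : ∀ g ∈ G, IsPoly (g : Fld (Fin n) k ≃ₐ[k] Fld (Fin n) k).toAlgHom := fun g hg =>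
    isPoly_of_linear _ (hG g hg)
  have hHp : ∀ h ∈ H, IsPoly (h : Fld (Fin m) k ≃ₐ[k] Fld (Fin m) k).toAlgHom := fun h hh =>
    isPoly_of_linear _ (hH h hh)
  have hfin : Finite (Gam G H e) := finite_Gam G H e
  -- the `x`-side
  have hbij1 : Function.Bijective (Sum.elim (Sum.inl : Fin n → Fin n ⊕ Fin m) Sum.inr) := by
    have : Sum.elim (Sum.inl : Fin n → Fin n ⊕ Fin m) Sum.inr = id := by
      funext s
      rcases s with s | s <;> rfl
    rw [this]
    exact Function.bijective_id
  have hbij2 : Function.Bijective (Sum.elim (Sum.inr : Fin m → Fin n ⊕ Fin m) Sum.inl) := by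
    have : Sum.elim (Sum.inr : Fin m → Fin n ⊕ Fin m) Sum.inl = Sum.swap := by
      funext s
      rcases s with s | s <;> rfl
    rw [this]
    exact ⟨Sum.swap_leftInverse.injective, Sum.swap_leftInverse.surjective⟩
  obtain ⟨E1⟩ := noName_partition (k := k) (Sum.inl : Fin n → Fin n ⊕ Fin m) Sum.inr hbij1
    (Gam G H e) (Gam_linear_inl G H e hG) (Gam_linear_inr G H e hH) (Gam_faithful_inl G H e)
  obtain ⟨E2⟩ := noName_partition (k := k) (Sum.inr : Fin m → Fin n ⊕ Fin m) Sum.inl hbij2
    (Gam G H e) (Gam_linear_inr G H e hH) (Gam_linear_inl G H e hG) (Gam_faithful_inr G H e)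
  -- transport of the fixed fields
  have hm1 := map_fixedField_eq (k := k) (Sum.inl : Fin n → Fin n ⊕ Fin m) Sum.inl_injective G
    (Gam G H e)
    (by
      rintro θ ⟨g, h1, h2⟩
      exact ⟨g, g.2, h1⟩)
    (by
      intro g hg
      obtain ⟨θ, hθ, h1, h2⟩ := exists_mem_Gam G H e hGp hHp ⟨g, hg⟩
      exact ⟨θ, hθ, h1⟩)
  have hm2 := map_fixedField_eq (k := k) (Sum.inr : Fin m → Fin n ⊕ Fin m) Sum.inr_injective H
    (Gam G H e)
    (by
      rintro θ ⟨g, h1, h2⟩
      exact ⟨e g, (e g).2, h2⟩)
    (by
      intro h hh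
      obtain ⟨θ, hθ, h1, h2⟩ := exists_mem_Gam G H e hGp hHp (e.symm ⟨h, hh⟩)
      rw [MulEquiv.apply_symm_apply] at h2
      exact ⟨θ, hθ, h2⟩)
  let F1 := (IntermediateField.equivMap (IntermediateField.fixedField G)
    (inc (k := k) (Sum.inl : Fin n → Fin n ⊕ Fin m) Sum.inl_injective)).trans
      (IntermediateField.equivOfEq hm1)
  let F2 := (IntermediateField.equivMap (IntermediateField.fixedField H)
    (inc (k := k) (Sum.inr : Fin m → Fin n ⊕ Fin m) Sum.inr_injective)).trans
      (IntermediateField.equivOfEq hm2)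
  exact ⟨m, n, ⟨(((fldCongr (Fin m) F1).trans E1).trans E2.symm).trans (fldCongr (Fin n) F2).symm⟩⟩

end Groth.Agent.S15696
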