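-- Statement S15697 (InvFld: the no-name lemma)
import Groth.Statements.S15697
import Groth.Agent.R2.H73InvFld

set_option autoImplicit false
universe u
open InvFld

namespace Groth.Agent.S15697

open MvPolynomial in
/-- Algebraic independence over a domain implies algebraic independence over its fraction field. -/
lemma algebraicIndependent_of_isFractionRing {A K L ι : Type*} [CommRing A] [Field K] [Field L]
    [Algebra A K] [IsFractionRing A K] [Algebra A L] [Algebra K L] [IsScalarTower A K L]
    (y : ι → L) (hy : AlgebraicIndependent A y) : AlgebraicIndependent K y := by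
  let _ := MvPolynomial.algebraMvPolynomial (σ := ι) (R := A) (S := K)
  have : Nontrivial A := (algebraMap A K).domain_nontrivial
  rw [algebraicIndependent_iff] at hy ⊢
  intro p hp
  obtain ⟨⟨q, ⟨d', hd'⟩⟩, hq⟩ :=
    IsLocalization.surj ((nonZeroDivisors A).map (C : A →+* MvPolynomial ι A)) p
  obtain ⟨d, hd, rfl⟩ := hd'
  simp only [MvPolynomial.algebraMap_def] at hq
  have h1 : aeval y (MvPolynomial.map (algebraMap A K) q) = 0 := by
    rw [← hq, map_mul, hp, zero_mul]
  rw [MvPolynomial.aeval_map_algebraMap] at h1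
  have hq0 := hy q h1
  rw [hq0, map_zero] at hq
  have hd0 : MvPolynomial.map (algebraMap A K) (C d : MvPolynomial ι A) ≠ 0 := by
    rw [MvPolynomial.map_C, Ne, MvPolynomial.C_eq_zero]
    intro h
    have := IsFractionRing.injective A K (h.trans (map_zero _).symm)
    exact nonZeroDivisors.ne_zero hd this
  exact (mul_eq_zero.mp hq).resolve_right hd0

section Concrete

variable (k : Type u) [Field k] (n m : ℕ)

/-- The variables are algebraically independent in the rational function field. -/
lemma algebraicIndependent_X :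
    AlgebraicIndependent k
      (fun s : Fin n ⊕ Fin m => (InvFld.X s : InvFld.Fld (Fin n ⊕ Fin m) k)) :=
  (MvPolynomial.algebraicIndependent_X (Fin n ⊕ Fin m) k).map'
    (f := IsScalarTower.toAlgHom k (MvPolynomial (Fin n ⊕ Fin m) k)
      (InvFld.Fld (Fin n ⊕ Fin m) k))
    (IsFractionRing.injective (MvPolynomial (Fin n ⊕ Fin m) k) (InvFld.Fld (Fin n ⊕ Fin m) k))

open scoped IntermediateField.algebraAdjoinAdjoin in
/-- The `y`'s are algebraically independent over `k(x)`. -/
lemma algebraicIndependent_inr :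
    AlgebraicIndependent
      ↥(IntermediateField.adjoin k (Set.range fun j : Fin n =>
        (InvFld.X (Sum.inl j) : InvFld.Fld (Fin n ⊕ Fin m) k)))
      (fun j : Fin m => (InvFld.X (Sum.inr j) : InvFld.Fld (Fin n ⊕ Fin m) k)) := by
  have h1 := (algebraicIndependent_X k n m).comp Sum.swap (Equiv.sumComm (Fin m) (Fin n)).injective
  have h2 : (fun s : Fin n ⊕ Fin m => (InvFld.X s : InvFld.Fld (Fin n ⊕ Fin m) k)) ∘ Sum.swap =
      Sum.elim (fun j : Fin m => (InvFld.X (Sum.inr j) : InvFld.Fld (Fin n ⊕ Fin m) k))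
        (fun j : Fin n => (InvFld.X (Sum.inl j) : InvFld.Fld (Fin n ⊕ Fin m) k)) := by
    funext s
    rcases s with s | s <;> rfl
  rw [h2, AlgebraicIndependent.sumElim_iff] at h1
  exact algebraicIndependent_of_isFractionRing _ h1.2

/-- The rational function field is generated by the variables. -/
lemma adjoin_union_eq_top :
    IntermediateField.adjoin k
      (((IntermediateField.adjoin k (Set.range fun j : Fin n =>
        (InvFld.X (Sum.inl j) : InvFld.Fld (Fin n ⊕ Fin m) k)) :
          IntermediateField k (InvFld.Fld (Fin n ⊕ Fin m) k)) :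
            Set (InvFld.Fld (Fin n ⊕ Fin m) k)) ∪
        Set.range fun j : Fin m => (InvFld.X (Sum.inr j) : InvFld.Fld (Fin n ⊕ Fin m) k)) = ⊤ := by
  set T := IntermediateField.adjoin k
      (((IntermediateField.adjoin k (Set.range fun j : Fin n =>
        (InvFld.X (Sum.inl j) : InvFld.Fld (Fin n ⊕ Fin m) k)) :
          IntermediateField k (InvFld.Fld (Fin n ⊕ Fin m) k)) :
            Set (InvFld.Fld (Fin n ⊕ Fin m) k)) ∪
        Set.range fun j : Fin m => (InvFld.X (Sum.inr j) : InvFld.Fld (Fin n ⊕ Fin m) k)) with hT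
  have hX : ∀ s : Fin n ⊕ Fin m, (InvFld.X s : InvFld.Fld (Fin n ⊕ Fin m) k) ∈ T := by
    rintro (i | j)
    · exact IntermediateField.subset_adjoin k _
        (Or.inl (IntermediateField.subset_adjoin k _ ⟨i, rfl⟩))
    · exact IntermediateField.subset_adjoin k _ (Or.inr ⟨j, rfl⟩)
  have hP : ∀ a : MvPolynomial (Fin n ⊕ Fin m) k,
      algebraMap (MvPolynomial (Fin n ⊕ Fin m) k) (InvFld.Fld (Fin n ⊕ Fin m) k) a ∈ T := by
    intro a
    induction a using MvPolynomial.induction_on with
    | C c =>
      rw [← MvPolynomial.algebraMap_eq, ← IsScalarTower.algebraMap_apply]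
      exact T.algebraMap_mem c
    | add p q hp hq =>
      rw [map_add]
      exact T.add_mem hp hq
    | mul_X p s hp =>
      rw [map_mul]
      exact T.mul_mem hp (hX s)
  rw [eq_top_iff]
  intro z _
  obtain ⟨a, b, -, rfl⟩ := IsFractionRing.div_surjective (MvPolynomial (Fin n ⊕ Fin m) k) z
  exact T.div_mem (hP a) (hP b)

end Concrete

/-- Let k be a characteristic-zero field and suppose a finite group acts k-linearly on
finite-dimensional k-vector spaces V and W, faithfully on V. Then k(V ⊕ W)^G is purely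
transcendental over k(V)^G, of transcendence degree dim W. Stated with V = k^n, W = k^m inside L =
k(x_1, ..., x_n, y_1, ..., y_m): G is a finite group of k-algebra automorphisms of L sending each
x_i into the k-span of the x's and each y_j into the k-span of the y's, such that an element of G
fixing every x_i is trivial; F is the intersection of k(x_1, ..., x_n) with the fixed field of G;
then there are y'_1, ..., y'_m in L, algebraically independent over F, with F(y'_1, ..., y'_m) equal
to the fixed field of G. -/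
theorem result (k : Type u) [Field k] [CharZero k] (n m : ℕ)
    (G : Subgroup (InvFld.Fld (Fin n ⊕ Fin m) k ≃ₐ[k] InvFld.Fld (Fin n ⊕ Fin m) k)) [Finite G]
    (hx : ∀ σ ∈ G, ∀ i : Fin n, σ (InvFld.X (Sum.inl i)) ∈ Submodule.span k (Set.range fun j : Fin n => (InvFld.X (Sum.inl j) : InvFld.Fld (Fin n ⊕ Fin m) k)))
    (hy : ∀ σ ∈ G, ∀ i : Fin m, σ (InvFld.X (Sum.inr i)) ∈ Submodule.span k (Set.range fun j : Fin m => (InvFld.X (Sum.inr j) : InvFld.Fld (Fin n ⊕ Fin m) k)))
    (hfaith : ∀ σ ∈ G, (∀ i : Fin n, σ (InvFld.X (Sum.inl i)) = InvFld.X (Sum.inl i)) → σ = 1) :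
    ∃ t : Fin m → InvFld.Fld (Fin n ⊕ Fin m) k,
      AlgebraicIndependent (↥(IntermediateField.adjoin k (Set.range fun j : Fin n => (InvFld.X (Sum.inl j) : InvFld.Fld (Fin n ⊕ Fin m) k)) ⊓ IntermediateField.fixedField G)) t ∧
      IntermediateField.restrictScalars k (IntermediateField.adjoin (↥(IntermediateField.adjoin k (Set.range fun j : Fin n => (InvFld.X (Sum.inl j) : InvFld.Fld (Fin n ⊕ Fin m) k)) ⊓ IntermediateField.fixedField G)) (Set.range t)) =
        IntermediateField.fixedField G := by
  classical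
  have : Fintype G := Fintype.ofFinite G
  set K : IntermediateField k (InvFld.Fld (Fin n ⊕ Fin m) k) :=
    IntermediateField.adjoin k (Set.range fun j : Fin n =>
      (InvFld.X (Sum.inl j) : InvFld.Fld (Fin n ⊕ Fin m) k)) with hKdef
  have hxK : ∀ i : Fin n, (InvFld.X (Sum.inl i) : InvFld.Fld (Fin n ⊕ Fin m) k) ∈ K := fun i =>
    IntermediateField.subset_adjoin k _ ⟨i, rfl⟩
  have hspanK : ∀ z ∈ Submodule.span k (Set.range fun j : Fin n =>
      (InvFld.X (Sum.inl j) : InvFld.Fld (Fin n ⊕ Fin m) k)), z ∈ K := by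
    intro z hz
    have h1 : Submodule.span k (Set.range fun j : Fin n =>
        (InvFld.X (Sum.inl j) : InvFld.Fld (Fin n ⊕ Fin m) k)) ≤
        Subalgebra.toSubmodule K.toSubalgebra := by
      rw [Submodule.span_le]
      rintro _ ⟨i, rfl⟩
      exact hxK i
    exact h1 hz
  have hK : ∀ σ ∈ G, ∀ c ∈ K, σ c ∈ K := by
    intro σ hσ c hc
    have h1 : K.map (σ : InvFld.Fld (Fin n ⊕ Fin m) k →ₐ[k] InvFld.Fld (Fin n ⊕ Fin m) k) ≤ K := by
      rw [hKdef, IntermediateField.adjoin_map, IntermediateField.adjoin_le_iff]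
      rintro _ ⟨_, ⟨i, rfl⟩, rfl⟩
      exact hspanK _ (hx σ hσ i)
    exact h1 ⟨c, hc, rfl⟩
  have hfaith' : ∀ σ ∈ G, (∀ c ∈ K, σ c = c) → σ = 1 := fun σ hσ h =>
    hfaith σ hσ fun i => h _ (hxK i)
  have hyG : ∀ σ ∈ G, ∀ j : Fin m, σ (InvFld.X (Sum.inr j)) ∈
      Submodule.span K (Set.range fun j : Fin m =>
        (InvFld.X (Sum.inr j) : InvFld.Fld (Fin n ⊕ Fin m) k)) := fun σ hσ j =>
    Submodule.span_subset_span k K _ (hy σ hσ j)
  obtain ⟨t, ht1, ht2⟩ := Groth.Agent.R2.H73.InvFld.noName G K
    (fun j : Fin m => (InvFld.X (Sum.inr j) : InvFld.Fld (Fin n ⊕ Fin m) k)) hK hfaith'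
    (algebraicIndependent_inr k n m) hyG (adjoin_union_eq_top k n m)
  refine ⟨t, ht1, ?_⟩
  rw [IntermediateField.restrictScalars_adjoin]
  exact ht2

end Groth.Agent.S15697
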