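-- Statement S15698 (InvFld: fields of invariants of linear representations of S_n are stably pure)
import Groth.Statements.S15698
import Groth.Agent.S15696
import Groth.Agent.R2.H73InvFld3

set_option autoImplicit false
universe u
open InvFld

namespace Groth.Agent.S15698

open Groth.Agent.R2.H73.InvFld3

/-- Let k be a characteristic-zero field; for each faithful finite-dimensional linear representation V
of the symmetric group S_n over k, the field of invariants k(V)^{S_n} is stably pure over k. Stated
with V = k^m: G is a finite group of k-algebra automorphisms of k(x_1, ..., x_m), each sending every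
variable to a k-linear combination of the variables, isomorphic as an abstract group to the
symmetric group on n letters; then for some r the rational function field in r variables over the
fixed field of G is generated over k by finitely many algebraically independent elements. -/
theorem result (k : Type u) [Field k] [CharZero k] (n m : ℕ)
    (G : Subgroup (InvFld.Fld (Fin m) k ≃ₐ[k] InvFld.Fld (Fin m) k)) [Finite G] (e : G ≃* Equiv.Perm (Fin n))
    (hG : ∀ σ ∈ G, ∀ i : Fin m, σ (InvFld.X i) ∈ Submodule.span k (Set.range fun j : Fin m => (InvFld.X j : InvFld.Fld (Fin m) k))) :
    ∃ (r N : ℕ) (t : Fin N → InvFld.Fld (Fin r) (IntermediateField.fixedField G)),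
      AlgebraicIndependent k t ∧ IntermediateField.adjoin k (Set.range t) = ⊤ := by
  -- the permutation representation of `S_n` on `k(y_1..y_n)`
  let e' : G ≃* (permAut k n).range := e.trans (MonoidHom.ofInjective (permAut_injective k n))
  have hfin : Finite (permAut k n).range := Finite.of_equiv _ e'.toEquiv
  obtain ⟨r, s, ⟨iso⟩⟩ := Groth.Agent.S15696.result k m n G (permAut k n).range e' hG
    (permAut_linear k n)
  obtain ⟨N, t', ht1, ht2⟩ := exists_pure_fixedField_permAut k n s
  refine ⟨r, N, fun i => iso.symm (t' i), ?_, ?_⟩
  · exact ht1.map' (f := iso.symm.toAlgHom) iso.symm.injective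
  · have h1 : Set.range (fun i => iso.symm (t' i)) = iso.symm.toAlgHom '' Set.range t' := by
      rw [← Set.range_comp]
      rfl
    rw [h1, ← IntermediateField.adjoin_map, ht2, ← AlgHom.fieldRange_eq_map,
      AlgHom.fieldRange_eq_top]
    exact iso.symm.surjective

end Groth.Agent.S15698
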