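import Groth.Statements.S1572
import Groth.Agent.R2.H8AffCompl2
import Groth.Agent.Lib.Helper4PunctAffine3

set_option autoImplicit false
set_option linter.style.haveILetI false
universe u
open CategoryTheory CategoryTheory.Limits AlgebraicGeometry
open Divisors

namespace Groth.Agent.S1572

/-- Let X be Noetherian and separated and U a dense affine open such that the local ring of X at every
point outside U is a unique factorisation domain. Then there is an effective Cartier divisor on X
whose support is exactly the complement of U. -/
theorem result (X : Scheme.{u}) [IsNoetherian X] [X.IsSeparated]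
    (U : X.Opens) (hU : IsAffineOpen U) (hdense : Dense (U : Set X))
    (hufd : ∀ x : X, x ∉ U → IsDomain (X.presheaf.stalk x) ∧ UniqueFactorizationMonoid (X.presheaf.stalk x)) :
    ∃ D : X.IdealSheafData, BlowUp.IsEffCartierIdeal D ∧ (D.support : Set X) = (U : Set X)ᶜ := by
  haveI : IsAffineHom U.ι := by
    constructor
    intro V hV
    have h1 : IsAffineOpen (V ⊓ U) := hV.inf hU
    have h2 : U.ι ⁻¹ᵁ V = U.ι ⁻¹ᵁ (V ⊓ U) := by
      ext y
      constructor
      · intro hy
        exact ⟨hy, y.2⟩
      · intro hy
        exact hy.1
    rw [h2]
    exact h1.preimage_of_isOpenImmersion U.ι (by rw [Scheme.Opens.opensRange_ι]; exact inf_le_right)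
  exact Groth.Agent.R2.H8.AffCompl.exists_effCartier_compl U hdense hufd
    (fun ξ hξ hmax =>
      Groth.Agent.Lib.Helper4.PunctAffine.ringKrullDim_stalk_le_one_of_isAffineHom X U ξ hξ hmax)

end Groth.Agent.S1572
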