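import Groth.Statements.S15751
import Groth.Agent.S15753
import Groth.Agent.R2.H18SeminormalC

set_option autoImplicit false
universe u
open CAlg

namespace Groth.Agent.S15751

/-- For a seminormal Henselian local ring R the Picard group of the Laurent series ring R((t)) is
trivial: every invertible R((t))-module is free. -/
theorem result (R : Type u) [CommRing R]
    [HenselianLocalRing R] (hR : HTop.IsSeminormalRing R)
    (M : Type u) [AddCommGroup M] [Module (LaurentSeries R) M] [Module.Invertible (LaurentSeries R) M] :
    Module.Free (LaurentSeries R) M := by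
  letI : Algebra (Polynomial R) (LaurentSeries R) :=
    (Polynomial.eval₂RingHom (HahnSeries.C) (HahnSeries.single (-1 : ℤ) (1 : R))).toAlgebra
  obtain ⟨M₀, _, _, hinv, ⟨e⟩⟩ := (Groth.Agent.S15753.result R rfl).2 M
  haveI := hinv
  haveI : Module.Free (Polynomial R) M₀ :=
    Groth.Agent.R2.H18.Seminormal.free_of_invertible_polynomial R hR M₀
  exact Module.Free.of_equiv e.symm

end Groth.Agent.S15751
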