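import Groth.Statements.S15752
import Groth.Agent.R2.H18WeierD

set_option autoImplicit false
universe u
open Polynomial
open CAlg

namespace Groth.Agent.S15752

/-- Let R be a Henselian local ring with maximal ideal m and let B be a henselization of R[t] along (t).
Every f ∈ B outside mB factors as f = P · u for a unique pair (P, u) with P ∈ R[t] monic whose
non-leading coefficients lie in m and u a unit of B; moreover the natural map R[t]/(P) → B/(f) is
bijective, stated as: every element of B is congruent to (the image of) a polynomial modulo f, and a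
polynomial whose image lies in fB lies in P·R[t]. -/
theorem result (R : Type u) [CommRing R]
    [HenselianLocalRing R] (B : Type u) [CommRing B] [Algebra R B] [Algebra R[X] B]
    [IsScalarTower R R[X] B] (hB : Hens2.IsPairHenselization R[X] (Ideal.span {(X : R[X])}) B)
    (f : B) (hf : f ∉ (IsLocalRing.maximalIdeal R).map (algebraMap R B)) :
    (∃! Pu : R[X] × Bˣ, Pu.1.Monic ∧ (∀ i : ℕ, i < Pu.1.natDegree → Pu.1.coeff i ∈ IsLocalRing.maximalIdeal R) ∧
        f = algebraMap R[X] B Pu.1 * (Pu.2 : B)) ∧
    (∀ (P : R[X]) (u : Bˣ), P.Monic → (∀ i : ℕ, i < P.natDegree → P.coeff i ∈ IsLocalRing.maximalIdeal R) →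
        f = algebraMap R[X] B P * (u : B) →
      (∀ b : B, ∃ q : R[X], algebraMap R[X] B q - b ∈ Ideal.span {f}) ∧
      (∀ q : R[X], algebraMap R[X] B q ∈ Ideal.span {f} → q ∈ Ideal.span {P})) := by
  refine ⟨?_, ?_⟩
  · obtain ⟨P, u, hP, hlow, hfPu⟩ := Groth.Agent.R2.H18.WeierD.exists_factorization hB f hf
    refine ⟨(P, u), ⟨hP, hlow, hfPu⟩, ?_⟩
    rintro ⟨P', u'⟩ ⟨hP', hlow', hfPu'⟩
    obtain ⟨h1, h2⟩ := Groth.Agent.R2.H18.WeierD.factorization_unique hB P' P u' u hP' hP
      hlow' hlow (hfPu'.symm.trans hfPu)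
    exact Prod.ext h1 h2
  · intro P u hP hlow hfPu
    have hspan : Ideal.span {f} = Ideal.span {algebraMap R[X] B P} := by
      rw [hfPu]
      exact Ideal.span_singleton_mul_right_unit u.isUnit _
    rw [hspan]
    exact ⟨fun b => Groth.Agent.R2.H18.WeierC.exists_sub_mem hB P hP hlow b,
      fun q hq => Groth.Agent.R2.H18.WeierC.mem_span_of_algebraMap_mem hB P hP hlow q hq⟩

end Groth.Agent.S15752
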