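-- Statement S15787 (WildQuot.isRegularLocalRing_artinSchreierFamily)
import Groth.Statements.S15787
import Groth.Agent.R2.H73ASFamily2
import Groth.Agent.Lib.Helper19PsDim

set_option autoImplicit false
universe u
open WildQuot

namespace Groth.Agent.S15787

open Groth.Agent.R2.H73.ASFamily in
/-- The ideal of the statement is the relation ideal of the Artin–Schreier family. -/
lemma ideal_eq (p : ℕ) (k : Type u) [Field k] (n : ℕ) (a : Fin n → MvPowerSeries (Fin n) k) :
    Ideal.span (Set.range fun i : Fin n =>
        (MvPolynomial.X i : MvPolynomial (Fin n) (MvPowerSeries (Fin n) k)) ^ p -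
          MvPolynomial.C (a i ^ (p - 1)) * MvPolynomial.X i -
          MvPolynomial.C (MvPowerSeries.X i)) =
      relIdeal (asFam p (fun i => a i ^ (p - 1)) (fun i => MvPowerSeries.X i)) := by
  rw [relIdeal]
  congr 1
  apply congrArg
  funext i
  rw [asFam, aeval_asPoly]
  simp only [MvPolynomial.algebraMap_eq]

open MvPolynomial in
/-- Let `k` be a field of characteristic `p > 0`, `n ≥ 2`, `R = k[[x_1, …, x_n]]`, and `a_1, …, a_n ∈ R`
power series with zero constant term. Let `A = R[u_1, …, u_n] / (u_i ^ p - a_i ^ (p-1) u_i - x_i : i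
= 1..n)`. Then `A` is a regular local ring and its maximal ideal is generated by the classes of
`u_1, …, u_n`. (The published statement also assumes each `a_i` nonzero; that is not needed for this
part.) -/
theorem result
    (p : ℕ) [Fact p.Prime] (k : Type u) [Field k] [CharP k p] (n : ℕ) (hn : 2 ≤ n)
    (a : Fin n → MvPowerSeries (Fin n) k)
    (ham : ∀ i, MvPowerSeries.constantCoeff (a i) = 0) :
    let I : Ideal (MvPolynomial (Fin n) (MvPowerSeries (Fin n) k)) :=
      Ideal.span (Set.range fun i : Fin n =>
        X i ^ p - C (a i ^ (p - 1)) * X i - C (MvPowerSeries.X i))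
    IsRegularLocalRing (MvPolynomial (Fin n) (MvPowerSeries (Fin n) k) ⧸ I) ∧
      (Ideal.map (Ideal.Quotient.mk I)
        (Ideal.span (Set.range (X : Fin n → MvPolynomial (Fin n) (MvPowerSeries (Fin n) k))))).IsMaximal := by
  intro I
  have hI : I = Groth.Agent.R2.H73.ASFamily.relIdeal
      (Groth.Agent.R2.H73.ASFamily.asFam p (fun i => a i ^ (p - 1))
        (fun i => MvPowerSeries.X i)) := ideal_eq p k n a
  clear_value I
  subst hI
  have hp : 2 ≤ p := (Fact.out : p.Prime).two_le
  have hx : Ideal.span (Set.range fun i : Fin n => (MvPowerSeries.X i : MvPowerSeries (Fin n) k)) =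
      IsLocalRing.maximalIdeal (MvPowerSeries (Fin n) k) :=
    (Groth.Agent.Lib.Helper19.maximalIdeal_mvPowerSeries_eq k n).symm
  have hc : ∀ i, a i ^ (p - 1) ∈ IsLocalRing.maximalIdeal (MvPowerSeries (Fin n) k) := by
    intro i
    apply Ideal.pow_mem_of_mem _ _ _ (by omega)
    rw [IsLocalRing.mem_maximalIdeal, mem_nonunits_iff, MvPowerSeries.isUnit_iff_constantCoeff,
      ham i]
    exact not_isUnit_zero
  refine ⟨Groth.Agent.R2.H73.ASFamily.isRegularLocalRing hp hc hx
    (Groth.Agent.Lib.Helper19.ringKrullDim_mvPowerSeries k n), ?_⟩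
  rw [Groth.Agent.R2.H73.ASFamily.map_span_X_eq]
  exact Groth.Agent.R2.H73.ASFamily.isMaximal_span_uu hp hx

end Groth.Agent.S15787
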