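-- Statement S15788 (WildQuot.free_finrank_isAdicComplete_artinSchreierFamily)
import Groth.Statements.S15788
import Groth.Agent.S15787
import Groth.Agent.R2.H73ASFamily3
import Groth.Agent.Lib.Helper19PsDim
import Groth.Agent.Lib.Helper5RLR

set_option autoImplicit false
universe u
open WildQuot

namespace Groth.Agent.S15788

open MvPolynomial in
/-- Let `k` be a field of characteristic `p > 0`, `n ≥ 2`, `R = k[[x_1, …, x_n]]`, `a_1, …, a_n ∈ R`
with zero constant term, and `A = R[u_1, …, u_n] / (u_i ^ p - a_i ^ (p-1) u_i - x_i : i = 1..n)`.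
Then `A` is a free `R`-module of rank `p ^ n`, `A` is complete and separated for the adic topology
of the ideal generated by the classes of the `u_i` (which is its maximal ideal), and `A` is an
integral domain. (The published statement also assumes each `a_i` nonzero; that is not needed for
this part.) -/
theorem result
    (p : ℕ) [Fact p.Prime] (k : Type u) [Field k] [CharP k p] (n : ℕ) (hn : 2 ≤ n)
    (a : Fin n → MvPowerSeries (Fin n) k)
    (ham : ∀ i, MvPowerSeries.constantCoeff (a i) = 0) :
    let I : Ideal (MvPolynomial (Fin n) (MvPowerSeries (Fin n) k)) :=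
      Ideal.span (Set.range fun i : Fin n =>
        X i ^ p - C (a i ^ (p - 1)) * X i - C (MvPowerSeries.X i))
    Module.Free (MvPowerSeries (Fin n) k) (MvPolynomial (Fin n) (MvPowerSeries (Fin n) k) ⧸ I) ∧
      Module.finrank (MvPowerSeries (Fin n) k) (MvPolynomial (Fin n) (MvPowerSeries (Fin n) k) ⧸ I) = p ^ n ∧
      IsAdicComplete (Ideal.map (Ideal.Quotient.mk I)
          (Ideal.span (Set.range (X : Fin n → MvPolynomial (Fin n) (MvPowerSeries (Fin n) k)))))
        (MvPolynomial (Fin n) (MvPowerSeries (Fin n) k) ⧸ I) ∧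
      IsDomain (MvPolynomial (Fin n) (MvPowerSeries (Fin n) k) ⧸ I) := by
  intro I
  have hI : I = Groth.Agent.R2.H73.ASFamily.relIdeal
      (Groth.Agent.R2.H73.ASFamily.asFam p (fun i => a i ^ (p - 1))
        (fun i => MvPowerSeries.X i)) := Groth.Agent.S15787.ideal_eq p k n a
  clear_value I
  subst hI
  have hp : 2 ≤ p := (Fact.out : p.Prime).two_le
  have hx : Ideal.span (Set.range fun i : Fin n => (MvPowerSeries.X i : MvPowerSeries (Fin n) k)) =
      IsLocalRing.maximalIdeal (MvPowerSeries (Fin n) k) :=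
    (Groth.Agent.Lib.Helper19.maximalIdeal_mvPowerSeries_eq k n).symm
  have hc : ∀ i, a i ^ (p - 1) ∈ IsLocalRing.maximalIdeal (MvPowerSeries (Fin n) k) := by
    intro i
    apply Ideal.pow_mem_of_mem _ _ _ (by omega)
    rw [IsLocalRing.mem_maximalIdeal, mem_nonunits_iff, MvPowerSeries.isUnit_iff_constantCoeff,
      ham i]
    exact not_isUnit_zero
  have hreg := Groth.Agent.R2.H73.ASFamily.isRegularLocalRing hp hc hx
    (Groth.Agent.Lib.Helper19.ringKrullDim_mvPowerSeries k n)
  have hk : IsAdicComplete (IsLocalRing.maximalIdeal k) k := by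
    rw [IsLocalRing.maximalIdeal_eq_bot]
    infer_instance
  have hR : IsAdicComplete (IsLocalRing.maximalIdeal (MvPowerSeries (Fin n) k))
      (MvPowerSeries (Fin n) k) := Groth.Agent.Lib.Helper19.isAdicComplete_mvPowerSeries
  have hdom := Groth.Agent.Lib.Helper5.isDomain_of_isRegularLocalRing
    (MvPolynomial (Fin n) (MvPowerSeries (Fin n) k) ⧸ Groth.Agent.R2.H73.ASFamily.relIdeal
      (Groth.Agent.R2.H73.ASFamily.asFam p (fun i => a i ^ (p - 1))
        (fun i => (MvPowerSeries.X i : MvPowerSeries (Fin n) k))))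
  refine ⟨Groth.Agent.R2.H73.ASFamily.free _ (Groth.Agent.R2.H73.ASFamily.asFam_monic hp), ?_, ?_,
    hdom⟩
  · rw [Groth.Agent.R2.H73.ASFamily.finrank_eq _ (Groth.Agent.R2.H73.ASFamily.asFam_monic hp)]
    have h1 : ∀ i : Fin n, (Groth.Agent.R2.H73.ASFamily.asFam p (fun i => a i ^ (p - 1))
        (fun i => (MvPowerSeries.X i : MvPowerSeries (Fin n) k)) i).natDegree = p := fun i =>
      Groth.Agent.R2.H73.ASFamily.asPoly_natDegree hp _ _
    simp only [h1, Finset.prod_const, Finset.card_univ, Fintype.card_fin]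
  · rw [Groth.Agent.R2.H73.ASFamily.map_span_X_eq]
    exact Groth.Agent.R2.H73.ASFamily.isAdicComplete_span_uu hp hc hx

end Groth.Agent.S15788
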