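-- Statement S15789 (WildQuot.card_algEquiv_artinSchreierFamily)
import Groth.Statements.S15789
import Groth.Agent.S15787
import Groth.Agent.R2.H73ASFamily2
import Groth.Agent.R2.H73ASFamily4
import Groth.Agent.Lib.Helper19PsDim
import Groth.Agent.Lib.Helper5RLR

set_option autoImplicit false
universe u
open WildQuot

namespace Groth.Agent.S15789

open Groth.Agent.R2.H73.ASFamily in
/-- The general statement for the library's form of the quotient. -/
theorem main (p : ℕ) [Fact p.Prime] (k : Type u) [Field k] [CharP k p] (n : ℕ)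
    (a : Fin n → MvPowerSeries (Fin n) k)
    (ha0 : ∀ i, a i ≠ 0) (ham : ∀ i, MvPowerSeries.constantCoeff (a i) = 0) :
    Nat.card (ASQuot p a (fun i => (MvPowerSeries.X i : MvPowerSeries (Fin n) k)) ≃ₐ[MvPowerSeries (Fin n) k]
        ASQuot p a (fun i => (MvPowerSeries.X i : MvPowerSeries (Fin n) k))) = p ^ n ∧
      (∀ σ τ : ASQuot p a (fun i => (MvPowerSeries.X i : MvPowerSeries (Fin n) k)) ≃ₐ[MvPowerSeries (Fin n) k]
        ASQuot p a (fun i => (MvPowerSeries.X i : MvPowerSeries (Fin n) k)), σ * τ = τ * σ) ∧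
      (∀ σ : ASQuot p a (fun i => (MvPowerSeries.X i : MvPowerSeries (Fin n) k)) ≃ₐ[MvPowerSeries (Fin n) k]
        ASQuot p a (fun i => (MvPowerSeries.X i : MvPowerSeries (Fin n) k)), σ ^ p = 1) ∧
      (∀ b : ASQuot p a (fun i => (MvPowerSeries.X i : MvPowerSeries (Fin n) k)),
        (∀ σ : ASQuot p a (fun i => (MvPowerSeries.X i : MvPowerSeries (Fin n) k)) ≃ₐ[MvPowerSeries (Fin n) k]
          ASQuot p a (fun i => (MvPowerSeries.X i : MvPowerSeries (Fin n) k)), σ b = b) ↔
          b ∈ Set.range (algebraMap (MvPowerSeries (Fin n) k)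
            (ASQuot p a (fun i => (MvPowerSeries.X i : MvPowerSeries (Fin n) k))))) := by
  have hp : 2 ≤ p := (Fact.out : p.Prime).two_le
  have hx : Ideal.span (Set.range fun i : Fin n => (MvPowerSeries.X i : MvPowerSeries (Fin n) k)) =
      IsLocalRing.maximalIdeal (MvPowerSeries (Fin n) k) :=
    (Groth.Agent.Lib.Helper19.maximalIdeal_mvPowerSeries_eq k n).symm
  have hc : ∀ i, a i ^ (p - 1) ∈ IsLocalRing.maximalIdeal (MvPowerSeries (Fin n) k) := by
    intro i
    apply Ideal.pow_mem_of_mem _ _ _ (by omega)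
    rw [IsLocalRing.mem_maximalIdeal, mem_nonunits_iff, MvPowerSeries.isUnit_iff_constantCoeff,
      ham i]
    exact not_isUnit_zero
  have hreg := isRegularLocalRing hp hc hx (Groth.Agent.Lib.Helper19.ringKrullDim_mvPowerSeries k n)
  have hdom : IsDomain (ASQuot p a (fun i => (MvPowerSeries.X i : MvPowerSeries (Fin n) k))) :=
    Groth.Agent.Lib.Helper5.isDomain_of_isRegularLocalRing _
  have hRdom : IsDomain (MvPowerSeries (Fin n) k) :=
    Groth.Agent.Lib.Helper5.isDomain_of_isRegularLocalRing _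
  have hchar : CharP (MvPowerSeries (Fin n) k) p :=
    charP_of_injective_algebraMap (algebraMap k (MvPowerSeries (Fin n) k)).injective p
  have hinj := shiftEquiv_injective p a (fun i => (MvPowerSeries.X i : MvPowerSeries (Fin n) k)) ha0
  have hsurj := shiftEquiv_surjective p a (fun i => (MvPowerSeries.X i : MvPowerSeries (Fin n) k)) ha0
  refine ⟨?_, ?_, ?_, ?_⟩
  · rw [← Nat.card_congr (Equiv.ofBijective _ ⟨hinj, hsurj⟩), Nat.card_fun, Nat.card_zmod,
      Nat.card_fin]
  · intro σ τ
    obtain ⟨t, rfl⟩ := hsurj σ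
    obtain ⟨s, rfl⟩ := hsurj τ
    rw [shiftEquiv_mul, shiftEquiv_mul, add_comm]
  · intro σ
    obtain ⟨t, rfl⟩ := hsurj σ
    exact shiftEquiv_pow_p p a _ t
  · intro b
    constructor
    · intro hb
      exact mem_range_of_fixed p a _ ha0 b (fun t => hb (shiftEquiv p a _ t))
    · rintro ⟨r, rfl⟩ σ
      exact σ.commutes r

open MvPolynomial in
/-- Let `k` be a field of characteristic `p > 0`, `n ≥ 2`, `R = k[[x_1, …, x_n]]`, `a_1, …, a_n ∈ R`
nonzero with zero constant term, and `A = R[u_1, …, u_n] / (u_i ^ p - a_i ^ (p-1) u_i - x_i : i =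
1..n)`. Then the group of `R`-algebra automorphisms of `A` has exactly `p ^ n` elements, is
commutative and every element has `p`-th power the identity (it is the elementary abelian group
generated by the substitutions `u_i ↦ u_i + a_i`), and an element of `A` is fixed by every
`R`-algebra automorphism if and only if it comes from `R`. (The published statement says that
`Frac(A)/Frac(R)` is Galois with group `(ℤ/pℤ)^n` and `R = A^H`; this row states it through the
`R`-algebra automorphisms of `A`.) -/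
theorem result
    (p : ℕ) [Fact p.Prime] (k : Type u) [Field k] [CharP k p] (n : ℕ) (hn : 2 ≤ n)
    (a : Fin n → MvPowerSeries (Fin n) k)
    (ha0 : ∀ i, a i ≠ 0) (ham : ∀ i, MvPowerSeries.constantCoeff (a i) = 0) :
    let R := MvPowerSeries (Fin n) k
    let I : Ideal (MvPolynomial (Fin n) R) :=
      Ideal.span (Set.range fun i : Fin n =>
        X i ^ p - C (a i ^ (p - 1)) * X i - C (MvPowerSeries.X i))
    Nat.card ((MvPolynomial (Fin n) R ⧸ I) ≃ₐ[R] (MvPolynomial (Fin n) R ⧸ I)) = p ^ n ∧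
      (∀ σ τ : (MvPolynomial (Fin n) R ⧸ I) ≃ₐ[R] (MvPolynomial (Fin n) R ⧸ I), σ * τ = τ * σ) ∧
      (∀ σ : (MvPolynomial (Fin n) R ⧸ I) ≃ₐ[R] (MvPolynomial (Fin n) R ⧸ I), σ ^ p = 1) ∧
      (∀ b : MvPolynomial (Fin n) R ⧸ I,
        (∀ σ : (MvPolynomial (Fin n) R ⧸ I) ≃ₐ[R] (MvPolynomial (Fin n) R ⧸ I), σ b = b) ↔
          b ∈ Set.range (algebraMap R (MvPolynomial (Fin n) R ⧸ I))) := by
  intro R I
  have hI : I = Groth.Agent.R2.H73.ASFamily.relIdeal
      (Groth.Agent.R2.H73.ASFamily.asFam p (fun i => a i ^ (p - 1))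
        (fun i => MvPowerSeries.X i)) := Groth.Agent.S15787.ideal_eq p k n a
  clear_value I
  subst hI
  exact main p k n a ha0 ham

end Groth.Agent.S15789
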