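import Groth.Statements.S15791
import Mathlib

set_option autoImplicit false
universe u v
open WildQuot

namespace Groth.Agent.S15791

section general

variable {A : Type u} [CommRing A]

/-- right exactness gives subadditivity of the length -/
lemma length_le_add_of_exact {N M P : Type*} [AddCommGroup N] [AddCommGroup M] [AddCommGroup P]
    [Module A N] [Module A M] [Module A P] (f : N →ₗ[A] M) (g : M →ₗ[A] P)
    (hg : Function.Surjective g) (H : Function.Exact f g) :
    Module.length A M ≤ Module.length A N + Module.length A P := by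
  rw [Module.length_eq_add_of_exact (LinearMap.ker g).subtype g (Submodule.subtype_injective _) hg
    (LinearMap.exact_subtype_ker_map g)]
  gcongr
  have hk : LinearMap.ker g = LinearMap.range f := (LinearMap.exact_iff.mp H)
  rw [hk]
  exact Module.length_le_of_surjective f.rangeRestrict f.surjective_rangeRestrict

/-- the length of `A ⧸ I` -/
noncomputable def ell (I : Ideal A) : ℕ∞ := Module.length A (A ⧸ I)

lemma ell_mul_le (J : Ideal A) (x y : A) :
    ell (J ⊔ Ideal.span {x * y}) ≤ ell (J ⊔ Ideal.span {x}) + ell (J ⊔ Ideal.span {y}) := by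
  unfold ell
  have hle : J ⊔ Ideal.span {x * y} ≤ J ⊔ Ideal.span {x} :=
    sup_le_sup_left (Ideal.span_singleton_le_span_singleton.2 (Dvd.intro _ rfl)) _
  have hcomap : J ⊔ Ideal.span {y} ≤
      Submodule.comap (LinearMap.mulLeft A x) (J ⊔ Ideal.span {x * y}) := by
    refine sup_le ?_ ?_
    · intro a ha
      simp only [Submodule.mem_comap, LinearMap.mulLeft_apply]
      exact Ideal.mem_sup_left (Ideal.mul_mem_left _ _ ha)
    · rw [Ideal.span_le]
      rintro a rfl
      simp only [SetLike.mem_coe, Submodule.mem_comap, LinearMap.mulLeft_apply]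
      exact Ideal.mem_sup_right (Ideal.subset_span rfl)
  set f : (A ⧸ (J ⊔ Ideal.span {y})) →ₗ[A] (A ⧸ (J ⊔ Ideal.span {x * y})) :=
    Submodule.mapQ _ _ (LinearMap.mulLeft A x) hcomap with hf
  set g : (A ⧸ (J ⊔ Ideal.span {x * y})) →ₗ[A] (A ⧸ (J ⊔ Ideal.span {x})) :=
    Submodule.mapQ _ _ LinearMap.id (by simpa using hle) with hg
  have hgs : Function.Surjective g := by
    intro b
    obtain ⟨a, rfl⟩ := Submodule.Quotient.mk_surjective _ b
    exact ⟨Submodule.Quotient.mk a, by simp [hg]⟩
  have hex : Function.Exact f g := by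
    intro b
    constructor
    · intro hb
      obtain ⟨a, rfl⟩ := Submodule.Quotient.mk_surjective _ b
      have : (Submodule.Quotient.mk a : A ⧸ (J ⊔ Ideal.span {x})) = 0 := by
        simpa [hg] using hb
      rw [Submodule.Quotient.mk_eq_zero] at this
      obtain ⟨j, hj, z, hz, rfl⟩ := Submodule.mem_sup.1 this
      obtain ⟨c, rfl⟩ := Ideal.mem_span_singleton'.1 hz
      refine ⟨Submodule.Quotient.mk c, ?_⟩
      simp only [hf, Submodule.mapQ_apply, LinearMap.mulLeft_apply]
      rw [eq_comm, ← sub_eq_zero, ← Submodule.Quotient.mk_sub, Submodule.Quotient.mk_eq_zero]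
      have : j + c * x - x * c = j := by ring
      rw [this]
      exact Ideal.mem_sup_left hj
    · rintro ⟨c, rfl⟩
      obtain ⟨a, rfl⟩ := Submodule.Quotient.mk_surjective _ c
      simp only [hf, hg, Submodule.mapQ_apply, LinearMap.mulLeft_apply, LinearMap.id_coe, id_eq]
      rw [Submodule.Quotient.mk_eq_zero]
      exact Ideal.mem_sup_right (Ideal.mul_mem_right _ _ (Ideal.subset_span rfl))
  have := length_le_add_of_exact f g hgs hex
  rw [add_comm]
  exact this

lemma ell_top : ell (⊤ : Ideal A) = 0 := by
  unfold ell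
  rw [Module.length_eq_zero_iff]
  exact Ideal.Quotient.subsingleton_iff.mpr rfl

lemma ell_prod_le {κ : Type*} (J : Ideal A) (s : Finset κ) (f : κ → A) :
    ell (J ⊔ Ideal.span {∏ σ ∈ s, f σ}) ≤ ∑ σ ∈ s, ell (J ⊔ Ideal.span {f σ}) := by
  classical
  induction s using Finset.induction_on with
  | empty =>
    simp only [Finset.prod_empty, Finset.sum_empty, nonpos_iff_eq_zero]
    rw [Ideal.span_singleton_one, sup_top_eq]
    exact ell_top
  | insert a s ha ih =>
    rw [Finset.prod_insert ha, Finset.sum_insert ha]
    exact (ell_mul_le J _ _).trans (by gcongr)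

lemma span_range_succ {n : ℕ} (v : Fin (n + 1) → A) :
    Ideal.span (Set.range v) = Ideal.span {v 0} ⊔ Ideal.span (Set.range fun i : Fin n => v i.succ) := by
  rw [← Ideal.span_union]
  congr 1
  ext a
  constructor
  · rintro ⟨i, rfl⟩
    refine Fin.cases ?_ (fun j => ?_) i
    · left; rfl
    · right; exact ⟨j, rfl⟩
  · rintro (h | ⟨j, rfl⟩)
    · rw [Set.mem_singleton_iff] at h
      exact ⟨0, h.symm⟩
    · exact ⟨j.succ, rfl⟩

lemma ell_prod_family_le {κ : Type*} [Fintype κ] : ∀ (n : ℕ) (J : Ideal A) (f : Fin n → κ → A),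
    ell (J ⊔ Ideal.span (Set.range fun i => ∏ σ, f i σ)) ≤
      ∑ τ : Fin n → κ, ell (J ⊔ Ideal.span (Set.range fun i => f i (τ i)))
  | 0, J, f => by
    have h0 : ∀ v : Fin 0 → A, Ideal.span (Set.range v) = ⊥ := by
      intro v
      rw [Set.range_eq_empty, Ideal.span_empty]
    simp only [h0, Finset.univ_unique, Finset.sum_singleton, le_refl]
  | (n + 1), J, f => by
    classical
    have key : ∀ (v : Fin (n + 1) → A), J ⊔ Ideal.span (Set.range v) =
        (J ⊔ Ideal.span (Set.range fun i : Fin n => v i.succ)) ⊔ Ideal.span {v 0} := by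
      intro v
      rw [span_range_succ v, sup_assoc]
      congr 1
      exact sup_comm _ _
    have key' : ∀ (v : Fin (n + 1) → A), J ⊔ Ideal.span (Set.range v) =
        (J ⊔ Ideal.span {v 0}) ⊔ Ideal.span (Set.range fun i : Fin n => v i.succ) := by
      intro v
      rw [span_range_succ v, sup_assoc]
    rw [key']
    refine (ell_prod_family_le n (J ⊔ Ideal.span {∏ σ, f 0 σ}) (fun i => f i.succ)).trans ?_
    rw [← (Fin.consEquiv (fun _ : Fin (n + 1) => κ)).sum_comp, Fintype.sum_prod_type, Finset.sum_comm]
    refine Finset.sum_le_sum fun τ' _ => ?_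
    have h1 : (J ⊔ Ideal.span {∏ σ, f 0 σ}) ⊔ Ideal.span (Set.range fun i : Fin n => f i.succ (τ' i)) =
        (J ⊔ Ideal.span (Set.range fun i : Fin n => f i.succ (τ' i))) ⊔ Ideal.span {∏ σ, f 0 σ} := by
      rw [sup_assoc, sup_assoc]
      congr 1
      exact sup_comm _ _
    rw [h1]
    refine (ell_prod_le _ Finset.univ (f 0)).trans ?_
    refine Finset.sum_le_sum fun σ _ => ?_
    rw [key]
    simp [Fin.consEquiv]

end general

/-- Let `A` be a regular local ring of Krull dimension `n` with maximal ideal `m`, let a finite group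
`G` of order `g` act on `A` by ring automorphisms, and let `u_1, …, u_n` be an admissible regular
system of parameters: for every choice `σ_1, …, σ_n ∈ G`, the elements `σ_1 u_1, …, σ_n u_n`
generate `m`. With `x_i = ∏_{σ ∈ G} σ u_i` the norms, the length of `A / (x_1, …, x_n)` is at most
`g ^ n`. (The published statement is for a complete regular local ring containing a `G`-fixed field
of representatives and asserts that the length equals `g ^ n`; this row states the upper bound for
any regular local ring.) -/
theorem result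
    (A : Type u) [CommRing A] [IsRegularLocalRing A]
    (G : Type v) [Group G] [Fintype G] [MulSemiringAction G A]
    (n : ℕ) (hn : ringKrullDim A = n) (u : Fin n → A)
    (hu : ∀ τ : Fin n → G,
      Ideal.span (Set.range fun i => τ i • u i) = IsLocalRing.maximalIdeal A) :
    Module.length A (A ⧸ Ideal.span (Set.range fun i => ∏ σ : G, σ • u i)) ≤
      (Fintype.card G ^ n : ℕ) := by
  classical
  have h := ell_prod_family_le (A := A) n ⊥ (fun i (σ : G) => σ • u i)
  simp only [bot_sup_eq] at h
  unfold ell at h
  refine h.trans ?_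
  have h1 : ∀ τ : Fin n → G,
      Module.length A (A ⧸ Ideal.span (Set.range fun i => τ i • u i)) = 1 := by
    intro τ
    rw [hu τ]
    have : IsSimpleModule A (A ⧸ IsLocalRing.maximalIdeal A) :=
      isSimpleModule_iff_isCoatom.mpr (Ideal.isMaximal_def.mp inferInstance)
    exact Module.length_eq_one A _
  simp only [h1, Finset.sum_const, Finset.card_univ, Fintype.card_fun, Fintype.card_fin,
    nsmul_eq_mul, mul_one, Nat.cast_pow, le_refl]

end Groth.Agent.S15791
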