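-- Statement S15792 (WildQuot.exists_admissible_regularSystem_of_isPGroup)
import Groth.Statements.S15792
import Groth.Agent.S15795
import Groth.Agent.Lib.Helper5RLR

set_option autoImplicit false
universe u v
open WildQuot

namespace Groth.Agent.S15792

open IsLocalRing

section FixedPoint

variable {A : Type u} [CommRing A] {G : Type v} [Group G] [MulSemiringAction G A]

/-- The ring endomorphism of `A ⧸ W` induced by `σ`, for a `G`-stable ideal `W`. -/
noncomputable def qmap (W : Ideal A) (hW : ∀ σ : G, ∀ x ∈ W, σ • x ∈ W) (σ : G) :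
    A ⧸ W →+* A ⧸ W :=
  Ideal.quotientMap W (MulSemiringAction.toRingHom G A σ)
    (by intro x hx; rw [Ideal.mem_comap]; exact hW σ x hx)

lemma qmap_mk (W : Ideal A) (hW : ∀ σ : G, ∀ x ∈ W, σ • x ∈ W) (σ : G) (a : A) :
    qmap W hW σ (Ideal.Quotient.mk W a) = Ideal.Quotient.mk W (σ • a) := by
  rw [qmap, Ideal.quotientMap_mk]
  rfl

/-- Fixed point lemma: if a finite `p`-group acts on a ring of characteristic `p`, `W` is a stable
ideal and `y ∉ W`, then some element `x ∉ W` of the additive group generated by the orbit of `y`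
is fixed modulo `W`. -/
lemma exists_fixed_mod (p : ℕ) [Fact p.Prime] [CharP A p] [Finite G] (hG : IsPGroup p G)
    (W : Ideal A) (hW : ∀ σ : G, ∀ x ∈ W, σ • x ∈ W) (y : A) (hy : y ∉ W) :
    ∃ x ∈ AddSubgroup.closure (Set.range fun σ : G => σ • y),
      x ∉ W ∧ ∀ σ : G, σ • x - x ∈ W := by
  classical
  have hpQ : ∀ q : A ⧸ W, p • q = 0 := by
    intro q
    obtain ⟨a, rfl⟩ := Ideal.Quotient.mk_surjective q
    rw [← map_nsmul, nsmul_eq_mul, CharP.cast_eq_zero, zero_mul, map_zero]
  have instMod : Module (ZMod p) (A ⧸ W) := AddCommGroup.zmodModule hpQ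
  let S : Set (A ⧸ W) := Set.range fun σ : G => Ideal.Quotient.mk W (σ • y)
  let T : Submodule (ZMod p) (A ⧸ W) := Submodule.span (ZMod p) S
  have hTstab : ∀ σ : G, ∀ q : A ⧸ W, q ∈ T → qmap W hW σ q ∈ T := by
    intro σ q hq
    induction hq using Submodule.span_induction with
    | mem q hq =>
      obtain ⟨τ, rfl⟩ := hq
      rw [qmap_mk, ← mul_smul]
      exact Submodule.subset_span ⟨σ * τ, rfl⟩
    | zero => rw [map_zero]; exact T.zero_mem
    | add a b _ _ ha hb => rw [map_add]; exact T.add_mem ha hb
    | smul c a _ ha => rw [ZMod.map_smul]; exact T.smul_mem c ha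
  have hTlift : ∀ q : A ⧸ W, q ∈ T → ∃ x ∈ AddSubgroup.closure (Set.range fun σ : G => σ • y),
      Ideal.Quotient.mk W x = q := by
    intro q hq
    induction hq using Submodule.span_induction with
    | mem q hq =>
      obtain ⟨τ, rfl⟩ := hq
      exact ⟨τ • y, AddSubgroup.subset_closure ⟨τ, rfl⟩, rfl⟩
    | zero => exact ⟨0, zero_mem _, map_zero _⟩
    | add a b _ _ ha hb =>
      obtain ⟨xa, hxa, rfl⟩ := ha
      obtain ⟨xb, hxb, rfl⟩ := hb
      exact ⟨xa + xb, add_mem hxa hxb, map_add _ _ _⟩
    | smul c a _ ha =>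
      obtain ⟨xa, hxa, rfl⟩ := ha
      refine ⟨c.val • xa, nsmul_mem hxa _, ?_⟩
      rw [map_nsmul, ← Nat.cast_smul_eq_nsmul (ZMod p), ZMod.natCast_zmod_val]
  obtain ⟨instAct, hsmul⟩ : ∃ _inst : MulAction G T,
      ∀ (σ : G) (t : T), ((σ • t : T) : A ⧸ W) = qmap W hW σ t.1 := by
    refine ⟨
    { smul := fun σ t => ⟨qmap W hW σ t.1, hTstab σ t.1 t.2⟩
      one_smul := by
        intro t
        apply Subtype.ext
        show qmap W hW 1 t.1 = t.1
        obtain ⟨a, ha⟩ := Ideal.Quotient.mk_surjective t.1
        rw [← ha, qmap_mk, one_smul]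
      mul_smul := by
        intro σ τ t
        apply Subtype.ext
        show qmap W hW (σ * τ) t.1 = qmap W hW σ (qmap W hW τ t.1)
        obtain ⟨a, ha⟩ := Ideal.Quotient.mk_surjective t.1
        rw [← ha, qmap_mk, qmap_mk, qmap_mk, mul_smul] }, fun _ _ => rfl⟩
  have : Module.Finite (ZMod p) T := Module.Finite.span_of_finite (ZMod p) (Set.finite_range _)
  have : Finite T := Module.finite_of_finite (ZMod p)
  let y0 : T := ⟨Ideal.Quotient.mk W y, Submodule.subset_span ⟨1, by simp⟩⟩
  have hy0 : y0 ≠ 0 := by
    intro h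
    apply hy
    have := congrArg Subtype.val h
    exact Ideal.Quotient.eq_zero_iff_mem.mp this
  have hcard : p ∣ Nat.card T := by
    have h1 : addOrderOf y0 = p := by
      apply addOrderOf_eq_prime
      · apply Subtype.ext
        show p • (y0 : A ⧸ W) = 0
        exact hpQ _
      · exact hy0
    have h2 := addOrderOf_dvd_natCard y0
    rwa [h1] at h2
  have h0 : (0 : T) ∈ MulAction.fixedPoints G T := by
    intro σ
    apply Subtype.ext
    rw [hsmul]
    simp
  obtain ⟨b, hb, hb0⟩ := hG.exists_fixed_point_of_prime_dvd_card_of_fixed_point T hcard h0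
  obtain ⟨x, hxcl, hxb⟩ := hTlift b.1 b.2
  refine ⟨x, hxcl, ?_, ?_⟩
  · intro hxW
    apply hb0
    apply Subtype.ext
    rw [← hxb]
    exact (Ideal.Quotient.eq_zero_iff_mem.mpr hxW).symm
  · intro σ
    have h1 := congrArg Subtype.val (hb σ)
    rw [hsmul, ← hxb, qmap_mk] at h1
    exact Ideal.Quotient.eq.mp h1

end FixedPoint

open Groth.Agent.Lib.Helper5 in
/-- Let `A` be a regular local ring of Krull dimension `n` and prime characteristic `p`, and let a
finite `p`-group `G` act on `A` by ring automorphisms inducing the identity on the residue field.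
Then there is an admissible regular system of parameters: `u_1, …, u_n ∈ A` such that for every
choice `σ_1, …, σ_n ∈ G` the elements `σ_1 u_1, …, σ_n u_n` generate the maximal ideal. (The
published statement is for a complete regular local ring containing a field of representatives fixed
by `G`; this row drops completeness and asks only that `G` act trivially on the residue field.) -/
theorem result
    (p : ℕ) [Fact p.Prime] (A : Type u) [CommRing A] [IsRegularLocalRing A] [CharP A p]
    (G : Type v) [Group G] [Finite G] [MulSemiringAction G A] (hG : IsPGroup p G)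
    (hres : ∀ (σ : G) (a : A), σ • a - a ∈ IsLocalRing.maximalIdeal A)
    (n : ℕ) (hn : ringKrullDim A = n) :
    ∃ u : Fin n → A, ∀ τ : Fin n → G,
      Ideal.span (Set.range fun i => τ i • u i) = IsLocalRing.maximalIdeal A := by
  classical
  have hreg : (maximalIdeal A).spanFinrank = n := by
    have h : ((maximalIdeal A).spanFinrank : WithBot ℕ∞) = ringKrullDim A :=
      IsRegularLocalRing.spanFinrank_maximalIdeal
    rw [hn] at h
    exact_mod_cast h
  have key : ∀ k : ℕ, k ≤ n → ∃ u : Fin k → maximalIdeal A,
      LinearIndependent (ResidueField A) (fun i => (maximalIdeal A).toCotangent (u i)) ∧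
      ∀ (σ : G) (i : Fin k), σ • (u i : A) - (u i : A) ∈
        Ideal.span {a | ∃ j, j < i ∧ a = (u j : A)} ⊔ maximalIdeal A ^ 2 := by
    intro k
    induction k with
    | zero =>
      intro _
      exact ⟨fun i => i.elim0, linearIndependent_empty_type, fun _ i => i.elim0⟩
    | succ k ih =>
      intro hk
      obtain ⟨u, hli, htri⟩ := ih (Nat.le_of_succ_le hk)
      set W : Ideal A := Ideal.span (Set.range fun i => (u i : A)) ⊔ maximalIdeal A ^ 2 with hWdef
      have hWm : W ≤ maximalIdeal A :=
        sup_le (span_range_le_maximalIdeal u) (Ideal.pow_le_self two_ne_zero)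
      have hWstab : ∀ (σ : G), ∀ x ∈ W, σ • x ∈ W := by
        intro σ
        refine S15795.comap_ge σ W _ ?_ le_sup_right
        rintro _ ⟨i, rfl⟩
        have h1 := htri σ i
        have h2 : Ideal.span {a | ∃ j, j < i ∧ a = (u j : A)} ⊔ maximalIdeal A ^ 2 ≤ W :=
          sup_le_sup_right (Ideal.span_mono (by rintro _ ⟨j, -, rfl⟩; exact ⟨j, rfl⟩)) _
        have h3 : (u i : A) ∈ W := Ideal.mem_sup_left (Ideal.subset_span ⟨i, rfl⟩)
        have := W.add_mem (h2 h1) h3
        simpa using this
      have hex : ∃ y ∈ maximalIdeal A, y ∉ W := by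
        by_contra hcon
        push Not at hcon
        have h1 : maximalIdeal A ≤ Ideal.span (Set.range fun i => (u i : A)) ⊔
            maximalIdeal A • maximalIdeal A := by
          rw [smul_eq_mul, ← pow_two]
          exact hcon
        have h2 := Submodule.le_of_le_smul_of_le_jacobson_bot (IsNoetherian.noetherian _)
          (IsLocalRing.maximalIdeal_le_jacobson ⊥) h1
        have h3 : Ideal.span (Set.range fun i => (u i : A)) = maximalIdeal A :=
          le_antisymm (span_range_le_maximalIdeal u) h2
        have h4 : (maximalIdeal A).spanFinrank ≤ k := by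
          rw [← h3]
          refine (Submodule.spanFinrank_span_le_ncard_of_finite (Set.finite_range _)).trans ?_
          have h5 : (Set.range fun i => (u i : A)) = ↑(Finset.univ.image fun i => (u i : A)) := by
            simp
          rw [h5, Set.ncard_coe_finset]
          exact Finset.card_image_le.trans (by simp)
        omega
      obtain ⟨y, hym, hyW⟩ := hex
      obtain ⟨x, hxcl, hxW, hxfix⟩ := exists_fixed_mod p hG W hWstab y hyW
      have hxm : x ∈ maximalIdeal A := by
        have h1 : AddSubgroup.closure (Set.range fun σ : G => σ • y) ≤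
            (maximalIdeal A).toAddSubgroup := by
          rw [AddSubgroup.closure_le]
          rintro _ ⟨σ, rfl⟩
          exact S15795.smul_mem_max σ hym
        exact h1 hxcl
      refine ⟨Fin.snoc u ⟨x, hxm⟩, ?_, ?_⟩
      · have h1 : (fun i => (maximalIdeal A).toCotangent
            ((Fin.snoc u ⟨x, hxm⟩ : Fin (k + 1) → maximalIdeal A) i)) =
            Fin.snoc (fun i => (maximalIdeal A).toCotangent (u i))
              ((maximalIdeal A).toCotangent ⟨x, hxm⟩) := by
          funext i
          refine Fin.lastCases ?_ (fun j => ?_) i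
          · simp
          · simp
        rw [h1, linearIndependent_finSnoc]
        refine ⟨hli, ?_⟩
        intro hmem
        rw [← cotV_span_range, mem_cotV_iff] at hmem
        obtain ⟨z, hz, hzx⟩ := hmem
        rw [Ideal.toCotangent_eq] at hzx
        apply hxW
        have h2 : x = (z : A) - ((z : A) - x) := by ring
        rw [h2]
        exact W.sub_mem (Ideal.mem_sup_left hz) (Ideal.mem_sup_right hzx)
      · intro σ i
        refine Fin.lastCases ?_ (fun j => ?_) i
        · simp only [Fin.snoc_last]
          have h1 : W ≤ Ideal.span {a | ∃ j, j < Fin.last k ∧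
              a = ((Fin.snoc u ⟨x, hxm⟩ : Fin (k + 1) → maximalIdeal A) j : A)} ⊔
                maximalIdeal A ^ 2 := by
            refine sup_le_sup_right (Ideal.span_mono ?_) _
            rintro _ ⟨j, rfl⟩
            exact ⟨Fin.castSucc j, Fin.castSucc_lt_last j, by simp⟩
          exact h1 (hxfix σ)
        · simp only [Fin.snoc_castSucc]
          have h1 : Ideal.span {a | ∃ l, l < j ∧ a = (u l : A)} ⊔ maximalIdeal A ^ 2 ≤
              Ideal.span {a | ∃ l, l < Fin.castSucc j ∧
              a = ((Fin.snoc u ⟨x, hxm⟩ : Fin (k + 1) → maximalIdeal A) l : A)} ⊔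
                maximalIdeal A ^ 2 := by
            refine sup_le_sup_right (Ideal.span_mono ?_) _
            rintro _ ⟨l, hl, rfl⟩
            exact ⟨Fin.castSucc l, Fin.castSucc_lt_castSucc_iff.mpr hl, by simp⟩
          exact h1 (htri σ j)
  obtain ⟨u, hli, htri⟩ := key n le_rfl
  have hspan : Ideal.span (Set.range fun i => (u i : A)) = maximalIdeal A := by
    have h1 : Submodule.span (ResidueField A)
        (Set.range fun i => (maximalIdeal A).toCotangent (u i)) = ⊤ := by
      apply hli.span_eq_top_of_card_eq_finrank'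
      rw [Fintype.card_fin, ← spanFinrank_maximalIdeal_eq_finrank_cotangentSpace, hreg]
    have h2 : Submodule.span A (Set.range u) = ⊤ := by
      rw [← CotangentSpace.span_image_eq_top_iff, ← Set.range_comp]
      exact h1
    have h3 := congrArg (Submodule.map (maximalIdeal A).subtype) h2
    rw [Submodule.map_span, Submodule.map_top, Submodule.range_subtype, ← Set.range_comp] at h3
    exact h3
  refine ⟨fun i => (u i : A), ?_⟩
  apply Groth.Agent.S15795.result A G hres n hn (fun i => (u i : A)) hspan
  intro σ i
  have h1 := htri σ i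
  have h2 : Ideal.span {a | ∃ j, j < i ∧ a = (u j : A)} ⊔ maximalIdeal A ^ 2 ≤
      Ideal.span ((fun i => (u i : A)) '' {j | j ≤ i}) ⊔ maximalIdeal A ^ 2 := by
    refine sup_le_sup_right (Ideal.span_mono ?_) _
    rintro _ ⟨j, hj, rfl⟩
    exact ⟨j, le_of_lt hj, rfl⟩
  have h3 : (u i : A) ∈ Ideal.span ((fun i => (u i : A)) '' {j | j ≤ i}) ⊔ maximalIdeal A ^ 2 :=
    Ideal.mem_sup_left (Ideal.subset_span ⟨i, le_refl i, rfl⟩)
  have := Ideal.add_mem _ (h2 h1) h3
  simpa using this

end Groth.Agent.S15792
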