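import Groth.Statements.S15793
import Mathlib
import Groth.Agent.Lib.Helper5RLR

set_option autoImplicit false
universe u v w
open WildQuot

namespace Groth.Agent.S15793

open IsLocalRing

section
variable {A : Type u} [CommRing A] [IsLocalRing A] {G : Type w} [Group G] [MulSemiringAction G A]

lemma smul_mem_max (σ : G) {x : A} (hx : x ∈ maximalIdeal A) : σ • x ∈ maximalIdeal A := by
  rw [mem_maximalIdeal, mem_nonunits_iff] at hx ⊢
  intro h
  apply hx
  have : IsUnit (σ⁻¹ • (σ • x)) := by
    have := h.map (MulSemiringAction.toRingEquiv G A σ⁻¹)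
    simpa using this
  simpa using this

lemma smul_mem_max_pow (σ : G) (N : ℕ) {x : A} (hx : x ∈ maximalIdeal A ^ N) :
    σ • x ∈ maximalIdeal A ^ N := by
  have h1 : maximalIdeal A ^ N ≤
      (maximalIdeal A ^ N).comap (MulSemiringAction.toRingEquiv G A σ : A →+* A) := by
    rw [← Ideal.map_le_iff_le_comap, Ideal.map_pow]
    refine Ideal.pow_right_mono ?_ N
    rw [Ideal.map_le_iff_le_comap]
    intro x hx
    exact smul_mem_max σ hx
  exact h1 hx

/-- the subring of elements moved by `σ` only inside `I` -/
def fixSubring (σ : G) (I : Ideal A) : Subring A where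
  carrier := {a | σ • a - a ∈ I}
  mul_mem' {a b} ha hb := by
    change σ • (a * b) - a * b ∈ I
    have : σ • (a * b) - a * b = σ • a * (σ • b - b) + (σ • a - a) * b := by
      rw [smul_mul']; ring
    rw [this]
    exact I.add_mem (I.mul_mem_left _ hb) (I.mul_mem_right _ ha)
  one_mem' := by
    change σ • (1 : A) - 1 ∈ I
    simp
  add_mem' {a b} ha hb := by
    change σ • (a + b) - (a + b) ∈ I
    have : σ • (a + b) - (a + b) = (σ • a - a) + (σ • b - b) := by
      rw [smul_add]; ring
    rw [this]
    exact I.add_mem ha hb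
  zero_mem' := by
    change σ • (0 : A) - 0 ∈ I
    simp
  neg_mem' {a} ha := by
    change σ • (-a) - (-a) ∈ I
    have : σ • (-a) - (-a) = -(σ • a - a) := by
      rw [smul_neg]; ring
    rw [this]
    exact I.neg_mem ha

lemma mem_fixSubring (σ : G) (I : Ideal A) (a : A) : a ∈ fixSubring σ I ↔ σ • a - a ∈ I := Iff.rfl

lemma approx (k : Type v) [Field k] [Algebra k A]
    (hk : Function.Surjective (IsLocalRing.residue A ∘ algebraMap k A))
    (B : Subring A) (hBk : ∀ c : k, algebraMap k A c ∈ B) (s : ℕ) (z : Fin s → A) (v : A)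
    (hz : ∀ i, z i ∈ B) (hvB : v ∈ B)
    (hgen : Ideal.span (Set.range z) ⊔ Ideal.span {v} = maximalIdeal A) :
    ∀ N : ℕ, ∀ a : A, ∃ b ∈ B, a - b ∈ maximalIdeal A ^ N := by
  intro N
  induction N with
  | zero =>
    intro a
    exact ⟨0, B.zero_mem, by simp⟩
  | succ N ih =>
    intro a
    obtain ⟨c, hc⟩ := hk (IsLocalRing.residue A a)
    have hm : a - algebraMap k A c ∈ maximalIdeal A := by
      rw [← IsLocalRing.residue_eq_zero_iff, map_sub, sub_eq_zero]
      exact hc.symm
    rw [← hgen] at hm
    obtain ⟨y, hy, w, hw, hyw⟩ := Submodule.mem_sup.1 hm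
    obtain ⟨f, hf⟩ := (Ideal.mem_span_range_iff_exists_fun).1 hy
    obtain ⟨g, rfl⟩ := Ideal.mem_span_singleton'.1 hw
    choose bf hbf hbf' using fun i => ih (f i)
    obtain ⟨bg, hbg, hbg'⟩ := ih g
    have hzm : ∀ i, z i ∈ maximalIdeal A := fun i => by
      rw [← hgen]; exact Ideal.mem_sup_left (Ideal.subset_span ⟨i, rfl⟩)
    have hvm : v ∈ maximalIdeal A := by
      rw [← hgen]; exact Ideal.mem_sup_right (Ideal.subset_span rfl)
    refine ⟨algebraMap k A c + ∑ i, bf i * z i + bg * v, ?_, ?_⟩
    · exact B.add_mem (B.add_mem (hBk c) (B.sum_mem fun i _ => B.mul_mem (hbf i) (hz i)))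
        (B.mul_mem hbg hvB)
    · have : a - (algebraMap k A c + ∑ i, bf i * z i + bg * v) =
          ∑ i, (f i - bf i) * z i + (g - bg) * v := by
        have h1 : a = algebraMap k A c + (∑ i, f i * z i + g * v) := by
          rw [hf, hyw]; ring
        rw [h1]
        simp only [sub_mul, Finset.sum_sub_distrib]
        ring
      rw [this, pow_succ]
      refine Ideal.add_mem _ (Ideal.sum_mem _ fun i _ => Ideal.mul_mem_mul (hbf' i) (hzm i))
        (Ideal.mul_mem_mul hbg' hvm)

end

/-- Let `A` be a complete regular local ring of Krull dimension at least `2` and prime characteristic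
`p`, with maximal ideal `m`; let `k` be a field with a ring map `k → A` whose composite with `A →
A/m` is onto (a field of representatives); let `G` be a group of order `p` acting on `A` by ring
automorphisms that fix the image of `k`, ramified precisely at the origin: for every prime `P ≠ m`,
the inertia subgroup of `P` (the elements of `G` fixing every element of `A` modulo `P`) is trivial.
Then no element of `m` outside `m ^ 2` is fixed by every element of `G`; in particular the action is
not linear in any regular system of parameters. -/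
theorem result
    (p : ℕ) [Fact p.Prime] (A : Type u) [CommRing A] [IsRegularLocalRing A] [CharP A p]
    [IsAdicComplete (IsLocalRing.maximalIdeal A) A] (hdim : 2 ≤ ringKrullDim A)
    (k : Type v) [Field k] [Algebra k A]
    (hk : Function.Surjective (IsLocalRing.residue A ∘ algebraMap k A))
    (G : Type w) [Group G] [Finite G] [MulSemiringAction G A] (hcard : Nat.card G = p)
    (hGk : ∀ (σ : G) (c : k), σ • algebraMap k A c = algebraMap k A c)
    (hram : ∀ P : Ideal A, P.IsPrime → P ≠ IsLocalRing.maximalIdeal A → P.inertia G = ⊥)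
    (v : A) (hv : v ∈ IsLocalRing.maximalIdeal A) (hv2 : v ∉ IsLocalRing.maximalIdeal A ^ 2) :
    ∃ σ : G, σ • v ≠ v := by
  classical
  by_contra hcon
  push Not at hcon
  -- a nontrivial element
  obtain ⟨σ, hσ⟩ : ∃ σ : G, σ ≠ 1 := by
    have : Nontrivial G := by
      rw [← Finite.one_lt_card_iff_nontrivial, hcard]
      exact (Fact.out : p.Prime).one_lt
    exact exists_ne 1
  -- extend `v` to a regular system of parameters
  have hli : LinearIndependent (ResidueField A)
      (fun i : Fin 1 => (maximalIdeal A).toCotangent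
        ((fun _ => (⟨v, hv⟩ : maximalIdeal A)) i)) := by
    rw [linearIndependent_unique_iff]
    rw [Ne, Ideal.toCotangent_eq_zero]
    exact hv2
  obtain ⟨s, z, hs, hsup⟩ :=
    Groth.Agent.Lib.Helper5.exists_extension_span_eq_maximalIdeal
      (fun _ : Fin 1 => (⟨v, hv⟩ : maximalIdeal A)) hli
  have hrange1 : (Set.range fun _ : Fin 1 => ((⟨v, hv⟩ : maximalIdeal A) : A)) = {v} := by
    simp [Set.range_const]
  rw [hrange1] at hsup
  set I : Ideal A := Ideal.span (Set.range fun i => σ • (z i : A) - z i) with hI
  have hIm : I ≤ maximalIdeal A := by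
    rw [hI, Ideal.span_le]
    rintro _ ⟨i, rfl⟩
    exact Ideal.sub_mem _ (smul_mem_max σ (z i).2) (z i).2
  have hIne : I ≠ ⊤ := fun h => (IsLocalRing.maximalIdeal.isMaximal A).ne_top
    (top_le_iff.mp (h ▸ hIm))
  -- every element is moved by `σ` only inside `I`
  have hall : ∀ a, σ • a - a ∈ I := by
    intro a
    have hN : ∀ N, σ • a - a ∈ I ⊔ maximalIdeal A ^ N := by
      intro N
      obtain ⟨b, hb, hab⟩ := approx k hk (fixSubring σ I)
        (fun c => by rw [mem_fixSubring, hGk, sub_self]; exact I.zero_mem) s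
        (fun i => (z i : A)) v
        (fun i => by rw [mem_fixSubring]; exact Ideal.subset_span ⟨i, rfl⟩)
        (by rw [mem_fixSubring, hcon, sub_self]; exact I.zero_mem) hsup N a
      have : σ • a - a = (σ • b - b) + (σ • (a - b) - (a - b)) := by
        rw [smul_sub]; ring
      rw [this]
      exact Ideal.add_mem _ (Ideal.mem_sup_left hb)
        (Ideal.mem_sup_right (Ideal.sub_mem _ (smul_mem_max_pow σ N hab) hab))
    -- Krull intersection theorem in `A ⧸ I`
    have hK := Ideal.iInf_pow_smul_eq_bot_of_isLocalRing (R := A) (M := A ⧸ I) (maximalIdeal A)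
      (IsLocalRing.maximalIdeal.isMaximal A).ne_top
    have hmem : (Ideal.Quotient.mk I (σ • a - a) : A ⧸ I) ∈
        (⨅ i : ℕ, maximalIdeal A ^ i • ⊤ : Submodule A (A ⧸ I)) := by
      rw [Submodule.mem_iInf]
      intro N
      obtain ⟨y, hy, w, hw, hyw⟩ := Submodule.mem_sup.1 (hN N)
      rw [← hyw, map_add, Ideal.Quotient.eq_zero_iff_mem.mpr hy, zero_add]
      have : (Ideal.Quotient.mk I w : A ⧸ I) = w • (1 : A ⧸ I) := by
        rw [Algebra.smul_def, mul_one]; rfl
      rw [this]
      exact Submodule.smul_mem_smul hw Submodule.mem_top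
    rw [hK, Submodule.mem_bot] at hmem
    exact Ideal.Quotient.eq_zero_iff_mem.mp hmem
  -- a minimal prime over `I` has height at most `s`
  obtain ⟨P, hPmin, hPm⟩ := Ideal.exists_minimalPrimes_le (J := maximalIdeal A) hIm
  have hPprime : P.IsPrime := hPmin.1.1
  have hht : P.height ≤ s := by
    have h1 := Ideal.height_le_card_of_mem_minimalPrimes_span_finset
      (p := P) (s := Finset.univ.image fun i => σ • (z i : A) - z i) (by
        have : ((Finset.univ.image fun i => σ • (z i : A) - z i : Finset A) : Set A) =
            Set.range fun i => σ • (z i : A) - z i := by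
          simp
        rw [this]; exact hPmin)
    refine h1.trans ?_
    have h2 : (Finset.univ.image fun i : Fin s => σ • (z i : A) - z i).card ≤ s := by
      refine Finset.card_image_le.trans ?_
      simp
    exact_mod_cast h2
  have hne : P ≠ maximalIdeal A := by
    intro hPeq
    have hreg : ((maximalIdeal A).spanFinrank : WithBot ℕ∞) = ringKrullDim A :=
      IsRegularLocalRing.spanFinrank_maximalIdeal
    have hh : ((maximalIdeal A).height : WithBot ℕ∞) = ringKrullDim A :=
      IsLocalRing.maximalIdeal_height_eq_ringKrullDim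
    rw [← hreg, ← hs] at hh
    rw [hPeq] at hht
    have h3 : (maximalIdeal A).height = ((1 + s : ℕ) : ℕ∞) := by exact_mod_cast hh
    rw [h3] at hht
    have : (1 + s : ℕ) ≤ s := by exact_mod_cast hht
    omega
  have hin := hram P hPprime hne
  have hσmem : σ ∈ P.inertia G := fun x => hPmin.1.2 (hall x)
  rw [hin] at hσmem
  exact hσ (Subgroup.mem_bot.1 hσmem)

end Groth.Agent.S15793
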