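import Groth.Statements.S15794
import Mathlib
import Groth.Agent.S15792
import Groth.Agent.Lib.Helper5RLR
import Groth.Agent.R2.H73GaloisDet
import Groth.Agent.R2.H73WildCore

set_option autoImplicit false
set_option linter.style.haveILetI false
universe u v w
open WildQuot

namespace Groth.Agent.S15794

open IsLocalRing Groth.Agent.R2.H73

/-- the common reduction: in the setting of the WildQuot rows, `A` is finite over `A^G`, the
invariants are Noetherian and complete, and no basis of `A` over `A^G` exists. -/
theorem core
    (p : ℕ) [Fact p.Prime] (A : Type u) [CommRing A] [IsRegularLocalRing A] [CharP A p]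
    [IsAdicComplete (IsLocalRing.maximalIdeal A) A] (hdim : 2 ≤ ringKrullDim A)
    (k : Type v) [Field k] [Algebra k A]
    (hk : Function.Surjective (IsLocalRing.residue A ∘ algebraMap k A))
    (G : Type w) [Group G] [Finite G] [MulSemiringAction G A] (hcard : Nat.card G = p)
    (hGk : ∀ (σ : G) (c : k), σ • algebraMap k A c = algebraMap k A c)
    (hram : ∀ P : Ideal A, P.IsPrime → P ≠ IsLocalRing.maximalIdeal A → P.inertia G = ⊥) :
    Module.Finite (FixedPoints.subring A G) A ∧ IsNoetherianRing (FixedPoints.subring A G) ∧
      IsAdicComplete (maximalIdeal (FixedPoints.subring A G)) (FixedPoints.subring A G) ∧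
      ¬ Module.Free (FixedPoints.subring A G) A := by
  classical
  haveI : Fintype G := Fintype.ofFinite G
  haveI : IsDomain A := Groth.Agent.Lib.Helper5.isDomain_of_isRegularLocalRing A
  obtain ⟨k', _, _, hk', hGk'⟩ := WildCore.exists_coeffField hk hGk
  have hres : ∀ (σ : G) (a : A), σ • a - a ∈ maximalIdeal A := WildCore.hres_of hk' hGk'
  have hG : IsPGroup p G := IsPGroup.of_card (n := 1) (by rw [hcard, pow_one])
  have hn : ringKrullDim A = ((maximalIdeal A).spanFinrank : ℕ) :=
    IsRegularLocalRing.spanFinrank_maximalIdeal.symm
  obtain ⟨u, hu⟩ := Groth.Agent.S15792.result p A G hG hres _ hn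
  obtain ⟨hxm, hxfix, hrad⟩ := WildCore.norm_params u hu
  obtain ⟨hfin, hnoeth, hcompl⟩ := WildCore.fixed_package hk' hGk'
    (fun i => ∏ σ : G, σ • u i) hxm hxfix hrad
  refine ⟨hfin, hnoeth, hcompl, ?_⟩
  intro hfree
  haveI := hfin
  have hG1 : 1 < Fintype.card G := by
    rw [← Nat.card_eq_fintype_card, hcard]
    exact (Fact.out : p.Prime).one_lt
  exact GaloisDet.false_of_basis hdim hres hG1 hram
    (Module.Free.chooseBasis (FixedPoints.subring A G) A)

/-- Let `A` be a complete regular local ring of Krull dimension at least `2` and prime characteristic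
`p`, with maximal ideal `m`; let `k` be a field with a ring map `k → A` whose composite with `A →
A/m` is onto; let `G` be a group of order `p` acting on `A` by ring automorphisms fixing the image
of `k` and ramified precisely at the origin (for every prime `P ≠ m`, the inertia subgroup of `P`
(the elements of `G` fixing every element modulo `P`) is trivial). Then `A` is not a flat module
over the ring of invariants `A^G`. (The published statement also asserts that `A^G ⊂ A` is local and
finite of degree `p` with trivial residue field extension; this row omits those clauses.) -/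
theorem result
    (p : ℕ) [Fact p.Prime] (A : Type u) [CommRing A] [IsRegularLocalRing A] [CharP A p]
    [IsAdicComplete (IsLocalRing.maximalIdeal A) A] (hdim : 2 ≤ ringKrullDim A)
    (k : Type v) [Field k] [Algebra k A]
    (hk : Function.Surjective (IsLocalRing.residue A ∘ algebraMap k A))
    (G : Type w) [Group G] [Finite G] [MulSemiringAction G A] (hcard : Nat.card G = p)
    (hGk : ∀ (σ : G) (c : k), σ • algebraMap k A c = algebraMap k A c)
    (hram : ∀ P : Ideal A, P.IsPrime → P ≠ IsLocalRing.maximalIdeal A → P.inertia G = ⊥) :
    ¬ Module.Flat (FixedPoints.subring A G) A := by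
  obtain ⟨hfin, -, -, hnf⟩ := core p A hdim k hk G hcard hGk hram
  intro hflat
  haveI := hfin
  exact hnf Module.free_of_flat_of_isLocalRing

end Groth.Agent.S15794
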