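import Groth.Statements.S15797
import Mathlib
import Groth.Agent.Lib.Helper5RLR3
import Groth.Agent.Lib.Helper5CM2

set_option autoImplicit false
universe u v
open WildQuot

namespace Groth.Agent.S15797

section general

variable {A : Type u} [CommRing A]

/-- the length of `A ⧸ I` -/
noncomputable def ell (I : Ideal A) : ℕ∞ := Module.length A (A ⧸ I)

/-- `x` is a non-zero-divisor modulo `I`, stated ideal-theoretically -/
def RegMod (I : Ideal A) (x : A) : Prop := ∀ a, x * a ∈ I → a ∈ I

lemma RegMod.mul {I : Ideal A} {x y : A} (hx : RegMod I x) (hy : RegMod I y) :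
    RegMod I (x * y) := by
  intro a ha
  apply hy
  apply hx
  rwa [← mul_assoc]

lemma regMod_one (I : Ideal A) : RegMod I 1 := fun a ha => by simpa using ha

lemma regMod_prod {κ : Type*} (I : Ideal A) (s : Finset κ) (f : κ → A)
    (h : ∀ σ ∈ s, RegMod I (f σ)) : RegMod I (∏ σ ∈ s, f σ) := by
  classical
  induction s using Finset.induction_on with
  | empty => simpa using regMod_one I
  | insert a s ha ih =>
    rw [Finset.prod_insert ha]
    exact (h a (Finset.mem_insert_self _ _)).mul
      (ih fun σ hσ => h σ (Finset.mem_insert_of_mem hσ))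

lemma ell_mul_ge (J : Ideal A) (x y : A) (hx : RegMod J x) :
    ell (J ⊔ Ideal.span {x}) + ell (J ⊔ Ideal.span {y}) ≤ ell (J ⊔ Ideal.span {x * y}) := by
  unfold ell
  have hle : J ⊔ Ideal.span {x * y} ≤ J ⊔ Ideal.span {x} :=
    sup_le_sup_left (Ideal.span_singleton_le_span_singleton.2 (Dvd.intro _ rfl)) _
  have hcomap : J ⊔ Ideal.span {y} ≤
      Submodule.comap (LinearMap.mulLeft A x) (J ⊔ Ideal.span {x * y}) := by
    refine sup_le ?_ ?_
    · intro a ha
      simp only [Submodule.mem_comap, LinearMap.mulLeft_apply]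
      exact Ideal.mem_sup_left (Ideal.mul_mem_left _ _ ha)
    · rw [Ideal.span_le]
      rintro a rfl
      simp only [SetLike.mem_coe, Submodule.mem_comap, LinearMap.mulLeft_apply]
      exact Ideal.mem_sup_right (Ideal.subset_span rfl)
  set f : (A ⧸ (J ⊔ Ideal.span {y})) →ₗ[A] (A ⧸ (J ⊔ Ideal.span {x * y})) :=
    Submodule.mapQ _ _ (LinearMap.mulLeft A x) hcomap with hf
  set g : (A ⧸ (J ⊔ Ideal.span {x * y})) →ₗ[A] (A ⧸ (J ⊔ Ideal.span {x})) :=
    Submodule.mapQ _ _ LinearMap.id (by simpa using hle) with hg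
  have hgs : Function.Surjective g := by
    intro b
    obtain ⟨a, rfl⟩ := Submodule.Quotient.mk_surjective _ b
    exact ⟨Submodule.Quotient.mk a, by simp [hg]⟩
  have hfi : Function.Injective f := by
    rw [injective_iff_map_eq_zero]
    intro b hb
    obtain ⟨a, rfl⟩ := Submodule.Quotient.mk_surjective _ b
    simp only [hf, Submodule.mapQ_apply, LinearMap.mulLeft_apply] at hb
    rw [Submodule.Quotient.mk_eq_zero] at hb ⊢
    obtain ⟨j, hj, z, hz, hjz⟩ := Submodule.mem_sup.1 hb
    obtain ⟨c, rfl⟩ := Ideal.mem_span_singleton'.1 hz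
    have h1 : x * (a - c * y) ∈ J := by
      have : x * (a - c * y) = j := by
        have : x * a = j + c * (x * y) := hjz.symm
        rw [mul_sub, this]; ring
      rw [this]; exact hj
    have h2 := hx _ h1
    have : a = (a - c * y) + c * y := by ring
    rw [this]
    exact Ideal.add_mem _ (Ideal.mem_sup_left h2)
      (Ideal.mem_sup_right (Ideal.mul_mem_left _ _ (Ideal.subset_span rfl)))
  have hex : Function.Exact f g := by
    intro b
    constructor
    · intro hb
      obtain ⟨a, rfl⟩ := Submodule.Quotient.mk_surjective _ b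
      have : (Submodule.Quotient.mk a : A ⧸ (J ⊔ Ideal.span {x})) = 0 := by
        simpa [hg] using hb
      rw [Submodule.Quotient.mk_eq_zero] at this
      obtain ⟨j, hj, z, hz, rfl⟩ := Submodule.mem_sup.1 this
      obtain ⟨c, rfl⟩ := Ideal.mem_span_singleton'.1 hz
      refine ⟨Submodule.Quotient.mk c, ?_⟩
      simp only [hf, Submodule.mapQ_apply, LinearMap.mulLeft_apply]
      rw [eq_comm, ← sub_eq_zero, ← Submodule.Quotient.mk_sub, Submodule.Quotient.mk_eq_zero]
      have : j + c * x - x * c = j := by ring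
      rw [this]
      exact Ideal.mem_sup_left hj
    · rintro ⟨c, rfl⟩
      obtain ⟨a, rfl⟩ := Submodule.Quotient.mk_surjective _ c
      simp only [hf, hg, Submodule.mapQ_apply, LinearMap.mulLeft_apply, LinearMap.id_coe, id_eq]
      rw [Submodule.Quotient.mk_eq_zero]
      exact Ideal.mem_sup_right (Ideal.mul_mem_right _ _ (Ideal.subset_span rfl))
  rw [Module.length_eq_add_of_exact f g hfi hgs hex, add_comm]

lemma ell_top : ell (⊤ : Ideal A) = 0 := by
  unfold ell
  rw [Module.length_eq_zero_iff]
  exact Ideal.Quotient.subsingleton_iff.mpr rfl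

lemma ell_prod_ge {κ : Type*} (J : Ideal A) (s : Finset κ) (f : κ → A)
    (h : ∀ σ ∈ s, RegMod J (f σ)) :
    ∑ σ ∈ s, ell (J ⊔ Ideal.span {f σ}) ≤ ell (J ⊔ Ideal.span {∏ σ ∈ s, f σ}) := by
  classical
  induction s using Finset.induction_on with
  | empty => simp
  | insert a s ha ih =>
    rw [Finset.prod_insert ha, Finset.sum_insert ha]
    refine le_trans ?_ (ell_mul_ge J _ _ (h a (Finset.mem_insert_self _ _)))
    gcongr
    exact ih fun σ hσ => h σ (Finset.mem_insert_of_mem hσ)

lemma span_range_succ {n : ℕ} (v : Fin (n + 1) → A) :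
    Ideal.span (Set.range v) = Ideal.span {v 0} ⊔ Ideal.span (Set.range fun i : Fin n => v i.succ) := by
  rw [← Ideal.span_union]
  congr 1
  ext a
  constructor
  · rintro ⟨i, rfl⟩
    refine Fin.cases ?_ (fun j => ?_) i
    · left; rfl
    · right; exact ⟨j, rfl⟩
  · rintro (h | ⟨j, rfl⟩)
    · rw [Set.mem_singleton_iff] at h
      exact ⟨0, h.symm⟩
    · exact ⟨j.succ, rfl⟩

lemma ell_prod_family_ge {κ : Type*} [Fintype κ] : ∀ (n : ℕ) (J : Ideal A) (f : Fin n → κ → A),
    (∀ (w : Fin n → A), (∀ i, (∃ σ, w i = f i σ) ∨ w i = ∏ σ, f i σ) → ∀ (i0 : Fin n) (σ0 : κ),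
      RegMod (J ⊔ Ideal.span (Set.range (Function.update w i0 0))) (f i0 σ0)) →
    ∑ τ : Fin n → κ, ell (J ⊔ Ideal.span (Set.range fun i => f i (τ i))) ≤
      ell (J ⊔ Ideal.span (Set.range fun i => ∏ σ, f i σ))
  | 0, J, f, _ => by
    have h0 : ∀ v : Fin 0 → A, Ideal.span (Set.range v) = ⊥ := by
      intro v
      rw [Set.range_eq_empty, Ideal.span_empty]
    simp only [h0, Finset.univ_unique, Finset.sum_singleton, le_refl]
  | (n + 1), J, f, hyp => by
    classical
    have key : ∀ (v : Fin (n + 1) → A), J ⊔ Ideal.span (Set.range v) =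
        (J ⊔ Ideal.span (Set.range fun i : Fin n => v i.succ)) ⊔ Ideal.span {v 0} := by
      intro v
      rw [span_range_succ v, sup_assoc]
      congr 1
      exact sup_comm _ _
    have key' : ∀ (v : Fin (n + 1) → A), J ⊔ Ideal.span (Set.range v) =
        (J ⊔ Ideal.span {v 0}) ⊔ Ideal.span (Set.range fun i : Fin n => v i.succ) := by
      intro v
      rw [span_range_succ v, sup_assoc]
    rw [key']
    have hyp' : ∀ (w : Fin n → A), (∀ i, (∃ σ, w i = f i.succ σ) ∨ w i = ∏ σ, f i.succ σ) →
        ∀ (i0 : Fin n) (σ0 : κ),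
        RegMod ((J ⊔ Ideal.span {∏ σ, f 0 σ}) ⊔ Ideal.span (Set.range (Function.update w i0 0)))
          (f i0.succ σ0) := by
      intro w hw i0 σ0
      have h1 := hyp (Fin.cons (∏ σ, f 0 σ) w) (by
        intro i
        refine Fin.cases ?_ (fun j => ?_) i
        · right; simp
        · simpa using hw j) i0.succ σ0
      rw [← Fin.cons_update, key'] at h1
      simpa using h1
    refine le_trans ?_ (ell_prod_family_ge n (J ⊔ Ideal.span {∏ σ, f 0 σ}) (fun i => f i.succ) hyp')
    rw [← (Fin.consEquiv (fun _ : Fin (n + 1) => κ)).sum_comp, Fintype.sum_prod_type, Finset.sum_comm]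
    refine Finset.sum_le_sum fun τ' _ => ?_
    have h1 : (J ⊔ Ideal.span {∏ σ, f 0 σ}) ⊔ Ideal.span (Set.range fun i : Fin n => f i.succ (τ' i)) =
        (J ⊔ Ideal.span (Set.range fun i : Fin n => f i.succ (τ' i))) ⊔ Ideal.span {∏ σ, f 0 σ} := by
      rw [sup_assoc, sup_assoc]
      congr 1
      exact sup_comm _ _
    rw [h1]
    have hreg : ∀ σ ∈ (Finset.univ : Finset κ),
        RegMod (J ⊔ Ideal.span (Set.range fun i : Fin n => f i.succ (τ' i))) (f 0 σ) := by
      intro σ _
      have h2 := hyp (Fin.cons (f 0 σ) (fun i : Fin n => f i.succ (τ' i))) (by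
        intro i
        refine Fin.cases ?_ (fun j => ?_) i
        · left; exact ⟨σ, by simp⟩
        · left; exact ⟨τ' j, by simp⟩) 0 σ
      rw [Fin.update_cons_zero, key'] at h2
      simpa using h2
    refine le_trans ?_ (ell_prod_ge _ Finset.univ (f 0) hreg)
    refine Finset.sum_le_sum fun σ _ => ?_
    rw [key]
    simp [Fin.consEquiv]

end general

section CM

open IsLocalRing

variable {A : Type u} [CommRing A] [IsRegularLocalRing A]

lemma ringKrullDim_quotient_eq_zero (I : Ideal A) (hI : I ≤ maximalIdeal A)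
    (hrad : maximalIdeal A ≤ I.radical) : ringKrullDim (A ⧸ I) = 0 := by
  rw [ringKrullDim_quotient]
  have hne : Nonempty (PrimeSpectrum.zeroLocus (R := A) I) :=
    ⟨⟨IsLocalRing.closedPoint A, by
      rw [PrimeSpectrum.mem_zeroLocus]; exact hI⟩⟩
  have hsub : Subsingleton (PrimeSpectrum.zeroLocus (R := A) I) := by
    have hall : ∀ p : PrimeSpectrum A, p ∈ PrimeSpectrum.zeroLocus (R := A) I →
        p = IsLocalRing.closedPoint A := by
      intro p hp
      rw [PrimeSpectrum.mem_zeroLocus] at hp
      have h1 : maximalIdeal A ≤ p.asIdeal :=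
        hrad.trans ((Ideal.IsPrime.radical_le_iff p.2).2 hp)
      have h2 : p.asIdeal = maximalIdeal A :=
        le_antisymm (IsLocalRing.le_maximalIdeal p.2.ne_top) h1
      exact PrimeSpectrum.ext h2
    constructor
    rintro ⟨p, hp⟩ ⟨q, hq⟩
    exact Subtype.ext ((hall p hp).trans (hall q hq).symm)
  exact Order.krullDim_eq_zero

lemma range_update_zero {n : ℕ} (v : Fin (n + 1) → A) (i0 : Fin (n + 1)) :
    Ideal.span (Set.range (Function.update v i0 0)) =
      Ideal.span (Set.range fun j : Fin n => v (i0.succAbove j)) := by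
  apply le_antisymm
  · rw [Ideal.span_le]
    rintro _ ⟨j, rfl⟩
    by_cases hj : j = i0
    · subst hj
      simp
    · obtain ⟨k, rfl⟩ := Fin.exists_succAbove_eq hj
      rw [Function.update_of_ne hj]
      exact Ideal.subset_span ⟨k, rfl⟩
  · rw [Ideal.span_le]
    rintro _ ⟨k, rfl⟩
    refine Ideal.subset_span ⟨i0.succAbove k, ?_⟩
    rw [Function.update_of_ne (Fin.succAbove_ne i0 k)]

lemma regMod_of_sop (n : ℕ) (hn : ringKrullDim A = n) (v : Fin n → A)
    (hv : ∀ i, v i ∈ maximalIdeal A)
    (hrad : maximalIdeal A ≤ (Ideal.span (Set.range v)).radical) (i0 : Fin n) :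
    RegMod (Ideal.span (Set.range (Function.update v i0 0))) (v i0) := by
  obtain ⟨m, rfl⟩ : ∃ m, n = m + 1 := ⟨n - 1, by have := i0.pos; omega⟩
  set ys : List A := List.ofFn (fun j : Fin m => v (i0.succAbove j)) with hys
  set xs : List A := ys ++ [v i0] with hxs
  have hCM : LocCoh.IsCohenMacaulayModule A A :=
    (Groth.Agent.Lib.Helper5.isCohenMacaulayLocalRing_of_isRegularLocalRing A).supportDim_eq_depth
  have hmem : ∀ x ∈ xs, x ∈ maximalIdeal A := by
    intro x hx
    rw [hxs, List.mem_append, List.mem_singleton] at hx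
    rcases hx with hx | rfl
    · rw [hys, List.mem_ofFn'] at hx
      obtain ⟨j, rfl⟩ := hx
      exact hv _
    · exact hv _
  have hys_span : Ideal.ofList ys = Ideal.span (Set.range (Function.update v i0 0)) := by
    rw [hys, Groth.Agent.Lib.Helper5.ofList_ofFn_eq_span_range, range_update_zero]
  have hxs_span : Ideal.ofList xs = Ideal.span (Set.range v) := by
    rw [hxs, Ideal.ofList_append, Ideal.ofList_singleton, hys_span]
    apply le_antisymm
    · refine sup_le ?_ ?_
      · rw [Ideal.span_le]
        rintro _ ⟨j, rfl⟩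
        by_cases hj : j = i0
        · subst hj; simp
        · rw [Function.update_of_ne hj]
          exact Ideal.subset_span ⟨j, rfl⟩
      · rw [Ideal.span_le]
        rintro _ rfl
        exact Ideal.subset_span ⟨i0, rfl⟩
    · rw [Ideal.span_le]
      rintro _ ⟨j, rfl⟩
      by_cases hj : j = i0
      · subst hj
        exact Ideal.mem_sup_right (Ideal.subset_span rfl)
      · refine Ideal.mem_sup_left (Ideal.subset_span ⟨j, ?_⟩)
        rw [Function.update_of_ne hj]
  have hlen : xs.length = m + 1 := by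
    rw [hxs, List.length_append, hys, List.length_ofFn, List.length_singleton]
  have hwr : RingTheory.Sequence.IsWeaklyRegular A xs := by
    rw [(Groth.Agent.Lib.Helper5.isWeaklyRegular_iff_of_isCohenMacaulayModule xs A hCM hmem).1]
    rw [smul_eq_mul, Ideal.mul_top, hxs_span, Module.supportDim_quotient_eq_ringKrullDim,
      Module.supportDim_self_eq_ringKrullDim, hn, hlen]
    rw [ringKrullDim_quotient_eq_zero _ ?_ hrad, zero_add]
    rw [Ideal.span_le]
    rintro _ ⟨j, rfl⟩
    exact hv j
  rw [hxs, RingTheory.Sequence.isWeaklyRegular_append_iff,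
    RingTheory.Sequence.isWeaklyRegular_singleton_iff] at hwr
  have hreg := hwr.2
  rw [isSMulRegular_iff_right_eq_zero_of_smul] at hreg
  intro a ha
  have h1 := hreg (Submodule.Quotient.mk a) (by
    rw [← Submodule.Quotient.mk_smul, Submodule.Quotient.mk_eq_zero, smul_eq_mul, smul_eq_mul,
      Ideal.mul_top, hys_span]
    exact ha)
  rw [Submodule.Quotient.mk_eq_zero, smul_eq_mul, Ideal.mul_top, hys_span] at h1
  exact h1

lemma smul_mem_max {G : Type v} [Group G] [MulSemiringAction G A] (σ : G) {x : A}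
    (hx : x ∈ maximalIdeal A) : σ • x ∈ maximalIdeal A := by
  rw [mem_maximalIdeal, mem_nonunits_iff] at hx ⊢
  intro h
  apply hx
  have : IsUnit (σ⁻¹ • (σ • x)) := by
    have := h.map (MulSemiringAction.toRingEquiv G A σ⁻¹)
    simpa using this
  simpa using this

end CM

/-- Let `A` be a regular local ring of Krull dimension `n` with maximal ideal `m` generated by `u_1, …,
u_n`, let a finite group `G` of order `g` act on `A` by ring automorphisms, and suppose `u` is
weakly admissible: for every choice `σ_1, …, σ_n ∈ G` the radical of `(σ_1 u_1, …, σ_n u_n)`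
contains `m`. With `x_i = ∏_{σ ∈ G} σ u_i` the norms, the length of `A / (x_1, …, x_n)` is at least
`g ^ n` (so the finite flat map from `k[[x_1, …, x_n]]` has degree at least `g ^ n`). (The published
statement is for a complete regular local ring containing a `G`-fixed field of representatives; this
row does not assume those.) -/
theorem result
    (A : Type u) [CommRing A] [IsRegularLocalRing A]
    (G : Type v) [Group G] [Fintype G] [MulSemiringAction G A]
    (n : ℕ) (hn : ringKrullDim A = n) (u : Fin n → A)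
    (hu : Ideal.span (Set.range u) = IsLocalRing.maximalIdeal A)
    (hwa : ∀ τ : Fin n → G,
      IsLocalRing.maximalIdeal A ≤ (Ideal.span (Set.range fun i => τ i • u i)).radical) :
    ((Fintype.card G ^ n : ℕ) : ℕ∞) ≤
      Module.length A (A ⧸ Ideal.span (Set.range fun i => ∏ σ : G, σ • u i)) := by
  classical
  have hum : ∀ i, u i ∈ IsLocalRing.maximalIdeal A := fun i => by
    rw [← hu]; exact Ideal.subset_span ⟨i, rfl⟩
  have hsm : ∀ (σ : G) i, σ • u i ∈ IsLocalRing.maximalIdeal A := fun σ i =>
    smul_mem_max σ (hum i)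
  have hpm : ∀ i, (∏ σ : G, σ • u i) ∈ IsLocalRing.maximalIdeal A := fun i =>
    Ideal.mem_of_dvd _ (Finset.dvd_prod_of_mem _ (Finset.mem_univ (1 : G))) (hsm 1 i)
  have hyp : ∀ (w : Fin n → A),
      (∀ i, (∃ σ : G, w i = σ • u i) ∨ w i = ∏ σ : G, σ • u i) → ∀ (i0 : Fin n) (σ0 : G),
      RegMod ((⊥ : Ideal A) ⊔ Ideal.span (Set.range (Function.update w i0 0))) (σ0 • u i0) := by
    intro w hw i0 σ0
    set v : Fin n → A := Function.update w i0 (σ0 • u i0) with hvdef
    have hv : ∀ i, v i ∈ IsLocalRing.maximalIdeal A := by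
      intro i
      by_cases hi : i = i0
      · subst hi; simp only [hvdef, Function.update_self]; exact hsm _ _
      · simp only [hvdef, Function.update_of_ne hi]
        rcases hw i with ⟨σ, h⟩ | h
        · rw [h]; exact hsm _ _
        · rw [h]; exact hpm _
    have hrad : IsLocalRing.maximalIdeal A ≤ (Ideal.span (Set.range v)).radical := by
      rw [Ideal.radical_eq_sInf]
      refine le_sInf ?_
      rintro P ⟨hP, hPprime⟩
      have hex : ∀ i, ∃ σ : G, σ • u i ∈ P := by
        intro i
        have hvi : v i ∈ P := hP (Ideal.subset_span ⟨i, rfl⟩)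
        by_cases hi : i = i0
        · subst hi
          simp only [hvdef, Function.update_self] at hvi
          exact ⟨σ0, hvi⟩
        · simp only [hvdef, Function.update_of_ne hi] at hvi
          rcases hw i with ⟨σ, h⟩ | h
          · exact ⟨σ, h ▸ hvi⟩
          · rw [h, Ideal.IsPrime.prod_mem_iff] at hvi
            obtain ⟨σ, -, hσ⟩ := hvi
            exact ⟨σ, hσ⟩
      choose τ hτ using hex
      refine (hwa τ).trans ((Ideal.IsPrime.radical_le_iff hPprime).2 ?_)
      rw [Ideal.span_le]
      rintro _ ⟨i, rfl⟩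
      exact hτ i
    have := regMod_of_sop n hn v hv hrad i0
    simpa [hvdef] using this
  have h := ell_prod_family_ge (A := A) n ⊥ (fun i (σ : G) => σ • u i) hyp
  simp only [bot_sup_eq] at h
  unfold ell at h
  refine le_trans ?_ h
  have h1 : ∀ τ : Fin n → G,
      1 ≤ Module.length A (A ⧸ Ideal.span (Set.range fun i => τ i • u i)) := by
    intro τ
    have hne : Ideal.span (Set.range fun i => τ i • u i) ≠ ⊤ := by
      intro htop
      have hle : Ideal.span (Set.range fun i => τ i • u i) ≤ IsLocalRing.maximalIdeal A := by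
        rw [Ideal.span_le]
        rintro _ ⟨i, rfl⟩
        exact hsm _ _
      rw [htop] at hle
      exact (IsLocalRing.maximalIdeal.isMaximal A).ne_top (top_le_iff.mp hle)
    have : Nontrivial (A ⧸ Ideal.span (Set.range fun i => τ i • u i)) :=
      Ideal.Quotient.nontrivial_iff.mpr hne
    exact Order.one_le_iff_pos.mpr Module.length_pos
  calc ((Fintype.card G ^ n : ℕ) : ℕ∞) = ∑ _τ : Fin n → G, (1 : ℕ∞) := by
        simp [Finset.card_univ]
    _ ≤ _ := Finset.sum_le_sum fun τ _ => h1 τ

end Groth.Agent.S15797
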