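import Groth.Statements.S15804
import Groth.Agent.R2.H73Dim2Purity

set_option autoImplicit false
universe u v w
open WildQuot

namespace Groth.Agent.S15804

/-- Let `R` be a regular local ring and `A` a normal local domain, finite over `R` (with `R → A`
injective) and with the same residue field; let a finite group `H` act faithfully on `A` by
`R`-algebra automorphisms with ring of invariants exactly `R` (so `Frac(A)/Frac(R)` is Galois with
group `H`); assume `A` has Krull dimension `2`, `H` has order `p ^ 2` for a prime `p`, and `Γ ≤ H`
is a subgroup of order `p` whose intersection with the inertia subgroup of every non-maximal prime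
of `A` is trivial (the action of `Γ` is ramified precisely at the origin). Then every nontrivial
inertia subgroup of a height-one prime of `A` has order `p`, and `H` is commutative with every
element satisfying `h ^ p = 1`, i.e. elementary abelian of order `p ^ 2`. (The published statement
is for `A` a complete regular local ring with an action ramified precisely at the origin, `R =
k[[x_1, …, x_n]]` a norm subring and `H` the Galois group of `Frac(A)/Frac(R)`, when that extension
is Galois; this row assumes only the hypotheses listed above.) -/
theorem result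
    (p : ℕ) [Fact p.Prime] (R : Type u) [CommRing R] [IsRegularLocalRing R]
    (A : Type v) [CommRing A] [IsDomain A] [IsIntegrallyClosed A] [IsLocalRing A]
    [Algebra R A] [Module.Finite R A] (hinj : Function.Injective (algebraMap R A))
    (hres : Function.Surjective (IsLocalRing.residue A ∘ algebraMap R A))
    (H : Type w) [Group H] [Finite H] [MulSemiringAction H A] [SMulCommClass H R A] [FaithfulSMul H A]
    (hfix : ∀ a : A, (∀ h : H, h • a = a) → a ∈ Set.range (algebraMap R A))
    (hdim : ringKrullDim A = 2) (hcard : Nat.card H = p ^ 2)
    (Γ : Subgroup H) (hΓ : Nat.card Γ = p)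
    (hram : ∀ P : Ideal A, P.IsPrime → P ≠ IsLocalRing.maximalIdeal A → P.inertia H ⊓ Γ = ⊥) :
    (∀ P : Ideal A, P.IsPrime → P.height = 1 → P.inertia H ≠ ⊥ → Nat.card (P.inertia H) = p) ∧
      (∀ g h : H, g * h = h * g) ∧ ∀ h : H, h ^ p = 1 := by
  classical
  have hmaxh : ∀ P : Ideal A, P.IsPrime → P.height = 1 → P ≠ IsLocalRing.maximalIdeal A := by
    intro P _ h1 hmax
    have h2 := IsLocalRing.maximalIdeal_height_eq_ringKrullDim (R := A)
    rw [← hmax, h1, hdim] at h2
    exact absurd h2 (by norm_num)
  refine ⟨?_, ?_, ?_⟩
  · intro P hP h1 hne
    exact Groth.Agent.R2.H73.Dim2Purity.card_eq_of_inf_eq_bot hcard (P.inertia H) Γ hΓ hne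
      (hram P hP (hmaxh P hP h1))
  · have := IsPGroup.isMulCommutative_of_card_eq_prime_sq hcard
    exact fun a b => mul_comm' a b
  · intro h
    have hH : 1 < Nat.card H := by
      rw [hcard]
      exact Nat.one_lt_pow (by norm_num) (Fact.out : p.Prime).one_lt
    obtain ⟨P, hP, hPmax, hPne⟩ :=
      Groth.Agent.R2.H73.Dim2Purity.exists_inertia_ne_bot hinj hres hfix hdim hH
    exact Groth.Agent.R2.H73.Dim2Purity.pow_eq_one_of_inf_eq_bot hcard (P.inertia H) Γ hΓ hPne
      (hram P hP hPmax) h

end Groth.Agent.S15804
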