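import Groth.Statements.S15806
import Groth.Agent.Lib.Helper20ZClos21
import Groth.Agent.Lib.Helper5Depth

set_option autoImplicit false
universe u
open CategoryTheory AlgebraicGeometry
open WildQuot

namespace Groth.Agent.S15806

/-- two morphisms into an affine scheme which agree on a schematically dense open are equal -/
theorem eq_of_comp_homOfLE_eq {X T : Scheme.{u}} [IsAffine T] (W V : X.Opens) (hWV : W ≤ V)
    (hinj : Function.Injective (X.homOfLE hWV).appTop.hom)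
    (g g' : (V : Scheme.{u}) ⟶ T) (h : X.homOfLE hWV ≫ g = X.homOfLE hWV ≫ g') : g = g' := by
  apply ext_of_isAffine
  have h2 : g.appTop ≫ (X.homOfLE hWV).appTop = g'.appTop ≫ (X.homOfLE hWV).appTop := by
    rw [← Scheme.Hom.comp_appTop, ← Scheme.Hom.comp_appTop, h]
  ext a
  apply hinj
  exact congrArg (fun k => k.hom a) h2

theorem injective_homOfLE_appTop {X : Scheme.{u}} (U : X.Opens) (hU : CInt.IsSchematicallyDense U)
    (V : X.Opens) :
    Function.Injective (X.homOfLE (inf_le_left : V ⊓ U ≤ V)).appTop.hom := by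
  rw [Scheme.homOfLE_appTop]
  have hb := hU V
  have key : ∀ (A B : X.Opens) (hA : A = V ⊓ U) (hB : B = V) (i : A ≤ B),
      Function.Injective (X.presheaf.map (homOfLE i).op) := by
    intro A B hA hB i
    subst hA hB
    exact hb
  refine key _ _ ?_ ?_ _
  · simp
  · simp

/-- Let `S` be a Noetherian scheme, `G_1 → S` and `G_2 → S` finite flat morphisms, and `U ⊆ S` an open
subset containing every associated point of `S`, i.e. every point whose local ring has the maximal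
ideal as an associated prime (for `S` Noetherian this says exactly that `U` is dense and contains
all points at which `S` does not satisfy Serre's condition `S_1`, which is the printed hypothesis).
If two `S`-morphisms `φ, ψ : G_1 → G_2` agree on the preimage of `U`, then `φ = ψ`. -/
theorem result
    (S G₁ G₂ : Scheme.{u}) [AlgebraicGeometry.IsNoetherian S] (f₁ : G₁ ⟶ S) (f₂ : G₂ ⟶ S)
    [AlgebraicGeometry.IsFinite f₁] [AlgebraicGeometry.Flat f₁]
    [AlgebraicGeometry.IsFinite f₂] [AlgebraicGeometry.Flat f₂]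
    (U : S.Opens)
    (hU : ∀ s : S, IsLocalRing.maximalIdeal (S.presheaf.stalk s) ∈
        associatedPrimes (S.presheaf.stalk s) (S.presheaf.stalk s) → s ∈ U)
    (φ ψ : G₁ ⟶ G₂) (hφ : φ ≫ f₂ = f₁) (hψ : ψ ≫ f₂ = f₁)
    (h : (f₁ ⁻¹ᵁ U).ι ≫ φ = (f₁ ⁻¹ᵁ U).ι ≫ ψ) : φ = ψ := by
  have : IsLocallyNoetherian G₁ := LocallyOfFiniteType.isLocallyNoetherian f₁
  have hdepth : ∀ x : G₁, x ∉ f₁ ⁻¹ᵁ U →
      (1 : ℕ∞) ≤ LocCoh.depth (G₁.presheaf.stalk x) (G₁.presheaf.stalk x) := by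
    intro x hx
    have h1 : (1 : ℕ∞) ≤ LocCoh.depth (S.presheaf.stalk (f₁ x)) (S.presheaf.stalk (f₁ x)) := by
      by_contra hlt
      have h0 : LocCoh.depth (S.presheaf.stalk (f₁ x)) (S.presheaf.stalk (f₁ x)) = 0 := by
        rw [not_le] at hlt
        exact Order.lt_one_iff.mp hlt
      exact hx (hU _
        ((Groth.Agent.Lib.Helper5.depth_eq_zero_iff_maximalIdeal_mem_associatedPrimes).mp h0))
    exact h1.trans (Groth.Agent.Lib.Helper20.ZClosLib.depth_le_depth_of_flat f₁ x)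
  have hdense : CInt.IsSchematicallyDense (f₁ ⁻¹ᵁ U) :=
    Groth.Agent.Lib.Helper20.ZClosLib.isSchematicallyDense_of_one_le_depth (f₁ ⁻¹ᵁ U) hdepth
  refine Scheme.Cover.hom_ext (G₁.openCoverOfIsOpenCover _
    (.comap (iSup_affineOpens_eq_top S) f₁.base.1)) _ _ fun Si ↦ ?_
  change (f₁ ⁻¹ᵁ Si.1).ι ≫ φ = (f₁ ⁻¹ᵁ Si.1).ι ≫ ψ
  set V : G₁.Opens := f₁ ⁻¹ᵁ Si.1 with hV
  set T : G₂.Opens := f₂ ⁻¹ᵁ Si.1 with hT
  have hTaff : IsAffineOpen T := Si.2.preimage f₂
  have : IsAffine (T : Scheme.{u}) := hTaff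
  have hφV : V ≤ φ ⁻¹ᵁ T := by
    intro x hx
    change f₂ (φ x) ∈ Si.1
    have : f₂ (φ x) = f₁ x := by
      rw [← hφ]; rfl
    rw [this]; exact hx
  have hψV : V ≤ ψ ⁻¹ᵁ T := by
    intro x hx
    change f₂ (ψ x) ∈ Si.1
    have : f₂ (ψ x) = f₁ x := by
      rw [← hψ]; rfl
    rw [this]; exact hx
  have hgg : φ.resLE T V hφV = ψ.resLE T V hψV := by
    refine eq_of_comp_homOfLE_eq (V ⊓ f₁ ⁻¹ᵁ U) V inf_le_left
      (injective_homOfLE_appTop (f₁ ⁻¹ᵁ U) hdense V) _ _ ?_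
    rw [← cancel_mono T.ι, Category.assoc, Category.assoc, Scheme.Hom.resLE_comp_ι,
      Scheme.Hom.resLE_comp_ι, Scheme.homOfLE_ι_assoc, Scheme.homOfLE_ι_assoc]
    rw [← G₁.homOfLE_ι (inf_le_right : V ⊓ f₁ ⁻¹ᵁ U ≤ f₁ ⁻¹ᵁ U), Category.assoc, Category.assoc, h]
  calc V.ι ≫ φ = φ.resLE T V hφV ≫ T.ι := (Scheme.Hom.resLE_comp_ι _ _).symm
    _ = ψ.resLE T V hψV ≫ T.ι := by rw [hgg]
    _ = V.ι ≫ ψ := Scheme.Hom.resLE_comp_ι _ _

end Groth.Agent.S15806
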