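-- Statement S15807 (WildQuot.ker_aeval_minorElts_eq_span)
import Groth.Statements.S15807
import Groth.Agent.S15787
import Groth.Agent.R2.H73ASMinorCI

set_option autoImplicit false
universe u
open WildQuot

namespace Groth.Agent.S15807

open Groth.Agent.R2.H73.ASFamily Groth.Agent.R2.H73.ASMinorCI in
/-- The ideal of the minor relations is the relation ideal of `rFam`. -/
lemma span_eq (p : ℕ) (k : Type u) [Field k] (n : ℕ) (a : Fin n → MvPowerSeries (Fin n) k)
    (μ : MvPowerSeries (Fin n) k) (i₀ : Fin n) :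
    Ideal.span (Set.range fun j : {j : Fin n // j ≠ i₀} =>
        (MvPolynomial.X j : MvPolynomial {j : Fin n // j ≠ i₀} (MvPowerSeries (Fin n) k)) ^ p -
          MvPolynomial.C ((μ * a i₀ * a j.1) ^ (p - 1)) * MvPolynomial.X j -
          MvPolynomial.C (a i₀ ^ p * MvPowerSeries.X j.1 - a j.1 ^ p * MvPowerSeries.X i₀)) =
      Groth.Agent.R2.H73.RelQuot.relIdeal
        (rFam p a (fun i => (MvPowerSeries.X i : MvPowerSeries (Fin n) k)) μ i₀) := by
  rw [Groth.Agent.R2.H73.RelQuot.relIdeal]
  congr 1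
  apply congrArg
  funext j
  rw [rFam, aeval_asPoly]
  simp only [MvPolynomial.algebraMap_eq]

/-- Pairwise coprime non-units are nonzero (when there are at least two of them). -/
lemma a_ne_zero {k : Type u} [Field k] {n : ℕ} (hn : 2 ≤ n)
    (a : Fin n → MvPowerSeries (Fin n) k)
    (ham : ∀ i, MvPowerSeries.constantCoeff (a i) = 0)
    (hcop : ∀ i j, i ≠ j → IsRelPrime (a i) (a j)) (i₀ : Fin n) : a i₀ ≠ 0 := by
  intro h0
  have : Nontrivial (Fin n) := Fin.nontrivial_iff_two_le.mpr hn
  obtain ⟨j, hj⟩ := exists_ne i₀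
  have h1 := hcop i₀ j hj.symm
  rw [h0, isRelPrime_zero_left, MvPowerSeries.isUnit_iff_constantCoeff, ham j] at h1
  exact not_isUnit_zero h1

open MvPolynomial in
/-- Let `k` be a field of characteristic `p > 0`, `n ≥ 3`, `R = k[[x_1, …, x_n]]`, `a_1, …, a_n ∈ R`
with zero constant term and pairwise coprime, `μ ∈ R` nonzero and coprime to each `a_i`, and `A =
R[u_1, …, u_n] / (u_i ^ p - (μ a_i) ^ (p-1) u_i - x_i : i = 1..n)`. Fix an index `i₀`. Then the
`R`-algebra map `R[Z_j : j ≠ i₀] → A` sending `Z_j` to the minor element `z_j = a_{i₀} u_j - a_j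
u_{i₀}` has kernel generated by the polynomials `Z_j ^ p - (μ a_{i₀} a_j) ^ (p-1) Z_j - (a_{i₀} ^ p
x_j - a_j ^ p x_{i₀})`; i.e. the complete intersection `R[Z_j] /` (these relations) maps
isomorphically onto the subring of `A` generated over `R` by the minor elements through `u_{i₀}`.
(The published statement uses the first index for `i₀` and allows `n ≥ 2`; this row allows any index
`i₀` and takes `n ≥ 3`.) -/
theorem result
    (p : ℕ) [Fact p.Prime] (k : Type u) [Field k] [CharP k p] (n : ℕ) (hn : 3 ≤ n)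
    (a : Fin n → MvPowerSeries (Fin n) k) (μ : MvPowerSeries (Fin n) k)
    (ham : ∀ i, MvPowerSeries.constantCoeff (a i) = 0) (hcop : ∀ i j, i ≠ j → IsRelPrime (a i) (a j))
    (hμ : μ ≠ 0) (hμa : ∀ i, IsRelPrime μ (a i)) (i₀ : Fin n) :
    let R := MvPowerSeries (Fin n) k
    let I : Ideal (MvPolynomial (Fin n) R) :=
      Ideal.span (Set.range fun i : Fin n =>
        X i ^ p - C ((μ * a i) ^ (p - 1)) * X i - C (MvPowerSeries.X i))
    let A := MvPolynomial (Fin n) R ⧸ I
    let u : Fin n → A := fun i => Ideal.Quotient.mk I (X i)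
    let z : {j : Fin n // j ≠ i₀} → A := fun j =>
      algebraMap R A (a i₀) * u j.1 - algebraMap R A (a j.1) * u i₀
    let r : {j : Fin n // j ≠ i₀} → MvPolynomial {j : Fin n // j ≠ i₀} R := fun j =>
      X j ^ p - C ((μ * a i₀ * a j.1) ^ (p - 1)) * X j
        - C (a i₀ ^ p * MvPowerSeries.X j.1 - a j.1 ^ p * MvPowerSeries.X i₀)
    RingHom.ker (MvPolynomial.aeval z : MvPolynomial {j : Fin n // j ≠ i₀} R →ₐ[R] A) =
      Ideal.span (Set.range r) := by
  intro R I
  have hI : I = Groth.Agent.R2.H73.ASFamily.relIdeal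
      (Groth.Agent.R2.H73.ASFamily.asFam p (fun i => (μ * a i) ^ (p - 1))
        (fun i => MvPowerSeries.X i)) := Groth.Agent.S15787.ideal_eq p k n (fun i => μ * a i)
  clear_value I
  subst hI
  intro A u z r
  have hr : Ideal.span (Set.range r) = Groth.Agent.R2.H73.RelQuot.relIdeal
      (Groth.Agent.R2.H73.ASMinorCI.rFam p a
        (fun i => (MvPowerSeries.X i : MvPowerSeries (Fin n) k)) μ i₀) := span_eq p k n a μ i₀
  have hchar : CharP (MvPowerSeries (Fin n) k) p :=
    charP_of_injective_algebraMap (algebraMap k (MvPowerSeries (Fin n) k)).injective p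
  have hinj : Function.Injective
      (algebraMap (MvPowerSeries (Fin n) k) (FractionRing (MvPowerSeries (Fin n) k))) :=
    IsFractionRing.injective _ _
  have ha₀ : algebraMap (MvPowerSeries (Fin n) k) (FractionRing (MvPowerSeries (Fin n) k)) (a i₀) ≠ 0 := by
    rw [Ne, map_eq_zero_iff _ hinj]
    exact a_ne_zero (by omega) a ham hcop i₀
  rw [hr]
  exact Groth.Agent.R2.H73.ASMinorCI.ker_phiAux p a
    (fun i => (MvPowerSeries.X i : MvPowerSeries (Fin n) k)) μ i₀
    (FractionRing (MvPowerSeries (Fin n) k)) ha₀ hinj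

end Groth.Agent.S15807
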