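-- Statement S15808 (WildQuot.minorCI_free_finrank_normal_away)
import Groth.Statements.S15808
import Groth.Agent.S15807
import Groth.Agent.R2.H73ASFamily2
import Groth.Agent.R2.H73ASMinorCI2
import Groth.Agent.Lib.Helper19PsDim
import Groth.Agent.Lib.Helper5RLR
import Groth.Agent.Lib.Helper28Catenary

set_option autoImplicit false
universe u
open WildQuot

namespace Groth.Agent.S15808

open Groth.Agent.R2.H73.ASFamily Groth.Agent.R2.H73.ASMinorCI in
/-- The statement for the library's form of the complete intersection. -/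
theorem main (p : ℕ) [Fact p.Prime] (k : Type u) [Field k] [CharP k p] (n : ℕ) (hn : 2 ≤ n)
    (a : Fin n → MvPowerSeries (Fin n) k) (μ : MvPowerSeries (Fin n) k)
    (ham : ∀ i, MvPowerSeries.constantCoeff (a i) = 0)
    (hcop : ∀ i j, i ≠ j → IsRelPrime (a i) (a j)) (hμ : μ ≠ 0) (i₀ : Fin n) :
    Module.Free (MvPowerSeries (Fin n) k)
        (CI p a (fun i => (MvPowerSeries.X i : MvPowerSeries (Fin n) k)) μ i₀) ∧
      Module.finrank (MvPowerSeries (Fin n) k)
        (CI p a (fun i => (MvPowerSeries.X i : MvPowerSeries (Fin n) k)) μ i₀) = p ^ (n - 1) ∧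
      IsDomain (CI p a (fun i => (MvPowerSeries.X i : MvPowerSeries (Fin n) k)) μ i₀) ∧
      IsIntegrallyClosed (Localization.Away (algebraMap (MvPowerSeries (Fin n) k)
        (CI p a (fun i => (MvPowerSeries.X i : MvPowerSeries (Fin n) k)) μ i₀) (μ * a i₀))) := by
  have hp : 2 ≤ p := (Fact.out : p.Prime).two_le
  have hx : Ideal.span (Set.range fun i : Fin n => (MvPowerSeries.X i : MvPowerSeries (Fin n) k)) =
      IsLocalRing.maximalIdeal (MvPowerSeries (Fin n) k) :=
    (Groth.Agent.Lib.Helper19.maximalIdeal_mvPowerSeries_eq k n).symm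
  have hc : ∀ i, (μ * a i) ^ (p - 1) ∈ IsLocalRing.maximalIdeal (MvPowerSeries (Fin n) k) := by
    intro i
    apply Ideal.pow_mem_of_mem _ _ _ (by omega)
    rw [IsLocalRing.mem_maximalIdeal, mem_nonunits_iff, MvPowerSeries.isUnit_iff_constantCoeff,
      map_mul, ham i, mul_zero]
    exact not_isUnit_zero
  have hreg := isRegularLocalRing hp hc hx (Groth.Agent.Lib.Helper19.ringKrullDim_mvPowerSeries k n)
  have hdom : IsDomain (AA p a (fun i => (MvPowerSeries.X i : MvPowerSeries (Fin n) k)) μ) :=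
    Groth.Agent.Lib.Helper5.isDomain_of_isRegularLocalRing _
  have hic : IsIntegrallyClosed (AA p a (fun i => (MvPowerSeries.X i : MvPowerSeries (Fin n) k)) μ) :=
    Groth.Agent.Lib.Helper28.isIntegrallyClosed_of_isRegularLocalRing _
  have hRdom : IsDomain (MvPowerSeries (Fin n) k) :=
    Groth.Agent.Lib.Helper5.isDomain_of_isRegularLocalRing _
  have hchar : CharP (MvPowerSeries (Fin n) k) p :=
    charP_of_injective_algebraMap (algebraMap k (MvPowerSeries (Fin n) k)).injective p
  have hinj : Function.Injective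
      (algebraMap (MvPowerSeries (Fin n) k) (FractionRing (MvPowerSeries (Fin n) k))) :=
    IsFractionRing.injective _ _
  have ha0 : a i₀ ≠ 0 := Groth.Agent.S15807.a_ne_zero hn a ham hcop i₀
  have ha₀ : algebraMap (MvPowerSeries (Fin n) k) (FractionRing (MvPowerSeries (Fin n) k)) (a i₀) ≠ 0 := by
    rw [Ne, map_eq_zero_iff _ hinj]
    exact ha0
  exact ⟨free_CI p a _ μ i₀, finrank_CI p a _ μ i₀,
    isDomain_CI p a _ μ i₀ (FractionRing (MvPowerSeries (Fin n) k)) ha₀ hinj,
    isIntegrallyClosed_away_CI p a _ μ i₀ (FractionRing (MvPowerSeries (Fin n) k)) ha₀ hinj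
      (mul_ne_zero hμ ha0)⟩

open MvPolynomial in
/-- Let `k` be a field of characteristic `p > 0`, `n ≥ 2`, `R = k[[x_1, …, x_n]]`, `a_1, …, a_n ∈ R`
with zero constant term and pairwise coprime, `μ ∈ R` nonzero and coprime to each `a_i`; fix an
index `i₀` and let `B = R[Z_j : j ≠ i₀] / (Z_j ^ p - (μ a_{i₀} a_j) ^ (p-1) Z_j - (a_{i₀} ^ p x_j -
a_j ^ p x_{i₀}) : j ≠ i₀)`, the complete-intersection ring of the minor elements through `u_{i₀}`.
Then `B` is a free `R`-module of rank `p ^ (n-1)`, `B` is an integral domain, and the localisation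
`B[1/(μ a_{i₀})]` is integrally closed. (The published statement uses the first index for `i₀`; this
row allows any index.) -/
theorem result
    (p : ℕ) [Fact p.Prime] (k : Type u) [Field k] [CharP k p] (n : ℕ) (hn : 2 ≤ n)
    (a : Fin n → MvPowerSeries (Fin n) k) (μ : MvPowerSeries (Fin n) k)
    (ham : ∀ i, MvPowerSeries.constantCoeff (a i) = 0) (hcop : ∀ i j, i ≠ j → IsRelPrime (a i) (a j))
    (hμ : μ ≠ 0) (hμa : ∀ i, IsRelPrime μ (a i)) (i₀ : Fin n) :
    let R := MvPowerSeries (Fin n) k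
    let r : {j : Fin n // j ≠ i₀} → MvPolynomial {j : Fin n // j ≠ i₀} R := fun j =>
      X j ^ p - C ((μ * a i₀ * a j.1) ^ (p - 1)) * X j
        - C (a i₀ ^ p * MvPowerSeries.X j.1 - a j.1 ^ p * MvPowerSeries.X i₀)
    let B := MvPolynomial {j : Fin n // j ≠ i₀} R ⧸ Ideal.span (Set.range r)
    Module.Free R B ∧ Module.finrank R B = p ^ (n - 1) ∧ IsDomain B ∧
      IsIntegrallyClosed (Localization.Away (algebraMap R B (μ * a i₀))) := by
  intro R r
  have hr : Ideal.span (Set.range r) = Groth.Agent.R2.H73.RelQuot.relIdeal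
      (Groth.Agent.R2.H73.ASMinorCI.rFam p a
        (fun i => (MvPowerSeries.X i : MvPowerSeries (Fin n) k)) μ i₀) :=
    Groth.Agent.S15807.span_eq p k n a μ i₀
  generalize Ideal.span (Set.range r) = I' at hr ⊢
  subst hr
  intro B
  exact main p k n hn a μ ham hcop hμ i₀

end Groth.Agent.S15808
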