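-- Statement S15810 (WildQuot.fixedPoints_orthogonalSubgroup_eq_range_aeval)
import Groth.Statements.S15810
import Groth.Agent.S15787
import Groth.Agent.S15807
import Groth.Agent.S2821
import Groth.Agent.R2.H73ASFamily2
import Groth.Agent.R2.H73ASOrtho2
import Groth.Agent.Lib.Helper19PsDim
import Groth.Agent.Lib.Helper5RLR

set_option autoImplicit false
universe u
open WildQuot

namespace Groth.Agent.S15810

/-- Power series over a field of characteristic `p` have characteristic `p`. -/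
theorem charP_mvPowerSeries (p : ℕ) (k : Type u) [Field k] [CharP k p] (n : ℕ) :
    CharP (MvPowerSeries (Fin n) k) p :=
  charP_of_injective_algebraMap (algebraMap k (MvPowerSeries (Fin n) k)).injective p

attribute [local instance] charP_mvPowerSeries

open Groth.Agent.R2.H73.ASFamily Groth.Agent.R2.H73.ASMinorCI Groth.Agent.R2.H73.ASOrtho in
/-- The statement for the library's form of the Artin–Schreier family. -/
theorem main (p : ℕ) [Fact p.Prime] (k : Type u) [Field k] [CharP k p] (n : ℕ) (hn : 2 ≤ n)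
    (a : Fin n → MvPowerSeries (Fin n) k) (μ : MvPowerSeries (Fin n) k)
    (ham : ∀ i, MvPowerSeries.constantCoeff (a i) = 0)
    (hcop : ∀ i j, i ≠ j → IsRelPrime (a i) (a j))
    (hμ : μ ≠ 0) (hμa : ∀ i, IsRelPrime μ (a i))
    (s : Fin n → ZMod p) (hs : s ≠ 0)
    (σ : Fin n → (AA p a (fun i => (MvPowerSeries.X i : MvPowerSeries (Fin n) k)) μ ≃ₐ[MvPowerSeries (Fin n) k]
      AA p a (fun i => (MvPowerSeries.X i : MvPowerSeries (Fin n) k)) μ))
    (hσ : ∀ i j, σ i (uq p (fun i => μ * a i) (fun i => (MvPowerSeries.X i : MvPowerSeries (Fin n) k)) j) =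
      uq p (fun i => μ * a i) (fun i => (MvPowerSeries.X i : MvPowerSeries (Fin n) k)) j +
        (if i = j then algebraMap (MvPowerSeries (Fin n) k) _ (μ * a i) else 0)) :
    (∀ t : AA p a (fun i => (MvPowerSeries.X i : MvPowerSeries (Fin n) k)) μ,
      (∀ ν : Fin n → ZMod p, ∑ i, ν i * s i = 0 →
          (List.ofFn (fun i : Fin n => σ i ^ (ν i).val)).prod t = t) ↔
        t ∈ (Polynomial.aeval (zs p a (fun i => (MvPowerSeries.X i : MvPowerSeries (Fin n) k)) μ s) :
          Polynomial (MvPowerSeries (Fin n) k) →ₐ[MvPowerSeries (Fin n) k] _).range) ∧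
      RingHom.ker (Polynomial.aeval (zs p a (fun i => (MvPowerSeries.X i : MvPowerSeries (Fin n) k)) μ s) :
          Polynomial (MvPowerSeries (Fin n) k) →ₐ[MvPowerSeries (Fin n) k] _) =
        Ideal.span {fs p a (fun i => (MvPowerSeries.X i : MvPowerSeries (Fin n) k)) μ s} := by
  have hp : 2 ≤ p := (Fact.out : p.Prime).two_le
  have hx : Ideal.span (Set.range fun i : Fin n => (MvPowerSeries.X i : MvPowerSeries (Fin n) k)) =
      IsLocalRing.maximalIdeal (MvPowerSeries (Fin n) k) :=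
    (Groth.Agent.Lib.Helper19.maximalIdeal_mvPowerSeries_eq k n).symm
  have hcm : ∀ i, (μ * a i) ^ (p - 1) ∈ IsLocalRing.maximalIdeal (MvPowerSeries (Fin n) k) := by
    intro i
    apply Ideal.pow_mem_of_mem _ _ _ (by omega)
    rw [IsLocalRing.mem_maximalIdeal, mem_nonunits_iff, MvPowerSeries.isUnit_iff_constantCoeff,
      map_mul, ham i, mul_zero]
    exact not_isUnit_zero
  have hreg := isRegularLocalRing hp hcm hx (Groth.Agent.Lib.Helper19.ringKrullDim_mvPowerSeries k n)
  have hdom : IsDomain (AA p a (fun i => (MvPowerSeries.X i : MvPowerSeries (Fin n) k)) μ) :=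
    Groth.Agent.Lib.Helper5.isDomain_of_isRegularLocalRing _
  obtain ⟨hRdom, hRufd⟩ := Groth.Agent.S2821.result (MvPowerSeries (Fin n) k)
  have hc : ∀ i, μ * a i ≠ 0 := fun i =>
    mul_ne_zero hμ (Groth.Agent.S15807.a_ne_zero hn a ham hcop i)
  have hd : μ * alph p a s ≠ 0 := by
    refine mul_ne_zero hμ ?_
    rw [alph, Finset.prod_ne_zero_iff]
    exact fun i _ => Groth.Agent.S15807.a_ne_zero hn a ham hcop i
  refine ⟨fun t => ?_, ker_aeval_zs p a _ μ s hd hs⟩
  rw [← fixed_iff_mem_range p a _ μ s hc hs hcop hμa t]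
  simp only [list_prod_eq p a _ μ σ hσ]

open MvPolynomial in
/-- Let `k` be a field of characteristic `p > 0`, `n ≥ 2`, `R = k[[x_1, …, x_n]]`, `a_1, …, a_n ∈ R`
with zero constant term and pairwise coprime, `μ ∈ R` nonzero and coprime to each `a_i`, `A = R[u_1,
…, u_n] / (u_i ^ p - (μ a_i) ^ (p-1) u_i - x_i : i = 1..n)`, and `σ_1, …, σ_n` the `R`-algebra
automorphisms of `A` with `σ_i u_j = u_j + δ_{ij} μ a_i` (they generate an elementary abelian group
`H` of order `p ^ n`). For a nonzero vector `s ∈ (ℤ/p)^n` let `H_s = {ν : Σ ν_i s_i = 0}`, `α =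
∏_{s_i ≠ 0} a_i`, `α_i = ∏_{j ≠ i, s_j ≠ 0} a_j`, `z_s = Σ_{s_i ≠ 0} s_i α_i u_i` and `f_s(T) = T ^
p - (μ α) ^ (p-1) T - Σ_{s_i ≠ 0} s_i α_i ^ p x_i`. Then an element of `A` is fixed by `∏_i σ_i ^
{ν_i}` for every `ν ∈ H_s` if and only if it is a polynomial over `R` in `z_s`, and the kernel of
`R[T] → A`, `T ↦ z_s`, is generated by `f_s`: the ring of invariants of `H_s` is `R[T]/(f_s)`, in
particular free of rank `p` over `R`. -/
theorem result
    (p : ℕ) [Fact p.Prime] (k : Type u) [Field k] [CharP k p] (n : ℕ) (hn : 2 ≤ n)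
    (a : Fin n → MvPowerSeries (Fin n) k) (μ : MvPowerSeries (Fin n) k)
    (ham : ∀ i, MvPowerSeries.constantCoeff (a i) = 0) (hcop : ∀ i j, i ≠ j → IsRelPrime (a i) (a j))
    (hμ : μ ≠ 0) (hμa : ∀ i, IsRelPrime μ (a i))
    (s : Fin n → ZMod p) (hs : s ≠ 0) :
    let R := MvPowerSeries (Fin n) k
    let I : Ideal (MvPolynomial (Fin n) R) :=
      Ideal.span (Set.range fun i : Fin n =>
        X i ^ p - C ((μ * a i) ^ (p - 1)) * X i - C (MvPowerSeries.X i))
    let A := MvPolynomial (Fin n) R ⧸ I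
    let u : Fin n → A := fun i => Ideal.Quotient.mk I (X i)
    let c : Fin n → R := fun i => algebraMap k R (ZMod.castHom (dvd_refl p) k (s i))
    let α : R := ∏ i ∈ Finset.univ.filter (fun i => s i ≠ 0), a i
    let αi : Fin n → R := fun i => ∏ j ∈ (Finset.univ.filter (fun j => s j ≠ 0)).erase i, a j
    let z : A := ∑ i ∈ Finset.univ.filter (fun i => s i ≠ 0), algebraMap R A (c i * αi i) * u i
    let f : Polynomial R := Polynomial.X ^ p - Polynomial.C ((μ * α) ^ (p - 1)) * Polynomial.X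
      - Polynomial.C (∑ i ∈ Finset.univ.filter (fun i => s i ≠ 0), c i * αi i ^ p * MvPowerSeries.X i)
    ∀ σ : Fin n → (A ≃ₐ[R] A),
      (∀ i j, σ i (u j) = u j + (if i = j then algebraMap R A (μ * a i) else 0)) →
      (∀ t : A, (∀ ν : Fin n → ZMod p, ∑ i, ν i * s i = 0 →
          (List.ofFn (fun i : Fin n => σ i ^ (ν i).val)).prod t = t) ↔
        t ∈ (Polynomial.aeval z : Polynomial R →ₐ[R] A).range) ∧
      RingHom.ker (Polynomial.aeval z : Polynomial R →ₐ[R] A) = Ideal.span {f} := by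
  intro R I
  have hI : I = Groth.Agent.R2.H73.ASFamily.relIdeal
      (Groth.Agent.R2.H73.ASFamily.asFam p (fun i => (μ * a i) ^ (p - 1))
        (fun i => MvPowerSeries.X i)) := Groth.Agent.S15787.ideal_eq p k n (fun i => μ * a i)
  clear_value I
  subst hI
  intro A u c α αi z f σ hσ
  have hc' : ∀ i, c i = Groth.Agent.R2.H73.ASFamily.tau p (s i) := by
    intro i
    exact RingHom.congr_fun (Subsingleton.elim
      ((algebraMap k (MvPowerSeries (Fin n) k)).comp (ZMod.castHom (dvd_refl p) k))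
      (ZMod.castHom (dvd_refl p) (MvPowerSeries (Fin n) k))) (s i)
  have hz : z = Groth.Agent.R2.H73.ASOrtho.zs p a
      (fun i => (MvPowerSeries.X i : MvPowerSeries (Fin n) k)) μ s := by
    change (∑ i ∈ Finset.univ.filter (fun i => s i ≠ 0), algebraMap R A (c i * αi i) * u i) = _
    rw [Groth.Agent.R2.H73.ASOrtho.zs]
    refine Finset.sum_congr rfl fun i _ => ?_
    rw [hc' i]
    rfl
  have hf : f = Groth.Agent.R2.H73.ASOrtho.fs p a
      (fun i => (MvPowerSeries.X i : MvPowerSeries (Fin n) k)) μ s := by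
    change (Polynomial.X ^ p - Polynomial.C ((μ * α) ^ (p - 1)) * Polynomial.X
      - Polynomial.C (∑ i ∈ Finset.univ.filter (fun i => s i ≠ 0),
          c i * αi i ^ p * MvPowerSeries.X i) : Polynomial R) = _
    rw [Groth.Agent.R2.H73.ASOrtho.fs, Groth.Agent.R2.H73.ASFamily.asPoly,
      Groth.Agent.R2.H73.ASOrtho.gs, sub_sub]
    congr 3
    refine Finset.sum_congr rfl fun i _ => ?_
    rw [hc' i]
    rfl
  rw [hz, hf]
  exact main p k n hn a μ ham hcop hμ hμa s hs σ hσ

end Groth.Agent.S15810
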