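import Groth.Statements.S15812
import Groth.Agent.R2.H73FixedGen
import Groth.Agent.R2.H73ElemAb

set_option autoImplicit false
universe u v w
open WildQuot

namespace Groth.Agent.S15812

/-- Let `R` be a regular local ring and `A` a normal local domain, finite over `R` (with `R → A`
injective) and with the same residue field; let a finite group `H` act faithfully on `A` by
`R`-algebra automorphisms with ring of invariants exactly `R` (so `Frac(A)/Frac(R)` is Galois with
group `H`); assume `H` is commutative of order `p ^ n` (`p` prime) and let `G_1, …, G_n ≤ H` be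
subgroups of order `p` generating `H`, each the inertia subgroup of some height-one prime of `A`,
such that every nontrivial inertia subgroup of a height-one prime of `A` is one of the `G_i`. Put
`G_i^⊥ =` the subgroup generated by the `G_j` with `j ≠ i`, and assume each invariant ring
`A^{G_i^⊥}` is a free `R`-module (the published statement asks them to be Cohen–Macaulay, which for
a finite algebra over the regular local ring `R` is the same). Then the subalgebras `A^{G_1^⊥}, …,
A^{G_n^⊥}` generate `A` over `R`. (The published conclusion is that the product map `A^{G_1^⊥} ⊗_R ⋯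
⊗_R A^{G_n^⊥} → A` is an isomorphism; as each factor is then free of rank `p` and `A` has rank `p ^
n` over `R`, that is equivalent to the generation statement given here. The published statement is
for `A` a complete regular local ring with an action ramified precisely at the origin, `R = k[[x_1,
…, x_n]]` a norm subring and `H` the Galois group of `Frac(A)/Frac(R)`, when that extension is
Galois; this row assumes only the hypotheses listed above.) -/
theorem result
    (p : ℕ) [Fact p.Prime] (R : Type u) [CommRing R] [IsRegularLocalRing R]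
    (A : Type v) [CommRing A] [IsDomain A] [IsIntegrallyClosed A] [IsLocalRing A]
    [Algebra R A] [Module.Finite R A] (hinj : Function.Injective (algebraMap R A))
    (hres : Function.Surjective (IsLocalRing.residue A ∘ algebraMap R A))
    (H : Type w) [Group H] [Finite H] [MulSemiringAction H A] [SMulCommClass H R A] [FaithfulSMul H A]
    (hfix : ∀ a : A, (∀ h : H, h • a = a) → a ∈ Set.range (algebraMap R A))
    (hcomm : ∀ g h : H, g * h = h * g)
    (n : ℕ) (hcard : Nat.card H = p ^ n) (Gi : Fin n → Subgroup H)
    (hGi : ∀ i, Nat.card (Gi i) = p) (hsup : (⨆ i, Gi i) = ⊤)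
    (hinert : ∀ i, ∃ P : Ideal A, P.IsPrime ∧ P.height = 1 ∧ P.inertia H = Gi i)
    (hMR3 : ∀ P : Ideal A, P.IsPrime → P.height = 1 → P.inertia H ≠ ⊥ → ∃ i, P.inertia H = Gi i)
    (hMR4 : ∀ i, Module.Free R
      (FixedPoints.subalgebra R A ↥(⨆ j ∈ (Finset.univ.erase i : Finset (Fin n)), Gi j : Subgroup H))) :
    (⨆ i, FixedPoints.subalgebra R A ↥(⨆ j ∈ (Finset.univ.erase i : Finset (Fin n)), Gi j : Subgroup H)) = ⊤ := by
  classical
  haveI : IsNoetherianRing R := inferInstance
  haveI : IsNoetherianRing A := IsNoetherianRing.of_finite R A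
  haveI : IsNoetherian R A := isNoetherian_of_isNoetherianRing_of_finite R A
  letI : CommGroup H := { ‹Group H› with mul_comm := hcomm }
  rcases Nat.eq_zero_or_pos n with hn | hn
  · -- trivial group
    subst hn
    rw [pow_zero] at hcard
    haveI : Subsingleton H := (Nat.card_eq_one_iff_unique.1 hcard).1
    rw [eq_top_iff]
    intro a _
    obtain ⟨r, rfl⟩ := hfix a (fun h => by rw [Subsingleton.elim h 1, one_smul])
    exact Subalgebra.algebraMap_mem _ r
  · haveI : Nonempty (Fin n) := ⟨⟨0, hn⟩⟩
    obtain ⟨hdisj, hinter⟩ := Groth.Agent.R2.H73.ElemAb.complement_facts p Gi hcard hGi hsup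
    have hGN : ∀ i j : Fin n, i ≠ j →
        Gi i ≤ ⨆ k ∈ (Finset.univ.erase j : Finset (Fin n)), Gi k := fun i j hij =>
      le_iSup₂ (f := fun k (_ : k ∈ (Finset.univ.erase j : Finset (Fin n))) => Gi k) i
        (Finset.mem_erase.2 ⟨hij, Finset.mem_univ i⟩)
    have hgen : ∀ i : Fin n, ∀ h : H, ∃ g ∈ Gi i,
        ∃ ν ∈ ⨆ k ∈ (Finset.univ.erase i : Finset (Fin n)), Gi k, h = g * ν := by
      intro i h
      have htop : Gi i ⊔ (⨆ k ∈ (Finset.univ.erase i : Finset (Fin n)), Gi k) = ⊤ := by
        rw [eq_top_iff, ← hsup]
        refine iSup_le (fun j => ?_)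
        by_cases hji : j = i
        · rw [hji]
          exact le_sup_left
        · exact (hGN j i hji).trans le_sup_right
      have hmem : h ∈ Gi i ⊔ (⨆ k ∈ (Finset.univ.erase i : Finset (Fin n)), Gi k) := by
        rw [htop]
        exact Subgroup.mem_top h
      obtain ⟨g, hg, ν, hν, rfl⟩ := Subgroup.mem_sup.1 hmem
      exact ⟨g, hg, ν, hν, rfl⟩
    have hfin : ∀ i : Fin n, Module.Finite R (FixedPoints.subalgebra R A
        ↥(⨆ j ∈ (Finset.univ.erase i : Finset (Fin n)), Gi j : Subgroup H)) := fun i =>
      Module.Finite.of_injective (FixedPoints.subalgebra R A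
        ↥(⨆ j ∈ (Finset.univ.erase i : Finset (Fin n)), Gi j : Subgroup H)).val.toLinearMap
        Subtype.val_injective
    have hinert' : ∀ P : Ideal A, P.IsPrime → P.height ≤ 1 → ∃ i, P.inertia H ≤ Gi i := by
      intro P hP hht
      by_cases hbot : P.inertia H = ⊥
      · exact ⟨⟨0, hn⟩, by rw [hbot]; exact bot_le⟩
      · have h1 : P.height = 1 := by
          refine le_antisymm hht ?_
          rw [Order.one_le_iff_pos, pos_iff_ne_zero, Ne, Ideal.height_eq_zero_iff_eq_bot]
          rintro rfl
          apply hbot
          rw [eq_bot_iff]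
          intro σ hσ
          rw [Subgroup.mem_bot]
          apply eq_of_smul_eq_smul (α := A)
          intro a
          have h2 : σ • a - a ∈ (⊥ : Ideal A) := hσ a
          rw [one_smul]
          exact sub_eq_zero.1 h2
        obtain ⟨i, hi⟩ := hMR3 P hP h1 hbot
        exact ⟨i, le_of_eq hi⟩
    exact Groth.Agent.R2.H73.FixedGen.iSup_fixed_eq_top Gi
      (fun i => ⨆ j ∈ (Finset.univ.erase i : Finset (Fin n)), Gi j) hinj hfix hGN hdisj hgen hinter
      hMR4 hfin hinert'

end Groth.Agent.S15812
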