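import Groth.Statements.S18944
import Mathlib.RingTheory.Regular.Flat

set_option autoImplicit false
universe u
open CategoryTheory AlgebraicGeometry
open RegImm

namespace Groth.Agent.S18944

/-- affineness of the preimage and surjectivity on sections -/
lemma affine_surj {Z X : Scheme.{u}} (i : Z ⟶ X) (U : X.Opens) (hU : IsAffineOpen U)
    (hcl : IsClosedImmersion (i ∣_ U)) :
    IsAffineOpen (i ⁻¹ᵁ U) ∧ Function.Surjective (i.app U).hom := by
  have : IsAffine (U : Scheme.{u}) := hU
  obtain ⟨haff, hs⟩ := IsClosedImmersion.isAffine_surjective_of_isAffine (i ∣_ U)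
  refine ⟨haff, ?_⟩
  rw [morphismRestrict_appTop] at hs
  have hU' : U.ι ''ᵁ ⊤ = U := by simp
  intro b
  have e2 : (i ⁻¹ᵁ U).ι ''ᵁ ((i ∣_ U) ⁻¹ᵁ ⊤) = i ⁻¹ᵁ U := by simp
  obtain ⟨a, ha⟩ := hs ((Z.presheaf.map (eqToHom e2).op).hom b)
  let a' : Γ(X, U.ι ''ᵁ ⊤) := a
  refine ⟨(X.presheaf.map (eqToHom hU'.symm).op).hom a', ?_⟩
  have hnat := i.naturality (eqToHom hU'.symm).op
  have h1 : (i.app U).hom ((X.presheaf.map (eqToHom hU'.symm).op).hom a') =
      (Z.presheaf.map ((TopologicalSpace.Opens.map i.base).map (eqToHom hU'.symm).op.unop).op).hom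
        ((i.app (U.ι ''ᵁ ⊤)).hom a') := by
    have := congrArg (fun φ => φ.hom a') hnat
    exact this
  rw [h1]
  have hinj : Function.Injective (Z.presheaf.map (eqToHom e2).op).hom := by
    have : IsIso (Z.presheaf.map (eqToHom e2).op) := inferInstance
    exact (ConcreteCategory.bijective_of_isIso (Z.presheaf.map (eqToHom e2).op)).1
  apply hinj
  rw [← ha]
  change (Z.presheaf.map _ ≫ Z.presheaf.map _).hom ((i.app (U.ι ''ᵁ ⊤)).hom a') = _
  rw [← Functor.map_comp]
  rfl

/-- the kernel of the stalk map is the localisation of the kernel on sections -/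
lemma ker_stalkMap {Z X : Scheme.{u}} (i : Z ⟶ X) (U : X.Opens) (hU : IsAffineOpen U)
    (hV : IsAffineOpen (i ⁻¹ᵁ U)) (hs : Function.Surjective (i.app U).hom) (z : Z) (hz : i z ∈ U) :
    RingHom.ker (i.stalkMap z).hom =
      (RingHom.ker (i.app U).hom).map (X.presheaf.germ U (i z) hz).hom := by
  let _ := X.presheaf.algebra_section_stalk ⟨i z, hz⟩
  have hloc := hU.isLocalization_stalk ⟨i z, hz⟩
  have hz' : z ∈ i ⁻¹ᵁ U := hz
  let _ := Z.presheaf.algebra_section_stalk ⟨z, hz'⟩
  have hlocZ := hV.isLocalization_stalk ⟨z, hz'⟩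
  have hcomp : ∀ a : Γ(X, U), (i.stalkMap z).hom (X.presheaf.germ U (i z) hz a) =
      Z.presheaf.germ (i ⁻¹ᵁ U) z hz' ((i.app U).hom a) := fun a =>
    Scheme.Hom.germ_stalkMap_apply i U z hz a
  apply le_antisymm
  · intro s hs0
    rw [RingHom.mem_ker] at hs0
    obtain ⟨a, b, rfl⟩ := IsLocalization.exists_mk'_eq
      (hU.primeIdealOf ⟨i z, hz⟩).asIdeal.primeCompl s
    have hspec := IsLocalization.mk'_spec (X.presheaf.stalk (i z)) a b
    have h1 : (i.stalkMap z).hom (X.presheaf.germ U (i z) hz a) = 0 := by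
      have : (X.presheaf.germ U (i z) hz a) = algebraMap Γ(X, U) (X.presheaf.stalk (i z)) a := rfl
      rw [this, ← hspec, map_mul, hs0, zero_mul]
    rw [hcomp] at h1
    have h2 : algebraMap Γ(Z, i ⁻¹ᵁ U) (Z.presheaf.stalk z) ((i.app U).hom a) = 0 := h1
    rw [IsLocalization.map_eq_zero_iff (hV.primeIdealOf ⟨z, hz'⟩).asIdeal.primeCompl] at h2
    obtain ⟨c, hc⟩ := h2
    obtain ⟨c', hc'⟩ := hs c.1
    have hunitZ : IsUnit (Z.presheaf.germ (i ⁻¹ᵁ U) z hz' ((i.app U).hom c')) := by
      rw [hc']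
      exact IsLocalization.map_units (Z.presheaf.stalk z) c
    rw [← hcomp] at hunitZ
    have hunitX : IsUnit (X.presheaf.germ U (i z) hz c') :=
      (isUnit_map_iff (i.stalkMap z).hom _).mp hunitZ
    have hb : IsUnit (X.presheaf.germ U (i z) hz b.1) :=
      IsLocalization.map_units (X.presheaf.stalk (i z)) b
    have hker : c' * a ∈ RingHom.ker (i.app U).hom := by
      rw [RingHom.mem_ker, map_mul, hc', hc]
    obtain ⟨u, hu⟩ := hunitX.mul hb
    have hs_eq : IsLocalization.mk' (X.presheaf.stalk (i z)) a b =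
        (X.presheaf.germ U (i z) hz (c' * a)) * ↑u⁻¹ := by
      rw [Units.eq_mul_inv_iff_mul_eq, hu, map_mul]
      have : (X.presheaf.germ U (i z) hz a) = IsLocalization.mk' (X.presheaf.stalk (i z)) a b *
          (X.presheaf.germ U (i z) hz b.1) := hspec.symm
      rw [this]
      ring
    rw [hs_eq]
    exact Ideal.mul_mem_right _ _ (Ideal.mem_map_of_mem _ hker)
  · rw [Ideal.map_le_iff_le_comap]
    intro a ha
    rw [RingHom.mem_ker] at ha
    rw [Ideal.mem_comap, RingHom.mem_ker, hcomp, ha, map_zero]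

/-- Let i : Z → X be a regular immersion of schemes (kind: successive non-zero-divisors). Then for every
point z of Z the kernel of the induced map of local rings O_{X, i(z)} → O_{Z, z} is generated by a
regular sequence of O_{X, i(z)}. (No Noetherian hypothesis; over a locally Noetherian X the converse
also holds.) -/
theorem result {Z X : Scheme.{u}} (i : Z ⟶ X)
    (h : RegImm.IsRegularImmersion RegImm.Kind.regular i) (z : Z) :
    ∃ rs : List (X.presheaf.stalk (i z)),
      RingTheory.Sequence.IsRegular (X.presheaf.stalk (i z)) rs ∧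
        RingHom.ker (i.stalkMap z).hom = Ideal.ofList rs := by
  obtain ⟨U, hzU, hcl, rs, hrs, hker⟩ := h.2 z
  have hU : IsAffineOpen U.1 := U.2
  obtain ⟨hV, hsurj⟩ := affine_surj i U.1 hU hcl
  let _ := X.presheaf.algebra_section_stalk ⟨i z, hzU⟩
  have hloc := hU.isLocalization_stalk ⟨i z, hzU⟩
  have hcomp : ∀ a : Γ(X, U.1), (i.stalkMap z).hom (X.presheaf.germ U.1 (i z) hzU a) =
      Z.presheaf.germ (i ⁻¹ᵁ U.1) z hzU ((i.app U.1).hom a) := fun a =>
    Scheme.Hom.germ_stalkMap_apply i U.1 z hzU a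
  have hreg : RingTheory.Sequence.IsRegular Γ(X, U.1) rs := hrs
  refine ⟨rs.map (algebraMap Γ(X, U.1) (X.presheaf.stalk (i z))), ?_, ?_⟩
  · refine hreg.1.isRegular_of_isLocalization_of_mem (X.presheaf.stalk (i z))
      (hU.primeIdealOf ⟨i z, hzU⟩).asIdeal ?_
    intro r hr
    by_contra hrp
    have hunit : IsUnit (algebraMap Γ(X, U.1) (X.presheaf.stalk (i z)) r) :=
      IsLocalization.map_units (X.presheaf.stalk (i z))
        (⟨r, hrp⟩ : (hU.primeIdealOf ⟨i z, hzU⟩).asIdeal.primeCompl)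
    have hrker : r ∈ RingHom.ker (i.app U.1).hom := by
      rw [hker]
      exact Ideal.subset_span hr
    rw [RingHom.mem_ker] at hrker
    have h0 : (i.stalkMap z).hom (algebraMap Γ(X, U.1) (X.presheaf.stalk (i z)) r) = 0 := by
      have := hcomp r
      rw [hrker, map_zero] at this
      exact this
    have := hunit.map (i.stalkMap z).hom
    rw [h0] at this
    exact not_isUnit_zero this
  · rw [ker_stalkMap i U.1 hU hV hsurj z hzU, hker, Ideal.map_ofList]
    rfl

end Groth.Agent.S18944
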