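import Groth.Statements.S15874
import Groth.Agent.R2.H90EtTorsor
import Groth.Agent.R2.H90H1Sch

set_option autoImplicit false
universe u
open CategoryTheory MonoidalCategory CartesianMonoidalCategory MonObj GrpObj AlgebraicGeometry
open NonAbH1

namespace Groth.Agent.S15874

/-- Let G be an étale k-group scheme and S a normal integral k-scheme with generic point η. Then an fppf
torsor over S under G whose base change to Spec κ(η) is trivial is itself trivial: the kernel of
H¹(S, G) → H¹(κ(η), G) on classes of torsors that are schemes is the base point. (The published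
statement takes S merely integral; the connected étale double cover of a nodal cubic over an
algebraically closed field is a non-trivial torsor under the constant group of order 2 that is
trivial at the generic point, so S is taken normal here, which is what the published proof uses.) -/
theorem result (k : Type u) [Field k]
    (G : Over (Spec (CommRingCat.of k))) [GrpObj G] [Etale G.hom]
    (S : Scheme.{u}) [IsIntegral S] (hS : Pi1.IsNormalScheme S) (s : S ⟶ Spec (CommRingCat.of k))
    (c : NonAbH1.H1Sch (Red.bc s G) Scheme.fppfPrecoverage)
    (hc : NonAbH1.H1Sch.bcMap (S.fromSpecResidueField (genericPoint S)) (Red.bc s G) Scheme.fppfPrecoverage c = 1) :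
    c = 1 := by
  induction c using Quot.inductionOn with
  | _ P =>
    have h1 : (P.bc (S.fromSpecResidueField (genericPoint S))).cl = 1 := hc
    obtain ⟨τ₀, hτ₀⟩ := Groth.Agent.R2.H90.H1Sch.hasSectionOver_of_cl_eq_one _ _ h1
    let τ : Spec (S.residueField (genericPoint S)) ⟶
        Limits.pullback P.X.hom (S.fromSpecResidueField (genericPoint S)) := τ₀
    have hτ : τ ≫ Limits.pullback.snd P.X.hom (S.fromSpecResidueField (genericPoint S)) = 𝟙 _ := hτ₀
    have hx : (τ ≫ Limits.pullback.fst P.X.hom (S.fromSpecResidueField (genericPoint S))) ≫ P.X.hom =
        S.fromSpecResidueField (genericPoint S) := by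
      calc (τ ≫ Limits.pullback.fst P.X.hom (S.fromSpecResidueField (genericPoint S))) ≫ P.X.hom
          = τ ≫ (Limits.pullback.fst P.X.hom (S.fromSpecResidueField (genericPoint S)) ≫ P.X.hom) :=
            Category.assoc _ _ _
        _ = τ ≫ (Limits.pullback.snd P.X.hom (S.fromSpecResidueField (genericPoint S)) ≫
              S.fromSpecResidueField (genericPoint S)) := by rw [Limits.pullback.condition]
        _ = (τ ≫ Limits.pullback.snd P.X.hom (S.fromSpecResidueField (genericPoint S))) ≫
              S.fromSpecResidueField (genericPoint S) := (Category.assoc _ _ _).symm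
        _ = S.fromSpecResidueField (genericPoint S) := by rw [hτ, Category.id_comp]
    obtain ⟨σ, hσ, -⟩ := (Groth.Agent.R2.H90.EtTorsor.main k G S hS s P).2
      (τ ≫ Limits.pullback.fst P.X.hom (S.fromSpecResidueField (genericPoint S))) hx
    exact Groth.Agent.R2.H90.H1Sch.cl_eq_one_of_hasSectionOver _ P ⟨σ, hσ⟩

end Groth.Agent.S15874
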