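import Groth.Statements.S15896
import Groth.Agent.S15062
import Groth.Agent.Lib.Helper25MuPart

set_option autoImplicit false
universe u
open scoped TensorProduct
open Hopf

namespace Groth.Agent.S15896.Aux

/-- An element invariant in the sense of the equaliser `(id ⊗ π) ∘ Δ = (- ⊗ 1)` into
`B ⊗ B/(1 - e')` is invariant in the sense `(id ⊗ e'·) (Δ x) = x ⊗ e'`. -/
theorem lTensor_mulLeft_of_mem_equalizer {R : Type*} {B : Type*} [CommRing R] [CommRing B]
    [Bialgebra R B] (e' : B) (he' : IsIdempotentElem e') (x : B)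
    (hx : x ∈ AlgHom.equalizer
      ((Algebra.TensorProduct.map (AlgHom.id R B)
        (Ideal.Quotient.mkₐ R (Ideal.span ({1 - e'} : Set B)))).comp (Bialgebra.comulAlgHom R B))
      (Algebra.TensorProduct.includeLeft : B →ₐ[R] B ⊗[R] (B ⧸ Ideal.span ({1 - e'} : Set B)))) :
    LinearMap.lTensor B (LinearMap.mulLeft R e') (Coalgebra.comul (R := R) x) = x ⊗ₜ[R] e' := by
  have hker : (Ideal.span ({1 - e'} : Set B)).restrictScalars R ≤
      LinearMap.ker (LinearMap.mulLeft R e') := by
    intro b hb
    have hb' : b ∈ Ideal.span ({1 - e'} : Set B) := hb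
    obtain ⟨r, rfl⟩ := Ideal.mem_span_singleton'.mp hb'
    rw [LinearMap.mem_ker, LinearMap.mulLeft_apply]
    have h0 : e' * (1 - e') = 0 := by rw [mul_sub, mul_one, he'.eq, sub_self]
    rw [mul_comm r, ← mul_assoc, h0, zero_mul]
  let m : (B ⧸ Ideal.span ({1 - e'} : Set B)) →ₗ[R] B :=
    ((Ideal.span ({1 - e'} : Set B)).restrictScalars R).liftQ (LinearMap.mulLeft R e') hker ∘ₗ
      (Submodule.Quotient.restrictScalarsEquiv R (Ideal.span ({1 - e'} : Set B))).symm.toLinearMap
  have hm : ∀ b : B, m (Ideal.Quotient.mk (Ideal.span ({1 - e'} : Set B)) b) = e' * b := by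
    intro b
    rfl
  rw [AlgHom.mem_equalizer] at hx
  have hy' := congrArg (LinearMap.lTensor B m) hx
  have key : ∀ z : B ⊗[R] B, LinearMap.lTensor B m
      ((Algebra.TensorProduct.map (AlgHom.id R B)
        (Ideal.Quotient.mkₐ R (Ideal.span ({1 - e'} : Set B)))) z) =
      LinearMap.lTensor B (LinearMap.mulLeft R e') z := by
    intro z
    induction z using TensorProduct.induction_on with
    | zero => simp
    | add x y hx hy => simp only [map_add, hx, hy]
    | tmul x y =>
      simp only [Algebra.TensorProduct.map_tmul, LinearMap.lTensor_tmul, AlgHom.coe_id, id_eq,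
        Ideal.Quotient.mkₐ_eq_mk, hm, LinearMap.mulLeft_apply]
  rw [AlgHom.comp_apply, key] at hy'
  rw [Bialgebra.comulAlgHom_apply] at hy'
  rw [hy', Algebra.TensorProduct.includeLeft_apply, LinearMap.lTensor_tmul]
  congr 1
  have := hm 1
  rw [mul_one] at this
  exact this

end Groth.Agent.S15896.Aux

namespace Groth.Agent.S15896

/-- Let R be a henselian Noetherian local ring and A a commutative and cocommutative Hopf algebra over R
which is finitely generated and projective as an R-module (a finite flat commutative R-group G =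
Spec A). Let e ∈ A be an idempotent with ε(e) = 1 such that the ideal (1 − e) is a Hopf ideal and A⁰
= A/(1 − e) is a local ring, projective over R, with cocommutative quotient structure (G⁰ = Spec A⁰
is the connected component of the unit section). Let B = Hom_R(A⁰, R) be the dual Hopf algebra (the
Cartier dual (G⁰)^D) and e' ∈ B an idempotent with ε(e') = 1 and B/(1 − e') local (the unit
component of (G⁰)^D). Say that x ∈ B is invariant when (id ⊗ (multiplication by e'))(Δ x) = x ⊗ e',
i.e. x is invariant under translation by the unit component of (G⁰)^D, so that the invariant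
elements form the Hopf algebra of the maximal étale quotient of (G⁰)^D; the ideal in A⁰ of the
closed subgroup G_μ ⊆ G⁰ ⊆ G consists of the elements annihilated by every invariant x (G_μ is the
Cartier dual of the étale quotient of (G⁰)^D, a connected multiplicative subgroup of G). Then G_μ is
the largest connected multiplicative closed subgroup of G: for every Hopf ideal J of A such that A/J
is a local ring, projective over R, cocommutative, and has étale dual Hopf algebra Hom_R(A/J, R) (H
= Spec A/J a connected closed subgroup with étale Cartier dual), every a ∈ A whose image in A⁰ is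
annihilated by all invariant x lies in J, i.e. H ⊆ G_μ. -/
theorem result (R : Type u) [CommRing R]
    [HenselianLocalRing R] [IsNoetherianRing R] (A : Type u) [CommRing A] [HopfAlgebra R A] [Coalgebra.IsCocomm R A]
    [Module.Finite R A] [Module.Projective R A] (e : A) (he : IsIdempotentElem e)
    (hε : Bialgebra.counitAlgHom R A e = 1) [(Ideal.span ({1 - e} : Set A)).IsHopfIdeal R] [IsLocalRing (A ⧸ Ideal.span ({1 - e} : Set A))]
    [Module.Projective R (A ⧸ Ideal.span ({1 - e} : Set A))] [Coalgebra.IsCocomm R (A ⧸ Ideal.span ({1 - e} : Set A))]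
    (e' : CartDual.D R (A ⧸ Ideal.span ({1 - e} : Set A))) (he' : IsIdempotentElem e')
    (hε' : Bialgebra.counitAlgHom R (CartDual.D R (A ⧸ Ideal.span ({1 - e} : Set A))) e' = 1)
    [IsLocalRing (CartDual.D R (A ⧸ Ideal.span ({1 - e} : Set A)) ⧸ Ideal.span ({1 - e'} : Set (CartDual.D R (A ⧸ Ideal.span ({1 - e} : Set A)))))]
    (J : Ideal A) [J.IsHopfIdeal R] [IsLocalRing (A ⧸ J)] [Module.Projective R (A ⧸ J)]
    [Coalgebra.IsCocomm R (A ⧸ J)] [Algebra.Etale R (CartDual.D R (A ⧸ J))]
    (a : A) (ha : ∀ x : CartDual.D R (A ⧸ Ideal.span ({1 - e} : Set A)), LinearMap.lTensor (CartDual.D R (A ⧸ Ideal.span ({1 - e} : Set A))) (LinearMap.mulLeft R e') (Coalgebra.comul (R := R) x) = x ⊗ₜ[R] e' → x (Ideal.Quotient.mk (Ideal.span ({1 - e} : Set A)) a) = 0) :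
    a ∈ J := by
  classical
  -- Step 1: `1 - e ∈ J`
  have h3 := (Groth.Agent.S15062.result R A e he hε).2 (A ⧸ J) (Bialgebra.Quotient.mkBialgHom J)
  have h1e : 1 - e ∈ J := by
    rw [← Ideal.Quotient.eq_zero_iff_mem, map_sub, map_one]
    have : Ideal.Quotient.mk J e = 1 := h3
    rw [this, sub_self]
  have hle : ∀ b ∈ Ideal.span ({1 - e} : Set A), (BialgHom.id R A) b ∈ J := by
    intro b hb
    obtain ⟨r, rfl⟩ := Ideal.mem_span_singleton'.mp hb
    exact Ideal.mul_mem_left _ _ h1e
  -- Step 2: the quotient map `A⁰ → A/J`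
  let q : (A ⧸ Ideal.span ({1 - e} : Set A)) →ₐc[R] (A ⧸ J) :=
    Groth.Agent.Lib.Helper25.MuPart.quotBialgHom J (Ideal.span ({1 - e} : Set A)) (BialgHom.id R A) hle
  have hq : ∀ b : A, q (Ideal.Quotient.mk _ b) = Ideal.Quotient.mk J b := fun b => rfl
  -- Step 3: the image of the transpose lies in the invariants
  have h2 := (Groth.Agent.S15062.result R (CartDual.D R (A ⧸ Ideal.span ({1 - e} : Set A))) e' he' hε').1
    (CartDual.D R (A ⧸ J)) (CartDual.transpose R q)
  -- Step 4: conclude
  rw [← Ideal.Quotient.eq_zero_iff_mem]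
  rw [← Module.forall_dual_apply_eq_zero_iff R]
  intro φ
  have := ha _ (Aux.lTensor_mulLeft_of_mem_equalizer e' he' _ (h2 (WithConv.toConv φ)))
  rw [CartDual.transpose_apply, hq] at this
  exact this

end Groth.Agent.S15896
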