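import Groth.Statements.S15939
import Groth.Agent.R2.H79PrimeAlg

set_option autoImplicit false
universe u
open CAlg

namespace Groth.Agent.S15939

open Polynomial in
/-- Let κ be a field and A a commutative κ-algebra whose only κ-subalgebras are the image of κ and A
itself, these two being different. Then A is finite-dimensional over κ, and A is isomorphic as a
κ-algebra to the dual numbers over κ, or to κ × κ, or A is a field which is either separable over κ
or isomorphic to κ[X]/(X^p - a) with p the (positive) characteristic of κ and a an element of κ that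
is not a p-th power. (The published statement also records that these four cases exclude one
another; that part is not restated.) -/
theorem result (κ A : Type u) [Field κ] [CommRing A] [Algebra κ A]
    (h : IsSimpleOrder (Subalgebra κ A)) :
    FiniteDimensional κ A ∧
    (Nonempty (A ≃ₐ[κ] DualNumber κ) ∨ Nonempty (A ≃ₐ[κ] (κ × κ)) ∨
      (IsField A ∧ (Algebra.IsSeparable κ A ∨
        ∃ (p : ℕ) (a : κ), p.Prime ∧ CharP κ p ∧ (∀ b : κ, b ^ p ≠ a) ∧
          Nonempty (A ≃ₐ[κ] AdjoinRoot (X ^ p - C a))))) := by
  refine ⟨Groth.Agent.R2.H79.PrimeAlg.finite_of_simple h, ?_⟩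
  by_cases hF : IsField A
  · exact Or.inr (Or.inr ⟨hF, Groth.Agent.R2.H79.PrimeAlg.field_case h hF⟩)
  · rcases Groth.Agent.R2.H79.PrimeAlg.nonfield_case h hF with h1 | h1
    · exact Or.inl h1
    · exact Or.inr (Or.inl h1)

end Groth.Agent.S15939
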