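import Groth.Statements.S15963
import Groth.Agent.R2.H32SNNormal
import Groth.Agent.S7421
import Groth.Agent.S0415

set_option autoImplicit false
universe u
open HTop

namespace Groth.Agent.S15963

open CategoryTheory AlgebraicGeometry in
/-- Let S be a reduced Noetherian scheme, π : S̃ → S its normalisation (S̃ has integrally closed local
domains, π is integral and an isomorphism over a dense open subset of S with dense preimage), ν : X'
→ S a seminormalization of S (X' seminormal, ν a universal homeomorphism with residue-field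
isomorphisms, initial among such) and g : S̃ → X' a morphism with g followed by ν equal to π. Then ν
and g are scheme-theoretically dominant (the structure sheaf maps injectively into the direct
image), and if π is finite then so are ν and g. -/
theorem result {S Sn X' : Scheme.{u}}
    [IsNoetherian S] [IsReduced S]
    (π : Sn ⟶ S) [IsIntegralHom π] (hn : Pi1.IsNormalScheme Sn)
    (hbir : ∃ U : S.Opens, Dense (U : Set S) ∧ Dense ((π ⁻¹ᵁ U : Sn.Opens) : Set Sn) ∧ IsIso (π ∣_ U))
    (ν : X' ⟶ S) (hν : HTop.IsSeminormalization ν) (hX' : HTop.IsSeminormal X')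
    (g : Sn ⟶ X') (hg : g ≫ ν = π) :
    (IsSchemeTheoreticallyDominant ν ∧ IsSchemeTheoreticallyDominant g) ∧
      (IsFinite π → IsFinite ν ∧ IsFinite g) := by
  obtain ⟨U, hUd, -, hiso⟩ := hbir
  have hνUH : FlatMor.IsUnivHomeo ν := hν.1.1
  obtain ⟨hνint, hνinj, hνsurj⟩ := (Groth.Agent.S0415.result ν).mp hνUH
  have hνhomeo : IsHomeomorph ν := hνUH (𝟙 X') (𝟙 S) ν (IsPullback.id_vert ν)
  -- ν is scheme-theoretically dominant
  have hνdom : IsSchemeTheoreticallyDominant ν := IsSchemeTheoreticallyDominant.of_isDominant ν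
  -- X' is reduced
  have : IsReduced X' := Groth.Agent.S7421.result.2 X' hX'
  -- π is dominant
  have hπdom : IsDominant π := by
    refine ⟨?_⟩
    have hsub : (U : Set S) ⊆ Set.range π := by
      intro s hs
      have hsurj : Function.Surjective (π ∣_ U) := (π ∣_ U).surjective
      obtain ⟨y, hy⟩ := hsurj ⟨s, hs⟩
      refine ⟨((π ⁻¹ᵁ U).ι y), ?_⟩
      have h1 : U.ι ((π ∣_ U) y) = s := by rw [hy]; rfl
      rw [← h1, ← Scheme.Hom.comp_apply, ← Scheme.Hom.comp_apply, morphismRestrict_ι]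
    exact hUd.mono hsub
  -- g is dominant
  have hgdom : IsDominant g := by
    refine ⟨?_⟩
    have hπ' : DenseRange π := hπdom.1
    rw [DenseRange] at hπ' ⊢
    have hrange : Set.range π = ν '' Set.range g := by
      rw [← Set.range_comp]
      subst hg
      ext s; simp
    rw [hrange] at hπ'
    have : Dense (ν ⁻¹' (ν '' Set.range g)) := hπ'.preimage hνhomeo.isOpenMap
    rwa [Set.preimage_image_eq _ hνhomeo.injective] at this
  have hgdom' : IsSchemeTheoreticallyDominant g := IsSchemeTheoreticallyDominant.of_isDominant g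
  refine ⟨⟨hνdom, hgdom'⟩, ?_⟩
  intro hπfin
  have : IsFinite (g ≫ ν) := by rw [hg]; exact hπfin
  have : IsIntegralHom (g ≫ ν) := inferInstance
  have hgfin : IsFinite g := IsFinite.of_comp g ν
  have : QuasiCompact g := inferInstance
  refine ⟨?_, hgfin⟩
  rw [isFinite_iff]
  refine ⟨inferInstance, ?_⟩
  intro V hV
  have : IsNoetherianRing Γ(S, V) := IsLocallyNoetherian.component_noetherian ⟨V, hV⟩
  have hcomp : (g ≫ ν).app V = ν.app V ≫ g.app (ν ⁻¹ᵁ V) := Scheme.Hom.comp_app g ν V
  have hfin : ((g ≫ ν).app V).hom.Finite := IsFinite.finite_app (g ≫ ν) V hV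
  have hinj : Function.Injective (g.app (ν ⁻¹ᵁ V)).hom := g.app_injective (ν ⁻¹ᵁ V)
  rw [hcomp] at hfin
  -- algebraize
  let φ : Γ(S, V) →+* Γ(X', ν ⁻¹ᵁ V) := (ν.app V).hom
  let ψ : Γ(X', ν ⁻¹ᵁ V) →+* Γ(Sn, g ⁻¹ᵁ ν ⁻¹ᵁ V) := (g.app (ν ⁻¹ᵁ V)).hom
  have hfin' : (ψ.comp φ).Finite := hfin
  show φ.Finite
  letI := φ.toAlgebra
  letI := (ψ.comp φ).toAlgebra
  have : Module.Finite Γ(S, V) Γ(Sn, g ⁻¹ᵁ ν ⁻¹ᵁ V) := hfin'
  let ψl : Γ(X', ν ⁻¹ᵁ V) →ₗ[Γ(S, V)] Γ(Sn, g ⁻¹ᵁ ν ⁻¹ᵁ V) :=
    { toFun := ψ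
      map_add' := map_add ψ
      map_smul' := by
        intro a b
        simp only [Algebra.smul_def, RingHom.id_apply, map_mul]
        rfl }
  exact Module.Finite.of_injective ψl hinj

end Groth.Agent.S15963
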