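import Groth.Statements.S15991
import Groth.Agent.R2.H75DeformTriv
import Groth.Agent.Lib.Helper22ThickAffine

set_option autoImplicit false
universe u v
open Deform

namespace Groth.Agent.S15991

open AlgebraicGeometry CategoryTheory in
/-- Let k be a field and X an affine scheme smooth over k, with finitely many pairwise distinct
k-rational points p_j (j ∈ ι). Let X' → Spec k[ε] be flat, i : X → X' a morphism making X the fibre
over the closed point Spec k → Spec k[ε] (cartesian square), and p'_j : Spec k[ε] → X' sections
restricting to the p_j. Then there is an isomorphism φ : X' ≅ X ×_{Spec k} Spec k[ε] over Spec k[ε]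
such that i followed by φ is the inclusion of X at the closed point (its first component is the
identity of X) and each p'_j followed by φ is the constant section through p_j: every first-order
deformation of a smooth affine scheme with marked points is trivial. (The source says non-singular;
smooth over k is assumed here, and the marked points are taken pairwise distinct and finite in
number.) -/
theorem result
    (k : Type u) [Field k] (X : Scheme.{u}) (hX : X ⟶ Spec (CommRingCat.of k)) [IsAffine X] [Smooth hX]
    {ι : Type v} [Finite ι] (p : ι → (Spec (CommRingCat.of k) ⟶ X)) (hp : ∀ j, p j ≫ hX = 𝟙 _)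
    (hinj : Function.Injective p)
    (X' : Scheme.{u}) (g : X' ⟶ Spec (CommRingCat.of (DualNumber k))) [Flat g] (i : X ⟶ X')
    (hsq : IsPullback i hX g
      (Spec.map (CommRingCat.ofHom (TrivSqZeroExt.fstHom k k k).toRingHom)))
    (p' : ι → (Spec (CommRingCat.of (DualNumber k)) ⟶ X')) (hp' : ∀ j, p' j ≫ g = 𝟙 _)
    (hpp' : ∀ j, p j ≫ i = Spec.map (CommRingCat.ofHom (TrivSqZeroExt.fstHom k k k).toRingHom) ≫ p' j) :
    ∃ φ : X' ≅ Limits.pullback hX (Spec.map (CommRingCat.ofHom (algebraMap k (DualNumber k)))),
      φ.hom ≫ Limits.pullback.snd hX (Spec.map (CommRingCat.ofHom (algebraMap k (DualNumber k)))) = g ∧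
        i ≫ φ.hom ≫ Limits.pullback.fst hX (Spec.map (CommRingCat.ofHom (algebraMap k (DualNumber k)))) = 𝟙 X ∧
          ∀ j, p' j ≫ φ.hom ≫
              Limits.pullback.fst hX (Spec.map (CommRingCat.ofHom (algebraMap k (DualNumber k)))) =
            Spec.map (CommRingCat.ofHom (algebraMap k (DualNumber k))) ≫ p j := by
  have hπ : IsClosedImmersion (Spec.map (CommRingCat.ofHom (TrivSqZeroExt.fstHom k k k).toRingHom)) :=
    IsClosedImmersion.spec_of_surjective _ (fun r => ⟨TrivSqZeroExt.inl r, TrivSqZeroExt.fst_inl k r⟩)
  have hπs : Surjective (Spec.map (CommRingCat.ofHom (TrivSqZeroExt.fstHom k k k).toRingHom)) := by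
    have hh := PrimeSpectrum.isHomeomorph_comap (TrivSqZeroExt.fstHom k k k).toRingHom
      (fun x => ⟨1, Nat.one_pos, ⟨TrivSqZeroExt.inl x, by simp⟩⟩)
      (fun x hx => by
        refine ⟨2, ?_⟩
        have hx' : x.fst = 0 := hx
        apply TrivSqZeroExt.ext <;> simp [pow_two, hx'])
    exact ⟨hh.surjective⟩
  have hi : IsClosedImmersion i :=
    MorphismProperty.of_isPullback (P := @IsClosedImmersion) hsq.flip hπ
  have his : Surjective i :=
    MorphismProperty.of_isPullback (P := @Surjective) hsq.flip hπs
  have hX' : IsAffine X' :=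
    Groth.Agent.Lib.Helper22.ThickAffine.isAffine_of_thickening i his.surj
  obtain ⟨r, h1, h2, h3⟩ := Groth.Agent.R2.H75.DeformTriv.scheme_version k X hX p hp hinj X' g i hsq
    p' hp' hpp'
  refine ⟨h3.isoPullback, h3.isoPullback_hom_snd, ?_, fun j => ?_⟩
  · rw [h3.isoPullback_hom_fst, h1]
  · rw [h3.isoPullback_hom_fst, h2 j]

end Groth.Agent.S15991
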