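import Groth.Statements.S15993
import Mathlib.AlgebraicGeometry.Morphisms.SchemeTheoreticallyDominant
import Mathlib.AlgebraicGeometry.Morphisms.FlatMono
import Mathlib.AlgebraicGeometry.Morphisms.ClosedImmersion

set_option autoImplicit false
open CategoryTheory AlgebraicGeometry
universe u
open EtHull

namespace Groth.Agent.S15993

open CategoryTheory CategoryTheory.Limits AlgebraicGeometry

/-- A schematically dense retrocompact open has scheme-theoretically dominant inclusion. -/
theorem isSchemeTheoreticallyDominant_ι {X : Scheme.{u}} (V : X.Opens) [QuasiCompact V.ι]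
    (hV : CInt.IsSchematicallyDense V) : IsSchemeTheoreticallyDominant V.ι := by
  rw [isSchemeTheoreticallyDominant_iff]
  refine Scheme.IdealSheafData.ext ?_
  funext W
  rw [Scheme.Hom.ker_apply, Scheme.IdealSheafData.ideal_bot, Pi.bot_apply,
    ← RingHom.injective_iff_ker_eq_bot]
  intro a b hab
  apply hV W.1
  have e : W.1 ⊓ V ≤ V.ι ''ᵁ (V.ι ⁻¹ᵁ W.1) := by
    rw [Scheme.Hom.image_preimage_eq_opensRange_inf, Scheme.Opens.opensRange_ι]
    exact le_of_eq (inf_comm _ _)
  have key : X.presheaf.map (homOfLE (inf_le_left : W.1 ⊓ V ≤ W.1)).op =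
      V.ι.app W.1 ≫ X.presheaf.map (homOfLE e).op := by
    exact X.presheaf.map_comp (homOfLE (x := V.ι ''ᵁ V.ι ⁻¹ᵁ W.1) (y := W.1)
      (V.ι.image_preimage_le W.1)).op (homOfLE e).op
  rw [key, CommRingCat.comp_apply, CommRingCat.comp_apply, hab]

/-- Let f : X → S be a morphism of schemes which is faithfully flat (flat and surjective), quasi-compact
and separated, and schematically birational in the following sense: there are schematically dense
opens U of S and V of X, with the inclusion V → X quasi-compact, such that f maps V into U and the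
induced morphism V → U is an isomorphism. Then f is an isomorphism. (The source states this for
algebraic spaces and puts no quasi-compactness condition on the dense opens. Its proof base-changes
along f and uses that the inverse image of V in X ×_S X is again schematically dense, which holds
when V → X is quasi-compact, for instance when X is locally Noetherian, and fails in general: over
the Boolean ring of eventually constant sequences of elements of the field with two elements, the
spectrum of the ring of eventually two-periodic sequences is faithfully flat and affine, and it is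
an isomorphism above the open set of principal points, which is schematically dense on both sides,
yet it is not an isomorphism, the point at infinity being doubled. So V is taken retrocompact in X
here, and X, S are schemes.) -/
theorem result {X S : Scheme.{u}} (f : X ⟶ S)
    [Flat f] [Surjective f] [QuasiCompact f] [IsSeparated f]
    (U : S.Opens) (V : X.Opens) [QuasiCompact V.ι]
    (hU : CInt.IsSchematicallyDense U) (hV : CInt.IsSchematicallyDense V)
    (hle : V ≤ f ⁻¹ᵁ U) (hiso : IsIso (f.resLE U V hle)) : IsIso f := by
  have hVd : IsSchemeTheoreticallyDominant V.ι := isSchemeTheoreticallyDominant_ι V hV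
  -- `V.ι ≫ f` is a monomorphism
  have hmono : Mono (V.ι ≫ f) := by
    rw [← Scheme.Hom.resLE_comp_ι f hle]
    infer_instance
  -- first base change: along `pullback.snd f f`
  let pr₁ : pullback f f ⟶ X := pullback.fst f f
  let pr₂ : pullback f f ⟶ X := pullback.snd f f
  let q₁ : pullback V.ι pr₂ ⟶ pullback f f := pullback.snd V.ι pr₂
  have hq₁ : IsSchemeTheoreticallyDominant q₁ := inferInstance
  have hq₁' : IsOpenImmersion q₁ := inferInstance
  have hflat : Flat (q₁ ≫ pr₁) := inferInstance
  let q₂ : pullback V.ι (q₁ ≫ pr₁) ⟶ pullback V.ι pr₂ := pullback.snd V.ι (q₁ ≫ pr₁)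
  have hq₂ : IsSchemeTheoreticallyDominant q₂ := inferInstance
  have hcomp : IsSchemeTheoreticallyDominant (q₂ ≫ q₁) := inferInstance
  let a : pullback V.ι (q₁ ≫ pr₁) ⟶ V := pullback.fst V.ι (q₁ ≫ pr₁)
  let b : pullback V.ι (q₁ ≫ pr₁) ⟶ V := q₂ ≫ pullback.fst V.ι pr₂
  have h1 : (q₂ ≫ q₁) ≫ pr₁ = a ≫ V.ι := by
    rw [Category.assoc]
    exact (pullback.condition (f := V.ι) (g := q₁ ≫ pr₁)).symm
  have h2 : (q₂ ≫ q₁) ≫ pr₂ = b ≫ V.ι := by
    rw [Category.assoc, Category.assoc]
    congr 1
    exact (pullback.condition (f := V.ι) (g := pr₂)).symm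
  have hab : a = b := by
    rw [← cancel_mono (V.ι ≫ f), ← Category.assoc, ← Category.assoc, ← h1, ← h2, Category.assoc,
      Category.assoc (q₂ ≫ q₁)]
    congr 1
    exact pullback.condition
  have hfac : q₂ ≫ q₁ = (a ≫ V.ι) ≫ pullback.diagonal f := by
    apply pullback.hom_ext
    · calc (q₂ ≫ q₁) ≫ pullback.fst f f = a ≫ V.ι := h1
        _ = ((a ≫ V.ι) ≫ pullback.diagonal f) ≫ pullback.fst f f := by
          rw [Category.assoc (a ≫ V.ι), pullback.diagonal_fst, Category.comp_id]
    · calc (q₂ ≫ q₁) ≫ pullback.snd f f = b ≫ V.ι := h2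
        _ = ((a ≫ V.ι) ≫ pullback.diagonal f) ≫ pullback.snd f f := by
          rw [Category.assoc (a ≫ V.ι), pullback.diagonal_snd, Category.comp_id, hab]
  have hker : (pullback.diagonal f).ker = ⊥ := by
    have := Scheme.Hom.le_ker_comp (a ≫ V.ι) (pullback.diagonal f)
    rw [← hfac, (q₂ ≫ q₁).ker_eq_bot] at this
    exact le_bot_iff.mp this
  have hΔ : IsIso (pullback.diagonal f) := IsClosedImmersion.isIso_iff_ker_eq_bot.mpr hker
  have : Mono f := (pullback.isIso_diagonal_iff f).mp hΔ
  exact Flat.isIso_of_surjective_of_mono f

end Groth.Agent.S15993
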