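-- Statement S15995: coperfection commutes with base restriction along a relatively perfect morphism.
import Groth.Statements.S15995
import Mathlib.CategoryTheory.Limits.Shapes.Pullback.IsPullback.Basic

set_option autoImplicit false
open CategoryTheory AlgebraicGeometry
universe u
open FrobSch

namespace Groth.Agent.S15995

open CategoryTheory.Limits

/-- The relative Frobenius of `g : X ⟶ S` is an isomorphism iff the Frobenius square is cartesian. -/
theorem isIso_relFrob_iff (p : ℕ) [Fact p.Prime] {X S : Scheme.{u}} [FrobSch.IsCharP S p]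
    [FrobSch.IsCharP X p] (g : X ⟶ S) :
    IsIso (FrobSch.relFrob g p) ↔ IsPullback (FrobSch.frob X p) g g (FrobSch.frob S p) := by
  constructor
  · intro h
    have hpb : IsPullback (pullback.fst g (FrobSch.frob S p)) (pullback.snd g (FrobSch.frob S p)) g
        (FrobSch.frob S p) := IsPullback.of_hasPullback _ _
    refine IsPullback.of_iso hpb (asIso (FrobSch.relFrob g p)).symm (Iso.refl _) (Iso.refl _)
      (Iso.refl _) ?_ ?_ ?_ ?_
    · simp [FrobSch.relFrob_fst]
    · simp [FrobSch.relFrob_snd]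
    · simp
    · simp
  · intro h
    have e : FrobSch.relFrob g p = h.isoPullback.hom := by
      apply pullback.hom_ext
      · rw [FrobSch.relFrob_fst, IsPullback.isoPullback_hom_fst]
      · rw [FrobSch.relFrob_snd, IsPullback.isoPullback_hom_snd]
    rw [e]
    infer_instance

theorem result (p : ℕ) [Fact p.Prime] {X X' T S : Scheme.{u}}
    [FrobSch.IsCharP S p] [FrobSch.IsCharP T p] (f : T ⟶ S) (hf : IsIso (FrobSch.relFrob f p))
    (g : X ⟶ T) (π : X' ⟶ T) (hπ : IsIso (FrobSch.relFrob π p)) (c : X ⟶ X') (hc : c ≫ π = g)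
    (huniv : ∀ (Y : Scheme.{u}) (q : Y ⟶ T), IsIso (FrobSch.relFrob q p) →
      ∀ k : X ⟶ Y, k ≫ q = g → ∃! h : X' ⟶ Y, h ≫ q = π ∧ c ≫ h = k) :
    IsIso (FrobSch.relFrob (π ≫ f) p) ∧
      ∀ (Y : Scheme.{u}) (r : Y ⟶ S), IsIso (FrobSch.relFrob r p) →
        ∀ k : X ⟶ Y, k ≫ r = g ≫ f → ∃! h : X' ⟶ Y, h ≫ r = π ≫ f ∧ c ≫ h = k := by
  have : FrobSch.IsCharP X' p := FrobSch.IsCharP.of_hom π p
  have hfpb := (isIso_relFrob_iff p f).mp hf
  have hπpb := (isIso_relFrob_iff p π).mp hπ
  refine ⟨?_, ?_⟩
  · rw [isIso_relFrob_iff p (π ≫ f)]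
    exact hπpb.paste_vert hfpb
  · intro Y r hr k hk
    have : FrobSch.IsCharP Y p := FrobSch.IsCharP.of_hom r p
    have hrpb := (isIso_relFrob_iff p r).mp hr
    -- base change of `r` along `f`
    let YT := pullback r f
    let q : YT ⟶ T := pullback.snd r f
    let pr : YT ⟶ Y := pullback.fst r f
    have : FrobSch.IsCharP YT p := FrobSch.IsCharP.of_hom q p
    have hA : IsPullback pr q r f := IsPullback.of_hasPullback r f
    -- the Frobenius square of `q` is cartesian
    have hq : IsPullback (FrobSch.frob YT p) q q (FrobSch.frob T p) := by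
      have houter : IsPullback (pr ≫ FrobSch.frob Y p) q r (f ≫ FrobSch.frob S p) :=
        hA.paste_horiz hrpb
      have e1 : pr ≫ FrobSch.frob Y p = FrobSch.frob YT p ≫ pr := (FrobSch.frob_comp p pr).symm
      have e2 : f ≫ FrobSch.frob S p = FrobSch.frob T p ≫ f := (FrobSch.frob_comp p f).symm
      rw [e1, e2] at houter
      exact IsPullback.of_right houter (FrobSch.frob_comp p q) hA
    have hqiso : IsIso (FrobSch.relFrob q p) := (isIso_relFrob_iff p q).mpr hq
    -- the induced map `X ⟶ YT`
    let kT : X ⟶ YT := pullback.lift k g hk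
    have hkT : kT ≫ q = g := pullback.lift_snd _ _ _
    obtain ⟨hT, ⟨hT1, hT2⟩, hTuniq⟩ := huniv YT q hqiso kT hkT
    refine ⟨hT ≫ pr, ⟨?_, ?_⟩, ?_⟩
    · rw [Category.assoc, hA.w, ← Category.assoc, hT1]
    · rw [← Category.assoc, hT2]
      exact pullback.lift_fst _ _ _
    · intro h' ⟨h'1, h'2⟩
      have : pullback.lift h' π h'1 = hT := by
        apply hTuniq
        refine ⟨pullback.lift_snd _ _ _, ?_⟩
        apply pullback.hom_ext
        · rw [Category.assoc, pullback.lift_fst, h'2]
          exact (pullback.lift_fst _ _ _).symm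
        · rw [Category.assoc, pullback.lift_snd, hc]
          exact (pullback.lift_snd _ _ _).symm
      rw [← this]
      exact (pullback.lift_fst _ _ _).symm

end Groth.Agent.S15995
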