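import Groth.Statements.S1604
-- import your own Groth.Agent.* helpers here
import Groth.Agent.R2.H20EffCartDeg
import Groth.Agent.S0002

set_option autoImplicit false
universe u
open CategoryTheory CategoryTheory.Limits AlgebraicGeometry
open Variety

namespace Groth.Agent.S1604

/-- Let X be proper of dimension at most one over k and D an effective Cartier divisor with ideal sheaf
I. Then D is finite over k, and for E finite locally free of rank n and any invertible module L
inverse to I (so L plays the role of O_X(D)) one has deg(E ⊗ L) = n · dim_k H^0(X, O_D) + deg E. -/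
theorem result (k : Type u) [Field k] (X : Scheme.{u}) [X.Over (Spec (CommRingCat.of k))] [IsProper (X ↘ (Spec (CommRingCat.of k)))] (hdim : topologicalKrullDim X ≤ 1)
    (D : X.IdealSheafData) (hD : BlowUp.IsEffCartierIdeal D)
    (L : X.Modules) (hL : PicF.IsInvertible L) (hLD : ClSub.IsInverseOf L (ClSub.idealMod D))
    (n : ℕ) (E : X.Modules) (hE : FlatMod.IsFinLocFreeOfRank n E) :
    IsFinite (D.subschemeι ≫ (X ↘ (Spec (CommRingCat.of k)))) ∧
      Curv2.deg k X (CohB1.tensorMod E L) n = n * Module.finrank k (Coh.HH X (ClSub.quotMod D) 0) + Curv2.deg k X E n := by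
  have : IsLocallyNoetherian X :=
    LocallyOfFiniteType.isLocallyNoetherian (X ↘ Spec (CommRingCat.of k))
  refine ⟨?_, ?_⟩
  · have : IsLocallyNoetherian D.subscheme := LocallyOfFiniteType.isLocallyNoetherian D.subschemeι
    exact Groth.Agent.R2.H20.EffCartDeg.isFinite_of_dim_le_zero _
      (Groth.Agent.R2.H20.EffCartDeg.dim_subscheme_le_zero hdim D hD)
  · have h := Groth.Agent.R2.H20.EffCartDeg.euler_tensor_effCartier (k := k)
      (fun M hM i => Groth.Agent.S0002.result k X M hM i) D
      (Groth.Agent.R2.H20.EffCartDeg.dim_support_quotMod_le_zero hdim D hD) hL hLD hE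
    unfold Curv2.deg
    rw [h]
    ring

end Groth.Agent.S1604
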