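import Groth.Statements.S16082
import Mathlib.AlgebraicGeometry.FunctionField

set_option autoImplicit false
universe u
open CategoryTheory CategoryTheory.Limits AlgebraicGeometry TopologicalSpace
open SDiv

namespace Groth.Agent.S16082

/-- Let X be an integral scheme and F, G quasi-coherent O_X-modules with F of finite presentation and G
torsion free (every stalk G_x is a torsion-free module over the domain O_{X,x}). Then every stalk of
the sheaf Hom 𝓗om_{O_X}(F, G) is torsion free as well. -/
theorem result (X : Scheme.{u}) [IsIntegral X] (F G : X.Modules) (hF : Coh.IsQCoh F)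
    (hFp : CohB1.IsFP F) (hG : Coh.IsQCoh G) (hGt : TorSh.IsTorsionFree G) :
    TorSh.IsTorsionFree (RefHull.homSh F G) := by
  intro x
  refine ⟨fun a ha θ1 θ2 h => ?_⟩
  -- represent everything by sections over a common open
  obtain ⟨Ua, hxa, r, rfl⟩ := TopCat.Presheaf.exists_germ_eq X.presheaf a
  obtain ⟨U1, hx1, g1, rfl⟩ := TopCat.Presheaf.exists_germ_eq (RefHull.homSh F G).presheaf θ1
  obtain ⟨U2, hx2, g2, rfl⟩ := TopCat.Presheaf.exists_germ_eq (RefHull.homSh F G).presheaf θ2
  let W : X.Opens := Ua ⊓ U1 ⊓ U2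
  have hxW : x ∈ W := ⟨⟨hxa, hx1⟩, hx2⟩
  let ia : W ⟶ Ua := homOfLE (inf_le_left.trans inf_le_left)
  let i1 : W ⟶ U1 := homOfLE (inf_le_left.trans inf_le_right)
  let i2 : W ⟶ U2 := homOfLE inf_le_right
  have ea : X.presheaf.germ Ua x hxa r = X.presheaf.germ W x hxW (X.presheaf.map ia.op r) :=
    (TopCat.Presheaf.germ_res_apply X.presheaf ia x hxW r).symm
  have e1 : (RefHull.homSh F G).presheaf.germ U1 x hx1 g1 =
      (RefHull.homSh F G).presheaf.germ W x hxW ((RefHull.homSh F G).presheaf.map i1.op g1) :=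
    (TopCat.Presheaf.germ_res_apply (RefHull.homSh F G).presheaf i1 x hxW g1).symm
  have e2 : (RefHull.homSh F G).presheaf.germ U2 x hx2 g2 =
      (RefHull.homSh F G).presheaf.germ W x hxW ((RefHull.homSh F G).presheaf.map i2.op g2) :=
    (TopCat.Presheaf.germ_res_apply (RefHull.homSh F G).presheaf i2 x hxW g2).symm
  set r' := X.presheaf.map ia.op r with hr'
  set g1' := (RefHull.homSh F G).presheaf.map i1.op g1 with hg1'
  set g2' := (RefHull.homSh F G).presheaf.map i2.op g2 with hg2'
  have hne : X.presheaf.germ W x hxW r' ≠ 0 := by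
    rw [← ea]
    exact ha.ne_zero
  simp only at h
  rw [ea, e1, e2, ← Mero.germ_smul, ← Mero.germ_smul] at h
  obtain ⟨W', hxW', iU, iV, hW'⟩ := TopCat.Presheaf.germ_eq (RefHull.homSh F G).presheaf x hxW hxW _ _ h
  rw [e1, e2]
  rw [← TopCat.Presheaf.germ_res_apply (RefHull.homSh F G).presheaf iU x hxW' g1',
    ← TopCat.Presheaf.germ_res_apply (RefHull.homSh F G).presheaf iU x hxW' g2']
  congr 1
  apply Subtype.ext
  funext y
  apply LinearMap.ext
  intro m
  have hy := congrArg (fun s => (s.1 y) m) hW'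
  have hiUV : iU = iV := Subsingleton.elim _ _
  subst hiUV
  simp only at hy
  have hry : X.presheaf.germ W y.1 (iU.le y.2) r' ≠ 0 := by
    intro h0
    apply hne
    have hinj := AlgebraicGeometry.germ_injective_of_isIntegral X y.1 (iU.le y.2)
    have : r' = 0 := hinj (by rw [h0, map_zero])
    rw [this, map_zero]
  have := hGt y.1
  exact (smul_right_injective _ hry) hy

end Groth.Agent.S16082
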