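-- Statement S16124: finite group acting on a quasi-projective variety: invariant affine open nbhds.
import Groth.Statements.S16124
import Mathlib
import Groth.Agent.S4381
import Groth.Agent.S2324

set_option autoImplicit false
universe u
open CategoryTheory MonoidalCategory CartesianMonoidalCategory MonObj GrpObj AlgebraicGeometry CategoryTheory.Limits
open AlgGrp

namespace Groth.Agent.S16124

/-- Over an algebraically closed field k, let X be a quasi-projective variety (a reduced separated
k-scheme, quasi-projective over k) with an action of a finite group Γ by k-automorphisms. Then X is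
covered by Γ-stable affine open subschemes: every point x of X lies in an affine open U with σ⁻¹(U)
= U for every σ in Γ. -/
theorem result (k : Type u) [Field k] [IsAlgClosed k]
    (X : Over (Spec (CommRingCat.of k))) [IsReduced X.left] [IsSeparated X.hom] (hX : RelProj.IsQuasiProjective X.hom)
    (Γgrp : Type u) [Group Γgrp] [Finite Γgrp] (ρ : Γgrp →* Aut X.left)
    (hρ : ∀ σ : Γgrp, (ρ σ).hom ≫ X.hom = X.hom) (x : ↥X.left) :
    ∃ U : X.left.Opens, x ∈ U ∧ IsAffineOpen U ∧ ∀ σ : Γgrp, (ρ σ).hom ⁻¹ᵁ U = U := by
  obtain ⟨_, hqc, L, hL⟩ := hX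
  have : QuasiCompact X.hom := hqc
  have hamp : CohB1.IsAmple L := (Groth.Agent.S4381.result X.hom L).mp hL
  have : CompactSpace X.left := QuasiCompact.compactSpace_of_compactSpace X.hom
  have : X.left.IsSeparated := by
    constructor
    have h : terminal.from X.left = X.hom ≫ terminal.from _ := (terminal.comp_from _).symm
    rw [h]
    infer_instance
  let Z : Set X.left := Set.range (fun σ : Γgrp => (ρ σ).hom.base x)
  have hZ : Z.Finite := Set.finite_range _
  obtain ⟨n, s, hZW, -, hW⟩ := Groth.Agent.S2324.result X.left L hamp Z hZ ⊤ (fun _ _ => trivial)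
  set W : X.left.Opens := CohB1.genLocus _ s with hWdef
  refine ⟨⨅ σ : Γgrp, (ρ σ).hom ⁻¹ᵁ W, ?_, ?_, ?_⟩
  · rw [← SetLike.mem_coe, TopologicalSpace.Opens.coe_iInf]
    simp only [Set.mem_iInter]
    intro σ
    exact hZW ⟨σ, rfl⟩
  · apply IsAffineOpen.iInf
    intro σ
    have : IsIso (ρ σ).hom := Iso.isIso_hom (show X.left ≅ X.left from ρ σ)
    exact hW.preimage_of_isIso (ρ σ).hom
  · intro τ
    apply TopologicalSpace.Opens.ext
    rw [Scheme.Hom.coe_preimage, TopologicalSpace.Opens.coe_iInf, Set.preimage_iInter]
    ext y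
    simp only [Set.mem_iInter, Set.mem_preimage, Scheme.Hom.coe_preimage, SetLike.mem_coe]
    constructor
    · intro h σ
      have := h (σ * τ⁻¹)
      rw [← Scheme.Hom.comp_apply] at this
      have e : (ρ τ).hom ≫ (ρ (σ * τ⁻¹)).hom = (ρ σ).hom := by
        have h1 : ρ (σ * τ⁻¹) * ρ τ = ρ σ := by rw [← map_mul]; simp
        rw [← h1]
        rfl
      rwa [e] at this
    · intro h σ
      have := h (σ * τ)
      rw [← Scheme.Hom.comp_apply]
      have e : (ρ τ).hom ≫ (ρ σ).hom = (ρ (σ * τ)).hom := by
        rw [map_mul]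
        rfl
      rwa [e]

end Groth.Agent.S16124
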