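import Groth.Statements.S16178
import Mathlib
import Groth.Agent.S0563
import Groth.Agent.R2.H26PdQuot
import Groth.Agent.R2.H26PdLocal
import Groth.Agent.R2.H26LocSyz
-- import your own Groth.Agent.* helpers here

set_option autoImplicit false
universe u
open CategoryTheory
open CAlg

namespace Groth.Agent.S16178

open Groth.Agent.R2.H26.PdQuot Groth.Agent.R2.H26.LocSyz

/-- Let V be a valuation ring, B a flat V-algebra of finite presentation, q a prime ideal of B lying
over the prime p of V, A = B_q the local ring of Spec B at q, and suppose that the local ring A/pA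
of the fibre over p at q is a regular local ring of dimension n. Then every finitely presented
A-module M which is flat as a V-module has projective dimension at most n over A. -/
theorem result (V : Type u) [CommRing V] [IsDomain V] [ValuationRing V]
    (B : Type u) [CommRing B] [Algebra V B] [Module.Flat V B] [Algebra.FinitePresentation V B]
    (q : Ideal B) [q.IsPrime] (n : ℕ)
    (hreg : IsRegularLocalRing (Localization.AtPrime q ⧸ Ideal.map (algebraMap V (Localization.AtPrime q)) (Ideal.comap (algebraMap V B) q)))
    (hn : ringKrullDim (Localization.AtPrime q ⧸ Ideal.map (algebraMap V (Localization.AtPrime q)) (Ideal.comap (algebraMap V B) q)) = n)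
    (M : Type u) [AddCommGroup M] [Module (Localization.AtPrime q) M] [Module.FinitePresentation (Localization.AtPrime q) M]
    [Module V M] [IsScalarTower V (Localization.AtPrime q) M] [Module.Flat V M] :
    HasProjectiveDimensionLE (ModuleCat.of (Localization.AtPrime q) M) n := by
  have hI : J (S := Localization.AtPrime q) (Ideal.comap (algebraMap V B) q) ≤
      IsLocalRing.maximalIdeal (Localization.AtPrime q) :=
    Groth.Agent.R2.H26.PdFlat.fibIdeal_le V q
  have hquot : HasProjectiveDimensionLT
      (ModuleCat.of (Localization.AtPrime q ⧸ J (S := Localization.AtPrime q)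
          (Ideal.comap (algebraMap V B) q))
        (M ⧸ (J (S := Localization.AtPrime q) (Ideal.comap (algebraMap V B) q) •
          (⊤ : Submodule (Localization.AtPrime q) M)))) (n + 1) :=
    Groth.Agent.S0563.result _ n hn _
  refine hasProjectiveDimensionLT_of_quot_succ V (Localization.AtPrime q)
    (Ideal.comap (algebraMap V B) q) hI
    (fun N _ _ _ _ => Module.FinitePresentation (Localization.AtPrime q) N ∧ Module.Flat V N)
    ?_ ?_ ?_ n M ⟨inferInstance, inferInstance⟩ hquot
  · intro N _ _ _ _ h
    exact h.1
  · intro N _ _ _ _ h
    exact h.2
  · intro N _ _ _ _ h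
    haveI := h.1
    haveI := h.2
    obtain ⟨r, γ, hγ, hfp, hfl⟩ := exists_syzygy_atPrime (V := V) q N
    exact ⟨r, γ, hγ, hfp, hfl⟩

end Groth.Agent.S16178
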