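import Groth.Statements.S16212
import Groth.Agent.R2.H74FixedPts
import Groth.Agent.S1488

set_option autoImplicit false
set_option linter.style.haveILetI false
universe u v
open CategoryTheory AlgebraicGeometry
open AlgGrp

namespace Groth.Agent.S16212

/-- Let S be a scheme, X an S-scheme that is smooth, separated and of finite presentation over S, and G
a finite group whose order is invertible on S (a unit among the global functions of S) acting on X
by S-automorphisms. Then the scheme of G-fixed points of X, namely any S-scheme Z with an S-morphism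
ι to X that is itself fixed by every element of G (ι followed by the automorphism of each g equals
ι) and such that an S-morphism T → X is fixed by every element of G exactly when it factors through
ι, and then uniquely, is a closed subscheme of X (ι is a closed immersion) which is smooth and of
finite presentation over S (smooth, quasi-compact and quasi-separated). The published statement
assumes X only smooth and of finite presentation over S; this row also assumes X separated over S. -/
theorem result (S : Scheme.{u})
    (X : Over S) [Smooth X.hom] [QuasiCompact X.hom] [IsSeparated X.hom]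
    (G : Type v) [Group G] [Finite G] (ρ : G →* Aut X)
    (hG : IsUnit (Nat.card G : Γ(S, ⊤)))
    (Z : Over S) (ι : Z ⟶ X) (hι : ∀ g : G, ι ≫ (ρ g).hom = ι)
    (hZ : ∀ (T : Over S) (t : T ⟶ X), (∀ g : G, t ≫ (ρ g).hom = t) ↔ ∃! t' : T ⟶ Z, t' ≫ ι = t) :
    IsClosedImmersion ι.left ∧ Smooth Z.hom ∧ QuasiCompact Z.hom ∧ QuasiSeparated Z.hom := by
  classical
  haveI : Fintype G := Fintype.ofFinite G
  have hXs : LocallyOfFinitePresentation X.hom ∧ MoreMor.IsFormallySmoothHom X.hom :=
    (Groth.Agent.S1488.result X.hom).mp inferInstance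
  haveI : LocallyOfFinitePresentation X.hom := hXs.1
  -- the fixed locus as a closed subscheme of finite presentation
  obtain ⟨E, e₀, hcl, hfp, hfix, huniv⟩ :=
    Groth.Agent.R2.H74.FixedPts.exists_fixed_locus X.hom (fun g : G => (ρ g).hom.left)
      (fun g => Over.w (ρ g).hom) Finset.univ
  let EO : Over S := Over.mk (e₀ ≫ X.hom)
  let eO : EO ⟶ X := Over.homMk e₀ rfl
  have heO : ∀ g : G, eO ≫ (ρ g).hom = eO := fun g => by
    ext
    exact hfix g (Finset.mem_univ g)
  obtain ⟨t', ht', -⟩ := (hZ EO eO).mp heO
  obtain ⟨l, hl⟩ := huniv ι.left (fun g _ => by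
    have := congr($(hι g).left)
    exact this)
  have h1 : t'.left ≫ l = 𝟙 E := by
    rw [← cancel_mono e₀, Category.assoc, hl, ← Over.comp_left, ht']
    exact (Category.id_comp e₀).symm
  have hw : ι.left ≫ X.hom = Z.hom := Over.w ι
  let lO : Z ⟶ EO := Over.homMk l (by
    show l ≫ e₀ ≫ X.hom = Z.hom
    rw [← Category.assoc, hl, hw])
  have h2 : lO ≫ t' = 𝟙 Z := by
    obtain ⟨t₀, -, hunique⟩ := (hZ Z ι).mp hι
    rw [hunique (lO ≫ t') (by
      show (lO ≫ t') ≫ ι = ι
      rw [Category.assoc, ht']
      ext
      exact hl), hunique (𝟙 Z) (Category.id_comp ι)]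
  have h2' : l ≫ t'.left = 𝟙 Z.left := by
    have := congr($(h2).left)
    exact this
  haveI : IsIso l := ⟨t'.left, h2', h1⟩
  have hιl : ι.left = l ≫ e₀ := hl.symm
  haveI hιcl : IsClosedImmersion ι.left := by rw [hιl]; infer_instance
  haveI hιfp : LocallyOfFinitePresentation ι.left := by rw [hιl]; infer_instance
  have hfs : MoreMor.IsFormallySmoothHom Z.hom :=
    Groth.Agent.R2.H74.FixedPts.isFormallySmoothHom_fixed X ρ hXs.2 hG Z ι hι
      (fun T t ht => ((hZ T t).mp ht).exists)
  have hZeq : Z.hom = ι.left ≫ X.hom := hw.symm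
  refine ⟨hιcl, ?_, ?_, ?_⟩
  · refine (Groth.Agent.S1488.result Z.hom).mpr ⟨?_, hfs⟩
    rw [hZeq]
    infer_instance
  · rw [hZeq]
    infer_instance
  · rw [hZeq]
    infer_instance

end Groth.Agent.S16212
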