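import Groth.Statements.S1622
import Groth.Agent.R2.H86BlowIrr
import Groth.Agent.R2.H86RegBlow2
import Groth.Agent.Lib.Helper5RLR

set_option autoImplicit false
universe u
open CategoryTheory CategoryTheory.Limits AlgebraicGeometry
open Resolve

namespace Groth.Agent.S1622

/-- Let A be a regular local ring of dimension two and b : X → Spec A a blowing up of Spec A in the
maximal ideal (characterised by its universal property). Then X is irreducible and all of its local
rings are regular. -/
theorem result (A : Type u) [CommRing A] [IsRegularLocalRing A] (hA : ringKrullDim A = 2)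
    (X : Scheme.{u}) (b : X ⟶ Spec (CommRingCat.of A)) (hb : BlowUp.IsBlowUp b (Curv2.idealSheaf A (IsLocalRing.maximalIdeal A))) :
    IrreducibleSpace X ∧ ∀ x : X, IsRegularLocalRing (X.presheaf.stalk x) := by
  classical
  set m := IsLocalRing.maximalIdeal A with hm
  haveI : IsDomain A := Groth.Agent.Lib.Helper5.isDomain_of_isRegularLocalRing A
  haveI : IsNoetherianRing A := inferInstance
  -- the closed immersion of the closed point
  let φ : CommRingCat.of A ⟶ CommRingCat.of (A ⧸ m) := CommRingCat.ofHom (Ideal.Quotient.mk m)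
  have hsurj : Function.Surjective φ.hom := Ideal.Quotient.mk_surjective
  haveI : IsClosedImmersion (Spec.map φ) := IsClosedImmersion.spec_of_surjective _ hsurj
  have hker : (Spec.map φ).ker = Curv2.idealSheaf A m :=
    Groth.Agent.R2.H86.BlowIrr.ker_Spec_map_mk A m
  letI : Field (A ⧸ m) := Ideal.Quotient.field m
  haveI : IsRegularLocalRing (A ⧸ m) := inferInstance
  refine ⟨?_, ?_⟩
  · -- irreducibility
    haveI : IrreducibleSpace (Spec (CommRingCat.of A)) :=
      inferInstanceAs (IrreducibleSpace (PrimeSpectrum A))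
    refine Groth.Agent.R2.H86.BlowIrr.irreducibleSpace_of_isBlowUp
      (Curv2.idealSheaf A m) ⟨(⟨⊥, Ideal.isPrime_bot⟩ : PrimeSpectrum A), ?_⟩ b hb
    intro hmem
    have hmem' : (⟨⊥, Ideal.isPrime_bot⟩ : PrimeSpectrum A) ∈
        ((Curv2.idealSheaf A m).support : Set (Spec (CommRingCat.of A))) := hmem
    rw [Groth.Agent.R2.H86.BlowIrr.support_idealSheaf] at hmem'
    have hmem'' : (m : Set A) ⊆ ((⊥ : Ideal A) : Set A) :=
      (PrimeSpectrum.mem_zeroLocus (⟨⊥, Ideal.isPrime_bot⟩ : PrimeSpectrum A) (m : Set A)).mp hmem'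
    have hbot : m = ⊥ := le_bot_iff.mp hmem''
    have hfield : IsField A := IsLocalRing.isField_iff_maximalIdeal_eq.mpr hbot
    have h0 : ringKrullDim A = 0 := by
      letI := hfield.toField
      exact ringKrullDim_eq_zero_of_field A
    rw [hA] at h0
    norm_num at h0
  · -- regularity
    rw [← hker] at hb
    exact Groth.Agent.R2.H86.RegBlow.regular_blowUp (Spec.map φ)
      (Groth.Agent.R2.H86.BlowIrr.isRegularLocalRing_stalk_spec A)
      (Groth.Agent.R2.H86.BlowIrr.isRegularLocalRing_stalk_spec (A ⧸ m)) b hb

end Groth.Agent.S1622
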