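import Groth.Statements.S1624
import Groth.Agent.R2.H78BlowH1
import Groth.Agent.R2.H1CohSum
import Groth.Agent.R2.H62CohFin
import Groth.Agent.Lib.Helper23QCohLocal
import Groth.Agent.S1623

set_option autoImplicit false
universe u
open CategoryTheory CategoryTheory.Limits AlgebraicGeometry
open Resolve

namespace Groth.Agent.S1624

/-- Let A be a regular local ring of dimension two and b : X → Spec A the blowing up in the maximal
ideal. If F is a quasi-coherent O_X-module which is globally generated, then H¹(X, F) = 0. -/
theorem result (A : Type u) [CommRing A] [IsRegularLocalRing A] (hA : ringKrullDim A = 2)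
    (X : Scheme.{u}) (b : X ⟶ Spec (CommRingCat.of A)) (hb : BlowUp.IsBlowUp b (Curv2.idealSheaf A (IsLocalRing.maximalIdeal A)))
    (F : X.Modules) (hF : Coh.IsQCoh F) (hgg : Curv2.IsGloballyGenerated F) : Subsingleton (Coh.HH X F 1) := by
  obtain ⟨x, y, hxy⟩ := Groth.Agent.R2.H78.BlowTwo.exists_span_pair_of_regular A hA
  obtain ⟨hsep, U, hU, hcov⟩ :=
    Groth.Agent.R2.H78.BlowTwo.exists_two_affine_cover A (IsLocalRing.maximalIdeal A) x y hxy b hb
  have hO : Subsingleton (Coh.HH X (Coh.structureModule X) 1) :=
    Groth.Agent.R2.H78.BlowH1.subsingleton_HH_one_structureModule A _ x y hxy b hb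
  obtain ⟨ι, p, hp⟩ := hgg
  have hFq : F.IsQuasicoherent := hF
  have hcpt : CompactSpace X := by
    refine ⟨?_⟩
    have h1 : (Set.univ : Set X) = ⋃ i, (U i : Set X) := by
      have h2 := congrArg (fun V : X.Opens => (V : Set X)) hcov
      simpa using h2.symm
    rw [h1]
    exact isCompact_iUnion fun i => (hU i).isCompact
  have hqs : QuasiSeparatedSpace X := inferInstance
  have hfree : Subsingleton (Coh.HH X (SheafOfModules.free ι : X.Modules) 1) :=
    Groth.Agent.R2.H1.CohSum.subsingleton_HH_free X 1 hO ι
  have hfq : (SheafOfModules.free ι : X.Modules).IsQuasicoherent := inferInstance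
  have hKq : (CategoryTheory.Limits.kernel p).IsQuasicoherent :=
    Groth.Agent.Lib.Helper23.QCohLocal.isQuasicoherent_kernel p
  have hK2 : Subsingleton (Coh.HH X (CategoryTheory.Limits.kernel p) (1 + 1)) :=
    Groth.Agent.S1623.result A hA X b hb (CategoryTheory.Limits.kernel p) hKq 2 le_rfl
  have hS : (CategoryTheory.ShortComplex.mk (CategoryTheory.Limits.kernel.ι p) p
      (CategoryTheory.Limits.kernel.condition p)).ShortExact :=
    { exact := CategoryTheory.ShortComplex.exact_kernel p
      mono_f := CategoryTheory.Limits.equalizer.ι_mono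
      epi_g := hp }
  exact @Groth.Agent.R2.H62.CohLES.subsingleton_X₃ X _ hS 1 hfree hK2

end Groth.Agent.S1624
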