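import Groth.Statements.S16298
import Groth.Agent.R2.H85GenusLe
import Groth.Agent.S1585
import Groth.Agent.R2.H70EdgeSch

set_option autoImplicit false
universe u
open CategoryTheory CategoryTheory.Limits AlgebraicGeometry
open Curves

namespace Groth.Agent.S16298

/-- Let k be a field and X a genus-zero curve over k, that is, an integral scheme proper over k of
dimension one with H^1(X, O_X) = 0. Then the normalization Y of X again satisfies H^1(Y, O_Y) = 0,
so Y is again a genus-zero curve. (The two instance binders on the morphism from the generic point
always hold; they are only needed to form the normalization.) -/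
theorem result (k : Type u) [Field k] (X : Scheme.{u}) [X.Over (Spec (CommRingCat.of k))]
    [IsIntegral X] [IsProper (X ↘ (Spec (CommRingCat.of k)))] (hdim : topologicalKrullDim X = 1)
    (h1 : Subsingleton (Coh.HH X (Coh.structureModule X) 1))
    [QuasiCompact (X.fromSpecStalk (genericPoint X))] [QuasiSeparated (X.fromSpecStalk (genericPoint X))] :
    Subsingleton (Coh.HH (Curv2.normalization X) (Coh.structureModule (Curv2.normalization X)) 1) := by
  obtain ⟨hfin, -, ⟨V, hVne, hViso⟩, -, -⟩ := Groth.Agent.S1585.result k X
  haveI := hfin
  haveI : IsLocallyNoetherian X :=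
    LocallyOfFiniteType.isLocallyNoetherian (X ↘ Spec (CommRingCat.of k))
  haveI : CompactSpace X :=
    QuasiCompact.compactSpace_of_compactSpace (X ↘ Spec (CommRingCat.of k))
  haveI : IsNoetherian X := {}
  have hVd : Dense (V : Set X) := V.isOpen.dense hVne
  haveI : IsIso (Curv2.normalizationι X ∣_ V) := hViso
  haveI : IsClosedImmersion (Curv2.normalizationι X ∣_ V) := inferInstance
  have hs := Groth.Agent.R2.H85.GenusLe.HHmap_unitToPush_surjective (le_of_eq hdim)
    (Curv2.normalizationι X) V hVd
  haveI : (Coh.structureModule (Curv2.normalization X)).IsQuasicoherent :=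
    Groth.Agent.R2.H5.CohThick.isQuasicoherent_structureModule _
  have hb := Groth.Agent.R2.H70.Edge.pushEdge_bijective_of_isAffineHom (Curv2.normalizationι X)
    (Coh.structureModule (Curv2.normalization X)) 1
  haveI := hs.subsingleton
  exact hb.2.subsingleton

end Groth.Agent.S16298
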