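import Groth.Statements.S1635
-- import your own Groth.Agent.* helpers here
import Groth.Agent.R2.H20GenusZero
import Groth.Agent.S0002

set_option autoImplicit false
universe u
open CategoryTheory CategoryTheory.Limits AlgebraicGeometry
open Curves

namespace Groth.Agent.S1635

/-- Let X be a proper curve over k with global functions k and genus 0, and L an invertible module of
degree d > 0. Then H^0(X, L) has dimension d + 1 and H^1(X, L) = 0. -/
theorem result (k : Type u) [Field k] (X : Scheme.{u}) [X.Over (Spec (CommRingCat.of k))]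
    [IsIntegral X] [IsProper (X ↘ (Spec (CommRingCat.of k)))] (hdim : topologicalKrullDim X = 1)
    (h0 : Module.finrank k (Coh.HH X (Coh.structureModule X) 0) = 1) (hg : Curv2.genus k X = 0)
    (L : X.Modules) (hL : PicF.IsInvertible L) (d : ℕ) (hd : 0 < d) (hdeg : Curv2.deg k X L 1 = d) :
    Module.finrank k (Coh.HH X L 0) = d + 1 ∧ Subsingleton (Coh.HH X L 1) := by
  have hdim' : topologicalKrullDim X ≤ 1 := hdim.le
  have hfin : Groth.Agent.R2.H62.CurveCore.HFin k X :=
    fun M hM i => Groth.Agent.S0002.result k X M hM i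
  have hO : PicF.IsInvertible (Coh.structureModule X) :=
    Groth.Agent.Lib.Helper23.TensorUnit.isInvertible_structureModule X
  have hcO := Groth.Agent.R2.H62.CurveInv.isCoh_of_isInvertible hO
  have hcL := Groth.Agent.R2.H62.CurveInv.isCoh_of_isInvertible hL
  have hχO := Groth.Agent.R2.H20.CurveDeg.euler_eq_sub (k := k) hdim' (Coh.structureModule X) hcO.1
  have hχL' := Groth.Agent.R2.H20.CurveDeg.euler_eq_sub (k := k) hdim' L hcL.1
  unfold Curv2.genus at hg
  rw [h0, hg] at hχO
  unfold Curv2.deg at hdeg
  have hχL : Curv2.euler k X L = d + 1 := by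
    rw [hχO] at hdeg
    push_cast at hdeg
    linarith
  obtain ⟨s, hs⟩ := Groth.Agent.R2.H20.GenusZero.exists_section_of_euler_pos (k := k) hdim' L hcL.1
    (by omega)
  have h1 := Groth.Agent.R2.H20.GenusZero.finrank_H1_le_of_section hdim' hfin hL s hs
  rw [hg] at h1
  have h1' : Module.finrank k (Coh.HH X L 1) = 0 := by omega
  have := hfin L hcL 1
  refine ⟨?_, ?_⟩
  · rw [h1', hχL] at hχL'
    push_cast at hχL'
    omega
  · exact (Module.finrank_zero_iff (R := k)).1 h1'

end Groth.Agent.S1635
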