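import Groth.Statements.S1641
import Groth.Agent.R2.H62IrrComp

set_option autoImplicit false
universe u
open CategoryTheory CategoryTheory.Limits AlgebraicGeometry
open Variety

namespace Groth.Agent.S1641

open Groth.Agent.R2.H62.Snapper in
/-- the degree of the restriction only depends on the ideal sheaf -/
theorem deg_congr_ideal (k : Type u) [Field k] (X : Scheme.{u}) [X.Over (Spec (CommRingCat.of k))]
    (n : ℕ) (E : X.Modules) (J J' : X.IdealSheafData) (h : J = J') :
    @Curv2.deg k _ J.subscheme ⟨J.subschemeι ≫ (X ↘ (Spec (CommRingCat.of k)))⟩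
        ((Scheme.Modules.pullback J.subschemeι).obj E) n =
      @Curv2.deg k _ J'.subscheme ⟨J'.subschemeι ≫ (X ↘ (Spec (CommRingCat.of k)))⟩
        ((Scheme.Modules.pullback J'.subschemeι).obj E) n := by
  subst h
  rfl

/-- Let X be proper of dimension at most one over k and E finite locally free of rank n. Then deg E is
the sum, over the irreducible components C of X of dimension one with their reduced induced
structure, of m_C · deg(E|_C), where m_C is the length of the local ring of X at the generic point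
of C. -/
theorem result (k : Type u) [Field k] (X : Scheme.{u}) [X.Over (Spec (CommRingCat.of k))] [IsProper (X ↘ (Spec (CommRingCat.of k)))] [IsNoetherian X] (hdim : topologicalKrullDim X ≤ 1)
    (n : ℕ) (E : X.Modules) (hE : FlatMod.IsFinLocFreeOfRank n E) :
    Curv2.deg k X E n = ∑ᶠ Z : irreducibleComponents (X : Type u),
      (if topologicalKrullDim (Z.1 : Set X) = 1 then
        ((Module.length (X.presheaf.stalk Z.2.1.genericPoint) (X.presheaf.stalk Z.2.1.genericPoint)).toNat : ℤ) *
          @Curv2.deg k _ (X.irreducibleComponentIdeal Z.1 Z.2).radical.subscheme ⟨(X.irreducibleComponentIdeal Z.1 Z.2).radical.subschemeι ≫ (X ↘ (Spec (CommRingCat.of k)))⟩ ((Scheme.Modules.pullback (X.irreducibleComponentIdeal Z.1 Z.2).radical.subschemeι).obj E) n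
      else 0) := by
  classical
  have hdim' : topologicalKrullDim X ≤ ((1 : ℕ) : WithBot ℕ∞) := by
    rw [Nat.cast_one]; exact hdim
  obtain ⟨T, hT, hdeg⟩ := Groth.Agent.R2.H62.Snapper.deg_eq_sum_components k hdim' n E hE
  rw [hdeg]
  have hbij := Groth.Agent.R2.H62.Snapper.bijOn_compPt (X := X) 1 hdim'
  have h1 : ∀ h : X → ℤ, ∑ ξ ∈ T, h ξ = ∑ᶠ ξ ∈ {ξ : X | Groth.Agent.R2.H62.Snapper.IsDPt 1 ξ}, h ξ := by
    intro h
    rw [← finsum_mem_coe_finset]
    congr 1
    ext ξ
    have : {ξ : X | Groth.Agent.R2.H62.Snapper.IsDPt 1 ξ} = ↑T := by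
      ext η
      rw [Finset.mem_coe, hT]
      rfl
    rw [this]
  rw [h1, ← finsum_mem_eq_of_bijOn Groth.Agent.R2.H62.Snapper.compPt hbij (fun Z _ => rfl),
    finsum_mem_def]
  refine finsum_congr fun Z => ?_
  rw [Set.indicator_apply]
  by_cases hZ : topologicalKrullDim (Z.1 : Set X) = 1
  · have hZ' : Z ∈ {Z : irreducibleComponents (X : Type u) |
        topologicalKrullDim ↥(Z.1 : Set X) = ((1 : ℕ) : WithBot ℕ∞)} := by
      change topologicalKrullDim ↥(Z.1 : Set X) = ((1 : ℕ) : WithBot ℕ∞)
      rw [Nat.cast_one]; exact hZ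
    rw [if_pos hZ', if_pos hZ]
    congr 1
    · congr 2
      exact ((Groth.Agent.Lib.Helper23.UnitStalk.unitStalkEquiv
        (Groth.Agent.R2.H62.Snapper.compPt Z)).length_eq).symm
    · exact (deg_congr_ideal k X n E _ _
        (Groth.Agent.R2.H62.Snapper.radical_irreducibleComponentIdeal Z)).symm
  · have hZ' : Z ∉ {Z : irreducibleComponents (X : Type u) |
        topologicalKrullDim ↥(Z.1 : Set X) = ((1 : ℕ) : WithBot ℕ∞)} := by
      intro h
      apply hZ
      have h' : topologicalKrullDim ↥(Z.1 : Set X) = ((1 : ℕ) : WithBot ℕ∞) := h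
      rw [Nat.cast_one] at h'
      exact h'
    rw [if_neg hZ', if_neg hZ]

end Groth.Agent.S1641
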