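import Groth.Statements.S16442
import Groth.Agent.Lib.Helper3HzP

set_option autoImplicit false
set_option linter.style.haveILetI false
universe u
open EGA4loc

namespace Groth.Agent.S16442

open IsLocalRing Groth.Agent.Lib.Helper3 in
/-- An essentially-finite-type local subalgebra of the strict henselization, dominated by it, lies in
the image of a stage of the standard model. -/
theorem aux
    (A S : Type u) [CommRing A] [IsLocalRing A]
    [CommRing S] [IsLocalRing S] [Algebra A S] [IsLocalHom (algebraMap A S)]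
    [Hensel.IsStrictHenselization A S] (D : Subalgebra A S) [IsLocalRing D]
    [IsLocalHom (algebraMap D S)] [Algebra.EssFiniteType A D] :
    ∃ E : Subalgebra A S, D ≤ E ∧ ∃ _ : IsLocalRing E, EGA4loc.IsEssentiallyEtale A E := by
  classical
  obtain ⟨Ω, _, _, _, _, _, ⟨e⟩⟩ := HzP.sh_exists_model A S
  obtain ⟨σ, hσ⟩ := (Algebra.essFiniteType_iff A D).mp (inferInstance : Algebra.EssFiniteType A D)
  -- the generators come from a common stage
  obtain ⟨i, x', hx'⟩ := Sh.exists_ofL_fin (R := A) (Ω := Ω)
    (fun k : Fin σ.card => e ((σ.equivFin.symm k : D) : S))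
  let ψ : i.L →ₐ[A] S := (e.symm : Sh.Rsh A Ω →ₐ[A] S).comp (Sh.ofLₐ i)
  have hψ : ∀ z, ψ z = e.symm (Sh.ofL i z) := fun z => rfl
  -- injectivity of the stage map
  have hinj : Function.Injective ψ := by
    letI := (Sh.ofL i).toAlgebra
    haveI : IsLocalHom (algebraMap i.L (Sh.Rsh A Ω)) := inferInstanceAs (IsLocalHom (Sh.ofL i))
    haveI : Module.Flat i.L (Sh.Rsh A Ω) := Sh.flat_over_L i
    haveI : Module.FaithfullyFlat i.L (Sh.Rsh A Ω) := Module.FaithfullyFlat.of_flat_of_isLocalHom
    have h1 : Function.Injective (Sh.ofL i) :=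
      FaithfulSMul.algebraMap_injective i.L (Sh.Rsh A Ω)
    intro z w hzw
    apply h1
    exact e.symm.injective hzw
  -- the stage map is local
  have hloc : ∀ z : i.L, IsUnit (ψ z) → IsUnit z := by
    intro z hz
    have h1 : IsUnit (Sh.ofL i z) := by
      have := hz.map (e : S →ₐ[A] Sh.Rsh A Ω)
      rwa [hψ, AlgEquiv.coe_toAlgHom, AlgEquiv.apply_symm_apply] at this
    exact Sh.isUnit_ofL_iff.mp h1
  let εE : i.L ≃ₐ[A] ψ.range := AlgEquiv.ofInjective ψ hinj
  refine ⟨ψ.range, ?_, εE.toRingEquiv.isLocalRing, ?_⟩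
  · -- `D ≤ E`
    have hadj : ∀ y ∈ Algebra.adjoin A (σ : Set D), ((y : D) : S) ∈ ψ.range := by
      have hle : Algebra.adjoin A (σ : Set D) ≤ ψ.range.comap D.val := by
        apply Algebra.adjoin_le
        intro y hy
        have hy' : y ∈ σ := hy
        rw [SetLike.mem_coe, Subalgebra.mem_comap]
        refine ⟨x' (σ.equivFin ⟨y, hy'⟩), ?_⟩
        rw [AlgHom.toRingHom_eq_coe, RingHom.coe_coe, hψ, hx']
        simp
      intro y hy
      exact hle hy
    intro d hd
    obtain ⟨t, ht, htu, hdt⟩ := hσ ⟨d, hd⟩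
    obtain ⟨z, hz⟩ := hadj t ht
    obtain ⟨w, hw⟩ := hadj _ hdt
    have htS : IsUnit ((t : D) : S) := htu.map D.val
    have hzu : IsUnit z := hloc z (by rw [AlgHom.toRingHom_eq_coe, RingHom.coe_coe] at hz; rw [hz]; exact htS)
    obtain ⟨z', hz'⟩ := hzu.exists_right_inv
    refine ⟨w * z', ?_⟩
    rw [AlgHom.toRingHom_eq_coe, RingHom.coe_coe] at hz hw ⊢
    have h1 : ψ z * ψ z' = 1 := by rw [← map_mul, hz', map_one]
    have h2 : ψ w = d * ψ z := by
      rw [hw, hz]
      rfl
    rw [map_mul, h2, mul_assoc, h1, mul_one]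
  · obtain ⟨C, _, _, q, _, het, hq, ⟨e1⟩⟩ := i.isEssentiallyEtale
    exact ⟨C, _, _, q, _, het, hq, ⟨εE.symm.trans e1⟩⟩

/-- Let A be a reduced local ring with finitely many minimal prime ideals, S a strict henselization of
A, and D an A-subalgebra of S which is a local ring dominated by S (local inclusion) and essentially
of finite type over A. Then D is contained in some A-subalgebra E of S which is a local ring and an
essentially etale local A-algebra. -/
theorem result
    (A S : Type u) [CommRing A] [IsLocalRing A] [IsReduced A] (hmin : (minimalPrimes A).Finite)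
    [CommRing S] [IsLocalRing S] [Algebra A S] [IsLocalHom (algebraMap A S)]
    [Hensel.IsStrictHenselization A S] (D : Subalgebra A S) [IsLocalRing D]
    [IsLocalHom (algebraMap D S)] [Algebra.EssFiniteType A D] :
    ∃ E : Subalgebra A S, D ≤ E ∧ ∃ _ : IsLocalRing E, EGA4loc.IsEssentiallyEtale A E := by
  exact aux A S D

end Groth.Agent.S16442
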