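import Groth.Statements.S16454
import Groth.Agent.R2.H77GrFlat

set_option autoImplicit false
universe u
open TensorProduct
open EGA43

namespace Groth.Agent.S16454

/-- Let A be a commutative ring, I a nilpotent ideal of A and M an A-module, and form the associated
graded ring G = ⊕ₙ Iⁿ/Iⁿ⁺¹ and the associated graded G-module gr_I(M) = ⊕ₙ IⁿM/Iⁿ⁺¹M. Assume that
M/IM is flat over A/I and that the canonical homomorphism (M/IM) ⊗ G → gr_I(M), [x] ⊗ [a] ↦ [a·x],
is injective: degree by degree, whenever elements a_i ∈ Iⁿ and x_i ∈ M satisfy Σ_i [a_i]·[x_i] = 0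
in gr_I(M) (that is Σ a_i x_i ∈ Iⁿ⁺¹M), the element Σ_i [a_i] ⊗ [x_i] of (Iⁿ/Iⁿ⁺¹) ⊗ (M/IM) is zero.
Then M is a flat A-module. (The published lemma is stated for any finite decreasing multiplicative
filtration A = J₀ ⊇ J₁ ⊇ … ⊇ J_N₊₁ = 0 of A with M filtered by the submodules JₙM; this row is its
case Jₙ = Iⁿ.) -/
theorem result (A : Type u) [CommRing A] (I : Ideal A)
    (hI : IsNilpotent I) (M : Type u) [AddCommGroup M] [Module A M]
    (hflat : Module.Flat (A ⧸ I) (M ⧸ (I • (⊤ : Submodule A M))))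
    (hinj : ∀ (n k : ℕ) (a : Fin k → ↥((FiltBl.IdealFiltration.adic I).F n))
      (x : Fin k → ↥((Rees.powFilt I M).N 0)),
      (∑ i, (AssocGr.inDeg (FiltBl.IdealFiltration.adic I) n (a i) :
          AssocGr.GrRing (FiltBl.IdealFiltration.adic I)) •
        (AssocGr.inDegM (Rees.powFilt I M) 0 (x i) : AssocGr.GrMod (Rees.powFilt I M))) = 0 →
      (∑ i, (AssocGr.inDeg (FiltBl.IdealFiltration.adic I) n (a i)) ⊗ₜ[A]
          (Submodule.Quotient.mk (x i : M)) :
        ↥(AssocGr.gr (FiltBl.IdealFiltration.adic I) n) ⊗[A] (M ⧸ (I • (⊤ : Submodule A M)))) = 0) :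
    Module.Flat A M := by
  classical
  have hN0 : ∀ x : M, x ∈ (Rees.powFilt I M).N 0 := by
    intro x
    simp [Ideal.stableFiltration_N]
  -- the hypothesis in elementwise form
  have Hn : ∀ (n k : ℕ) (a : Fin k → ↥((FiltBl.IdealFiltration.adic I).F n)) (x : Fin k → M),
      ∑ i, (a i : A) • x i = 0 →
      ∑ i, (AssocGr.inDeg (FiltBl.IdealFiltration.adic I) n (a i)) ⊗ₜ[A]
        ((I • (⊤ : Submodule A M)).mkQ (x i)) = 0 := by
    intro n k a x h0
    refine hinj n k a (fun i => ⟨x i, hN0 (x i)⟩) ?_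
    have h1 : ∀ i, (AssocGr.inDeg (FiltBl.IdealFiltration.adic I) n (a i) :
          AssocGr.GrRing (FiltBl.IdealFiltration.adic I)) •
        (AssocGr.inDegM (Rees.powFilt I M) 0 ⟨x i, hN0 (x i)⟩ : AssocGr.GrMod (Rees.powFilt I M)) =
        (AssocGr.inDegM (Rees.powFilt I M) (n + 0) ⟨(a i : A) • x i,
          (Rees.powFilt I M).pow_smul_le n 0 (Submodule.smul_mem_smul (a i).2 (hN0 (x i)))⟩ :
            AssocGr.GrMod (Rees.powFilt I M)) := fun i =>
      AssocGr.inDeg_smul_inDegM (Rees.powFilt I M) n 0 (a i) ⟨x i, hN0 (x i)⟩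
    rw [Finset.sum_congr rfl (fun i _ => h1 i), ← AddSubmonoidClass.coe_finsetSum, ← map_sum,
      ZeroMemClass.coe_eq_zero, AssocGr.inDegM_eq_zero_iff]
    rw [AddSubmonoidClass.coe_finsetSum]
    simp only []
    rw [h0]
    exact Submodule.zero_mem _
  -- descending induction
  obtain ⟨N, hN⟩ := hI
  have hbig : ∀ n, N ≤ n →
      Function.Injective (((FiltBl.IdealFiltration.adic I).F n).subtype.lTensor M) := by
    intro n hn
    have hbot : (FiltBl.IdealFiltration.adic I).F n = ⊥ := by
      change I ^ n = ⊥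
      rw [eq_bot_iff]
      calc I ^ n ≤ I ^ N := Ideal.pow_le_pow_right hn
        _ = ⊥ := hN
    have hall : ∀ z : M ⊗[A] ↥((FiltBl.IdealFiltration.adic I).F n), z = 0 := by
      intro z
      induction z with
      | zero => rfl
      | tmul m a =>
        have ha : a = 0 := by
          apply Subtype.ext
          exact Ideal.mem_bot.mp (hbot.le a.2)
        rw [ha, TensorProduct.tmul_zero]
      | add x y hx hy => rw [hx, hy, add_zero]
    intro z w _
    rw [hall z, hall w]
  have key : ∀ d n, N ≤ n + d →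
      Function.Injective (((FiltBl.IdealFiltration.adic I).F n).subtype.lTensor M) := by
    intro d
    induction d with
    | zero => intro n hn; exact hbig n hn
    | succ d ih =>
      intro n hn
      have ih' := ih (n + 1) (by omega)
      refine Groth.Agent.R2.H77.GrFlat.step I ((FiltBl.IdealFiltration.adic I).F (n + 1))
        ((FiltBl.IdealFiltration.adic I).F n)
        ((FiltBl.IdealFiltration.adic I).antitone (Nat.le_succ n))
        ↥(AssocGr.gr (FiltBl.IdealFiltration.adic I) n)
        (AssocGr.inDeg (FiltBl.IdealFiltration.adic I) n)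
        (AssocGr.inDeg_surjective _ n) (AssocGr.inDeg_eq_zero_iff _ n) ?_ (Hn n) ih'
      intro a ha g
      obtain ⟨b, rfl⟩ := AssocGr.inDeg_surjective _ n g
      rw [← map_smul, AssocGr.inDeg_eq_zero_iff]
      change a * (b : A) ∈ I ^ (n + 1)
      rw [pow_succ']
      exact Ideal.mul_mem_mul ha b.2
  have h1 : ∀ J : Ideal A, J = I → Function.Injective (J.subtype.lTensor M) →
      Function.Injective (I.subtype.lTensor M) := by
    rintro J rfl h
    exact h
  have H1 : Function.Injective (I.subtype.lTensor M) :=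
    h1 ((FiltBl.IdealFiltration.adic I).F 1) (pow_one I) (key N 1 (by omega))
  have H2 : Module.Flat (A ⧸ I) ((A ⧸ I) ⊗[A] M) := by
    let e : (M ⧸ (I • (⊤ : Submodule A M))) ≃ₗ[A ⧸ I] (A ⧸ I) ⊗[A] M :=
      LinearEquiv.extendScalarsOfSurjective Ideal.Quotient.mk_surjective
        (TensorProduct.quotTensorEquivQuotSMul M I).symm
    exact Module.Flat.of_linearEquiv e.symm
  exact Groth.Agent.Lib.Helper5.flat_of_isNilpotent I ⟨N, hN⟩ H1 H2

end Groth.Agent.S16454
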