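import Groth.Statements.S16482
import Mathlib
-- import your own Groth.Agent.* helpers here

set_option autoImplicit false
open CategoryTheory CategoryTheory.Limits AlgebraicGeometry
universe u
open FrobSch

namespace Groth.Agent.S16482

/-- In a reduced commutative ring in which the prime `p` vanishes, `p`-th powers determine elements. -/
theorem eq_of_pow_eq {R : Type*} [CommRing R] [IsReduced R] (p : ℕ) [Fact p.Prime]
    (hp : (p : R) = 0) {x y : R} (h : x ^ p = y ^ p) : x = y := by
  rcases subsingleton_or_nontrivial R with hR | hR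
  · exact Subsingleton.elim _ _
  · have : CharP R p := (CharP.charP_iff_prime_eq_zero Fact.out).2 hp
    have h1 : (x - y) ^ p = 0 := by
      rw [sub_pow_char, h, sub_self]
    have h2 : x - y = 0 := IsReduced.eq_zero _ ⟨p, h1⟩
    exact sub_eq_zero.mp h2

/-- The absolute Frobenius of a reduced scheme of characteristic `p` can be cancelled on the left. -/
theorem eq_of_frob_comp_eq {Y Z : Scheme.{u}} (p : ℕ) [Fact p.Prime] [FrobSch.IsCharP Y p]
    [IsReduced Y] (g₁ g₂ : Y ⟶ Z)
    (h : FrobSch.frob Y p ≫ g₁ = FrobSch.frob Y p ≫ g₂) : g₁ = g₂ := by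
  have hb : g₁.base = g₂.base := by
    have := congrArg (fun φ : Y ⟶ Z => φ.base) h
    simpa using this
  refine Scheme.Hom.ext hb (fun U => ?_)
  have key := Scheme.Hom.congr_app h.symm U
  rw [Scheme.Hom.comp_app, Scheme.Hom.comp_app] at key
  ext s
  have key2 : ((g₂.app U).hom s) ^ p =
      (Y.presheaf.map (eqToHom (by rw [hb])).op).hom (((g₁.app U).hom s) ^ p) :=
    congrArg (fun φ => φ.hom s) key
  symm
  apply eq_of_pow_eq p (FrobSch.natCast_eq_zero_app Y p _)
  rw [key2, map_pow]
  rfl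

theorem result (p : ℕ) [Fact p.Prime]
    {Y Z S : Scheme.{u}} [FrobSch.IsCharP S p] [IsReduced S] [Flat (FrobSch.frob S p)]
    [IsReduced Y] (a : Y ⟶ S) (b : Z ⟶ S) (g₁ g₂ : Y ⟶ Z) (hg₁ : g₁ ≫ b = a) (hg₂ : g₂ ≫ b = a)
    (h : FrobSch.relFrob a p ≫ pullback.map a (FrobSch.frob S p) b (FrobSch.frob S p) g₁ (𝟙 S) (𝟙 S)
        ((Category.comp_id a).trans hg₁.symm) ((Category.comp_id _).trans (Category.id_comp _).symm) =
      FrobSch.relFrob a p ≫ pullback.map a (FrobSch.frob S p) b (FrobSch.frob S p) g₂ (𝟙 S) (𝟙 S)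
        ((Category.comp_id a).trans hg₂.symm) ((Category.comp_id _).trans (Category.id_comp _).symm)) :
    g₁ = g₂ := by
  have : FrobSch.IsCharP Y p := FrobSch.IsCharP.of_hom a p
  apply eq_of_frob_comp_eq p
  have h' := congrArg (fun φ => φ ≫ pullback.fst b (FrobSch.frob S p)) h
  simp only [Category.assoc, pullback.lift_fst, pullback.map] at h'
  rw [FrobSch.relFrob_fst_assoc, FrobSch.relFrob_fst_assoc] at h'
  exact h'

end Groth.Agent.S16482
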