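import Groth.Statements.S16483
import Mathlib
-- import your own Groth.Agent.* helpers here

set_option autoImplicit false
open CategoryTheory CategoryTheory.Limits AlgebraicGeometry
universe u
open FrobSch

namespace Groth.Agent.S16483

/-- The iterated Frobenius commutes with the Frobenius. -/
theorem frobIter_comp_frob (T : Scheme.{u}) (p : ℕ) [Fact p.Prime] [FrobSch.IsCharP T p] (n : ℕ) :
    FrobSch.frobIter T p n ≫ FrobSch.frob T p = FrobSch.frobIter T p (n + 1) := by
  rw [FrobSch.frobIter_succ, FrobSch.frob_comp]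

theorem ker_frobIter_succ (T : Scheme.{u}) (p : ℕ) [Fact p.Prime] [FrobSch.IsCharP T p] (n : ℕ) :
    (FrobSch.frobIter T p (n + 1)).ker = ((FrobSch.frobIter T p n).ker).map (FrobSch.frob T p) := by
  rw [Scheme.IdealSheafData.map_ker, frobIter_comp_frob]

theorem result (p : ℕ) [Fact p.Prime]
    (k : Type u) [Field k] [CharP k p] [PerfectField k] (n : ℕ)
    {T X : Scheme.{u}} [FrobSch.IsCharP T p] (t : T ⟶ Spec (CommRingCat.of k))
    (x : X ⟶ Spec (CommRingCat.of k))
    (i : T.nilradical.subscheme ⟶ (FrobSch.frobIter T p (n + 1)).ker.subscheme)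
    (hi : i ≫ (FrobSch.frobIter T p (n + 1)).ker.subschemeι = T.nilradical.subschemeι)
    (j : T.nilradical.subscheme ⟶ (FrobSch.frobIter T p n).ker.subscheme)
    (hj : j ≫ (FrobSch.frobIter T p n).ker.subschemeι = T.nilradical.subschemeι)
    (w : (FrobSch.frobIter T p (n + 1)).ker.subscheme ⟶ X)
    (hw : w ≫ x = (FrobSch.frobIter T p (n + 1)).ker.subschemeι ≫ t) :
    ∃ v : (FrobSch.frobIter T p n).ker.subscheme ⟶ FrobSch.frobTwist x p,
      v ≫ pullback.snd x (FrobSch.frob (Spec (CommRingCat.of k)) p) =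
          (FrobSch.frobIter T p n).ker.subschemeι ≫ t ∧
        j ≫ v = i ≫ w ≫ FrobSch.relFrob x p := by
  have hX : FrobSch.IsCharP X p := FrobSch.IsCharP.of_hom x p
  have hT0 : FrobSch.IsCharP T.nilradical.subscheme p :=
    FrobSch.IsCharP.of_hom T.nilradical.subschemeι p
  have hTn1 : FrobSch.IsCharP (FrobSch.frobIter T p (n + 1)).ker.subscheme p :=
    FrobSch.IsCharP.of_hom (FrobSch.frobIter T p (n + 1)).ker.subschemeι p
  -- the Frobenius-induced morphism `T^(n) ⟶ T^(n+1)`
  let φ : (FrobSch.frobIter T p n).ker.subscheme ⟶ (FrobSch.frobIter T p (n + 1)).ker.subscheme :=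
    Scheme.IdealSheafData.subschemeMap _ _ (FrobSch.frob T p) (ker_frobIter_succ T p n).le
  have hφ : φ ≫ (FrobSch.frobIter T p (n + 1)).ker.subschemeι =
      (FrobSch.frobIter T p n).ker.subschemeι ≫ FrobSch.frob T p :=
    Scheme.IdealSheafData.subschemeMap_subschemeι _ _ _ _
  have hcond : (φ ≫ w) ≫ x =
      ((FrobSch.frobIter T p n).ker.subschemeι ≫ t) ≫ FrobSch.frob (Spec (CommRingCat.of k)) p := by
    rw [Category.assoc, hw, reassoc_of% hφ, FrobSch.frob_comp, Category.assoc]
  refine ⟨pullback.lift (φ ≫ w) ((FrobSch.frobIter T p n).ker.subschemeι ≫ t) hcond,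
    pullback.lift_snd _ _ _, ?_⟩
  have hjφ : j ≫ φ = FrobSch.frob T.nilradical.subscheme p ≫ i := by
    rw [← cancel_mono (FrobSch.frobIter T p (n + 1)).ker.subschemeι, Category.assoc, hφ,
      reassoc_of% hj, Category.assoc, hi, FrobSch.frob_comp]
  apply pullback.hom_ext
  · rw [Category.assoc, pullback.lift_fst, Category.assoc, Category.assoc, FrobSch.relFrob_fst,
      ← FrobSch.frob_comp, reassoc_of% hjφ]
    rw [FrobSch.frob_comp_assoc]
  · rw [Category.assoc, pullback.lift_snd, Category.assoc, Category.assoc, FrobSch.relFrob_snd,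
      hw, reassoc_of% hj, reassoc_of% hi]

end Groth.Agent.S16483
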