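import Groth.Statements.S16484
import Groth.Agent.R2.H20FTGerms

set_option autoImplicit false
universe u
open CategoryTheory AlgebraicGeometry
open RefHull

namespace Groth.Agent.S16484

/-- Consider a scheme X together with O_X-modules F and G, where F is assumed to be of finite type, and
fix a point x ∈ X. The natural O_{X,x}-linear map 𝓗om_{O_X}(F, G)_x → Hom_{O_{X,x}}(F_x, G_x),
taking the germ at x of a section of the sheaf Hom to the map on stalks at x that it induces, is
injective. (In the source the claim is made for modules over any ringed space; here it is formulated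
only for schemes, since that is where the sheaf Hom used in the statement is available.) -/
theorem result (X : Scheme.{u}) (F G : X.Modules) (hF : CohB1.IsFT F) (x : X) :
    Function.Injective (RefHull.evalStalk F G x) := by
  have : SheafOfModules.IsFiniteType (R := X.ringCatSheaf) F := hF
  rw [injective_iff_map_eq_zero]
  intro θ hθ
  obtain ⟨U, hxU, g, rfl⟩ := TopCat.Presheaf.exists_germ_eq (RefHull.homSh F G).presheaf θ
  rw [RefHull.evalStalk_germ] at hθ
  obtain ⟨W, hxW, K, hK, t, hspan⟩ := Groth.Agent.R2.H20.FTGerms.exists_generating_germs F x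
  -- the local sections computing `g` on the generators
  have hloc := RefHull.isLocSect_of_mem g
  have h1 : ∀ k : K, ∃ (Wk : X.Opens) (hk : Wk ≤ W ⊓ U), x ∈ Wk ∧
      ∀ y : Wk, g.1 ⟨y.1, (hk y.2).2⟩ (F.presheaf.germ W y.1 (hk y.2).1 (t k)) = 0 := by
    intro k
    obtain ⟨W₁, hxW₁, j, n, hn⟩ := hloc (W ⊓ U) (homOfLE inf_le_right)
      (F.presheaf.map (homOfLE (inf_le_left : W ⊓ U ≤ W)).op (t k)) ⟨x, hxW, hxU⟩
    -- the germ of `n` at `x` vanishes
    have hx0 : G.presheaf.germ W₁ x hxW₁ n = G.presheaf.germ W₁ x hxW₁ 0 := by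
      rw [map_zero, ← hn ⟨x, hxW₁⟩, TopCat.Presheaf.germ_res_apply]
      have : g.1 ⟨x, hxU⟩ = 0 := hθ
      change g.1 ⟨x, hxU⟩ _ = 0
      rw [this]
      rfl
    obtain ⟨W₂, hxW₂, i₁, i₂, e⟩ := G.presheaf.germ_eq x hxW₁ hxW₁ _ _ hx0
    rw [map_zero] at e
    refine ⟨W₂, i₁.le.trans j.le, hxW₂, fun y => ?_⟩
    have h2 := hn ⟨y.1, i₁.le y.2⟩
    rw [TopCat.Presheaf.germ_res_apply] at h2
    dsimp only at h2
    rw [h2, ← TopCat.Presheaf.germ_res_apply G.presheaf i₁ y.1 y.2 n, e, map_zero]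
  choose Wk hk hxk hzero using h1
  have : Finite K := hK
  let W₀ : X.Opens := ⟨(W ⊓ U : Set X) ∩ ⋂ k, (Wk k : Set X),
    (W ⊓ U).2.inter (isOpen_iInter_of_finite fun k => (Wk k).2)⟩
  have hxW₀ : x ∈ W₀ := ⟨⟨hxW, hxU⟩, Set.mem_iInter.2 hxk⟩
  have hW₀U : W₀ ≤ U := fun y hy => hy.1.2
  have hW₀W : W₀ ≤ W := fun y hy => hy.1.1
  have hW₀k : ∀ k, W₀ ≤ Wk k := fun k y hy => Set.mem_iInter.1 hy.2 k
  -- `g` vanishes on `W₀`
  have hg0 : (RefHull.homSh F G).presheaf.map (homOfLE hW₀U).op g = 0 := by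
    apply Subtype.ext
    funext y
    change g.1 ⟨y.1, hW₀U y.2⟩ = 0
    apply LinearMap.ext_on (s := Set.range fun k => F.presheaf.germ W y.1 (hW₀W y.2) (t k))
    · rw [eq_top_iff]
      intro a _
      exact hspan y.1 (hW₀W y.2) a
    · rintro _ ⟨k, rfl⟩
      exact hzero k ⟨y.1, hW₀k k y.2⟩
  rw [← TopCat.Presheaf.germ_res_apply (RefHull.homSh F G).presheaf (homOfLE hW₀U) x hxW₀ g, hg0,
    map_zero]

end Groth.Agent.S16484
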