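import Groth.Statements.S1652
import Groth.Agent.Lib.Helper2TensorInv
import Groth.Agent.Lib.Helper23PB
import Groth.Agent.Lib.Helper23Restr

set_option autoImplicit false
set_option linter.style.haveILetI false
universe u
open CategoryTheory CategoryTheory.Limits AlgebraicGeometry
open Variety

namespace Groth.Agent.S1652

open Groth.Agent.Lib.Helper23.SecTw Groth.Agent.Lib.Helper23.GenLocus Groth.Agent.Lib.Helper23.PB
  Groth.Agent.Lib.Helper2.TensorInv Groth.Agent.Lib.Helper6 Groth.Agent.Lib.Helper23.Extend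

section aux
variable {X : Scheme.{u}}

/-- On an integral scheme, a global section of an invertible module that vanishes on a nonempty open
vanishes. -/
theorem eq_zero_of_res_eq_zero [IsIntegral X] (L : X.Modules) (hL : PicF.IsInvertible L)
    (σ : Γ(L, ⊤)) (W : X.Opens) (hW : (W : Set X).Nonempty)
    (h : res L (le_top : W ≤ ⊤) σ = 0) : σ = 0 := by
  have key : ∀ y : X, ∃ (V : X.Opens) (hV : V ≤ ⊤), y ∈ V ∧ res L hV σ = 0 := by
    intro y
    obtain ⟨V, l, hyV, hgen⟩ := exists_gen L hL y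
    refine ⟨V, le_top, hyV, ?_⟩
    have hspec : coef hgen le_rfl (res L le_top σ) • res L le_rfl l = res L le_top σ :=
      coef_spec hgen le_rfl _
    have hne : Nonempty ((V ⊓ W : X.Opens)) := by
      obtain ⟨z, hz⟩ := (PreirreducibleSpace.isPreirreducible_univ (X := X)) V W V.2 W.2
        ⟨y, Set.mem_univ _, hyV⟩ (hW.imp fun z hz => ⟨Set.mem_univ _, hz⟩)
      exact ⟨⟨z, hz.2⟩⟩
    have h0 : resf (inf_le_left : V ⊓ W ≤ V) (coef hgen le_rfl (res L le_top σ)) = 0 := by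
      apply (hgen (V ⊓ W) inf_le_left).1
      change resf inf_le_left (coef hgen le_rfl (res L le_top σ)) • res L (inf_le_left : V ⊓ W ≤ V) l
        = (0 : Γ(X, V ⊓ W)) • res L (inf_le_left : V ⊓ W ≤ V) l
      rw [zero_smul]
      have h1 := congrArg (res L (inf_le_left : V ⊓ W ≤ V)) hspec
      rw [res_smul, res_res, res_res] at h1
      rw [h1, ← res_res L (le_top : W ≤ ⊤) inf_le_right, h, res_zero]
    have ha0 : coef hgen le_rfl (res L le_top σ) = 0 := by
      have hinj := AlgebraicGeometry.map_injective_of_isIntegral (X := X)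
        (homOfLE (inf_le_left : V ⊓ W ≤ V))
      apply hinj
      rw [map_zero]
      exact h0
    rw [← hspec, ha0, zero_smul]
  choose V hV hy hz using key
  refine (modSheaf L).eq_of_locally_eq' V ⊤ (fun y => homOfLE (hV y)) ?_ σ 0 ?_
  · intro x _
    exact TopologicalSpace.Opens.mem_iSup.mpr ⟨x, hy x⟩
  · intro x
    rw [map_zero]
    exact hz x

theorem sv_ne_zero {L : X.Modules} (s : Coh.structureModule X ⟶ L) (hs : s ≠ 0) : sv s ⊤ ≠ 0 := by
  intro h0
  apply hs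
  apply hom_ext_of_sv
  rw [h0]
  rfl

end aux

/-- On a proper curve over a field, if L and M are invertible modules with L ⊗ M ≅ O_X and both L and M
have a nonzero global section, then L is isomorphic to the structure sheaf. -/
theorem result (k : Type u) [Field k] (X : Scheme.{u}) [X.Over (Spec (CommRingCat.of k))]
    [IsIntegral X] [IsProper (X ↘ (Spec (CommRingCat.of k)))] (hdim : topologicalKrullDim X = 1)
    (L M : X.Modules) (hL : PicF.IsInvertible L) (hM : PicF.IsInvertible M) (hLM : ClSub.IsInverseOf L M)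
    (s : Coh.structureModule X ⟶ L) (hs : s ≠ 0) (t : Coh.structureModule X ⟶ M) (ht : t ≠ 0) :
    Nonempty (L ≅ Coh.structureModule X) := by
  obtain ⟨e⟩ := hLM
  have hσ0 : sv s ⊤ ≠ 0 := sv_ne_zero s hs
  have hτ0 : sv t ⊤ ≠ 0 := sv_ne_zero t ht
  -- the global function `c = ⟨σ, τ⟩`
  have hc0 : pairing L M e.hom ⊤ (sv s ⊤) (sv t ⊤) ≠ 0 := by
    intro hc0
    obtain ⟨x⟩ : Nonempty X := inferInstance
    obtain ⟨W₁, l, hx1, hl⟩ := exists_gen L hL x
    obtain ⟨W₂, m, hx2, hm⟩ := exists_gen M hM x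
    have hl' := hl.mono (inf_le_left : W₁ ⊓ W₂ ≤ W₁)
    have hm' := hm.mono (inf_le_right : W₁ ⊓ W₂ ≤ W₂)
    have ha : coef hl' le_rfl (res L le_top (sv s ⊤)) • res L (inf_le_left : W₁ ⊓ W₂ ≤ W₁) l = res L le_top (sv s ⊤) := by
      have := coef_spec hl' le_rfl (res L le_top (sv s ⊤))
      rwa [res_self] at this
    have hb : coef hm' le_rfl (res M le_top (sv t ⊤)) • res M (inf_le_right : W₁ ⊓ W₂ ≤ W₂) m = res M le_top (sv t ⊤) := by
      have := coef_spec hm' le_rfl (res M le_top (sv t ⊤))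
      rwa [res_self] at this
    have h1 : resf (le_top : W₁ ⊓ W₂ ≤ ⊤) (pairing L M e.hom ⊤ (sv s ⊤) (sv t ⊤)) =
        coef hl' le_rfl (res L le_top (sv s ⊤)) * (coef hm' le_rfl (res M le_top (sv t ⊤)) *
          pairing L M e.hom (W₁ ⊓ W₂) (res L (inf_le_left : W₁ ⊓ W₂ ≤ W₁) l) (res M (inf_le_right : W₁ ⊓ W₂ ≤ W₂) m)) := by
      rw [← pairing_res, ← ha, ← hb, pairing_smul_left, pairing_smul_right, ha, hb]
    have hu : IsUnit (pairing L M e.hom (W₁ ⊓ W₂) (res L (inf_le_left : W₁ ⊓ W₂ ≤ W₁) l) (res M (inf_le_right : W₁ ⊓ W₂ ≤ W₂) m)) := by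
      have h2 := isUnit_coef_of_isGen (isGen_one (W₁ ⊓ W₂))
        (isGen_of_iso e (isGen_tm L M (W₁ ⊓ W₂) _ _ hl' hm'))
      have h3 : coef (isGen_one (W₁ ⊓ W₂)) le_rfl
          (e.hom.app (W₁ ⊓ W₂) (tm L M (W₁ ⊓ W₂) (res L (inf_le_left : W₁ ⊓ W₂ ≤ W₁) l) (res M (inf_le_right : W₁ ⊓ W₂ ≤ W₂) m))) =
          pairing L M e.hom (W₁ ⊓ W₂) (res L (inf_le_left : W₁ ⊓ W₂ ≤ W₁) l) (res M (inf_le_right : W₁ ⊓ W₂ ≤ W₂) m) := by
        symm
        apply coef_unique
        rw [res_self, smul_toS, mul_one]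
        rfl
      rwa [h3] at h2
    have h0 : coef hl' le_rfl (res L le_top (sv s ⊤)) * coef hm' le_rfl (res M le_top (sv t ⊤)) = 0 := by
      have h4 : coef hl' le_rfl (res L le_top (sv s ⊤)) * (coef hm' le_rfl (res M le_top (sv t ⊤)) *
          pairing L M e.hom (W₁ ⊓ W₂) (res L (inf_le_left : W₁ ⊓ W₂ ≤ W₁) l) (res M (inf_le_right : W₁ ⊓ W₂ ≤ W₂) m)) = 0 := by
        rw [← h1, hc0]
        exact map_zero _
      rw [← mul_assoc] at h4
      exact hu.mul_left_eq_zero.mp h4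
    haveI : Nonempty (W₁ ⊓ W₂ : X.Opens) := ⟨⟨x, hx1, hx2⟩⟩
    haveI : IsDomain Γ(X, W₁ ⊓ W₂) := inferInstance
    rcases mul_eq_zero.mp h0 with ha0 | hb0
    · apply hσ0
      apply eq_zero_of_res_eq_zero L hL (sv s ⊤) (W₁ ⊓ W₂) ⟨x, hx1, hx2⟩
      rw [← ha, ha0, zero_smul]
    · apply hτ0
      apply eq_zero_of_res_eq_zero M hM (sv t ⊤) (W₁ ⊓ W₂) ⟨x, hx1, hx2⟩
      rw [← hb, hb0, zero_smul]
  -- `Γ(X, ⊤)` is a field
  have hfield : IsField Γ(X, ⊤) := isField_of_universallyClosed k (X ↘ Spec (CommRingCat.of k))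
  have hcu : IsUnit (pairing L M e.hom ⊤ (sv s ⊤) (sv t ⊤)) := by
    obtain ⟨d, hd⟩ := hfield.mul_inv_cancel hc0
    exact IsUnit.of_mul_eq_one d hd
  have hgenσ : IsGen L ⊤ (sv s ⊤) := isGen_of_isUnit_pairing L M e ⊤ (sv s ⊤) (sv t ⊤) hcu
  have hiso : IsIso s := by
    rw [Scheme.Modules.Hom.isIso_iff_isIso_app]
    intro V
    rw [ConcreteCategory.isIso_iff_bijective]
    have hfun : ⇑(s.app V) = (fun r : Γ(X, V) => r • res L le_top (sv s ⊤)) ∘ (ofS V) := by
      funext b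
      have h1 := app_toS s V (ofS V b)
      rw [toS_ofS] at h1
      rw [h1, ← res_sv s (le_top : V ≤ ⊤)]
      rfl
    rw [hfun]
    exact (hgenσ V le_top).comp ⟨fun a b h => h, fun b => ⟨b, rfl⟩⟩
  exact ⟨(asIso s).symm⟩

end Groth.Agent.S1652
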