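import Groth.Statements.S16546
import Groth.Agent.S16535
import Groth.Agent.Lib.Helper14Disp4
import Groth.Agent.Lib.Helper22Disp
import Groth.Agent.Lib.Helper22Witt
import Mathlib.LinearAlgebra.Basis.Prod
import Mathlib.LinearAlgebra.Projection

set_option autoImplicit false
set_option linter.unusedSectionVars false
universe u v w
open Disp

namespace Groth.Agent.S16546

open Dieu W4c1extbt610 WittVector

section general

variable {p : ℕ} [Fact p.Prime] {R : Type u} [CommRing R]

local notation "W" => WittVector p R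
local notation "σ" => (WittVector.frobenius : WittVector p R →+* WittVector p R)
local notation "κ" => R ⧸ Ideal.span {(p : R)}

/-- the reduction `W(R) → R/pR`. -/
noncomputable def red : WittVector p R →+* (R ⧸ Ideal.span {(p : R)}) :=
  (Ideal.Quotient.mk (Ideal.span {(p : R)})).comp (constantCoeff : WittVector p R →+* R)

theorem red_surjective : Function.Surjective (red (p := p) (R := R)) := by
  intro x
  obtain ⟨r, rfl⟩ := Ideal.Quotient.mk_surjective x
  exact ⟨teichmuller p r, by
    change Ideal.Quotient.mk _ (constantCoeff (teichmuller p r)) = _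
    have : constantCoeff (teichmuller p r) = r := teichmuller_coeff_zero p r
    rw [this]⟩

theorem red_frobenius (x : WittVector p R) : red (frobenius x) = red x ^ p := by
  change Ideal.Quotient.mk _ (constantCoeff (frobenius x)) = (Ideal.Quotient.mk _ (constantCoeff x)) ^ p
  rw [← map_pow, Ideal.Quotient.eq]
  exact Groth.Agent.Lib.Helper14.Disp.constantCoeff_frobenius_sub_pow_mem x

theorem red_natCast_p : red (p : WittVector p R) = 0 := by
  change Ideal.Quotient.mk _ (constantCoeff (p : WittVector p R)) = 0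
  rw [map_natCast, Ideal.Quotient.eq_zero_iff_mem]
  exact Ideal.mem_span_singleton_self _

theorem red_verschiebung (x : WittVector p R) : red (verschiebung x) = 0 := by
  change Ideal.Quotient.mk _ (constantCoeff (verschiebung x)) = 0
  have : constantCoeff (verschiebung x) = 0 := verschiebung_coeff_zero x
  rw [this, map_zero]

theorem mem_m_iff (x : WittVector p R) :
    x ∈ IV p R ⊔ Ideal.span {(p : WittVector p R)} ↔ red x = 0 := by
  constructor
  · intro hx
    obtain ⟨a, ha, b, hb, rfl⟩ := Submodule.mem_sup.1 hx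
    obtain ⟨a', rfl⟩ := (Groth.Agent.Lib.Helper22.mem_IV_iff' a).1 ha
    obtain ⟨c, rfl⟩ := Ideal.mem_span_singleton'.1 hb
    rw [map_add, red_verschiebung, map_mul, red_natCast_p, mul_zero, add_zero]
  · intro hx
    have h1 : constantCoeff x ∈ Ideal.span {(p : R)} := Ideal.Quotient.eq_zero_iff_mem.1 hx
    have h2 := Groth.Agent.Lib.Helper14.Disp.mem_sup_of_constantCoeff_mem x h1
    have h3 : RingHom.ker (constantCoeff : WittVector p R →+* R) ≤ IV p R := by
      intro a ha
      obtain ⟨y, rfl⟩ := (Groth.Agent.Lib.Helper22.mem_ker_constantCoeff_iff a).1 ha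
      exact verschiebung_mem_IV p R y
    exact (sup_le_sup_right h3 (Ideal.span {(p : WittVector p R)})) h2

/-- Frobenius of `R/pR` as a ring homomorphism (no characteristic assumption needed). -/
noncomputable def frobK : (R ⧸ Ideal.span {(p : R)}) →+* (R ⧸ Ideal.span {(p : R)}) where
  toFun x := x ^ p
  map_one' := one_pow _
  map_mul' x y := mul_pow x y p
  map_zero' := zero_pow (Fact.out : p.Prime).ne_zero
  map_add' x y := by
    obtain ⟨a, rfl⟩ := red_surjective (p := p) x
    obtain ⟨b, rfl⟩ := red_surjective (p := p) y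
    rw [← map_add, ← red_frobenius, ← red_frobenius, ← red_frobenius, map_add, map_add]

theorem frobK_apply (x : R ⧸ Ideal.span {(p : R)}) : frobK (p := p) x = x ^ p := rfl

end general

section coords

variable {p : ℕ} [Fact p.Prime] {R : Type u} [CommRing R]
variable {P : Type v} [AddCommGroup P] [Module (WittVector p R) P]
variable {ι : Type w} [Fintype ι]

/-- entrywise application of a ring endomorphism, as a semilinear map. -/
noncomputable def mapSL (g : WittVector p R →+* WittVector p R) :
    (ι → WittVector p R) →ₛₗ[g] (ι → WittVector p R) where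
  toFun v := fun i => g (v i)
  map_add' v v' := by ext i; simp
  map_smul' a v := by ext i; simp

/-- coordinates on `BC g P` attached to a basis of `P`. -/
noncomputable def Lam (b : Module.Basis ι (WittVector p R) P)
    (g : WittVector p R →+* WittVector p R) :
    BC g P →ₗ[WittVector p R] (ι → WittVector p R) :=
  BC.lift g ((mapSL g).comp b.equivFun.toLinearMap)

theorem Lam_tmul (b : Module.Basis ι (WittVector p R) P)
    (g : WittVector p R →+* WittVector p R) (w : WittVector p R) (x : P) (a : ι) :
    Lam b g (BC.tmul g w x) a = w * g (b.repr x a) := by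
  rw [Lam, BC.lift_tmul]
  rfl

theorem tmul_sum (g : WittVector p R →+* WittVector p R) (w : WittVector p R)
    {α : Type*} (s : Finset α) (f : α → P) :
    BC.tmul g w (∑ i ∈ s, f i) = ∑ i ∈ s, BC.tmul g w (f i) := by
  classical
  induction s using Finset.induction_on with
  | empty => simp
  | insert a s ha ih => rw [Finset.sum_insert ha, Finset.sum_insert ha, BC.tmul_add, ih]

theorem eq_sum_Lam (b : Module.Basis ι (WittVector p R) P)
    (g : WittVector p R →+* WittVector p R) (z : BC g P) :
    z = ∑ i, Lam b g z i • BC.tmul g 1 (b i) := by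
  induction z using BC.induction_on g with
  | zero => simp
  | tmul w x =>
    have h1 : ∀ i, Lam b g (BC.tmul g w x) i • BC.tmul g 1 (b i) =
        BC.tmul g w (b.repr x i • b i) := by
      intro i
      rw [Lam_tmul, BC.smul_tmul, mul_one, BC.tmul_mul_apply]
    simp_rw [h1]
    rw [← tmul_sum]
    congr 1
    exact (b.sum_repr x).symm
  | add z₁ z₂ h₁ h₂ =>
    conv_lhs => rw [h₁, h₂]
    rw [← Finset.sum_add_distrib]
    refine Finset.sum_congr rfl fun i _ => ?_
    rw [map_add, Pi.add_apply, add_smul]

theorem red_Lam_eq_zero_of_mem (b : Module.Basis ι (WittVector p R) P)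
    (g : WittVector p R →+* WittVector p R) (z : BC g P)
    (hz : z ∈ (IV p R ⊔ Ideal.span {(p : WittVector p R)}) • (⊤ : Submodule (WittVector p R) (BC g P)))
    (a : ι) : red (Lam b g z a) = 0 := by
  refine Submodule.smul_induction_on hz ?_ ?_
  · intro r hr n _
    rw [map_smul, Pi.smul_apply, smul_eq_mul, map_mul, (mem_m_iff r).1 hr, zero_mul]
  · intro x y hx hy
    rw [map_add, Pi.add_apply, map_add, hx, hy, add_zero]

theorem mem_of_red_Lam_eq_zero (b : Module.Basis ι (WittVector p R) P)
    (g : WittVector p R →+* WittVector p R) (z : BC g P)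
    (h : ∀ a, red (Lam b g z a) = 0) :
    z ∈ (IV p R ⊔ Ideal.span {(p : WittVector p R)}) • (⊤ : Submodule (WittVector p R) (BC g P)) := by
  rw [eq_sum_Lam b g z]
  refine Submodule.sum_mem _ fun i _ => ?_
  exact Submodule.smul_mem_smul ((mem_m_iff _).2 (h i)) Submodule.mem_top

theorem Lam_castHom (b : Module.Basis ι (WittVector p R) P)
    {g g' : WittVector p R →+* WittVector p R} (e : g = g') (z : BC g P) :
    Lam b g' (BC.castHom e z) = Lam b g z := by
  subst e
  rfl

theorem Lam_push (b : Module.Basis ι (WittVector p R) P)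
    (g h : WittVector p R →+* WittVector p R) (z : BC g P) (a : ι) :
    Lam b (h.comp g) (BC.push g h z) a = h (Lam b g z a) := by
  induction z using BC.induction_on g with
  | zero => simp
  | tmul w x =>
    rw [BC.push_tmul, Lam_tmul, Lam_tmul, map_mul, RingHom.comp_apply]
  | add z₁ z₂ h₁ h₂ =>
    rw [map_add, map_add, Pi.add_apply, h₁, h₂, map_add, Pi.add_apply, map_add]

end coords

section recursion

variable {p : ℕ} [Fact p.Prime] {R : Type u} [CommRing R]
variable {P : Type v} [AddCommGroup P] [Module (WittVector p R) P]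
variable {ι : Type w} [Fintype ι] [DecidableEq ι]

local notation "σ" => (WittVector.frobenius : WittVector p R →+* WittVector p R)

/-- the reduced coordinates of `V^{(n+1)#} e_i`. -/
noncomputable def U (b : Module.Basis ι (WittVector p R) P)
    (Vs : P →ₗ[WittVector p R] BC σ P) (n : ℕ) : Matrix ι ι (R ⧸ Ideal.span {(p : R)}) :=
  Matrix.of fun a i => red (Lam b (σ ^ (n + 1)) (vSharpPow Vs n (b i)) a)

variable (b : Module.Basis ι (WittVector p R) P)
  (Vs : P →ₗ[WittVector p R] BC (WittVector.frobenius : WittVector p R →+* WittVector p R) P)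
  (γ : ι → ι → WittVector p R)
  (hγ : ∀ i, Vs (b i) = ∑ m, γ m i •
    BC.tmul (WittVector.frobenius : WittVector p R →+* WittVector p R) 1 (b m))

include hγ in
theorem U_zero : U b Vs 0 = Matrix.of fun a i => red (γ a i) := by
  ext a i
  rw [U, Matrix.of_apply, Matrix.of_apply, vSharpPow_zero_apply, Lam_castHom, hγ, map_sum,
    Finset.sum_apply]
  congr 1
  rw [Finset.sum_eq_single a]
  · rw [map_smul, Pi.smul_apply, Lam_tmul, Module.Basis.repr_self, Finsupp.single_eq_same,
      map_one, mul_one, smul_eq_mul, mul_one]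
  · intro m _ hm
    rw [map_smul, Pi.smul_apply, Lam_tmul, Module.Basis.repr_self, Finsupp.single_apply,
      if_neg hm, map_zero, mul_zero, smul_zero]
  · intro h
    exact absurd (Finset.mem_univ a) h

include hγ in
theorem U_succ (n : ℕ) :
    U b Vs (n + 1) = (U b Vs n).map (frobK (p := p)) * Matrix.of fun a i => red (γ a i) := by
  ext a i
  rw [Matrix.mul_apply]
  simp only [U, Matrix.of_apply, Matrix.map_apply, frobK_apply]
  rw [vSharpPow_succ_apply, Lam_castHom, hγ]
  simp only [map_sum, map_smul, BC.map_tmul, BC.lift_tmul, one_smul, Finset.sum_apply,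
    Pi.smul_apply, smul_eq_mul, map_mul]
  refine Finset.sum_congr rfl fun m _ => ?_
  rw [Lam_push, red_frobenius, mul_comm]

theorem isVNilpotent_iff : IsVNilpotent Vs ↔ ∃ n, U b Vs n = 0 := by
  constructor
  · rintro ⟨n, hn⟩
    refine ⟨n, ?_⟩
    ext a i
    exact red_Lam_eq_zero_of_mem b _ _ (hn (b i)) a
  · rintro ⟨n, hn⟩
    refine ⟨n, fun x => ?_⟩
    rw [← b.sum_repr x, map_sum]
    refine Submodule.sum_mem _ fun i _ => ?_
    rw [map_smul]
    refine Submodule.smul_mem _ _ (mem_of_red_Lam_eq_zero b _ _ fun a => ?_)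
    exact congrFun (congrFun hn a) i

end recursion

section blocks

variable {p : ℕ} [Fact p.Prime] {R : Type u} [CommRing R]
variable {ιT ιL : Type w} [Fintype ιT] [Fintype ιL] [DecidableEq ιT] [DecidableEq ιL]

/-- the twisted product `B^{(p^{N-1})} ⋯ B^{(p)} B`. -/
noncomputable def twProd (B : Matrix ιL ιL (R ⧸ Ideal.span {(p : R)})) (N : ℕ) :
    Matrix ιL ιL (R ⧸ Ideal.span {(p : R)}) :=
  ((List.range N).reverse.map fun i : ℕ => B.map fun x : R ⧸ Ideal.span {(p : R)} => x ^ p ^ i).prod

theorem twProd_succ (B : Matrix ιL ιL (R ⧸ Ideal.span {(p : R)})) (N : ℕ) :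
    twProd B (N + 1) = (B.map fun x : R ⧸ Ideal.span {(p : R)} => x ^ p ^ N) * twProd B N := by
  rw [twProd, List.range_succ, List.reverse_append, List.reverse_singleton, List.singleton_append,
    List.map_cons, List.prod_cons]
  rfl

theorem twProd_succ' (B : Matrix ιL ιL (R ⧸ Ideal.span {(p : R)})) (N : ℕ) :
    twProd B (N + 1) = (twProd B N).map (frobK (p := p)) * B := by
  induction N with
  | zero =>
    rw [twProd_succ]
    have h0 : twProd B 0 = 1 := rfl
    rw [h0, mul_one, Matrix.map_one _ (map_zero _) (map_one _), one_mul]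
    ext k l
    simp
  | succ N ih =>
    conv_lhs => rw [twProd_succ, ih, ← mul_assoc]
    conv_rhs => rw [twProd_succ B N, Matrix.map_mul]
    congr 2
    ext k l
    simp only [Matrix.map_apply, frobK_apply]
    rw [← pow_mul, pow_succ]

variable (G : Matrix (ιT ⊕ ιL) (ιT ⊕ ιL) (R ⧸ Ideal.span {(p : R)}))
  (Us : ℕ → Matrix (ιT ⊕ ιL) (ιT ⊕ ιL) (R ⧸ Ideal.span {(p : R)}))
  (hG : ∀ j i, G (Sum.inl j) i = 0)
  (h0 : Us 0 = G) (hs : ∀ n, Us (n + 1) = (Us n).map (frobK (p := p)) * G)

include hG h0 hs in
theorem Us_inl (n : ℕ) (j : ιT) (i : ιT ⊕ ιL) : Us n (Sum.inl j) i = 0 := by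
  induction n generalizing i with
  | zero => rw [h0, hG]
  | succ n ih =>
    rw [hs, Matrix.mul_apply]
    refine Finset.sum_eq_zero fun m _ => ?_
    rw [Matrix.map_apply, ih, map_zero, zero_mul]

include hG h0 hs in
theorem Us_block (n : ℕ) (k l : ιL) :
    Us n (Sum.inr k) (Sum.inr l) = twProd (Matrix.of fun k l => G (Sum.inr k) (Sum.inr l)) (n + 1) k l := by
  induction n generalizing k l with
  | zero =>
    rw [h0, twProd_succ]
    have h1 : twProd (Matrix.of fun k l => G (Sum.inr k) (Sum.inr l)) 0 = 1 := rfl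
    rw [h1, mul_one]
    simp
  | succ n ih =>
    rw [hs, twProd_succ', Matrix.mul_apply, Matrix.mul_apply, Fintype.sum_sum_type]
    have h1 : ∑ j : ιT, (Us n).map (frobK (p := p)) (Sum.inr k) (Sum.inl j) * G (Sum.inl j) (Sum.inr l) = 0 :=
      Finset.sum_eq_zero fun j _ => by rw [hG, mul_zero]
    rw [h1, zero_add]
    refine Finset.sum_congr rfl fun k' _ => ?_
    rw [Matrix.map_apply, Matrix.map_apply, ih, Matrix.of_apply]

include hG h0 hs in
theorem exists_Us_eq_zero_iff :
    (∃ n, Us n = 0) ↔ ∃ N : ℕ, 0 < N ∧ twProd (Matrix.of fun k l => G (Sum.inr k) (Sum.inr l)) N = 0 := by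
  constructor
  · rintro ⟨n, hn⟩
    refine ⟨n + 1, Nat.succ_pos n, ?_⟩
    ext k l
    rw [← Us_block G Us hG h0 hs n k l, hn]
    rfl
  · rintro ⟨N, hN, h⟩
    obtain ⟨n, rfl⟩ : ∃ n, N = n + 1 := ⟨N - 1, by omega⟩
    refine ⟨n + 1, ?_⟩
    ext a i
    rw [hs, Matrix.mul_apply]
    refine Finset.sum_eq_zero fun m _ => ?_
    rcases m with j | l
    · rw [hG, mul_zero]
    · have h2 : Us n a (Sum.inr l) = 0 := by
        rcases a with j' | k
        · exact Us_inl G Us hG h0 hs n j' _
        · rw [Us_block G Us hG h0 hs n k l, h]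
          rfl
      rw [Matrix.map_apply, h2, map_zero, zero_mul]

end blocks

/-- Let p be a prime and R a commutative ring in which p is nilpotent (in particular every prime number
other than p is a unit in R); write W = W(R) with Frobenius σ, Verschiebung V, I_R = V(W) and w₀ : W
→ R for the zeroth Witt component. Let (P, Q, F, V⁻¹) be a 3n-display over R with a normal
decomposition P = L ⊕ T, Q = L + I_R·T in which T and L are free with finite bases (t_j) and (l_k).
Let α be the square matrix over W, indexed by the disjoint union of the two index sets, such that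
F(t_j) = Σ_i α_{i,j} e_i and V⁻¹(l_k) = Σ_i α_{i,k} e_i, where (e_i) is the basis of P formed by the
t_j followed by the l_k, and let β be a two-sided inverse of α. Let B be the square block of β on
the L-indices, reduced to R/pR through w₀, and write B^{(p^i)} for the matrix whose entries are the
p^i-th powers of those of B. Then (P, Q, F, V⁻¹) is a display, i.e. its operator V# satisfies the
nilpotence condition, if and only if B^{(p^{N-1})} ⋯ B^{(p)} · B = 0 for some N ≥ 1. -/
theorem result (p : ℕ) [Fact p.Prime] (R : Type u) [CommRing R]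
    (hR : ∀ ℓ : ℕ, ℓ.Prime → ℓ ≠ p → IsUnit (ℓ : R)) (hp : IsNilpotent (p : R))
    (P : Type v) [AddCommGroup P] [Module (WittVector p R) P] (D : W4c1extbt610.Display3n p R P)
    (L T : Submodule (WittVector p R) P) (hLT : IsCompl L T)
    (hQ : D.Q = L ⊔ W4c1extbt610.IV p R • T) (hLQ : L ≤ D.Q)
    (ιT ιL : Type w) [Fintype ιT] [Fintype ιL] [DecidableEq ιT] [DecidableEq ιL]
    (bT : Module.Basis ιT (WittVector p R) T) (bL : Module.Basis ιL (WittVector p R) L)
    (α β : Matrix (ιT ⊕ ιL) (ιT ⊕ ιL) (WittVector p R)) (hαβ : α * β = 1) (hβα : β * α = 1)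
    (hF : ∀ j : ιT, D.F (bT j : P) =
      Finset.univ.sum fun i : ιT ⊕ ιL => α i (Sum.inl j) • Sum.elim (fun a : ιT => (bT a : P)) (fun a : ιL => (bL a : P)) i)
    (hV : ∀ k : ιL, D.Vinv ⟨(bL k : P), hLQ (bL k).2⟩ =
      Finset.univ.sum fun i : ιT ⊕ ιL => α i (Sum.inr k) • Sum.elim (fun a : ιT => (bT a : P)) (fun a : ιL => (bL a : P)) i) :
    Dieu.IsDisplay D ↔
      ∃ N : ℕ, 0 < N ∧
        (((List.range N).reverse.map fun i : ℕ =>
            (Matrix.of fun k l : ιL =>
                Ideal.Quotient.mk (Ideal.span {(p : R)}) (WittVector.constantCoeff (β (Sum.inr k) (Sum.inr l)))).map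
              fun x : R ⧸ Ideal.span {(p : R)} => x ^ p ^ i).prod
          = 0) := by
  classical
  obtain ⟨Vs, hVs, huniq⟩ := Groth.Agent.S16535.result p R hR hp P D
  have hdisp : Dieu.IsDisplay D ↔ Dieu.IsVNilpotent Vs := by
    constructor
    · rintro ⟨Vs', h', hnil⟩
      rwa [huniq Vs' h'] at hnil
    · intro h
      exact ⟨Vs, hVs, h⟩
  rw [hdisp]
  -- the basis of `P`
  let b : Module.Basis (ιT ⊕ ιL) (WittVector p R) P :=
    (bT.prod bL).map (Submodule.prodEquivOfIsCompl T L hLT.symm)
  have hb : ∀ i, b i = Sum.elim (fun a : ιT => (bT a : P)) (fun a : ιL => (bL a : P)) i := by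
    intro i
    change Submodule.prodEquivOfIsCompl T L hLT.symm ((bT.prod bL) i) = _
    rw [Submodule.coe_prodEquivOfIsCompl']
    rcases i with j | k
    · rw [Module.Basis.prod_apply_inl_fst, Module.Basis.prod_apply_inl_snd]
      simp
    · rw [Module.Basis.prod_apply_inr_fst, Module.Basis.prod_apply_inr_snd]
      simp
  let d : ιT ⊕ ιL → WittVector p R := Sum.elim (fun _ => (p : WittVector p R)) (fun _ => 1)
  have hVf : ∀ m, Vs (∑ i, α i m • b i) =
      d m • Dieu.BC.tmul (WittVector.frobenius : WittVector p R →+* WittVector p R) 1 (b m) := by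
    intro m
    simp_rw [hb]
    rcases m with j | k
    · rw [← hF j]
      have h1 := hVs.app_smul_F 1 (bT j : P)
      rw [one_smul] at h1
      rw [h1]
      rfl
    · rw [← hV k]
      have h1 := hVs.app_smul_Vinv 1 ⟨(bL k : P), hLQ (bL k).2⟩
      rw [one_smul] at h1
      rw [h1]
      simp [d]
  have hbe : ∀ i, b i = ∑ m, β m i • ∑ i', α i' m • b i' := by
    intro i
    simp_rw [Finset.smul_sum, smul_smul]
    rw [Finset.sum_comm]
    simp_rw [← Finset.sum_smul]
    have h1 : ∀ i', ∑ m, β m i * α i' m = (1 : Matrix (ιT ⊕ ιL) (ιT ⊕ ιL) (WittVector p R)) i' i := by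
      intro i'
      rw [← hαβ, Matrix.mul_apply]
      exact Finset.sum_congr rfl fun m _ => mul_comm _ _
    simp_rw [h1, Matrix.one_apply]
    rw [Finset.sum_eq_single i]
    · rw [if_pos rfl, one_smul]
    · intro i' _ hi'
      rw [if_neg hi', zero_smul]
    · intro h
      exact absurd (Finset.mem_univ i) h
  have hγ : ∀ i, Vs (b i) = ∑ m, (β m i * d m) •
      Dieu.BC.tmul (WittVector.frobenius : WittVector p R →+* WittVector p R) 1 (b m) := by
    intro i
    conv_lhs => rw [hbe i]
    rw [map_sum]
    refine Finset.sum_congr rfl fun m _ => ?_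
    rw [map_smul, hVf, smul_smul]
  rw [isVNilpotent_iff b Vs]
  have key := exists_Us_eq_zero_iff (p := p) (R := R)
    (Matrix.of fun a i => red (β a i * d a)) (U b Vs)
    (by
      intro j i
      rw [Matrix.of_apply, map_mul]
      change _ * red (p : WittVector p R) = 0
      rw [red_natCast_p, mul_zero])
    (U_zero b Vs _ hγ) (U_succ b Vs _ hγ)
  rw [key]
  have hB : (Matrix.of fun k l : ιL => (Matrix.of fun a i => red (β a i * d a)) (Sum.inr k) (Sum.inr l)) =
      (Matrix.of fun k l : ιL =>
        Ideal.Quotient.mk (Ideal.span {(p : R)}) (WittVector.constantCoeff (β (Sum.inr k) (Sum.inr l)))) := by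
    ext k l
    simp only [Matrix.of_apply]
    change red (β (Sum.inr k) (Sum.inr l) * 1) = _
    rw [mul_one]
    rfl
  rw [hB]
  rfl

end Groth.Agent.S16546
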