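import Groth.Statements.S16547
import Groth.Agent.R2.H78EakinNagata
import Groth.Agent.R2.H78InvPrincipal
import Groth.Agent.Lib.Helper5RLR

set_option autoImplicit false
universe u
open CAlg

namespace Groth.Agent.S16547

/-- Let A be a Noetherian factorial local domain and G a finite group acting faithfully on A by ring
automorphisms; let B be a ring with an injective ring map to A whose image is exactly the ring of
invariants of G, and assume A is a finite B-module. Let q be a prime ideal of B of height one and p
a prime ideal of A lying over q such that the extension of residue fields of the local rings B_q and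
A_p is trivial (every element of A is congruent modulo p to some c⁻¹b with b, c in B, c outside q).
Then q is a principal ideal; and if moreover B/q is a regular local ring, then B is a regular local
ring. -/
theorem result
    {A B G : Type u} [CommRing A] [IsDomain A] [IsNoetherianRing A] [IsLocalRing A]
    [UniqueFactorizationMonoid A]
    [CommRing B] [Algebra B A] [FaithfulSMul B A] [Module.Finite B A]
    [Group G] [Finite G] [MulSemiringAction G A] [FaithfulSMul G A] [SMulCommClass G B A]
    [Algebra.IsInvariant B A G]
    (q : Ideal B) [q.IsPrime] (hq : q.height = 1) (p : Ideal A) [p.IsPrime] [p.LiesOver q]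
    (hres : ∀ a : A, ∃ b c : B, c ∉ q ∧ algebraMap B A c * a - algebraMap B A b ∈ p) :
    Submodule.IsPrincipal q ∧ (IsRegularLocalRing (B ⧸ q) → IsRegularLocalRing B) := by
  have hinj := FaithfulSMul.algebraMap_injective B A
  have hdomB : IsDomain B := hinj.isDomain (algebraMap B A)
  have hq0 : q ≠ ⊥ := Ideal.ne_bot_of_height_eq_one hq
  have hover : q = p.comap (algebraMap B A) := Ideal.LiesOver.over
  have hp0 : p ≠ ⊥ := by
    rintro rfl
    apply hq0
    rw [hover]
    exact Ideal.comap_bot_of_injective _ hinj
  obtain ⟨t, htp, ht⟩ := Ideal.IsPrime.exists_mem_prime_of_ne_bot ‹p.IsPrime› hp0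
  have hP₀ : (Ideal.span {t}).IsPrime := (Ideal.span_singleton_prime ht.ne_zero).2 ht
  have hint : Algebra.IsIntegral B A := Algebra.IsInvariant.isIntegral B A G
  have hq₀ : (Ideal.span {t}).comap (algebraMap B A) ≠ ⊥ :=
    Ideal.comap_ne_bot_of_integral_mem ht.ne_zero (Ideal.mem_span_singleton_self t)
      (hint.isIntegral t)
  have htle : Ideal.span {t} ≤ p := (Ideal.span_singleton_le_iff_mem _).2 htp
  have hle : (Ideal.span {t}).comap (algebraMap B A) ≤ q := by
    rw [hover]
    exact Ideal.comap_mono htle
  have heq : (Ideal.span {t}).comap (algebraMap B A) = q := by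
    by_contra hne
    have hlt := lt_of_le_of_ne hle hne
    have hfin : q.FiniteHeight := by simp [q.finiteHeight_iff, hq]
    have h1 := Ideal.height_strict_mono_of_isPrime_of_isPrime hlt
    rw [hq, Order.lt_one_iff, Ideal.height_eq_zero_iff_eq_bot] at h1
    exact hq₀ h1
  have hpt : p = Ideal.span {t} := by
    by_contra hne
    have hlt : Ideal.span {t} < p := lt_of_le_of_ne htle (Ne.symm hne)
    have h1 := Ideal.IsIntegral.comap_lt_comap (R := B) hlt
    rw [heq, ← hover] at h1
    exact lt_irrefl _ h1
  have hres' : ∀ a : A, ∃ b c : B, ¬ t ∣ algebraMap B A c ∧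
      t ∣ algebraMap B A c * a - algebraMap B A b := by
    intro a
    obtain ⟨b, c, hc, h⟩ := hres a
    refine ⟨b, c, ?_, ?_⟩
    · intro hdvd
      apply hc
      rw [← heq]
      exact Ideal.mem_comap.2 (Ideal.mem_span_singleton.2 hdvd)
    · rw [hpt] at h
      exact Ideal.mem_span_singleton.1 h
  obtain ⟨π, hπ0, hπ⟩ := Groth.Agent.R2.H78.InvPrincipal.exists_generator G ht hres'
  have hqπ : q = Ideal.span {π} := by rw [← hπ, heq]
  refine ⟨⟨π, hqπ⟩, ?_⟩
  intro hreg
  -- `B` is local
  have hunit : ∀ b : B, IsUnit (algebraMap B A b) → IsUnit b := by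
    intro b hb
    obtain ⟨u, hu⟩ := hb.exists_right_inv
    have huinv : ∀ g : G, g • u = u := by
      intro g
      have h1 : algebraMap B A b * g • u = 1 := by
        have := congrArg (fun x => g • x) hu
        simpa [smul_mul', smul_algebraMap] using this
      calc g • u = (algebraMap B A b * u) * g • u := by rw [hu, one_mul]
        _ = u * (algebraMap B A b * g • u) := by ring
        _ = u := by rw [h1, mul_one]
    obtain ⟨b', hb'⟩ := Algebra.IsInvariant.isInvariant (A := B) u huinv
    exact IsUnit.of_mul_eq_one b' (hinj (by rw [map_mul, hb', hu, map_one]))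
  have hlocal : IsLocalRing B := IsLocalRing.of_is_unit_or_is_unit_of_add_one (by
    intro a b hab
    have h1 : algebraMap B A a + algebraMap B A b = 1 := by rw [← map_add, hab, map_one]
    rcases IsLocalRing.isUnit_or_isUnit_of_add_one h1 with h | h
    exacts [Or.inl (hunit a h), Or.inr (hunit b h)])
  have hnoeth : IsNoetherianRing B :=
    Groth.Agent.R2.H78.EakinNagata.isNoetherianRing_of_finite_of_injective hinj
  have hπm : π ∈ IsLocalRing.maximalIdeal B := by
    have h1 : q ≤ IsLocalRing.maximalIdeal B := IsLocalRing.le_maximalIdeal Ideal.IsPrime.ne_top'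
    apply h1
    rw [hqπ]
    exact Ideal.mem_span_singleton_self π
  have hπnzd : π ∈ nonZeroDivisors B := mem_nonZeroDivisors_of_ne_zero hπ0
  subst hqπ
  exact (Groth.Agent.Lib.Helper5.isRegularLocalRing_of_quotient_span_singleton hπm hπnzd).1

end Groth.Agent.S16547
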