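import Groth.Statements.S1660
import Groth.Agent.R2.H8CartExt2

set_option autoImplicit false
set_option linter.style.haveILetI false
universe u
open CategoryTheory CategoryTheory.Limits AlgebraicGeometry
open Divisors

namespace Groth.Agent.S1660

open Groth.Agent.R2.H8.CartExt Groth.Agent.R2.H8.Cartier TopologicalSpace

/-- Let X be locally Noetherian, U open, and D an effective Cartier divisor on U. If the local ring of X
at every point outside U is a unique factorisation domain, then there is an effective Cartier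
divisor D' on X whose restriction (inverse image ideal) to U is D. -/
theorem result (X : Scheme.{u}) [IsLocallyNoetherian X] (U : X.Opens)
    (D : (U : Scheme.{u}).IdealSheafData) (hD : BlowUp.IsEffCartierIdeal D)
    (hufd : ∀ x : X, x ∉ U → IsDomain (X.presheaf.stalk x) ∧ UniqueFactorizationMonoid (X.presheaf.stalk x)) :
    ∃ D' : X.IdealSheafData, BlowUp.IsEffCartierIdeal D' ∧ D'.comap U.ι = D := by
  haveI : QuasiCompact U.ι := inferInstance
  have hcm := comap_map_ι U D
  refine ⟨D.map U.ι, ?_, hcm⟩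
  -- the closure is principal at the points of `U`
  have hU : ∀ z : X, z ∈ U → ∃ V₂ : X.affineOpens, z ∈ V₂.1 ∧ ∃ f' : Γ(X, V₂.1),
      f' ∈ nonZeroDivisors Γ(X, V₂.1) ∧ (D.map U.ι).ideal V₂ = Ideal.span {f'} := by
    intro z hz
    obtain ⟨W, hzW, f, hf, hW⟩ := hD ⟨z, hz⟩
    refine ⟨⟨U.ι ''ᵁ W.1, W.2.image_of_isOpenImmersion U.ι⟩, ⟨⟨z, hz⟩, hzW, rfl⟩,
      (U.ι.appIso W.1).inv.hom f, iso_inv_mem_nonZeroDivisors _ f hf, ?_⟩
    apply ideal_image_eq_span U (D.map U.ι) W f
    rw [hcm]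
    exact hW
  intro x
  by_cases hx : x ∈ U
  · exact hU x hx
  · obtain ⟨hdom, hufdx⟩ := hufd x hx
    obtain ⟨V, hxV, hV, -, hinj⟩ := X.exists_le_and_germ_injective x ⊤ trivial
    haveI : IsNoetherianRing Γ(X, V) := IsLocallyNoetherian.component_noetherian ⟨V, hV⟩
    letI := TopCat.Presheaf.algebra_section_stalk X.presheaf ⟨x, hxV⟩
    haveI := hV.isLocalization_stalk ⟨x, hxV⟩
    haveI : IsDomain Γ(X, V) := Function.Injective.isDomain (X.presheaf.germ V x hxV).hom hinj
    have key : ∃ g : X.presheaf.stalk x, g ≠ 0 ∧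
        ((D.map U.ι).ideal ⟨V, hV⟩).map (algebraMap Γ(X, V) (X.presheaf.stalk x)) =
          Ideal.span {g} := by
      refine map_eq_span_of_spread ((D.map U.ι).ideal ⟨V, hV⟩)
        (hV.primeIdealOf ⟨x, hxV⟩).asIdeal (X.presheaf.stalk x) ?_
      intro q hq _
      haveI hqprime : q.IsPrime := IsAssociatedPrime.isPrime hq
      have hzV : hV.fromSpec (⟨q, hqprime⟩ : PrimeSpectrum Γ(X, V)) ∈ V := by
        have h1 : hV.fromSpec (⟨q, hqprime⟩ : PrimeSpectrum Γ(X, V)) ∈ hV.fromSpec.opensRange :=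
          ⟨_, rfl⟩
        rwa [hV.opensRange_fromSpec] at h1
      have hzU : hV.fromSpec (⟨q, hqprime⟩ : PrimeSpectrum Γ(X, V)) ∈ U := by
        refine fromSpec_mem_of_mem_associatedPrimes_ker (D.subschemeι ≫ U.ι) V hV U ?_ _ ?_
        · intro z
          exact (D.subschemeι z).2
        · have h1 : (D.map U.ι).ideal ⟨V, hV⟩ =
              RingHom.ker ((D.subschemeι ≫ U.ι).app V).hom :=
            Scheme.Hom.ker_apply (D.subschemeι ≫ U.ι) ⟨V, hV⟩
          rw [← h1]
          exact hq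
      obtain ⟨V₂, hzV₂, f', hf', hV₂⟩ := hU _ hzU
      letI := TopCat.Presheaf.algebra_section_stalk X.presheaf
        ⟨hV.fromSpec (⟨q, hqprime⟩ : PrimeSpectrum Γ(X, V)), hzV⟩
      haveI : IsLocalization.AtPrime
          (X.presheaf.stalk (hV.fromSpec (⟨q, hqprime⟩ : PrimeSpectrum Γ(X, V)))) q :=
        hV.isLocalization_stalk' ⟨q, hqprime⟩ hzV
      have hspan := map_germ_eq_span (D.map U.ι) ⟨V, hV⟩ V₂ _ hzV hzV₂ f' hV₂
      have hnzd := germ_mem_nonZeroDivisors V₂ _ hzV₂ f' hf'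
      have hinjz : Function.Injective (algebraMap Γ(X, V)
          (X.presheaf.stalk (hV.fromSpec (⟨q, hqprime⟩ : PrimeSpectrum Γ(X, V))))) :=
        IsLocalization.injective _ (le_nonZeroDivisors_of_noZeroDivisors
          (fun h0 => h0 (zero_mem q)) : q.primeCompl ≤ nonZeroDivisors _)
      obtain ⟨s, hs, a, haI, ha, hsI⟩ := exists_spread ((D.map U.ι).ideal ⟨V, hV⟩) q
        (X.presheaf.stalk (hV.fromSpec (⟨q, hqprime⟩ : PrimeSpectrum Γ(X, V)))) hinjz _ hnzd hspan
      refine ⟨s, a, hs, haI, ?_, hsI⟩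
      intro h0
      have h1 : a = 0 := hinj (h0.trans (map_zero _).symm)
      exact nonZeroDivisors.ne_zero ha h1
    obtain ⟨g, hg0, hg⟩ := key
    exact exists_cartier_of_stalk (D.map U.ι) x ⟨V, hV⟩ hxV g (mem_nonZeroDivisors_of_ne_zero hg0) hg

end Groth.Agent.S1660
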