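import Groth.Statements.S16603
import Groth.Agent.R2.H78LGLift
import Groth.Agent.R2.H78AzuResidue

set_option autoImplicit false
universe u v w
open Brauer

namespace Groth.Agent.S16603

open Groth.Agent.R2.H78

/-- Let R be an LG-ring with Spec R connected, A an Azumaya R-algebra and M, N two finitely generated
projective left A-modules with rank_R N ≤ rank_R M (ranks of the underlying R-modules at every prime
of R). Then N is a homomorphic image of M as an A-module. -/
theorem result {R : Type u} [CommRing R]
    (hR : LGRing.IsLGRing R) [ConnectedSpace (PrimeSpectrum R)] {A : Type v} [Ring A] [Algebra R A] [IsAzumaya R A]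
    (M N : Type w) [AddCommGroup M] [Module A M] [Module R M] [IsScalarTower R A M] [Module.Finite A M]
    [Module.Projective A M] [AddCommGroup N] [Module A N] [Module R N] [IsScalarTower R A N] [Module.Finite A N]
    [Module.Projective A N] (h : ∀ p : PrimeSpectrum R, Module.rankAtStalk N p ≤ Module.rankAtStalk M p) :
    ∃ f : M →ₗ[A] N, Function.Surjective f := by
  have : Module.Finite R M := Module.Finite.trans A M
  have : Module.Finite R N := Module.Finite.trans A N
  have : Module.Projective R N := AzuResidue.projective_of_tower R A N
  obtain ⟨f, g, hfg⟩ := LGLift.exists_bijective_comp (Λ := A) (M := M) (N := N) hR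
    (fun m hm => AzuResidue.exists_maps_mod m M N (h ⟨m, hm.isPrime⟩))
  exact ⟨f, Function.Surjective.of_comp hfg.surjective⟩

end Groth.Agent.S16603
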