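import Groth.Statements.S16602
import Groth.Agent.S16603
import Groth.Agent.R2.H78AzuResidue

set_option autoImplicit false
universe u v w
open Brauer

namespace Groth.Agent.S16602

open Groth.Agent.R2.H78

/-- a surjection from an indecomposable module onto a nonzero projective module is bijective -/
lemma bijective_of_surjective_of_indec {A : Type v} [Ring A] {P Q : Type w} [AddCommGroup P]
    [Module A P] [AddCommGroup Q] [Module A Q] [Module.Projective A Q] [Nontrivial Q]
    (hP : ∀ e : Module.End A P, IsIdempotentElem e → e = 0 ∨ e = 1)
    (f : P →ₗ[A] Q) (hf : Function.Surjective f) : Function.Bijective f := by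
  obtain ⟨s, hs⟩ := Module.projective_lifting_property f LinearMap.id hf
  have hs' : ∀ y, f (s y) = y := fun y => by
    have := congrArg (fun h => h y) hs
    simpa using this
  have hid : IsIdempotentElem (s ∘ₗ f : Module.End A P) := by
    show (s ∘ₗ f) * (s ∘ₗ f) = s ∘ₗ f
    apply LinearMap.ext
    intro x
    simp [Module.End.mul_apply, hs']
  rcases hP _ hid with h0 | h1
  · exfalso
    obtain ⟨y, hy⟩ := exists_ne (0 : Q)
    apply hy
    obtain ⟨x, rfl⟩ := hf y
    have h2 : f (s (f x)) = f x := hs' _
    have h3 : s (f x) = 0 := by
      have := congrArg (fun h => h x) h0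
      simpa using this
    rw [h3, map_zero] at h2
    exact h2.symm
  · refine ⟨?_, hf⟩
    intro x x' hxx
    have e1 : s (f x) = x := by
      have := congrArg (fun h => h x) h1
      simpa using this
    have e2 : s (f x') = x' := by
      have := congrArg (fun h => h x') h1
      simpa using this
    rw [← e1, ← e2, hxx]

/-- Let R be an LG-ring with Spec R connected and A an Azumaya R-algebra. Then any two indecomposable
finitely generated projective left A-modules are isomorphic (a module is indecomposable when it is
non-zero and the only idempotents of its endomorphism ring are 0 and 1). (This extends the semilocal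
case.) -/
theorem result {R : Type u} [CommRing R]
    (hR : LGRing.IsLGRing R) [ConnectedSpace (PrimeSpectrum R)] {A : Type v} [Ring A] [Algebra R A] [IsAzumaya R A]
    (P Q : Type w) [AddCommGroup P] [Module A P] [Module.Finite A P] [Module.Projective A P] [Nontrivial P]
    [AddCommGroup Q] [Module A Q] [Module.Finite A Q] [Module.Projective A Q] [Nontrivial Q]
    (hP : ∀ e : Module.End A P, IsIdempotentElem e → e = 0 ∨ e = 1)
    (hQ : ∀ e : Module.End A Q, IsIdempotentElem e → e = 0 ∨ e = 1) : Nonempty (P ≃ₗ[A] Q) := by
  let _ : Module R P := Module.compHom P (algebraMap R A)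
  let _ : Module R Q := Module.compHom Q (algebraMap R A)
  have : IsScalarTower R A P := ⟨fun r a x => by
    show (r • a) • x = algebraMap R A r • (a • x)
    rw [Algebra.smul_def, mul_smul]⟩
  have : IsScalarTower R A Q := ⟨fun r a x => by
    show (r • a) • x = algebraMap R A r • (a • x)
    rw [Algebra.smul_def, mul_smul]⟩
  have : Module.Finite R P := Module.Finite.trans A P
  have : Module.Finite R Q := Module.Finite.trans A Q
  have : Module.Projective R P := AzuResidue.projective_of_tower R A P
  have : Module.Projective R Q := AzuResidue.projective_of_tower R A Q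
  have : Module.FinitePresentation R P := Module.finitePresentation_of_projective R P
  have : Module.FinitePresentation R Q := Module.finitePresentation_of_projective R Q
  have hcP := Module.isLocallyConstant_rankAtStalk (R := R) (M := P)
  have hcQ := Module.isLocallyConstant_rankAtStalk (R := R) (M := Q)
  obtain ⟨p₀⟩ : Nonempty (PrimeSpectrum R) := inferInstance
  rcases le_total (Module.rankAtStalk Q p₀) (Module.rankAtStalk P p₀) with hle | hle
  · have h : ∀ p : PrimeSpectrum R, Module.rankAtStalk Q p ≤ Module.rankAtStalk P p := by
      intro p
      rw [hcP.apply_eq_of_preconnectedSpace p p₀, hcQ.apply_eq_of_preconnectedSpace p p₀]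
      exact hle
    obtain ⟨f, hf⟩ := Groth.Agent.S16603.result (A := A) hR P Q h
    exact ⟨LinearEquiv.ofBijective f (bijective_of_surjective_of_indec (A := A) hP f hf)⟩
  · have h : ∀ p : PrimeSpectrum R, Module.rankAtStalk P p ≤ Module.rankAtStalk Q p := by
      intro p
      rw [hcP.apply_eq_of_preconnectedSpace p p₀, hcQ.apply_eq_of_preconnectedSpace p p₀]
      exact hle
    obtain ⟨f, hf⟩ := Groth.Agent.S16603.result (A := A) hR Q P h
    exact ⟨(LinearEquiv.ofBijective f (bijective_of_surjective_of_indec (A := A) hQ f hf)).symm⟩

end Groth.Agent.S16602
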