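import Groth.Statements.S16607
import Groth.Agent.R2.H78Cancel

set_option autoImplicit false
universe u v
open Brauer

namespace Groth.Agent.S16607

/-- Let R be an LG-ring, A and B Azumaya R-algebras and n ≥ 1. If Mₙ(A) ≅ Mₙ(B) as R-algebras then A ≅ B
as R-algebras (cancellation of Azumaya algebras). -/
theorem result {R : Type u} [CommRing R]
    (hR : LGRing.IsLGRing R) (A B : Type v) [Ring A] [Algebra R A] [IsAzumaya R A] [Ring B] [Algebra R B]
    [IsAzumaya R B] (n : ℕ) (hn : 0 < n)
    (e : Matrix (Fin n) (Fin n) A ≃ₐ[R] Matrix (Fin n) (Fin n) B) : Nonempty (A ≃ₐ[R] B) := by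
  classical
  have : Nonempty (Fin n) := ⟨⟨0, hn⟩⟩
  have : FaithfulSMul R (Fin n → R) := inferInstance
  let ν : Matrix (Fin n) (Fin n) R ≃ₐ[R] Module.End R (Fin n → R) := Matrix.toLinAlgEquiv'
  let e' : TensorProduct R A (Module.End R (Fin n → R)) ≃ₐ[R]
      TensorProduct R B (Module.End R (Fin n → R)) :=
    (Algebra.TensorProduct.congr AlgEquiv.refl ν.symm).trans <|
      (matrixEquivTensor (Fin n) R A).symm.trans <|
        e.trans <|
          (matrixEquivTensor (Fin n) R B).trans <|
            Algebra.TensorProduct.congr AlgEquiv.refl ν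
  have : IsAzumaya R (Module.End R (Fin n → R)) := Groth.Agent.S19589.result R (Fin n → R)
  have hdeg : ∀ p : PrimeSpectrum R, Module.rankAtStalk A p = Module.rankAtStalk B p := by
    intro p
    have h1 := congrFun (Module.rankAtStalk_eq_of_equiv e'.toLinearEquiv) p
    rw [Module.rankAtStalk_tensorProduct, Module.rankAtStalk_tensorProduct, Pi.mul_apply,
      Pi.mul_apply] at h1
    exact Nat.eq_of_mul_eq_mul_right
      (Groth.Agent.R2.H78.Cancel.rankAtStalk_pos_of_faithful (Module.End R (Fin n → R)) p) h1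
  exact Groth.Agent.R2.H78.Cancel.core hR A B hdeg (Fin n → R) (Fin n → R) e'

end Groth.Agent.S16607
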