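import Groth.Statements.S16608
import Groth.Agent.R2.H78Cancel

set_option autoImplicit false
open scoped TensorProduct
universe u v
open Brauer

namespace Groth.Agent.S16608

/-- Let R be an LG-ring and A, B, C Azumaya R-algebras. If A ⊗_R C ≅ B ⊗_R C as R-algebras then A ≅ B as
R-algebras. -/
theorem result {R : Type u} [CommRing R]
    (hR : LGRing.IsLGRing R) (A B C : Type v) [Ring A] [Algebra R A] [IsAzumaya R A] [Ring B] [Algebra R B]
    [IsAzumaya R B] [Ring C] [Algebra R C] [IsAzumaya R C]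
    (e : A ⊗[R] C ≃ₐ[R] B ⊗[R] C) : Nonempty (A ≃ₐ[R] B) := by
  let μ : C ⊗[R] Cᵐᵒᵖ ≃ₐ[R] Module.End R C :=
    AlgEquiv.ofBijective (AlgHom.mulLeftRight R C) IsAzumaya.bij
  let e' : A ⊗[R] Module.End R C ≃ₐ[R] B ⊗[R] Module.End R C :=
    (Algebra.TensorProduct.congr AlgEquiv.refl μ.symm).trans <|
      (Algebra.TensorProduct.assoc R R R A C Cᵐᵒᵖ).symm.trans <|
        (Algebra.TensorProduct.congr e AlgEquiv.refl).trans <|
          (Algebra.TensorProduct.assoc R R R B C Cᵐᵒᵖ).trans <|
            Algebra.TensorProduct.congr AlgEquiv.refl μ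
  have hdeg : ∀ p : PrimeSpectrum R, Module.rankAtStalk A p = Module.rankAtStalk B p := by
    intro p
    have h1 := congrFun (Module.rankAtStalk_eq_of_equiv e.toLinearEquiv) p
    rw [Module.rankAtStalk_tensorProduct, Module.rankAtStalk_tensorProduct, Pi.mul_apply,
      Pi.mul_apply] at h1
    exact Nat.eq_of_mul_eq_mul_right (Groth.Agent.R2.H78.Cancel.rankAtStalk_pos_of_faithful C p) h1
  exact Groth.Agent.R2.H78.Cancel.core hR A B hdeg C C e'

end Groth.Agent.S16608
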