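import Groth.Statements.S16615
import Groth.Agent.R2.H97MTQuot
import Groth.Agent.R2.H97MTQK
import Groth.Agent.R2.H97MTQE
import Groth.Agent.R2.H32MTQB
import Groth.Agent.R2.H74MTD
import Groth.Agent.R2.H60MTP

set_option autoImplicit false
open CategoryTheory MonoidalCategory CartesianMonoidalCategory MonObj GrpObj AlgebraicGeometry
universe u
open SGA3x

namespace Groth.Agent.S16615

/-- Over an arbitrary scheme S, the quotient Q = T/H of an S-torus T by a subgroup scheme H of (finite)
multiplicative type, when represented by an S-group Q with a homomorphism q : T ⟶ Q which is an fppf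
covering identifying T ×_S H with T ×_Q T, is again a torus. -/
theorem result {S : Scheme.{u}} {T H Q : Over S} [GrpObj T] [GrpObj H]
    [GrpObj Q] (hT : Red.IsTorus T) (i : H ⟶ T) [IsMonHom i] [Mono i] (hH : SGA3x.IsMultTypeFT H)
    (q : T ⟶ Q) [IsMonHom q] (hq : RedSub.IsQuotient i q) : Red.IsTorus Q :=
  Groth.Agent.R2.H97.MTQuot.isTorus_quotient Groth.Agent.R2.H74.MTD.pkgD Groth.Agent.R2.H60.MTP.pkgP
    Groth.Agent.R2.H97.MTQK.pkgQ Groth.Agent.R2.H97.MTQE.pkgE Groth.Agent.R2.H32.MTQB.pkgB hT i hH q hq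

end Groth.Agent.S16615
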