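import Groth.Statements.S16616
import Groth.Agent.R2.H97MTQ2
import Groth.Agent.R2.H97MTQ2C
import Groth.Agent.R2.H97MTQK
import Groth.Agent.R2.H97MTQE
import Groth.Agent.R2.H32MTQB
import Groth.Agent.R2.H74MTD
import Groth.Agent.R2.H60MTP
import Groth.Agent.R2.H74MTQ2F
import Groth.Agent.R2.H74MTQ2M

set_option autoImplicit false
open CategoryTheory MonoidalCategory CartesianMonoidalCategory MonObj GrpObj AlgebraicGeometry
universe u
open SGA3x

namespace Groth.Agent.S16616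

/-- Over an arbitrary scheme S, let T be a locally split S-torus (Zariski-locally on S isomorphic to
split tori), H a subgroup scheme of T of (finite) multiplicative type and q : T ⟶ Q a homomorphism
presenting Q as the fppf quotient T/H. Then Q is a locally split torus. -/
theorem result {S : Scheme.{u}} {T H Q : Over S} [GrpObj T]
    [GrpObj H] [GrpObj Q] (hT : (∀ s : ↥S, ∃ U : S.Opens, s ∈ U ∧ ∃ r : ℕ, Red.IsSplitTorusWith (Fin r → ℤ) (Red.bc U.ι T)))
    (i : H ⟶ T) [IsMonHom i] [Mono i] (hH : SGA3x.IsMultTypeFT H) (q : T ⟶ Q) [IsMonHom q]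
    (hq : RedSub.IsQuotient i q) :
    (∀ s : ↥S, ∃ U : S.Opens, s ∈ U ∧ ∃ r : ℕ, Red.IsSplitTorusWith (Fin r → ℤ) (Red.bc U.ι Q)) :=
  Groth.Agent.R2.H97.MTQ2.s16616_of Groth.Agent.R2.H74.MTD.pkgD Groth.Agent.R2.H60.MTP.pkgP
    Groth.Agent.R2.H97.MTQ2C.pkgC Groth.Agent.R2.H74.MTQ2F.pkgF Groth.Agent.R2.H97.MTQK.pkgQ
    Groth.Agent.R2.H97.MTQE.pkgE Groth.Agent.R2.H32.MTQB.pkgB Groth.Agent.R2.H74.MTQ2M.pkgM
    hT i hH q hq

end Groth.Agent.S16616
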