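import Groth.Statements.S16619
import Groth.Agent.R2.H78BrauerRep

set_option autoImplicit false
open scoped TensorProduct
universe u
open Brauer

namespace Groth.Agent.S16619

/-- Let R be a connected commutative ring. Then every class of the Brauer group of R is represented by
an Azumaya algebra B with idemp(B) = {0, 1}: for every Azumaya R-algebra A there are such a B and
faithfully projective R-modules P, Q with A ⊗_R End_R(P) ≅ B ⊗_R End_R(Q) as R-algebras. -/
theorem result {R : Type u} [CommRing R]
    [ConnectedSpace (PrimeSpectrum R)] (A : Type u) [Ring A] [Algebra R A] [IsAzumaya R A] :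
    ∃ (B : Type u) (_ : Ring B) (_ : Algebra R B) (_ : IsAzumaya R B) (P Q : Type u) (_ : AddCommGroup P)
      (_ : Module R P) (_ : AddCommGroup Q) (_ : Module R Q),
      (∀ b : B, IsIdempotentElem b → b = 0 ∨ b = 1) ∧ Module.Finite R P ∧ Module.Projective R P ∧
      FaithfulSMul R P ∧ Module.Finite R Q ∧ Module.Projective R Q ∧ FaithfulSMul R Q ∧
      Nonempty (A ⊗[R] Module.End R P ≃ₐ[R] B ⊗[R] Module.End R Q) := by
  obtain ⟨e, he, h0, htriv⟩ := Groth.Agent.R2.H78.BrauerRep.exists_min_idem R (A := A)
  have hAz : IsAzumaya R he.Corner := Groth.Agent.R2.H78.BrauerRep.isAzumaya_corner (R := R) he h0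
  have hprojQ := Groth.Agent.R2.H78.BrauerRep.projective_Q (R := R) he
  have hfaithQ := Groth.Agent.R2.H78.BrauerRep.faithful_Q (R := R) he h0
  refine ⟨he.Corner, inferInstance, inferInstance, hAz, he.Corner,
    Groth.Agent.R2.H78.Commutant.Q R e, inferInstance, Algebra.toModule, inferInstance, inferInstance,
    htriv, hAz.toFinite, hAz.toProjective, hAz.toFaithfulSMul, inferInstance, hprojQ, hfaithQ, ?_⟩
  exact Groth.Agent.R2.H78.BrauerRep.brauer_equiv_corner (R := R) he h0

end Groth.Agent.S16619
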