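import Groth.Statements.S16627
import Groth.Agent.R2.H82Regularity

set_option autoImplicit false
universe u
open Variety

namespace Groth.Agent.S16627

open AlgebraicGeometry CategoryTheory CategoryTheory.Limits in
/-- Let k be a field, F a coherent module on projective n-space P^n_k which is m-regular, and ι : F ⊗
O(-1) → F a monomorphism of O-modules (such as multiplication by a linear form that is a
nonzerodivisor on F, i.e. a hyperplane avoiding the associated points of F). Then the cokernel of ι
— the restriction of F to the hyperplane, as a module on P^n_k — is again m-regular. (Stated for an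
arbitrary monomorphism F(-1) → F and an arbitrary ground field.) -/
theorem result (k : Type u) [Field k] (n : ℕ)
    (F : (CohB1.ProjSpace n k).Modules) (hF : Coh.IsCoh F) (m : ℤ) (hreg : Curv2.IsMRegular k n F m)
    (ι : CohB1.tensorMod F (Twist.twistProjSpace n k (-1)) ⟶ F) [Mono ι] :
    Curv2.IsMRegular k n (cokernel ι) m := by
  intro i hi1 hin
  have hL := Groth.Agent.R2.H79.TwistCalc.isInvertible_twistProjSpace n k (m - i)
  have hS' := Groth.Agent.R2.H82.Regularity.shortExact_twist _ hL
    (Groth.Agent.R2.H82.Regularity.shortExact_cokernel ι)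
  refine Groth.Agent.R2.H82.Regularity.subsingleton_HH_X₃ hS' i (hreg i hi1 hin) ?_
  obtain ⟨e⟩ := Groth.Agent.R2.H82.Regularity.nonempty_twist_twist_iso n k F (-1) (m - i)
    (m - ((i + 1 : ℕ) : ℤ)) (by push_cast; ring)
  have h : Subsingleton (Coh.HH (CohB1.ProjSpace n k)
      (CohB1.tensorMod F (Twist.twistProjSpace n k (m - ((i + 1 : ℕ) : ℤ)))) (i + 1)) := by
    by_cases hle : i + 1 ≤ n
    · exact hreg (i + 1) (by omega) hle
    · exact Groth.Agent.R2.H82.Regularity.subsingleton_HH_twist_of_lt n k F hF.1 _ (i + 1) (by omega)
  exact Groth.Agent.R2.H82.TwistZero.subsingleton_HH_of_iso e.symm (i + 1)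

end Groth.Agent.S16627
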