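import Groth.Statements.S16647
import Mathlib
import Groth.Agent.Lib.Helper11KerPair
import Groth.Agent.Lib.Helper12Cart
import Groth.Agent.Lib.Helper12Descent

set_option autoImplicit false
set_option linter.style.haveILetI false
universe u
open CategoryTheory MonoidalCategory CartesianMonoidalCategory MonObj GrpObj AlgebraicGeometry

open GrpSch

namespace Groth.Agent.S16647

open Groth.Agent.Lib.Helper12 Groth.Agent.Lib.Helper11KerPair Groth.Agent.Lib.Helper11QuotTower Limits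

/-- In a commutative diagram of short exact sequences of S-group schemes that are flat, separated and of
finite presentation over a scheme S (in each row the first homomorphism is the kernel of the second
and the second is a flat surjection), if the two outer vertical homomorphisms are closed immersions
then so is the middle one. -/
theorem result {S : Scheme.{u}}
    {H₁' H₁ H₁'' H₂' H₂ H₂'' : Over S} [GrpObj H₁'] [GrpObj H₁] [GrpObj H₁''] [GrpObj H₂'] [GrpObj H₂] [GrpObj H₂'']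
    [Flat H₁'.hom] [Flat H₁.hom] [Flat H₁''.hom] [Flat H₂'.hom] [Flat H₂.hom] [Flat H₂''.hom]
    [IsSeparated H₁'.hom] [IsSeparated H₁.hom] [IsSeparated H₁''.hom]
    [IsSeparated H₂'.hom] [IsSeparated H₂.hom] [IsSeparated H₂''.hom]
    [QuasiCompact H₁'.hom] [QuasiCompact H₁.hom] [QuasiCompact H₁''.hom]
    [QuasiCompact H₂'.hom] [QuasiCompact H₂.hom] [QuasiCompact H₂''.hom]
    [LocallyOfFinitePresentation H₁'.hom] [LocallyOfFinitePresentation H₁.hom] [LocallyOfFinitePresentation H₁''.hom]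
    [LocallyOfFinitePresentation H₂'.hom] [LocallyOfFinitePresentation H₂.hom] [LocallyOfFinitePresentation H₂''.hom]
    (a₁ : H₁' ⟶ H₁) (b₁ : H₁ ⟶ H₁'') (a₂ : H₂' ⟶ H₂) (b₂ : H₂ ⟶ H₂'')
    [IsMonHom a₁] [IsMonHom b₁] [IsMonHom a₂] [IsMonHom b₂]
    (h₁ : AlgGrp.IsKernel a₁ b₁) (hb₁ : Flat b₁.left ∧ Surjective b₁.left)
    (h₂ : AlgGrp.IsKernel a₂ b₂) (hb₂ : Flat b₂.left ∧ Surjective b₂.left)
    (j' : H₁' ⟶ H₂') (j : H₁ ⟶ H₂) (j'' : H₁'' ⟶ H₂'') [IsMonHom j'] [IsMonHom j] [IsMonHom j'']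
    (sq₁ : a₁ ≫ j = j' ≫ a₂) (sq₂ : b₁ ≫ j'' = j ≫ b₂)
    (hj' : IsClosedImmersion j'.left) (hj'' : IsClosedImmersion j''.left) :
    IsClosedImmersion j.left := by
  have I₁ := isPullback_of_isKernel a₁ b₁ h₁
  have I₂ := isPullback_of_isKernel a₂ b₂ h₂
  have hP : IsPullback (pullback.fst b₂ j'') (pullback.snd b₂ j'') b₂ j'' := IsPullback.of_hasPullback _ _
  obtain ⟨φ, hφ⟩ : ∃ φ : H₁ ⟶ pullback b₂ j'', φ = pullback.lift j b₁ sq₂.symm := ⟨_, rfl⟩
  have hφ1 : φ ≫ pullback.fst b₂ j'' = j := by rw [hφ]; exact pullback.lift_fst _ _ _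
  have hφ2 : φ ≫ pullback.snd b₂ j'' = b₁ := by rw [hφ]; exact pullback.lift_snd _ _ _
  -- `H₁ ⊗ H₂'` is the pullback of `b₂` along `j ≫ b₂`
  have hL : IsPullback (j ▷ H₂') (fst H₁ H₂') (fst H₂ H₂') j := isPullback_whiskerRight H₂' j
  have hC : IsPullback ((j ▷ H₂') ≫ (H₂ ◁ a₂) ≫ μ[H₂]) (fst H₁ H₂') b₂ (j ≫ b₂) := hL.paste_horiz I₂.flip
  have hm : ((j ▷ H₂') ≫ (H₂ ◁ a₂) ≫ μ[H₂]) ≫ b₂ = (fst H₁ H₂' ≫ b₁) ≫ j'' := by
    rw [hC.w, Category.assoc, sq₂]
  obtain ⟨f, hf⟩ : ∃ f : H₁ ⊗ H₂' ⟶ pullback b₂ j'',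
      f = pullback.lift ((j ▷ H₂') ≫ (H₂ ◁ a₂) ≫ μ[H₂]) (fst H₁ H₂' ≫ b₁) hm := ⟨_, rfl⟩
  have hf1 : f ≫ pullback.fst b₂ j'' = (j ▷ H₂') ≫ (H₂ ◁ a₂) ≫ μ[H₂] := by rw [hf]; exact pullback.lift_fst _ _ _
  have hf2 : f ≫ pullback.snd b₂ j'' = fst H₁ H₂' ≫ b₁ := by rw [hf]; exact pullback.lift_snd _ _ _
  have hB : IsPullback f (fst H₁ H₂') (pullback.snd b₂ j'') b₁ := by
    refine IsPullback.of_right ?_ hf2 hP
    rw [hf1, sq₂]
    exact hC
  -- the top square
  have hcomm : ((H₁ ◁ a₁) ≫ μ[H₁]) ≫ φ = (H₁ ◁ j') ≫ f := by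
    apply pullback.hom_ext
    · simp only [Category.assoc]
      rw [hφ1, hf1]
      have eL : (H₁ ◁ a₁) ≫ μ[H₁] ≫ j = (fst H₁ H₁' ≫ j) * (snd H₁ H₁' ≫ a₁ ≫ j) := by
        rw [← Category.assoc, whiskerLeft_comp_mul, MonObj.mul_comp, Category.assoc]
      have eR : (H₁ ◁ j') ≫ (j ▷ H₂') ≫ (H₂ ◁ a₂) ≫ μ[H₂] =
          (fst H₁ H₁' ≫ j) * (snd H₁ H₁' ≫ j' ≫ a₂) := by
        rw [whiskerLeft_comp_mul, MonObj.comp_mul, MonObj.comp_mul]
        congr 1
        · rw [whiskerRight_fst, ← Category.assoc, whiskerLeft_fst]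
        · rw [← Category.assoc (j ▷ H₂'), whiskerRight_snd, ← Category.assoc, whiskerLeft_snd, Category.assoc]
      rw [eL, eR, sq₁]
    · simp only [Category.assoc]
      rw [hφ2, hf2, ← Category.assoc (H₁ ◁ a₁), ← I₁.w, ← Category.assoc (H₁ ◁ j'), whiskerLeft_fst]
  have hT : IsPullback ((H₁ ◁ a₁) ≫ μ[H₁]) (H₁ ◁ j') φ f := by
    refine IsPullback.of_bot ?_ hcomm hB
    rw [whiskerLeft_fst, hφ2]
    exact I₁.flip
  have hT' := hT.map (Over.forget S)
  have hB' := hB.map (Over.forget S)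
  have hP' := hP.map (Over.forget S)
  -- `f` is an fpqc covering
  have hw : b₁.left ≫ H₁''.hom = H₁.hom := Over.w b₁
  haveI : QuasiCompact (b₁.left ≫ H₁''.hom) := by rw [hw]; infer_instance
  have hb₁q : QuasiCompact b₁.left := QuasiCompact.of_comp b₁.left H₁''.hom
  have hf_flat : Flat f.left := MorphismProperty.of_isPullback (P := @Flat) hB'.flip hb₁.1
  have hf_surj : Surjective f.left := MorphismProperty.of_isPullback (P := @Surjective) hB'.flip hb₁.2
  have hf_qc : QuasiCompact f.left := MorphismProperty.of_isPullback (P := @QuasiCompact) hB'.flip hb₁q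
  -- the base change of `φ` is a closed immersion
  have hcl : IsClosedImmersion (H₁ ◁ j').left :=
    MorphismProperty.of_isPullback (P := @IsClosedImmersion)
      ((isPullback_whiskerLeft H₁ j').map (Over.forget S)).flip hj'
  haveI := descendsAlong_isClosedImmersion.{u}
  have hφcl : IsClosedImmersion φ.left :=
    MorphismProperty.of_isPullback_of_descendsAlong (P := @IsClosedImmersion)
      (Q := (@Surjective ⊓ @Flat ⊓ @QuasiCompact : MorphismProperty Scheme.{u})) hT'.flip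
      ⟨⟨hf_surj, hf_flat⟩, hf_qc⟩ hcl
  have hp₁ : IsClosedImmersion (pullback.fst b₂ j'').left :=
    MorphismProperty.of_isPullback (P := @IsClosedImmersion) hP'.flip hj''
  rw [← hφ1, Over.comp_left]
  infer_instance

end Groth.Agent.S16647
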