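import Groth.Statements.S16651
import Groth.Agent.R2.H14ClEvenMain

set_option autoImplicit false
universe u v
open scoped TensorProduct
open QuadZ

namespace Groth.Agent.S16651

open Groth.Agent.R2.H14.Cl

/-- For a free module over an affine base, let Q be a non-degenerate quadratic form (polar form a
perfect pairing) on a free module V of even rank 2m ≥ 2 over a commutative ring A. Then fppf-locally
on A the Clifford algebra C(V,Q) is a matrix algebra of size 2^m and its even part a product of two
matrix algebras of size 2^(m-1) (there is a faithfully flat finitely presented A-algebra A'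
realising both), the centre of C(V,Q) is A, the map V → C(V,Q) is injective onto a direct summand,
and the even part is the centralizer in C(V,Q) of its own centre. -/
theorem result (A : Type u) [CommRing A] (V : Type u)
    [AddCommGroup V] [Module A V] [Module.Free A V] [Module.Finite A V] (m : ℕ) (hm : 1 ≤ m)
    (hV : Module.finrank A V = 2 * m) (Q : QuadraticForm A V) (hQ : Function.Bijective (QuadraticMap.polarBilin Q)) :
    (∃ (A' : Type u) (_ : CommRing A') (_ : Algebra A A'), Module.FaithfullyFlat A A' ∧ Algebra.FinitePresentation A A' ∧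
        Nonempty ((A' ⊗[A] CliffordAlgebra Q) ≃ₐ[A'] Matrix (Fin (2 ^ m)) (Fin (2 ^ m)) A') ∧
        Nonempty ((A' ⊗[A] ↥(CliffordAlgebra.even Q)) ≃ₐ[A']
          (Matrix (Fin (2 ^ (m - 1))) (Fin (2 ^ (m - 1))) A' × Matrix (Fin (2 ^ (m - 1))) (Fin (2 ^ (m - 1))) A'))) ∧
    Subalgebra.center A (CliffordAlgebra Q) = ⊥ ∧
    (Function.Injective (CliffordAlgebra.ι Q) ∧
      ∃ W : Submodule A (CliffordAlgebra Q), IsCompl (LinearMap.range (CliffordAlgebra.ι Q)) W) ∧
    Subalgebra.centralizer A
        ((CliffordAlgebra.even Q).val '' (Subalgebra.center A ↥(CliffordAlgebra.even Q) : Set ↥(CliffordAlgebra.even Q))) =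
      CliffordAlgebra.even Q := by
  obtain ⟨A', instR, instA, hff, hfp, J, instF, instD, p, Φ, hΦ, hgr, hcardJ, hc0, hc1⟩ :=
    exists_even_structure A V m hm hV Q hQ
  have hflat : Module.Flat A A' := inferInstance
  refine ⟨⟨A', instR, instA, hff, hfp, ?_, ?_⟩, ?_, ?_, ?_⟩
  · exact ⟨(AlgEquiv.ofBijective Φ hΦ).trans
      (Matrix.reindexAlgEquiv A' A' (Fintype.equivFinOfCardEq hcardJ))⟩
  · obtain ⟨E⟩ := nonempty_even_algEquiv Q p Φ hgr hΦ
    have hc1' : Fintype.card {j // ¬ p j = 0} = 2 ^ (m - 1) := by
      rw [← hc1]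
      refine Fintype.card_congr (Equiv.subtypeEquivRight fun j => ?_)
      have h01 : ∀ a : ZMod 2, ¬ a = 0 ↔ a = 1 := by decide
      exact h01 (p j)
    exact ⟨E.trans (AlgEquiv.prodCongr
      (Matrix.reindexAlgEquiv A' A' (Fintype.equivFinOfCardEq hc0))
      (Matrix.reindexAlgEquiv A' A' (Fintype.equivFinOfCardEq hc1')))⟩
  · exact center_eq_bot Q Φ hΦ
  · exact ι_injective_and_isCompl Q
  · exact centralizer_eq Q p Φ hgr hΦ

end Groth.Agent.S16651
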