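import Groth.Statements.S16674
import Groth.Agent.R2.H90HopfEtale
import Groth.Agent.Lib.Helper6Deligne2

set_option linter.style.haveILetI false

set_option autoImplicit false
universe u
open CartDual

namespace Groth.Agent.S16674

namespace Aux

open TensorProduct WithConv Groth.Agent.Lib.Helper6.Deligne

section Grp

open Algebra Coalgebra Bialgebra

variable {R H C : Type*} [CommSemiring R] [CommSemiring H] [HopfAlgebra R H] [CommSemiring C]
  [Algebra R C]

/-- the group of points of a Hopf algebra with values in any commutative algebra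
(Mathlib's `AlgHom.convGroup` asks for a bialgebra structure on the target). -/
noncomputable abbrev ptsGroup : Group (WithConv (H →ₐ[R] C)) :=
  { (inferInstance : Monoid (WithConv (H →ₐ[R] C))) with
    inv := fun f => toConv (f.ofConv.comp (HopfAlgebra.antipodeAlgHom R H))
    inv_mul_cancel := by
      intro f
      have h1 : (Algebra.TensorProduct.lmul' R).comp (Algebra.TensorProduct.map f.ofConv f.ofConv) =
        f.ofConv.comp (Algebra.TensorProduct.lmul' R) := by ext <;> simp
      trans toConv <| ((Algebra.TensorProduct.lmul' R).comp (Algebra.TensorProduct.map f.ofConv f.ofConv)).comp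
        ((Algebra.TensorProduct.map
        (HopfAlgebra.antipodeAlgHom R H) (.id _ _)).comp (comulAlgHom R H))
      · rw [AlgHom.comp_assoc, ← AlgHom.comp_assoc (Algebra.TensorProduct.map f.ofConv f.ofConv),
          ← Algebra.TensorProduct.map_comp]; rfl
      rw [h1, AlgHom.comp_assoc, WithConv.ext_iff, ← AlgHom.toLinearMap_injective.eq_iff]
      change f.ofConv.toLinearMap.comp
        (toConv (HopfAlgebra.antipode R (A := H)) * toConv LinearMap.id).ofConv =
        ofConv (1 : WithConv <| H →ₗ[R] C)
      rw [LinearMap.antipode_mul_id]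
      ext
      simp }

end Grp

/-- the number of geometric points of a finite étale algebra is its dimension. -/
theorem card_points_of_etale (k : Type u) [Field k] (B : Type u) [CommRing B] [Algebra k B]
    [Module.Finite k B] [Algebra.Etale k B] :
    Nat.card (B →ₐ[k] AlgebraicClosure k) = Module.finrank k B := by
  let Ω := AlgebraicClosure k
  haveI : IsReduced (Ω ⊗[k] B) := Algebra.FormallyUnramified.isReduced_of_field Ω (Ω ⊗[k] B)
  have h1 := Groth.Agent.Lib.Helper25.FinEtale.finrank_eq_card (k := Ω) (E := Ω ⊗[k] B)
  haveI : Finite ((Ω ⊗[k] B) →ₐ[Ω] Ω) := Finite.algHom Ω _ Ω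
  letI := Fintype.ofFinite ((Ω ⊗[k] B) →ₐ[Ω] Ω)
  rw [Module.finrank_fintype_fun_eq_card, Module.finrank_baseChange] at h1
  rw [h1, Nat.card_congr (AlgHom.liftEquiv k Ω B Ω), Nat.card_eq_fintype_card]

variable {k : Type u} [Field k] {A : Type u} [CommRing A] [HopfAlgebra k A]
  [Coalgebra.IsCocomm k A] [Module.Finite k A]

theorem not_dvd_of_etale (p : ℕ) [Fact p.Prime] [CharP k p] [Algebra.Etale k A]
    [Algebra.Etale k (CartDual.D k A)] : ¬ p ∣ Module.finrank k A := by
  intro hdvd
  have hcard : Nat.card (WithConv (CartDual.D k A →ₐ[k] AlgebraicClosure k)) =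
      Module.finrank k A := by
    rw [Nat.card_congr (WithConv.equiv _), card_points_of_etale, finrank_dual]
  haveI : Finite (WithConv (CartDual.D k A →ₐ[k] AlgebraicClosure k)) :=
    Nat.finite_of_card_ne_zero (by
      rw [hcard]; exact (Groth.Agent.Lib.Helper25.FinHopf.finrank_pos_hopf (k := k) (A := A)).ne')
  letI : Group (WithConv (CartDual.D k A →ₐ[k] AlgebraicClosure k)) := ptsGroup
  letI := Fintype.ofFinite (WithConv (CartDual.D k A →ₐ[k] AlgebraicClosure k))
  obtain ⟨g, hg⟩ := exists_prime_orderOf_dvd_card p
    (G := WithConv (CartDual.D k A →ₐ[k] AlgebraicClosure k))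
    (by rw [← Nat.card_eq_fintype_card, hcard]; exact hdvd)
  have hred : IsReduced (WithConv (CartDual.D k A →ₗ[k] AlgebraicClosure k)) :=
    isReduced_conv (AlgebraicClosure k)
  have hnt : Nontrivial (WithConv (CartDual.D k A →ₗ[k] AlgebraicClosure k)) := by
    refine ⟨⟨0, 1, fun h => ?_⟩⟩
    have := congrArg (fun f => f.ofConv (1 : CartDual.D k A)) h
    simp at this
  have hchar : CharP (WithConv (CartDual.D k A →ₗ[k] AlgebraicClosure k)) p :=
    charP_of_injective_algebraMap (algebraMap k _).injective p
  have h2 : (toLin (R := k) (A := CartDual.D k A) (AlgebraicClosure k) g) ^ p = 1 := by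
    rw [← map_pow, ← hg, pow_orderOf_eq_one, map_one]
  have h3 : toLin (R := k) (A := CartDual.D k A) (AlgebraicClosure k) g = 1 := by
    have h4 : (toLin (R := k) (A := CartDual.D k A) (AlgebraicClosure k) g - 1) ^ p = 0 := by
      rw [sub_pow_char, h2, one_pow, sub_self]
    exact sub_eq_zero.1 (IsReduced.eq_zero _ ⟨_, h4⟩)
  have h5 : g = 1 := toLin_injective (AlgebraicClosure k) (h3.trans (map_one _).symm)
  rw [h5, orderOf_one] at hg
  exact (Fact.out : p.Prime).one_lt.ne' hg.symm

end Aux

/-- Let k be a field of characteristic p > 0 and A a finite-dimensional commutative and cocommutative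
Hopf algebra over k, the coordinate ring of a finite commutative k-group scheme G, with Cartier dual
the convolution Hopf algebra Hom_k(A, k). Then G is étale-étale, i.e. both A and its dual are étale
k-algebras, if and only if p does not divide the rank dim_k A of G. -/
theorem result (k : Type u) [Field k] (p : ℕ) [Fact p.Prime] [CharP k p]
    (A : Type u) [CommRing A] [HopfAlgebra k A] [Coalgebra.IsCocomm k A] [FiniteDimensional k A] :
    (Algebra.Etale k A ∧ Algebra.Etale k (CartDual.D k A)) ↔ ¬ p ∣ Module.finrank k A := by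
  constructor
  · rintro ⟨h1, h2⟩
    exact Aux.not_dvd_of_etale p
  · intro h
    have hne : (Module.finrank k A : k) ≠ 0 := by
      rw [Ne, CharP.cast_eq_zero_iff k p]
      exact h
    refine ⟨Groth.Agent.R2.H90.HopfEtale.etale_of_finrank_ne_zero hne, ?_⟩
    apply Groth.Agent.R2.H90.HopfEtale.etale_of_finrank_ne_zero
    rw [Groth.Agent.Lib.Helper6.Deligne.finrank_dual]
    exact hne

end Groth.Agent.S16674
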