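import Groth.Statements.S16684
import Groth.Agent.R2.H84FppfGeomQuot

set_option autoImplicit false
universe u
open CategoryTheory CategoryTheory.Limits MonoidalCategory CartesianMonoidalCategory MonObj AlgebraicGeometry
open GIT

namespace Groth.Agent.S16684

/-- Let S be a scheme, G a group scheme over S acting through σ : G ×_S X → X on an S-scheme X, and q :
X → Y an S-morphism which is an fppf quotient of X by G: q coequalises σ and the second projection
and the induced map from the quotient sheaf G\X (coequalizer of the two maps h_{G × X} ⇉ h_X of fppf
sheaves of sets on schemes over S) to h_Y is an isomorphism. Then q is also a geometric quotient: q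
is invariant and surjective, the map G ×_S X → X ×_Y X is surjective, q is universally submersive,
and for every open U of Y the sections of O_Y over U map injectively onto the G-invariant sections
of O_X over q⁻¹U. No freeness of the action is assumed. -/
theorem result {S : Scheme.{u}} (G X Y : Over S) [GrpObj G]
    (a : AlgGrp.Action G X) (q : X ⟶ Y)
    (hq : QuotSh.IsQuotient Scheme.fppfPrecoverage a.act (snd G X) q) :
    GIT.IsGeomQuot a q := by
  have hsec := Groth.Agent.R2.H84.FppfGeomQuot.hasLocSec_of_isQuotient a q hq
  have hrel := Groth.Agent.R2.H84.FppfGeomQuot.hasLocRel_of_isQuotient a q hq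
  have hinv : GIT.IsInvariant a q := hq.choose
  refine ⟨hinv, Groth.Agent.R2.H84.FppfGeomQuot.surjective_of_hasLocSec hsec,
    Groth.Agent.R2.H84.FppfGeomQuot.orbit_surjective hinv.left hrel,
    Groth.Agent.R2.H84.FppfGeomQuot.us_of_hasLocSec hsec, fun U => ?_⟩
  obtain ⟨h1, h2⟩ := Groth.Agent.R2.H84.FppfGeomQuot.sections_of_locRel hinv.left hsec hrel U
  refine ⟨h1, ?_⟩
  ext f
  exact h2 f

end Groth.Agent.S16684
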