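import Groth.Statements.S16754
-- import your own Groth.Agent.* helpers here
import Mathlib
import Groth.Agent.S1536
import Groth.Agent.R2.H89GammaField
import Groth.Agent.R2.H89SmoothGeom

set_option autoImplicit false
universe u
open CurvSt

namespace Groth.Agent.S16754

open CategoryTheory CategoryTheory.Limits AlgebraicGeometry in
/-- Let k be a field and X a scheme which is proper and smooth over k and of dimension one. Then the
following are equivalent: dim_k H^0(X, O_X) = 1 (the ground field is the ring of global functions);
X is geometrically connected over k; X is geometrically integral over k. (The remaining conditions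
of the source concern membership in an open substack of the stack of curves and are not stated.) -/
theorem result (k : Type u) [Field k]
    (X : Scheme.{u}) [X.Over (Spec (CommRingCat.of k))] [IsProper (X ↘ Spec (CommRingCat.of k))]
    [Smooth (X ↘ Spec (CommRingCat.of k))] (hdim : topologicalKrullDim ↥X = 1) :
    (Module.finrank k (Coh.HH X (Coh.structureModule X) 0) = 1 ↔ GeometricallyConnected (X ↘ Spec (CommRingCat.of k))) ∧
      (GeometricallyConnected (X ↘ Spec (CommRingCat.of k)) ↔ GeometricallyIntegral (X ↘ Spec (CommRingCat.of k))) := by
  haveI : CompactSpace X :=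
    QuasiCompact.compactSpace_of_compactSpace (X ↘ Spec (CommRingCat.of k))
  haveI : QuasiSeparatedSpace X :=
    quasiSeparatedSpace_of_quasiSeparated (X ↘ Spec (CommRingCat.of k))
  haveI : GeometricallyReduced (X ↘ Spec (CommRingCat.of k)) :=
    Groth.Agent.R2.H89.SmoothGeom.geometricallyReduced_of_smooth _
  refine ⟨⟨fun h => ?_, fun h => ?_⟩, ⟨fun h => ?_, fun h => ?_⟩⟩
  · apply Groth.Agent.R2.H89.SmoothGeom.geometricallyConnected_of_finrank_eq_one X
    have := Groth.Agent.R2.H89.GammaField.finrank_HH_zero k X
    rw [h] at this
    exact this.symm
  · haveI := h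
    exact Groth.Agent.S1536.result k X
  · haveI := h
    exact Groth.Agent.R2.H89.SmoothGeom.geometricallyIntegral_of_smooth_of_geometricallyConnected _
  · haveI := h
    refine ⟨fun K _ y Z fst snd hp => ?_⟩
    haveI : IsIntegral Z :=
      GeometricallyIntegral.geometrically_isIntegral (f := X ↘ Spec (CommRingCat.of k)) y fst snd hp
    infer_instance

end Groth.Agent.S16754
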