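import Groth.Statements.S16771
import Mathlib
import Groth.Agent.R2.H63FactorClosed
import Groth.Agent.Lib.Helper6LfpComp

set_option autoImplicit false
open CategoryTheory MonoidalCategory CartesianMonoidalCategory MonObj GrpObj AlgebraicGeometry
universe u
open SGA3x

namespace Groth.Agent.S16771

/-- Let G be an affine group scheme of finite presentation over a scheme S, Y ⊆ G a closed subscheme
which is finite, flat and of finite presentation over S, and Y' ⊆ G a closed subscheme of finite
presentation over S. Then the transporter of Y into Y' (points g of G such that g y g⁻¹ is a point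
of Y' for every point y of Y after any base change) is representable by a closed subscheme of G of
finite presentation over S. -/
theorem result {S : Scheme.{u}} (G Y Y' : Over S) [GrpObj G]
    (hGa : IsAffineHom G.hom) (hGfp : LocallyOfFinitePresentation G.hom)
    (y : Y ⟶ G) (hy : IsClosedImmersion y.left) (hYf : IsFinite Y.hom) (hYfl : Flat Y.hom)
    (hYfp : LocallyOfFinitePresentation Y.hom)
    (y' : Y' ⟶ G) (hy' : IsClosedImmersion y'.left) (hY'fp : LocallyOfFinitePresentation Y'.hom) :
    ∃ (C : Over S) (c : C ⟶ G), IsClosedImmersion c.left ∧ LocallyOfFinitePresentation C.hom ∧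
      ∀ (X : Over S) (g : X ⟶ G), (∃ z : X ⟶ C, z ≫ c = g) ↔
        ∀ (X' : Over S) (x : X' ⟶ X) (a : X' ⟶ Y), ∃ a' : X' ⟶ Y', (x ≫ g) * (a ≫ y) * (x ≫ g)⁻¹ = a' ≫ y' := by
  haveI := hGa
  haveI := hy'
  haveI : IsAffineHom Y.hom := by
    haveI := hYf
    infer_instance
  have hproj : ∀ s : S, ∃ U : S.affineOpens, s ∈ (U : S.Opens) ∧
      @Module.Projective Γ(S, U) _ Γ(Y.left, Y.hom ⁻¹ᵁ U) _
        (Y.hom.app U).hom.toAlgebra.toModule := by
    intro s
    obtain ⟨U, hU, hsU, -⟩ :=
      exists_isAffineOpen_mem_and_subset (x := s) (U := (⊤ : S.Opens)) trivial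
    exact ⟨⟨U, hU⟩, hsU,
      Groth.Agent.R2.H63.EqLocus.projective_of_isFinLocFree Y ⟨hYf, hYfl, hYfp⟩ U hU⟩
  obtain ⟨C, c, hc, hfp, hC⟩ := Groth.Agent.R2.H63.EqLocus.transporter_closed G Y Y' y y' hproj
  refine ⟨C, c, hc, ?_, hC⟩
  have hy'fp : LocallyOfFinitePresentation y'.left := by
    refine Groth.Agent.Lib.Helper6.locallyOfFinitePresentation_of_comp (g := G.hom) inferInstance ?_
    rw [Over.w y']
    exact hY'fp
  have hcfp := hfp hy'fp
  rw [← Over.w c]
  infer_instance

end Groth.Agent.S16771
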