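import Groth.Statements.S16777
import Mathlib
import Groth.Agent.R2.H63FactorClosed
import Groth.Agent.R2.H63MultAffine
import Groth.Agent.Lib.Helper6LfpComp

set_option autoImplicit false
open CategoryTheory MonoidalCategory CartesianMonoidalCategory MonObj GrpObj AlgebraicGeometry
universe u
open SGA3x

namespace Groth.Agent.S16777

/-- Let G be an affine group scheme of finite presentation over a scheme S, H ⊆ G a subgroup scheme of
multiplicative type (of finite type) and Y' ⊆ G any closed subscheme of finite presentation over S.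
Then the transporter of H into Y' (points g with g h g⁻¹ in Y' for all points h of H after any base
change) is representable by a closed subscheme of G of finite presentation over S. -/
theorem result {S : Scheme.{u}} (G H Y' : Over S) [GrpObj G] [GrpObj H]
    (hGa : IsAffineHom G.hom) (hGfp : LocallyOfFinitePresentation G.hom)
    (i : H ⟶ G) [IsMonHom i] [Mono i] (hH : SGA3x.IsMultTypeFT H)
    (y' : Y' ⟶ G) (hy' : IsClosedImmersion y'.left) (hY'fp : LocallyOfFinitePresentation Y'.hom) :
    ∃ (C : Over S) (c : C ⟶ G), IsClosedImmersion c.left ∧ LocallyOfFinitePresentation C.hom ∧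
      ∀ (X : Over S) (g : X ⟶ G), (∃ z : X ⟶ C, z ≫ c = g) ↔
        ∀ (X' : Over S) (x : X' ⟶ X) (h : X' ⟶ H), ∃ a' : X' ⟶ Y', (x ≫ g) * (h ≫ i) * (x ≫ g)⁻¹ = a' ≫ y' := by
  haveI := hGa
  haveI := hy'
  haveI : IsAffineHom H.hom := Groth.Agent.R2.H63.MultProj.isAffineHom_of_isMultTypeFT H hH
  have hproj : ∀ s : S, ∃ U : S.affineOpens, s ∈ (U : S.Opens) ∧
      @Module.Projective Γ(S, U) _ Γ(H.left, H.hom ⁻¹ᵁ U) _
        (H.hom.app U).hom.toAlgebra.toModule := by
    intro s
    obtain ⟨U, hU, hsU, -⟩ :=
      exists_isAffineOpen_mem_and_subset (x := s) (U := (⊤ : S.Opens)) trivial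
    exact ⟨⟨U, hU⟩, hsU, Groth.Agent.R2.H63.MultProj.projective_of_isMultTypeFT H hH U hU⟩
  obtain ⟨C, c, hc, hfp, hC⟩ := Groth.Agent.R2.H63.EqLocus.transporter_closed G H Y' i y' hproj
  refine ⟨C, c, hc, ?_, hC⟩
  have hy'fp : LocallyOfFinitePresentation y'.left := by
    refine Groth.Agent.Lib.Helper6.locallyOfFinitePresentation_of_comp (g := G.hom) inferInstance ?_
    rw [Over.w y']
    exact hY'fp
  have hcfp := hfp hy'fp
  rw [← Over.w c]
  infer_instance

end Groth.Agent.S16777
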