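import Groth.Statements.S1688
import Mathlib
import Groth.Agent.S9806
import Groth.Agent.S0018
import Groth.Agent.S1393
import Groth.Agent.Lib.Helper10DedFlat
import Groth.Agent.Lib.Helper4FibDimL

set_option autoImplicit false
set_option linter.style.haveILetI false
universe u
open CategoryTheory CategoryTheory.Limits AlgebraicGeometry TopologicalSpace
open SDiv

namespace Groth.Agent.S1688

/-- Let X be a locally Noetherian integral scheme of dimension at most 1 all of whose local rings are
regular, and F a coherent module on X. Then F is torsion free (every stalk is a torsion-free module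
over the local ring) if and only if F is finite locally free. -/
theorem result (X : Scheme.{u}) [IsIntegral X] [IsLocallyNoetherian X] (hreg : ∀ x : ↥X, IsRegularLocalRing (X.presheaf.stalk x))
    (hdim : topologicalKrullDim ↥X ≤ 1) (F : X.Modules) (hF : Coh.IsCoh F) :
    (∀ x : ↥X, NoZeroSMulDivisors (X.presheaf.stalk x) (F.presheaf.stalk x)) ↔ FlatMod.IsFinLocFree F := by
  have hFP : CohB1.IsFP F := (Groth.Agent.S0018.result X F).mp hF
  have hQ : Coh.IsQCoh F := hF.1
  haveI : F.IsQuasicoherent := hQ
  haveI : SheafOfModules.IsFinitePresentation (R := X.ringCatSheaf) F := hFP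
  rw [← Groth.Agent.S9806.result X F hQ]
  constructor
  · intro h
    refine ⟨hFP, fun x => ?_⟩
    haveI := hreg x
    haveI := h x
    haveI : IsPrincipalIdealRing (X.presheaf.stalk x) :=
      Groth.Agent.Lib.Helper10.DedFlat.isPrincipalIdealRing_of_regular (X.presheaf.stalk x)
        ((Groth.Agent.Lib.Helper4.FibDim.ringKrullDim_stalk_le_topologicalKrullDim X x).trans hdim)
    haveI : Module.FinitePresentation (X.presheaf.stalk x) (F.presheaf.stalk x) :=
      Groth.Agent.S1393.finitePresentation_stalk F x
    haveI : Module.Finite (X.presheaf.stalk x) (F.presheaf.stalk x) := inferInstance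
    exact Module.free_of_finite_type_torsion_free'
  · rintro ⟨-, h⟩ x
    haveI := h x
    haveI : IsDomain (X.presheaf.stalk x) := inferInstance
    haveI htf : Module.IsTorsionFree (X.presheaf.stalk x) (F.presheaf.stalk x) := inferInstance
    refine ⟨fun {r m} hrm => ?_⟩
    by_cases hr : r = 0
    · exact Or.inl hr
    · exact Or.inr ((smul_eq_zero_iff_right hr).mp hrm)

end Groth.Agent.S1688
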