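import Groth.Statements.S16917
import Groth.Agent.R2.H80Uncountable
import Groth.Agent.R2.H80IrrACC

set_option autoImplicit false
open CategoryTheory AlgebraicGeometry
universe u
open Variety

namespace Groth.Agent.S16917

/-- Let k be an uncountable algebraically closed field, X a k-scheme of finite type and Z₀, Z₁, …
countably many closed subsets of X. Then the countable union of the Zₙ, read through closed points,
has a unique irredundant decomposition: there is exactly one countable family S of irreducible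
closed subsets of X, pairwise not contained in one another, such that a closed point of X lies in
some member of S if and only if it lies in some Zₙ. (The published statement is the existence and
uniqueness of the irredundant decomposition of a countable union of algebraic varieties into
c-components, a variety being read through its closed points; with all points of the scheme the
uniqueness would not need the uncountable field.) -/
theorem result (k : Type u) [Field k] [IsAlgClosed k]
    [Uncountable k] (X : Scheme.{u}) (sX : X ⟶ Spec (CommRingCat.of k)) [LocallyOfFiniteType sX]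
    [QuasiCompact sX] (Z : ℕ → TopologicalSpace.Closeds X) :
    ∃! S : Set (TopologicalSpace.Closeds X), S.Countable ∧ (∀ T ∈ S, IsIrreducible (T : Set X)) ∧
      IsAntichain (· ≤ ·) S ∧
      {x : X | IsClosed ({x} : Set X) ∧ ∃ T ∈ S, x ∈ T} =
        {x : X | IsClosed ({x} : Set X) ∧ ∃ n, x ∈ Z n} := by
  classical
  have hLN : IsLocallyNoetherian X := LocallyOfFiniteType.isLocallyNoetherian sX
  have hCS : CompactSpace X := QuasiCompact.compactSpace_of_compactSpace sX
  have hN : IsNoetherian X := {}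
  have hNS : TopologicalSpace.NoetherianSpace X := inferInstance
  have hJ : JacobsonSpace X := LocallyOfFiniteType.jacobsonSpace sX
  -- finitely many irreducible components of each `Z n`
  have hdec : ∀ n, ∃ Sn : Set (TopologicalSpace.Closeds X), Sn.Finite ∧
      (∀ T ∈ Sn, IsIrreducible (T : Set X)) ∧ ∀ x : X, x ∈ Z n ↔ ∃ T ∈ Sn, x ∈ T := by
    intro n
    obtain ⟨S', hfin, hcl, hirr, heq⟩ :=
      TopologicalSpace.NoetherianSpace.exists_finite_set_isClosed_irreducible (Z n).isClosed
    refine ⟨{T | (T : Set X) ∈ S'}, ?_, fun T hT => hirr _ hT, ?_⟩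
    · exact hfin.preimage (fun a _ b _ hab => TopologicalSpace.Closeds.ext hab)
    · intro x
      constructor
      · intro hx
        have hx' : x ∈ ((Z n : TopologicalSpace.Closeds X) : Set X) := hx
        rw [heq] at hx'
        obtain ⟨t, ht, hxt⟩ := hx'
        exact ⟨⟨t, hcl t ht⟩, ht, hxt⟩
      · rintro ⟨T, hT, hxT⟩
        have : x ∈ ((Z n : TopologicalSpace.Closeds X) : Set X) := by
          rw [heq]
          exact ⟨T, hT, hxT⟩
        exact this
  choose Sn hSnfin hSnirr hSneq using hdec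
  let C : Set (TopologicalSpace.Closeds X) := ⋃ n, Sn n
  have hCcount : C.Countable := Set.countable_iUnion (fun n => (hSnfin n).countable)
  have hCirr : ∀ T ∈ C, IsIrreducible (T : Set X) := by
    intro T hT
    obtain ⟨n, hn⟩ := Set.mem_iUnion.mp hT
    exact hSnirr n T hn
  let S : Set (TopologicalSpace.Closeds X) := {M | M ∈ C ∧ ∀ M' ∈ C, M ≤ M' → M' = M}
  have hSC : S ⊆ C := fun M hM => hM.1
  -- the uniqueness argument: a member of one decomposition lies in a member of the other
  have key : ∀ S₁ S₂ : Set (TopologicalSpace.Closeds X), S₂.Countable →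
      (∀ T ∈ S₁, IsIrreducible (T : Set X)) →
      {x : X | IsClosed ({x} : Set X) ∧ ∃ T ∈ S₁, x ∈ T} =
        {x : X | IsClosed ({x} : Set X) ∧ ∃ T ∈ S₂, x ∈ T} →
      ∀ T ∈ S₁, ∃ T' ∈ S₂, T ≤ T' := by
    intro S₁ S₂ hS₂ hirr heq T hT
    by_contra hcon
    push Not at hcon
    -- enumerate S₂ (or use the empty family)
    obtain ⟨e, he⟩ : ∃ e : ℕ → Set X, (∀ n, IsClosed (e n)) ∧ (∀ n, ¬ (T : Set X) ⊆ e n) ∧
        ∀ T' ∈ S₂, ∃ n, (T' : Set X) = e n := by
      rcases S₂.eq_empty_or_nonempty with h0 | hne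
      · refine ⟨fun _ => ∅, fun _ => isClosed_empty, fun _ hsub => ?_, ?_⟩
        · obtain ⟨x, hx⟩ := (hirr T hT).nonempty
          exact hsub hx
        · intro T' hT'
          rw [h0] at hT'
          exact absurd hT' (Set.notMem_empty _)
      · obtain ⟨f, hf⟩ := hS₂.exists_eq_range hne
        refine ⟨fun n => (f n : Set X), fun n => (f n).isClosed, fun n hsub => ?_, ?_⟩
        · exact hcon (f n) (by rw [hf]; exact ⟨n, rfl⟩) hsub
        · intro T' hT'
          rw [hf] at hT'
          obtain ⟨n, rfl⟩ := hT'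
          exact ⟨n, rfl⟩
    obtain ⟨hec, hen, hes⟩ := he
    obtain ⟨x, hxT, hxc, hxe⟩ := Groth.Agent.R2.H80.Uncountable.exists_closedPoint_not_mem k X sX
      (T : Set X) (hirr T hT) T.isClosed e hec hen
    have hx1 : x ∈ {x : X | IsClosed ({x} : Set X) ∧ ∃ T ∈ S₁, x ∈ T} := ⟨hxc, T, hT, hxT⟩
    rw [heq] at hx1
    obtain ⟨-, T', hT', hxT'⟩ := hx1
    obtain ⟨n, hn⟩ := hes T' hT'
    apply hxe n
    rw [← hn]
    exact hxT'
  have hSeq : {x : X | IsClosed ({x} : Set X) ∧ ∃ T ∈ S, x ∈ T} =
      {x : X | IsClosed ({x} : Set X) ∧ ∃ n, x ∈ Z n} := by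
    ext x
    constructor
    · rintro ⟨hxc, T, hT, hxT⟩
      obtain ⟨n, hn⟩ := Set.mem_iUnion.mp (hSC hT)
      exact ⟨hxc, n, (hSneq n x).mpr ⟨T, hn, hxT⟩⟩
    · rintro ⟨hxc, n, hxn⟩
      obtain ⟨T, hT, hxT⟩ := (hSneq n x).mp hxn
      obtain ⟨M, hMC, hTM, hMmax⟩ := Groth.Agent.R2.H80.IrrACC.exists_maximal_ge_of_mem C hCirr T
        (Set.mem_iUnion.mpr ⟨n, hT⟩)
      exact ⟨hxc, M, ⟨hMC, hMmax⟩, hTM hxT⟩
  refine ⟨S, ⟨hCcount.mono hSC, fun T hT => hCirr T (hSC hT), ?_, hSeq⟩, ?_⟩
  · intro M hM M' hM' hne hle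
    exact hne (hM.2 M' hM'.1 hle).symm
  · rintro S' ⟨hS'count, hS'irr, hS'anti, hS'eq⟩
    have heq : {x : X | IsClosed ({x} : Set X) ∧ ∃ T ∈ S', x ∈ T} =
        {x : X | IsClosed ({x} : Set X) ∧ ∃ T ∈ S, x ∈ T} := hS'eq.trans hSeq.symm
    have hSirr : ∀ T ∈ S, IsIrreducible (T : Set X) := fun T hT => hCirr T (hSC hT)
    have hSanti : IsAntichain (· ≤ ·) S := by
      intro M hM M' hM' hne hle
      exact hne (hM.2 M' hM'.1 hle).symm
    have sub : ∀ S₁ S₂ : Set (TopologicalSpace.Closeds X), S₁.Countable → S₂.Countable →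
        (∀ T ∈ S₁, IsIrreducible (T : Set X)) → (∀ T ∈ S₂, IsIrreducible (T : Set X)) →
        IsAntichain (· ≤ ·) S₁ →
        {x : X | IsClosed ({x} : Set X) ∧ ∃ T ∈ S₁, x ∈ T} =
          {x : X | IsClosed ({x} : Set X) ∧ ∃ T ∈ S₂, x ∈ T} → S₁ ⊆ S₂ := by
      intro S₁ S₂ h₁ h₂ hi₁ hi₂ ha₁ he T hT
      obtain ⟨T', hT', hTT'⟩ := key S₁ S₂ h₂ hi₁ he T hT
      obtain ⟨T'', hT'', hT'T''⟩ := key S₂ S₁ h₁ hi₂ he.symm T' hT'
      have h1 : T = T'' := by
        by_contra hne
        exact ha₁ hT hT'' hne (hTT'.trans hT'T'')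
      have h2 : T = T' := le_antisymm hTT' (h1 ▸ hT'T'')
      rw [h2]
      exact hT'
    exact Set.Subset.antisymm (sub S' S hS'count (hCcount.mono hSC) hS'irr hSirr hS'anti heq)
      (sub S S' (hCcount.mono hSC) hS'count hSirr hS'irr hSanti heq.symm)

end Groth.Agent.S16917
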