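import Groth.Statements.S16918
import Groth.Agent.R2.H80AbVarK

set_option autoImplicit false
universe u
open CategoryTheory MonoidalCategory CartesianMonoidalCategory MonObj GrpObj AlgebraicGeometry
open GrpSch

namespace Groth.Agent.S16918

/-- Let k be an uncountable algebraically closed field, A an abelian variety over k (a proper,
geometrically integral group scheme over k) and K a subgroup of the group of k-points of A (sections
of A over Spec k, a group through the group structure of A) which is the trace of a countable union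
of closed subsets: a k-point belongs to K exactly when its image point lies in some Zₙ. Call an
irreducible closed subset T of A admissible when every k-point whose image lies in T belongs to K.
Then there is exactly one maximal admissible T containing the image of the neutral element; that T
is contained in some Zₙ, and the k-points landing in T are closed under x, y ↦ x·y⁻¹, so that T is a
closed irreducible subgroup variety of A lying in one of the Zₙ. (The published statement says that
the irredundant decomposition of K has a unique component through 0 and that it is an abelian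
subvariety; the maximal admissible subsets are exactly the components of that decomposition, each of
which lies in some Zₙ, and this containment is the part of the conclusion that uses the
uncountability of k.) -/
theorem result (k : Type u)
    [Field k] [IsAlgClosed k] [Uncountable k] (A : Over (Spec (CommRingCat.of k))) [GrpObj A]
    [IsProper A.hom] [GeometricallyIntegral A.hom]
    (K : Subgroup (𝟙_ (Over (Spec (CommRingCat.of k))) ⟶ A))
    (Z : ℕ → TopologicalSpace.Closeds ↥A.left)
    (hK : ∀ x : 𝟙_ (Over (Spec (CommRingCat.of k))) ⟶ A,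
      x ∈ K ↔ Set.range ⇑x.left.base ⊆ ⋃ n, (Z n : Set ↥A.left)) :
    (∃! T : TopologicalSpace.Closeds ↥A.left,
      Maximal (fun T : TopologicalSpace.Closeds ↥A.left => IsIrreducible (T : Set ↥A.left) ∧
        ∀ x : 𝟙_ (Over (Spec (CommRingCat.of k))) ⟶ A, Set.range ⇑x.left.base ⊆ (T : Set ↥A.left) → x ∈ K) T ∧
      Set.range ⇑(1 : 𝟙_ (Over (Spec (CommRingCat.of k))) ⟶ A).left.base ⊆ (T : Set ↥A.left)) ∧
    ∀ T : TopologicalSpace.Closeds ↥A.left,
      Maximal (fun T : TopologicalSpace.Closeds ↥A.left => IsIrreducible (T : Set ↥A.left) ∧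
        ∀ x : 𝟙_ (Over (Spec (CommRingCat.of k))) ⟶ A, Set.range ⇑x.left.base ⊆ (T : Set ↥A.left) → x ∈ K) T →
      Set.range ⇑(1 : 𝟙_ (Over (Spec (CommRingCat.of k))) ⟶ A).left.base ⊆ (T : Set ↥A.left) →
      (∃ n, (T : Set ↥A.left) ⊆ (Z n : Set ↥A.left)) ∧
      ∀ x y : 𝟙_ (Over (Spec (CommRingCat.of k))) ⟶ A,
        Set.range ⇑x.left.base ⊆ (T : Set ↥A.left) → Set.range ⇑y.left.base ⊆ (T : Set ↥A.left) →
        Set.range ⇑(x * y⁻¹).left.base ⊆ (T : Set ↥A.left) := by
  classical
  have hLFT : LocallyOfFiniteType A.hom := inferInstance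
  have hQC : QuasiCompact A.hom := inferInstance
  have hJ : JacobsonSpace ↥A.left := LocallyOfFiniteType.jacobsonSpace A.hom
  have hLN : IsLocallyNoetherian A.left := LocallyOfFiniteType.isLocallyNoetherian A.hom
  have hCS : CompactSpace ↥A.left := QuasiCompact.compactSpace_of_compactSpace A.hom
  have hN : IsNoetherian A.left := {}
  have hNS : TopologicalSpace.NoetherianSpace ↥A.left := inferInstance
  obtain ⟨𝒞, h𝒞c, h𝒞i, h𝒞Z, h𝒞sub⟩ := Groth.Agent.R2.H80.AbVarK.exists_irreducible_family Z
  let d := Groth.Agent.R2.H80.AbVarK.dataOf k A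
  have hK' : ∀ x : 𝟙_ (Over (Spec (CommRingCat.of k))) ⟶ A, x ∈ K ↔ ∃ C ∈ 𝒞, d.pt x ∈ C := by
    intro x
    rw [hK, Groth.Agent.R2.H80.AbVarK.range_subset_iff, ← h𝒞Z]
    simp only [Set.mem_iUnion]
    rfl
  have hP : (fun T : TopologicalSpace.Closeds ↥A.left => IsIrreducible (T : Set ↥A.left) ∧
      ∀ x : 𝟙_ (Over (Spec (CommRingCat.of k))) ⟶ A,
        Set.range ⇑x.left.base ⊆ (T : Set ↥A.left) → x ∈ K) =
      Groth.Agent.R2.H80.AbVarK.Adm d K := by
    funext T
    simp only [Groth.Agent.R2.H80.AbVarK.Adm, Groth.Agent.R2.H80.AbVarK.range_subset_iff]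
    rfl
  have hone : ∀ T : TopologicalSpace.Closeds ↥A.left,
      Set.range ⇑(1 : 𝟙_ (Over (Spec (CommRingCat.of k))) ⟶ A).left.base ⊆ (T : Set ↥A.left) ↔
        d.pt 1 ∈ T := fun T => Groth.Agent.R2.H80.AbVarK.range_subset_iff _ _
  obtain ⟨h1, h2⟩ := Groth.Agent.R2.H80.AbVarK.main (d := d) (K := K) h𝒞c h𝒞i hK'
  rw [hP]
  simp only [hone]
  refine ⟨h1, ?_⟩
  intro T hT he
  obtain ⟨⟨C, hC, hTC⟩, h3⟩ := h2 T hT he
  refine ⟨?_, ?_⟩
  · obtain ⟨n, hn⟩ := h𝒞sub C hC
    exact ⟨n, hTC.trans hn⟩
  · intro x y hx hy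
    rw [Groth.Agent.R2.H80.AbVarK.range_subset_iff] at hx hy ⊢
    exact h3 x y hx hy

end Groth.Agent.S16918
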