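import Groth.Statements.S16948
import Mathlib
import Groth.Agent.R2.H81PullOnComp
import Groth.Agent.R2.H81EpsExt
-- import your own Groth.Agent.* helpers here

set_option autoImplicit false
universe u
open Coherent

namespace Groth.Agent.S16948

open AlgebraicGeometry CategoryTheory Scheme.Modules Groth.Agent.R2.H81.Conj in
/-- the transposed form of the left-hand side -/
theorem lhs_transpose {U V W : Scheme.{u}} (φ : U ⟶ V) (ψ : V ⟶ W) {R : W.Modules} {T : U.Modules}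
    (b : (pullback (φ ≫ ψ)).obj R ⟶ T) :
    ((adjP ψ).comp (adjP φ)).homEquiv _ _ ((pullbackComp φ ψ).hom.app R ≫ b) =
      (adjP (φ ≫ ψ)).homEquiv _ _ b ≫ (pushforwardComp φ ψ).inv.app T := by
  have h1 := unit_conjugateEquiv (adjP (φ ≫ ψ)) ((adjP ψ).comp (adjP φ)) (pullbackComp φ ψ).hom R
  rw [conj_pullbackComp_hom] at h1
  rw [Adjunction.homEquiv_unit, Adjunction.homEquiv_unit, Functor.map_comp, ← Category.assoc, ← h1,
    Category.assoc, Category.assoc]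
  congr 1

open AlgebraicGeometry CategoryTheory Scheme.Modules Groth.Agent.R2.H81.Conj in
/-- the transposed form of the right-hand side -/
theorem rhs_transpose {U V W : Scheme.{u}} (φ : U ⟶ V) (ψ : V ⟶ W) {R : W.Modules} {R' : V.Modules}
    {T' T : U.Modules} (b₂ : (pullback ψ).obj R ⟶ R') (b₁ : (pullback φ).obj R' ⟶ T') (c : T' ⟶ T) :
    ((adjP ψ).comp (adjP φ)).homEquiv _ _ ((pullback φ).map b₂ ≫ b₁ ≫ c) =
      (adjP ψ).homEquiv _ _ b₂ ≫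
        (pushforward ψ).map ((adjP φ).homEquiv _ _ b₁ ≫ (pushforward φ).map c) := by
  rw [Adjunction.comp_homEquiv]
  refine (congrArg ((adjP ψ).homEquiv _ _)
    ((Adjunction.homEquiv_naturality_left (adjP φ) b₂ (b₁ ≫ c)).trans
      (congrArg (fun t => b₂ ≫ t) (Adjunction.homEquiv_naturality_right (adjP φ) b₁ c)))).trans ?_
  exact Adjunction.homEquiv_naturality_right (adjP ψ) b₂ _

open AlgebraicGeometry CategoryTheory Scheme.Modules in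
/-- Take two cartesian squares of schemes side by side, f : X → Y over φ : U → V (vertical maps ξ : X →
U and η : Y → V, f ≫ η = ξ ≫ φ) and g : Y → Z over ψ : V → W (vertical map ζ : Z → W, g ≫ ζ = η ≫
ψ), a quasi-coherent O_Z-module L and a natural number p. Write β for the degree-p base change maps
of higher direct images (R^p the p-th right derived functor of direct image on O-modules; the maps
are the pinned ones of the structure GenBC relative to pinned comparison data for ζ, η and ξ): B₂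
for the right square, B₁ for the left square, B for the outer square. Then the composite of the
composition isomorphism φ^* ψ^* R^p ζ_* L ≅ (φ ≫ ψ)^* R^p ζ_* L with β_B(L) equals φ^* β_{B₂}(L)
followed by β_{B₁}(g^* L) followed by R^p ξ_* of the composition isomorphism f^* g^* L ≅ (f ≫ g)^*
L. The source states this for arbitrary ζ and η; its verification evaluates both sides on sections
of R^p ζ_* L and R^p η_*(g^* L) over affine opens, identified with cohomology classes over their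
preimages, and that identification is the one available for ζ and η quasi-compact and
quasi-separated, which are therefore assumed here. -/
theorem result
    {X Y Z U V W : Scheme.{u}} (f : X ⟶ Y) (g : Y ⟶ Z) (ξ : X ⟶ U) (η : Y ⟶ V) (ζ : Z ⟶ W)
    (φ : U ⟶ V) (ψ : V ⟶ W) (h₁ : IsPullback f ξ η φ) (h₂ : IsPullback g η ζ ψ)
    (hw : (f ≫ g) ≫ ζ = ξ ≫ (φ ≫ ψ))
    [QuasiCompact ζ] [QuasiSeparated ζ] [QuasiCompact η] [QuasiSeparated η]
    [HasInjectiveResolutions X.Modules] [HasInjectiveResolutions Y.Modules] [HasInjectiveResolutions Z.Modules]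
    (L : Z.Modules) [Coh.IsQCoh L] (p : ℕ)
    {Δζ : RDer.DerivedLES (pushforward ζ)} {Δη : RDer.DerivedLES (pushforward η)} {Δξ : RDer.DerivedLES (pushforward ξ)}
    (Eζ : CohCmp.SectCmp ζ Δζ) (Eη : CohCmp.SectCmp η Δη) (Eξ : CohCmp.SectCmp ξ Δξ)
    (B₂ : CohCmp.GenBC ζ ψ η g h₂.w Eζ Eη) (B₁ : CohCmp.GenBC η φ ξ f h₁.w Eη Eξ)
    (B : CohCmp.GenBC ζ (φ ≫ ψ) ξ (f ≫ g) hw Eζ Eξ) :
    (pullbackComp φ ψ).hom.app ((Coh.Rpush ζ p).obj L) ≫ B.bc p L =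
      (pullback φ).map (B₂.bc p L) ≫ B₁.bc p ((pullback g).obj L) ≫
        (Coh.Rpush ξ p).map ((pullbackComp f g).hom.app L) := by
  apply (((Groth.Agent.R2.H81.Conj.adjP ψ).comp (Groth.Agent.R2.H81.Conj.adjP φ)).homEquiv _ _).injective
  refine (lhs_transpose φ ψ (B.bc p L)).trans ?_
  refine Eq.trans ?_ (rhs_transpose φ ψ (B₂.bc p L) (B₁.bc p ((pullback g).obj L))
    ((Coh.Rpush ξ p).map ((pullbackComp f g).hom.app L))).symm
  have e : (Groth.Agent.R2.H81.Conj.adjP (φ ≫ ψ)).homEquiv _ _ (B.bc p L) = B.φ p L :=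
    Equiv.apply_symm_apply _ _
  have e₂ : (Groth.Agent.R2.H81.Conj.adjP ψ).homEquiv _ _ (B₂.bc p L) = B₂.φ p L :=
    Equiv.apply_symm_apply _ _
  have e₁ : (Groth.Agent.R2.H81.Conj.adjP φ).homEquiv _ _ (B₁.bc p ((pullback g).obj L)) =
      B₁.φ p ((pullback g).obj L) := Equiv.apply_symm_apply _ _
  rw [e, e₂, e₁]
  refine Groth.Agent.R2.H81.EpsExt.ext_of_eps ζ Eζ L p _ _ (fun W₀ x => ?_)
  have c := B.compat W₀ L p x
  have c₂ := B₂.compat W₀ L p x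
  have c₁ := B₁.compat (ψ ⁻¹ᵁ W₀) ((pullback g).obj L) p
    (CohPull.pullOn g (ζ ⁻¹ᵁ W₀) (η ⁻¹ᵁ (ψ ⁻¹ᵁ W₀)) (CohCmp.sqLE ζ ψ η g h₂.w W₀) L p x)
  have n := Eξ.natural (φ ⁻¹ᵁ (ψ ⁻¹ᵁ W₀)) ((pullbackComp f g).hom.app L) p
    (CohPull.pullOn f (η ⁻¹ᵁ (ψ ⁻¹ᵁ W₀)) (ξ ⁻¹ᵁ (φ ⁻¹ᵁ (ψ ⁻¹ᵁ W₀))) (CohCmp.sqLE η φ ξ f h₁.w (ψ ⁻¹ᵁ W₀))
      ((pullback g).obj L) p
      (CohPull.pullOn g (ζ ⁻¹ᵁ W₀) (η ⁻¹ᵁ (ψ ⁻¹ᵁ W₀)) (CohCmp.sqLE ζ ψ η g h₂.w W₀) L p x))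
  have k := Groth.Agent.R2.H81.PullOnComp.pullOn_comp f g (ζ ⁻¹ᵁ W₀) (η ⁻¹ᵁ (ψ ⁻¹ᵁ W₀))
    (ξ ⁻¹ᵁ (φ ⁻¹ᵁ (ψ ⁻¹ᵁ W₀))) (CohCmp.sqLE ζ ψ η g h₂.w W₀) (CohCmp.sqLE η φ ξ f h₁.w (ψ ⁻¹ᵁ W₀))
    (CohCmp.sqLE ζ (φ ≫ ψ) ξ (f ≫ g) hw W₀) L p x
  refine Eq.trans (b := (B.φ p L).app W₀ (Eζ.ε W₀ L p x)) rfl ?_
  refine c.trans ?_
  symm
  refine Eq.trans (b := ((Coh.Rpush ξ p).map ((pullbackComp f g).hom.app L)).app (φ ⁻¹ᵁ (ψ ⁻¹ᵁ W₀))
    ((B₁.φ p ((pullback g).obj L)).app (ψ ⁻¹ᵁ W₀) ((B₂.φ p L).app W₀ (Eζ.ε W₀ L p x)))) rfl ?_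
  refine (congrArg (fun z => ((Coh.Rpush ξ p).map ((pullbackComp f g).hom.app L)).app (φ ⁻¹ᵁ (ψ ⁻¹ᵁ W₀))
    ((B₁.φ p ((pullback g).obj L)).app (ψ ⁻¹ᵁ W₀) z)) c₂).trans ?_
  refine (congrArg (fun z => ((Coh.Rpush ξ p).map ((pullbackComp f g).hom.app L)).app (φ ⁻¹ᵁ (ψ ⁻¹ᵁ W₀)) z)
    c₁).trans ?_
  refine n.symm.trans ?_
  exact congrArg (Eξ.ε (φ ⁻¹ᵁ (ψ ⁻¹ᵁ W₀)) ((pullback (f ≫ g)).obj L) p) k.symm

end Groth.Agent.S16948
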