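import Groth.Statements.S1699
import Groth.Agent.R2.H8GlueGeom

set_option autoImplicit false
universe u
open CategoryTheory CategoryTheory.Limits AlgebraicGeometry TopologicalSpace
open SDiv

namespace Groth.Agent.S1699

open Groth.Agent.R2.H8.GlueGeom

set_option linter.style.haveILetI false

/-- a schematically dense open contains every associated point. -/
theorem mem_of_dense (X : Scheme.{u}) [IsLocallyNoetherian X] (U : X.Opens)
    (hd : CInt.IsSchematicallyDense U) (x : X)
    (hx : IsAssociatedPrime (IsLocalRing.maximalIdeal ↑(X.presheaf.stalk x)) ↑(X.presheaf.stalk x)) :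
    x ∈ U := by
  classical
  by_contra hxU
  obtain ⟨-, a, ha⟩ := (isAssociatedPrime_iff).1 hx
  have ha0 : a ≠ 0 := by
    rintro rfl
    have h1 : (1 : X.presheaf.stalk x) ∈ IsLocalRing.maximalIdeal (X.presheaf.stalk x) := by
      rw [ha, Submodule.mem_colon_singleton]
      simp
    exact (IsLocalRing.maximalIdeal.isMaximal _).ne_top ((Ideal.eq_top_iff_one _).2 h1)
  obtain ⟨V₀, hxV₀, s₀, hs₀⟩ := TopCat.Presheaf.exists_germ_eq X.presheaf a
  obtain ⟨_, ⟨A, hA, rfl⟩, hxA, hAV⟩ :=
    X.isBasis_affineOpens.exists_subset_of_mem_open hxV₀ V₀.isOpen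
  have hA : IsAffineOpen A := hA
  have hAV : A ≤ V₀ := hAV
  have : IsNoetherianRing Γ(X, A) := IsLocallyNoetherian.component_noetherian ⟨A, hA⟩
  let s : Γ(X, A) := X.presheaf.map (homOfLE hAV).op s₀
  have hsx : X.presheaf.germ A x hxA s = a := by
    rw [TopCat.Presheaf.germ_res_apply]; exact hs₀
  letI alg := X.presheaf.algebra_section_stalk ⟨x, hxA⟩
  have loc : IsLocalization.AtPrime (X.presheaf.stalk x) (hA.primeIdealOf ⟨x, hxA⟩).asIdeal :=
    hA.isLocalization_stalk ⟨x, hxA⟩
  have halg : ∀ b : Γ(X, A), algebraMap Γ(X, A) (X.presheaf.stalk x) b =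
      X.presheaf.germ A x hxA b := fun b => rfl
  -- every `b ∈ p` kills `s` up to an element outside `p`
  have h1 : ∀ b ∈ (hA.primeIdealOf ⟨x, hxA⟩).asIdeal,
      ∃ t ∈ (hA.primeIdealOf ⟨x, hxA⟩).asIdeal.primeCompl, t * (b * s) = 0 := by
    intro b hb
    have hbm : algebraMap Γ(X, A) (X.presheaf.stalk x) b ∈
        IsLocalRing.maximalIdeal (X.presheaf.stalk x) :=
      (IsLocalization.AtPrime.to_map_mem_maximal_iff (X.presheaf.stalk x)
        (hA.primeIdealOf ⟨x, hxA⟩).asIdeal b).2 hb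
    rw [ha, Submodule.mem_colon_singleton, Submodule.mem_bot, smul_eq_mul, halg, ← hsx,
      ← map_mul] at hbm
    obtain ⟨⟨t, ht⟩, hts⟩ := (IsLocalization.map_eq_zero_iff
      (hA.primeIdealOf ⟨x, hxA⟩).asIdeal.primeCompl (X.presheaf.stalk x) (b * s)).1 hbm
    exact ⟨t, ht, hts⟩
  choose! t ht hts using h1
  obtain ⟨T, hT⟩ := (isNoetherianRing_iff_ideal_fg Γ(X, A)).1 inferInstance
    (hA.primeIdealOf ⟨x, hxA⟩).asIdeal
  have hTp : ∀ b ∈ T, b ∈ (hA.primeIdealOf ⟨x, hxA⟩).asIdeal := fun b hb => by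
    rw [← hT]; exact Ideal.subset_span hb
  let t₀ : Γ(X, A) := ∏ b ∈ T, t b
  have ht₀ : t₀ ∈ (hA.primeIdealOf ⟨x, hxA⟩).asIdeal.primeCompl :=
    Submonoid.prod_mem _ fun b hb => ht b (hTp b hb)
  let s' : Γ(X, A) := t₀ * s
  have hkill : ∀ b ∈ (hA.primeIdealOf ⟨x, hxA⟩).asIdeal, b * s' = 0 := by
    intro b hb
    rw [← hT] at hb
    refine Submodule.span_induction (p := fun b _ => b * s' = 0) ?_ ?_ ?_ ?_ hb
    · intro c hc
      obtain ⟨d, hd⟩ := Finset.dvd_prod_of_mem t hc
      change c * (t₀ * s) = 0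
      have : c * (t₀ * s) = d * (t c * (c * s)) := by
        change c * ((∏ b ∈ T, t b) * s) = _
        rw [hd]; ring
      rw [this, hts c (hTp c hc), mul_zero]
    · exact zero_mul _
    · intro c d _ _ hc hd
      rw [add_mul, hc, hd, add_zero]
    · intro c d _ hd
      rw [smul_eq_mul, mul_assoc, hd, mul_zero]
  have hs'x : X.presheaf.germ A x hxA s' ≠ 0 := by
    change X.presheaf.germ A x hxA (t₀ * s) ≠ 0
    rw [map_mul, hsx]
    have hu : IsUnit (X.presheaf.germ A x hxA t₀) :=
      (IsLocalization.AtPrime.isUnit_to_map_iff (X.presheaf.stalk x)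
        (hA.primeIdealOf ⟨x, hxA⟩).asIdeal t₀).2 ht₀
    exact fun h0 => ha0 ((hu.mul_right_eq_zero).1 h0)
  -- the restriction of `s'` to `A ⊓ U` vanishes
  have hres : X.presheaf.map (homOfLE (inf_le_left : A ⊓ U ≤ A)).op s' = 0 := by
    apply TopCat.Presheaf.section_ext X.sheaf
    intro y hy
    change X.presheaf.germ (A ⊓ U) y hy (X.presheaf.map (homOfLE (inf_le_left : A ⊓ U ≤ A)).op s') =
      X.presheaf.germ (A ⊓ U) y hy 0
    rw [TopCat.Presheaf.germ_res_apply, map_zero]
    obtain ⟨c, hcle, hyc⟩ := hA.exists_basicOpen_le (V := A ⊓ U) ⟨y, hy⟩ hy.1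
    by_cases hcp : c ∈ (hA.primeIdealOf ⟨x, hxA⟩).asIdeal
    · have h2 := congrArg (X.presheaf.germ A y hy.1) (hkill c hcp)
      rw [map_mul, map_zero] at h2
      have hu : IsUnit (X.presheaf.germ A y hy.1 c) := (X.mem_basicOpen c y hy.1).1 hyc
      exact (hu.mul_right_eq_zero).1 h2
    · exfalso
      have hu : IsUnit (X.presheaf.germ A x hxA c) :=
        (IsLocalization.AtPrime.isUnit_to_map_iff (X.presheaf.stalk x)
          (hA.primeIdealOf ⟨x, hxA⟩).asIdeal c).2 hcp
      exact hxU (hcle ((X.mem_basicOpen c x hxA).2 hu)).2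
  have hzero : s' = 0 := by
    apply hd A
    rw [hres, map_zero]
  exact hs'x (by rw [hzero, map_zero])

/-- an open containing every associated point is schematically dense. -/
theorem dense_of_mem (X : Scheme.{u}) [IsLocallyNoetherian X] (U : X.Opens)
    (h : ∀ x : ↥X, IsAssociatedPrime (IsLocalRing.maximalIdeal ↑(X.presheaf.stalk x))
      ↑(X.presheaf.stalk x) → x ∈ U) : CInt.IsSchematicallyDense U := by
  intro V
  rw [injective_iff_map_eq_zero]
  intro s hs
  by_contra hne
  have hex : ∃ (y : X) (hy : y ∈ V), X.presheaf.germ V y hy s ≠ 0 := by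
    by_contra hcon
    apply hne
    apply TopCat.Presheaf.section_ext X.sheaf
    intro y hy
    change X.presheaf.germ V y hy s = X.presheaf.germ V y hy 0
    rw [map_zero]
    by_contra hg
    exact hcon ⟨y, hy, hg⟩
  obtain ⟨y, hy, hgy⟩ := hex
  obtain ⟨_, ⟨A, hA, rfl⟩, hyA, hAV⟩ :=
    X.isBasis_affineOpens.exists_subset_of_mem_open hy V.isOpen
  have hA : IsAffineOpen A := hA
  have hAV : A ≤ V := hAV
  have : IsNoetherianRing Γ(X, A) := IsLocallyNoetherian.component_noetherian ⟨A, hA⟩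
  let s' : Γ(X, A) := X.presheaf.map (homOfLE hAV).op s
  have hs' : s' ≠ 0 := by
    intro h0
    apply hgy
    rw [← TopCat.Presheaf.germ_res_apply X.presheaf (homOfLE hAV) y hyA s]
    change X.presheaf.germ A y hyA s' = 0
    rw [h0, map_zero]
  obtain ⟨P, hP, hle⟩ := exists_le_isAssociatedPrime_of_isNoetherianRing Γ(X, A) s' hs'
  have hPprime : P.IsPrime := hP.isPrime
  let q : PrimeSpectrum Γ(X, A) := ⟨P, hPprime⟩
  have hzA : hA.fromSpec q ∈ A := fromSpec_mem hA q
  letI alg := X.presheaf.algebra_section_stalk ⟨hA.fromSpec q, hzA⟩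
  have loc : IsLocalization.AtPrime (X.presheaf.stalk (hA.fromSpec q)) P :=
    hA.isLocalization_stalk' q hzA
  have hz : IsAssociatedPrime (IsLocalRing.maximalIdeal (X.presheaf.stalk (hA.fromSpec q)))
      (X.presheaf.stalk (hA.fromSpec q)) := by
    refine Module.associatedPrimes.mem_associatedPrimes_of_comap_mem_associatedPrimes_of_isLocalizedModule
      P.primeCompl (Algebra.linearMap Γ(X, A) (X.presheaf.stalk (hA.fromSpec q)))
      (IsLocalRing.maximalIdeal (X.presheaf.stalk (hA.fromSpec q))) ?_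
    have := IsLocalization.AtPrime.under_maximalIdeal (X.presheaf.stalk (hA.fromSpec q)) P
    change (IsLocalRing.maximalIdeal (X.presheaf.stalk (hA.fromSpec q))).comap _ = P at this
    rw [this]
    exact hP
  have hzU : hA.fromSpec q ∈ U := h _ hz
  have hgz : X.presheaf.germ A (hA.fromSpec q) hzA s' ≠ 0 := by
    intro h0
    obtain ⟨⟨t, ht⟩, hts⟩ := (IsLocalization.map_eq_zero_iff P.primeCompl
      (X.presheaf.stalk (hA.fromSpec q)) s').1 h0
    apply ht
    apply hle
    rw [Submodule.mem_colon_singleton, Submodule.mem_bot, smul_eq_mul]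
    exact hts
  apply hgz
  have hzVU : hA.fromSpec q ∈ V ⊓ U := ⟨hAV hzA, hzU⟩
  change X.presheaf.germ A (hA.fromSpec q) hzA (X.presheaf.map (homOfLE hAV).op s) = 0
  rw [TopCat.Presheaf.germ_res_apply,
    ← TopCat.Presheaf.germ_res_apply X.presheaf (homOfLE (inf_le_left : V ⊓ U ≤ V))
      (hA.fromSpec q) hzVU s, hs, map_zero]

/-- (1) if and only if (3): let X be a locally Noetherian scheme and U an open subscheme. Then U is
scheme-theoretically dense in X if and only if U contains every associated point of X (every point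
whose local ring has its maximal ideal as an associated prime). -/
theorem result (X : Scheme.{u}) [IsLocallyNoetherian X] (U : X.Opens) :
    CInt.IsSchematicallyDense U ↔ ∀ x : ↥X, IsAssociatedPrime (IsLocalRing.maximalIdeal ↑(X.presheaf.stalk x)) ↑(X.presheaf.stalk x) → x ∈ U :=
  ⟨fun hd x hx => mem_of_dense X U hd x hx, dense_of_mem X U⟩

end Groth.Agent.S1699
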