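import Groth.Statements.S16998
import Groth.Agent.R2.H14ClOddMain
import Groth.Agent.R2.H14ClOddModel3

set_option autoImplicit false
universe u
open scoped TensorProduct
open QuadGrp

namespace Groth.Agent.S16998

open Groth.Agent.R2.H14.Cl

/-- Let Q be a quadratic form on a free module M with a basis indexed by Fin (2m+1) over a commutative
ring R, whose half-discriminant in that basis is a unit. Then (a) fppf-locally on R the even
Clifford algebra is a matrix algebra of size 2^m (some faithfully flat finitely presented R-algebra
R′ realises it); (b) the even central elements of the Clifford algebra C(Q) are the scalars; (c) the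
multiplication map from (centre of C(Q)) ⊗ (even part) to C(Q) is bijective; (d) M → C(Q) is
injective onto a direct summand. (The published statement, for a vector bundle over a scheme, also
says that the odd part of the centre is an invertible module squaring to the structure sheaf and
that C(Q) is locally free of rank 2^(2m+1); the first of these is stated separately over a local
base.) -/
theorem result {R : Type u} [CommRing R] {M : Type u} [AddCommGroup M] [Module R M]
    (m : ℕ) (b : Module.Basis (Fin (2 * m + 1)) R M) (Q : QuadraticForm R M)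
    (hQ : QuadGrp.IsSemiregular b (LinearEquiv.refl R R) Q) :
    (∃ (R' : Type u) (_ : CommRing R') (_ : Algebra R R'), Module.FaithfullyFlat R R' ∧ Algebra.FinitePresentation R R' ∧
        Nonempty ((R' ⊗[R] ↥(CliffordAlgebra.even Q)) ≃ₐ[R'] Matrix (Fin (2 ^ m)) (Fin (2 ^ m)) R')) ∧
    (∀ z ∈ Subalgebra.center R (CliffordAlgebra Q), z ∈ CliffordAlgebra.evenOdd Q 0 →
        z ∈ (algebraMap R (CliffordAlgebra Q)).range) ∧
    Function.Bijective (TensorProduct.lift
        (((LinearMap.mul R (CliffordAlgebra Q)).comp (Subalgebra.center R (CliffordAlgebra Q)).val.toLinearMap).compl₂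
          (CliffordAlgebra.even Q).val.toLinearMap)) ∧
    (Function.Injective (CliffordAlgebra.ι Q) ∧
      ∃ W : Submodule R (CliffordAlgebra Q), IsCompl (LinearMap.range (CliffordAlgebra.ι Q)) W) := by
  obtain ⟨A', instR, instA, hff, hfp, J, instF, instD, Θ, hΘ, hgr, hcardJ⟩ :=
    exists_odd_structure m b Q hQ
  have hfree : Module.Free R M := Module.Free.of_basis b
  have hfin : Module.Finite R M := Module.Finite.of_basis b
  have hflat : Module.Flat R A' := inferInstance
  have hJne : Nonempty J := by
    rw [← Fintype.card_pos_iff, hcardJ]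
    positivity
  have hone := one_mem_GB (S := A') (J := J)
  have hmul := mul_mem_GB (S := A') (J := J)
  have hdisj := GB_disjoint (S := A') (J := J)
  have hb : ∀ z ∈ Subalgebra.center R (CliffordAlgebra Q), z ∈ CliffordAlgebra.evenOdd Q 0 →
      z ∈ (algebraMap R (CliffordAlgebra Q)).range :=
    abs_even_center_scalar Q (GB A' J) hone hmul Θ hgr hΘ
      (fun X hX h0 => central_even_scalar X hX h0)
  have h1 : (1 : CliffordAlgebra Q) ∈ LL Q :=
    abs_one_mem_LL Q (GB A' J) hone hmul hdisj Θ hgr hΘ wI (fun Y => (wI_comm Y).symm) wI_mem_GB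
      wI_mul_wI
  refine ⟨⟨A', instR, instA, hff, hfp, ?_⟩, hb, ?_, ?_⟩
  · obtain ⟨E⟩ := abs_even_algEquiv Q (GB A' J) hone hmul hdisj Θ hgr hΘ
      (incl (S := A') (J := J)) incl_injective
      (fun X => ⟨fun h => exists_incl_eq X h, fun ⟨Y, hY⟩ => hY ▸ incl_mem_GB Y⟩)
    exact ⟨E.trans (Matrix.reindexAlgEquiv A' A' (Fintype.equivFinOfCardEq hcardJ))⟩
  · exact μZ_bijective Q hb h1
  · exact ι_injective_and_isCompl Q

end Groth.Agent.S16998
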