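import Groth.Statements.S16999
import Groth.Agent.R2.H14ClOddMain
import Groth.Agent.R2.H14ClOddModel3
import Groth.Agent.R2.H14ClOddLocal

set_option autoImplicit false
universe u v
open QuadGrp

namespace Groth.Agent.S16999

open Groth.Agent.R2.H14.Cl

/-- Centre over a local base: over a local ring R, let Q be a quadratic form on a free module M with a
basis indexed by Fin (2m+1) whose half-discriminant in that basis is a unit. Then the centre of the
Clifford algebra C(Q) is generated by the square root of a unit: there is a central unit z, odd for
the ℤ/2-grading, with z² a scalar, such that 1, z are linearly independent and span the centre. (The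
published statement: the centre is a ℤ/2-graded locally free module of rank 2 with degree-0 part the
structure sheaf and degree-1 part an invertible sheaf squaring to it; over a local base this is the
form stated.) -/
theorem result {R : Type u} [CommRing R] [IsLocalRing R]
    {M : Type v} [AddCommGroup M] [Module R M]
    (m : ℕ) (b : Module.Basis (Fin (2 * m + 1)) R M) (Q : QuadraticForm R M)
    (hQ : QuadGrp.IsSemiregular b (LinearEquiv.refl R R) Q) :
    ∃ z : CliffordAlgebra Q, z ∈ Subalgebra.center R (CliffordAlgebra Q) ∧ z ∈ CliffordAlgebra.evenOdd Q 1 ∧ IsUnit z ∧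
      z * z ∈ (algebraMap R (CliffordAlgebra Q)).range ∧ LinearIndependent R ![(1 : CliffordAlgebra Q), z] ∧
      Subalgebra.toSubmodule (Subalgebra.center R (CliffordAlgebra Q)) = Submodule.span R {1, z} := by
  obtain ⟨A', instR, instA, hff, hfp, J, instF, instD, Θ, hΘ, hgr, hcardJ⟩ :=
    exists_odd_structure m b Q hQ
  have hfree : Module.Free R M := Module.Free.of_basis b
  have hfin : Module.Finite R M := Module.Finite.of_basis b
  have hJne : Nonempty J := by
    rw [← Fintype.card_pos_iff, hcardJ]
    positivity
  have hone := one_mem_GB (S := A') (J := J)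
  have hmul := mul_mem_GB (S := A') (J := J)
  have hdisj := GB_disjoint (S := A') (J := J)
  have hb : ∀ z ∈ Subalgebra.center R (CliffordAlgebra Q), z ∈ CliffordAlgebra.evenOdd Q 0 →
      z ∈ (algebraMap R (CliffordAlgebra Q)).range :=
    abs_even_center_scalar Q (GB A' J) hone hmul Θ hgr hΘ
      (fun X hX h0 => central_even_scalar X hX h0)
  have h1 : (1 : CliffordAlgebra Q) ∈ LL Q :=
    abs_one_mem_LL Q (GB A' J) hone hmul hdisj Θ hgr hΘ wI (fun Y => (wI_comm Y).symm) wI_mem_GB
      wI_mul_wI
  exact exists_odd_central_unit Q hb h1

end Groth.Agent.S16999
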