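import Groth.Statements.S17007
import Groth.Agent.R2.H14ClLift3

set_option autoImplicit false
universe u v
open QuadGrp

namespace Groth.Agent.S17007

/-- Over a local ring, for a quadratic form Q on a finite free module of even rank 2m ≥ 2 whose polar
form is a perfect pairing, the isometries satisfying the Dickson condition form a subgroup of index
2 in the group of all isometries. (Points-level form, over a local base, of: the Dickson invariant
from the orthogonal group onto the constant group ℤ/2 is surjective with kernel the special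
orthogonal group.) -/
theorem result {R : Type u} [CommRing R] [IsLocalRing R]
    {M : Type v} [AddCommGroup M] [Module R M] [Module.Free R M] [Module.Finite R M]
    (m : ℕ) (hm : 1 ≤ m) (hM : Module.finrank R M = 2 * m) (Q : QuadraticForm R M) (hQ : QuadGrp.IsRegular Q) :
    ((QuadGrp.SOeven Q).subgroupOf (QuadGrp.O Q)).index = 2 := by
  rw [Subgroup.index_eq_two_iff_exists_notMem_and]
  obtain ⟨v, hv⟩ := Groth.Agent.R2.H14.Cl.exists_isUnit_apply m hm hM Q hQ
  obtain ⟨a, ha, uv, huv1, hlift⟩ := Groth.Agent.R2.H14.Cl.exists_odd_lift Q v hv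
  refine ⟨⟨a, ha⟩, ?_, ?_⟩
  · rw [Subgroup.mem_subgroupOf]
    rintro ⟨ha', hD⟩
    exact Groth.Agent.R2.H14.Cl.not_odd_of_dickson m hm hM Q hQ a ha' hD uv hlift huv1
  · intro b
    obtain ⟨u, hu⟩ := Groth.Agent.R2.H14.Cl.exists_unit_conj m hm hM Q hQ b.1 b.2
    have hconj : ∀ w : M, (u : CliffordAlgebra Q) * CliffordAlgebra.ι Q w * ↑u⁻¹ =
        CliffordAlgebra.ι Q (b.1 w) := by
      intro w
      rw [← hu, mul_assoc, Units.mul_inv, mul_one, CliffordAlgebra.map_apply_ι]
      rfl
    have huG : u ∈ QuadGrp.GPin' Q := Groth.Agent.R2.H14.Cl.mem_GPin'_of_conj Q u b.1 hconj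
    rcases Groth.Agent.R2.H14.Cl.even_or_odd_of_mem_GPin' m hm hM Q hQ u huG with h0 | h1
    · right
      rw [Subgroup.mem_subgroupOf]
      exact Groth.Agent.R2.H14.Cl.mem_SOeven_of_even_lift Q b.1 b.2 u hu h0
    · left
      rw [Subgroup.mem_subgroupOf]
      have hba : b.1 * a ∈ QuadGrp.O Q := (QuadGrp.O Q).mul_mem b.2 ha
      refine Groth.Agent.R2.H14.Cl.mem_SOeven_of_even_lift Q (b.1 * a) hba (u * uv)
        (Groth.Agent.R2.H14.Cl.lift_mul Q b.1 a b.2 ha hba u uv hu hlift) ?_
      rw [Units.val_mul]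
      have := Groth.Agent.R2.H14.Cl.mul_mem_evenOdd Q h1 huv1
      rwa [show (1 : ZMod 2) + 1 = 0 from by decide] at this

end Groth.Agent.S17007
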