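import Groth.Statements.S17008
import Groth.Agent.R2.H14ClLift2

set_option autoImplicit false
universe u v
open QuadGrp

namespace Groth.Agent.S17008

/-- Over a local ring, let Q be a quadratic form on a finite free module M of even rank 2m ≥ 2 whose
polar form is a perfect pairing. Then every isometry of Q satisfying the Dickson condition is
conjugation by a point of the even Clifford group: an even, locally homogeneous unit u of C(Q)
normalising M with u v u⁻¹ = g v for all v in M. (Points-level form over a local base of: the even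
Clifford group is a central extension of the special orthogonal group by the multiplicative group.) -/
theorem result {R : Type u} [CommRing R] [IsLocalRing R]
    {M : Type v} [AddCommGroup M] [Module R M] [Module.Free R M] [Module.Finite R M]
    (m : ℕ) (hm : 1 ≤ m) (hM : Module.finrank R M = 2 * m) (Q : QuadraticForm R M) (hQ : QuadGrp.IsRegular Q)
    (g : M ≃ₗ[R] M) (hg : g ∈ QuadGrp.SOeven Q) :
    ∃ u ∈ QuadGrp.GSpin Q, ∀ v : M,
      (u : CliffordAlgebra Q) * CliffordAlgebra.ι Q v * ↑u⁻¹ = CliffordAlgebra.ι Q (g v) := by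
  obtain ⟨hgO, hD⟩ := hg
  obtain ⟨u, hu⟩ := Groth.Agent.R2.H14.Cl.exists_unit_conj m hm hM Q hQ g hgO
  have hconj : ∀ v : M,
      (u : CliffordAlgebra Q) * CliffordAlgebra.ι Q v * ↑u⁻¹ = CliffordAlgebra.ι Q (g v) := by
    intro v
    rw [← hu, mul_assoc, Units.mul_inv, mul_one, CliffordAlgebra.map_apply_ι]
    rfl
  have huG : u ∈ QuadGrp.GPin' Q := Groth.Agent.R2.H14.Cl.mem_GPin'_of_conj Q u g hconj
  rcases Groth.Agent.R2.H14.Cl.even_or_odd_of_mem_GPin' m hm hM Q hQ u huG with h0 | h1
  · exact ⟨u, Groth.Agent.R2.H14.Cl.mem_GSpin_of_even Q u huG h0, hconj⟩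
  · exact absurd h1 (Groth.Agent.R2.H14.Cl.not_odd_of_dickson m hm hM Q hQ g hgO hD u hu)

end Groth.Agent.S17008
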