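import Groth.Statements.S1704
import Groth.Agent.R2.H8AssPt

set_option autoImplicit false
universe u
open CategoryTheory CategoryTheory.Limits AlgebraicGeometry TopologicalSpace
open SDiv

namespace Groth.Agent.S1704

/-- Let X be a locally Noetherian scheme and F a quasi-coherent module. Then F is zero if and only if F
has no associated point. -/
theorem result (X : Scheme.{u}) [IsLocallyNoetherian X] (F : X.Modules) (hF : Coh.IsQCoh F) :
    IsZero F ↔ ∀ x : ↥X, ¬ Curv2.IsAssPoint F x := by
  have : F.IsQuasicoherent := hF
  constructor
  · intro hz x hx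
    have hsub := Groth.Agent.Lib.Helper20.ZClosLib.stalk_subsingleton_of_isZero F hz x
    have hx' : IsAssociatedPrime (IsLocalRing.maximalIdeal (X.presheaf.stalk x))
        (F.presheaf.stalk x) := hx
    obtain ⟨hprime, m, hm⟩ := hx'
    apply hprime.ne_top
    rw [hm, Ideal.radical_eq_top, Ideal.eq_top_iff_one, Submodule.mem_colon_singleton,
      Submodule.mem_bot]
    exact Subsingleton.elim _ _
  · intro h
    apply Groth.Agent.Lib.Helper23.ModLocal.isZero_of_forall_eq_zero
    intro V s
    by_contra hne
    obtain ⟨z, -, hass, -⟩ := Groth.Agent.R2.H8.AssPt.exists_assPoint_germ_ne_zero F s hne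
    exact h z hass

end Groth.Agent.S1704
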