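import Groth.Statements.S1707
import Groth.Agent.R2.H8WeakAss

set_option autoImplicit false
universe u
open CategoryTheory CategoryTheory.Limits AlgebraicGeometry TopologicalSpace
open SDiv

namespace Groth.Agent.S1707

/-- Let X be a scheme, F a quasi-coherent module and x a point of the support of F such that no other
point of the support specializes to x. Then x is weakly associated to F. -/
theorem result (X : Scheme.{u}) (F : X.Modules) (hF : Coh.IsQCoh F) (x : ↥X)
    (hx : x ∈ CohB1.support F) (hmax : ∀ y : ↥X, y ∈ CohB1.support F → y ⤳ x → y = x) : Curv2.IsWeakAssPoint F x := by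
  have : F.IsQuasicoherent := hF
  have hnt : Nontrivial (F.presheaf.stalk x) := not_subsingleton_iff_nontrivial.1 hx
  obtain ⟨m, hm⟩ := exists_ne (0 : F.presheaf.stalk x)
  obtain ⟨V₀, hxV₀, μ₀, hμ₀⟩ := TopCat.Presheaf.exists_germ_eq F.presheaf m
  obtain ⟨_, ⟨A, hA, rfl⟩, hxA, hAV⟩ :=
    X.isBasis_affineOpens.exists_subset_of_mem_open hxV₀ V₀.isOpen
  have hA : IsAffineOpen A := hA
  have hAV : A ≤ V₀ := hAV
  have hμ : F.presheaf.germ A x hxA (F.presheaf.map (homOfLE hAV).op μ₀) ≠ 0 := by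
    rw [TopCat.Presheaf.germ_res_apply, hμ₀]
    exact hm
  obtain ⟨q, hq⟩ : ∃ q : PrimeSpectrum Γ(X, A), hA.fromSpec q = x :=
    ⟨_, hA.fromSpec_primeIdealOf ⟨x, hxA⟩⟩
  subst hq
  apply Groth.Agent.R2.H8.WeakAss.isWeakAssPoint_of_minimal hA F _ q hxA hμ
  intro q' hq'le hz' hne'
  have hsupp : hA.fromSpec q' ∈ CohB1.support F := by
    intro hsub
    exact hne' (Subsingleton.elim _ _)
  have hspec : hA.fromSpec q' ⤳ hA.fromSpec q :=
    ((PrimeSpectrum.le_iff_specializes q' q).1 hq'le).map hA.fromSpec.continuous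
  exact hA.fromSpec.isOpenEmbedding.injective (hmax _ hsupp hspec)

end Groth.Agent.S1707
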