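import Groth.Statements.S17088
import Mathlib

set_option autoImplicit false
universe u
open CategoryTheory CategoryTheory.Limits AlgebraicGeometry
open MorSch

namespace Groth.Agent.S17088

/-- `W ×_S T ⟶ X ×_S T` is the base change of `ι : W ⟶ X`. -/
lemma isPullback_map {W X S : Scheme.{u}} (f : X ⟶ S) (ι : W ⟶ X) (T : Over S) :
    IsPullback (pullback.map (ι ≫ f) T.hom f T.hom ι (𝟙 T.left) (𝟙 S)
        (Category.comp_id _) ((Category.comp_id _).trans (Category.id_comp _).symm))
      (pullback.fst (ι ≫ f) T.hom) (pullback.fst f T.hom) ι := by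
  refine IsPullback.of_right ?_ (pullback.lift_fst _ _ _) (IsPullback.of_hasPullback f T.hom).flip
  have h : pullback.map (ι ≫ f) T.hom f T.hom ι (𝟙 T.left) (𝟙 S)
        (Category.comp_id _) ((Category.comp_id _).trans (Category.id_comp _).symm) ≫
      pullback.snd f T.hom = pullback.snd (ι ≫ f) T.hom := by
    rw [pullback.map, pullback.lift_snd, Category.comp_id]
  rw [h]
  exact (IsPullback.of_hasPullback (ι ≫ f) T.hom).flip

/-- a closed subscheme `I` of `W'` whose composite with a monomorphism `j : W' ⟶ X'` is a closed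
immersion is recovered from the kernel of the composite. -/
lemma eq_comap_ker {W' X' : Scheme.{u}} (j : W' ⟶ X') [Mono j] (I : W'.IdealSheafData)
    [IsClosedImmersion (I.subschemeι ≫ j)] : I = (I.subschemeι ≫ j).ker.comap j := by
  have hP : IsPullback I.subschemeι (𝟙 _) j (I.subschemeι ≫ j) :=
    IsPullback.of_vert_isIso_mono ⟨(Category.id_comp _).symm⟩
  rw [← Scheme.IdealSheafData.ker_fst_of_isClosedImmersion (I.subschemeι ≫ j) j,
    ← Scheme.Hom.ker_comp_of_isIso hP.isoPullback.hom, hP.isoPullback_hom_fst,
    Scheme.IdealSheafData.ker_subschemeι]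

/-- Let f : X → S be a separated morphism, ι : W → X an immersion and T an S-scheme. For every closed
subscheme V of W ×_S T which is proper and flat over T — a T-point of the Hilbert functor of W over
S — the composite V → W ×_S T → X ×_S T is a closed immersion, and the map sending V to the ideal
sheaf of this composite, from T-points of the Hilbert functor of W to ideal sheaves on X ×_S T, is
injective: an immersion induces a monomorphism of Hilbert functors. -/
theorem result
    {W X S : Scheme.{u}} (f : X ⟶ S) [IsSeparated f] (ι : W ⟶ X) [IsImmersion ι]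
    (T : Over S) :
    (∀ V : FGA.HilbSet (ι ≫ f) T,
      IsClosedImmersion (V.1.subschemeι ≫ pullback.map (ι ≫ f) T.hom f T.hom ι (𝟙 T.left) (𝟙 S)
          (Category.comp_id _) ((Category.comp_id _).trans (Category.id_comp _).symm))) ∧
    Function.Injective (fun V : FGA.HilbSet (ι ≫ f) T =>
      (V.1.subschemeι ≫ pullback.map (ι ≫ f) T.hom f T.hom ι (𝟙 T.left) (𝟙 S)
          (Category.comp_id _) ((Category.comp_id _).trans (Category.id_comp _).symm)).ker) := by
  have hP := isPullback_map f ι T
  have hI : IsImmersion (pullback.map (ι ≫ f) T.hom f T.hom ι (𝟙 T.left) (𝟙 S)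
      (Category.comp_id _) ((Category.comp_id _).trans (Category.id_comp _).symm)) :=
    MorphismProperty.of_isPullback hP.flip inferInstance
  have hcl : ∀ V : FGA.HilbSet (ι ≫ f) T,
      IsClosedImmersion (V.1.subschemeι ≫ pullback.map (ι ≫ f) T.hom f T.hom ι (𝟙 T.left) (𝟙 S)
          (Category.comp_id _) ((Category.comp_id _).trans (Category.id_comp _).symm)) := by
    intro V
    have hprop : IsProper (V.1.subschemeι ≫ PicF.XTproj (ι ≫ f) T) := V.2.1
    have hprop' : IsProper ((V.1.subschemeι ≫ pullback.map (ι ≫ f) T.hom f T.hom ι (𝟙 T.left) (𝟙 S)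
          (Category.comp_id _) ((Category.comp_id _).trans (Category.id_comp _).symm)) ≫
        pullback.snd f T.hom) := by
      rw [Category.assoc, pullback.map, pullback.lift_snd, Category.comp_id]
      exact hprop
    have hp2 : IsProper (V.1.subschemeι ≫ pullback.map (ι ≫ f) T.hom f T.hom ι (𝟙 T.left) (𝟙 S)
          (Category.comp_id _) ((Category.comp_id _).trans (Category.id_comp _).symm)) :=
      IsProper.of_comp _ (pullback.snd f T.hom)
    exact IsClosedImmersion.of_isPreimmersion _ (Scheme.Hom.isClosedMap _).isClosed_range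
  refine ⟨hcl, ?_⟩
  intro V₁ V₂ h
  have := hcl V₁
  have := hcl V₂
  have hmono : Mono (pullback.map (ι ≫ f) T.hom f T.hom ι (𝟙 T.left) (𝟙 S)
      (Category.comp_id _) ((Category.comp_id _).trans (Category.id_comp _).symm)) := inferInstance
  apply Subtype.ext
  rw [eq_comap_ker (pullback.map (ι ≫ f) T.hom f T.hom ι (𝟙 T.left) (𝟙 S)
      (Category.comp_id _) ((Category.comp_id _).trans (Category.id_comp _).symm)) V₁.1,
    eq_comap_ker (pullback.map (ι ≫ f) T.hom f T.hom ι (𝟙 T.left) (𝟙 S)
      (Category.comp_id _) ((Category.comp_id _).trans (Category.id_comp _).symm)) V₂.1]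
  exact congrArg (fun J => Scheme.IdealSheafData.comap J _) h

end Groth.Agent.S17088
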