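import Groth.Statements.S17181
import Mathlib

set_option autoImplicit false
universe u
open CategoryTheory CategoryTheory.Limits AlgebraicGeometry
open FBase

namespace Groth.Agent.S17181

/-- a generalizing map with irreducible generic fibre onto a space with a generic point has
irreducible source. -/
lemma irreducibleSpace_of_generalizingMap {Y B : Type*} [TopologicalSpace Y] [TopologicalSpace B]
    (g : Y → B) (hg : GeneralizingMap g) (ξ : B) (hξ : ∀ b, ξ ⤳ b)
    (hfib : IsIrreducible (g ⁻¹' {ξ})) : IrreducibleSpace Y := by
  rw [irreducibleSpace_def]
  have h : closure (g ⁻¹' {ξ}) = Set.univ := by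
    rw [Set.eq_univ_iff_forall]
    intro y
    obtain ⟨y', hy', hgy'⟩ := hg (hξ (g y))
    have h1 : ({y'} : Set Y) ⊆ g ⁻¹' {ξ} := Set.singleton_subset_iff.2 hgy'
    exact closure_mono h1 hy'.mem_closure
  change IsIrreducible (Set.univ : Set Y)
  rw [← h]
  exact hfib.closure

/-- a generalizing map sends the generic point to the generic point. -/
lemma map_genericPoint_of_generalizingMap {A B : Type*} [TopologicalSpace A] [TopologicalSpace B]
    [QuasiSober A] [IrreducibleSpace A] [T0Space A] [QuasiSober B] [IrreducibleSpace B]
    (h : A → B) (hh : GeneralizingMap h) : h (genericPoint A) = genericPoint B := by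
  obtain ⟨a', ha', hha'⟩ := hh (genericPoint_specializes (h (genericPoint A)))
  have : a' = genericPoint A :=
    (ha'.antisymm (genericPoint_specializes a')).eq
  rw [← hha', this]

/-- Let k be a field, C an irreducible k-scheme which is geometrically irreducible over k, and f : X → C
a flat k-morphism locally of finite type with X irreducible. If the generic fibre of f is
geometrically irreducible over the residue field of the generic point of C, then X is geometrically
irreducible over k. (The published setting is a regular proper surface mapping onto a smooth
projective geometrically irreducible curve with smooth projective geometrically irreducible generic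
fibre; the printed argument uses only the hypotheses kept here.) -/
theorem result (k : Type u) [Field k]
    (X C : Scheme.{u}) [X.Over (Spec (CommRingCat.of k))] [C.Over (Spec (CommRingCat.of k))]
    (f : X ⟶ C) [f.IsOver (Spec (CommRingCat.of k))] [IrreducibleSpace X] [IrreducibleSpace C]
    [GeometricallyIrreducible (C ↘ Spec (CommRingCat.of k))] [Flat f] [LocallyOfFiniteType f]
    [GeometricallyIrreducible (f.fiberToSpecResidueField (genericPoint C))] :
    GeometricallyIrreducible (X ↘ Spec (CommRingCat.of k)) := by
  have hst : f ≫ (C ↘ Spec (CommRingCat.of k)) = X ↘ Spec (CommRingCat.of k) := comp_over f _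
  refine ⟨?_⟩
  intro K _ y Z fst snd hZ
  have hCK : IrreducibleSpace ↥(pullback (C ↘ Spec (CommRingCat.of k)) y) :=
    pullback_of_geometrically
      (GeometricallyIrreducible.geometrically_irreducibleSpace
        (f := C ↘ Spec (CommRingCat.of k))) K y
  let g : Z ⟶ pullback (C ↘ Spec (CommRingCat.of k)) y :=
    pullback.lift (fst ≫ f) snd (by rw [Category.assoc, hst, hZ.w])
  have hg1 : g ≫ pullback.fst _ _ = fst ≫ f := pullback.lift_fst _ _ _
  have hg2 : g ≫ pullback.snd _ _ = snd := pullback.lift_snd _ _ _
  have hg : IsPullback fst g f (pullback.fst (C ↘ Spec (CommRingCat.of k)) y) := by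
    refine IsPullback.of_bot ?_ hg1.symm (IsPullback.of_hasPullback _ y)
    rw [hg2, hst]
    exact hZ
  have : Flat g := MorphismProperty.of_isPullback hg inferInstance
  -- the generic point of `C_K` lies over the generic point of `C`
  set ξ := genericPoint ↥(pullback (C ↘ Spec (CommRingCat.of k)) y) with hξ
  have hc : (pullback.fst (C ↘ Spec (CommRingCat.of k)) y) ξ = genericPoint C :=
    map_genericPoint_of_generalizingMap _
      (Flat.generalizingMap (pullback.fst (C ↘ Spec (CommRingCat.of k)) y))
  -- the generic fibre of `g` is irreducible
  have hgi : ∀ c : C, c = genericPoint C →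
      GeometricallyIrreducible (f.fiberToSpecResidueField c) := by
    rintro c rfl; infer_instance
  have hfib : IrreducibleSpace ↥(g.fiber ξ) :=
    (hgi _ hc).geometrically_irreducibleSpace _ _ _
      (isPullback_fiberToSpecResidueField_of_isPullback hg ξ)
  refine irreducibleSpace_of_generalizingMap g (Flat.generalizingMap g) ξ
    genericPoint_specializes ?_
  rw [← g.range_fiberι ξ, ← Set.image_univ]
  exact (IrreducibleSpace.isIrreducible_univ _).image _ (g.fiberι ξ).continuous.continuousOn

end Groth.Agent.S17181
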