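import Groth.Statements.S17276
import Groth.Agent.R2.H62DegComp
import Groth.Agent.R2.H62AsympRR

set_option autoImplicit false
universe u
open CategoryTheory CategoryTheory.Limits AlgebraicGeometry TopologicalSpace
open Variety

namespace Groth.Agent.S17276

/-- Let X be a proper scheme over a field k of dimension one (possibly reducible or non-reduced) and L
an invertible O_X-module that is nef, meaning χ(O_C ⊗ L) - χ(O_C) ≥ 0 for every integral closed
subscheme C ⊆ X of dimension one. Then the degree of L on X, namely χ(L) - χ(O_X), is nonnegative. -/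
theorem result (k : Type u) [Field k] (X : Scheme.{u})
    [X.Over (Spec (CommRingCat.of k))] [IsProper (X ↘ (Spec (CommRingCat.of k)))]
    (hdim : topologicalKrullDim X = 1) (L : X.Modules) (hL : PicF.IsInvertible L)
    (hnef : ∀ C : X.IdealSheafData, IsIntegral C.subscheme →
      topologicalKrullDim (C.support : Set X) = 1 →
        0 ≤ Curv2.euler k X (CohB1.tensorMod (ClSub.quotMod C) L) - Curv2.euler k X (ClSub.quotMod C)) :
    0 ≤ Curv2.deg k X L 1 := by
  have hXN : IsNoetherian X := Groth.Agent.R2.H62.Snapper.isNoetherian_of_isProper k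
  have hO : Coh.IsCoh (Coh.structureModule X) := Groth.Agent.R2.H62.Snapper.isCoh_structureModule' X
  have hs : Groth.Agent.R2.H62.Snapper.SmallSupp (Coh.structureModule X) 2 := by
    refine Groth.Agent.R2.H62.Snapper.smallSupp_of_support _ hO 2 ?_
    rw [Groth.Agent.R2.H62.Snapper.dim_support_structureModule, hdim]
    exact_mod_cast Nat.lt_succ_self 1
  obtain ⟨T, hT, he⟩ := Groth.Agent.R2.H62.Snapper.euler_tensor_sub_eq_sum k L hL _ hO hs
  have h1 : Curv2.deg k X L 1 =
      Curv2.euler k X (CohB1.tensorMod (Coh.structureModule X) L) -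
        Curv2.euler k X (Coh.structureModule X) := by
    unfold Curv2.deg
    rw [Groth.Agent.R2.H62.Snapper.euler_congr k (Groth.Agent.R2.H62.Snapper.tensorUnitLeftIso L)]
    push_cast
    ring
  rw [h1, he]
  refine Finset.sum_nonneg fun ξ hξ => mul_nonneg (Int.natCast_nonneg _) ?_
  refine hnef _ (Groth.Agent.R2.H62.Snapper.isIntegral_subscheme_closure ξ) ?_
  rw [Scheme.IdealSheafData.coe_support_vanishingIdeal]
  exact hT ξ hξ

end Groth.Agent.S17276
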