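import Groth.Statements.S1733
-- import your own Groth.Agent.* helpers here

set_option autoImplicit false
universe u
open LocCoh

namespace Groth.Agent.S1733

/-- Let f_1, …, f_r and g be elements of a ring (r ≥ 1). If the family f_1, …, f_{r-1}, f_r g is
independent (every linear relation has coefficients in the ideal the family generates), then f_1, …,
f_r is independent. -/
theorem result (A : Type u) [CommRing A] (r : ℕ) (f : Fin (r + 1) → A) (g : A) (h : Dual2.Independent (Function.update f (Fin.last r) (f (Fin.last r) * g))) : Dual2.Independent f := by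
  classical
  have hf'c : ∀ i : Fin r, Function.update f (Fin.last r) (f (Fin.last r) * g) (Fin.castSucc i) =
      f (Fin.castSucc i) := fun i => Function.update_of_ne (Fin.castSucc_lt_last i).ne _ _
  have hf'l : Function.update f (Fin.last r) (f (Fin.last r) * g) (Fin.last r) =
      f (Fin.last r) * g := Function.update_self _ _ _
  have hJ : Ideal.span (Set.range (Function.update f (Fin.last r) (f (Fin.last r) * g))) ≤
      Ideal.span (Set.range f) := by
    rw [Ideal.span_le]
    rintro _ ⟨i, rfl⟩
    refine Fin.lastCases ?_ (fun i => ?_) i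
    · rw [hf'l]
      exact Ideal.mul_mem_right _ _ (Ideal.subset_span ⟨_, rfl⟩)
    · rw [hf'c]
      exact Ideal.subset_span ⟨_, rfl⟩
  intro a ha
  rw [Fin.sum_univ_castSucc] at ha
  -- step 1: `a_last ∈ J'`
  have h1 : a (Fin.last r) ∈
      Ideal.span (Set.range (Function.update f (Fin.last r) (f (Fin.last r) * g))) := by
    have := h (Function.update (fun i => a i * g) (Fin.last r) (a (Fin.last r))) ?_ (Fin.last r)
    · rwa [Function.update_self] at this
    · rw [Fin.sum_univ_castSucc, hf'l, Function.update_self]
      have e : ∀ i : Fin r, Function.update (fun i => a i * g) (Fin.last r) (a (Fin.last r))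
          (Fin.castSucc i) * Function.update f (Fin.last r) (f (Fin.last r) * g) (Fin.castSucc i) =
          g * (a (Fin.castSucc i) * f (Fin.castSucc i)) := by
        intro i
        rw [hf'c, Function.update_of_ne (Fin.castSucc_lt_last i).ne]
        ring
      rw [Finset.sum_congr rfl fun i _ => e i, ← Finset.mul_sum]
      have : g * ∑ i : Fin r, a (Fin.castSucc i) * f (Fin.castSucc i) +
          a (Fin.last r) * (f (Fin.last r) * g) =
          g * (∑ i : Fin r, a (Fin.castSucc i) * f (Fin.castSucc i) +
            a (Fin.last r) * f (Fin.last r)) := by ring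
      rw [this, ha, mul_zero]
  obtain ⟨b, hb⟩ := (Ideal.mem_span_range_iff_exists_fun).1 h1
  rw [Fin.sum_univ_castSucc, hf'l] at hb
  have hb' : ∑ i : Fin r, b (Fin.castSucc i) * f (Fin.castSucc i) +
      b (Fin.last r) * (f (Fin.last r) * g) = a (Fin.last r) := by
    rw [← hb]
    congr 1
    exact Finset.sum_congr rfl fun i _ => by rw [hf'c]
  -- step 2
  have h2 := h (Function.update (fun i => a i + b i * f (Fin.last r)) (Fin.last r)
    (b (Fin.last r) * f (Fin.last r))) ?_
  · intro i
    refine Fin.lastCases ?_ (fun i => ?_) i
    · exact hJ h1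
    · have h3 := h2 (Fin.castSucc i)
      rw [Function.update_of_ne (Fin.castSucc_lt_last i).ne] at h3
      have h4 : a (Fin.castSucc i) = (a (Fin.castSucc i) + b (Fin.castSucc i) * f (Fin.last r)) -
          b (Fin.castSucc i) * f (Fin.last r) := by ring
      rw [h4]
      exact Ideal.sub_mem _ (hJ h3) (Ideal.mul_mem_left _ _ (Ideal.subset_span ⟨_, rfl⟩))
  · rw [Fin.sum_univ_castSucc, hf'l, Function.update_self]
    have e : ∀ i : Fin r, Function.update (fun i => a i + b i * f (Fin.last r)) (Fin.last r)
        (b (Fin.last r) * f (Fin.last r)) (Fin.castSucc i) *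
        Function.update f (Fin.last r) (f (Fin.last r) * g) (Fin.castSucc i) =
        a (Fin.castSucc i) * f (Fin.castSucc i) +
          f (Fin.last r) * (b (Fin.castSucc i) * f (Fin.castSucc i)) := by
      intro i
      rw [hf'c, Function.update_of_ne (Fin.castSucc_lt_last i).ne]
      ring
    rw [Finset.sum_congr rfl fun i _ => e i, Finset.sum_add_distrib, ← Finset.mul_sum]
    have : ∑ i : Fin r, a (Fin.castSucc i) * f (Fin.castSucc i) +
        f (Fin.last r) * ∑ i : Fin r, b (Fin.castSucc i) * f (Fin.castSucc i) +
        b (Fin.last r) * f (Fin.last r) * (f (Fin.last r) * g) =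
        ∑ i : Fin r, a (Fin.castSucc i) * f (Fin.castSucc i) +
        (∑ i : Fin r, b (Fin.castSucc i) * f (Fin.castSucc i) +
          b (Fin.last r) * (f (Fin.last r) * g)) * f (Fin.last r) := by ring
    rw [this, hb', ha]

end Groth.Agent.S1733
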