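import Groth.Statements.S1734
-- import your own Groth.Agent.* helpers here

set_option autoImplicit false
universe u
open LocCoh

namespace Groth.Agent.S1734

/-- Let f_1, …, f_r, g be elements of a ring A (r ≥ 1) such that f_1, …, f_{r-1}, f_r g is independent
and A/(f_1, …, f_{r-1}, f_r g) has finite length. Then length A/(f_1, …, f_{r-1}, f_r g) = length
A/(f_1, …, f_r) + length A/(f_1, …, f_{r-1}, g). -/
theorem result (A : Type u) [CommRing A] (r : ℕ) (f : Fin (r + 1) → A) (g : A) (h : Dual2.Independent (Function.update f (Fin.last r) (f (Fin.last r) * g))) (hfin : IsFiniteLength A (A ⧸ Ideal.span (Set.range (Function.update f (Fin.last r) (f (Fin.last r) * g))))) : Module.length A (A ⧸ Ideal.span (Set.range (Function.update f (Fin.last r) (f (Fin.last r) * g)))) = Module.length A (A ⧸ Ideal.span (Set.range f)) + Module.length A (A ⧸ Ideal.span (Set.range (Function.update f (Fin.last r) g))) := by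
  classical
  have hf'c : ∀ i : Fin r, Function.update f (Fin.last r) (f (Fin.last r) * g) (Fin.castSucc i) =
      f (Fin.castSucc i) := fun i => Function.update_of_ne (Fin.castSucc_lt_last i).ne _ _
  have hf'l : Function.update f (Fin.last r) (f (Fin.last r) * g) (Fin.last r) =
      f (Fin.last r) * g := Function.update_self _ _ _
  have hf''c : ∀ i : Fin r, Function.update f (Fin.last r) g (Fin.castSucc i) =
      f (Fin.castSucc i) := fun i => Function.update_of_ne (Fin.castSucc_lt_last i).ne _ _
  have hf''l : Function.update f (Fin.last r) g (Fin.last r) = g := Function.update_self _ _ _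
  -- the three ideals
  have hle : Ideal.span (Set.range (Function.update f (Fin.last r) (f (Fin.last r) * g))) ≤
      Ideal.span (Set.range f) := by
    rw [Ideal.span_le]
    rintro _ ⟨i, rfl⟩
    refine Fin.lastCases ?_ (fun i => ?_) i
    · rw [hf'l]
      exact Ideal.mul_mem_right _ _ (Ideal.subset_span ⟨_, rfl⟩)
    · rw [hf'c]
      exact Ideal.subset_span ⟨_, rfl⟩
  have hle'' : Ideal.span (Set.range (Function.update f (Fin.last r) (f (Fin.last r) * g))) ≤
      Ideal.span (Set.range (Function.update f (Fin.last r) g)) := by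
    rw [Ideal.span_le]
    rintro _ ⟨i, rfl⟩
    refine Fin.lastCases ?_ (fun i => ?_) i
    · rw [hf'l]
      refine Ideal.mul_mem_left _ _ (Ideal.subset_span ⟨Fin.last r, ?_⟩)
      exact hf''l
    · rw [hf'c]
      exact Ideal.subset_span ⟨Fin.castSucc i, hf''c i⟩
  have hg'' : g ∈ Ideal.span (Set.range (Function.update f (Fin.last r) g)) :=
    Ideal.subset_span ⟨Fin.last r, hf''l⟩
  have hφ : (Ideal.span (Set.range (Function.update f (Fin.last r) g)) : Submodule A A) ≤
      Submodule.comap (LinearMap.lsmul A A (f (Fin.last r)))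
        (Ideal.span (Set.range (Function.update f (Fin.last r) (f (Fin.last r) * g)))) := by
    intro x hx
    change f (Fin.last r) * x ∈
      Ideal.span (Set.range (Function.update f (Fin.last r) (f (Fin.last r) * g)))
    refine Submodule.span_induction (p := fun x _ => f (Fin.last r) * x ∈
      Ideal.span (Set.range (Function.update f (Fin.last r) (f (Fin.last r) * g)))) ?_ ?_ ?_ ?_ hx
    · rintro _ ⟨i, rfl⟩
      refine Fin.lastCases ?_ (fun i => ?_) i
      · rw [hf''l]
        exact Ideal.subset_span ⟨Fin.last r, hf'l⟩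
      · rw [hf''c]
        exact Ideal.mul_mem_left _ _ (Ideal.subset_span ⟨Fin.castSucc i, hf'c i⟩)
    · rw [mul_zero]; exact Ideal.zero_mem _
    · intro x y _ _ hx hy
      rw [mul_add]; exact Ideal.add_mem _ hx hy
    · intro a x _ hx
      rw [smul_eq_mul, mul_left_comm]; exact Ideal.mul_mem_left _ _ hx
  let φ : (A ⧸ Ideal.span (Set.range (Function.update f (Fin.last r) g))) →ₗ[A]
      (A ⧸ Ideal.span (Set.range (Function.update f (Fin.last r) (f (Fin.last r) * g)))) :=
    Submodule.mapQ _ _ (LinearMap.lsmul A A (f (Fin.last r))) hφ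
  let ψ : (A ⧸ Ideal.span (Set.range (Function.update f (Fin.last r) (f (Fin.last r) * g)))) →ₗ[A]
      (A ⧸ Ideal.span (Set.range f)) :=
    Submodule.mapQ _ _ LinearMap.id hle
  have hφmk : ∀ a : A, φ (Submodule.Quotient.mk a) = Submodule.Quotient.mk (f (Fin.last r) * a) :=
    fun a => rfl
  have hψmk : ∀ a : A, ψ (Submodule.Quotient.mk a) = Submodule.Quotient.mk a := fun a => rfl
  have hinj : Function.Injective φ := by
    rw [injective_iff_map_eq_zero]
    intro x hx
    obtain ⟨a, rfl⟩ := Submodule.Quotient.mk_surjective _ x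
    rw [hφmk, Submodule.Quotient.mk_eq_zero] at hx
    rw [Submodule.Quotient.mk_eq_zero]
    obtain ⟨c, hc⟩ := (Ideal.mem_span_range_iff_exists_fun).1 hx
    rw [Fin.sum_univ_castSucc, hf'l] at hc
    have h1 := h (Function.update (fun i => c i * g) (Fin.last r) (c (Fin.last r) * g - a)) ?_
      (Fin.last r)
    · rw [Function.update_self] at h1
      have h2 : a = c (Fin.last r) * g - (c (Fin.last r) * g - a) := by ring
      rw [h2]
      exact Ideal.sub_mem _ (Ideal.mul_mem_left _ _ hg'') (hle'' h1)
    · rw [Fin.sum_univ_castSucc, hf'l, Function.update_self]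
      have e : ∀ i : Fin r, Function.update (fun i => c i * g) (Fin.last r)
          (c (Fin.last r) * g - a) (Fin.castSucc i) *
          Function.update f (Fin.last r) (f (Fin.last r) * g) (Fin.castSucc i) =
          g * (c (Fin.castSucc i) *
            Function.update f (Fin.last r) (f (Fin.last r) * g) (Fin.castSucc i)) := by
        intro i
        rw [Function.update_of_ne (Fin.castSucc_lt_last i).ne]
        ring
      rw [Finset.sum_congr rfl fun i _ => e i, ← Finset.mul_sum]
      have : g * ∑ i : Fin r, c (Fin.castSucc i) *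
            Function.update f (Fin.last r) (f (Fin.last r) * g) (Fin.castSucc i) +
          (c (Fin.last r) * g - a) * (f (Fin.last r) * g) =
          g * (∑ i : Fin r, c (Fin.castSucc i) *
            Function.update f (Fin.last r) (f (Fin.last r) * g) (Fin.castSucc i) +
            c (Fin.last r) * (f (Fin.last r) * g)) - g * (f (Fin.last r) * a) := by ring
      rw [this, hc, sub_self]
  have hsurj : Function.Surjective ψ := by
    intro y
    obtain ⟨a, rfl⟩ := Submodule.Quotient.mk_surjective _ y
    exact ⟨Submodule.Quotient.mk a, hψmk a⟩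
  have hex : Function.Exact φ ψ := by
    intro y
    obtain ⟨b, rfl⟩ := Submodule.Quotient.mk_surjective _ y
    rw [hψmk, Submodule.Quotient.mk_eq_zero]
    constructor
    · intro hb
      obtain ⟨e, he⟩ := (Ideal.mem_span_range_iff_exists_fun).1 hb
      rw [Fin.sum_univ_castSucc] at he
      refine ⟨Submodule.Quotient.mk (e (Fin.last r)), ?_⟩
      rw [hφmk]
      rw [Submodule.Quotient.eq]
      have h3 : f (Fin.last r) * e (Fin.last r) - b =
          - ∑ i : Fin r, e (Fin.castSucc i) * f (Fin.castSucc i) := by
        rw [← he]; ring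
      rw [h3]
      refine Submodule.neg_mem _ (Submodule.sum_mem _ fun i _ => ?_)
      exact Ideal.mul_mem_left _ _ (Ideal.subset_span ⟨Fin.castSucc i, hf'c i⟩)
    · rintro ⟨x, hx⟩
      obtain ⟨a, rfl⟩ := Submodule.Quotient.mk_surjective _ x
      rw [hφmk] at hx
      have h4 := (Submodule.Quotient.eq _).1 hx
      have h5 : b = f (Fin.last r) * a - (f (Fin.last r) * a - b) := by ring
      rw [h5]
      exact Ideal.sub_mem _ (Ideal.mul_mem_right _ _ (Ideal.subset_span ⟨_, rfl⟩)) (hle h4)
  rw [Module.length_eq_add_of_exact φ ψ hinj hsurj hex, add_comm]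

end Groth.Agent.S1734
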