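import Groth.Statements.S1745
import Groth.Agent.R2.H8InjBC3

set_option autoImplicit false
set_option linter.style.haveILetI false
universe u
open scoped TensorProduct
open InjHull

namespace Groth.Agent.S1745


open Groth.Agent.R2.H8.InjBC in
open Classical in
/-- the indecomposable case -/
theorem injective_tensor_indecomposable (A B : Type u) [CommRing A] [CommRing B] [Algebra A B]
    [IsNoetherianRing A] [IsNoetherianRing B] [Module.Flat A B] (h : UnramAll A B)
    (E : Type u) [AddCommGroup E] [Module A E] (hE : InjHull.IsIndecomposable A E)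
    (hinj : Module.Injective A E) : Module.Injective B (B ⊗[A] E) := by
  obtain ⟨p, hp, g, hg⟩ := Groth.Agent.S0306.result A E hE hinj
  obtain ⟨E', _, _, f', hf'⟩ := Groth.Agent.S0299.result (Localization.AtPrime p) p.ResidueField
  letI : Module A E' := Module.compHom E' (algebraMap A (Localization.AtPrime p))
  haveI : IsScalarTower A (Localization.AtPrime p) E' :=
    IsScalarTower.of_algebraMap_smul fun _ _ => rfl
  have hres := isInjectiveHull_restrictScalars p E' f' hf'
  obtain ⟨e, -⟩ := Groth.Agent.S0302.result A p.ResidueField E E' g hg (f'.restrictScalars A) hres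
  have h1 : Module.Injective B (B ⊗[A] E') := injective_tensor_hull p E' h f' hf'
  let eB : (B ⊗[A] E') ≃ₗ[B] (B ⊗[A] E) :=
    TensorProduct.AlgebraTensorModule.congr (LinearEquiv.refl B B) e.symm
  exact injective_of_linearEquiv eB h1

/-- Let A → B be a flat homomorphism of Noetherian rings such that for every prime q of B with
contraction p, the ideal p B_q equals the maximal ideal q B_q of B_q (for instance an étale map).
Then for every injective A-module I the B-module B ⊗_A I is injective. -/
theorem result (A B : Type u) [CommRing A] [CommRing B] [Algebra A B] [IsNoetherianRing A] [IsNoetherianRing B] [Module.Flat A B] (h : ∀ q : PrimeSpectrum B, Ideal.map (algebraMap B (Localization.AtPrime q.asIdeal)) ((q.asIdeal.comap (algebraMap A B)).map (algebraMap A B)) = IsLocalRing.maximalIdeal (Localization.AtPrime q.asIdeal)) (I : Type u) [AddCommGroup I] [Module A I] [Module.Injective A I] : Module.Injective B (B ⊗[A] I) := by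
  classical
  obtain ⟨ι, E, hint, hE⟩ := Groth.Agent.S0307.result A I inferInstance
  have hEi : ∀ i, Module.Injective B (B ⊗[A] (E i)) := fun i =>
    injective_tensor_indecomposable A B h (E i) (hE i).1 (hE i).2
  have hsum : Module.Injective B (DirectSum ι fun i => B ⊗[A] (E i)) :=
    Groth.Agent.S0300.result B (fun i => B ⊗[A] (E i)) hEi
  let e1 : (DirectSum ι fun i => E i) ≃ₗ[A] I := LinearEquiv.ofBijective (DirectSum.coeLinearMap E) hint
  let e2 : (B ⊗[A] (DirectSum ι fun i => E i)) ≃ₗ[B] (B ⊗[A] I) :=
    TensorProduct.AlgebraTensorModule.congr (LinearEquiv.refl B B) e1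
  let e3 : (B ⊗[A] (DirectSum ι fun i => E i)) ≃ₗ[B] (DirectSum ι fun i => B ⊗[A] (E i)) :=
    TensorProduct.directSumRight A B B (fun i => E i)
  exact Groth.Agent.R2.H8.InjBC.injective_of_linearEquiv (e3.symm ≪≫ₗ e2) hsum

end Groth.Agent.S1745
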