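import Groth.Statements.S17470
import Groth.Agent.R2.H20PthRoot
import Groth.Agent.R2.H20Kummer
import Groth.Agent.R2.H20AnConn
import Groth.Agent.Lib.Helper6AnFT

set_option autoImplicit false
open CategoryTheory AlgebraicGeometry
open An

namespace Groth.Agent.S17470

open Groth.Agent.Lib.Helper6 Groth.Agent.R2.H20 TopologicalSpace

/-- a null-homotopic map to `ℂˣ` has a continuous logarithm -/
lemma exists_log {A : Type} [TopologicalSpace A] (φ : C(A, {z : ℂ // z ≠ 0}))
    (z₀ : {z : ℂ // z ≠ 0}) (hnull : φ.Homotopic (ContinuousMap.const A z₀)) :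
    ∃ ℓ : A → ℂ, Continuous ℓ ∧ ∀ a, Complex.exp (ℓ a) = (φ a).1 := by
  obtain ⟨F⟩ := hnull.symm
  have cov := Complex.isCoveringMap_exp
  let f : C(A, ℂ) := ContinuousMap.const A (Complex.log z₀.1)
  have H_0 : ∀ a, F.toContinuousMap (0, a) =
      (⟨_, (f a).exp_ne_zero⟩ : {z : ℂ // z ≠ 0}) := by
    intro a
    apply Subtype.ext
    have h1 : F (0, a) = z₀ := F.apply_zero a
    change (F (0, a)).1 = Complex.exp (Complex.log z₀.1)
    rw [h1, Complex.exp_log z₀.2]
  let L := cov.liftHomotopy F.toContinuousMap f H_0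
  refine ⟨fun a => L (1, a), L.continuous.comp (continuous_const.prodMk continuous_id), fun a => ?_⟩
  have h2 := congrFun (cov.liftHomotopy_lifts F.toContinuousMap f H_0) (1, a)
  have h3 : F (1, a) = φ a := F.apply_one a
  have h4 := congrArg Subtype.val h2
  simp only [Function.comp_apply] at h4
  rw [show (F.toContinuousMap (1, a)) = F (1, a) from rfl, h3] at h4
  exact h4

/-- affine case of the finiteness of the set of values -/
lemma finite_range_evTop_affine (W : Scheme.{0}) [W.Over An.SC] [IsAffine W]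
    [LocallyOfFiniteType (W ↘ An.SC)] (u : Γ(W, ⊤))
    (h : ∀ p : ℕ, p.Prime → ∃ v : Γ(W, ⊤), v ^ p = u) :
    (Set.range fun x : An.Pts W => x.evTop u).Finite := by
  letI : Algebra ℂ Γ(W, ⊤) := (An.strHom W).toAlgebra
  haveI : Algebra.FiniteType ℂ Γ(W, ⊤) := strHom_finiteType (X := W)
  have hfin := PthRoot.finite_setOf_ringHom_apply (k := ℂ) u h
  refine hfin.subset ?_
  rintro _ ⟨x, rfl⟩
  exact ⟨evHom x ⊤ (Opens.mem_top _), fun c => evTop_strHom x c, rfl⟩

/-- finiteness of the set of values of a global function having `p`-th roots for all primes `p` -/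
lemma finite_range_evTop (X : Scheme.{0}) [X.Over An.SC] [LocallyOfFiniteType (X ↘ An.SC)]
    [CompactSpace X] (u : Γ(X, ⊤)) (h : ∀ p : ℕ, p.Prime → ∃ v : Γ(X, ⊤), v ^ p = u) :
    (Set.range fun x : An.Pts X => x.evTop u).Finite := by
  have hcov : (Set.univ : Set X) ⊆ ⋃ W : X.affineOpens, ((W : X.Opens) : Set X) := by
    intro x _
    obtain ⟨W, hW, hxW, -⟩ := exists_isAffineOpen_mem_and_subset (x := x) (U := ⊤) trivial
    exact Set.mem_iUnion.2 ⟨⟨W, hW⟩, hxW⟩
  obtain ⟨t, ht⟩ := isCompact_univ.elim_finite_subcover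
    (fun W : X.affineOpens => ((W : X.Opens) : Set X)) (fun W => (W : X.Opens).2) hcov
  have hsub : (Set.range fun x : An.Pts X => x.evTop u) ⊆
      ⋃ W ∈ t, (fun x : An.Pts X => x.evTop u) '' (An.Pts.pt ⁻¹' ((W : X.Opens) : Set X)) := by
    rintro _ ⟨x, rfl⟩
    obtain ⟨W, hWt, hxW⟩ := Set.mem_iUnion₂.1 (ht (Set.mem_univ x.pt))
    exact Set.mem_iUnion₂.2 ⟨W, hWt, ⟨x, hxW, rfl⟩⟩
  refine (Set.Finite.biUnion t.finite_toSet fun W _ => ?_).subset hsub
  -- the affine open `W`
  have hlW : LocallyOfFiniteType ((W : X.Opens).toScheme ↘ An.SC) := by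
    rw [← Scheme.Opens.ι_comp_over]; infer_instance
  haveI : IsAffine (W : X.Opens).toScheme := W.2
  have hW := finite_range_evTop_affine (W : X.Opens).toScheme ((W : X.Opens).ι.appTop u)
    (fun p hp => by
      obtain ⟨v, hv⟩ := h p hp
      exact ⟨(W : X.Opens).ι.appTop v, by rw [← map_pow, hv]⟩)
  refine hW.subset ?_
  rintro _ ⟨x, hx, rfl⟩
  have hxr : x ∈ Set.range (An.Pts.map (W : X.Opens).ι) := by
    rw [range_map_of_isOpenImmersion, Scheme.Opens.opensRange_ι]
    exact hx
  obtain ⟨y, rfl⟩ := hxr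
  exact ⟨y, (evTop_map _ y u).symm⟩

/-- Let X be a connected variety over ℂ (reduced, separated and of finite type over ℂ, connected) and u
a regular function on X with no zero at any ℂ-point, viewed as a regular map X → ℂ^×. If the
continuous map it induces from the ℂ-points X(ℂ), with their complex topology, to ℂ^× is
null-homotopic, then u has the same value at all ℂ-points: a null-homotopic regular map from a
connected complex variety to ℂ^× is constant. -/
theorem result
    (X : Scheme.{0}) [X.Over An.SC] [IsReduced X]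
    [LocallyOfFiniteType (X ↘ An.SC)] [QuasiCompact (X ↘ An.SC)] [IsSeparated (X ↘ An.SC)]
    [ConnectedSpace X] (u : Γ(X, ⊤))
    (φ : C(An.Pts X, {z : ℂ // z ≠ 0})) (hφ : ∀ x : An.Pts X, (φ x).1 = x.evTop u)
    (z₀ : {z : ℂ // z ≠ 0}) (hnull : φ.Homotopic (ContinuousMap.const (An.Pts X) z₀)) :
    ∀ x y : An.Pts X, x.evTop u = y.evTop u := by
  haveI : CompactSpace X := by
    have h : QuasiCompact (X ↘ An.SC) := inferInstance
    exact (quasiCompact_iff_compactSpace (f := X ↘ An.SC)).1 h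
  obtain ⟨ℓ, hℓc, hℓ⟩ := exists_log φ z₀ hnull
  have hu : ∀ x : An.Pts X, x.evTop u ≠ 0 := fun x => by rw [← hφ]; exact (φ x).2
  have hroots : ∀ p : ℕ, p.Prime → ∃ v : Γ(X, ⊤), v ^ p = u := by
    intro p hp
    haveI : NeZero p := ⟨hp.ne_zero⟩
    refine Kummer.exists_pow_eq p u (fun x => Complex.exp (ℓ x / p))
      (Complex.continuous_exp.comp (hℓc.div_const _)) (fun x => ?_) hu
    rw [← Complex.exp_nat_mul, mul_div_cancel₀ _ (Nat.cast_ne_zero.2 hp.ne_zero), hℓ, hφ]
  have hfin := finite_range_evTop X u hroots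
  haveI : ConnectedSpace (An.Pts X) := (AnConn.connectedSpace_iff_pts (X := X)).1 inferInstance
  intro x y
  exact (isPreconnected_univ (α := An.Pts X)).constant_of_mapsTo hfin.isDiscrete
    (Kummer.continuous_evTop u).continuousOn (fun x _ => Set.mem_range_self x)
    (Set.mem_univ x) (Set.mem_univ y)

end Groth.Agent.S17470
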