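import Groth.Statements.S17476
import Groth.Agent.R2.H84TildeHom

set_option autoImplicit false
universe u
open CategoryTheory AlgebraicGeometry Opposite
open Coh

namespace Groth.Agent.S17476

/-- Let R be a Noetherian ring, Z = Spec R, M a finitely generated R-module with associated
quasi-coherent sheaf M~ (so that Hom_R(M, R) = Hom_Z(M~, O_Z)), and Z₀ ⊆ Z an open subscheme. (1) If
the restriction of functions Γ(Z, O_Z) → Γ(Z₀, O_Z) is injective, then the restriction map Hom_Z(M~,
O_Z) → Hom_{Z₀}(M~|Z₀, O_{Z₀}) is injective. (2) If R is an integrally closed domain and the closed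
complement of Z₀ has codimension at least 2 (every prime ideal outside Z₀ has height at least 2),
then that restriction map is bijective. (The published first assertion assumes only that Z₀ is
dense; for R = k[x,y]/(x², xy), M = R and Z₀ the locus y ≠ 0, which is dense, multiplication by x is
a nonzero element of Hom_R(M, R) restricting to zero, so schematic density is what is needed and
what the printed argument uses. The published second assertion is for a normal irreducible affine
variety; any Noetherian integrally closed domain is allowed here.) -/
theorem result (R : Type u) [CommRing R] [IsNoetherianRing R]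
    (M : ModuleCat.{u} (CommRingCat.of R)) [Module.Finite R M] (U : (Spec (CommRingCat.of R)).Opens) :
    (Function.Injective ((Spec (CommRingCat.of R)).presheaf.map (homOfLE (le_top : U ≤ ⊤)).op) →
      Function.Injective (fun φ : AlgebraicGeometry.tilde M ⟶ Coh.structureModule (Spec (CommRingCat.of R)) =>
        (Scheme.Modules.restrictFunctor U.ι).map φ)) ∧
    (IsDomain R → IsIntegrallyClosed R → (∀ p : PrimeSpectrum R, p ∉ U → (2 : ℕ∞) ≤ p.asIdeal.height) →
      Function.Bijective (fun φ : AlgebraicGeometry.tilde M ⟶ Coh.structureModule (Spec (CommRingCat.of R)) =>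
        (Scheme.Modules.restrictFunctor U.ι).map φ)) := by
  refine ⟨fun h => ?_, fun hdom hic hU => ?_⟩
  · exact Groth.Agent.R2.H84.TildeHom.restrict_injective M _ U
      (Groth.Agent.R2.H84.TildeHom.Γ_unit_injective U h)
  · have hb := Groth.Agent.R2.H84.TildeHom.bijective_res_of_normal U hU
    have hb' : Function.Bijective ((moduleSpecΓFunctor (R := CommRingCat.of R)).map
        ((Scheme.Modules.restrictAdjunction U.ι).unit.app
          (Coh.structureModule (Spec (CommRingCat.of R))))).hom :=
      ⟨Groth.Agent.R2.H84.TildeHom.Γ_unit_injective U hb.1,
        Groth.Agent.R2.H84.TildeHom.Γ_unit_surjective U hb.2⟩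
    exact ⟨Groth.Agent.R2.H84.TildeHom.restrict_injective M _ U hb'.1,
      Groth.Agent.R2.H84.TildeHom.restrict_surjective M _ U hb'⟩

end Groth.Agent.S17476
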