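import Groth.Statements.S17511
import Groth.Agent.R2.H16CbcConc
import Groth.Agent.R2.H62CurveCoker
import Groth.Agent.Lib.Helper18PBUnit2
import Groth.Agent.Lib.Helper1Sky9

set_option autoImplicit false
set_option linter.style.haveILetI false
universe u
open CategoryTheory CategoryTheory.Limits MonoidalCategory CartesianMonoidalCategory MonObj GrpObj AlgebraicGeometry
open AbVar

namespace Groth.Agent.S17511

/-- a morphism to the spectrum of a field is flat -/
theorem flat_of_field (k : Type u) [Field k] {X : Scheme.{u}} (g : X ⟶ Spec (CommRingCat.of k)) :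
    Flat g := by
  rw [HasRingHomProperty.iff_of_source_openCover (P := @Flat) X.affineCover]
  intro i
  have hR : IsField ↑Γ(Spec (CommRingCat.of k), ⊤) :=
    (Scheme.ΓSpecIso (CommRingCat.of k)).commRingCatIsoToRingEquiv.toMulEquiv.isField
      (Field.toIsField k)
  generalize ((X.affineCover.f i ≫ g).appTop).hom = φ
  algebraize [φ]
  let _ := hR.toField
  have : Module.Free ↑Γ(Spec (CommRingCat.of k), ⊤) ↑Γ(X.affineCover.X i, ⊤) :=
    Module.Free.of_divisionRing _ _
  exact Module.Flat.of_free

/-- a flat module on the source of a flat morphism is flat over the base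
(copy of helper4's `R2/H4RelPerf.isFlatOverAt_of_isFlatAt`, to avoid the heavy import). -/
theorem isFlatOverAt_of_isFlatAt {X S : Scheme.{u}} (f : X ⟶ S) [Flat f] (M : X.Modules) (x : X)
    (h : FlatMod.IsFlatAt M x) : FlatMod.IsFlatOverAt f M x := by
  letI : Algebra (S.presheaf.stalk (f.base x)) (X.presheaf.stalk x) :=
    (f.stalkMap x).hom.toAlgebra
  letI := FlatMod.moduleStalkOver f M x
  haveI : IsScalarTower (S.presheaf.stalk (f.base x)) (X.presheaf.stalk x)
      (M.presheaf.stalk x) := IsScalarTower.of_algebraMap_smul (fun r m => rfl)
  haveI : Module.Flat (S.presheaf.stalk (f.base x)) (X.presheaf.stalk x) := Flat.stalkMap f x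
  haveI : Module.Flat (X.presheaf.stalk x) (M.presheaf.stalk x) := h
  exact Module.Flat.trans (S.presheaf.stalk (f.base x)) (X.presheaf.stalk x) (M.presheaf.stalk x)

/-- In an algebraic family of line bundles the index cannot jump locally. Let X be an abelian variety
over a field k (a proper, geometrically integral k-group scheme), let T be a locally Noetherian
k-scheme, M an invertible module on X ×_k T, and for each point t of T let M_t be the pull-back of M
to the fibre X ×_k Spec k(t). Suppose every M_t is non-degenerate, with index idx(t): H^j(X ×_k Spec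
k(t), M_t) = 0 for j ≠ idx(t) and H^{idx(t)} ≠ 0. Then t ↦ idx(t) is a locally constant function on
T. (Non-degeneracy with index i is expressed by the equivalent condition that the cohomology is
concentrated in degree i and non-zero there.) -/
theorem result
    (k : Type u) [Field k] (X : Over (Spec (CommRingCat.of k))) [GrpObj X] [IsProper X.hom] [GeometricallyIntegral X.hom]
    (T : Over (Spec (CommRingCat.of k))) [IsLocallyNoetherian T.left]
    (M : (X ⊗ T).left.Modules) (hM : PicF.IsInvertible M)
    (idx : ↥T.left → ℕ)
    (hidx : ∀ t : ↥T.left,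
      (∀ j : ℕ, j ≠ idx t →
        Subsingleton (Coh.HH (pullback (snd X T).left (T.left.fromSpecResidueField t))
          ((Scheme.Modules.pullback (pullback.fst (snd X T).left (T.left.fromSpecResidueField t))).obj M) j)) ∧
      Nontrivial (Coh.HH (pullback (snd X T).left (T.left.fromSpecResidueField t))
          ((Scheme.Modules.pullback (pullback.fst (snd X T).left (T.left.fromSpecResidueField t))).obj M) (idx t))) :
    IsLocallyConstant idx := by
  haveI : IsProper (snd X T).left :=
    show IsProper (pullback.snd X.hom T.hom) from inferInstance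
  haveI : Flat X.hom := Groth.Agent.S17511.flat_of_field k X.hom
  haveI : Flat (snd X T).left :=
    show Flat (pullback.snd X.hom T.hom) from inferInstance
  have hcoh : Coh.IsCoh M := Groth.Agent.R2.H62.CurveInv.isCoh_of_isInvertible hM
  have hflat : FlatMod.IsFlat M := Groth.Agent.Lib.Helper1.Sky.isFlat_of_isFinLocFree' M
    (Groth.Agent.Helper18PBUnit.isFinLocFree_of_isInvertible hM)
  have hfl : FlatMod.IsFlatOver (snd X T).left M := fun x =>
    Groth.Agent.S17511.isFlatOverAt_of_isFlatAt (snd X T).left M x (hflat x)
  exact Groth.Agent.R2.H16.CbcConc.isLocallyConstant_index (snd X T).left M hcoh hfl idx hidx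

end Groth.Agent.S17511
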