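import Groth.Statements.S17512
import Groth.Agent.R2.H84ThetaPair

set_option autoImplicit false
universe u
open ThetaRep

namespace Groth.Agent.S17512

open Groth.Agent.R2.H84.ThetaPair in
theorem natCast_ne_zero_of_coprime (k : Type u) [Field k] (n : ℕ) (hn : n ≠ 0)
    (hcop : n.Coprime (ringExpChar k)) : (n : k) ≠ 0 := by
  obtain ⟨q, hq⟩ := ExpChar.exists k
  have hq' : ringExpChar k = q := ringExpChar.eq k q
  rw [hq'] at hcop
  cases hq with
  | zero => exact Nat.cast_ne_zero.mpr hn
  | prime hp =>
    intro h0
    have hdvd : q ∣ n := (CharP.cast_eq_zero_iff k q n).mp h0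
    have : q ∣ Nat.gcd n q := Nat.dvd_gcd hdvd dvd_rfl
    rw [hcop] at this
    exact hp.one_lt.ne' (Nat.dvd_one.mp this)

open Groth.Agent.R2.H84.ThetaPair in
theorem aux (k : Type u) [Field k] [IsAlgClosed k]
    (Γ : Type u) [Group Γ] (Z : Subgroup Γ) (hcent : Z = Subgroup.center Γ)
    (j : Z →* kˣ) (hj : Function.Injective j) (hcomm : commutator Γ ≤ Z)
    [Finite (Γ ⧸ Z)] (hcop : (Nat.card (Γ ⧸ Z)).Coprime (ringExpChar k))
    (H : Subgroup Γ) (hH : Z ≤ H) :
    List.TFAE [
      IsMulCommutative H ∧ ∀ H' : Subgroup Γ, IsMulCommutative H' → H ≤ H' → H' = H,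
      IsMulCommutative H ∧ (Z.relIndex H) ^ 2 = Z.index,
      H = Subgroup.centralizer (H : Set Γ)] := by
  subst hcent
  have hne : NeZero ((Nat.card (Γ ⧸ Subgroup.center Γ) : ℕ) : k) :=
    ⟨natCast_ne_zero_of_coprime k _ Nat.card_pos.ne' hcop⟩
  have hroots : HasEnoughRootsOfUnity k (Nat.card (Γ ⧸ Subgroup.center Γ)) := inferInstance
  have key : (Subgroup.center Γ).relIndex (Subgroup.centralizer (H : Set Γ)) = H.index :=
    relIndex_centralizer_eq_index hcomm j hj H hH
  have hZH : (Subgroup.center Γ).relIndex H * H.index = (Subgroup.center Γ).index :=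
    Subgroup.relIndex_mul_index hH
  have hZne : (Subgroup.center Γ).index ≠ 0 := Subgroup.index_ne_zero_of_finite
  tfae_have 1 → 3 := by
    rintro ⟨hcommH, hmax⟩
    apply le_antisymm (Subgroup.le_centralizer_iff_isMulCommutative.mpr hcommH)
    intro x hx
    have hx' := Subgroup.mem_centralizer_iff.mp hx
    have hcl : IsMulCommutative (Subgroup.closure ((H : Set Γ) ∪ {x})) := by
      apply Subgroup.isMulCommutative_closure
      rintro a (ha | ha) b (hb | hb)
      · exact setLike_mul_comm ha hb
      · rw [Set.mem_singleton_iff] at hb; subst hb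
        exact hx' a ha
      · rw [Set.mem_singleton_iff] at ha; subst ha
        exact (hx' b hb).symm
      · rw [Set.mem_singleton_iff] at ha hb; subst ha; subst hb; rfl
    have hle : H ≤ Subgroup.closure ((H : Set Γ) ∪ {x}) := fun y hy =>
      Subgroup.subset_closure (Or.inl hy)
    have := hmax _ hcl hle
    rw [← this]
    exact Subgroup.subset_closure (Or.inr rfl)
  tfae_have 3 → 1 := by
    intro h3
    refine ⟨Subgroup.le_centralizer_iff_isMulCommutative.mp (le_of_eq h3), ?_⟩
    intro H' hH' hle
    apply le_antisymm _ hle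
    calc H' ≤ Subgroup.centralizer (H' : Set Γ) :=
          Subgroup.le_centralizer_iff_isMulCommutative.mpr hH'
      _ ≤ Subgroup.centralizer (H : Set Γ) := Subgroup.centralizer_le hle
      _ = H := h3.symm
  tfae_have 3 → 2 := by
    intro h3
    refine ⟨Subgroup.le_centralizer_iff_isMulCommutative.mp (le_of_eq h3), ?_⟩
    rw [← h3] at key
    rw [sq, ← hZH, key]
  tfae_have 2 → 3 := by
    rintro ⟨hcommH, hsq⟩
    have hle : H ≤ Subgroup.centralizer (H : Set Γ) :=
      Subgroup.le_centralizer_iff_isMulCommutative.mpr hcommH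
    apply le_antisymm hle
    rw [← Subgroup.relIndex_eq_one]
    have ha : (Subgroup.center Γ).relIndex H ≠ 0 := by
      intro h0
      rw [h0, zero_mul] at hZH
      exact hZne hZH.symm
    have hidx : H.index = (Subgroup.center Γ).relIndex H := by
      rw [sq, ← hZH] at hsq
      exact (Nat.eq_of_mul_eq_mul_left (Nat.pos_of_ne_zero ha) hsq).symm
    have hmul := Subgroup.relIndex_mul_relIndex _ _ _ hH hle
    rw [key, hidx] at hmul
    exact Nat.eq_of_mul_eq_mul_left (Nat.pos_of_ne_zero ha) (hmul.trans (mul_one _).symm)
  tfae_finish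

/-- For the group of k-points of a non-degenerate theta group with constant K, let k be an algebraically
closed field and Γ a group given with an injective homomorphism ι from kˣ onto the centre of Γ such
that K = Γ/ι(kˣ) is finite and commutative (all commutators lie in ι(kˣ)) of order prime to the
characteristic exponent of k — the group of k-points of a non-degenerate theta group 1 → G_m → G → K
→ 1 with rank(K) prime to char(k). Subgroups of K correspond to subgroups H of Γ containing ι(kˣ);
such an H is totally isotropic for the commutator pairing exactly when it is commutative, and its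
orthogonal corresponds to the centralizer of H. For a subgroup H ⊇ ι(kˣ) the following are
equivalent: (i) H is commutative and maximal among commutative subgroups of Γ; (ii) H is commutative
and [H : ι(kˣ)]² = [Γ : ι(kˣ)]; (iii) H is its own centralizer. (The published lemma is for an
arbitrary non-degenerate theta group scheme, where (iii) ⇔ (ii) ⇒ (i) always and (i) ⇒ (iii) needs k
algebraically closed; this row is the case of the group of k-points with K constant.) -/
theorem result
    (k : Type u) [Field k] [IsAlgClosed k]
    (Γ : Type u) [Group Γ] (ι : kˣ →* Γ) (hι : Function.Injective ι)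
    (hcent : ι.range = Subgroup.center Γ) (hcomm : commutator Γ ≤ ι.range)
    [Finite (Γ ⧸ ι.range)] (hcop : (Nat.card (Γ ⧸ ι.range)).Coprime (ringExpChar k))
    (H : Subgroup Γ) (hH : ι.range ≤ H) :
    List.TFAE [
      IsMulCommutative H ∧ ∀ H' : Subgroup Γ, IsMulCommutative H' → H ≤ H' → H' = H,
      IsMulCommutative H ∧ (ι.range.relIndex H) ^ 2 = ι.range.index,
      H = Subgroup.centralizer (H : Set Γ)] := by
  exact aux k Γ ι.range hcent (MonoidHom.ofInjective hι).symm.toMonoidHom
    (MonoidHom.ofInjective hι).symm.injective hcomm hcop H hH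

end Groth.Agent.S17512
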