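import Groth.Statements.S17584
-- import your own Groth.Agent.* helpers here
import Groth.Agent.Lib.Helper4NormGlobal
import Groth.Agent.Lib.Helper4EtNormalSch

set_option autoImplicit false
open CategoryTheory CategoryTheory.Limits AlgebraicGeometry
open PosLin

namespace Groth.Agent.S17584


/-- A domain which is integrally closed in some field containing it is integrally closed. -/
theorem isIntegrallyClosed_of_isIntegrallyClosedIn_field (R L : Type*) [CommRing R] [IsDomain R]
    [Field L] [Algebra R L] (hinj : Function.Injective (algebraMap R L))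
    (h : IsIntegrallyClosedIn R L) : IsIntegrallyClosed R := by
  haveI : FaithfulSMul R L := (faithfulSMul_iff_algebraMap_injective R L).mpr hinj
  rw [isIntegrallyClosed_iff (FractionRing R)]
  intro x hx
  let g : FractionRing R →ₐ[R] L := IsFractionRing.liftAlgHom (g := Algebra.ofId R L) hinj
  have hgx : IsIntegral R (g x) := hx.map g
  obtain ⟨y, hy⟩ := (isIntegrallyClosedIn_iff.mp h).2 hgx
  refine ⟨y, ?_⟩
  apply g.toRingHom.injective
  change g (algebraMap R (FractionRing R) y) = g x
  rw [AlgHom.commutes, hy]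

/-- Sections of a normal integral scheme over a nonempty open are integrally closed. -/
theorem isIntegrallyClosed_sections_open {X : Scheme.{0}} [IsIntegral X]
    (hX : Pi1.IsNormalScheme X) (U : X.Opens) [Nonempty U] :
    @IsIntegrallyClosed Γ(X, U) _ := by
  haveI : Nonempty (U : Scheme.{0}) := ‹Nonempty U›
  haveI : IsIntegral (U : Scheme.{0}) := isIntegral_of_isOpenImmersion U.ι
  have hU : Pi1.IsNormalScheme (U : Scheme.{0}) :=
    Groth.Agent.Lib.Helper4.EtNormalSch.isNormalScheme_of_etale hX U.ι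
  haveI hne : Nonempty (⊤ : (U : Scheme.{0}).Opens) :=
    ⟨⟨Classical.arbitrary (U : Scheme.{0}), trivial⟩⟩
  have h := Groth.Agent.Lib.Helper4.NormGlobal.isIntegrallyClosedIn_top_functionField
    (U : Scheme.{0}) hU
  haveI : IsDomain Γ((U : Scheme.{0}), ⊤) := IsIntegral.component_integral ⊤
  have h2 : IsIntegrallyClosed Γ((U : Scheme.{0}), ⊤) :=
    isIntegrallyClosed_of_isIntegrallyClosedIn_field _ _
      ((U : Scheme.{0}).germToFunctionField_injective ⊤) h
  exact IsIntegrallyClosed.of_equiv U.topIso.commRingCatIsoToRingEquiv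

/-- Let X and Y each be a projective variety over the complex numbers (an integral scheme, proper over
ℂ, with an ample invertible module), and f : X → Y an algebraic fibre space (a surjective morphism
over ℂ with O_Y → f_*O_X an isomorphism). If X is normal, then Y is normal. -/
theorem result (X : Scheme.{0}) [X.Over (Spec (CommRingCat.of ℂ))] [IsIntegral X] [IsProper (X ↘ Spec (CommRingCat.of ℂ))]
    (HX : X.Modules) (hHX : CohB1.IsAmple HX)
    (Y : Scheme.{0}) [Y.Over (Spec (CommRingCat.of ℂ))] [IsIntegral Y] [IsProper (Y ↘ Spec (CommRingCat.of ℂ))]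
    (HY : Y.Modules) (hHY : CohB1.IsAmple HY)
    (f : X ⟶ Y) (hf : f ≫ (Y ↘ Spec (CommRingCat.of ℂ)) = X ↘ Spec (CommRingCat.of ℂ)) [Surjective f]
    (hfs : IsIso (ClSub.unitToPush f))
    (hX : Pi1.IsNormalScheme X) : Pi1.IsNormalScheme Y := by
  intro y
  obtain ⟨_, ⟨V, hV, rfl⟩, hyV, -⟩ := Y.isBasis_affineOpens.exists_subset_of_mem_open
    (Set.mem_univ y) isOpen_univ
  have hbij : Function.Bijective (f.app V) := by
    have h1 : IsIso ((ClSub.unitToPush f).app V) :=
      Scheme.Modules.Hom.isIso_iff_isIso_app.1 hfs V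
    exact (ConcreteCategory.isIso_iff_bijective ((ClSub.unitToPush f).app V)).1 h1
  haveI : Nonempty V := ⟨⟨y, hyV⟩⟩
  haveI : Nonempty (f ⁻¹ᵁ V) := by
    obtain ⟨x, hx⟩ := f.surjective y
    exact ⟨⟨x, by change f x ∈ V; rw [hx]; exact hyV⟩⟩
  haveI : IsDomain Γ(Y, V) := IsIntegral.component_integral V
  haveI h1 : IsIntegrallyClosed Γ(X, f ⁻¹ᵁ V) := isIntegrallyClosed_sections_open hX _
  let e : Γ(Y, V) ≃+* Γ(X, f ⁻¹ᵁ V) := RingEquiv.ofBijective (f.app V).hom hbij
  haveI : IsIntegrallyClosed Γ(Y, V) := IsIntegrallyClosed.of_equiv e.symm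
  letI := TopCat.Presheaf.algebra_section_stalk Y.presheaf ⟨y, hyV⟩
  haveI hloc := hV.isLocalization_stalk ⟨y, hyV⟩
  haveI := (hV.primeIdealOf ⟨y, hyV⟩).isPrime
  refine ⟨inferInstance, ?_⟩
  exact isIntegrallyClosed_of_isLocalization (Y.presheaf.stalk y)
    (hV.primeIdealOf ⟨y, hyV⟩).asIdeal.primeCompl
    (Ideal.primeCompl_le_nonZeroDivisors _)

end Groth.Agent.S17584
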