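import Groth.Statements.S17587
import Groth.Agent.R2.H85BigExp

set_option autoImplicit false
open CategoryTheory CategoryTheory.Limits AlgebraicGeometry
open PosLin

namespace Groth.Agent.S17587

/-- Let X be a projective variety over the complex numbers (an integral scheme, proper over ℂ, with an
ample invertible module), and L an invertible O_X-module which is big, bigness being expressed
through the equivalent condition that every ample invertible O_X-module A admits a monomorphism A →
L^⊗m for some m > 0. Then the exponent of L is 1, that is, H^0(X, L^⊗m) ≠ 0 for every sufficiently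
large m. -/
theorem result (X : Scheme.{0}) [X.Over (Spec (CommRingCat.of ℂ))] [IsIntegral X]
    [IsProper (X ↘ Spec (CommRingCat.of ℂ))] (H : X.Modules) (hH : CohB1.IsAmple H)
    (L : X.Modules) (hL : PicF.IsInvertible L)
    (hbig : ∀ A : X.Modules, CohB1.IsAmple A → ∃ (m : ℕ) (φ : A ⟶ CohB1.tensorPow L m), 0 < m ∧ Mono φ) :
    ∃ m₁ : ℕ, ∀ m : ℕ, m₁ ≤ m → Nontrivial (Coh.HH X (CohB1.tensorPow L m) 0) := by
  haveI : CompactSpace X :=
    QuasiCompact.compactSpace_of_compactSpace (X ↘ Spec (CommRingCat.of ℂ))
  haveI : X.IsSeparated := by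
    have h2 : IsSeparated ((X ↘ Spec (CommRingCat.of ℂ)) ≫ terminal.from _) := inferInstance
    rw [terminal.comp_from] at h2
    exact ⟨h2⟩
  obtain ⟨m₁, hm₁⟩ :=
    Groth.Agent.R2.H85.BigExp.exists_forall_hasSec_tensorPow H hH L hL hbig
  exact ⟨m₁, fun m hm => Groth.Agent.R2.H85.BigExp.nontrivial_HH_zero_of_hasSec (hm₁ m hm)⟩

end Groth.Agent.S17587
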