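import Groth.Statements.S17593
-- import your own Groth.Agent.* helpers here
import Groth.Agent.Lib.Helper26AwayQuot
import Groth.Agent.Lib.Helper3FlatOpenFP

set_option autoImplicit false
universe u
open Hensel

namespace Groth.Agent.S17593

open TensorProduct in
/-- The `A`-linear identification of `LocalizedModule T R` with `Localization T`. -/
noncomputable def locEquiv (A : Type u) [CommRing A] (R : Type u) [CommRing R] [Algebra A R]
    (T : Submonoid R) : LocalizedModule T R ≃ₗ[A] Localization T :=
  (IsLocalizedModule.linearEquiv T (LocalizedModule.mkLinearMap T R)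
    (Algebra.linearMap R (Localization T))).restrictScalars A

open TensorProduct in
/-- If `R` is `A`-flat at all primes of the basic open `D(g)`, then `R_g` is `A`-flat. -/
theorem flat_away_of_basicOpen_subset (A : Type u) [CommRing A] (R : Type u) [CommRing R]
    [Algebra A R] (g : R)
    (h : ∀ q : PrimeSpectrum R, q ∈ (PrimeSpectrum.basicOpen g : Set (PrimeSpectrum R)) →
      Module.Flat A (LocalizedModule q.asIdeal.primeCompl R)) :
    Module.Flat A (Localization.Away g) := by
  have key : Module.Flat A (LocalizedModule (Submonoid.powers g) R) := by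
    rw [Groth.Agent.Lib.Helper3.FlatLoc.flat_localizedModule_iff']
    intro I z hz
    have hrad : g ∈ (Ideal.torsionOf R (R ⊗[A] I) z).radical := by
      rw [Ideal.radical_eq_sInf, Ideal.mem_sInf]
      rintro q ⟨hJq, hq⟩
      by_contra hgq
      have hflat := h ⟨q, hq⟩ hgq
      rw [Groth.Agent.Lib.Helper3.FlatLoc.flat_localizedModule_iff'] at hflat
      obtain ⟨s, hs, hsz⟩ := hflat I z hz
      exact hs (hJq ((Ideal.mem_torsionOf_iff _ _).mpr hsz))
    obtain ⟨n, hn⟩ := hrad
    exact ⟨g ^ n, ⟨n, rfl⟩, (Ideal.mem_torsionOf_iff _ _).mp hn⟩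
  exact Module.Flat.of_linearEquiv (locEquiv A R (Submonoid.powers g)).symm

/-- Suppose (A, I) is a Henselian pair, and R is an A-algebra of finite presentation for which A → R is
flat at each prime of R that contains IR. Then there is an étale R-algebra R' such that R/IR →
R'/IR' is bijective and A → R' is flat. -/
theorem result (A : Type u) [CommRing A] (I : Ideal A) [HenselianRing A I]
    (R : Type u) [CommRing R] [Algebra A R] [Algebra.FinitePresentation A R]
    (h : ∀ (p : Ideal R) [p.IsPrime], I.map (algebraMap A R) ≤ p → Module.Flat A (Localization.AtPrime p))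
    : ∃ (R' : Type u) (_ : CommRing R') (_ : Algebra R R') (_ : Algebra A R') (_ : IsScalarTower A R R'),
      Algebra.Etale R R' ∧
      Function.Bijective (Ideal.quotientMap ((I.map (algebraMap A R)).map (algebraMap R R'))
        (algebraMap R R') Ideal.le_comap_map) ∧ Module.Flat A R' := by
  have hopen : IsOpen {q : PrimeSpectrum R |
      Module.Flat A (LocalizedModule q.asIdeal.primeCompl R)} :=
    Groth.Agent.Lib.Helper3.FlatOpen.isOpen_flatLocus_of_finitePresentation (R := A) (S := R) (M := R)
  have hsub : PrimeSpectrum.zeroLocus ((I.map (algebraMap A R) : Ideal R) : Set R) ⊆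
      {q : PrimeSpectrum R | Module.Flat A (LocalizedModule q.asIdeal.primeCompl R)} := by
    intro p hp
    have := h p.asIdeal hp
    exact Module.Flat.of_linearEquiv (locEquiv A R p.asIdeal.primeCompl)
  obtain ⟨g, hg, hgU⟩ := Groth.Agent.Lib.Helper26.AwayQuot.exists_basicOpen_subset
    (I.map (algebraMap A R)) _ hopen hsub
  refine ⟨Localization.Away g, inferInstance, inferInstance, inferInstance, inferInstance,
    inferInstance, ?_, ?_⟩
  · exact Groth.Agent.Lib.Helper26.AwayQuot.quotientMap_away_bijective _ g hg _
  · exact flat_away_of_basicOpen_subset A R g (fun q hq => hgU hq)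

end Groth.Agent.S17593
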