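import Groth.Statements.S17615
-- import your own Groth.Agent.* helpers here
import Groth.Agent.S17592
import Groth.Agent.S17593
import Groth.Agent.R2.H85HensFlat
import Groth.Agent.Lib.Helper26PairHzTransport

set_option autoImplicit false
universe u
open Hensel

namespace Groth.Agent.S17615

/-- Let (A, I) be a Henselian pair and let B be a Henselization of the pair (R₀, IR₀) for a finitely
presented A-algebra R₀ (so A → B is a Henselian finitely presented map of Henselian pairs). If B is
flat over A, then there are a finitely presented A-algebra S that is flat over A and an S-algebra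
structure on B compatible with that of A for which B is a Henselization of the pair (S, IS). -/
theorem result (A : Type u) [CommRing A]
    (I : Ideal A) [HenselianRing A I]
    (R₀ : Type u) [CommRing R₀] [Algebra A R₀] [Algebra.FinitePresentation A R₀]
    (B : Type u) [CommRing B] [Algebra R₀ B] [Algebra A B] [IsScalarTower A R₀ B]
    (hB : Hens2.IsPairHenselization R₀ (I.map (algebraMap A R₀)) B) [Module.Flat A B] :
    ∃ (S : Type u) (_ : CommRing S) (_ : Algebra A S) (_ : Algebra S B) (_ : IsScalarTower A S B),
      Algebra.FinitePresentation A S ∧ Module.Flat A S ∧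
      Hens2.IsPairHenselization S (I.map (algebraMap A S)) B := by
  classical
  have hflat : ∀ (p : Ideal R₀) [p.IsPrime], I.map (algebraMap A R₀) ≤ p →
      Module.Flat A (Localization.AtPrime p) :=
    fun p _ hp => Groth.Agent.R2.H85.HensFlat.flat_atPrime_of_isPairHenselization _ hB p hp
  obtain ⟨R', _, _, _, _, hEt, hbij, hfl⟩ := Groth.Agent.S17593.result A I R₀ hflat
  let H := Groth.Agent.Lib.Helper26.PairHz.Hz R'
    ((I.map (algebraMap A R₀)).map (algebraMap R₀ R'))
  have hH : Hens2.IsPairHenselization R' ((I.map (algebraMap A R₀)).map (algebraMap R₀ R')) H :=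
    Groth.Agent.Lib.Helper26.PairHz.isPairHenselization_Hz
  letI : Algebra R₀ H := ((algebraMap R' H).comp (algebraMap R₀ R')).toAlgebra
  haveI : IsScalarTower R₀ R' H := .of_algebraMap_eq (fun _ => rfl)
  have hH0 : Hens2.IsPairHenselization R₀ (I.map (algebraMap A R₀)) H :=
    Groth.Agent.S17592.result R₀ _ R' hbij H hH
  obtain ⟨e⟩ := Groth.Agent.Lib.Helper26.PairHz.nonempty_algEquiv hH0 hB
  letI : Algebra R' B := ((e : H →+* B).comp (algebraMap R' H)).toAlgebra
  let e' : H ≃ₐ[R'] B := AlgEquiv.ofRingEquiv (f := e.toRingEquiv) (fun _ => rfl)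
  have hB' := Groth.Agent.Lib.Helper26.PairHz.isPairHenselization_of_algEquiv hH e'
  have hJ : (I.map (algebraMap A R₀)).map (algebraMap R₀ R') = I.map (algebraMap A R') := by
    rw [Ideal.map_map, ← IsScalarTower.algebraMap_eq]
  rw [hJ] at hB'
  haveI : IsScalarTower A R' B := by
    refine .of_algebraMap_eq fun a => ?_
    rw [IsScalarTower.algebraMap_apply A R₀ B, ← e.commutes,
      IsScalarTower.algebraMap_apply A R₀ R']
    rfl
  haveI : Algebra.FinitePresentation R₀ R' := inferInstance
  exact ⟨R', inferInstance, inferInstance, inferInstance, inferInstance,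
    Algebra.FinitePresentation.trans A R₀ R', hfl, hB'⟩

end Groth.Agent.S17615
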