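import Groth.Statements.S17643
import Groth.Agent.R2.H69DerSchTor

set_option autoImplicit false
set_option linter.style.haveILetI false
set_option maxHeartbeats 400000
universe u
open CategoryTheory AlgebraicGeometry
attribute [local instance] HasDerivedCategory.standard
open DerSch

namespace Groth.Agent.S17643

/-- Let f : X ⟶ Y be a morphism of finite type between Noetherian schemes which is of finite
Tor-dimension (the structure sheaf of X, placed in degree 0, has finite tor amplitude stalkwise over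
the local rings of Y), U ⊆ X an affine open subset and V ⊆ Y an affine open subset with f(U) ⊆ V.
Then the restriction of f to U factors as U ⟶ W ⟶ Y with U ⟶ W a closed immersion of finite
Tor-dimension and W ⟶ Y smooth. The published section's standing conventions also take all morphisms
separated; the printed argument does not use this, so separatedness is not assumed here. -/
theorem result {X Y : Scheme.{u}}
    [IsNoetherian X] [IsNoetherian Y] (f : X ⟶ Y) [LocallyOfFiniteType f] (hf : DerSch.HasFiniteTorDim f)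
    (U : X.Opens) (hU : IsAffineOpen U) (V : Y.Opens) (hV : IsAffineOpen V) (hUV : U ≤ f ⁻¹ᵁ V) :
    ∃ (W : Scheme.{u}) (g : (U : Scheme.{u}) ⟶ W) (h : W ⟶ Y),
      IsClosedImmersion g ∧ DerSch.HasFiniteTorDim g ∧ Smooth h ∧ g ≫ h = U.ι ≫ f := by
  classical
  obtain ⟨d, hd⟩ := Groth.Agent.R2.H69.DerSchTor.exists_stalkTorLE_of_hasFiniteTorDim f hf
  letI iAB : Algebra Γ(Y, V) Γ(X, U) := (f.appLE V U hUV).hom.toAlgebra
  have hAB : DRing.HasTorDimLE Γ(Y, V) d Γ(X, U) :=
    Groth.Agent.R2.H69.StalkTor.hasTorDimLE_appLE_of_stalks f hU hV hUV d (fun x _ => hd x)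
  have hft : Algebra.FiniteType Γ(Y, V) Γ(X, U) := f.finiteType_appLE hV hU hUV
  obtain ⟨n, φ, hφ⟩ := Algebra.FiniteType.iff_quotient_mvPolynomial''.mp hft
  letI iPB : Algebra (MvPolynomial (Fin n) Γ(Y, V)) Γ(X, U) := φ.toRingHom.toAlgebra
  -- tor dimension over the polynomial ring
  have hPB : DRing.HasTorDimLE (MvPolynomial (Fin n) Γ(Y, V)) (d + n) Γ(X, U) := by
    refine Groth.Agent.R2.H31.PolyTorDim.hasTorDimLE_mvPolynomial n Γ(Y, V)
      (ModuleCat.of (MvPolynomial (Fin n) Γ(Y, V)) Γ(X, U)) d ?_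
    let e : Γ(X, U) ≃ₗ[Γ(Y, V)]
        ((ModuleCat.restrictScalars
          (MvPolynomial.C : Γ(Y, V) →+* MvPolynomial (Fin n) Γ(Y, V))).obj
          (ModuleCat.of (MvPolynomial (Fin n) Γ(Y, V)) Γ(X, U))) :=
      { toFun := fun b => b
        invFun := fun b => b
        left_inv := fun _ => rfl
        right_inv := fun _ => rfl
        map_add' := fun _ _ => rfl
        map_smul' := fun a b => by
          change a • b = (MvPolynomial.C a : MvPolynomial (Fin n) Γ(Y, V)) • (b : Γ(X, U))
          rw [Algebra.smul_def, Algebra.smul_def]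
          congr 1
          exact (φ.commutes a).symm }
    exact Groth.Agent.R2.H69.TorDimLoc.hasTorDimLE_of_linearEquiv e d hAB
  -- the schemes
  let φ' : CommRingCat.of (MvPolynomial (Fin n) Γ(Y, V)) ⟶ Γ(X, U) := CommRingCat.ofHom φ.toRingHom
  let c' : Γ(Y, V) ⟶ CommRingCat.of (MvPolynomial (Fin n) Γ(Y, V)) :=
    CommRingCat.ofHom (algebraMap Γ(Y, V) (MvPolynomial (Fin n) Γ(Y, V)))
  let g : (U : Scheme.{u}) ⟶ Spec (CommRingCat.of (MvPolynomial (Fin n) Γ(Y, V))) :=
    hU.isoSpec.hom ≫ Spec.map φ'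
  let h : Spec (CommRingCat.of (MvPolynomial (Fin n) Γ(Y, V))) ⟶ Y := Spec.map c' ≫ hV.fromSpec
  have hcl : IsClosedImmersion (Spec.map φ') := IsClosedImmersion.spec_of_surjective φ' hφ
  have hsm : Smooth (Spec.map c') :=
    (HasRingHomProperty.Spec_iff (P := @Smooth)).2
      (RingHom.smooth_algebraMap.2 ⟨inferInstance, inferInstance⟩)
  refine ⟨_, g, h, inferInstance, ?_, inferInstance, ?_⟩
  · -- finite tor dimension of `g`
    have hUaff : IsAffine (U : Scheme.{u}) := hU
    refine Groth.Agent.R2.H69.DerSchTor.hasFiniteTorDim_of_stalkTorLE g (d + n) (fun u => ?_)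
    refine Groth.Agent.R2.H69.StalkTor.hasTorDimLE_stalk_of_appLE g (U := ⊤) (V := ⊤)
      (isAffineOpen_top _) (isAffineOpen_top _) le_top u trivial (d + n) ?_
    letI : Algebra Γ(Spec (CommRingCat.of (MvPolynomial (Fin n) Γ(Y, V))), ⊤) Γ((U : Scheme.{u}), ⊤) :=
      (g.appLE ⊤ ⊤ le_top).hom.toAlgebra
    have happ : g.appLE ⊤ ⊤ le_top = g.appTop := by
      simp only [Scheme.Hom.appLE, Scheme.Hom.appTop]
      erw [CategoryTheory.Functor.map_id]
      exact Category.comp_id _
    have hkey : (Scheme.ΓSpecIso (CommRingCat.of (MvPolynomial (Fin n) Γ(Y, V)))).inv ≫ g.appTop =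
        φ' ≫ U.topIso.inv := by
      have hnat := Scheme.ΓSpecIso_naturality φ'
      rw [Scheme.Hom.comp_appTop, hU.isoSpec_hom_appTop,
        ← Category.assoc (Scheme.Hom.appTop (Spec.map φ')), hnat, Category.assoc,
        Iso.inv_hom_id_assoc]
    refine Groth.Agent.R2.H69.DerSchTor.hasTorDimLE_of_ringEquivs
      (Scheme.ΓSpecIso (CommRingCat.of (MvPolynomial (Fin n) Γ(Y, V)))).symm.commRingCatIsoToRingEquiv
      U.topIso.symm.commRingCatIsoToRingEquiv ?_ (d + n) hPB
    intro r
    have := congrArg (fun ψ => ψ.hom r) hkey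
    simp only [CommRingCat.hom_comp, RingHom.comp_apply] at this
    show U.topIso.inv.hom (φ r) = (g.appLE ⊤ ⊤ le_top).hom
      ((Scheme.ΓSpecIso (CommRingCat.of (MvPolynomial (Fin n) Γ(Y, V)))).inv.hom r)
    rw [happ]
    exact this.symm
  · -- commutativity
    have hc : c' ≫ φ' = f.appLE V U hUV := by
      ext a
      exact φ.commutes a
    show (hU.isoSpec.hom ≫ Spec.map φ') ≫ (Spec.map c' ≫ hV.fromSpec) = U.ι ≫ f
    rw [Category.assoc, ← Category.assoc (Spec.map φ'), ← Spec.map_comp, hc,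
      IsAffineOpen.SpecMap_appLE_fromSpec f hV hU hUV, ← Category.assoc]
    congr 1
    rw [← IsAffineOpen.isoSpec_inv_ι, Iso.hom_inv_id_assoc]

end Groth.Agent.S17643
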