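import Groth.Statements.S17649
-- import your own Groth.Agent.* helpers here
import Groth.Agent.S17647
import Groth.Agent.Lib.Helper23QCohAbelian

set_option autoImplicit false
universe u
open CategoryTheory CategoryTheory.Limits AlgebraicGeometry
open QCohCat

namespace Groth.Agent.S17649


open TopologicalSpace Opposite
open Groth.Agent.Lib.Helper23.QCohLocal Groth.Agent.Lib.Helper2.Push Groth.Agent.Lib.Helper2.QCoh
  Groth.Agent.Lib.Helper23.FinType Groth.Agent.Lib.Helper23.ModLocal Groth.Agent.Lib.Helper23.Extend
  Groth.Agent.Lib.Helper23.Support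

attribute [local instance] restrictFunctor_isRightAdjoint

/-- sections of a module whose restriction to `U` vanishes are zero over opens inside `U`. -/
theorem section_eq_zero_of_le {X : Scheme.{u}} (U : X.Opens) (K : X.Modules)
    (hK : IsZero (K.restrict U.ι)) (O : X.Opens) (hO : O ≤ U) (t : Γ(K, O)) : t = 0 := by
  have himg : U.ι ''ᵁ (U.ι ⁻¹ᵁ O) = O := by
    rw [Scheme.Hom.image_preimage_eq_opensRange_inf, Scheme.Opens.opensRange_ι]
    exact inf_eq_right.2 hO
  have h1 : ∀ t : Γ(K, U.ι ''ᵁ (U.ι ⁻¹ᵁ O)), t = 0 := fun t =>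
    eq_zero_of_isZero hK (U.ι ⁻¹ᵁ O) t
  rw [himg] at h1
  exact h1 t

/-- Suppose the scheme X is quasi-compact and quasi-separated, and take two quasi-compact opens U, V ⊆
X. Given a quasi-compact open W, denote by S_W the class of quasi-coherent O_X-modules that restrict
to zero on W. Then S_{U ∩ V} is the smallest localizing subcategory of Qcoh(X) that contains both
S_U and S_V; concretely (this is the inclusion that is not formal): any quasi-coherent O_X-module F
satisfying F|_{U ∩ V} = 0 arises as an extension of a quasi-coherent module that is zero on V by a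
quasi-coherent submodule that is zero on U — one can find a monomorphism A ⟶ F where A is
quasi-coherent, A|_U = 0 and (F/A)|_V = 0. -/
theorem result {X : Scheme.{u}}
    [CompactSpace X] [QuasiSeparatedSpace X] (U V : X.Opens) [QuasiCompact U.ι] [QuasiCompact V.ι]
    (F : X.Modules) (hF : Coh.IsQCoh F) (h : IsZero ((Scheme.Modules.restrictFunctor (U ⊓ V).ι).obj F)) :
    ∃ (A : X.Modules) (i : A ⟶ F), Mono i ∧ Coh.IsQCoh A ∧
      IsZero ((Scheme.Modules.restrictFunctor U.ι).obj A) ∧
      IsZero ((Scheme.Modules.restrictFunctor V.ι).obj (cokernel i)) := by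
  classical
  haveI : F.IsQuasicoherent := hF
  let L := Scheme.Modules.restrictFunctor U.ι
  let R := Scheme.Modules.pushforward U.ι
  let adj : L ⊣ R := Scheme.Modules.restrictAdjunction U.ι
  let η : F ⟶ R.obj (L.obj F) := adj.unit.app F
  haveI : (L.obj F).IsQuasicoherent :=
    Scheme.Modules.isQuasicoherent_restrictFunctor U.ι F
  haveI : (R.obj (L.obj F)).IsQuasicoherent := isQuasicoherent_pushforward U.ι (L.obj F)
  refine ⟨kernel η, kernel.ι η, inferInstance, isQuasicoherent_kernel η, ?_, ?_⟩
  · -- the restriction to `U` of the unit is a split monomorphism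
    have hsplit : L.map η ≫ adj.counit.app (L.obj F) = 𝟙 _ := adj.left_triangle_components F
    haveI : Mono (L.map η) := mono_of_mono_fac hsplit
    exact (isZero_kernel_of_mono (L.map η)).of_iso (PreservesKernel.iso L η)
  · let LV := Scheme.Modules.restrictFunctor V.ι
    -- `(j_* j^* F)|_V = 0`
    have hQ : IsZero (LV.obj (R.obj (L.obj F))) := by
      refine isZero_of_forall_eq_zero (fun W s => ?_)
      exact section_eq_zero_of_le (U ⊓ V) F h (U.ι ''ᵁ (U.ι ⁻¹ᵁ (V.ι ''ᵁ W))) (by
        rw [Scheme.Hom.image_preimage_eq_opensRange_inf, Scheme.Opens.opensRange_ι]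
        refine inf_le_inf le_rfl ?_
        have := Scheme.Hom.image_le_opensRange V.ι W
        rwa [Scheme.Opens.opensRange_ι] at this) s
    haveI : Mono (LV.map (Abelian.factorThruCoimage η)) := inferInstance
    exact IsZero.of_mono (LV.map (Abelian.factorThruCoimage η)) hQ

end Groth.Agent.S17649
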