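import Groth.Statements.S17650
import Groth.Agent.R2.H85FreeVanish

set_option autoImplicit false
universe u
open CategoryTheory CategoryTheory.Limits AlgebraicGeometry TopologicalSpace
open Curves

namespace Groth.Agent.S17650

/-- Let k be an algebraically closed field and B a connected scheme, proper over k, of dimension one,
with at-worst-nodal singularities and with H^1(B, O_B) = 0 (a connected proper prestable curve of
arithmetic genus zero). If E is a finite locally free O_B-module generated by its global sections,
then H^1(B, E) = 0. (The source works over the complex numbers; the statement and its proof are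
unchanged over any algebraically closed field.) -/
theorem result (k : Type u) [Field k] [IsAlgClosed k]
    (B : Scheme.{u}) [B.Over (Spec (CommRingCat.of k))] [IsProper (B ↘ Spec (CommRingCat.of k))]
    [ConnectedSpace ↥B] (hdim : topologicalKrullDim ↥B = 1) (hnod : Curv2.AtWorstNodal k B)
    (hg : Subsingleton (Coh.HH B (Coh.structureModule B) 1))
    (E : B.Modules) (hE : FlatMod.IsFinLocFree E) (hgg : Curv2.IsGloballyGenerated E) :
    Subsingleton (Coh.HH B E 1) := by
  obtain ⟨ι, q, hq⟩ := hgg
  haveI : IsLocallyNoetherian B :=
    LocallyOfFiniteType.isLocallyNoetherian (B ↘ Spec (CommRingCat.of k))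
  haveI : CompactSpace B :=
    QuasiCompact.compactSpace_of_compactSpace (B ↘ Spec (CommRingCat.of k))
  haveI : IsNoetherian B := {}
  exact @Groth.Agent.R2.H85.FreeVanish.subsingleton_HH_of_epi B _ 1 (le_of_eq hdim) _ _ q hq
    (Groth.Agent.R2.H85.FreeVanish.subsingleton_HH_free ι 1 hg)

end Groth.Agent.S17650
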