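import Groth.Statements.S17659
import Groth.Agent.R2.H62DegSum

set_option autoImplicit false
universe u
open CategoryTheory CategoryTheory.Limits AlgebraicGeometry
open CIDisc

namespace Groth.Agent.S17659

open Groth.Agent.R2.H62.Snapper in
/-- the degree of the restriction only depends on the ideal sheaf -/
theorem deg_congr_ideal (k : Type u) [Field k] (X : Scheme.{u}) [X.Over (Spec (CommRingCat.of k))]
    (n : ℕ) (E : X.Modules) (J J' : X.IdealSheafData) (h : J = J') :
    @Curv2.deg k _ J.subscheme ⟨J.subschemeι ≫ (X ↘ (Spec (CommRingCat.of k)))⟩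
        ((Scheme.Modules.pullback J.subschemeι).obj E) n =
      @Curv2.deg k _ J'.subscheme ⟨J'.subschemeι ≫ (X ↘ (Spec (CommRingCat.of k)))⟩
        ((Scheme.Modules.pullback J'.subschemeι).obj E) n := by
  subst h
  rfl

/-- Let X be a proper scheme over a field k all of whose irreducible components have dimension one, E a
finite locally free O_X-module of constant rank n and F a coherent O_X-module. Then χ(X, E ⊗ F) =
Σ_Z r_Z(F) · deg(E|_{Z_red}) + n · χ(X, F), the sum running over the irreducible components Z of X,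
where r_Z(F) is the length of the stalk of F at the generic point ξ_Z of Z as a module over
O_{X,ξ_Z}, and Z_red is Z with its reduced induced structure (the closed subscheme cut out by the
radical of the ideal of the component). The Noetherian hypothesis on X is a consequence of
properness over k and is stated for convenience. -/
theorem result (k : Type u) [Field k] (X : Scheme.{u}) [X.Over (Spec (CommRingCat.of k))]
    [IsProper (X ↘ (Spec (CommRingCat.of k)))] [IsNoetherian X]
    (hdim : ∀ Z ∈ irreducibleComponents (X : Type u), topologicalKrullDim Z = 1)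
    (n : ℕ) (E : X.Modules) (hE : FlatMod.IsFinLocFreeOfRank n E) (F : X.Modules) (hF : Coh.IsCoh F) :
    Curv2.euler k X (CohB1.tensorMod E F) =
      (∑ᶠ Z : irreducibleComponents (X : Type u),
        ((Module.length (X.presheaf.stalk Z.2.1.genericPoint) (F.presheaf.stalk Z.2.1.genericPoint)).toNat : ℤ) *
          @Curv2.deg k _ (X.irreducibleComponentIdeal Z.1 Z.2).radical.subscheme
            ⟨(X.irreducibleComponentIdeal Z.1 Z.2).radical.subschemeι ≫ (X ↘ (Spec (CommRingCat.of k)))⟩
            ((Scheme.Modules.pullback (X.irreducibleComponentIdeal Z.1 Z.2).radical.subschemeι).obj E) n) +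
        (n : ℤ) * Curv2.euler k X F := by
  classical
  have hdim1 : topologicalKrullDim X ≤ 1 :=
    Groth.Agent.Lib.Helper4.IsolFib.topologicalKrullDim_le_of_forall_irreducibleComponents 1
      (fun C hC => (hdim C hC).le)
  have hdim' : topologicalKrullDim X ≤ ((1 : ℕ) : WithBot ℕ∞) := by
    rw [Nat.cast_one]; exact hdim1
  obtain ⟨T, hT, hlam⟩ := Groth.Agent.R2.H62.Snapper.lamE_eq_sum_components k hdim1 n E hE F hF
  have hE' : Curv2.euler k X (CohB1.tensorMod E F) =
      Groth.Agent.R2.H62.Snapper.lamE k n E F + (n : ℤ) * Curv2.euler k X F := by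
    unfold Groth.Agent.R2.H62.Snapper.lamE
    ring
  rw [hE', hlam]
  congr 1
  have hbij := Groth.Agent.R2.H62.Snapper.bijOn_compPt (X := X) 1 hdim'
  have h1 : ∀ h : X → ℤ, ∑ ξ ∈ T, h ξ = ∑ᶠ ξ ∈ {ξ : X | Groth.Agent.R2.H62.Snapper.IsDPt 1 ξ}, h ξ := by
    intro h
    rw [← finsum_mem_coe_finset]
    congr 1
    ext ξ
    have : {ξ : X | Groth.Agent.R2.H62.Snapper.IsDPt 1 ξ} = ↑T := by
      ext η
      rw [Finset.mem_coe, hT]
      rfl
    rw [this]
  rw [h1, ← finsum_mem_eq_of_bijOn Groth.Agent.R2.H62.Snapper.compPt hbij (fun Z _ => rfl),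
    finsum_mem_def]
  refine finsum_congr fun Z => ?_
  rw [Set.indicator_apply]
  have hZ' : Z ∈ {Z : irreducibleComponents (X : Type u) |
      topologicalKrullDim ↥(Z.1 : Set X) = ((1 : ℕ) : WithBot ℕ∞)} := by
    change topologicalKrullDim ↥(Z.1 : Set X) = ((1 : ℕ) : WithBot ℕ∞)
    rw [Nat.cast_one]; exact hdim Z.1 Z.2
  rw [if_pos hZ']
  congr 1
  exact (deg_congr_ideal k X n E _ _
    (Groth.Agent.R2.H62.Snapper.radical_irreducibleComponentIdeal Z)).symm

end Groth.Agent.S17659
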