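import Groth.Statements.S17688
import Groth.Agent.R2.H84GenFib

set_option autoImplicit false
universe u
open CategoryTheory CategoryTheory.Limits AlgebraicGeometry MonObj
open Neron

namespace Groth.Agent.S17688

/-- Let R be a discrete valuation ring whose fraction field K has characteristic p > 0, and let U be a
flat, separated, commutative group scheme over Spec R whose generic fibre U_K is annihilated by a
power p^N of p (in the group of endomorphisms of U_K as a K-scheme, the p^N-th power of the identity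
is the unit). Then for every prime ℓ invertible in R the ℓ-th power map of U (the ℓ-th power of the
identity in the group of R-morphisms U → U) is an isomorphism. -/
theorem result
    (R : Type u) [CommRing R] [IsDomain R] [IsDiscreteValuationRing R]
    (p : ℕ) (hp : p.Prime) [CharP (FractionRing R) p]
    (U : Over (Spec (CommRingCat.of R))) [GrpObj U] [IsCommMonObj U] [Flat U.hom] [IsSeparated U.hom]
    (N : ℕ) (hN : (𝟙 (Red.bc (Neron.genPt R) U) : Red.bc (Neron.genPt R) U ⟶ Red.bc (Neron.genPt R) U) ^ (p ^ N) = 1)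
    (ℓ : ℕ) (hℓ : ℓ.Prime) (hℓu : IsUnit (ℓ : R)) :
    IsIso ((𝟙 U : U ⟶ U) ^ ℓ) := by
  have hA : (𝟙 U : U ⟶ U) ^ (p ^ N) = 1 := by
    apply Groth.Agent.R2.H84.GenFib.genericFibre_map_injective R
    have h1 : (Over.pullback (Neron.genPt R)).map ((𝟙 U : U ⟶ U) ^ (p ^ N)) =
        ((Over.pullback (Neron.genPt R)).map (𝟙 U)) ^ (p ^ N) :=
      map_pow ((Over.pullback (Neron.genPt R)).homMonoidHom (X := U) (M := U)) _ _
    rw [h1, CategoryTheory.Functor.map_id, Functor.map_one]
    exact hN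
  have hℓp : ℓ ≠ p := by
    rintro rfl
    have h0 : ((ℓ : ℕ) : FractionRing R) = 0 := CharP.cast_eq_zero _ _
    have h1 : ((ℓ : ℕ) : R) = 0 := by
      apply IsFractionRing.injective R (FractionRing R)
      rw [map_natCast, h0, map_zero]
    rw [h1] at hℓu
    exact not_isUnit_zero hℓu
  have hcop : Nat.Coprime ℓ (p ^ N) := Nat.Coprime.pow_right N ((Nat.coprime_primes hℓ hp).2 hℓp)
  obtain ⟨a, b, hab⟩ : ∃ a b : ℕ, ℓ * a = 1 + p ^ N * b := by
    rcases Nat.lt_or_ge 1 (p ^ N) with h1 | h1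
    · obtain ⟨m, -, hm⟩ := Nat.exists_mul_mod_eq_one_of_coprime hcop h1
      refine ⟨m, ℓ * m / p ^ N, ?_⟩
      have := Nat.div_add_mod (ℓ * m) (p ^ N)
      omega
    · have h2 : p ^ N = 1 := le_antisymm h1 (Nat.one_le_pow _ _ hp.pos)
      refine ⟨1, ℓ - 1, ?_⟩
      have := hℓ.two_le
      rw [h2]; omega
  have hpow : (𝟙 U : U ⟶ U) ^ (ℓ * a) = 𝟙 U := by
    rw [hab, pow_add, pow_one, pow_mul, hA, one_pow, _root_.mul_one]
  refine ⟨⟨(𝟙 U : U ⟶ U) ^ a, ?_, ?_⟩⟩
  · rw [MonObj.comp_pow, Category.comp_id, ← pow_mul, hpow]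
  · rw [MonObj.comp_pow, Category.comp_id, ← pow_mul, mul_comm, hpow]

end Groth.Agent.S17688
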