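import Mathlib
import Groth.Statements.S17730
import Groth.Agent.R2.H45SmSh

set_option autoImplicit false
set_option linter.style.haveILetI false
universe u
open Hensel

namespace Groth.Agent.S17730

open IsLocalRing in
/-- Let R be a Noetherian local ring which is strictly henselian (henselian with separably closed
residue field), Δ a prime element of R, R' a smooth R-algebra, q a prime ideal of R' containing the
image of the maximal ideal of R, and T a strict henselization of the localization R'_q. Then the
image of Δ in T is a prime element of T. (This is the published statement, that a prime element of
the étale local ring of the base at a geometric point remains prime in the étale local ring of a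
smooth scheme over it at a geometric point above, written for the base the spectrum of R; the
published hypothesis that the base be smooth-factorial, meaning that all its smooth schemes are
locally factorial, is not used by the argument and is omitted; R is taken Noetherian, which the
published statement does not state and the argument requires.) -/
theorem result
    (R R' T : Type u) [CommRing R] [IsNoetherianRing R] [HenselianLocalRing R]
    [IsSepClosed (ResidueField R)]
    [CommRing R'] [Algebra R R'] [Algebra.Smooth R R']
    (q : Ideal R') [q.IsPrime] (hq : (maximalIdeal R).map (algebraMap R R') ≤ q)
    [CommRing T] [IsLocalRing T] [Algebra (Localization.AtPrime q) T]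
    [IsLocalHom (algebraMap (Localization.AtPrime q) T)]
    [Hensel.IsStrictHenselization (Localization.AtPrime q) T]
    (Δ : R) (hΔ : Prime Δ) :
    Prime (algebraMap (Localization.AtPrime q) T
      (algebraMap R' (Localization.AtPrime q) (algebraMap R R' Δ))) := by
  have hqc : q.comap (algebraMap R R') = maximalIdeal R :=
    ((maximalIdeal.isMaximal R).eq_of_le
      (Ideal.IsPrime.ne_top (Ideal.comap_isPrime _ _)) (Ideal.map_le_iff_le_comap.mp hq)).symm
  haveI hI : (Ideal.span ({Δ} : Set R)).IsPrime := (Ideal.span_singleton_prime hΔ.ne_zero).mpr hΔ
  have hP := Groth.Agent.R2.H45.SmSh.isPrime_map_sh_of_smooth R (Ideal.span ({Δ} : Set R)) R' q hqc T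
  rw [Ideal.map_span, Ideal.map_span, Ideal.map_span, Set.image_singleton, Set.image_singleton,
    Set.image_singleton] at hP
  have hinj := Groth.Agent.R2.H45.SmSh.algebraMap_sh_injective R R' q hqc T
  have hne : algebraMap (Localization.AtPrime q) T
      (algebraMap R' (Localization.AtPrime q) (algebraMap R R' Δ)) ≠ 0 := by
    intro h0
    exact hΔ.ne_zero (hinj (h0.trans (map_zero _).symm))
  exact (Ideal.span_singleton_prime hne).mp hP

end Groth.Agent.S17730
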