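import Groth.Statements.S17769
import Groth.Agent.R2.H72GrAInv

set_option autoImplicit false
universe u
open GrLC

namespace Groth.Agent.S17769

/-- Let R = ⊕_{n ≥ 0} R_n be a Noetherian positively ℤ-graded ring which is standard graded (its
irrelevant ideal is generated by R_1), *local with unique homogeneous maximal ideal m,
Cohen–Macaulay, and of Krull dimension d + 1. Let x be a homogeneous element of degree k lying in m
which is a non-zerodivisor on R, and let N be R ⧸ xR as a graded R-module, presented by a surjective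
degree-preserving R-linear map π : R → N with kernel xR. Writing a(·) for the largest degree in
which the top graded local cohomology with support in m is nonzero (computed from *injective
resolutions I of R and F of N), one has a(R ⧸ xR) = a(R) + k, that is, the end of H^d_m(N) equals
the end of H^{d+1}_m(R) plus k. (The published statement does not require x to lie in m; for a
homogeneous unit x of degree 0 one has R ⧸ xR = 0, whose local cohomology vanishes, and the formula
fails. The proof uses that H^d_m(R ⧸ xR) is the top local cohomology, i.e. that x is not a unit, so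
x is taken in m here; for a standard graded ring this excludes only the units of degree 0.) -/
theorem result (R : Type u) [CommRing R] [LocCoh.IsCohenMacaulayRing R] (𝒜 : ℤ → AddSubgroup R) [GradedRing 𝒜] (hpos : ∀ n : ℤ, n < 0 → 𝒜 n = ⊥) (hstd : Ideal.span (⋃ n ∈ Set.Ioi (0 : ℤ), (𝒜 n : Set R)) = Ideal.span ((𝒜 1 : AddSubgroup R) : Set R)) (m : HomogeneousIdeal 𝒜) (hm : GrLC.IsStarLocal 𝒜 m) (d : ℕ) (hd : ringKrullDim R = (d + 1 : ℕ)) (I : GrLC.StarInjRes 𝒜 𝒜) (x : R) (k : ℤ) (hxk : x ∈ 𝒜 k) (hxm : x ∈ m.toIdeal) (hx : IsSMulRegular R x) (N : Type u) [AddCommGroup N] [Module R N] (𝒩 : ℤ → AddSubgroup N) [DirectSum.Decomposition 𝒩] [SetLike.GradedSMul 𝒜 𝒩] (π : R →ₗ[R] N) (hπ : GrLC.IsGrHom 𝒜 𝒩 π) (hπs : Function.Surjective π) (hπk : LinearMap.ker π = Ideal.span {x}) (F : GrLC.StarInjRes 𝒜 𝒩) : GrLC.endDeg (F.Hgr m d) = GrLC.endDeg (I.Hgr m (d + 1)) + ((k : WithTop ℤ) : WithBot (WithTop ℤ)) := by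
  classical
  have hfin : Module.Finite R (GrLC.GMod.of 𝒜 R 𝒜).carrier := inferInstanceAs (Module.Finite R R)
  have hle := Groth.Agent.R2.H72.GrBddLocal.irrH_le_of_isStarLocal hpos m hm
  have hbdd : Groth.Agent.R2.H72.GrBdd.Bdd m (GrLC.GMod.of 𝒜 R 𝒜) :=
    Groth.Agent.R2.H72.GrBddLocal.bdd_of_finite' (a := m) hpos hle (GrLC.GMod.of 𝒜 R 𝒜)
  have hδ : x = 0 ∨ 0 ≤ k := by
    by_cases h : 0 ≤ k
    · exact Or.inr h
    · left
      push Not at h
      exact Groth.Agent.Lib.Helper29GrStd.eq_zero_of_mem_of_eq_bot (hpos k h) hxk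
  have hker : ∀ r : R, π r = 0 ↔ ∃ r', x • r' = r := by
    intro r
    rw [← LinearMap.mem_ker, hπk, Ideal.mem_span_singleton']
    constructor
    · rintro ⟨r', rfl⟩
      exact ⟨r', by rw [smul_eq_mul, mul_comm]⟩
    · rintro ⟨r', rfl⟩
      exact ⟨r', by rw [smul_eq_mul, mul_comm]⟩
  have hreg : ∀ r : R, x • r = 0 → r = 0 := by
    intro r hr
    apply hx
    change x • r = x • 0
    rw [hr, smul_zero]
  have hvan : ∀ e, Groth.Agent.R2.H72.GrMod.Van m (GrLC.GMod.of 𝒜 R 𝒜) d e := fun e =>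
    Groth.Agent.R2.H72.GrAInv.van_self_of_lt_dim hpos m hm (d + 1) hd d (Nat.lt_succ_self d) e
  exact Groth.Agent.R2.H72.GrAInv.endDeg_quot_reg (a := m) (X := GrLC.GMod.of 𝒜 R 𝒜)
    (N := GrLC.GMod.of 𝒜 N 𝒩) hbdd hxk hxm hδ π hπs hπ hker hreg d hvan I F

end Groth.Agent.S17769
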