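import Groth.Statements.S17785
import Groth.Agent.R2.H86TwistedDiag

set_option autoImplicit false
universe u
open Variety

namespace Groth.Agent.S17785

/-- Let R be a discrete valuation ring with fraction field K and uniformizer π, and let d, N ≥ 1.
Consider the hypersurface X in projective N-space over K defined by x_0^d = π x_1^d + π^2 x_2^d + ⋯
+ π^N x_N^d. Its index over K — the greatest common divisor of the degrees of its closed points,
equivalently of the degrees [L : K] of the finite field extensions L over which the equation has a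
non-zero solution — equals I(d, N), the greatest common divisor of the quotients d/δ over the
divisors δ of d with 1 ≤ δ ≤ N. Stated as an equality of subgroups of ℤ: the subgroup generated by
those degrees [L : K] is the subgroup generated by I(d, N). -/
theorem result (R : Type u) [CommRing R] [IsDomain R]
    [IsDiscreteValuationRing R] (K : Type u) [Field K] [Algebra R K] [IsFractionRing R K]
    (ϖ : R) (hϖ : Irreducible ϖ) (d N : ℕ) (hd : 1 ≤ d) (hN : 1 ≤ N) :
    AddSubgroup.closure {m : ℤ | ∃ (L : Type u) (_ : Field L) (_ : Algebra K L),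
        FiniteDimensional K L ∧ m = (Module.finrank K L : ℤ) ∧
        ∃ x : Fin (N + 1) → L, x ≠ 0 ∧
          x 0 ^ d = ∑ i : Fin N, algebraMap K L (algebraMap R K (ϖ ^ ((i : ℕ) + 1))) * x i.succ ^ d} =
      AddSubgroup.zmultiples ((((Finset.Icc 1 N).filter (fun δ => δ ∣ d)).gcd (fun δ => d / δ) : ℕ) : ℤ) := by
  classical
  have hI : ((((Finset.Icc 1 N).filter (fun δ => δ ∣ d)).gcd (fun δ => d / δ) : ℕ)) =
      Groth.Agent.R2.H86.TwistedDiag.Iidx d N := rfl
  rw [hI]
  apply le_antisymm
  · rw [AddSubgroup.closure_le]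
    rintro m ⟨L, instF, instA, hfin, rfl, x, hx, heq⟩
    rw [SetLike.mem_coe, Int.mem_zmultiples_iff, Int.natCast_dvd_natCast]
    exact Groth.Agent.R2.H86.TwistedDiag.Iidx_dvd_finrank_of_solution ϖ hϖ d N hd x hx heq
  · rw [AddSubgroup.zmultiples_le]
    set H := AddSubgroup.closure {m : ℤ | ∃ (L : Type u) (_ : Field L) (_ : Algebra K L),
        FiniteDimensional K L ∧ m = (Module.finrank K L : ℤ) ∧
        ∃ x : Fin (N + 1) → L, x ≠ 0 ∧
          x 0 ^ d = ∑ i : Fin N, algebraMap K L (algebraMap R K (ϖ ^ ((i : ℕ) + 1))) * x i.succ ^ d}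
      with hH
    obtain ⟨g, hg⟩ := Int.subgroup_cyclic H
    rw [← AddSubgroup.zmultiples_eq_closure] at hg
    have hmem : ∀ δ ∈ (Finset.Icc 1 N).filter (fun δ => δ ∣ d), ((d / δ : ℕ) : ℤ) ∈ H := by
      intro δ hδ
      simp only [Finset.mem_filter, Finset.mem_Icc] at hδ
      obtain ⟨f, hf, hrank, hfin, x, hx, heq⟩ :=
        Groth.Agent.R2.H86.TwistedDiag.exists_extension_of_degree (K := K) ϖ hϖ d N δ hd
          hδ.1.1 hδ.1.2 hδ.2
      apply AddSubgroup.subset_closure
      exact ⟨AdjoinRoot f, inferInstance, inferInstance, hfin, by rw [hrank], x, hx, heq⟩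
    have hdvd : g.natAbs ∣ Groth.Agent.R2.H86.TwistedDiag.Iidx d N := by
      apply Finset.dvd_gcd
      intro δ hδ
      have := hmem δ hδ
      rw [hg, Int.mem_zmultiples_iff] at this
      exact Int.natAbs_dvd_natAbs.mpr this
    rw [hg, Int.mem_zmultiples_iff]
    exact Int.natAbs_dvd.mp (Int.natCast_dvd_natCast.mpr hdvd)

end Groth.Agent.S17785
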