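import Groth.Statements.S17853
import Groth.Agent.R2.H18HorrocksD

set_option autoImplicit false
open Polynomial LaurentPolynomial TensorProduct
universe u
open CAlg

namespace Groth.Agent.S17853

/-- For an arbitrary commutative ring A, a finitely generated projective A[t]-module M is extended from
A (isomorphic to A[t] ⊗_A P for an A-module P) if and only if it extends to a vector bundle on the
projective line over A. The latter is stated by gluing: there are a finitely generated projective
module N over the polynomial ring of the chart at infinity and an isomorphism over the Laurent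
polynomial ring between the localisation of M and the base change of N along s ↦ t⁻¹, written as a
bijective additive map A[t,t⁻¹] ⊗ M → A[t,t⁻¹] ⊗ N that is semilinear with respect to the A-algebra
involution t ↦ t⁻¹ of A[t,t⁻¹]. (The published statement adds: for A semilocal, M is then free on
each connected component of the affine line.) -/
theorem result
    (A : Type u) [CommRing A] (M : Type u) [AddCommGroup M] [Module A[X] M]
    [Module.Finite A[X] M] [Module.Projective A[X] M] :
    (∃ (P : Type u) (_ : AddCommGroup P) (_ : Module A P), Nonempty (M ≃ₗ[A[X]] (A[X] ⊗[A] P))) ↔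
      ∃ (N : Type u) (_ : AddCommGroup N) (_ : Module A[X] N),
        Module.Finite A[X] N ∧ Module.Projective A[X] N ∧
        ∃ e : (A[T;T⁻¹] ⊗[A[X]] M) →ₛₗ[(LaurentPolynomial.invert (R := A)).toRingEquiv.toRingHom]
            (A[T;T⁻¹] ⊗[A[X]] N), Function.Bijective e := by
  open Groth.Agent.R2.H18.Horrocks in
  constructor
  · rintro ⟨P, _, _, ⟨θ⟩⟩
    refine ⟨M, inferInstance, inferInstance, inferInstance, inferInstance, ?_⟩
    set θL := θ.toLinearMap.baseChange A[T;T⁻¹] with hθL
    set θL' := θ.symm.toLinearMap.baseChange A[T;T⁻¹] with hθL'
    have h1 : ∀ x, θL' (θL x) = x := by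
      intro x
      have : θL' ∘ₗ θL = LinearMap.id := by
        rw [hθL, hθL', ← LinearMap.baseChange_comp, LinearEquiv.symm_comp, LinearMap.baseChange_id]
      exact congrArg (fun h => h x) this
    have h2 : ∀ y, θL (θL' y) = y := by
      intro y
      have : θL ∘ₗ θL' = LinearMap.id := by
        rw [hθL, hθL', ← LinearMap.baseChange_comp, LinearEquiv.comp_symm, LinearMap.baseChange_id]
      exact congrArg (fun h => h y) this
    refine ⟨{ toFun := fun x => θL' (twist' P (θL x))
              map_add' := fun x y => by rw [map_add, twist'_add, map_add]
              map_smul' := fun a x => by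
                rw [map_smul, twist'_smul, map_smul]
                rfl }, ?_⟩
    refine Function.Involutive.bijective (fun x => ?_)
    change θL' (twist' P (θL (θL' (twist' P (θL x))))) = x
    rw [h2, twist'_twist', h1]
  · rintro ⟨N, _, _, _, _, e, he⟩
    exact extended_of_extends_to_projectiveLine e he

end Groth.Agent.S17853
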