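import Groth.Statements.S17873
import Groth.Agent.R2.H86RegPrefix

set_option autoImplicit false
universe u
open GRRSing

namespace Groth.Agent.S17873

/-- Let T be a Cohen–Macaulay Noetherian local ring, J a proper ideal of T, j the grade of J (the
J-depth of T, i.e. the supremum of the lengths of T-regular sequences inside J; a natural number
here) and c the minimal number of generators of J (equal to the dimension of J/𝔪J over the residue
field). Then j ≤ c and there is a generating sequence t_1, …, t_c of J such that t_1, …, t_j is a
T-regular sequence. (The published statement does not exclude J = T; there c = 1 while the grade,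
read as the depth of T, can exceed 1, so this row assumes J proper.) -/
theorem result {T : Type u} [CommRing T] [LocCoh.IsCohenMacaulayLocalRing T]
    (J : Ideal T) (hJ : J ≠ ⊤) (j : ℕ) (hj : LocCoh.idealDepth J T = j) :
    j ≤ Submodule.spanFinrank J ∧
      ∃ ts : List T, ts.length = Submodule.spanFinrank J ∧ Ideal.ofList ts = J ∧
        RingTheory.Sequence.IsRegular T (ts.take j) := by
  classical
  have hfg : (J : Submodule T T).FG := IsNoetherian.noetherian J
  obtain ⟨s, hcard, hspan⟩ := Submodule.FG.exists_span_finset_card_eq_spanFinrank hfg
  have hss : Ideal.ofList s.toList = J := by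
    rw [← hspan]
    unfold Ideal.ofList
    congr 1
    ext x
    simp
  obtain ⟨h1, ts, h2, h3, h4⟩ :=
    Groth.Agent.R2.H86.RegPrefix.exists_gens_regular_prefix J hJ j hj s.toList hss
  rw [Finset.length_toList, hcard] at h1 h2
  exact ⟨h1, ts, h2, h3, h4⟩

end Groth.Agent.S17873
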