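import Groth.Statements.S17876
import Groth.Agent.R2.H54K0Rank

set_option autoImplicit false
universe u
open CategoryTheory CategoryTheory.Limits AlgebraicGeometry
attribute [local instance] HasDerivedCategory.standard
open GRRSing

namespace Groth.Agent.S17876

open KZero Groth.Agent.R2.H54.K0Rank Groth.Agent.R2.H54.K0Filt Groth.Agent.R2.H54.K0Loc
  Groth.Agent.R2.H54.K0Tens Groth.Agent.R2.H5.CohThick Groth.Agent.R2.H12.Dev Groth.Agent.R2.H54.K0Dev
  Groth.Agent.Lib.Helper17.K0a TopologicalSpace

theorem tensorBi_obj_obj {W : Scheme.{u}} (V M : W.Modules) :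
    ((DCoh.tensorBi (X := W)).obj V).obj M = CohB1.tensorMod V M := rfl

/-- classes supported on the empty set vanish -/
theorem eq_zero_of_mem_KT_empty {W : Scheme.{u}} [IsNoetherian W] {y : K0sub (cohP W)}
    (hy : y ∈ KT (∅ : Set W)) : y = 0 := by
  have hle : KT (∅ : Set W) ≤ ⊥ := by
    unfold KT
    rw [AddSubgroup.closure_le]
    rintro _ ⟨G, hG, hs, rfl⟩
    have hv : VanOn G ⊤ := vanOn_of_support_disjoint G ⊤ fun x _ hx => hs hx
    rw [SetLike.mem_coe, AddSubgroup.mem_bot]
    exact clSub_of_isZero (cohP W) (isZero_of_vanOn_top hv)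
  exact (AddSubgroup.mem_bot).1 (hle hy)

/-- every class is supported on the whole space -/
theorem mem_KT_univ {W : Scheme.{u}} [IsNoetherian W] (y : K0sub (cohP W)) : y ∈ KT (Set.univ : Set W) :=
  K0sub_induction (cohP W) (KT Set.univ) (fun _ hG => clSub_mem_KT hG (Set.subset_univ _)) y

/-- Let W be a Noetherian scheme and V a finite locally free O_W-module of constant rank r. Tensoring
with V is exact and preserves coherence (carried here as hypotheses), so it induces an endomorphism
[V] ⊗ (−) of K_0(Coh W), the Grothendieck group of coherent O_W-modules. Then [V] ⊗ (−) − r · id is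
a nilpotent endomorphism of K_0(Coh W): some iterate of it vanishes identically. (Equivalently:
rk(V) − V is nilpotent in the quotient of K^0(W) by the annihilator of K_0(W).) -/
theorem result {W : Scheme.{u}} [IsNoetherian W] (r : ℕ) (V : W.Modules)
    (hV : FlatMod.IsFinLocFreeOfRank r V)
    [((DCoh.tensorBi (X := W)).obj V).Additive] [PreservesFiniteLimits ((DCoh.tensorBi (X := W)).obj V)]
    [PreservesFiniteColimits ((DCoh.tensorBi (X := W)).obj V)]
    (hVc : ∀ M : W.Modules, Coh.IsCoh M → Coh.IsCoh (((DCoh.tensorBi (X := W)).obj V).obj M)) :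
    ∃ n : ℕ, ∀ y : SGA6.Kcoh W,
      (⇑(SGA6.mapSub ((DCoh.tensorBi (X := W)).obj V) (fun M : W.Modules => Coh.IsCoh M) (fun M : W.Modules => Coh.IsCoh M) hVc -
        r • AddMonoidHom.id (SGA6.Kcoh W)))^[n] y = 0 := by
  obtain ⟨Φ, hΦ⟩ : ∃ Φ : K0sub (cohP W) →+ K0sub (cohP W), Φ =
      SGA6.mapSub ((DCoh.tensorBi (X := W)).obj V) (cohP W) (cohP W) hVc -
        r • AddMonoidHom.id (K0sub (cohP W)) := ⟨_, rfl⟩
  -- one step: `Φ` moves the support off any open where `V` is free
  have step : ∀ (C : Set W) (hC : IsClosed C) (D : W.Opens)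
      (ε : V.restrict D.ι ≅ FlatMod.freeMod (↑D : Scheme.{u}) r) (y : K0sub (cohP W)),
      y ∈ KT C → Φ y ∈ KT (C \ (D : Set W)) := by
    intro C hC D ε y hy
    have hle : KT C ≤ (KT (C \ (D : Set W))).comap Φ := by
      unfold KT
      rw [AddSubgroup.closure_le]
      rintro _ ⟨G, hG, hs, rfl⟩
      rw [SetLike.mem_coe, AddSubgroup.mem_comap, hΦ, AddMonoidHom.sub_apply, AddMonoidHom.smul_apply,
        AddMonoidHom.id_apply, mapSub_clSub _ (cohP W) (cohP W) hVc hG, tensorBi_obj_obj]
      obtain ⟨hc, hcl⟩ := isCoh_and_clSub_sigma G hG r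
      rw [← hcl]
      let W₁ : W.Opens := ⟨Cᶜ, hC.isOpen_compl⟩
      have hGW : VanOn G W₁ := vanOn_of_support_disjoint G W₁ fun x hx hxs => hx (hs hxs)
      have hVG : Coh.IsCoh (CohB1.tensorMod V G) := hVc G hG
      refine sub_mem_KT_of_restrict_iso hVG hc D W₁ (restrictTensorFreeIso V G r D ε).symm
        (vanOn_tensorMod V G W₁ hGW) (vanOn_sigma G r W₁ hGW) ?_
      intro x hxD hxW
      refine ⟨?_, hxD⟩
      by_contra hxC
      exact hxW hxC
    exact hle hy
  -- Noetherian induction on closed subsets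
  have main : ∀ C : Closeds W, ∃ n : ℕ, ∀ y : K0sub (cohP W), y ∈ KT (C : Set W) → (⇑Φ)^[n] y = 0 := by
    intro C
    induction C using WellFoundedLT.induction with
    | ind C ih =>
      by_cases hne : (C : Set W) = ∅
      · refine ⟨0, fun y hy => ?_⟩
        rw [hne] at hy
        rw [Function.iterate_zero, id_eq]
        exact eq_zero_of_mem_KT_empty hy
      · obtain ⟨ξ, hξ⟩ := Set.nonempty_iff_ne_empty.2 hne
        obtain ⟨D, hξD, ⟨ε⟩⟩ := hV ξ
        let C' : Closeds W := ⟨(C : Set W) \ (D : Set W), C.isClosed.sdiff D.isOpen⟩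
        have hlt : C' < C := by
          rw [lt_iff_le_and_ne]
          refine ⟨Set.sdiff_subset, fun h => ?_⟩
          have : ξ ∈ (C' : Set W) := by rw [h]; exact hξ
          exact this.2 hξD
        obtain ⟨n, hn⟩ := ih C' hlt
        refine ⟨n + 1, fun y hy => ?_⟩
        rw [Function.iterate_succ_apply]
        exact hn _ (step _ C.isClosed D ε y hy)
  obtain ⟨n, hn⟩ := main ⊤
  refine ⟨n, fun y => ?_⟩
  rw [← hΦ]
  exact hn y (mem_KT_univ y)

end Groth.Agent.S17876
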