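import Groth.Statements.S17880
import Mathlib
import Groth.Agent.S7383
import Groth.Agent.S9199

set_option autoImplicit false
universe u
open CategoryTheory AlgebraicGeometry
open Lim

namespace Groth.Agent.S17880

/-- Let f : Y → X be a morphism of schemes with X and Y quasi-compact and quasi-separated. Then f is the
composite of an affine morphism Y → Z and a morphism Z → X of finite presentation (locally of finite
presentation, quasi-compact and quasi-separated); if f is separated, Z → X can in addition be chosen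
separated. Both assertions are packaged in one existential. -/
theorem result {X Y : Scheme.{u}} (f : Y ⟶ X)
    [CompactSpace X] [QuasiSeparatedSpace X] [CompactSpace Y] [QuasiSeparatedSpace Y] :
    ∃ (Z : Scheme.{u}) (g : Y ⟶ Z) (h : Z ⟶ X), IsAffineHom g ∧ LocallyOfFinitePresentation h ∧
      QuasiCompact h ∧ QuasiSeparated h ∧ (IsSeparated f → IsSeparated h) ∧ g ≫ h = f := by
  classical
  obtain ⟨I, pI, hdir, hne, D, c, hc, hD, haff, ⟨e⟩⟩ := Groth.Agent.S7383.result f
  have hcof : IsCofiltered Iᵒᵖ := inferInstance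
  have hconn : IsConnected Iᵒᵖ := IsCofiltered.isConnected _
  let D' : Iᵒᵖ ⥤ Scheme.{u} := D ⋙ Over.forget X
  let c' : Limits.Cone D' := (Over.forget X).mapCone c
  have hc' : Limits.IsLimit c' := Limits.isLimitOfPreserves (Over.forget X) hc
  have haff' : ∀ (i j : Iᵒᵖ) (a : i ⟶ j), IsAffineHom (D'.map a) := fun i j a => haff i j a
  let p : ∀ i : Iᵒᵖ, c.pt.left ⟶ (D.obj i).left := fun i => (c.π.app i).left
  have haffπ : ∀ i, IsAffineHom (p i) := fun i => isAffineHom_π_app D' c' hc' i
  have hw : ∀ i, p i ≫ (D.obj i).hom = c.pt.hom := fun i => Over.w (c.π.app i)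
  have hef : e.inv.left ≫ c.pt.hom = f := Over.w e.inv
  -- the key: for every index, a factorization
  have key : ∀ i : Iᵒᵖ, IsAffineHom (e.inv.left ≫ p i) ∧
      (e.inv.left ≫ p i) ≫ (D.obj i).hom = f := by
    intro i
    have := haffπ i
    have : IsIso e.inv.left := inferInstanceAs (IsIso ((Over.forget X).map e.inv))
    refine ⟨inferInstance, ?_⟩
    rw [Category.assoc, hw, hef]
  by_cases hsep : IsSeparated f
  · let t : D' ⟶ (Functor.const Iᵒᵖ).obj X :=
      { app := fun i => (D.obj i).hom
        naturality := fun i j a => by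
          change (D.map a).left ≫ (D.obj j).hom = (D.obj i).hom ≫ 𝟙 X
          rw [Category.comp_id, Over.w] }
    have hcpt : ∀ i, CompactSpace (D'.obj i) := fun i => by
      exact @QuasiCompact.compactSpace_of_compactSpace _ _ (D.obj i).hom (hD i).2.1 ‹_›
    have hqs : ∀ i, QuasiSeparatedSpace (D'.obj i) := fun i => by
      exact @quasiSeparatedSpace_of_quasiSeparated _ _ (D.obj i).hom ‹_› (hD i).2.2
    let i₀ : Iᵒᵖ := Opposite.op hne.some
    have hsep0 : IsSeparated (c'.π.app i₀ ≫ t.app i₀) := by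
      change IsSeparated (p i₀ ≫ (D.obj i₀).hom)
      rw [hw]
      have : c.pt.hom = e.hom.left ≫ f := (Over.w e.hom).symm
      rw [this]
      infer_instance
    obtain ⟨i₁, h⟩ := Groth.Agent.S9199.result X D' t c' hc' i₀
    exact ⟨(D.obj i₁).left, e.inv.left ≫ p i₁, (D.obj i₁).hom, (key i₁).1, (hD i₁).1,
      (hD i₁).2.1, (hD i₁).2.2, fun _ => h i₁ (𝟙 _), (key i₁).2⟩
  · let i₀ : Iᵒᵖ := Opposite.op hne.some
    exact ⟨(D.obj i₀).left, e.inv.left ≫ p i₀, (D.obj i₀).hom, (key i₀).1, (hD i₀).1,
      (hD i₀).2.1, (hD i₀).2.2, fun h => absurd h hsep, (key i₀).2⟩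

end Groth.Agent.S17880
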