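import Groth.Statements.S17885
import Mathlib
import Groth.Agent.S7383
import Groth.Agent.S9200

set_option autoImplicit false
universe u
open CategoryTheory AlgebraicGeometry
open Lim

namespace Groth.Agent.S17885

/-- Let f : Y → X be a morphism of schemes with X and Y quasi-compact and quasi-separated. Then f is
affine if and only if the X-scheme Y is a limit, in the category of schemes over X, of a filtered
inverse system of X-schemes that are affine and of finite presentation over X. -/
theorem result {X Y : Scheme.{u}} (f : Y ⟶ X)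
    [CompactSpace X] [QuasiSeparatedSpace X] [CompactSpace Y] [QuasiSeparatedSpace Y] :
    IsAffineHom f ↔
      ∃ (I : Type u) (_ : SmallCategory I) (_ : IsFiltered I) (D : Iᵒᵖ ⥤ Over X)
        (c : Limits.Cone D) (_ : Limits.IsLimit c),
        (∀ i, IsAffineHom (D.obj i).hom ∧ LocallyOfFinitePresentation (D.obj i).hom) ∧
        Nonempty (c.pt ≅ Over.mk f) := by
  classical
  constructor
  · -- (⇒)
    intro hf
    obtain ⟨I, pI, hdir, hne, D, c, hc, hD, haff, ⟨e⟩⟩ := Groth.Agent.S7383.result f
    have hcof : IsCofiltered Iᵒᵖ := inferInstance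
    have hconn : IsConnected Iᵒᵖ := IsCofiltered.isConnected _
    let D' : Iᵒᵖ ⥤ Scheme.{u} := D ⋙ Over.forget X
    let c' : Limits.Cone D' := (Over.forget X).mapCone c
    have hc' : Limits.IsLimit c' := Limits.isLimitOfPreserves (Over.forget X) hc
    have haff' : ∀ (i j : Iᵒᵖ) (a : i ⟶ j), IsAffineHom (D'.map a) := fun i j a => haff i j a
    let p : ∀ i : Iᵒᵖ, c.pt.left ⟶ (D.obj i).left := fun i => (c.π.app i).left
    have hw : ∀ i, p i ≫ (D.obj i).hom = c.pt.hom := fun i => Over.w (c.π.app i)
    let t : D' ⟶ (Functor.const Iᵒᵖ).obj X :=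
      { app := fun i => (D.obj i).hom
        naturality := fun i j a => by
          change (D.map a).left ≫ (D.obj j).hom = (D.obj i).hom ≫ 𝟙 X
          rw [Category.comp_id, Over.w] }
    have hcpt : ∀ i, CompactSpace (D'.obj i) := fun i => by
      exact @QuasiCompact.compactSpace_of_compactSpace _ _ (D.obj i).hom (hD i).2.1 ‹_›
    have hqs : ∀ i, QuasiSeparatedSpace (D'.obj i) := fun i => by
      exact @quasiSeparatedSpace_of_quasiSeparated _ _ (D.obj i).hom ‹_› (hD i).2.2
    let i₀ : Iᵒᵖ := Opposite.op hne.some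
    have haff0 : IsAffineHom (c'.π.app i₀ ≫ t.app i₀) := by
      change IsAffineHom (p i₀ ≫ (D.obj i₀).hom)
      rw [hw]
      have : c.pt.hom = e.hom.left ≫ f := (Over.w e.hom).symm
      rw [this]
      have : IsIso e.hom.left := inferInstanceAs (IsIso ((Over.forget X).map e.hom))
      infer_instance
    obtain ⟨i₁, h⟩ := Groth.Agent.S9200.result X D' t c' hc' i₀
    -- restrict to the indices above `i₁`
    let I' : Type u := {i : I // i₁.unop ≤ i}
    have hdir' : IsDirected I' (fun a b => a ≤ b) := by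
      refine ⟨fun a b => ?_⟩
      obtain ⟨k, hak, hbk⟩ := hdir.directed a.1 b.1
      exact ⟨⟨k, a.2.trans hak⟩, hak, hbk⟩
    have hne' : Nonempty I' := ⟨⟨i₁.unop, le_refl _⟩⟩
    have hfilt : IsFiltered I' := inferInstance
    let ι : I' ⥤ I := (Subtype.mono_coe (fun i : I => i₁.unop ≤ i)).functor
    have hfin : ι.Final := by
      refine Functor.final_of_exists_of_isFiltered ι (fun d => ?_) (fun {d k} s s' => ?_)
      · obtain ⟨k, hdk, hik⟩ := hdir.directed d i₁.unop
        exact ⟨⟨k, hik⟩, ⟨homOfLE hdk⟩⟩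
      · exact ⟨k, 𝟙 _, Subsingleton.elim _ _⟩
    have hinit : ι.op.Initial := inferInstance
    refine ⟨I', inferInstance, hfilt, ι.op ⋙ D, c.whisker ι.op,
      (Functor.Initial.isLimitWhiskerEquiv ι.op c).symm hc, fun i => ⟨?_, (hD _).1⟩, ⟨e⟩⟩
    exact h (ι.op.obj i) (homOfLE i.unop.2).op
  · -- (⇐)
    rintro ⟨I, hI, hfilt, D, c, hc, hD, ⟨e⟩⟩
    have hcof : IsCofiltered Iᵒᵖ := inferInstance
    have hconn : IsConnected Iᵒᵖ := IsCofiltered.isConnected _
    let D' : Iᵒᵖ ⥤ Scheme.{u} := D ⋙ Over.forget X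
    let c' : Limits.Cone D' := (Over.forget X).mapCone c
    have hc' : Limits.IsLimit c' := Limits.isLimitOfPreserves (Over.forget X) hc
    have haff' : ∀ {i j : Iᵒᵖ} (a : i ⟶ j), IsAffineHom (D'.map a) := by
      intro i j a
      change IsAffineHom (D.map a).left
      have h1 : (D.map a).left ≫ (D.obj j).hom = (D.obj i).hom := Over.w (D.map a)
      have h2 : IsAffineHom ((D.map a).left ≫ (D.obj j).hom) := by
        rw [h1]; exact (hD i).1
      have h3 : IsAffineHom (D.obj j).hom := (hD j).1
      exact IsAffineHom.of_comp (D.map a).left (D.obj j).hom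
    let p : ∀ i : Iᵒᵖ, c.pt.left ⟶ (D.obj i).left := fun i => (c.π.app i).left
    have haffπ : ∀ i, IsAffineHom (p i) := fun i => isAffineHom_π_app D' c' hc' i
    have hw : ∀ i, p i ≫ (D.obj i).hom = c.pt.hom := fun i => Over.w (c.π.app i)
    have hef : e.inv.left ≫ c.pt.hom = f := Over.w e.inv
    let i₀ : Iᵒᵖ := Opposite.op hfilt.nonempty.some
    have h1 := haffπ i₀
    have h2 : IsAffineHom (D.obj i₀).hom := (hD i₀).1
    have h3 : IsIso e.inv.left := inferInstanceAs (IsIso ((Over.forget X).map e.inv))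
    have : f = e.inv.left ≫ p i₀ ≫ (D.obj i₀).hom := by rw [hw, hef]
    rw [this]
    infer_instance

end Groth.Agent.S17885
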