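import Groth.Statements.S17889
import Groth.Agent.Lib.Helper20EffCartier

set_option autoImplicit false
universe u
open CategoryTheory AlgebraicGeometry TopologicalSpace
open BlowUp

namespace Groth.Agent.S17889

/-- a point of an affine open outside the support of a locally principal ideal lies in the basic
open of the generator -/
theorem mem_basicOpen_of_notMem_support {Y : Scheme.{u}} (I : Y.IdealSheafData)
    (W : Y.affineOpens) (e : Γ(Y, W.1)) (he : I.ideal W = Ideal.span {e}) {y : Y}
    (hyW : y ∈ W.1) (hy : y ∉ I.support) : y ∈ Y.basicOpen e := by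
  rw [Scheme.IdealSheafData.mem_support_iff_of_mem hyW, Scheme.mem_zeroLocus_iff] at hy
  push Not at hy
  obtain ⟨f, hf, hyf⟩ := hy
  have hf' : f ∈ Ideal.span {e} := he ▸ hf
  obtain ⟨c, rfl⟩ := Ideal.mem_span_singleton'.mp hf'
  rw [Scheme.basicOpen_mul] at hyf
  exact hyf.2

/-- sections of an ideal sheaf vanish on its support -/
theorem notMem_basicOpen_of_mem_support {Y : Scheme.{u}} (I : Y.IdealSheafData)
    (W : Y.affineOpens) (g : Γ(Y, W.1)) (hg : g ∈ I.ideal W) {y : Y}
    (hyW : y ∈ W.1) (hy : y ∈ I.support) : y ∉ Y.basicOpen g := by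
  rw [Scheme.IdealSheafData.mem_support_iff_of_mem hyW, Scheme.mem_zeroLocus_iff] at hy
  exact hy g hg

/-- Let X be a Noetherian scheme, X₀ ⊆ X an open subscheme, p : Z → X a morphism of finite type with Z
Noetherian, and F ⊆ X, G ⊆ Z closed subsets with p⁻¹(F ∩ X₀) ∩ G = ∅. Let a be a quasi-coherent
ideal sheaf on X whose support does not meet X₀, which contains the vanishing ideal I_F of F, and
which is contained in the kernel ideal of V(I_F·O_Z + I_G) → Z → X (the ideal of the
scheme-theoretic image under p of p⁻¹(F) ∩ G). Let π : X' → X be a blowing-up along a, Z' = Z ×_X X'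
with projections π' : Z' → Z and p' : Z' → X'. Then p'⁻¹ of the closure in X' of π⁻¹(F ∩ X₀) is
disjoint from the closure in Z' of π'⁻¹(G ∩ p⁻¹(X₀)). Taking a to be that kernel ideal shows such an
a exists. -/
theorem result
    {X Z : Scheme.{u}} [IsNoetherian X] [IsNoetherian Z] (p : Z ⟶ X) [LocallyOfFiniteType p]
    (X₀ : X.Opens) (F : Closeds X) (G : Closeds Z)
    (hFG : p.base ⁻¹' ((F : Set X) ∩ (X₀ : Set X)) ∩ (G : Set Z) = ∅)
    (𝔞 : X.IdealSheafData) (h₁ : Disjoint (𝔞.support : Set X) (X₀ : Set X))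
    (h₂ : Scheme.IdealSheafData.vanishingIdeal F ≤ 𝔞)
    (h₃ : 𝔞 ≤ (((Scheme.IdealSheafData.vanishingIdeal F).comap p ⊔
      Scheme.IdealSheafData.vanishingIdeal G).subschemeι ≫ p).ker)
    {X' : Scheme.{u}} (π : X' ⟶ X) (hπ : BlowUp.IsBlowUp π 𝔞) :
    (Limits.pullback.snd p π).base ⁻¹' closure (π.base ⁻¹' ((F : Set X) ∩ (X₀ : Set X))) ∩
      closure ((Limits.pullback.fst p π).base ⁻¹' ((G : Set Z) ∩ (p ⁻¹ᵁ X₀ : Set Z))) = ∅ := by
  classical
  rw [Set.eq_empty_iff_forall_notMem]
  rintro z' ⟨hx', hz'⟩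
  have hsuppF : ((Scheme.IdealSheafData.vanishingIdeal F).support : Set X) = F :=
    Scheme.IdealSheafData.coe_support_vanishingIdeal F
  have hsuppG : ((Scheme.IdealSheafData.vanishingIdeal G).support : Set Z) = G :=
    Scheme.IdealSheafData.coe_support_vanishingIdeal G
  have h₃' : 𝔞.comap p ≤ (Scheme.IdealSheafData.vanishingIdeal F).comap p ⊔
      Scheme.IdealSheafData.vanishingIdeal G :=
    Scheme.IdealSheafData.le_map_iff_comap_le.mp h₃
  -- (1) a local generator of the exceptional ideal near `x'`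
  obtain ⟨W, hxW, e, he, hWe⟩ := hπ.1 ((Limits.pullback.snd p π).base z')
  have hIFle : ((Scheme.IdealSheafData.vanishingIdeal F).comap π).ideal W ≤ Ideal.span {e} := by
    rw [← hWe]
    exact (Scheme.IdealSheafData.comap_mono π h₂) W
  -- (2) cofactors vanish at `x'`
  have hA : ∀ d : Γ(X', W.1), e * d ∈ ((Scheme.IdealSheafData.vanishingIdeal F).comap π).ideal W →
      (Limits.pullback.snd p π).base z' ∉ X'.basicOpen d := by
    intro d hd hxd
    obtain ⟨y', hy'd, hy'F, hy'X₀⟩ :=
      mem_closure_iff.mp hx' (X'.basicOpen d) (X'.basicOpen d).2 hxd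
    have hy'W : y' ∈ W.1 := X'.basicOpen_le d hy'd
    have hy'e : y' ∈ X'.basicOpen e := by
      refine mem_basicOpen_of_notMem_support (𝔞.comap π) W e hWe hy'W ?_
      rw [Scheme.IdealSheafData.support_comap]
      intro h
      exact Set.disjoint_left.mp h₁ h hy'X₀
    have hy'supp : y' ∈ ((Scheme.IdealSheafData.vanishingIdeal F).comap π).support := by
      rw [Scheme.IdealSheafData.support_comap]
      show π.base y' ∈ ((Scheme.IdealSheafData.vanishingIdeal F).support : Set X)
      rw [hsuppF]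
      exact hy'F
    have := notMem_basicOpen_of_mem_support _ W (e * d) hd hy'W hy'supp
    rw [Scheme.basicOpen_mul] at this
    exact this ⟨hy'e, hy'd⟩
  -- (3) an affine neighbourhood of `z'` over `W`
  obtain ⟨_, ⟨N, hN, rfl⟩, hzN, hNW⟩ :=
    (Limits.pullback p π).isBasis_affineOpens.exists_subset_of_mem_open
      (show z' ∈ ((Limits.pullback.snd p π) ⁻¹ᵁ W.1 : Set _) from hxW)
      ((Limits.pullback.snd p π) ⁻¹ᵁ W.1).2
  have hNW' : N ≤ (Limits.pullback.snd p π) ⁻¹ᵁ W.1 := hNW
  have hE : ((𝔞.comap π).comap (Limits.pullback.snd p π)).ideal ⟨N, hN⟩ =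
      Ideal.span {((Limits.pullback.snd p π).appLE W.1 N hNW').hom e} := by
    rw [Groth.Agent.Lib.Helper20.EffCartier.ideal_comap_eq_map _ _ hN W.2 hNW']
    change Ideal.map _ ((𝔞.comap π).ideal W) = _
    rw [hWe, Ideal.map_span, Set.image_singleton]
  have hFN : (((Scheme.IdealSheafData.vanishingIdeal F).comap π).comap
      (Limits.pullback.snd p π)).ideal ⟨N, hN⟩ =
      (((Scheme.IdealSheafData.vanishingIdeal F).comap π).ideal W).map
        ((Limits.pullback.snd p π).appLE W.1 N hNW').hom :=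
    Groth.Agent.Lib.Helper20.EffCartier.ideal_comap_eq_map _ _ hN W.2 hNW'
  have hcomp : (𝔞.comap π).comap (Limits.pullback.snd p π) =
      (𝔞.comap p).comap (Limits.pullback.fst p π) := by
    rw [← Scheme.IdealSheafData.comap_comp, ← Scheme.IdealSheafData.comap_comp,
      Limits.pullback.condition]
  have hle : (𝔞.comap π).comap (Limits.pullback.snd p π) ≤
      ((Scheme.IdealSheafData.vanishingIdeal F).comap π).comap (Limits.pullback.snd p π) ⊔
        (Scheme.IdealSheafData.vanishingIdeal G).comap (Limits.pullback.fst p π) := by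
    rw [hcomp]
    refine (Scheme.IdealSheafData.comap_mono (Limits.pullback.fst p π) h₃').trans ?_
    show Scheme.IdealSheafData.comap _ (Limits.pullback.fst p π) ≤ _
    rw [Scheme.IdealSheafData.comap_sup, ← Scheme.IdealSheafData.comap_comp,
      Limits.pullback.condition, Scheme.IdealSheafData.comap_comp]
  have hε : ((Limits.pullback.snd p π).appLE W.1 N hNW').hom e ∈
      (((Scheme.IdealSheafData.vanishingIdeal F).comap π).comap
        (Limits.pullback.snd p π)).ideal ⟨N, hN⟩ ⊔
      ((Scheme.IdealSheafData.vanishingIdeal G).comap (Limits.pullback.fst p π)).ideal ⟨N, hN⟩ := by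
    have := hle ⟨N, hN⟩ (hE ▸ Ideal.mem_span_singleton_self _)
    rwa [Scheme.IdealSheafData.ideal_sup] at this
  obtain ⟨a, ha, g, hg, hag⟩ := Submodule.mem_sup.mp hε
  -- `a = ε m` with `m` vanishing at `z'`
  have hm : ∃ m, a = ((Limits.pullback.snd p π).appLE W.1 N hNW').hom e * m ∧
      z' ∉ (Limits.pullback p π).basicOpen m := by
    rw [hFN, Ideal.map] at ha
    refine Submodule.span_induction ?_ ?_ ?_ ?_ ha
    · rintro _ ⟨f, hf, rfl⟩
      obtain ⟨d, rfl⟩ := Ideal.mem_span_singleton'.mp (hIFle hf)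
      refine ⟨((Limits.pullback.snd p π).appLE W.1 N hNW').hom d, by rw [map_mul, mul_comm], ?_⟩
      rw [Scheme.basicOpen_appLE]
      rintro ⟨-, h⟩
      exact hA d (by rwa [mul_comm]) h
    · exact ⟨0, by rw [mul_zero], by rw [Scheme.basicOpen_zero]; exact fun h => h⟩
    · rintro _ _ _ _ ⟨m₁, rfl, h₁'⟩ ⟨m₂, rfl, h₂'⟩
      refine ⟨m₁ + m₂, by rw [mul_add], fun h => ?_⟩
      rcases Scheme.basicOpen_add_le _ _ _ h with h | h
      · exact h₁' h
      · exact h₂' h
    · rintro r _ _ ⟨m, rfl, h'⟩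
      refine ⟨r * m, by rw [smul_eq_mul]; ring, fun h => ?_⟩
      rw [Scheme.basicOpen_mul] at h
      exact h' h.2
  obtain ⟨m, rfl, hzm⟩ := hm
  -- (4) `z' ∈ D(1 - m)`
  have hz1m : z' ∈ (Limits.pullback p π).basicOpen (1 - m) := by
    have h1 : z' ∈ (Limits.pullback p π).basicOpen (m + (1 - m)) := by
      rw [add_sub_cancel, Scheme.basicOpen_of_isUnit _ isUnit_one]
      exact hzN
    rcases Scheme.basicOpen_add_le _ _ _ h1 with h | h
    · exact absurd h hzm
    · exact h
  -- (5) a point of `D(1 - m)` over `G ∩ p⁻¹ X₀`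
  obtain ⟨w, hw1m, hwG, hwX₀⟩ := mem_closure_iff.mp hz' _
    ((Limits.pullback p π).basicOpen (1 - m)).2 hz1m
  have hwN : w ∈ N := (Limits.pullback p π).basicOpen_le _ hw1m
  have hwg : w ∉ (Limits.pullback p π).basicOpen g := by
    refine notMem_basicOpen_of_mem_support _ ⟨N, hN⟩ g hg hwN ?_
    rw [Scheme.IdealSheafData.support_comap]
    show (Limits.pullback.fst p π).base w ∈
      ((Scheme.IdealSheafData.vanishingIdeal G).support : Set Z)
    rw [hsuppG]
    exact hwG
  have hwε : w ∈ (Limits.pullback p π).basicOpen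
      (((Limits.pullback.snd p π).appLE W.1 N hNW').hom e) := by
    refine mem_basicOpen_of_notMem_support _ ⟨N, hN⟩ _ hE hwN ?_
    rw [hcomp, Scheme.IdealSheafData.support_comap, Scheme.IdealSheafData.support_comap]
    intro h
    exact Set.disjoint_left.mp h₁ h hwX₀
  have hg' : g = ((Limits.pullback.snd p π).appLE W.1 N hNW').hom e * (1 - m) := by
    rw [mul_sub, mul_one, eq_sub_iff_add_eq, add_comm]
    exact hag
  apply hwg
  rw [hg', Scheme.basicOpen_mul]
  exact ⟨hwε, hw1m⟩

end Groth.Agent.S17889
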