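import Groth.Statements.S17926
import Groth.Agent.R2.H54K0Tens

set_option autoImplicit false
universe u
open CategoryTheory CategoryTheory.Limits AlgebraicGeometry
open RefCh

namespace Groth.Agent.S17926

/-- Let k be an algebraically closed field, X an integral normal scheme of dimension n = s + 2 admitting
a closed immersion into some P^N_k over k, δ a dimension function on X (Cyc.IsSetup) with δ(generic
point) = n, L_1, …, L_{n-1} invertible O_X-modules with inverses M_1, …, M_{n-1}, and ℒ a coherent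
reflexive O_X-module of rank one (ℒ = O_X(-D) for a Weil divisor D, [O_D] = [O_X] - [ℒ]). With
c_1(L) · [F] = [F] - [L^{-1} ⊗ F] on K_0(Coh(X)), the class c_1(L_1) ⋯ c_1(L_{n-1}) · [O_D] = Σ_{I ⊆
{1, …, n-1}} (-1)^{|I|} ([M_I ⊗ O_X] - [M_I ⊗ ℒ]), where M_I = ⊗_{i ∈ I} M_i (FGA.tensorList of the
sorted I), lies in K_0(X), the subgroup generated by the classes of coherent modules with
zero-dimensional support: its image in K_0(Coh(X)) / K_0(X) (Cyc.toK0CohQuot δ n 0) vanishes. -/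
theorem result (k : Type u) [Field k] [IsAlgClosed k] (X : Scheme.{u}) [X.Over (Spec (CommRingCat.of k))]
    [AlgebraicGeometry.IsIntegral X] (hnorm : Pi1.IsNormalScheme X) (s : ℕ) (hdim : topologicalKrullDim X = (s + 2 : ℕ))
    (hproj : ∃ (N : ℕ) (ι : X ⟶ CohB1.ProjSpace N k), IsClosedImmersion ι ∧ ι ≫ CohB1.ProjSpace.toSpec N k = X ↘ Spec (CommRingCat.of k))
    (δ : X → ℤ) (hδ : Cyc.IsSetup X δ) (hδη : δ (genericPoint X) = (s + 2 : ℕ))
    (L M : Fin (s + 1) → X.Modules) (hL : ∀ i, PicF.IsInvertible (L i))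
    (hLM : ∀ i, Nonempty (CohB1.tensorMod (L i) (M i) ≅ Coh.structureModule X))
    (ℒ : X.Modules) (hℒ : RefHull.IsRef1 ℒ) :
    (∑ I : Finset (Fin (s + 1)), ((-1 : ℤ) ^ I.card) •
      (Cyc.toK0CohQuot δ (s + 2 : ℕ) 0 (CohB1.tensorMod (FGA.tensorList ((I.sort (· ≤ ·)).map M)) (Coh.structureModule X)) -
        Cyc.toK0CohQuot δ (s + 2 : ℕ) 0 (CohB1.tensorMod (FGA.tensorList ((I.sort (· ≤ ·)).map M)) ℒ))) = 0 := by
  open Groth.Agent.R2.H54.K0Dim Groth.Agent.R2.H54.K0Filt Groth.Agent.R2.H54.K0Tens Groth.Agent.R2.H54.K0Loc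
    Groth.Agent.R2.H5.CohThick KZero in
  obtain ⟨N, ι, hι, -⟩ := hproj
  haveI : IsLocallyNoetherian X := hδ.1
  haveI : IsNoetherian X := isNoetherian_of_closedImmersion_projSpace k ι
  obtain ⟨hℒc, -, hgen⟩ := hℒ
  obtain ⟨U₀, hηU₀, ⟨e⟩⟩ := exists_restrict_iso_structureModule_of_genInvertible ℒ hgen
  have ha : ∀ x, δ x ≤ ((s + 2 : ℕ) : ℤ) := fun x => hδη ▸ delta_le_generic hδ.2.2 x
  have hO : Coh.IsCoh (Coh.structureModule X) := isCoh_structureModule X
  have hM : ∀ i, PicF.IsInvertible (M i) := fun i => by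
    obtain ⟨e⟩ := hLM i
    exact isInvertible_of_tensorMod_iso (L i) (M i) (hL i) e
  -- `y = [O] - [ℒ]` is supported in dimension `≤ s + 1`
  obtain ⟨y, hydef⟩ : ∃ y, y = clSub (cohP X) (Coh.structureModule X) - clSub (cohP X) ℒ := ⟨_, rfl⟩
  have hy : y ∈ KT {x | δ x ≤ ((s + 1 : ℕ) : ℤ)} := by
    rw [hydef]
    refine KT_mono ?_ (supp_le_KT U₀ (sub_mem_supp_of_restrict_iso U₀ hO hℒc e.symm))
    intro x hx
    have hne : x ≠ genericPoint X := fun h => hx (h ▸ hηU₀)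
    have := delta_lt_generic hδ.2.2 x hne
    rw [hδη] at this
    change δ x ≤ ((s + 1 : ℕ) : ℤ)
    push_cast at this ⊢
    omega
  have h1 := altSum_mem_KT δ hδ.2.2 M hM Finset.univ ((s + 1 : ℕ) : ℤ) y hy
  rw [Finset.card_univ, Fintype.card_fin, sub_self] at h1
  have h2 : toQuot δ ((s + 2 : ℕ) : ℤ) 0 ha (altSum M Finset.univ y) = 0 :=
    toQuot_eq_zero_of_mem_KT δ _ 0 ha h1
  unfold altSum at h2
  rw [Finset.powerset_univ, AddMonoidHom.finsetSum_apply, map_sum] at h2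
  rw [← h2]
  refine Finset.sum_congr rfl fun I _ => ?_
  rw [AddMonoidHom.smul_apply, map_zsmul]
  congr 1
  have hI : PicF.IsInvertible (FGA.tensorList ((I.sort (· ≤ ·)).map M)) :=
    isInvertible_tensorList _ (fun N hN => by
      obtain ⟨i, -, rfl⟩ := List.mem_map.1 hN
      exact hM i)
  rw [hydef, map_sub, map_sub, tens_clSub _ hI hO, tens_clSub _ hI hℒc,
    toQuot_clSub δ _ 0 ha (isCoh_tensorMod_left _ _ hI hO),
    toQuot_clSub δ _ 0 ha (isCoh_tensorMod_left _ _ hI hℒc)]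

end Groth.Agent.S17926
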