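import Groth.Statements.S17999
import Groth.Agent.R2.H78WeilNumF

set_option autoImplicit false
universe u
open MvPolynomial
open WeilNum

namespace Groth.Agent.S17999

/-- The case of finite sets of Weil numbers; let p be a prime, e ≥ 1 and q = p^e; let (π_j)_{j ∈ J} be a
finite family of pairwise nonconjugate Weil q-numbers (π_j in a field K_j of characteristic zero,
integral over ℤ with minimal polynomial P_j, all complex roots of P_j of absolute value √q, P_i ≠
P_j for i ≠ j), and let e : J' → J be an injective map selecting a subfamily. Let I_w, resp. I_v, be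
the kernel of ℤ[F, V] → ∏_{j ∈ J} K_j, resp. → ∏_{j' ∈ J'} K_{e(j')}, sending F ↦ (π_j) and V ↦
(q/π_j); then I_w ⊆ I_v and ℤ[F,V]/I_w → ℤ[F,V]/I_v is the natural surjection R_w → R_v of minimal
central orders. Then the induced homomorphism of Picard groups Pic(R_w) → Pic(R_v) is surjective.
The published statement concerns the Picard groups of the pro-rings attached to arbitrary subsets V
⊆ W of Weil q-number classes; only the case of finite sets is stated here. -/
theorem result (p e : ℕ) [Fact p.Prime] (he : 0 < e)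
    (J J' : Type) [Fintype J] [Fintype J'] (emb : J' → J) (hemb : Function.Injective emb)
    (K : J → Type u) [∀ j, Field (K j)] [∀ j, CharZero (K j)] (ϖ : ∀ j, K j)
    (hint : ∀ j, IsIntegral ℤ (ϖ j))
    (hweil : ∀ j, ∀ z ∈ (minpoly ℤ (ϖ j)).aroots ℂ, ‖z‖ = Real.sqrt ((p : ℝ) ^ e))
    (hinj : ∀ i j, minpoly ℤ (ϖ i) = minpoly ℤ (ϖ j) → i = j)
    (hle : RingHom.ker (MvPolynomial.aeval ![fun j => ϖ j, fun j => ((p : K j) ^ e) / ϖ j] :
          MvPolynomial (Fin 2) ℤ →ₐ[ℤ] ((j : J) → K j)) ≤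
        RingHom.ker (MvPolynomial.aeval ![fun j' => ϖ (emb j'), fun j' => ((p : K (emb j')) ^ e) / ϖ (emb j')] :
          MvPolynomial (Fin 2) ℤ →ₐ[ℤ] ((j' : J') → K (emb j')))) :
    Function.Surjective (CommRing.Pic.mapRingHom (Ideal.Quotient.factor hle)) := by
  have hp : 0 < p := (Fact.out : p.Prime).pos
  have hqpos : (0 : ℤ) < (p : ℤ) ^ e := by positivity
  have hweil' : ∀ j, ∀ z ∈ (minpoly ℤ (ϖ j)).aroots ℂ,
      ‖z‖ = Real.sqrt ((((p : ℤ) ^ e : ℤ)) : ℝ) := by
    intro j z hz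
    rw [hweil j z hz]
    congr 1
    push_cast
    rfl
  have hphi_w : (MvPolynomial.aeval ![fun j => ϖ j, fun j => ((p : K j) ^ e) / ϖ j] :
      MvPolynomial (Fin 2) ℤ →ₐ[ℤ] ((j : J) → K j)) =
      Groth.Agent.R2.H78.WeilNumB.phi ϖ ((p : ℤ) ^ e) := by
    unfold Groth.Agent.R2.H78.WeilNumB.phi
    congr 2
    funext i
    push_cast
    rfl
  have hphi_v : (MvPolynomial.aeval ![fun j' => ϖ (emb j'),
        fun j' => ((p : K (emb j')) ^ e) / ϖ (emb j')] :
      MvPolynomial (Fin 2) ℤ →ₐ[ℤ] ((j' : J') → K (emb j'))) =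
      Groth.Agent.R2.H78.WeilNumB.phi (fun j' => ϖ (emb j')) ((p : ℤ) ^ e) := by
    unfold Groth.Agent.R2.H78.WeilNumB.phi
    congr 2
    funext i
    push_cast
    rfl
  exact Groth.Agent.R2.H78.WeilNumF.pic_surj emb ϖ ((p : ℤ) ^ e) hemb hqpos hint hweil' hinj
    _ _ hphi_w hphi_v hle

end Groth.Agent.S17999
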