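import Groth.Statements.S18029
import Groth.Agent.R2.H44SpreadGrp
import Groth.Agent.Lib.Helper26StalkLim

set_option autoImplicit false
set_option linter.style.haveILetI false
universe u
open CategoryTheory MonoidalCategory CartesianMonoidalCategory MonObj GrpObj AlgebraicGeometry CategoryTheory.Limits
open AlgGrp

namespace Groth.Agent.S18029

open Groth.Agent.Lib.Helper26.StalkLim Groth.Agent.R2.H44.GrpLim ActBC Opposite

/-- a locally finite type morphism to a locally noetherian scheme is locally of finite presentation -/
theorem lfp_of_lft {X Y : Scheme.{u}} (f : X ⟶ Y) [LocallyOfFiniteType f]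
    [IsLocallyNoetherian Y] : LocallyOfFinitePresentation f := by
  rw [HasRingHomProperty.iff_appLE (P := @LocallyOfFinitePresentation)]
  intro U V e
  have h : (f.appLE U.1 V.1 e).hom.FiniteType :=
    HasRingHomProperty.appLE (P := @LocallyOfFiniteType) f inferInstance U V e
  haveI : IsNoetherianRing Γ(Y, U.1) := IsLocallyNoetherian.component_noetherian U
  exact RingHom.FinitePresentation.of_finiteType.1 h

/-- the limit cone of the affine open neighbourhoods of the generic point, with point `Spec K(X)` -/
noncomputable abbrev genCone (X : Scheme.{u}) [IsIntegral X] : Cone (specDiagram (genericPoint X)) where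
  pt := Spec X.functionField
  π := (specCone (genericPoint X)).π

/-- it is a limit cone -/
noncomputable def genConeIsLimit (X : Scheme.{u}) [IsIntegral X] : IsLimit (genCone X) :=
  specIsLimit (genericPoint X)

/-- Closed subgroups of the generic fibre spread out. Let `X` be an integral scheme with generic point
`η : Spec K(X) ⟶ X`, `G` an affine `X`-group scheme locally of finite presentation and `H_η` a
closed subgroup scheme of the generic fibre `G_η = G ×_X Spec K(X)`. Then there are a non-empty open
`U ⊆ X` (through which `η` factors) and a closed subgroup scheme `H_U` of `G ×_X U` whose generic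
fibre is `H_η`: a cartesian square presents `H_η` as `H_U ×_U Spec K(X)`, compatibly with the
embeddings into `G`. -/
theorem result
    (X : Scheme.{u}) [IsIntegral X] (G : Over X) [GrpObj G]
    [IsAffineHom G.hom] [LocallyOfFinitePresentation G.hom]
    (Hη : Over (Spec X.functionField)) [GrpObj Hη]
    (i : Hη ⟶ Red.bc (X.fromSpecStalk (genericPoint X)) G) [IsMonHom i] [IsClosedImmersion i.left] :
    ∃ (U : X.Opens) (ηU : Spec X.functionField ⟶ (U : Scheme.{u})) (HU : Over (U : Scheme.{u}))
      (_ : GrpObj HU) (j : HU ⟶ Red.bc U.ι G) (φ : Hη.left ⟶ HU.left),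
      ηU ≫ U.ι = X.fromSpecStalk (genericPoint X) ∧ IsMonHom j ∧ IsClosedImmersion j.left ∧
      IsPullback φ Hη.hom HU.hom ηU ∧
      φ ≫ j.left ≫ pullback.fst G.hom U.ι = i.left ≫ pullback.fst G.hom (X.fromSpecStalk (genericPoint X)) := by
  -- finiteness of `Hη`
  have hGη1 : LocallyOfFinitePresentation (Red.bc (X.fromSpecStalk (genericPoint X)) G).hom := by
    change LocallyOfFinitePresentation (pullback.snd G.hom (X.fromSpecStalk (genericPoint X))); infer_instance
  have hGη2 : IsAffineHom (Red.bc (X.fromSpecStalk (genericPoint X)) G).hom := by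
    change IsAffineHom (pullback.snd G.hom (X.fromSpecStalk (genericPoint X))); infer_instance
  have hnoeth : IsLocallyNoetherian (Red.bc (X.fromSpecStalk (genericPoint X)) G).left :=
    LocallyOfFiniteType.isLocallyNoetherian (Red.bc (X.fromSpecStalk (genericPoint X)) G).hom
  have hi1 : LocallyOfFinitePresentation i.left := lfp_of_lft i.left
  have hw : i.left ≫ (Red.bc (X.fromSpecStalk (genericPoint X)) G).hom = Hη.hom := Over.w i
  have hH1 : LocallyOfFinitePresentation Hη.hom := by rw [← hw]; infer_instance
  have hH2 : QuasiCompact Hη.hom := by rw [← hw]; infer_instance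
  have hH3 : QuasiSeparated Hη.hom := by rw [← hw]; infer_instance
  -- the cofiltered system of affine open neighbourhoods of the generic point
  have hG2 : QuasiCompact G.hom := inferInstance
  have hG3 : QuasiSeparated G.hom := inferInstance
  obtain ⟨j, H, instH, incl, θ, hm, hcl, hcompat⟩ :=
    exists_closedSubgrp_stage_over (specDiagram (genericPoint X)) (genCone X)
      (genConeIsLimit X) (toX (genericPoint X)) (fun f => map_toX (genericPoint X) f)
      (X.fromSpecStalk (genericPoint X)) (fun k => π_toX (genericPoint X) k) G Hη i
  obtain ⟨ηU, HU, instHU, jj, φ, h1, h2, h3, h4, h5⟩ :=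
    exists_transport_iso (Dj := (specDiagram (genericPoint X)).obj j) (K := Spec X.functionField)
      j.unop.isAffine.isoSpec (toX (genericPoint X) j) j.unop.U.ι
      j.unop.isAffine.isoSpec_hom_fromSpec ((genCone X).π.app j)
      (X.fromSpecStalk (genericPoint X)) (π_toX (genericPoint X) j) G Hη i H incl θ hcompat
  exact ⟨j.unop.U, ηU, HU, instHU, jj, φ, h1, h2, h3, h4, h5⟩

end Groth.Agent.S18029
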