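import Groth.Statements.S18158
import Groth.Agent.R2.H47TopInv
import Groth.Agent.R2.H47W2Nil
import Groth.Agent.S0117

set_option autoImplicit false
universe u
open CategoryTheory CategoryTheory.Limits AlgebraicGeometry
open Lift

namespace Groth.Agent.S18158

/-- Let k be an algebraically closed field of characteristic p and q : Y → X an étale morphism to a
smooth k-scheme X. Suppose X has a W_2-lifting of its Frobenius: a scheme X~ flat over Spec W_2(k),
a morphism i : X → X~ making X the base change of X~ along Spec k → Spec W_2(k) (the residue map),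
and an endomorphism F~ of X~ with i ∘ F_X = F~ ∘ i, F_X the absolute Frobenius. Then Y has one as
well: there are a scheme Y~ flat over Spec W_2(k), a morphism j : Y → Y~ making Y the base change of
Y~ along the same map, and an endomorphism G~ of Y~ with j ∘ F_Y = G~ ∘ j. (The source speaks of an
étale cover Y → X of smooth varieties; its argument uses only that Y is étale over X and that X
lifts, so X is taken smooth over k and Y étale over X, with no integrality, separatedness or
quasi-compactness assumed.) -/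
theorem result
    (p : ℕ) [Fact p.Prime] (k : Type u) [Field k] [IsAlgClosed k] [CharP k p]
    (X Y : Scheme.{u}) (f : X ⟶ Spec (CommRingCat.of k)) [Smooth f]
    (q : Y ⟶ X) [AlgebraicGeometry.Etale q]
    [FrobSch.IsCharP X p] [FrobSch.IsCharP Y p]
    (Xl : Scheme.{u}) (g : Xl ⟶ Spec (CommRingCat.of (FrobAlg.W2 p k))) [Flat g]
    (i : X ⟶ Xl) (hsq : IsPullback i f g (Spec.map (CommRingCat.ofHom (FrobAlg.res p k))))
    (Fl : Xl ⟶ Xl) (hF : i ≫ Fl = FrobSch.frob X p ≫ i) :
    ∃ (Yl : Scheme.{u}) (gY : Yl ⟶ Spec (CommRingCat.of (FrobAlg.W2 p k))) (j : Y ⟶ Yl) (Gl : Yl ⟶ Yl),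
      Flat gY ∧ IsPullback j (q ≫ f) gY (Spec.map (CommRingCat.ofHom (FrobAlg.res p k))) ∧
        j ≫ Gl = FrobSch.frob Y p ≫ j := by
  -- `i` is a thickening
  haveI hr1 : IsClosedImmersion (Spec.map (CommRingCat.ofHom (FrobAlg.res p k))) := inferInstance
  haveI hr2 : Surjective (Spec.map (CommRingCat.ofHom (FrobAlg.res p k))) := inferInstance
  haveI hi1 : IsClosedImmersion i :=
    MorphismProperty.of_isPullback (P := @IsClosedImmersion) hsq.flip hr1
  haveI hi2 : Surjective i :=
    MorphismProperty.of_isPullback (P := @Surjective) hsq.flip hr2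
  -- the etale lift of `Y`
  haveI : AlgebraicGeometry.Etale (Over.mk q).hom := ‹AlgebraicGeometry.Etale q›
  obtain ⟨W, θ, hW⟩ := Groth.Agent.R2.H47.TopInv.exists_etale_lift i (Over.mk q)
  haveI : AlgebraicGeometry.Etale W.hom := hW
  let ql : W.left ⟶ Xl := W.hom
  let j : Y ⟶ W.left := θ.inv.left ≫ pullback.fst W.hom i
  have hθ : θ.inv.left ≫ pullback.snd W.hom i = q := Over.w θ.inv
  have sqY : IsPullback j q ql i := by
    have h0 := IsPullback.of_hasPullback W.hom i
    refine h0.of_iso ((Over.forget _).mapIso θ) (Iso.refl _) (Iso.refl _) (Iso.refl _) ?_ ?_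
      ((Category.comp_id _).trans (Category.id_comp _).symm)
      ((Category.comp_id _).trans (Category.id_comp _).symm)
    · change pullback.fst W.hom i ≫ 𝟙 _ = θ.hom.left ≫ θ.inv.left ≫ pullback.fst W.hom i
      rw [Category.comp_id, ← Category.assoc, ← Over.comp_left, Iso.hom_inv_id, Over.id_left,
        Category.id_comp]
    · change pullback.snd W.hom i ≫ 𝟙 _ = θ.hom.left ≫ q
      rw [Category.comp_id]
      exact (Over.w θ.hom).symm
  haveI hj1 : IsClosedImmersion j :=
    MorphismProperty.of_isPullback (P := @IsClosedImmersion) sqY.flip hi1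
  haveI hj2 : Surjective j :=
    MorphismProperty.of_isPullback (P := @Surjective) sqY.flip hi2
  -- the Frobenius lift
  have hcond : (FrobSch.frob Y p ≫ j) ≫ ql = j ≫ ql ≫ Fl := by
    rw [Category.assoc, sqY.w, ← Category.assoc, FrobSch.frob_comp, Category.assoc, ← hF,
      ← Category.assoc, ← sqY.w, Category.assoc]
  let P := pullback ql (ql ≫ Fl)
  let σ : Y ⟶ P := pullback.lift (FrobSch.frob Y p ≫ j) j hcond
  let Xe : Over W.left := Over.mk (pullback.snd ql (ql ≫ Fl))
  let Ye : Over W.left := Over.mk (𝟙 W.left)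
  haveI : AlgebraicGeometry.Etale Xe.hom := by
    change AlgebraicGeometry.Etale (pullback.snd ql (ql ≫ Fl))
    infer_instance
  let Ψ : (Over.pullback j).obj Ye ⟶ (Over.pullback j).obj Xe :=
    Over.homMk (pullback.lift (pullback.snd (𝟙 W.left) j ≫ σ) (pullback.snd (𝟙 W.left) j) (by
      rw [Category.assoc]
      congr 1
      exact pullback.lift_snd _ _ _)) (by
      exact pullback.lift_snd _ _ _)
  obtain ⟨s, hs⟩ := (Groth.Agent.S0117.result j Xe Ye).2 Ψ
  have hs' : ((Over.pullback j).map s).left = Ψ.left := congrArg (fun m => m.left) hs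
  have h1 : pullback.fst (𝟙 W.left) j ≫ s.left = pullback.snd (𝟙 W.left) j ≫ σ := by
    have h2 : ((Over.pullback j).map s).left ≫ pullback.fst Xe.hom j =
        pullback.fst Ye.hom j ≫ s.left := Groth.Agent.R2.H47.TopInv.pullback_map_fst s
    have h3 : Ψ.left ≫ pullback.fst Xe.hom j = pullback.snd (𝟙 W.left) j ≫ σ :=
      pullback.lift_fst _ _ _
    rw [hs'] at h2
    exact h2.symm.trans h3
  let ι : Y ⟶ pullback (𝟙 W.left) j := pullback.lift j (𝟙 Y) (by simp)
  have hjs : j ≫ s.left = σ := by
    have h4 := congrArg (ι ≫ ·) h1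
    simp only [← Category.assoc] at h4
    rw [pullback.lift_fst, pullback.lift_snd, Category.id_comp] at h4
    exact h4
  refine ⟨W.left, ql ≫ g, j, s.left ≫ pullback.fst ql (ql ≫ Fl), inferInstance,
    sqY.paste_vert hsq, ?_⟩
  rw [← Category.assoc, hjs]
  exact pullback.lift_fst _ _ _

end Groth.Agent.S18158
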