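import Groth.Statements.S18288
import Groth.Agent.R2.H89MagnetIso

set_option autoImplicit false
universe u
open CategoryTheory MonoidalCategory CartesianMonoidalCategory MonObj AlgebraicGeometry Opposite
open Magnet

namespace Groth.Agent.S18288

/-- Let M be a commutative monoid with an injective homomorphism f : M → Z into a commutative group Z
(so M is cancellative; the published statement takes Z to be the group completion of M, and the same
argument applies to any such Z), let Y be a submonoid of Z contained in the image of M, and let X be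
an S-scheme separated over S with an action of the diagonalizable monoid scheme A(M)_S. Regard X as
a D(Z)_S-scheme through D(Z)_S → A(M)_S. Then the canonical map of attractors X^{f⁻¹Y ⊂ M} → X^{Y ⊂
Z} is an isomorphism: a D(Z)_S-equivariant family out of A(Y)_S is automatically A(M)_S-equivariant.
(The published statement allows X to be an algebraic space; here X is a scheme.) -/
theorem result (S : Scheme.{u}) (M Z : Type) [AddCommMonoid M]
    [AddCommGroup Z] (f : M →+ Z) (hf : Function.Injective f) (Y : AddSubmonoid Z)
    (hY : Y ≤ AddMonoidHom.mrange f) (X : Over S) [IsSeparated X.hom]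
    (a : Magnet.MonAct (Magnet.AMonS S M) X) :
    IsIso (Magnet.attrComap a f Y) := by
  have hκbij : Function.Bijective ((f.comp (Y.comap f).subtype).codRestrict Y (fun x => x.2)) := by
    constructor
    · intro x y hxy
      have h1 : f x.1 = f y.1 := congrArg Subtype.val hxy
      exact Subtype.ext (hf h1)
    · intro y
      obtain ⟨m, hm⟩ := hY y.2
      refine ⟨⟨m, ?_⟩, ?_⟩
      · change f m ∈ Y
        rw [hm]
        exact y.2
      · exact Subtype.ext hm
  let e : ↥(Y.comap f) ≃+ ↥Y := AddEquiv.ofBijective _ hκbij
  have he : e.toAddMonoidHom = (f.comp (Y.comap f).subtype).codRestrict Y (fun x => x.2) := rfl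
  rw [NatTrans.isIso_iff_isIso_app]
  intro T
  rw [isIso_iff_bijective]
  constructor
  · intro φ₁ φ₂ h
    apply Subtype.ext
    have h' : (AMonS.map S ((f.comp (Y.comap f).subtype).codRestrict Y (fun x => x.2)) ▷ unop T) ≫ φ₁.1 =
        (AMonS.map S ((f.comp (Y.comap f).subtype).codRestrict Y (fun x => x.2)) ▷ unop T) ≫ φ₂.1 :=
      congrArg Subtype.val h
    have hdom := Groth.Agent.R2.H89.MagnetDom.dominant_AMonS_map_whiskerRight S _ hκbij.1 (unop T)
    exact Groth.Agent.R2.H89.SchDom.ext_of_dominant_of_isSeparated _ h'
  · rintro ⟨ψ, hψ⟩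
    have hψ' : MonAct.IsEquivariant ((subAct S M (Y.comap f)).restrict (AMonS.map S f)) (subAct S Z Y)
        (AMonS.map S e.symm.toAddMonoidHom) := by
      rw [subAct, subAct, MonAct.restrict_restrict]
      refine MonAct.isEquivariant_restrict_regular _ _ _ ?_
      rw [← AMonS.map_comp, ← AMonS.map_comp]
      congr 1
      ext y
      exact congrArg Subtype.val (e.apply_symm_apply y)
    have hφ := ((MonAct.eqvHom.precomp (a.restrict (AMonS.map S f)) (AMonS.map S e.symm.toAddMonoidHom) hψ').app T
      ⟨ψ, hψ⟩).2
    have hφ2 : MonAct.IsEquivariant ((subAct S M (Y.comap f)).prod (MonAct.trivial (AMonS S M) (unop T))) a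
        ((AMonS.map S e.symm.toAddMonoidHom ▷ unop T) ≫ ψ) := by
      refine Groth.Agent.R2.H89.MagnetIso.isEquivariant_of_restrict (AMonS.map S f) _ a _ hφ ?_
      intro u v huv
      have hdom := Groth.Agent.R2.H89.MagnetDom.dominant_AMonS_map_whiskerRight S f hf
        (AMonS S ↥(Y.comap f) ⊗ unop T)
      exact Groth.Agent.R2.H89.SchDom.ext_of_dominant_of_isSeparated _ huv
    refine ⟨⟨(AMonS.map S e.symm.toAddMonoidHom ▷ unop T) ≫ ψ, hφ2⟩, ?_⟩
    apply Subtype.ext
    change (AMonS.map S ((f.comp (Y.comap f).subtype).codRestrict Y (fun x => x.2)) ▷ unop T) ≫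
      (AMonS.map S e.symm.toAddMonoidHom ▷ unop T) ≫ ψ = ψ
    rw [← he, ← Category.assoc, ← comp_whiskerRight, Groth.Agent.R2.H89.MagnetIso.AMonS_map_comp_symm,
      id_whiskerRight, Category.id_comp]

end Groth.Agent.S18288
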