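import Groth.Statements.S1834
import Groth.Agent.R2.H71Blow8

set_option autoImplicit false
universe u
open CycAlg

namespace Groth.Agent.S1834

/-- Let R be a Noetherian local ring of dimension 1 and a, b nonzerodivisors. There is a finite
extension ring R ⊆ R' with R'/R killed by a power of the maximal ideal, and nonzerodivisors t, a',
b' of R' with a = t a', b = t b' and (a', b') the unit ideal of R'. -/
theorem result (R : Type u) [CommRing R] [IsNoetherianRing R] [IsLocalRing R] (hR : ringKrullDim R = 1) (a b : R) (ha : a ∈ nonZeroDivisors R) (hb : b ∈ nonZeroDivisors R) : ∃ (R' : Type u) (_ : CommRing R') (_ : Algebra R R'), CycAlg.IsFinExt R R' (IsLocalRing.maximalIdeal R) ∧ ∃ t a' b' : R', t ∈ nonZeroDivisors R' ∧ a' ∈ nonZeroDivisors R' ∧ b' ∈ nonZeroDivisors R' ∧ algebraMap R R' a = t * a' ∧ algebraMap R R' b = t * b' ∧ Ideal.span {a', b'} = ⊤ := by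
  classical
  have hO := Groth.Agent.R2.H71.Blow.oneDim_of_local R hR
  obtain ⟨R', _, _, hG, t, a', b', X, Y, h1, h2, h3⟩ :=
    Groth.Agent.R2.H71.Blow.exists_blowup_ext hO a b ha
  have ha' : t * a' ∈ nonZeroDivisors R' := h1 ▸ hG.nzd _ ha
  have hb' : t * b' ∈ nonZeroDivisors R' := h2 ▸ hG.nzd _ hb
  refine ⟨R', inferInstance, inferInstance,
    Groth.Agent.R2.H71.Blow.isFinExt_of_goodExt hR hG, t, a', b',
    (mul_mem_nonZeroDivisors.mp ha').1, (mul_mem_nonZeroDivisors.mp ha').2,
    (mul_mem_nonZeroDivisors.mp hb').2, h1, h2, ?_⟩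
  rw [Ideal.eq_top_iff_one, ← h3]
  apply Ideal.add_mem
  · exact Ideal.mul_mem_left _ _ (Ideal.subset_span (by simp))
  · exact Ideal.mul_mem_left _ _ (Ideal.subset_span (by simp))

end Groth.Agent.S1834
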