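import Groth.Statements.S18365
import Groth.Agent.R2.H90Decomp

set_option autoImplicit false
universe u
open CAlg

namespace Groth.Agent.S18365

/-- Let A be a Noetherian ring, π an element of A, (𝔓_i)_{i ∈ ι} an injective finite family listing
exactly the minimal prime ideals over (π), and M a finitely generated A-module on which π acts
injectively; put M̄ = M/πM. For T ⊆ ι let K(T) ⊆ M̄ be the submodule of elements whose image in the
localisation of M̄ at 𝔓_i vanishes for every i ∈ T, and N(T) ⊆ M its preimage; assume K(ι) = 0.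
Suppose that M̄ decomposes at Y, i.e. K(Y) + K(Yᶜ) = M̄, and that for a subset Z the module
N(Y)/πN(Y) decomposes at Z, i.e. its submodule of elements vanishing at every 𝔓_i (i ∈ Z) and its
submodule of elements vanishing at every 𝔓_i (i ∉ Z) together span it. Then M̄ decomposes at Z: K(Z)
+ K(Zᶜ) = M̄. (Geometric meaning: for a flat family of curves over a discrete valuation ring with
uniformizer π, I a torsion-free rank-one sheaf flat over the base, Y a subcurve of the special fibre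
X(s) at which I(s) decomposes and I^Y = ker(I → I(s)_Y): if I^Y(s) decomposes at a subcurve Z then
so does I(s); decomposition of a sheaf at Z is the surjectivity of I(s) → I(s)_Z ⊕ I(s)_{Z^c},
checked on stalks. Reducedness of the special fibre and rank one are not used.) -/
theorem result
    (A : Type u) [CommRing A] [IsNoetherianRing A] (π : A)
    (ι : Type) [Finite ι] (𝔓 : ι → Ideal A) [∀ i, (𝔓 i).IsPrime]
    (h𝔓 : ∀ i, 𝔓 i ∈ (Ideal.span {π}).minimalPrimes) (h𝔓inj : Function.Injective 𝔓)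
    (h𝔓surj : ∀ 𝔔 ∈ (Ideal.span {π}).minimalPrimes, ∃ i, 𝔓 i = 𝔔)
    (M : Type u) [AddCommGroup M] [Module A M] [Module.Finite A M]
    (hπ : ∀ m : M, π • m = 0 → m = 0)
    (K : Set ι → Submodule A (M ⧸ Ideal.span {π} • (⊤ : Submodule A M)))
    (hK : ∀ T : Set ι, K T = ⨅ i ∈ T, LinearMap.ker
      (LocalizedModule.mkLinearMap (𝔓 i).primeCompl (M ⧸ Ideal.span {π} • (⊤ : Submodule A M))))
    (htf : K Set.univ = ⊥)
    (N : Set ι → Submodule A M)
    (hN : ∀ T : Set ι, N T = (K T).comap (Submodule.mkQ (Ideal.span {π} • (⊤ : Submodule A M))))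
    (Y Z : Set ι) (hY : K Y ⊔ K Yᶜ = ⊤)
    (K' : Set ι → Submodule A (↥(N Y) ⧸ Ideal.span {π} • (⊤ : Submodule A ↥(N Y))))
    (hK' : ∀ T : Set ι, K' T = ⨅ i ∈ T, LinearMap.ker
      (LocalizedModule.mkLinearMap (𝔓 i).primeCompl (↥(N Y) ⧸ Ideal.span {π} • (⊤ : Submodule A ↥(N Y)))))
    (hZ : K' Z ⊔ K' Zᶜ = ⊤) :
    K Z ⊔ K Zᶜ = ⊤ := by
  open Groth.Agent.R2.H90.Decomp in
  -- membership in `K T` and `K' T` on representatives
  have hKmem : ∀ (T : Set ι) (m : M),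
      Submodule.mkQ (Ideal.span {π} • (⊤ : Submodule A M)) m ∈ K T ↔ m ∈ NN π 𝔓 T := by
    intro T m
    rw [hK T]
    exact mkQ_mem_iInf_ker_iff π 𝔓 M T m
  have hK'mem : ∀ (T : Set ι) (n : ↥(N Y)),
      Submodule.mkQ (Ideal.span {π} • (⊤ : Submodule A ↥(N Y))) n ∈ K' T ↔ n ∈ NN π 𝔓 T := by
    intro T n
    rw [hK' T]
    exact mkQ_mem_iInf_ker_iff π 𝔓 ↥(N Y) T n
  have hNmem : ∀ (T : Set ι) (m : M), m ∈ N T ↔ m ∈ NN π 𝔓 T := by
    intro T m
    rw [hN T, Submodule.mem_comap]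
    exact hKmem T m
  have htf' : ∀ m : M, m ∈ NN π 𝔓 Set.univ → ∃ m' : M, m = π • m' := by
    intro m hm
    have h1 := (hKmem Set.univ m).2 hm
    rw [htf, Submodule.mem_bot, Submodule.mkQ_apply, Submodule.Quotient.mk_eq_zero] at h1
    exact (mem_span_singleton_smul_top π M).1 h1
  have hY' : ∀ m : M, ∃ m₁ : M, m₁ ∈ (NN π 𝔓 Y : Submodule A M) ∧
      ∃ m₂ : M, m₂ ∈ (NN π 𝔓 Yᶜ : Submodule A M) ∧ m = m₁ + m₂ := by
    intro m
    have h1 : Submodule.mkQ (Ideal.span {π} • (⊤ : Submodule A M)) m ∈ K Y ⊔ K Yᶜ := by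
      rw [hY]; trivial
    obtain ⟨y, hy, z, hz, hyz⟩ := Submodule.mem_sup.1 h1
    obtain ⟨m₁, rfl⟩ := Submodule.mkQ_surjective _ y
    refine ⟨m₁, (hKmem Y m₁).1 hy, m - m₁, ?_, by abel⟩
    apply (hKmem Yᶜ _).1
    rw [map_sub, ← hyz]
    simpa using hz
  have hZ' : ∀ n : M, n ∈ (NN π 𝔓 Y : Submodule A M) →
      ∃ a : M, a ∈ (NN π 𝔓 Y : Submodule A M) ∧ ∃ b : M, b ∈ (NN π 𝔓 Y : Submodule A M) ∧ n = a + b ∧
      (∀ i ∈ Z, ∃ s : A, s ∉ 𝔓 i ∧ ∃ n' : M, n' ∈ (NN π 𝔓 Y : Submodule A M) ∧ s • a = π • n') ∧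
      (∀ i ∈ Zᶜ, ∃ s : A, s ∉ 𝔓 i ∧ ∃ n' : M, n' ∈ (NN π 𝔓 Y : Submodule A M) ∧ s • b = π • n') := by
    intro n hn
    have hnN : n ∈ N Y := (hNmem Y n).2 hn
    have h1 : Submodule.mkQ (Ideal.span {π} • (⊤ : Submodule A ↥(N Y))) ⟨n, hnN⟩ ∈ K' Z ⊔ K' Zᶜ := by
      rw [hZ]; trivial
    obtain ⟨y, hy, z, hz, hyz⟩ := Submodule.mem_sup.1 h1
    obtain ⟨a, rfl⟩ := Submodule.mkQ_surjective _ y
    have hz' : Submodule.mkQ (Ideal.span {π} • (⊤ : Submodule A ↥(N Y))) (⟨n, hnN⟩ - a) ∈ K' Zᶜ := by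
      rw [map_sub, ← hyz]
      simpa using hz
    have ha := (hK'mem Z a).1 hy
    have hb := (hK'mem Zᶜ _).1 hz'
    refine ⟨(a : M), (hNmem Y _).1 a.2, n - (a : M), ?_, by abel, ?_, ?_⟩
    · exact (hNmem Y _).1 ((N Y).sub_mem hnN a.2)
    · intro i hi
      obtain ⟨s, hs, p', hp'⟩ := ha i hi
      refine ⟨s, hs, (p' : M), (hNmem Y _).1 p'.2, ?_⟩
      have := congrArg (Subtype.val : ↥(N Y) → M) hp'
      simpa using this
    · intro i hi
      obtain ⟨s, hs, p', hp'⟩ := hb i hi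
      refine ⟨s, hs, (p' : M), (hNmem Y _).1 p'.2, ?_⟩
      have := congrArg (Subtype.val : ↥(N Y) → M) hp'
      simpa using this
  rw [eq_top_iff]
  intro x _
  obtain ⟨m, rfl⟩ := Submodule.mkQ_surjective _ x
  obtain ⟨x', hx', y', hy', rfl⟩ := core hπ htf' Y Z hY' hZ' m
  rw [map_add]
  exact Submodule.add_mem_sup ((hKmem Z x').2 hx') ((hKmem Zᶜ y').2 hy')

end Groth.Agent.S18365
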