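import Groth.Statements.S18397
import Groth.Agent.R2.H90FrobContract
import Groth.Agent.R2.H90FrobContractLoc

set_option autoImplicit false
universe u
open LVCorr

namespace Groth.Agent.S18397

open AlgebraicGeometry CategoryTheory CategoryTheory.Limits in
/-- Let k₀ be a finite field with p^e elements, K an algebraic closure of k₀, C₀ a scheme locally of
finite type over k₀, C = C₀ ×_{k₀} Spec K with its projections, and Fr : C → C the n-th power of the
geometric Frobenius (over K, compatible with the (e·n)-th power of the absolute p-Frobenius of C₀).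
Let X be locally of finite type over K and c₁, c₂ : C → X morphisms over K with c₂ quasi-finite, and
let d < p^(e n) be such that for every closed point x of X, with J_x the inverse image under c₂ of
the ideal sheaf of the reduced point x, one has (√J_x)^d ⊂ J_x (d bounds the ramification of c₂).
Then the twisted correspondence (c₁ ∘ Fr, c₂) is contracting near every closed point in a
neighbourhood of its fixed points: for every closed point x of X there is an open subset W of C
containing every point of C whose image under (c₁ ∘ Fr, c₂) : C → X ×_K X lies in the diagonal, such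
that, writing L and J for the inverse image ideal sheaves on W of the ideal of x under c₁ ∘ Fr and
under c₂, one has L ⊂ J and L^k ⊂ J^(k+1) for some k. (In the source the correspondence is defined
over k₀ and the twist is written with the geometric Frobenius of X.) -/
theorem result {C C₀ X : Scheme.{u}}
    (p : ℕ) [Fact p.Prime] (k₀ : Type u) [Field k₀] [Fintype k₀] [CharP k₀ p] (e : ℕ)
    (hq : Fintype.card k₀ = p ^ e) (K : Type u) [Field K] [Algebra k₀ K] [IsAlgClosure k₀ K]
    (f₀ : C₀ ⟶ Spec (CommRingCat.of k₀)) [LocallyOfFiniteType f₀] [FrobSch.IsCharP C₀ p]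
    (πC₀ : C ⟶ C₀) (πK : C ⟶ Spec (CommRingCat.of K))
    (hC : IsPullback πC₀ πK f₀ (Spec.map (CommRingCat.ofHom (algebraMap k₀ K))))
    (n : ℕ) (Fr : C ⟶ C)
    (hFr₀ : Fr ≫ πC₀ = πC₀ ≫ End.asHom (End.of (FrobSch.frob C₀ p) ^ (e * n)))
    (hFrK : Fr ≫ πK = πK)
    (pX : X ⟶ Spec (CommRingCat.of K)) [LocallyOfFiniteType pX]
    (c₁ c₂ : C ⟶ X) (hc₁ : c₁ ≫ pX = πK) (hc₂ : c₂ ≫ pX = πK)
    [LocallyQuasiFinite c₂] [LocallyOfFiniteType c₂]
    (hcomm : (Fr ≫ c₁) ≫ pX = c₂ ≫ pX) (d : ℕ) (hn : d < p ^ (e * n))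
    (hd : ∀ (x : X) (hx : IsClosed ({x} : Set X)),
      ((Scheme.IdealSheafData.vanishingIdeal ⟨{x}, hx⟩).comap c₂).radical ^ d ≤
        (Scheme.IdealSheafData.vanishingIdeal ⟨{x}, hx⟩).comap c₂)
    (x : X) (hx : IsClosed ({x} : Set X)) :
    ∃ W : C.Opens,
      (pullback.lift (Fr ≫ c₁) c₂ hcomm).base ⁻¹' Set.range (pullback.diagonal pX).base ⊆ (W : Set C) ∧
      (Scheme.IdealSheafData.vanishingIdeal ⟨{x}, hx⟩).comap (W.ι ≫ Fr ≫ c₁) ≤
        (Scheme.IdealSheafData.vanishingIdeal ⟨{x}, hx⟩).comap (W.ι ≫ c₂) ∧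
      ∃ k : ℕ, (Scheme.IdealSheafData.vanishingIdeal ⟨{x}, hx⟩).comap (W.ι ≫ Fr ≫ c₁) ^ k ≤
        (Scheme.IdealSheafData.vanishingIdeal ⟨{x}, hx⟩).comap (W.ι ≫ c₂) ^ (k + 1) := by
  have hK : IsAlgClosed K := IsAlgClosure.isAlgClosed k₀
  have hperf : ∀ l : K, ∃ m : K, m ^ (p ^ (e * n)) = l := fun l =>
    IsAlgClosed.exists_pow_nat_eq l (pow_pos (Fact.out : p.Prime).pos _)
  let T : Set C := {y | c₂ y = x ∧ c₁ (Fr y) ≠ x}
  have hTc : IsClosed T :=
    Groth.Agent.R2.H90.FrobContractLoc.isClosed_of_subset_of_isDiscrete (F := c₂ ⁻¹' {x})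
      (hx.preimage c₂.continuous) (c₂.isDiscrete_preimage_singleton x) (fun y hy => hy.1)
  let W : C.Opens := ⟨Tᶜ, hTc.isOpen_compl⟩
  have hW : ∀ y : C, y ∈ W → c₂ y = x → c₁ (Fr y) = x := fun y hy h2 => by
    by_contra h3
    exact hy ⟨h2, h3⟩
  refine ⟨W, ?_, ?_⟩
  · rintro y ⟨z, hz⟩
    intro hy
    have e1 : pullback.fst pX pX (pullback.diagonal pX z) = z := by
      rw [← Scheme.Hom.comp_apply, pullback.diagonal_fst]; rfl
    have e2 : pullback.snd pX pX (pullback.diagonal pX z) = z := by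
      rw [← Scheme.Hom.comp_apply, pullback.diagonal_snd]; rfl
    have e3 : pullback.fst pX pX (pullback.lift (Fr ≫ c₁) c₂ hcomm y) = c₁ (Fr y) := by
      rw [← Scheme.Hom.comp_apply, pullback.lift_fst, Scheme.Hom.comp_apply]
    have e4 : pullback.snd pX pX (pullback.lift (Fr ≫ c₁) c₂ hcomm y) = c₂ y := by
      rw [← Scheme.Hom.comp_apply, pullback.lift_snd]
    have hz' : pullback.diagonal pX z = pullback.lift (Fr ≫ c₁) c₂ hcomm y := hz
    rw [hz'] at e1 e2
    apply hy.2
    rw [← e3, e1, ← e2, e4, hy.1]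
  · have hd' : ((Scheme.IdealSheafData.vanishingIdeal ⟨{x}, hx⟩).comap (W.ι ≫ c₂)).radical ^ d ≤
        (Scheme.IdealSheafData.vanishingIdeal ⟨{x}, hx⟩).comap (W.ι ≫ c₂) := by
      rw [Scheme.IdealSheafData.comap_comp,
        Groth.Agent.R2.H90.FrobContractLoc.comap_radical_of_isOpenImmersion,
        ← Groth.Agent.R2.H90.FrobContractLoc.comap_pow_of_isOpenImmersion]
      exact Scheme.IdealSheafData.comap_mono _ (hd x hx)
    have hsupp : ((Scheme.IdealSheafData.vanishingIdeal ⟨{x}, hx⟩).comap (W.ι ≫ c₂)).support ≤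
        ((Scheme.IdealSheafData.vanishingIdeal ⟨{x}, hx⟩).comap (W.ι ≫ Fr ≫ c₁)).support := by
      rw [Scheme.IdealSheafData.support_comap, Scheme.IdealSheafData.support_comap]
      intro w hw
      have hw' : (W.ι ≫ c₂) w ∈
          ((Scheme.IdealSheafData.vanishingIdeal ⟨{x}, hx⟩).support : Set X) := hw
      rw [Scheme.IdealSheafData.coe_support_vanishingIdeal] at hw'
      change (W.ι ≫ Fr ≫ c₁) w ∈
          ((Scheme.IdealSheafData.vanishingIdeal ⟨{x}, hx⟩).support : Set X)
      rw [Scheme.IdealSheafData.coe_support_vanishingIdeal]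
      have h5 : c₂ (W.ι w) = x := hw'
      have h6 : W.ι w ∈ W := w.2
      exact hW (W.ι w) h6 h5
    obtain ⟨h2, h3⟩ := Groth.Agent.R2.H90.FrobContract.contracting p hC hFr₀ hFrK hperf W.ι c₁ c₂
      (Scheme.IdealSheafData.vanishingIdeal ⟨{x}, hx⟩) d hd' hn hsupp
    exact ⟨h2, d, h3⟩

end Groth.Agent.S18397
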