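import Groth.Statements.S18416
import Groth.Agent.R2.H77EtaleQuotA
import Groth.Agent.R2.H77EtaleQuotB

set_option autoImplicit false
universe u v w
open CAlg

namespace Groth.Agent.S18416

/-- Let R → C and C → B be smooth ring homomorphisms, J an ideal of B and K the preimage of J in C, and
suppose that C surjects onto A = B/J (so that C/K = B/J = A). Then for every prime x of A there
exist f ∈ B whose image in A does not lie in x and an ideal J₀ of B_f contained in J B_f such that
the composite C → B_f → B_f/J₀ is étale. -/
theorem result (R : Type u) (C : Type v) (B : Type w)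
    [CommRing R] [CommRing C] [CommRing B] [Algebra R C] [Algebra C B] [Algebra R B] [IsScalarTower R C B]
    [Algebra.Smooth R C] [Algebra.Smooth C B] (J : Ideal B)
    (hsurj : Function.Surjective ((Ideal.Quotient.mk J).comp (algebraMap C B)))
    (x : PrimeSpectrum (B ⧸ J)) :
    ∃ f : B, Ideal.Quotient.mk J f ∉ x.asIdeal ∧
      ∃ J₀ : Ideal (Localization.Away f), J₀ ≤ J.map (algebraMap B (Localization.Away f)) ∧
        ((Ideal.Quotient.mk J₀).comp ((algebraMap B (Localization.Away f)).comp (algebraMap C B))).Etale := by
  haveI : (x.asIdeal.comap (Ideal.Quotient.mk J)).IsPrime := Ideal.comap_isPrime _ _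
  obtain ⟨g, hg, κ, hκ, a, b, hb⟩ :=
    Groth.Agent.R2.H77.EtaleQuotA.exists_basis_away (C := C) J hsurj
      (x.asIdeal.comap (Ideal.Quotient.mk J))
  refine ⟨g, fun h => hg (Ideal.mem_comap.mpr h), ?_⟩
  let a' : κ → Localization.Away g := fun i => algebraMap B (Localization.Away g) (a i : B)
  refine ⟨Ideal.span (Set.range a'), ?_, ?_⟩
  · refine Ideal.span_le.mpr ?_
    rintro - ⟨i, rfl⟩
    exact Ideal.mem_map_of_mem _ (a i).2
  · haveI : Algebra.Smooth B (Localization.Away g) := Algebra.Smooth.of_isLocalization_Away g
    haveI : Algebra.Smooth C (Localization.Away g) := Algebra.Smooth.comp C B (Localization.Away g)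
    have het : Algebra.Etale C (Localization.Away g ⧸ Ideal.span (Set.range a')) :=
      Groth.Agent.R2.H77.EtaleQuotB.etale_quotient (C := C) a' b hb
    have hcomp : (Ideal.Quotient.mk (Ideal.span (Set.range a'))).comp
        ((algebraMap B (Localization.Away g)).comp (algebraMap C B)) =
        algebraMap C (Localization.Away g ⧸ Ideal.span (Set.range a')) := by
      ext c
      rfl
    rw [hcomp]
    exact RingHom.etale_algebraMap.mpr het

end Groth.Agent.S18416
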