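import Groth.Statements.S18417
import Groth.Agent.R2.H39TruncPoly

set_option autoImplicit false
universe u v
open CAlg

namespace Groth.Agent.S18417

/-- Let R → A be a ring homomorphism and x_1, …, x_d a weakly regular sequence in A generating an ideal
J such that B = A/J is formally smooth over R. Then for every N ≥ 1 there is an isomorphism of
R-algebras e : A/J^N ≅ B[T_1, …, T_d]/(T_1, …, T_d)^N which sends the class of x_i to the class of
T_i and which is compatible with the projections to B: for every a ∈ A, e(a mod J^N) is congruent to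
the constant a mod J modulo the ideal generated by the variables. (The source also assumes R → A
smooth, which its argument does not use, and a regular sequence; weak regularity is what the
argument uses.) -/
theorem result
    (R : Type u) (A : Type v) [CommRing R] [CommRing A] [Algebra R A] (d : ℕ) (x : Fin d → A)
    (hreg : RingTheory.Sequence.IsWeaklyRegular A (List.ofFn x))
    [Algebra.FormallySmooth R (A ⧸ Ideal.span (Set.range x))] (N : ℕ) (hN : 1 ≤ N) :
    ∃ e : (A ⧸ Ideal.span (Set.range x) ^ N) ≃ₐ[R]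
        (MvPolynomial (Fin d) (A ⧸ Ideal.span (Set.range x)) ⧸
          Ideal.span (Set.range (MvPolynomial.X : Fin d → MvPolynomial (Fin d) (A ⧸ Ideal.span (Set.range x)))) ^ N),
      (∀ i : Fin d, e (Ideal.Quotient.mk _ (x i)) = Ideal.Quotient.mk _ (MvPolynomial.X i)) ∧
      ∀ a : A, e (Ideal.Quotient.mk _ a) - Ideal.Quotient.mk _ (MvPolynomial.C (Ideal.Quotient.mk _ a)) ∈
        (Ideal.span (Set.range (MvPolynomial.X : Fin d → MvPolynomial (Fin d) (A ⧸ Ideal.span (Set.range x))))).map
          (Ideal.Quotient.mk _) := by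
  classical
  have hN0 : N ≠ 0 := by omega
  -- the section
  let π : (A ⧸ Ideal.span (Set.range x) ^ N) →ₐ[R] (A ⧸ Ideal.span (Set.range x)) :=
    Ideal.Quotient.factorₐ R (Ideal.pow_le_self hN0)
  have hπsurj : Function.Surjective π := by
    intro b
    obtain ⟨a, rfl⟩ := Ideal.Quotient.mk_surjective b
    exact ⟨Ideal.Quotient.mk _ a, rfl⟩
  have hπnil : IsNilpotent (RingHom.ker π.toRingHom) := by
    refine ⟨N, ?_⟩
    rw [Ideal.zero_eq_bot, ← le_bot_iff, ← Groth.Agent.R2.H39.TruncPoly.Jbar_pow_N x N]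
    refine Ideal.pow_right_mono (fun y hy => ?_) N
    exact Groth.Agent.R2.H39.TruncPoly.mem_Jbar_of_factor_eq_zero x N hN0 y hy
  let σ : (A ⧸ Ideal.span (Set.range x)) →ₐ[R] (A ⧸ Ideal.span (Set.range x) ^ N) :=
    Algebra.FormallySmooth.liftOfSurjective (AlgHom.id R _) π hπsurj hπnil
  have hσ : ∀ b, Ideal.Quotient.factor (Ideal.pow_le_self hN0) (σ b) = b := fun b =>
    Algebra.FormallySmooth.liftOfSurjective_apply (AlgHom.id R _) π hπsurj hπnil b
  -- the comparison map
  let Φ := Groth.Agent.R2.H39.TruncPoly.Phi x N σ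
  have hker : ∀ p ∈ Ideal.span (Set.range (MvPolynomial.X : Fin d →
      MvPolynomial (Fin d) (A ⧸ Ideal.span (Set.range x)))) ^ N, Φ p = 0 := fun p hp =>
    (Groth.Agent.R2.H39.TruncPoly.Phi_eq_zero_iff x N σ hN0 hσ hreg p).mpr hp
  let Φbar := Ideal.Quotient.liftₐ _ Φ hker
  have hΦbar : ∀ p, Φbar (Ideal.Quotient.mk _ p) = Φ p := fun p => rfl
  have hbij : Function.Bijective Φbar := by
    constructor
    · rw [injective_iff_map_eq_zero]
      intro y hy
      obtain ⟨p, rfl⟩ := Ideal.Quotient.mk_surjective y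
      rw [hΦbar] at hy
      exact Ideal.Quotient.eq_zero_iff_mem.mpr
        ((Groth.Agent.R2.H39.TruncPoly.Phi_eq_zero_iff x N σ hN0 hσ hreg p).mp hy)
    · intro y
      obtain ⟨p, hp⟩ := Groth.Agent.R2.H39.TruncPoly.Phi_surjective x N σ hN0 hσ y
      exact ⟨Ideal.Quotient.mk _ p, hp⟩
  let e0 := AlgEquiv.ofBijective Φbar hbij
  refine ⟨e0.symm, fun i => ?_, fun a => ?_⟩
  · rw [AlgEquiv.symm_apply_eq]
    have h0 : e0 (Ideal.Quotient.mk _ (MvPolynomial.X i)) = Φbar (Ideal.Quotient.mk _ (MvPolynomial.X i)) := rfl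
    rw [h0, hΦbar]
    exact (Groth.Agent.R2.H39.TruncPoly.Phi_X x N σ i).symm
  · obtain ⟨p, hp⟩ := Ideal.Quotient.mk_surjective (e0.symm (Ideal.Quotient.mk _ a))
    have hΦp : Φ p = Ideal.Quotient.mk _ a := by
      have : e0 (e0.symm (Ideal.Quotient.mk _ a)) = Ideal.Quotient.mk _ a :=
        e0.apply_symm_apply _
      rw [← hp] at this
      exact this
    have hcc : MvPolynomial.constantCoeff p = Ideal.Quotient.mk _ a := by
      rw [← Groth.Agent.R2.H39.TruncPoly.factor_Phi x N σ hN0 hσ p]
      change Ideal.Quotient.factor _ (Φ p) = _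
      rw [hΦp, Ideal.Quotient.factor_mk]
    rw [← hp, ← map_sub]
    refine Ideal.mem_map_of_mem _ ?_
    have h1 : (Ideal.span (Set.range (MvPolynomial.X : Fin d →
        MvPolynomial (Fin d) (A ⧸ Ideal.span (Set.range x))))) =
        MvPolynomial.idealOfVars (Fin d) (A ⧸ Ideal.span (Set.range x)) ^ 1 := by
      rw [pow_one]
    rw [h1, MvPolynomial.mem_pow_idealOfVars_iff']
    intro α hα
    have hα0 : α = 0 := by
      rw [← Finsupp.degree_eq_zero_iff]; omega
    subst hα0
    rw [MvPolynomial.coeff_sub, MvPolynomial.coeff_C, if_pos rfl, ← MvPolynomial.constantCoeff_eq,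
      hcc, sub_self]

end Groth.Agent.S18417
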