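import Groth.Statements.S18427
import Groth.Agent.R2.H34GeomConnH0
import Groth.Agent.R2.H40SteinFact
import Groth.Agent.R2.H64SteinST0

set_option autoImplicit false
universe u
open Models

namespace Groth.Agent.S18427

open CategoryTheory AlgebraicGeometry in
/-- Let R be a discrete valuation ring with fraction field K, C a smooth proper geometrically connected
curve over K, and X a regular proper model of C over R (flat and proper over R, regular, with
generic fibre C). Then the structure morphism X → Spec R has geometrically connected fibres; in
particular the special fibre of X is geometrically connected over the residue field of R. -/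
theorem result (R : Type u) [CommRing R] [IsDomain R]
    [IsDiscreteValuationRing R] (C X : Scheme.{u})
    (f : C ⟶ Spec (CommRingCat.of (FractionRing R))) (p : X ⟶ Spec (CommRingCat.of R))
    (hC : Curve.IsSmoothProperCurve (FractionRing R) C f) [GeometricallyConnected f]
    (hX : Models.IsRegularProperModel R X p C f) :
    GeometricallyConnected p := by
  obtain ⟨hfp, hsm, hint, -⟩ := hC
  obtain ⟨⟨hflat, -, -, g, hsq⟩, hprop, -⟩ := hX
  haveI := hfp
  haveI := hsm
  haveI := hint
  haveI := hflat
  haveI := hprop
  haveI : GeometricallyReduced f := Groth.Agent.R2.H34.GeomConnH0.geometricallyReduced_of_smooth f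
  have hH0 : IsIso f.appTop :=
    Groth.Agent.R2.H34.GeomConnH0.isIso_appTop_of_geomConnected_of_geomReduced (FractionRing R) f
  have hfin : p.appTop.hom.Finite :=
    Groth.Agent.R2.H40.SteinFact.finite_app_of_isProper p ⊤ (isAffineOpen_top _)
  exact Groth.Agent.R2.H34.GeomConnH0.geometricallyConnected_of_model
    Groth.Agent.R2.H64.SteinST0.st0 R p f g hsq hH0 hfin

end Groth.Agent.S18427
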