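import Groth.Statements.S18435
import Groth.Agent.R2.H90PolyNode

set_option autoImplicit false
universe u
open SpinCurv

namespace Groth.Agent.S18435

/-- Let k be a field and A = k[x, y]/(xy) the node, with the two affine charts U = Spec k[s, y]/(sy) and
V = Spec k[t, x]/(tx) of the curve obtained by the (p, q)-construction with p = q = 0, glued along
k[s, s⁻¹] by t = s⁻¹ (y ↦ 0 from U, x ↦ 0 from V), and with A → O(U) given by x ↦ 0, y ↦ y and A →
O(V) by x ↦ x, y ↦ 0. A global section of O(1) is a pair (g, f) with g = s f on U ∩ V. If such a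
pair is annihilated by both x and y (acting through the two restriction maps), then g = 0 and f = 0;
so the module of global sections of O(1) has no nonzero element killed by the maximal ideal (x, y),
i.e. its direct image on the node is torsion-free there. All three coordinate rings are written as
the quotient of the polynomial ring in two variables by the product of the variables, and the four
restriction homomorphisms are k-algebra maps pinned by their values on generators. (The published
proof reduces the torsion-freeness of the direct image of O(1), for general R, p, q, to exactly this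
case of a field with p = q = 0.) -/
theorem result (k : Type u) [Field k]
    (rU : SpinCurv.PolyNodeRing k 0 →ₐ[k] SpinCurv.PolyNodeRing k 0)
    (hrUx : rU (SpinCurv.PolyNodeRing.x k 0) = 0)
    (hrUy : rU (SpinCurv.PolyNodeRing.y k 0) = SpinCurv.PolyNodeRing.y k 0)
    (rV : SpinCurv.PolyNodeRing k 0 →ₐ[k] SpinCurv.PolyNodeRing k 0)
    (hrVx : rV (SpinCurv.PolyNodeRing.x k 0) = SpinCurv.PolyNodeRing.y k 0)
    (hrVy : rV (SpinCurv.PolyNodeRing.y k 0) = 0)
    (gU : SpinCurv.PolyNodeRing k 0 →ₐ[k] LaurentPolynomial k)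
    (hgUs : gU (SpinCurv.PolyNodeRing.x k 0) = LaurentPolynomial.T 1)
    (hgUy : gU (SpinCurv.PolyNodeRing.y k 0) = 0)
    (gV : SpinCurv.PolyNodeRing k 0 →ₐ[k] LaurentPolynomial k)
    (hgVt : gV (SpinCurv.PolyNodeRing.x k 0) = LaurentPolynomial.T (-1))
    (hgVx : gV (SpinCurv.PolyNodeRing.y k 0) = 0)
    (g f : SpinCurv.PolyNodeRing k 0) (hsec : gU g = LaurentPolynomial.T 1 * gV f)
    (hx : rU (SpinCurv.PolyNodeRing.x k 0) * g = 0 ∧ rV (SpinCurv.PolyNodeRing.x k 0) * f = 0)
    (hy : rU (SpinCurv.PolyNodeRing.y k 0) * g = 0 ∧ rV (SpinCurv.PolyNodeRing.y k 0) * f = 0) :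
    g = 0 ∧ f = 0 := by
  classical
  have hgU' : gU = Groth.Agent.R2.H90.PolyNode.phi1 k 0 :=
    Groth.Agent.R2.H90.PolyNode.eq_phi1 k 0 gU hgUs (by rw [hgUy, map_zero, zero_mul])
  have hgV' : gV = Groth.Agent.R2.H90.PolyNode.phiInv k 0 :=
    Groth.Agent.R2.H90.PolyNode.eq_phiInv k 0 gV hgVt (by rw [hgVx, map_zero, zero_mul])
  -- `y * g = 0` and `y * f = 0`
  have hyg : SpinCurv.PolyNodeRing.y k 0 * g = 0 := by rw [← hrUy]; exact hy.1
  have hyf : SpinCurv.PolyNodeRing.y k 0 * f = 0 := by rw [← hrVx]; exact hx.2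
  have hg0 : ∀ j : ℤ, j ≤ 0 → Groth.Agent.R2.H90.PolyNode.coord k 0 j g = 0 := by
    intro j hj
    have := Groth.Agent.R2.H90.PolyNode.coord_y_mul k 0 (j - 1) g
    rw [hyg, map_zero, sub_add_cancel, if_pos hj, one_mul] at this
    exact this.symm
  have hf0 : ∀ j : ℤ, j ≤ 0 → Groth.Agent.R2.H90.PolyNode.coord k 0 j f = 0 := by
    intro j hj
    have := Groth.Agent.R2.H90.PolyNode.coord_y_mul k 0 (j - 1) f
    rw [hyf, map_zero, sub_add_cancel, if_pos hj, one_mul] at this
    exact this.symm
  have hcoef : ∀ j : ℤ, (0 : k) ^ (-j).toNat * Groth.Agent.R2.H90.PolyNode.coord k 0 j g =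
      (0 : k) ^ (j - 1).toNat * Groth.Agent.R2.H90.PolyNode.coord k 0 (1 - j) f := by
    intro j
    have : (gU g).coeff j = (LaurentPolynomial.T 1 * gV f).coeff j := by rw [hsec]
    rw [hgU', hgV', Groth.Agent.R2.H90.PolyNode.coeff_T_mul,
      Groth.Agent.R2.H90.PolyNode.phi1_coeff, Groth.Agent.R2.H90.PolyNode.phiInv_coeff] at this
    rw [this, show -(j - 1) = 1 - j by omega]
  constructor
  · apply Groth.Agent.R2.H90.PolyNode.ext_coord
    intro j
    refine Eq.trans ?_ (map_zero (Groth.Agent.R2.H90.PolyNode.coord k 0 j)).symm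
    by_cases hj : j ≤ 0
    · exact hg0 j hj
    · have h1 := hcoef j
      have h2 : (-j).toNat = 0 := by omega
      rw [h2, pow_zero, one_mul, hf0 (1 - j) (by omega), mul_zero] at h1
      exact h1
  · apply Groth.Agent.R2.H90.PolyNode.ext_coord
    intro j
    refine Eq.trans ?_ (map_zero (Groth.Agent.R2.H90.PolyNode.coord k 0 j)).symm
    by_cases hj : j ≤ 0
    · exact hf0 j hj
    · have h1 := hcoef (1 - j)
      have h2 : (1 - j - 1).toNat = 0 := by omega
      rw [h2, pow_zero, one_mul, hg0 (1 - j) (by omega), mul_zero, sub_sub_cancel] at h1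
      exact h1.symm

end Groth.Agent.S18435
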