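import Groth.Statements.S18476
import Groth.Agent.R2.H90Weierstrass

set_option autoImplicit false
universe u
open FmlGrp

namespace Groth.Agent.S18476

/-- Let O be a complete discrete valuation ring whose maximal ideal m contains the prime number p, and
let F be a one-dimensional formal group law over O, with multiplication-by-p series f = [p]_F(X) = X
+_F ⋯ +_F X ∈ O[[X]]. Then f has a coefficient outside m (f is not ≡ 0 mod m) if and only if F is
p-divisible in the sense that O[[X]] is free of finite rank over itself through the substitution
endomorphism X ↦ f: there are finitely many power series b_1, …, b_n such that every power series g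
can be written uniquely as Σ_i c_i(f(X))·b_i. (The published statement asserts instead that F is
p-divisible iff F does not reduce to X + Y modulo m; that is false — over the p-adic integers the
law φ⁻¹(φ(X) + φ(Y)) with φ = X + X^{p+1} is not congruent to X + Y modulo p, yet its
multiplication-by-p series φ⁻¹(pφ(X)) vanishes modulo p — and the printed proof establishes exactly
the criterion on f stated here.) The published setting is the valuation ring of a finite extension
of ℚ_p; the argument uses only that O is a complete discrete valuation ring with p in its maximal
ideal. -/
theorem result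
    (O : Type u) [CommRing O] [IsDomain O] [IsDiscreteValuationRing O]
    [IsAdicComplete (IsLocalRing.maximalIdeal O) O]
    (p : ℕ) [Fact p.Prime] (hp : (p : O) ∈ IsLocalRing.maximalIdeal O)
    (F : FormalGroup O) :
    (∃ n : ℕ, PowerSeries.coeff n
        ((p • (show F.Point Unit from ⟨PowerSeries.X, PowerSeries.HasSubst.X'⟩)).val) ∉
          IsLocalRing.maximalIdeal O) ↔
      ∃ (n : ℕ) (b : Fin n → PowerSeries O), ∀ g : PowerSeries O, ∃! c : Fin n → PowerSeries O,
        g = ∑ i, PowerSeries.subst
          ((p • (show F.Point Unit from ⟨PowerSeries.X, PowerSeries.HasSubst.X'⟩)).val) (c i) * b i := by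
  set f : PowerSeries O :=
    (p • (show F.Point Unit from ⟨PowerSeries.X, PowerSeries.HasSubst.X'⟩)).val with hfdef
  have hf : PowerSeries.HasSubst f :=
    (p • (show F.Point Unit from ⟨PowerSeries.X, PowerSeries.HasSubst.X'⟩)).prop
  have hf0 : PowerSeries.constantCoeff f = 0 := by
    have h1 : IsNilpotent (PowerSeries.constantCoeff f) := hf
    exact h1.eq_zero
  constructor
  · rintro ⟨n, hn⟩
    have hres : f.map (IsLocalRing.residue O) ≠ 0 := by
      intro h0
      apply hn
      have := congrArg (PowerSeries.coeff n) h0
      rw [PowerSeries.coeff_map, map_zero] at this
      exact (IsLocalRing.residue_eq_zero_iff _).mp this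
    exact Groth.Agent.R2.H90.Weierstrass.exists_free_basis f hf hres hf0
  · rintro ⟨n, b, hb⟩
    by_contra hcon
    push Not at hcon
    have hres0 : f.map (IsLocalRing.residue O) = 0 := by
      ext n
      rw [PowerSeries.coeff_map, map_zero]
      exact (IsLocalRing.residue_eq_zero_iff _).mpr (hcon n)
    exact Groth.Agent.R2.H90.Weierstrass.not_exists_free_basis f hf hres0
      ⟨n, b, fun g => (hb g).exists⟩

end Groth.Agent.S18476
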