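import Groth.Statements.S18526
import Groth.Agent.R2.H60ParHilb

set_option autoImplicit false
universe u
open CategoryTheory CategoryTheory.Limits AlgebraicGeometry Polynomial
open ParSh

namespace Groth.Agent.S18526

/-- Let X be a scheme proper over a field k with an ample invertible sheaf L, and E a coherent
O_X-module with a finite weighted filtration 𝓔 by coherent sub-modules E = E₀ ⊇ E₁ ⊇ ⋯ ⊇ E_l ⊇
E_{l+1} = B, B coherent, with weights 0 ≤ w₀ < ⋯ < w_l < 1 and w_{l+1} := 1. Let P be the Hilbert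
polynomial of E with respect to L and, for 1 ≤ j ≤ l+1, H_j the Hilbert polynomial of the quotient
E/E_j. Then for every natural number m the parabolic Hilbert function χ(B(m)) + Σ_{j ≤ l} w_j
(χ(E_j(m)) − χ(E_{j+1}(m))) equals P(m) − Σ_{j=1}^{l+1} (w_j − w_{j−1}) H_j(m). The published
statement is for a parabolic sheaf along effective Cartier divisors on a projective scheme over an
algebraically closed field (B = E(−D)), averaged over several divisors; the identity holds for each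
weighted filtration separately. -/
theorem result (k : Type u) [Field k] (X : Scheme.{u})
    [X.Over (Spec (CommRingCat.of k))] [IsProper (X ↘ Spec (CommRingCat.of k))]
    (L : X.Modules) (hL : CohB1.IsAmple L) (E : X.Modules) (hE : Coh.IsCoh E) (𝓔 : ParSh.Str E)
    (hcoh : ∀ j, Coh.IsCoh ((𝓔.pieceX j : Subobject E) : X.Modules))
    (P : ℚ[X]) (hP : ShStab.IsHilbPoly k X L E P) (H : Fin (𝓔.l + 2) → ℚ[X])
    (hH : ∀ j, ShStab.IsHilbPoly k X L (cokernel (𝓔.pieceX j).arrow) (H j)) (m : ℕ) :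
    𝓔.parHilb k X L m =
      ((P.eval (m : ℚ) : ℚ) : ℝ) -
        ∑ j : Fin (𝓔.l + 1), (𝓔.wtX j.succ - 𝓔.wtX j.castSucc) * (((H j.succ).eval (m : ℚ) : ℚ) : ℝ) := by
  have key : ∀ j : Fin (𝓔.l + 2),
      ((Curv2.euler k X (ShStab.twist X L ((𝓔.pieceX j : Subobject E) : X.Modules) m) : ℤ) : ℝ) =
        ((P.eval (m : ℚ) : ℚ) : ℝ) - (((H j).eval (m : ℚ) : ℚ) : ℝ) :=
    fun j => Groth.Agent.R2.H60.ParHilb.euler_twist_sub k hL.1 hE (𝓔.pieceX j) (hcoh j) hP (hH j) m
  have htop : 𝓔.pieceX 0 = ⊤ := by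
    have h := 𝓔.pieceX_castSucc 0
    rw [Fin.castSucc_zero] at h
    rw [h, 𝓔.piece_zero]
  have h0 : (((H 0).eval (m : ℚ) : ℚ) : ℝ) = 0 := by
    rw [Groth.Agent.R2.H60.ParHilb.eval_eq_zero_of_top k htop (hH 0) m]
    simp
  have habel := Groth.Agent.R2.H60.ParHilb.abel_fin 𝓔.l 𝓔.wtX
    (fun j => (((H j).eval (m : ℚ) : ℚ) : ℝ)) ((P.eval (m : ℚ) : ℚ) : ℝ) h0 𝓔.wtX_last
  rw [← habel]
  unfold ParSh.Str.parHilb ParSh.Str.parSum
  beta_reduce
  rw [← 𝓔.pieceX_last, key]
  congr 1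
  refine Finset.sum_congr rfl fun j _ => ?_
  rw [← 𝓔.pieceX_castSucc j, key, key, 𝓔.wtX_castSucc]

end Groth.Agent.S18526
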