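import Groth.Statements.S18528
import Groth.Agent.R2.H60ParPoly

set_option autoImplicit false
universe u
open CategoryTheory CategoryTheory.Limits AlgebraicGeometry Polynomial
open ParSh

namespace Groth.Agent.S18528

/-- Reduced parabolic Hilbert polynomials versus parabolic slopes, for one test subsheaf. Let X be a
scheme proper over a field k with an ample invertible sheaf L, I the ideal of an effective Cartier
divisor D on X, and E a nonzero coherent O_X-module, pure of dimension d ≥ 1, with Supp E ∩ Supp D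
of topological Krull dimension less than d, carrying a finite weighted filtration 𝓔 along I by
coherent pieces E = E₀ ⊇ ⋯ ⊇ E_{l+1} = I·E with weights 0 ≤ w₀ < ⋯ < w_l < 1. Let P be the Hilbert
polynomial of E and P_j that of E_j. Let ι : W → E be a monomorphism from a coherent module W, give
W the induced filtration (pieces the preimages of the E_j, same weights) with Hilbert polynomials Q
of W and Q_j of its pieces, and write Par_E = P_{l+1} + Σ_j w_j (P_j − P_{j+1}), Par_W = Q_{l+1} +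
Σ_j w_j (Q_j − Q_{j+1}), α_d for d! times the coefficient of degree d. Then: (i) if Par_W(m)·α_d(P)
≤ Par_E(m)·α_d(Q) for all large natural numbers m, the coefficients of degree d − 1 satisfy
coeff(Par_W)·α_d(P) ≤ coeff(Par_E)·α_d(Q); (ii) if this coefficient inequality is strict, then
Par_W(m)·α_d(P) < Par_E(m)·α_d(Q) for all large m. With W running over the saturated nonzero proper
subsheaves this is the published implication: parabolic semistability for the reduced parabolic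
Hilbert polynomial implies parabolic slope-semistability, and parabolic slope-stability implies
stability for the reduced parabolic Hilbert polynomial. -/
theorem result (k : Type u) [Field k] (X : Scheme.{u})
    [X.Over (Spec (CommRingCat.of k))] [IsProper (X ↘ Spec (CommRingCat.of k))]
    (L : X.Modules) (hL : CohB1.IsAmple L) (I : X.IdealSheafData) (hD : FGA.IsEffCartier I)
    (E : X.Modules) (hE : Coh.IsCoh E) (h0 : ¬ IsZero E) (d : ℕ) (hd : 1 ≤ d)
    (hpure : ShStab.IsPure X E d) (𝓔 : ParSh.Str E) (h𝓔 : 𝓔.Along I)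
    (hcoh : ∀ j, Coh.IsCoh ((𝓔.pieceX j : Subobject E) : X.Modules))
    (hsupp : topologicalKrullDim ↥(CohB1.support E ∩ (I.support : Set X)) < (d : WithBot ℕ∞))
    (P : ℚ[X]) (hP : ShStab.IsHilbPoly k X L E P) (PX : Fin (𝓔.l + 2) → ℚ[X])
    (hPX : ∀ j, ShStab.IsHilbPoly k X L ((𝓔.pieceX j : Subobject E) : X.Modules) (PX j))
    {W : X.Modules} (ι : W ⟶ E) [Mono ι] (hW : Coh.IsCoh W)
    (Q : ℚ[X]) (hQ : ShStab.IsHilbPoly k X L W Q) (QX : Fin (𝓔.l + 2) → ℚ[X])
    (hQX : ∀ j, ShStab.IsHilbPoly k X L (((𝓔.induced ι).pieceX j : Subobject W) : X.Modules) (QX j)) :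
    ((∃ M : ℕ, ∀ m : ℕ, M ≤ m →
        (W4swparbununimod.parPoly (𝓔.induced ι) QX).eval (m : ℝ) * (StabCat.alpha d P : ℝ) ≤
          (W4swparbununimod.parPoly 𝓔 PX).eval (m : ℝ) * (StabCat.alpha d Q : ℝ)) →
      (W4swparbununimod.parPoly (𝓔.induced ι) QX).coeff (d - 1) * (StabCat.alpha d P : ℝ) ≤
        (W4swparbununimod.parPoly 𝓔 PX).coeff (d - 1) * (StabCat.alpha d Q : ℝ)) ∧
    ((W4swparbununimod.parPoly (𝓔.induced ι) QX).coeff (d - 1) * (StabCat.alpha d P : ℝ) <
        (W4swparbununimod.parPoly 𝓔 PX).coeff (d - 1) * (StabCat.alpha d Q : ℝ) →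
      ∃ M : ℕ, ∀ m : ℕ, M ≤ m →
        (W4swparbununimod.parPoly (𝓔.induced ι) QX).eval (m : ℝ) * (StabCat.alpha d P : ℝ) <
          (W4swparbununimod.parPoly 𝓔 PX).eval (m : ℝ) * (StabCat.alpha d Q : ℝ)) := by
  have hdimE : topologicalKrullDim (CohB1.support E) = (d : WithBot ℕ∞) :=
    hpure E (𝟙 E) inferInstance hE h0
  have hW_coh := fun j => Groth.Agent.R2.H60.ParPoly.isCoh_induced_pieceX k hE hW 𝓔 hcoh ι j
  have hdegPX : ∀ j n, d < n → (PX j).coeff n = 0 := fun j n hn =>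
    coeff_eq_zero_of_natDegree_lt (lt_of_le_of_lt
      (Groth.Agent.R2.H60.ParPoly.natDegree_le_of_mono k hL.1 (𝓔.pieceX j).arrow (hcoh j) hdimE.le (hPX j)) hn)
  have hdegQX : ∀ j n, d < n → (QX j).coeff n = 0 := fun j n hn => by
    have : Mono (((𝓔.induced ι).pieceX j).arrow ≫ ι) := mono_comp _ _
    exact coeff_eq_zero_of_natDegree_lt (lt_of_le_of_lt
      (Groth.Agent.R2.H60.ParPoly.natDegree_le_of_mono k hL.1 (((𝓔.induced ι).pieceX j).arrow ≫ ι)
        (hW_coh j) hdimE.le (hQX j)) hn)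
  obtain ⟨A, hA⟩ : ∃ A : ℝ[X], A = W4swparbununimod.parPoly (𝓔.induced ι) QX := ⟨_, rfl⟩
  obtain ⟨B, hB⟩ : ∃ B : ℝ[X], B = W4swparbununimod.parPoly 𝓔 PX := ⟨_, rfl⟩
  have hA_hi : ∀ n, d < n → A.coeff n = 0 := fun n hn => by
    rw [hA, Groth.Agent.R2.H60.ParPoly.parPoly_coeff_eq (𝓔.induced ι) QX n 0 (fun j => hdegQX j n hn)]
    simp
  have hB_hi : ∀ n, d < n → B.coeff n = 0 := fun n hn => by
    rw [hB, Groth.Agent.R2.H60.ParPoly.parPoly_coeff_eq 𝓔 PX n 0 (fun j => hdegPX j n hn)]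
    simp
  have hAd : A.coeff d = ((Q.coeff d : ℚ) : ℝ) := by
    rw [hA]
    exact Groth.Agent.R2.H60.ParPoly.parPoly_coeff_eq (𝓔.induced ι) QX d (Q.coeff d)
      (fun j => Groth.Agent.R2.H60.ParPoly.coeff_induced_pieceX k hL I hE 𝓔 h𝓔 hcoh hsupp hW ι hQ hQX j
        le_rfl)
  have hBd : B.coeff d = ((P.coeff d : ℚ) : ℝ) := by
    rw [hB]
    exact Groth.Agent.R2.H60.ParPoly.parPoly_coeff_eq 𝓔 PX d (P.coeff d)
      (fun j => Groth.Agent.R2.H60.ParPoly.coeff_pieceX k hL I hE 𝓔 h𝓔 hcoh hsupp hP hPX j le_rfl)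
  rw [← hA, ← hB]
  obtain ⟨a, ha⟩ : ∃ a : ℝ, a = (StabCat.alpha d P : ℝ) := ⟨_, rfl⟩
  obtain ⟨b, hb⟩ : ∃ b : ℝ, b = (StabCat.alpha d Q : ℝ) := ⟨_, rfl⟩
  rw [← ha, ← hb]
  obtain ⟨D, hD⟩ : ∃ D : ℝ[X], D = C b * B - C a * A := ⟨_, rfl⟩
  have hDc : ∀ n, D.coeff n = b * B.coeff n - a * A.coeff n := fun n => by
    rw [hD, coeff_sub, coeff_C_mul, coeff_C_mul]
  have hDe : ∀ x : ℝ, D.eval x = b * B.eval x - a * A.eval x := fun x => by
    rw [hD, eval_sub, eval_mul, eval_mul, eval_C, eval_C]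
  have hDdeg : D.natDegree ≤ d - 1 := by
    rw [natDegree_le_iff_coeff_eq_zero]
    intro N hN
    rw [hDc]
    rcases (show N = d ∨ d < N by omega) with h | h
    · rw [h, hAd, hBd, ha, hb]
      unfold StabCat.alpha
      push_cast
      ring
    · rw [hA_hi N h, hB_hi N h]
      ring
  constructor
  · rintro ⟨M, hM⟩
    by_contra hlt
    push Not at hlt
    have hpos : 0 < (-D).coeff (d - 1) := by
      rw [coeff_neg, hDc]
      linarith
    obtain ⟨M', hM'⟩ := Groth.Agent.R2.H60.ParPoly.eventually_pos_of_coeff_pos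
      (by rwa [natDegree_neg]) hpos
    have h1 := hM (max M M') (le_max_left _ _)
    have h2 := hM' (max M M') (le_max_right _ _)
    rw [eval_neg, hDe] at h2
    linarith
  · intro hlt
    have hpos : 0 < D.coeff (d - 1) := by
      rw [hDc]
      linarith
    obtain ⟨M, hM⟩ := Groth.Agent.R2.H60.ParPoly.eventually_pos_of_coeff_pos hDdeg hpos
    refine ⟨M, fun m hm => ?_⟩
    have h := hM m hm
    rw [hDe] at h
    linarith

end Groth.Agent.S18528
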