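import Groth.Statements.S18530
import Groth.Agent.R2.H60ParPoly

set_option autoImplicit false
universe u
open CategoryTheory CategoryTheory.Limits AlgebraicGeometry Polynomial
open ParSh

namespace Groth.Agent.S18530

/-- The two leading coefficients of the first modified parabolic Hilbert polynomial. Let X be a scheme
proper over a field k with an ample invertible sheaf L, I the ideal of an effective Cartier divisor
D on X, and E a coherent O_X-module with a finite weighted filtration 𝓔 along I by coherent pieces E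
= E₀ ⊇ ⋯ ⊇ E_{l+1} = I·E, weights 0 ≤ w₀ < ⋯ < w_l < 1 and w_{l+1} := 1. Let d ≥ 1 with Supp E ∩
Supp D of topological Krull dimension less than d, and let H_j be the Hilbert polynomial of E/E_j,
with α_{d−1}(H_j) ≠ 0 for 1 ≤ j ≤ l+1 (α_i(H) = i!·coefficient of degree i), the numerical type of
𝓔. Let ι : W → E be a monomorphism from a coherent module W, with induced filtration W_j = W ∩ E_j,
Q the Hilbert polynomial of W, Q_j that of W_j and K_j that of W/W_j. Then the first modified
parabolic polynomial par-P₁(W ⊂ E) := Q − Σ_{j=1}^{l+1} (w_j −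
w_{j−1})·(α_{d−1}(K_j)/α_{d−1}(H_j))·H_j and the parabolic polynomial par-P₀(W) := Q_{l+1} + Σ_{j ≤
l} w_j (Q_j − Q_{j+1}) have the same coefficient in degree d and the same coefficient in degree d −
1. The published statement adds the consequences that p₁-semistability implies parabolic
slope-semistability and parabolic slope-stability implies p₁-stability, which are not part of this
row. -/
theorem result (k : Type u) [Field k] (X : Scheme.{u})
    [X.Over (Spec (CommRingCat.of k))] [IsProper (X ↘ Spec (CommRingCat.of k))]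
    (L : X.Modules) (hL : CohB1.IsAmple L) (I : X.IdealSheafData) (hD : FGA.IsEffCartier I)
    (E : X.Modules) (hE : Coh.IsCoh E) (𝓔 : ParSh.Str E) (h𝓔 : 𝓔.Along I)
    (hcoh : ∀ j, Coh.IsCoh ((𝓔.pieceX j : Subobject E) : X.Modules)) (d : ℕ) (hd : 1 ≤ d)
    (hsupp : topologicalKrullDim ↥(CohB1.support E ∩ (I.support : Set X)) < (d : WithBot ℕ∞))
    (H : Fin (𝓔.l + 2) → ℚ[X]) (hH : ∀ j, ShStab.IsHilbPoly k X L (cokernel (𝓔.pieceX j).arrow) (H j))
    (hHa : ∀ j : Fin (𝓔.l + 1), StabCat.alpha (d - 1) (H j.succ) ≠ 0)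
    {W : X.Modules} (ι : W ⟶ E) [Mono ι] (hW : Coh.IsCoh W)
    (Q : ℚ[X]) (hQ : ShStab.IsHilbPoly k X L W Q) (QX : Fin (𝓔.l + 2) → ℚ[X])
    (hQX : ∀ j, ShStab.IsHilbPoly k X L (((𝓔.induced ι).pieceX j : Subobject W) : X.Modules) (QX j))
    (QH : Fin (𝓔.l + 2) → ℚ[X])
    (hQH : ∀ j, ShStab.IsHilbPoly k X L (cokernel ((𝓔.induced ι).pieceX j).arrow) (QH j)) :
    (W4swparbununimod.parPolyOne 𝓔 d Q QH H).coeff d = (W4swparbununimod.parPoly (𝓔.induced ι) QX).coeff d ∧
      (W4swparbununimod.parPolyOne 𝓔 d Q QH H).coeff (d - 1) =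
        (W4swparbununimod.parPoly (𝓔.induced ι) QX).coeff (d - 1) := by
  have hW_coh := fun j => Groth.Agent.R2.H60.ParPoly.isCoh_induced_pieceX k hE hW 𝓔 hcoh ι j
  have hQH' : ∀ j, QH j = Q - QX j := fun j =>
    Groth.Agent.R2.H60.StabGeom.isHilbPoly_unique k (hQH j)
      (Groth.Agent.R2.H60.ParPoly.isHilbPoly_cokernel k hL.1 hW _ (hW_coh j) hQ (hQX j))
  have hQX' : ∀ j, QX j = Q - QH j := fun j => by rw [hQH' j]; ring
  have hQH0 : QH 0 = 0 := by
    have htop : (𝓔.induced ι).pieceX 0 = ⊤ := by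
      have h := (𝓔.induced ι).pieceX_castSucc 0
      rw [Fin.castSucc_zero] at h
      rw [h, (𝓔.induced ι).piece_zero]
    have hz : IsZero (cokernel ((𝓔.induced ι).pieceX 0).arrow) := by
      rw [htop]
      exact isZero_cokernel_of_epi _
    exact Groth.Agent.R2.H60.StabGeom.isHilbPoly_unique k (hQH 0)
      (Groth.Agent.R2.H60.ParPoly.isHilbPoly_zero k hz)
  constructor
  · rw [Groth.Agent.R2.H60.ParPoly.parPoly_coeff_eq (𝓔.induced ι) QX d (Q.coeff d)
      (fun j => Groth.Agent.R2.H60.ParPoly.coeff_induced_pieceX k hL I hE 𝓔 h𝓔 hcoh hsupp hW ι hQ hQX j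
        le_rfl)]
    unfold W4swparbununimod.parPolyOne
    have hz : ∀ j : Fin (𝓔.l + 1), (H j.succ).coeff d = 0 := fun j =>
      Groth.Agent.R2.H60.ParPoly.coeff_quot_eq_zero k hL I hE 𝓔 h𝓔 hcoh hsupp j.succ (hH j.succ) le_rfl
    simp only [coeff_sub, finsetSum_coeff, coeff_C_mul, coeff_map, eq_ratCast, hz, Rat.cast_zero,
      mul_zero, Finset.sum_const_zero, sub_zero]
  · rw [Groth.Agent.R2.H60.ParPoly.parPoly_coeff_abel (𝓔.induced ι) QX QH Q hQX' (d - 1)
      ((congrArg (fun p : ℚ[X] => p.coeff (d - 1)) hQH0).trans (by simp))]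
    unfold W4swparbununimod.parPolyOne
    simp only [coeff_sub, finsetSum_coeff, coeff_C_mul, coeff_map, eq_ratCast]
    congr 1
    refine Finset.sum_congr rfl fun j _ => ?_
    have hne : (H j.succ).coeff (d - 1) ≠ 0 := by
      intro h0
      apply hHa j
      unfold StabCat.alpha
      rw [h0, mul_zero]
    have hfact : ((d - 1).factorial : ℚ) ≠ 0 := by positivity
    have e : (StabCat.alpha (d - 1) (QH j.succ) / StabCat.alpha (d - 1) (H j.succ)) *
        (H j.succ).coeff (d - 1) = (QH j.succ).coeff (d - 1) := by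
      unfold StabCat.alpha
      field_simp
    rw [mul_assoc, ← Rat.cast_mul, e]
    rfl

end Groth.Agent.S18530
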