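import Groth.Statements.S18532
import Groth.Agent.R2.H60ParPoly
import Groth.Agent.R2.H60ParLim

set_option autoImplicit false
universe u
open CategoryTheory CategoryTheory.Limits AlgebraicGeometry Polynomial
open ParSh

namespace Groth.Agent.S18532

/-- The comparison of the second and first modified parabolic Hilbert polynomials for one test subsheaf.
Let X be a scheme proper over a field k with an ample invertible sheaf L, I the ideal of an
effective Cartier divisor D on X, d ≥ 1, and E a nonzero coherent O_X-module, pure of dimension d,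
with Supp E ∩ Supp D of topological Krull dimension less than d, carrying a finite weighted
filtration 𝓔 along I by coherent pieces E = E₀ ⊇ ⋯ ⊇ E_{l+1} = I·E, weights 0 ≤ w₀ < ⋯ < w_l < 1,
w_{l+1} := 1. Let P be the Hilbert polynomial of E, P_j of E_j, H_j of E/E_j with α_{d−1}(H_j) ≠ 0
for 1 ≤ j ≤ l+1, and Par_E = P_{l+1} + Σ_j w_j (P_j − P_{j+1}). Let ι : W → E be a monomorphism from
a coherent module W with induced filtration W_j = W ∩ E_j, Q the Hilbert polynomial of W and K_j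
that of W/W_j; put par-P₁(W ⊂ E) = Q − Σ_{j=1}^{l+1} (w_j − w_{j−1})·(α_{d−1}(K_j)/α_{d−1}(H_j))·H_j
and par-P₂(W ⊂ E)(x, y) = Q(x) − Σ_{j=1}^{l+1} (w_j − w_{j−1})·(K_j(y)/H_j(y))·H_j(x). Then: (i) if
there is M such that for every m ≥ M there is N with par-P₂(W ⊂ E)(m, n)·P(n) ≤ Par_E(m)·Q(n) for
all n ≥ N, then par-P₁(W ⊂ E)(m)·α_d(P) ≤ Par_E(m)·α_d(Q) for all large m; (ii) if par-P₁(W ⊂
E)(m)·α_d(P) < Par_E(m)·α_d(Q) for all large m, then there is M such that for every m ≥ M there is N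
with par-P₂(W ⊂ E)(m, n)·P(n) < Par_E(m)·Q(n) for all n ≥ N. With W running over the nonzero
saturated (proper) sub-modules this is the published implication p₂-semistable ⇒ p₁-semistable,
p₁-stable ⇒ p₂-stable; the further implications to and from parabolic slope-(semi)stability in the
published statement are not part of this row. -/
theorem result (k : Type u) [Field k] (X : Scheme.{u})
    [X.Over (Spec (CommRingCat.of k))] [IsProper (X ↘ Spec (CommRingCat.of k))]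
    (L : X.Modules) (hL : CohB1.IsAmple L) (I : X.IdealSheafData) (hD : FGA.IsEffCartier I)
    (E : X.Modules) (hE : Coh.IsCoh E) (𝓔 : ParSh.Str E) (h𝓔 : 𝓔.Along I)
    (hcoh : ∀ j, Coh.IsCoh ((𝓔.pieceX j : Subobject E) : X.Modules)) (d : ℕ) (hd : 1 ≤ d)
    (hsupp : topologicalKrullDim ↥(CohB1.support E ∩ (I.support : Set X)) < (d : WithBot ℕ∞))
    (h0 : ¬ IsZero E) (hpure : ShStab.IsPure X E d)
    (P : ℚ[X]) (hP : ShStab.IsHilbPoly k X L E P) (PX : Fin (𝓔.l + 2) → ℚ[X])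
    (hPX : ∀ j, ShStab.IsHilbPoly k X L ((𝓔.pieceX j : Subobject E) : X.Modules) (PX j))
    (H : Fin (𝓔.l + 2) → ℚ[X]) (hH : ∀ j, ShStab.IsHilbPoly k X L (cokernel (𝓔.pieceX j).arrow) (H j))
    (hHa : ∀ j : Fin (𝓔.l + 1), StabCat.alpha (d - 1) (H j.succ) ≠ 0)
    {W : X.Modules} (ι : W ⟶ E) [Mono ι] (hW : Coh.IsCoh W)
    (Q : ℚ[X]) (hQ : ShStab.IsHilbPoly k X L W Q) (QH : Fin (𝓔.l + 2) → ℚ[X])
    (hQH : ∀ j, ShStab.IsHilbPoly k X L (cokernel ((𝓔.induced ι).pieceX j).arrow) (QH j)) :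
    ((∃ M : ℕ, ∀ m : ℕ, M ≤ m → ∃ N : ℕ, ∀ n : ℕ, N ≤ n →
        (((Q.eval (m : ℚ) : ℚ) : ℝ) -
            ∑ j : Fin (𝓔.l + 1), (𝓔.wtX j.succ - 𝓔.wtX j.castSucc) *
              ((((QH j.succ).eval (n : ℚ) / (H j.succ).eval (n : ℚ) : ℚ) : ℝ) * (((H j.succ).eval (m : ℚ) : ℚ) : ℝ))) *
          ((P.eval (n : ℚ) : ℚ) : ℝ) ≤
        (W4swparbununimod.parPoly 𝓔 PX).eval (m : ℝ) * ((Q.eval (n : ℚ) : ℚ) : ℝ)) →
      ∃ M : ℕ, ∀ m : ℕ, M ≤ m →
        (W4swparbununimod.parPolyOne 𝓔 d Q QH H).eval (m : ℝ) * (StabCat.alpha d P : ℝ) ≤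
          (W4swparbununimod.parPoly 𝓔 PX).eval (m : ℝ) * (StabCat.alpha d Q : ℝ)) ∧
    ((∃ M : ℕ, ∀ m : ℕ, M ≤ m →
        (W4swparbununimod.parPolyOne 𝓔 d Q QH H).eval (m : ℝ) * (StabCat.alpha d P : ℝ) <
          (W4swparbununimod.parPoly 𝓔 PX).eval (m : ℝ) * (StabCat.alpha d Q : ℝ)) →
      ∃ M : ℕ, ∀ m : ℕ, M ≤ m → ∃ N : ℕ, ∀ n : ℕ, N ≤ n →
        (((Q.eval (m : ℚ) : ℚ) : ℝ) -
            ∑ j : Fin (𝓔.l + 1), (𝓔.wtX j.succ - 𝓔.wtX j.castSucc) *
              ((((QH j.succ).eval (n : ℚ) / (H j.succ).eval (n : ℚ) : ℚ) : ℝ) * (((H j.succ).eval (m : ℚ) : ℚ) : ℝ))) *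
          ((P.eval (n : ℚ) : ℚ) : ℝ) <
        (W4swparbununimod.parPoly 𝓔 PX).eval (m : ℝ) * ((Q.eval (n : ℚ) : ℚ) : ℝ)) := by
  have hdimE : topologicalKrullDim (CohB1.support E) = (d : WithBot ℕ∞) := hpure E (𝟙 E) inferInstance hE h0
  have hPd : P.natDegree ≤ d :=
    Groth.Agent.R2.H60.ParPoly.natDegree_le_of_dim_le k hL.1 hE d hdimE.le hP
  have hQd : Q.natDegree ≤ d :=
    Groth.Agent.R2.H60.ParPoly.natDegree_le_of_mono k hL.1 ι hW hdimE.le hQ
  have hHd : ∀ j : Fin (𝓔.l + 1), (H j.succ).natDegree ≤ d - 1 := by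
    intro j
    rw [Polynomial.natDegree_le_iff_coeff_eq_zero]
    intro N hN
    exact Groth.Agent.R2.H60.ParPoly.coeff_quot_eq_zero k hL I hE 𝓔 h𝓔 hcoh hsupp j.succ (hH j.succ)
      (by omega)
  have hQHd : ∀ j : Fin (𝓔.l + 1), (QH j.succ).natDegree ≤ d - 1 := by
    intro j
    rw [Polynomial.natDegree_le_iff_coeff_eq_zero]
    intro N hN
    exact Groth.Agent.R2.H60.ParPoly.coeff_induced_quot_eq_zero k hL I hE 𝓔 h𝓔 hcoh hsupp hW ι j.succ
      (hQH j.succ) (by omega)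
  have hone := fun m : ℕ => Groth.Agent.R2.H60.ParLim.parPolyOne_eval 𝓔 d Q QH H m
  constructor
  · rintro ⟨M, hM⟩
    refine ⟨M, fun m hm => ?_⟩
    have h0 := hM m hm
    have h1 := Groth.Agent.R2.H60.ParLim.le_of_eventually_le (ι := Fin (𝓔.l + 1)) d P Q hPd hQd
      (fun j => H j.succ) (fun j => QH j.succ) hHd hQHd hHa (fun j => 𝓔.wtX j.succ - 𝓔.wtX j.castSucc)
      (fun j => (((H j.succ).eval (m : ℚ) : ℚ) : ℝ)) (((Q.eval (m : ℚ) : ℚ)) : ℝ)
      ((W4swparbununimod.parPoly 𝓔 PX).eval (m : ℝ))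
    beta_reduce at h1
    have h2 := h1 h0
    exact (congrArg (fun t => t * (StabCat.alpha d P : ℝ)) (hone m)).le.trans h2
  · rintro ⟨M, hM⟩
    refine ⟨M, fun m hm => ?_⟩
    have h := hM m hm
    have h' := (congrArg (fun t => t * (StabCat.alpha d P : ℝ)) (hone m)).symm.le.trans_lt h
    have h1 := Groth.Agent.R2.H60.ParLim.eventually_lt_of_lt (ι := Fin (𝓔.l + 1)) d P Q hPd hQd
      (fun j => H j.succ) (fun j => QH j.succ) hHd hQHd hHa (fun j => 𝓔.wtX j.succ - 𝓔.wtX j.castSucc)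
      (fun j => (((H j.succ).eval (m : ℚ) : ℚ) : ℝ)) (((Q.eval (m : ℚ) : ℚ)) : ℝ)
      ((W4swparbununimod.parPoly 𝓔 PX).eval (m : ℝ))
    beta_reduce at h1
    exact h1 h'

end Groth.Agent.S18532
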