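import Groth.Statements.S1856
-- import your own Groth.Agent.* helpers here
import Mathlib
import Groth.Agent.R2.H9PullRat
import Groth.Agent.R2.H75C1Cap

set_option autoImplicit false
universe u
open CategoryTheory AlgebraicGeometry
open Cyc

namespace Groth.Agent.S1856

open Groth.Agent.R2.H9.PullRat Groth.Agent.R2.H9.PullDivMain Groth.Agent.R2.H9.DeltaBound

set_option linter.style.haveILetI false

/-- Let f : X → Y be flat, locally of finite type, of relative dimension r, and α, β rationally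
equivalent k-cycles on Y. Then the flat pullbacks f^*α, f^*β (any cycles on X whose coefficients are
given by the flat-pullback formula) are rationally equivalent (k + r)-cycles on X. Here a pair (X,
δ) with Cyc.IsSetup plays the role of a scheme locally of finite type over a fixed base with a
dimension function (X locally Noetherian with universally catenary local rings, δ a dimension
function), and Cyc.DeltaCompat records that the dimension function upstairs is the induced one. -/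
theorem result (X Y : Scheme.{u}) (δX : X → ℤ) (δY : Y → ℤ) (hX : Cyc.IsSetup X δX) (hY : Cyc.IsSetup Y δY) (f : X ⟶ Y) [Flat f] [LocallyOfFiniteType f] (r : ℕ) (hr : Cyc.HasRelDim f r) (hδ : Cyc.DeltaCompat f δX δY) (k : ℤ) (α β : AlgebraicCycle Y ℤ) (hα : α ∈ Cyc.Zk Y δY k) (hβ : β ∈ Cyc.Zk Y δY k) (h : Cyc.RatEquiv δY k α β) (α' β' : AlgebraicCycle X ℤ) (hα' : ⇑α' = Cyc.pullFun f δX δY r ⇑α) (hβ' : ⇑β' = Cyc.pullFun f δX δY r ⇑β) : Cyc.RatEquiv δX (k + r) α' β' := by
  classical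
  haveI : IsLocallyNoetherian X := hX.1
  haveI : IsLocallyNoetherian Y := hY.1
  have hδX : Cyc.IsDimFun X δX := hX.2.2
  have hδY : Cyc.IsDimFun Y δY := hY.2.2
  obtain ⟨ι₀, ξ₀, g₀, hξ₀, hg₀, hlf₀, hsum₀⟩ := h
  let T : ι₀ → Type u := fun i => {ξ : X // f ξ = ξ₀ i ∧ δX ξ = δY (ξ₀ i) + r}
  let mult : X → ℕ := fun ξ => (Module.length (X.presheaf.stalk ξ) (X.presheaf.stalk ξ ⧸
    Ideal.map (f.stalkMap ξ).hom (IsLocalRing.maximalIdeal (Y.presheaf.stalk (f ξ))))).toNat
  let base : (j : Σ i, T i) → X.residueField j.2.1 := fun j =>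
    f.residueFieldMap j.2.1 ((Y.residueFieldCongr j.2.2.1.symm).hom (g₀ j.1))
  have hbase : ∀ j, base j ≠ 0 := by
    intro j h0
    apply hg₀ j.1
    have h1 := (map_eq_zero_iff _ (f.residueFieldMap j.2.1).hom.injective).mp h0
    exact (map_eq_zero_iff _ (Y.residueFieldCongr j.2.2.1.symm).hom.hom.injective).mp h1
  have hbound : ∀ i, ∀ z : X, f z = ξ₀ i → δX z ≤ δY (ξ₀ i) + r := by
    intro i z hz
    obtain ⟨n, hn, hδz⟩ := exists_le_delta f r hr δX δY hδ z
    rw [hδz, hz]
    have : (n : ℤ) ≤ r := by exact_mod_cast hn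
    omega
  -- local finiteness of the new family
  have hLF : ∀ x : X, ∃ U : Set X, IsOpen U ∧ x ∈ U ∧
      {j : Σ i, T i | (closure {j.2.1} ∩ U).Nonempty}.Finite := by
    intro x
    obtain ⟨W, hWo, hxW, hIW⟩ := hlf₀ (f x)
    obtain ⟨V, hV, hxV, hVW⟩ :=
      exists_isAffineOpen_mem_and_subset (U := f ⁻¹ᵁ ⟨W, hWo⟩) (x := x) hxW
    refine ⟨V, V.2, hxV, ?_⟩
    have hSfin : ∀ i, {ξ : X | ξ ∈ V ∧ f ξ = ξ₀ i ∧ δX ξ = δY (ξ₀ i) + r}.Finite :=
      fun i => finite_fibre_generic f δX hδX (ξ₀ i) _ (hbound i) hV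
    have hsub : {j : Σ i, T i | (closure {j.2.1} ∩ (V : Set X)).Nonempty} ⊆
        Set.sigma {i | (closure {ξ₀ i} ∩ W).Nonempty} (fun i => {t : T i | t.1 ∈ V}) := by
      rintro ⟨i, t⟩ ⟨y, hy1, hy2⟩
      have htV : t.1 ∈ V := (specializes_iff_mem_closure.mpr hy1).mem_open V.2 hy2
      refine ⟨⟨f t.1, ?_, hVW htV⟩, htV⟩
      rw [t.2.1]
      exact subset_closure rfl
    apply Set.Finite.subset _ hsub
    rw [Set.sigma_eq_biUnion]
    apply hIW.biUnion
    intro i _
    apply Set.Finite.image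
    exact ((hSfin i).preimage Subtype.val_injective.injOn).subset
      (fun t ht => ⟨ht, t.2.1, t.2.2⟩)
  refine ⟨Σ i, T i, fun j => j.2.1, fun j => (base j) ^ ((mult j.2.1 : ℕ) : ℤ), ?_, ?_, hLF, ?_⟩
  · intro j
    show δX j.2.1 = k + ↑r + 1
    rw [j.2.2.2, hξ₀ j.1]
    ring
  · intro j
    exact zpow_ne_zero _ (hbase j)
  · intro x
    have h1 : (α' - β') x = α' x - β' x := rfl
    rw [h1, hα', hβ', ← pullFun_sub]
    have h2 : (fun y => α y - β y) = fun y => ∑ᶠ i, Cyc.divFun δY (ξ₀ i) (g₀ i) y := by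
      funext y
      exact hsum₀ y
    have hfinY : (Function.support fun i => Cyc.divFun δY (ξ₀ i) (g₀ i) (f x)).Finite := by
      obtain ⟨W, hWo, hxW, hIW⟩ := hlf₀ (f x)
      apply hIW.subset
      intro i hi
      have hsp : ξ₀ i ⤳ f x := by
        by_contra hns
        apply hi
        show Cyc.divFun δY (ξ₀ i) (g₀ i) (f x) = 0
        unfold Cyc.divFun
        rw [dif_neg]
        exact fun hc => hns hc.1
      exact ⟨f x, specializes_iff_mem_closure.mp hsp, hxW⟩
    have hfinX : (Function.support fun j : Σ i, T i =>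
        Cyc.divFun δX j.2.1 ((base j) ^ ((mult j.2.1 : ℕ) : ℤ)) x).Finite := by
      obtain ⟨U, hUo, hxU, hJU⟩ := hLF x
      apply hJU.subset
      intro j hj
      have hsp : j.2.1 ⤳ x := by
        by_contra hns
        apply hj
        show Cyc.divFun δX j.2.1 ((base j) ^ ((mult j.2.1 : ℕ) : ℤ)) x = 0
        unfold Cyc.divFun
        rw [dif_neg]
        exact fun hc => hns hc.1
      exact ⟨x, specializes_iff_mem_closure.mp hsp, hxU⟩
    rw [h2, pullFun_finsum f δX δY r _ x hfinY, finsum_sigma' _ hfinX]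
    apply finsum_congr
    intro i
    rw [pullFun_divFun_eq f δX δY hX hY r hr hδ (ξ₀ i) (g₀ i) (hg₀ i) x]
    apply finsum_congr
    intro t
    rw [Groth.Agent.R2.H75.C1Cap.divFun_zpow δX t.1 (hbase ⟨i, t⟩)]

end Groth.Agent.S1856
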