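import Groth.Statements.S1857
import Groth.Agent.S9357
import Groth.Agent.R2.H9DeltaBound
import Groth.Agent.R2.H9FlatLen
-- import your own Groth.Agent.* helpers here

set_option autoImplicit false
universe u
open CategoryTheory AlgebraicGeometry
open Cyc

namespace Groth.Agent.S1857

open Groth.Agent.R2.H9.DeltaBound Groth.Agent.R2.H9.FlatLen

/-- For flat morphisms f : X → Y and g : Y → Z locally of finite type of relative dimensions r and s,
the composite has relative dimension r + s and (g ∘ f)^* = f^* ∘ g^* on k-cycles (equality of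
coefficient functions). Here a pair (X, δ) with Cyc.IsSetup plays the role of a scheme locally of
finite type over a fixed base with a dimension function (X locally Noetherian with universally
catenary local rings, δ a dimension function), and Cyc.DeltaCompat records that the dimension
function upstairs is the induced one. -/
theorem result (X Y Z : Scheme.{u}) (δX : X → ℤ) (δY : Y → ℤ) (δZ : Z → ℤ) (hX : Cyc.IsSetup X δX) (hY : Cyc.IsSetup Y δY) (hZ : Cyc.IsSetup Z δZ) (f : X ⟶ Y) (g : Y ⟶ Z) [Flat f] [LocallyOfFiniteType f] [Flat g] [LocallyOfFiniteType g] (r s : ℕ) (hr : Cyc.HasRelDim f r) (hs : Cyc.HasRelDim g s) (hf : Cyc.DeltaCompat f δX δY) (hg : Cyc.DeltaCompat g δY δZ) (k : ℤ) : Cyc.HasRelDim (f ≫ g) (r + s) ∧ ∀ α : AlgebraicCycle Z ℤ, α ∈ Cyc.Zk Z δZ k → Cyc.pullFun f δX δY r (Cyc.pullFun g δY δZ s ⇑α) = Cyc.pullFun (f ≫ g) δX δZ ((r : ℤ) + s) ⇑α := by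
  refine ⟨(Groth.Agent.S9357.result f g r s).2 hr hs inferInstance, fun α _ => ?_⟩
  funext x
  obtain ⟨n₁, hn₁, hδ₁⟩ := exists_le_delta f r hr δX δY hf x
  obtain ⟨n₂, hn₂, hδ₂⟩ := exists_le_delta g s hs δY δZ hg (f x)
  have hcomp : (f ≫ g) x = g (f x) := rfl
  simp only [Cyc.pullFun]
  by_cases h1 : δX x = δY (f x) + r
  · by_cases h2 : δY (f x) = δZ (g (f x)) + s
    · have h3 : δX x = δZ ((f ≫ g) x) + ((r : ℤ) + s) := by rw [hcomp]; omega
      rw [if_pos h1, if_pos h2, if_pos h3]
      have hflat : (f.stalkMap x).hom.Flat := Flat.stalkMap f x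
      have hlen := toNat_length_quot_map (f.stalkMap x).hom hflat
        (Ideal.map (g.stalkMap (f x)).hom (IsLocalRing.maximalIdeal (Z.presheaf.stalk (g (f x)))))
      have hmap : Ideal.map ((f ≫ g).stalkMap x).hom
          (IsLocalRing.maximalIdeal (Z.presheaf.stalk ((f ≫ g) x))) =
          Ideal.map (f.stalkMap x).hom (Ideal.map (g.stalkMap (f x)).hom
            (IsLocalRing.maximalIdeal (Z.presheaf.stalk (g (f x))))) := by
        rw [Ideal.map_map, Scheme.Hom.stalkMap_comp]
        rfl
      rw [hmap, hlen]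
      push_cast
      have hα : (α ((f ≫ g) x) : ℤ) = α (g (f x)) := rfl
      rw [hα]
      ring
    · have h3 : ¬ δX x = δZ ((f ≫ g) x) + ((r : ℤ) + s) := by rw [hcomp]; omega
      rw [if_pos h1, if_neg h2, if_neg h3, zero_mul]
  · have h3 : ¬ δX x = δZ ((f ≫ g) x) + ((r : ℤ) + s) := by rw [hcomp]; omega
    rw [if_neg h1, if_neg h3]

end Groth.Agent.S1857
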