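import Groth.Statements.S18599
import Groth.Agent.R2.H91SSRed

set_option autoImplicit false
universe u
open SSRed

namespace Groth.Agent.S18599

/-- Let ℓ be a prime number, M a free ℤ_ℓ-module of finite rank, A an automorphism of M with A^ℓ = 1,
and c the rank of M minus the rank of the submodule of A-invariants. Assume that ℓ = 2 and A − 1 ∈
2·End(M), or that ℓ = 2 and (A − 1)² ∈ 4·End(M), or that ℓ = 3 and (A − 1)² ∈ 3·End(M). Then the
torsion submodule of M/(A − 1)M is a vector space over ℤ/ℓℤ of dimension c/(ℓ − 1): it is killed by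
ℓ and has ℓ^r elements for some r with r(ℓ − 1) = c. -/
theorem result (ℓ : ℕ) [Fact ℓ.Prime]
    (M : Type u) [AddCommGroup M] [Module ℤ_[ℓ] M] [Module.Free ℤ_[ℓ] M] [Module.Finite ℤ_[ℓ] M]
    (A : M ≃ₗ[ℤ_[ℓ]] M) (hA : A ^ ℓ = 1) (f : Module.End ℤ_[ℓ] M) (hf : f = (A : M →ₗ[ℤ_[ℓ]] M) - 1)
    (hcase : (ℓ = 2 ∧ ∃ B : Module.End ℤ_[ℓ] M, f = (2 : ℤ_[ℓ]) • B) ∨
      (ℓ = 2 ∧ ∃ B : Module.End ℤ_[ℓ] M, f ^ 2 = (4 : ℤ_[ℓ]) • B) ∨
      (ℓ = 3 ∧ ∃ B : Module.End ℤ_[ℓ] M, f ^ 2 = (3 : ℤ_[ℓ]) • B))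
    (c : ℕ) (hc : c = Module.finrank ℤ_[ℓ] M - Module.finrank ℤ_[ℓ] (LinearMap.ker f)) :
    (∀ x ∈ Submodule.torsion ℤ_[ℓ] (M ⧸ LinearMap.range f), (ℓ : ℤ_[ℓ]) • x = 0) ∧
      ∃ r : ℕ, r * (ℓ - 1) = c ∧
        Nat.card (Submodule.torsion ℤ_[ℓ] (M ⧸ LinearMap.range f)) = ℓ ^ r := by
  have hAend : ((A : M →ₗ[ℤ_[ℓ]] M) : Module.End ℤ_[ℓ] M) ^ ℓ = 1 := by
    have h1 := congrArg (LinearEquiv.automorphismGroup.toLinearMapMonoidHom) hA
    rw [map_pow, map_one] at h1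
    exact h1
  have hAf : (A : M →ₗ[ℤ_[ℓ]] M) = f + 1 := by rw [hf]; abel
  rw [hAf] at hAend
  rcases hcase with ⟨hl, B, hB⟩ | ⟨hl, B, hB⟩ | ⟨hl, B, hB⟩
  · subst hl
    exact Groth.Agent.R2.H91.SSRed.case_two f B hAend hB c hc
  · subst hl
    -- `f² = -2f`, so `f = 2 • (-B)`
    have hff : f * f + 2 • f = 0 := by
      have h1 : (f + 1) ^ 2 - 1 = f * f + 2 • f := by noncomm_ring
      rw [hAend, sub_self] at h1
      exact h1.symm
    have hB2 : f = (2 : ℤ_[2]) • (-B) := by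
      have h2 : (2 : ℕ) • (f + 2 • B) = 0 := by
        have h3 : (4 : ℤ_[2]) • B = 4 • B := ofNat_smul_eq_nsmul _ _ _
        have h4 : (2 : ℕ) • (f + 2 • B) = (f * f + 2 • f) - (f * f - 4 • B) := by
          rw [smul_add, smul_smul]
          abel
        rw [h4, hff, ← pow_two, hB, h3, sub_self, sub_zero]
      have h5 := Groth.Agent.R2.H91.SSRed.nsmul_cancel (R := ℤ_[2]) 2 (by norm_num) _ h2
      rw [smul_neg, ofNat_smul_eq_nsmul]
      exact eq_neg_of_add_eq_zero_left h5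
    exact Groth.Agent.R2.H91.SSRed.case_two f (-B) hAend hB2 c hc
  · subst hl
    exact Groth.Agent.R2.H91.SSRed.case_three f B hAend hB c hc

end Groth.Agent.S18599
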