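import Groth.Statements.S1863
-- import your own Groth.Agent.* helpers here
import Mathlib
import Groth.Agent.R2.H9DivLF
import Groth.Agent.R2.H9OrdOpen

set_option autoImplicit false
universe u
open CategoryTheory AlgebraicGeometry
open Cyc

namespace Groth.Agent.S1863

/-- Let U ⊆ X be open and α, β k-cycles on X whose restrictions to U are rationally equivalent on U (for
the restricted dimension function). Then there is a k-cycle γ on X vanishing on U with α rationally
equivalent to β + γ. Here a pair (X, δ) with Cyc.IsSetup plays the role of a scheme locally of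
finite type over a fixed base with a dimension function (X locally Noetherian with universally
catenary local rings, δ a dimension function). -/
theorem result (X : Scheme.{u}) (δ : X → ℤ) (hX : Cyc.IsSetup X δ) (U : X.Opens) (k : ℤ) (α β : AlgebraicCycle X ℤ) (hα : α ∈ Cyc.Zk X δ k) (hβ : β ∈ Cyc.Zk X δ k) (αU βU : AlgebraicCycle (↑U : Scheme.{u}) ℤ) (hαU : ∀ u : ↥U, αU u = α (U.ι u)) (hβU : ∀ u : ↥U, βU u = β (U.ι u)) (h : Cyc.RatEquiv (fun u : ↥U => δ (U.ι u)) k αU βU) : ∃ γ : AlgebraicCycle X ℤ, γ ∈ Cyc.Zk X δ k ∧ (∀ x : X, x ∈ U → γ x = 0) ∧ Cyc.RatEquiv δ k α (β + γ) := by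
  classical
  obtain ⟨hN, -, hδ⟩ := hX
  have := hN
  obtain ⟨ι, ξ, f, hξ, hf, hlf, hsum⟩ := h
  let ξ' : ι → X := fun i => U.ι (ξ i)
  let f' : (i : ι) → X.residueField (ξ' i) := fun i => (inv (U.ι.residueFieldMap (ξ i))).hom (f i)
  have hf'f : ∀ i, (U.ι.residueFieldMap (ξ i)).hom (f' i) = f i := by
    intro i
    show (U.ι.residueFieldMap (ξ i)).hom ((inv (U.ι.residueFieldMap (ξ i))).hom (f i)) = f i
    rw [← CommRingCat.comp_apply, IsIso.inv_hom_id]
    rfl
  have hf' : ∀ i, f' i ≠ 0 := by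
    intro i h0
    apply hf i
    rw [← hf'f i, h0, map_zero]
  have hlf' : ∀ x : X, ∃ W' : Set X, IsOpen W' ∧ x ∈ W' ∧
      {i | (closure {ξ' i} ∩ W').Nonempty}.Finite :=
    fun x => Groth.Agent.R2.H9.DivLF.locallyFinite_of_open U ξ hlf x
  obtain ⟨D, hD⟩ := Groth.Agent.R2.H9.DivLF.exists_cycle_of_locallyFinite δ hδ ξ' f' hf' hlf'
  have hDU : ∀ u : ↥U, D (U.ι u) = α (U.ι u) - β (U.ι u) := by
    intro u
    rw [hD, ← hαU, ← hβU]
    have h1 := hsum u
    have h2 : (αU - βU) u = αU u - βU u := rfl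
    rw [← h2, h1]
    apply finsum_congr
    intro i
    rw [← hf'f i]
    exact (Groth.Agent.R2.H9.OrdOpen.divFun_openImmersion U.ι δ (ξ i) u (f' i)).symm
  have hDk : ∀ x : X, δ x ≠ k → D x = 0 := by
    intro x hx
    rw [hD]
    apply finsum_eq_zero_of_forall_eq_zero
    intro i
    unfold Cyc.divFun
    rw [dif_neg]
    rintro ⟨-, h2⟩
    apply hx
    have := hξ i
    have h3 : δ (ξ' i) = k + 1 := this
    omega
  refine ⟨α - β - D, ?_, ?_, ?_⟩
  · intro x hx
    have h2 : (α - β - D) x = α x - β x - D x := rfl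
    rw [h2, hα x hx, hβ x hx, hDk x hx]
    simp
  · intro x hxU
    have h1 := hDU ⟨x, hxU⟩
    have h2 : (α - β - D) x = α x - β x - D x := rfl
    have h3 : U.ι ⟨x, hxU⟩ = x := rfl
    rw [h3] at h1
    rw [h2, h1]
    simp
  · unfold Cyc.RatEquiv
    have h1 : α - (β + (α - β - D)) = D := by abel
    rw [h1]
    exact ⟨ι, ξ', f', hξ, hf', hlf', hD⟩

end Groth.Agent.S1863
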