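import Groth.Statements.S18645
import Groth.Agent.R2.H72GrAInv

set_option autoImplicit false
universe u
open GrLC

namespace Groth.Agent.S18645

/-- Let R be a graded ring defined over a field which is Cohen–Macaulay, of dimension n, and let f_1, …,
f_t be an R-regular sequence of homogeneous elements of positive degrees d_1, …, d_t, with S =
R/(f_1, …, f_t). The canonical module of S is (K_R/(f_1, …, f_t)K_R)(d_1 + ⋯ + d_t); consequently —
this is the form stated here — the a-invariants satisfy a(S) = a(R) + d_1 + ⋯ + d_t, where a(S) is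
the largest nonzero degree of H^{n−t}_m(S) and a(R) that of H^n_m(R), both graded local cohomologies
over R with support in m = R_+ computed from *injective resolutions in the graded category, and S is
presented as a graded R-module N with a degree-preserving surjection π : R → N whose kernel is (f_1,
…, f_t). Here 'graded ring defined over a field' means R = ⊕_{n ≥ 0} R_n is Noetherian with R_0 a
field, and m = R_+ is its unique graded maximal ideal. -/
theorem result (R : Type u) [CommRing R] [LocCoh.IsCohenMacaulayRing R] (𝒜 : ℤ → AddSubgroup R) [GradedRing 𝒜] (hpos : ∀ n : ℤ, n < 0 → 𝒜 n = ⊥) (h0 : IsField (GrLC.deg0 𝒜)) (m : HomogeneousIdeal 𝒜) (hm : GrLC.IsStarLocal 𝒜 m) (hmsp : m.toIdeal = Ideal.span (⋃ n ∈ Set.Ioi (0 : ℤ), (𝒜 n : Set R))) (n : ℕ) (hn : ringKrullDim R = n) (I : GrLC.StarInjRes 𝒜 𝒜) (t : ℕ) (htn : t ≤ n) (f : Fin t → R) (deg : Fin t → ℤ) (hfdeg : ∀ i, f i ∈ 𝒜 (deg i)) (hfm : ∀ i, f i ∈ m.toIdeal) (hreg : RingTheory.Sequence.IsRegular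 R (List.ofFn f)) (N : Type u) [AddCommGroup N] [Module R N] (𝒩 : ℤ → AddSubgroup N) [DirectSum.Decomposition 𝒩] [SetLike.GradedSMul 𝒜 𝒩] (π : R →ₗ[R] N) (hπ : GrLC.IsGrHom 𝒜 𝒩 π) (hπs : Function.Surjective π) (hπk : LinearMap.ker π = Ideal.span (Set.range f)) (F : GrLC.StarInjRes 𝒜 𝒩) : GrLC.endDeg (F.Hgr m (n - t)) = GrLC.endDeg (I.Hgr m n) + ((((Finset.univ : Finset (Fin t)).sum deg : ℤ) : WithTop ℤ) : WithBot (WithTop ℤ)) := by
  classical
  have hfin : Module.Finite R (GrLC.GMod.of 𝒜 R 𝒜).carrier := inferInstanceAs (Module.Finite R R)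
  have hle := Groth.Agent.R2.H72.GrBddLocal.irrH_le_of_isStarLocal hpos m hm
  have hrd : List.Forall₂ (fun r d => r ∈ 𝒜 d) (List.ofFn f) (List.ofFn deg) :=
    Groth.Agent.R2.H72.GrAInv.forall₂_ofFn _ t f deg hfdeg
  have hmem : ∀ r ∈ List.ofFn f, r ∈ m.toIdeal := by
    intro r hr
    obtain ⟨i, rfl⟩ := (List.mem_ofFn' f r).1 hr
    exact hfm i
  have hker : LinearMap.ker π =
      Ideal.ofList (List.ofFn f) • (⊤ : Submodule R (GrLC.GMod.of 𝒜 R 𝒜).carrier) := by
    rw [hπk, Groth.Agent.R2.H72.GrAInv.ofList_ofFn]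
    change _ = Ideal.span (Set.range f) • (⊤ : Submodule R R)
    rw [smul_eq_mul, Ideal.mul_top]
  have hV : ∀ i, i < n → ∀ e, Groth.Agent.R2.H72.GrMod.Van m (GrLC.GMod.of 𝒜 R 𝒜) i e :=
    fun i hi e => Groth.Agent.R2.H72.GrAInv.van_self_of_lt_dim hpos m hm n hn i hi e
  have key := Groth.Agent.R2.H72.GrAInv.endDeg_quot_regList (a := m) hpos hle (List.ofFn f)
    (List.ofFn deg) hrd hmem (GrLC.GMod.of 𝒜 R 𝒜) (GrLC.GMod.of 𝒜 N 𝒩) hreg.toIsWeaklyRegular
    π hπs hπ hker n (by rw [List.length_ofFn]; exact htn) hV I F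
  rw [List.length_ofFn, List.sum_ofFn] at key
  exact key

end Groth.Agent.S18645
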