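import Groth.Statements.S18656
import Groth.Agent.R2.H72GrTop
import Groth.Agent.R2.H72GrRegGen

set_option autoImplicit false
universe u
open GrLC

namespace Groth.Agent.S18656

/-- Let R be a graded ring defined over a field k = R_0, generated over k by R_1, of dimension r ≥ 1,
and let a(R) be its a-invariant. Then the homogeneous piece H^r_m(R)_n is nonzero for every n ≤
a(R). Here 'graded ring defined over a field' means R = ⊕_{n ≥ 0} R_n is Noetherian with R_0 a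
field, and m = R_+ is its unique graded maximal ideal. The a-invariant a(R) is the largest degree in
which the graded local cohomology H^n_m(R) (n = dim R, m = R_+), computed from a *injective
resolution of R in the graded category, is nonzero. -/
theorem result (R : Type u) [CommRing R] [IsNoetherianRing R] (𝒜 : ℤ → AddSubgroup R) [GradedRing 𝒜] (hpos : ∀ n : ℤ, n < 0 → 𝒜 n = ⊥) (h0 : IsField (GrLC.deg0 𝒜)) (m : HomogeneousIdeal 𝒜) (hm : GrLC.IsStarLocal 𝒜 m) (hmsp : m.toIdeal = Ideal.span (⋃ n ∈ Set.Ioi (0 : ℤ), (𝒜 n : Set R))) (hstd : Ideal.span (⋃ n ∈ Set.Ioi (0 : ℤ), (𝒜 n : Set R)) = Ideal.span ((𝒜 1 : AddSubgroup R) : Set R)) (r : ℕ) (hr : ringKrullDim R = r) (h1 : 1 ≤ r) (I : GrLC.StarInjRes 𝒜 𝒜) (a : ℤ) (ha : GrLC.endDeg (I.Hgr m r) = ((a : WithTop ℤ) : WithBot (WithTop ℤ))) (n : ℤ) (hn : n ≤ a) : I.Hcomp m r n ≠ ⊥ := by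
  intro hbot
  obtain ⟨i, rfl⟩ : ∃ i, r = i + 1 := ⟨r - 1, by omega⟩
  have hgen : m.toIdeal = Ideal.span ((𝒜 1 : AddSubgroup R) : Set R) := hmsp.trans hstd
  have hGV : ∀ Y : GrLC.GMod.{u} 𝒜, Module.Finite R Y.carrier → ∀ k,
      Groth.Agent.R2.H72.GrMod.Van m Y (i + 1 + 1) k := by
    intro Y _ k
    apply Groth.Agent.R2.H72.GrTop.van_of_ringKrullDim_lt m Y (i + 1 + 1) _ k
    rw [hr]
    exact_mod_cast Nat.lt_succ_self (i + 1)
  have : Module.Finite R (GrLC.GMod.of 𝒜 R 𝒜).carrier := inferInstanceAs (Module.Finite R R)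
  have hvan := Groth.Agent.R2.H72.GrTop.van_of_le (a := m) hgen i hGV (GrLC.GMod.of 𝒜 R 𝒜) I n hbot
  have hle : GrLC.endDeg (I.Hgr m (i + 1)) ≤ (((n - 1 : ℤ) : WithTop ℤ) : WithBot (WithTop ℤ)) := by
    rw [Groth.Agent.R2.H72.GrRegGen.endDeg_le_iff']
    intro j hj
    show (I.Hcomp m (i + 1) j).toAddSubgroup = ⊥
    rw [Groth.Agent.R2.H72.GrRegGen.toAddSubgroup_eq_bot_iff']
    exact hvan j (by omega)
  rw [ha, WithBot.coe_le_coe, WithTop.coe_le_coe] at hle
  omega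

end Groth.Agent.S18656
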