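import Groth.Statements.S18671
import Groth.Agent.R2.H72GrVerAcyc

set_option autoImplicit false
universe u
open GrLC

namespace Groth.Agent.S18671

/-- Let R be a graded ring defined over a field, q ≥ 1, R' = R^(q) its Veronese subring with m' = R'_+,
and M a graded R-module with Veronese submodule M^(q) = ⊕_j M_{jq}, a graded R'-module. Then
H^p_{m'}(M^(q)) ≅ (H^p_m(M))^(q) for every p. Stated here, for M finitely generated, as the equality
of dimensions dim H^p_{m'}(M^(q))_j = dim H^p_m(M)_{jq} over the degree-zero fields R'_0 ≅ R_0, for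
all p and j (the published isomorphism is one of graded R'-modules; all these pieces are
finite-dimensional). Here 'graded ring defined over a field' means R = ⊕_{n ≥ 0} R_n is Noetherian
with R_0 a field, and m = R_+ is its unique graded maximal ideal. The graded local cohomologies are
computed from *injective resolutions in the respective graded categories; the Veronese subring R^(q)
= ⊕_j R_{jq}, regraded by (R^(q))_j = R_{jq}, is presented abstractly as a ℤ-graded ring R' with an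
injective ring homomorphism φ : R' → R carrying R'_j onto R_{jq} for every j. The module M^(q) is
presented as a graded R'-module M' with an injective additive map g : M' → M, semilinear over φ,
carrying M'_j onto M_{jq} for every j. -/
theorem result (R : Type u) [CommRing R] [IsNoetherianRing R] (𝒜 : ℤ → AddSubgroup R) [GradedRing 𝒜] (hpos : ∀ n : ℤ, n < 0 → 𝒜 n = ⊥) (h0 : IsField (GrLC.deg0 𝒜)) (m : HomogeneousIdeal 𝒜) (hm : GrLC.IsStarLocal 𝒜 m) (hmsp : m.toIdeal = Ideal.span (⋃ n ∈ Set.Ioi (0 : ℤ), (𝒜 n : Set R))) (M : Type u) [AddCommGroup M] [Module R M] (ℳ : ℤ → AddSubgroup M) [DirectSum.Decomposition ℳ] [SetLike.GradedSMul 𝒜 ℳ] [Module.Finite R M] (E : GrLC.StarInjRes 𝒜 ℳ) (q : ℕ) (hq : 0 < q) (R' : Type u) [CommRing R'] (𝒜' : ℤ → AddSubgroup R') [GradedRing 𝒜'] (φ : R' →+* R) (hφ : Function.Injective φ) (hdeg : ∀ j : ℤ, (𝒜' j).map (φ : R' →+ R) = 𝒜 (j * q)) (m' : HomogeneousIdeal 𝒜') (hm' : GrLC.IsStarLocal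 𝒜' m') (hm'sp : m'.toIdeal = Ideal.span (⋃ j ∈ Set.Ioi (0 : ℤ), (𝒜' j : Set R'))) (M' : Type u) [AddCommGroup M'] [Module R' M'] (ℳ' : ℤ → AddSubgroup M') [DirectSum.Decomposition ℳ'] [SetLike.GradedSMul 𝒜' ℳ'] (g : M' →ₛₗ[φ] M) (hg : Function.Injective g) (hgdeg : ∀ j : ℤ, (ℳ' j).map (g : M' →+ M) = ℳ (j * q)) (F : GrLC.StarInjRes 𝒜' ℳ') (p : ℕ) (j : ℤ) : Module.finrank (GrLC.deg0 𝒜') (F.Hcomp m' p j) = Module.finrank (GrLC.deg0 𝒜) (E.Hcomp m p (j * q)) := by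
  classical
  haveI : IsNoetherianRing R' := Groth.Agent.R2.H72.GrVerAcyc.isNoetherianRing_ver φ q hdeg hφ
  -- `φ(m')R ⊆ m`
  have h1 : Ideal.map φ m'.toIdeal ≤ m.toIdeal := by
    rw [hm'sp, Ideal.map_span, Ideal.span_le]
    rintro _ ⟨r', hr', rfl⟩
    obtain ⟨i, hi, hr'i⟩ := Set.mem_iUnion₂.1 hr'
    have hφr : φ r' ∈ 𝒜 (i * q) := Groth.Agent.R2.H72.GrVer.map_mem_deg φ q hdeg hr'i
    rw [hmsp]
    apply Ideal.subset_span
    refine Set.mem_iUnion₂.2 ⟨i * q, ?_, hφr⟩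
    have hq' : (0 : ℤ) < q := by exact_mod_cast hq
    exact mul_pos hi hq'
  -- a power of `m` lies in `φ(m')R`
  have h2 : ∃ N : ℕ, m.toIdeal ^ N ≤ Ideal.map φ m'.toIdeal := by
    apply Ideal.exists_pow_le_of_le_radical_of_fg _ (IsNoetherian.noetherian _)
    rw [hmsp, Ideal.span_le]
    intro r hr
    obtain ⟨n, hn, hrn⟩ := Set.mem_iUnion₂.1 hr
    refine ⟨q, ?_⟩
    have hrq : r ^ q ∈ 𝒜 (q • n) := SetLike.pow_mem_graded q hrn
    have hqn : q • n = n * (q : ℤ) := by rw [nsmul_eq_mul, mul_comm]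
    rw [hqn, ← hdeg n] at hrq
    obtain ⟨r', hr', hr'q⟩ := hrq
    have hr'm : r' ∈ m'.toIdeal := by
      rw [hm'sp]
      apply Ideal.subset_span
      exact Set.mem_iUnion₂.2 ⟨n, hn, hr'⟩
    have h3 : φ r' ∈ Ideal.map φ m'.toIdeal := Ideal.mem_map_of_mem φ hr'm
    have h4 : φ r' = r ^ q := hr'q
    rw [← h4]
    exact h3
  -- `φ(m')R` is a homogeneous ideal
  have hhom : (Ideal.map φ m'.toIdeal).IsHomogeneous 𝒜 := by
    rw [hm'sp, Ideal.map_span]
    apply Ideal.homogeneous_span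
    rintro _ ⟨r', hr', rfl⟩
    obtain ⟨i, -, hr'i⟩ := Set.mem_iUnion₂.1 hr'
    exact ⟨i * q, Groth.Agent.R2.H72.GrVer.map_mem_deg φ q hdeg hr'i⟩
  let a : HomogeneousIdeal 𝒜 := ⟨Ideal.map φ m'.toIdeal, hhom⟩
  let N : GrLC.GMod.{u} 𝒜 := GrLC.GMod.of 𝒜 M ℳ
  let N' : GrLC.GMod.{u} 𝒜' := GrLC.GMod.of 𝒜' M' ℳ'
  let E' : GrLC.StarInjRes 𝒜 N.gr := E
  let F' : GrLC.StarInjRes 𝒜' N'.gr := F
  let g' : N'.carrier →ₛₗ[φ] N.carrier := g
  have hac : ∀ n i, 1 ≤ i → Groth.Agent.R2.H72.GrMod.Van m'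
      ((Groth.Agent.R2.H72.GrVer.verRes φ q hdeg hq E' g' hg hgdeg).A n) i j :=
    fun n i hi => Groth.Agent.R2.H72.GrVerAcyc.van_verG φ q hdeg hq (E.X n) m' a rfl (E.starInj n) i hi j
  obtain ⟨e1⟩ := Groth.Agent.R2.H72.GrAcyc.AcycRes.nonempty_equiv
    (Groth.Agent.R2.H72.GrVer.verRes φ q hdeg hq E' g' hg hgdeg) F' j hac p
  obtain ⟨e2⟩ := Groth.Agent.R2.H72.GrAcyc.nonempty_Hcomp_equiv (a := m) E' p (j * q)
  have h5 := Groth.Agent.R2.H72.GrVerAcyc.finrank_Qk_eq φ q hdeg hq m m' h1 h2 E' g' hg hgdeg hφ p j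
  exact (e1.finrank_eq.trans h5).trans e2.finrank_eq.symm

end Groth.Agent.S18671
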