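import Groth.Statements.S1868
import Groth.Agent.Lib.Helper3QFinDim
import Groth.Agent.R2.H9DeltaBound
import Groth.Agent.R2.H9FiberDeg
-- import your own Groth.Agent.* helpers here

set_option autoImplicit false
universe u
open CategoryTheory AlgebraicGeometry
open Cyc

namespace Groth.Agent.S1868

open Groth.Agent.R2.H9.DeltaBound Groth.Agent.R2.H9.FiberDeg

/-- Let f : X → Y be finite locally free of constant degree d (finite, flat, rank function constantly
d). Then f has relative dimension 0 and for every k-cycle α on Y, f_*(f^*α) = d·α (for any cycle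
f^*α on X with the flat-pullback coefficients). Here a pair (X, δ) with Cyc.IsSetup plays the role
of a scheme locally of finite type over a fixed base with a dimension function (X locally Noetherian
with universally catenary local rings, δ a dimension function), and Cyc.DeltaCompat records that the
dimension function upstairs is the induced one. -/
theorem result (X Y : Scheme.{u}) (δX : X → ℤ) (δY : Y → ℤ) (hX : Cyc.IsSetup X δX) (hY : Cyc.IsSetup Y δY) (f : X ⟶ Y) [IsFinite f] [Flat f] (d : ℕ) (hd : ∀ y : Y, f.finrank y = d) (hδ : Cyc.DeltaCompat f δX δY) (k : ℤ) : Cyc.HasRelDim f 0 ∧ ∀ (α : AlgebraicCycle Y ℤ), α ∈ Cyc.Zk Y δY k → ∀ α' : AlgebraicCycle X ℤ, ⇑α' = Cyc.pullFun f δX δY 0 ⇑α → AlgebraicCycle.map f δX δY α' = d • α := by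
  have hrel : Cyc.HasRelDim f 0 := by
    rw [Groth.Agent.Lib.Helper3.RelDim.hasRelDim_iff_forall_fibreDimAt_eq]
    intro x
    apply le_antisymm
    · exact Groth.Agent.Lib.Helper3.QFinDim.fibreDimAt_le_zero_of_locallyQuasiFinite f x
    · exact Groth.Agent.Lib.Helper7.TopDim.localDim_nonneg _
  refine ⟨hrel, fun α _ α' hα' => ?_⟩
  have hδ0 : ∀ x : X, δX x = δY (f x) := by
    intro x
    obtain ⟨n, hn, hδn⟩ := exists_le_delta f 0 hrel δX δY hδ x
    have : n = 0 := Nat.le_zero.mp hn
    subst this
    simpa using hδn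
  ext y
  change ∑ᶠ x ∈ f ⁻¹' {y}, α' x * ((AlgebraicCycle.mapCoeff f δX δY x : ℕ) : ℤ) = (d • α) y
  have hterm : ∀ x ∈ f ⁻¹' {y}, α' x * ((AlgebraicCycle.mapCoeff f δX δY x : ℕ) : ℤ) =
      α y * ((locDeg f x : ℕ) : ℤ) := by
    intro x hx
    have hx' : f x = y := hx
    rw [hα', Cyc.pullFun, AlgebraicCycle.mapCoeff]
    have h0 : δX x = δY (f x) + 0 := by rw [add_zero]; exact hδ0 x
    have hαy : α (f x) = α y := by rw [hx']
    rw [if_pos h0, if_pos (hδ0 x), hαy, locDeg]
    push_cast
    ring
  rw [finsum_mem_congr rfl hterm, ← mul_finsum_mem,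
    ← Nat.cast_finsum_mem (f.finite_preimage_singleton y), finsum_locDeg f y, hd y]
  simp [mul_comm]

end Groth.Agent.S1868
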