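import Groth.Statements.S18694
import Groth.Agent.Lib.Helper27GaGm
import Groth.Agent.R2.H92UnitLift

set_option autoImplicit false
open CategoryTheory MonoidalCategory CartesianMonoidalCategory MonObj GrpObj AlgebraicGeometry
universe u
open MultTori

namespace Groth.Agent.S18694

open Groth.Agent.Lib.Helper27.GaGm CategoryTheory.Limits Groth.Agent.R2.H92.UnitLift

section Setup

variable (A : Type u) [CommRing A] (B : Type u) [CommRing B] [Algebra A B]

/-- `Spec B ⟶ Spec A`. -/
noncomputable abbrev ff : Spec (CommRingCat.of B) ⟶ Spec (CommRingCat.of A) :=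
  Spec.map (CommRingCat.ofHom (algebraMap A B))

/-- `Spec A` over itself. -/
noncomputable abbrev T0 : Over (Spec (CommRingCat.of A)) := Over.mk (𝟙 (Spec (CommRingCat.of A)))

variable {A}

/-- `Spec A/m` over `Spec A`. -/
noncomputable abbrev Tm (m : MaximalSpectrum A) : Over (Spec (CommRingCat.of A)) :=
  Over.mk (Spec.map (CommRingCat.ofHom (Ideal.Quotient.mk m.asIdeal)))

/-- the closed immersion `Spec A/m ⟶ Spec A` over `Spec A`. -/
noncomputable abbrev im (m : MaximalSpectrum A) : Tm m ⟶ T0 A :=
  Over.homMk (Spec.map (CommRingCat.ofHom (Ideal.Quotient.mk m.asIdeal))) (by simp)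

/-- the base change of `im m` along `Spec B ⟶ Spec A`. -/
noncomputable abbrev jm (m : MaximalSpectrum A) :
    (Red.bc (ff A B) (Tm m)).left ⟶ (Red.bc (ff A B) (T0 A)).left :=
  ((Over.pullback (ff A B)).map (im m)).left

lemma jm_fst (m : MaximalSpectrum A) :
    jm B m ≫ pullback.fst (T0 A).hom (ff A B) =
      pullback.fst (Tm m).hom (ff A B) ≫
        Spec.map (CommRingCat.ofHom (Ideal.Quotient.mk m.asIdeal)) :=
  pullback.lift_fst _ _ _

lemma jm_snd (m : MaximalSpectrum A) :
    jm B m ≫ pullback.snd (T0 A).hom (ff A B) = pullback.snd (Tm m).hom (ff A B) :=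
  pullback.lift_snd _ _ _

lemma isPullback_jm (m : MaximalSpectrum A) :
    IsPullback (jm B m) (pullback.fst (Tm m).hom (ff A B)) (pullback.fst (T0 A).hom (ff A B))
      (Spec.map (CommRingCat.ofHom (Ideal.Quotient.mk m.asIdeal))) := by
  have h1 : IsPullback (pullback.fst (T0 A).hom (ff A B)) (pullback.snd (T0 A).hom (ff A B))
      (T0 A).hom (ff A B) := IsPullback.of_hasPullback _ _
  have h2 : IsPullback (pullback.fst (Tm m).hom (ff A B)) (pullback.snd (Tm m).hom (ff A B))
      (Tm m).hom (ff A B) := IsPullback.of_hasPullback _ _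
  refine IsPullback.of_right ?_ (jm_fst B m) h1.flip
  have e : Spec.map (CommRingCat.ofHom (Ideal.Quotient.mk m.asIdeal)) ≫ (T0 A).hom =
      (Tm m).hom := by simp
  rw [e, jm_snd]
  exact h2.flip

instance isClosedImmersion_jm (m : MaximalSpectrum A) : IsClosedImmersion (jm B m) := by
  have : IsClosedImmersion (Spec.map (CommRingCat.ofHom (Ideal.Quotient.mk m.asIdeal))) :=
    IsClosedImmersion.spec_of_surjective _ Ideal.Quotient.mk_surjective
  exact MorphismProperty.of_isPullback (P := @IsClosedImmersion) (isPullback_jm B m).flip this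

instance isAffine_bc_T0 : IsAffine (Red.bc (ff A B) (T0 A)).left := by
  change IsAffine (pullback (𝟙 (Spec (CommRingCat.of A))) (ff A B))
  infer_instance

lemma jm_appTop_surjective (m : MaximalSpectrum A) :
    Function.Surjective (jm B m).appTop :=
  (IsClosedImmersion.isAffine_surjective_of_isAffine (jm B m)).2

/-- the structure ring hom `A → Γ(Spec A ×_{Spec A} Spec B)`. -/
noncomputable abbrev psi : A →+* Γ((Red.bc (ff A B) (T0 A)).left, ⊤) :=
  fnHom (pullback.fst (T0 A).hom (ff A B))

lemma jm_appTop_psi (m : MaximalSpectrum A) (x : A) (hx : x ∈ m.asIdeal) :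
    (jm B m).appTop (psi B x) = 0 := by
  change (jm B m).appTop (fn (pullback.fst (T0 A).hom (ff A B)) x) = 0
  rw [← fn_comp, jm_fst, fn_specMap, Ideal.Quotient.eq_zero_iff_mem.mpr hx, fn_eq, map_zero]

lemma isCoprime_ker_jm {m m' : MaximalSpectrum A} (h : m ≠ m') :
    IsCoprime (RingHom.ker (jm B m).appTop.hom) (RingHom.ker (jm B m').appTop.hom) := by
  have hne : m.asIdeal ≠ m'.asIdeal := fun e => h (MaximalSpectrum.ext e)
  have hsup := m.isMaximal.coprime_of_ne m'.isMaximal hne
  have h1 : (1 : A) ∈ m.asIdeal ⊔ m'.asIdeal := hsup ▸ Submodule.mem_top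
  obtain ⟨x, hx, y, hy, hxy⟩ := Submodule.mem_sup.mp h1
  rw [Ideal.isCoprime_iff_exists]
  refine ⟨psi B x, jm_appTop_psi B m x hx, psi B y, jm_appTop_psi B m' y hy, ?_⟩
  rw [← map_add, hxy, map_one]

lemma isUnit_of_jm_appTop_eq_one [Module.Finite A B]
    (r : Γ((Red.bc (ff A B) (T0 A)).left, ⊤)) (hr : ∀ m : MaximalSpectrum A, (jm B m).appTop r = 1) :
    IsUnit r := by
  have hfin : IsFinite (ff A B) := by
    rw [IsFinite.SpecMap_iff]
    exact RingHom.finite_algebraMap.mpr inferInstance
  have hfin' : IsFinite (pullback.fst (T0 A).hom (ff A B)) := inferInstance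
  apply isUnit_of_forall_closed_point
  intro x hx
  -- the image of `x` in `Spec A` is a closed point
  have hcl : IsClosed ({(pullback.fst (T0 A).hom (ff A B)) x} : Set (Spec (CommRingCat.of A))) := by
    have := (pullback.fst (T0 A).hom (ff A B)).isClosedMap _ hx
    rwa [Set.image_singleton] at this
  set p : PrimeSpectrum A := (pullback.fst (T0 A).hom (ff A B)) x with hp
  have hmax : p.asIdeal.IsMaximal := (PrimeSpectrum.isClosed_singleton_iff_isMaximal p).mp hcl
  let m : MaximalSpectrum A := ⟨p.asIdeal, hmax⟩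
  -- `p` is in the range of `Spec A/m ⟶ Spec A`
  have hrange : p ∈ Set.range (Spec.map (CommRingCat.ofHom (Ideal.Quotient.mk m.asIdeal))) := by
    have : p ∈ PrimeSpectrum.zeroLocus (RingHom.ker (Ideal.Quotient.mk m.asIdeal) : Set A) := by
      rw [PrimeSpectrum.mem_zeroLocus, Ideal.mk_ker]
    rw [← _root_.range_comap_of_surjective _ _ Ideal.Quotient.mk_surjective] at this
    exact this
  obtain ⟨y, hy⟩ := hrange
  -- lift to the fibre product
  have hpb := isPullback_jm B m
  obtain ⟨z, hz, -⟩ := Scheme.Pullback.exists_preimage_pullback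
    (f := pullback.fst (T0 A).hom (ff A B))
    (g := Spec.map (CommRingCat.ofHom (Ideal.Quotient.mk m.asIdeal))) x y hy.symm
  have hz' : (jm B m) (hpb.isoPullback.inv z) = x := by
    rw [← Scheme.Hom.comp_apply, hpb.isoPullback_inv_fst, hz]
  rw [← hz']
  have h1 : hpb.isoPullback.inv z ∈
      (Red.bc (ff A B) (Tm m)).left.basicOpen ((jm B m).appTop r) := by
    rw [hr m, Scheme.basicOpen_of_isUnit _ isUnit_one]
    trivial
  rw [← Scheme.preimage_basicOpen_top] at h1
  exact h1

end Setup

/-- In the case of the quasitrivial torus R_{B/A}(G_m), let A be a semilocal ring (finitely many maximal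
ideals m, residue fields κ_m = A/m), B a finite étale A-algebra, and (P, q) a Weil restriction along
Spec B → Spec A of the multiplicative group over B (P an A-scheme with q : P ×_A B → G_{m,B}
universal). Then the reduction map P(A) → ∏_m P(κ_m) is surjective: every family (u_m) of κ_m-points
of P over the closed points of Spec A is the family of restrictions of one section of P over A. (The
source states this for every invertible A-torus and reduces it to this case; the
invertible/quasitrivial notions are not available here, so only this case is stated.) -/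
theorem result
    (A : Type u) [CommRing A] [Finite (MaximalSpectrum A)]
    (B : Type u) [CommRing B] [Algebra A B] [Module.Finite A B] [Algebra.Etale A B]
    (P : Over (Spec (CommRingCat.of A))) (q : Red.bc (Spec.map (CommRingCat.ofHom (algebraMap A B))) P ⟶ Red.Gm (Spec (CommRingCat.of B)))
    (hP : WeilRes.IsWeilRes (Spec.map (CommRingCat.ofHom (algebraMap A B))) (Red.Gm (Spec (CommRingCat.of B))) P q)
    (u : ∀ m : MaximalSpectrum A, Spec (CommRingCat.of (A ⧸ m.asIdeal)) ⟶ P.left)
    (hu : ∀ m : MaximalSpectrum A, u m ≫ P.hom = (Spec.map (CommRingCat.ofHom (Ideal.Quotient.mk m.asIdeal)))) :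
    ∃ s : Spec (CommRingCat.of A) ⟶ P.left, s ≫ P.hom = 𝟙 (Spec (CommRingCat.of A)) ∧
      ∀ m : MaximalSpectrum A, (Spec.map (CommRingCat.ofHom (Ideal.Quotient.mk m.asIdeal))) ≫ s = u m := by
  classical
  -- the given points as morphisms over `Spec A`
  let g : ∀ m : MaximalSpectrum A, Tm m ⟶ P := fun m => Over.homMk (u m) (hu m)
  -- the corresponding units on `Spec (A/m) ×_A Spec B`
  let b : ∀ m : MaximalSpectrum A, (Γ((Red.bc (ff A B) (Tm m)).left, ⊤))ˣ := fun m =>
    gmUnit (WeilRes.restr (ff A B) q (Tm m) (g m))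
  obtain ⟨r, hr⟩ := exists_unit_lift (fun m : MaximalSpectrum A => (jm B m).appTop.hom)
    (fun m => jm_appTop_surjective B m) (fun m m' h => isCoprime_ker_jm B h)
    (fun r hr => isUnit_of_jm_appTop_eq_one B r hr) b
  let s₀ : T0 A ⟶ P := hP.lift (T0 A) ((gmEquiv (Red.bc (ff A B) (T0 A))).symm r)
  refine ⟨s₀.left, ?_, fun m => ?_⟩
  · exact Over.w s₀
  · have key : im m ≫ s₀ = g m := by
      apply (hP (Tm m)).1
      rw [WeilRes.restr_comp, WeilRes.IsWeilRes.restr_lift]
      apply gmFn_injective
      rw [gmFn_comp, gmFn_gmEquiv_symm]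
      exact hr m
    exact congrArg (fun k => k.left) key

end Groth.Agent.S18694
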