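import Groth.Statements.S18709
import Groth.Agent.R2.H92GenInv

set_option autoImplicit false
universe u
open QGor

namespace Groth.Agent.S18709

open Groth.Agent.R2.H92.GenInv Matrix

section Local

variable {B : Type u} [CommRing B] [IsNoetherianRing B]
  {F : Type u} [AddCommGroup F] [Module B F] [Module.Finite B F]

/-- The dual of a finite module over a Noetherian ring localizes to a free module wherever the module
localizes to a free module. -/
theorem projective_localizedModule_dual (q : Ideal B) [q.IsPrime]
    (hfree : Module.Free (Localization.AtPrime q) (LocalizedModule q.primeCompl F)) :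
    Module.Projective (Localization.AtPrime q) (LocalizedModule q.primeCompl (Module.Dual B F)) := by
  haveI : Module.FinitePresentation B F := Module.finitePresentation_of_finite B F
  let S := q.primeCompl
  let R' := Localization.AtPrime q
  -- the localization map on duals
  let ℓ : Module.Dual B F →ₗ[B] (LocalizedModule S F →ₗ[R'] R') :=
    IsLocalizedModule.mapExtendScalars S (LocalizedModule.mkLinearMap S F)
      (Algebra.linearMap B R') R'
  haveI : IsLocalizedModule S ℓ :=
    Module.FinitePresentation.isLocalizedModule_mapExtendScalars S _ _ R'
  let e0 : LocalizedModule S (Module.Dual B F) ≃ₗ[B] (LocalizedModule S F →ₗ[R'] R') :=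
    IsLocalizedModule.iso S ℓ
  let e : LocalizedModule S (Module.Dual B F) ≃ₗ[R'] (LocalizedModule S F →ₗ[R'] R') :=
    e0.extendScalarsOfIsLocalization S R'
  haveI : Module.Finite R' (LocalizedModule S F) := inferInstance
  haveI : Module.Free R' (LocalizedModule S F →ₗ[R'] R') := inferInstance
  exact Module.Projective.of_equiv e.symm

end Local

/-- Affine form; the flatness and depth hypotheses of the printed lemma only serve to place the sequence
in the situation of the key proposition and are not needed for the existence. Let B be a Noetherian
ring, J an ideal and F a finite reflexive B-module with F_q free for every prime q not containing J.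
Then there is an exact sequence 0 → F → Bⁿ → Bᵐ → G → 0 with G_q free for every prime q not
containing J. -/
theorem result (B : Type u) [CommRing B] [IsNoetherianRing B]
    (J : Ideal B) (F : Type u) [AddCommGroup F] [Module B F] [Module.Finite B F] [Module.IsReflexive B F]
    (hU : ∀ q : PrimeSpectrum B, ¬ J ≤ q.asIdeal →
      Module.Free (Localization.AtPrime q.asIdeal) (LocalizedModule q.asIdeal.primeCompl F)) :
    ∃ (n m : ℕ) (g : F →ₗ[B] (Fin n → B)) (h : (Fin n → B) →ₗ[B] (Fin m → B)),
      Function.Injective g ∧ Function.Exact g h ∧
      ∀ q : PrimeSpectrum B, ¬ J ≤ q.asIdeal →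
        Module.Free (Localization.AtPrime q.asIdeal)
          (LocalizedModule q.asIdeal.primeCompl ((Fin m → B) ⧸ LinearMap.range h)) := by
  classical
  -- a finite free presentation of the dual
  haveI : Module.Finite B (Module.Dual B F) := inferInstance
  obtain ⟨n, π, hπ⟩ := Module.Finite.exists_fin' B (Module.Dual B F)
  haveI : Module.Finite B (LinearMap.ker π) := inferInstance
  obtain ⟨m, φ₀, hφ₀⟩ := Module.Finite.exists_fin' B (LinearMap.ker π)
  let φ : (Fin m → B) →ₗ[B] (Fin n → B) := (LinearMap.ker π).subtype ∘ₗ φ₀
  have hex : Function.Exact φ π := by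
    rw [LinearMap.exact_iff]
    simp only [φ, LinearMap.range_comp, LinearMap.range_eq_top.mpr hφ₀, Submodule.map_top,
      Submodule.range_subtype]
  let M : Matrix (Fin n) (Fin m) B := LinearMap.toMatrix' φ
  have hMφ : M.mulVecLin = φ := by
    rw [← Matrix.toLin'_apply', Matrix.toLin'_toMatrix']
  -- the maps `g` and `h`
  let g : F →ₗ[B] (Fin n → B) := LinearMap.pi fun i => π (Pi.single i 1)
  let h : (Fin n → B) →ₗ[B] (Fin m → B) := Mᵀ.mulVecLin
  have hπsum : ∀ c : Fin n → B, π c = ∑ i, c i • π (Pi.single i 1) := by
    intro c
    conv_lhs => rw [← Finset.univ_sum_single c]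
    rw [map_sum]
    refine Finset.sum_congr rfl fun i _ => ?_
    rw [← map_smul]
    congr 1
    ext j
    simp [Pi.single_apply]
  have hdot : ∀ (c : Fin n → B) (x : F), π c x = ∑ i, c i * g x i := by
    intro c x
    rw [hπsum c, LinearMap.sum_apply]
    rfl
  refine ⟨n, m, g, h, ?_, ?_, ?_⟩
  · -- injectivity
    intro x y hxy
    apply (Module.bijective_dual_eval B F).injective
    ext d
    obtain ⟨c, rfl⟩ := hπ d
    simp only [Module.Dual.eval_apply]
    rw [hdot, hdot, hxy]
  · -- exactness
    intro y
    constructor
    · intro hy
      -- define a functional on the dual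
      have hwell : ∀ c : Fin n → B, π c = 0 → ∑ i, c i * y i = 0 := by
        intro c hc
        obtain ⟨b, rfl⟩ := (hex c).mp hc
        have h1 : ∀ j, (h y) j = ∑ i, M i j * y i := by
          intro j
          simp [h, Matrix.vecMul, dotProduct, mul_comm]
        have h2 : ∀ i, φ b i = ∑ j, M i j * b j := by
          intro i
          rw [← hMφ]
          simp [Matrix.mulVec, dotProduct]
        calc ∑ i, φ b i * y i = ∑ i, (∑ j, M i j * b j) * y i := by simp_rw [h2]
          _ = ∑ j, b j * ∑ i, M i j * y i := by
            simp_rw [Finset.sum_mul, Finset.mul_sum]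
            rw [Finset.sum_comm]
            refine Finset.sum_congr rfl fun j _ => Finset.sum_congr rfl fun i _ => by ring
          _ = 0 := by
            simp_rw [← h1, hy]
            simp
      let dotY : (Fin n → B) →ₗ[B] B :=
        { toFun := fun c => ∑ i, c i * y i
          map_add' := fun c c' => by simp [add_mul, Finset.sum_add_distrib]
          map_smul' := fun r c => by simp [Finset.mul_sum, mul_assoc] }
      have hker : LinearMap.ker π ≤ LinearMap.ker dotY := fun c hc => hwell c hc
      let lam : Module.Dual B (Module.Dual B F) :=
        ((LinearMap.ker π).liftQ dotY hker) ∘ₗ (π.quotKerEquivOfSurjective hπ).symm.toLinearMap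
      have hlam : ∀ c, lam (π c) = ∑ i, c i * y i := by
        intro c
        simp only [lam, LinearMap.coe_comp, LinearEquiv.coe_coe, Function.comp_apply]
        have : (π.quotKerEquivOfSurjective hπ).symm (π c) = Submodule.Quotient.mk c := by
          rw [LinearEquiv.symm_apply_eq]
          rfl
        rw [this]
        rfl
      obtain ⟨x, hx⟩ := (Module.bijective_dual_eval B F).surjective lam
      refine ⟨x, ?_⟩
      ext i
      have h3 := hlam (Pi.single i 1)
      rw [← hx, Module.Dual.eval_apply] at h3
      have h4 : ∑ j, (Pi.single i (1 : B) : Fin n → B) j * y j = y i := by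
        simp [Pi.single_apply]
      rw [h4] at h3
      exact h3
    · rintro ⟨x, rfl⟩
      ext j
      have h1 : (h (g x)) j = ∑ i, M i j * g x i := by
        simp [h, Matrix.vecMul, dotProduct, mul_comm]
      rw [h1]
      have h2 : ∀ i, M i j = φ (Pi.single j 1) i := by
        intro i
        simp [M, LinearMap.toMatrix'_apply]
      simp_rw [h2]
      rw [← hdot]
      have : π (φ (Pi.single j 1)) = 0 := hex.apply_apply_eq_zero _
      rw [this]
      rfl
  · -- local freeness of the cokernel
    intro q hq
    let S := q.asIdeal.primeCompl
    let R' := Localization.AtPrime q.asIdeal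
    haveI hproj : Module.Projective R' (LocalizedModule S (Module.Dual B F)) :=
      projective_localizedModule_dual q.asIdeal (hU q hq)
    -- the localized presentation
    let M' : Matrix (Fin n) (Fin m) R' := M.map (algebraMap B R')
    let π' : (Fin n → R') →ₗ[R'] LocalizedModule S (Module.Dual B F) :=
      IsLocalizedModule.mapExtendScalars S (piAlg R' n)
        (LocalizedModule.mkLinearMap S (Module.Dual B F)) R' π
    have hπ' : Function.Surjective π' :=
      IsLocalizedModule.map_surjective S (piAlg R' n)
        (LocalizedModule.mkLinearMap S (Module.Dual B F)) π hπ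
    have hex' : Function.Exact M'.mulVecLin π' := by
      have := IsLocalizedModule.map_exact S (piAlg R' m) (piAlg R' n)
        (LocalizedModule.mkLinearMap S (Module.Dual B F)) φ π hex
      rw [← hMφ, map_piAlg_mulVecLin] at this
      exact this
    obtain ⟨N', hN'⟩ := exists_mul_mul_eq_of_projective (Q := LocalizedModule S (Module.Dual B F)) M' π' hπ' hex'
    haveI hprojG : Module.Projective R' ((Fin m → R') ⧸ LinearMap.range M'ᵀ.mulVecLin) :=
      projective_quotient_range_transpose_of_mul_mul_eq M' N' hN'
    -- identify the localized cokernel
    let C := (Fin m → B) ⧸ LinearMap.range h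
    let p' : (Fin m → R') →ₗ[R'] LocalizedModule S C :=
      IsLocalizedModule.mapExtendScalars S (piAlg R' m)
        (LocalizedModule.mkLinearMap S C) R' (LinearMap.range h).mkQ
    have hp' : Function.Surjective p' :=
      IsLocalizedModule.map_surjective S (piAlg R' m)
        (LocalizedModule.mkLinearMap S C) _ (LinearMap.range h).mkQ_surjective
    have hexC : Function.Exact h (LinearMap.range h).mkQ := by
      rw [LinearMap.exact_iff, Submodule.ker_mkQ]
    have hexC' : Function.Exact M'ᵀ.mulVecLin p' := by
      have := IsLocalizedModule.map_exact S (piAlg R' n) (piAlg R' m)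
        (LocalizedModule.mkLinearMap S C) h (LinearMap.range h).mkQ hexC
      have hmapT : IsLocalizedModule.map S (piAlg R' n) (piAlg R' m) h =
          (M'ᵀ.mulVecLin).restrictScalars B := by
        show IsLocalizedModule.map S (piAlg R' n) (piAlg R' m) Mᵀ.mulVecLin = _
        rw [map_piAlg_mulVecLin, Matrix.transpose_map]
      rw [hmapT] at this
      exact this
    have hker : LinearMap.ker p' = LinearMap.range M'ᵀ.mulVecLin :=
      LinearMap.exact_iff.mp hexC'
    let eC : ((Fin m → R') ⧸ LinearMap.range M'ᵀ.mulVecLin) ≃ₗ[R'] LocalizedModule S C :=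
      (Submodule.quotEquivOfEq _ _ hker.symm).trans (p'.quotKerEquivOfSurjective hp')
    haveI : Module.Projective R' (LocalizedModule S C) := Module.Projective.of_equiv eC
    haveI : Module.Finite R' (LocalizedModule S C) := inferInstance
    exact Module.free_of_flat_of_isLocalRing

end Groth.Agent.S18709
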