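import Groth.Statements.S18725
import Groth.Agent.S18708
import Groth.Agent.R2.H92FibLocal
import Groth.Agent.Lib.Helper3FlatOpenNoeth

set_option autoImplicit false
universe u
open QGor

namespace Groth.Agent.S18725

open Groth.Agent.Lib.Helper28 Groth.Agent.R2.H92.FibLocal

section LocalIff

variable (A B : Type u) [CommRing A] [CommRing B]
    [IsNoetherianRing A] [IsNoetherianRing B] [Algebra A B]
    (F E0 E1 G : Type u) [AddCommGroup F] [Module B F] [Module A F] [IsScalarTower A B F] [Module.Finite B F]
    [AddCommGroup E0] [Module B E0] [Module A E0] [IsScalarTower A B E0] [Module.Finite B E0] [Module.Flat A E0]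
    [AddCommGroup E1] [Module B E1] [Module A E1] [IsScalarTower A B E1] [Module.Finite B E1] [Module.Flat A E1]
    [AddCommGroup G] [Module B G] [Module A G] [IsScalarTower A B G] [Module.Finite B G]
    (f : F →ₗ[B] E0) (u : E0 →ₗ[B] E1) (v : E1 →ₗ[B] G)
    (hf : Function.Injective f) (hfu : Function.Exact f u) (huv : Function.Exact u v) (hv : Function.Surjective v)

omit [Module A F] [IsScalarTower A B F] in
include hf hfu huv hv in
/-- The local criterion at a prime `q`, assuming flatness of `G` at all strictly smaller primes. -/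
theorem local_iff (q : PrimeSpectrum B)
    (hlt : ∀ q' : PrimeSpectrum B, q'.asIdeal < q.asIdeal → FlatCA.FlatAt A q'.asIdeal G)
    (h0 : 2 ≤ LocCoh.idealDepth (q.asIdeal.map (algebraMap B (EGA4.FibLocRing A B q.asIdeal))) (EGA4.FibLocMod A B q.asIdeal E0))
    (h1 : 1 ≤ LocCoh.idealDepth (q.asIdeal.map (algebraMap B (EGA4.FibLocRing A B q.asIdeal))) (EGA4.FibLocMod A B q.asIdeal E1)) :
    2 ≤ LocCoh.idealDepth (q.asIdeal.map (algebraMap B (EGA4.FibLocRing A B q.asIdeal))) (EGA4.FibLocMod A B q.asIdeal F) ↔
      FlatCA.FlatAt A q.asIdeal G := by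
  have : IsNoetherianRing (Localization.AtPrime (q.asIdeal.comap (algebraMap A B))) :=
    IsLocalization.isNoetherianRing (q.asIdeal.comap (algebraMap A B)).primeCompl _ inferInstance
  have : IsNoetherianRing (Localization.AtPrime q.asIdeal) :=
    IsLocalization.isNoetherianRing q.asIdeal.primeCompl _ inferInstance
  have : Module.Flat (Localization.AtPrime (q.asIdeal.comap (algebraMap A B)))
      (LocalizedModule q.asIdeal.primeCompl E0) :=
    (flat_Ap_iff q.asIdeal E0).mpr (flatAt_of_flat q.asIdeal)
  have : Module.Flat (Localization.AtPrime (q.asIdeal.comap (algebraMap A B)))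
      (LocalizedModule q.asIdeal.primeCompl E1) :=
    (flat_Ap_iff q.asIdeal E1).mpr (flatAt_of_flat q.asIdeal)
  have key := Groth.Agent.S18708.result (Localization.AtPrime (q.asIdeal.comap (algebraMap A B)))
    (Localization.AtPrime q.asIdeal) (IsLocalRing.maximalIdeal (Localization.AtPrime q.asIdeal))
    (LocalizedModule q.asIdeal.primeCompl F) (LocalizedModule q.asIdeal.primeCompl E0)
    (LocalizedModule q.asIdeal.primeCompl E1) (LocalizedModule q.asIdeal.primeCompl G)
    (LocalizedModule.map q.asIdeal.primeCompl f) (LocalizedModule.map q.asIdeal.primeCompl u)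
    (LocalizedModule.map q.asIdeal.primeCompl v)
    (LocalizedModule.map_injective q.asIdeal.primeCompl f hf)
    (LocalizedModule.map_exact q.asIdeal.primeCompl f u hfu)
    (LocalizedModule.map_exact q.asIdeal.primeCompl u v huv)
    (LocalizedModule.map_surjective q.asIdeal.primeCompl v hv)
    ?_ ?_ ?_
  · rw [← idealDepth_fibMod_eq (A := A) q.asIdeal F, key.1, flat_Ap_iff]
  · -- flatness off the closed point
    intro Q hQ
    apply flatAt_Ap_of_flatAt
    have hlt' : Q.asIdeal.comap (algebraMap B (Localization.AtPrime q.asIdeal)) < q.asIdeal := by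
      have hle : Q.asIdeal ≤ IsLocalRing.maximalIdeal (Localization.AtPrime q.asIdeal) :=
        IsLocalRing.le_maximalIdeal Q.isPrime.ne_top
      have hcomap : (IsLocalRing.maximalIdeal (Localization.AtPrime q.asIdeal)).comap
          (algebraMap B (Localization.AtPrime q.asIdeal)) = q.asIdeal :=
        IsLocalization.AtPrime.under_maximalIdeal (Localization.AtPrime q.asIdeal) q.asIdeal
      have hle' : Q.asIdeal.comap (algebraMap B (Localization.AtPrime q.asIdeal)) ≤ q.asIdeal :=
        (Ideal.comap_mono hle).trans hcomap.le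
      refine lt_of_le_of_ne hle' fun heq => hQ ?_
      rw [← Localization.AtPrime.map_eq_maximalIdeal]
      exact Ideal.map_le_iff_le_comap.mpr heq.ge
    exact hlt ⟨Q.asIdeal.comap (algebraMap B (Localization.AtPrime q.asIdeal)), inferInstance⟩ hlt'
  · rw [idealDepth_fibMod_eq (A := A) q.asIdeal E0]
    exact h0
  · rw [idealDepth_fibMod_eq (A := A) q.asIdeal E1]
    exact h1

end LocalIff

/-- Affine form of the equivalence (c) ⇔ (d). Let A → B be a homomorphism of finite type between
Noetherian rings, J an ideal of B and 0 → F → E⁰ → E¹ → G → 0 an exact sequence of finite B-modules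
such that E⁰, E¹ are flat over A, G_q is flat over A for every prime q not containing J, and for
every prime q ⊇ J with contraction p the fibre stalk E⁰_q/pE⁰_q has depth ≥ 2 and E¹_q/pE¹_q has
depth ≥ 1. Then for a prime n of B the following are equivalent: G is flat over A at n; there is a
basic open neighbourhood D(s) of n such that at every prime q ∈ D(s) the module F is flat over A at
q and, if q ⊇ J, the fibre stalk F_q/pF_q has depth ≥ 2 (the restriction maps of the fibres of F off
V(J) are bijective on D(s)). -/
theorem result (A B : Type u) [CommRing A] [CommRing B]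
    [IsNoetherianRing A] [IsNoetherianRing B] [Algebra A B] (hft : Algebra.FiniteType A B) (J : Ideal B)
    (F E0 E1 G : Type u) [AddCommGroup F] [Module B F] [Module A F] [IsScalarTower A B F] [Module.Finite B F]
    [AddCommGroup E0] [Module B E0] [Module A E0] [IsScalarTower A B E0] [Module.Finite B E0] [Module.Flat A E0]
    [AddCommGroup E1] [Module B E1] [Module A E1] [IsScalarTower A B E1] [Module.Finite B E1] [Module.Flat A E1]
    [AddCommGroup G] [Module B G] [Module A G] [IsScalarTower A B G] [Module.Finite B G]
    (f : F →ₗ[B] E0) (u : E0 →ₗ[B] E1) (v : E1 →ₗ[B] G)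
    (hf : Function.Injective f) (hfu : Function.Exact f u) (huv : Function.Exact u v) (hv : Function.Surjective v)
    (hGU : ∀ q : PrimeSpectrum B, ¬ J ≤ q.asIdeal → FlatCA.FlatAt A q.asIdeal G)
    (h0 : ∀ q : PrimeSpectrum B, J ≤ q.asIdeal →
      2 ≤ LocCoh.idealDepth (q.asIdeal.map (algebraMap B (EGA4.FibLocRing A B q.asIdeal))) (EGA4.FibLocMod A B q.asIdeal E0))
    (h1 : ∀ q : PrimeSpectrum B, J ≤ q.asIdeal →
      1 ≤ LocCoh.idealDepth (q.asIdeal.map (algebraMap B (EGA4.FibLocRing A B q.asIdeal))) (EGA4.FibLocMod A B q.asIdeal E1))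
    (n : PrimeSpectrum B) :
    FlatCA.FlatAt A n.asIdeal G ↔
      ∃ s : B, s ∉ n.asIdeal ∧ ∀ q : PrimeSpectrum B, s ∉ q.asIdeal →
        FlatCA.FlatAt A q.asIdeal F ∧
        (J ≤ q.asIdeal →
          2 ≤ LocCoh.idealDepth (q.asIdeal.map (algebraMap B (EGA4.FibLocRing A B q.asIdeal))) (EGA4.FibLocMod A B q.asIdeal F)) := by
  -- the image `K` of `u`
  let K : Submodule B E1 := LinearMap.range u
  let u1 : E0 →ₗ[B] K := u.rangeRestrict
  let u2 : K →ₗ[B] E1 := K.subtype
  have hu1 : Function.Surjective u1 := u.surjective_rangeRestrict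
  have hu2 : Function.Injective u2 := K.injective_subtype
  have hex1 : Function.Exact f u1 := by
    intro y
    rw [← hfu y]
    constructor
    · intro h; exact congrArg Subtype.val h
    · intro h; exact Subtype.ext h
  have hex2 : Function.Exact u2 v := by
    intro y
    rw [huv y]
    constructor
    · rintro ⟨e, rfl⟩; exact ⟨⟨u e, e, rfl⟩, rfl⟩
    · rintro ⟨⟨_, e, rfl⟩, rfl⟩; exact ⟨e, rfl⟩
  constructor
  · -- flatness at `n` spreads to a basic open neighbourhood
    intro hn
    have hopen : IsOpen {q : PrimeSpectrum B |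
        Module.Flat A (LocalizedModule q.asIdeal.primeCompl G)} :=
      Groth.Agent.Lib.Helper3.FlatOpen.isOpen_flatLocus_of_isNoetherianRing
    obtain ⟨_, ⟨s, rfl⟩, hns, hsub⟩ :=
      PrimeSpectrum.isTopologicalBasis_basic_opens.exists_subset_of_mem_open
        (show n ∈ {q : PrimeSpectrum B | Module.Flat A (LocalizedModule q.asIdeal.primeCompl G)}
          from hn) hopen
    refine ⟨s, hns, fun q hsq => ?_⟩
    have hGq : FlatCA.FlatAt A q.asIdeal G := hsub hsq
    refine ⟨?_, fun hJq => ?_⟩
    · have hKq : Module.Flat A (LocalizedModule q.asIdeal.primeCompl K) :=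
        flat_localizedModule_of_exact q.asIdeal.primeCompl u2 v hu2 hv hex2
          (flatAt_of_flat q.asIdeal) hGq
      exact flat_localizedModule_of_exact q.asIdeal.primeCompl f u1 hf hu1 hex1
        (flatAt_of_flat q.asIdeal) hKq
    · refine (local_iff A B F E0 E1 G f u v hf hfu huv hv q ?_ (h0 q hJq) (h1 q hJq)).mpr hGq
      intro q' hq'
      exact hsub (show s ∉ q'.asIdeal from fun h => hsq (hq'.le h))
  · rintro ⟨s, hsn, hs⟩
    have key : ∀ (k : ℕ) (q : PrimeSpectrum B), q.asIdeal.height.toNat = k → s ∉ q.asIdeal →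
        FlatCA.FlatAt A q.asIdeal G := by
      intro k
      induction k using Nat.strong_induction_on with
      | _ k ih =>
        intro q hk hsq
        by_cases hJq : J ≤ q.asIdeal
        · refine (local_iff A B F E0 E1 G f u v hf hfu huv hv q ?_ (h0 q hJq) (h1 q hJq)).mp
            ((hs q hsq).2 hJq)
          intro q' hq'
          have hlt : q'.asIdeal.height < q.asIdeal.height :=
            Ideal.height_strict_mono_of_isPrime hq'
          have hlt' : q'.asIdeal.height.toNat < k := by
            have e1 := ENat.natCast_toNat (q'.asIdeal.height_ne_top_of_isPrime)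
            have e2 := ENat.natCast_toNat (q.asIdeal.height_ne_top_of_isPrime)
            rw [← e1, ← e2, hk] at hlt
            exact_mod_cast hlt
          exact ih _ hlt' q' rfl (fun h => hsq (hq'.le h))
        · exact hGU q hJq
    exact key _ n rfl hsn

end Groth.Agent.S18725
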