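import Groth.Statements.S18737
import Groth.Agent.R2.H92ModPairCoprod

set_option autoImplicit false
universe u
open CategoryTheory CategoryTheory.Limits AlgebraicGeometry TopologicalSpace
open ModPair

namespace Groth.Agent.S18737

open Groth.Agent.R2.H92.ModPair

/-- the scheme-theoretic closure of an open `U₁` does not meet an open `U₀` disjoint from `U₁`. -/
theorem preimage_imageι_eq_bot {X : Scheme.{u}} (U₀ U₁ : X.Opens) (hd : Disjoint U₀ U₁)
    [QuasiCompact U₁.ι] : U₁.ι.imageι ⁻¹ᵁ U₀ = ⊥ := by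
  rw [eq_bot_iff]
  intro x hx
  exfalso
  have h1 : U₁.ι.imageι x ∈ Set.range U₁.ι.imageι := ⟨x, rfl⟩
  rw [Scheme.IdealSheafData.range_subschemeι, Scheme.Hom.support_ker, Scheme.Opens.range_ι] at h1
  have hdis : Disjoint (closure (U₁ : Set X)) (U₀ : Set X) := by
    apply Disjoint.closure_left _ U₀.isOpen
    rw [Set.disjoint_iff]
    intro y ⟨hy1, hy0⟩
    exact hd.le_bot ⟨hy0, hy1⟩
  exact Set.disjoint_iff.mp hdis ⟨h1, hx⟩

/-- Let X be a scheme and I the quasi-coherent ideal sheaf of an effective Cartier divisor on X, with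
open complement U, and suppose U is the disjoint union of two opens U₀, U₁ of X. Let X₀, X₁ ⊆ X be
the scheme-theoretic images of U₀ and U₁ in X and p : X₀ ⨿ X₁ ⟶ X the morphism induced by the two
closed immersions. Then the pulled-back ideal I.comap p is the ideal sheaf of an effective Cartier
divisor, and p is an abstract admissible blow-up from (X₀ ⨿ X₁, I.comap p) to (X, I): proper, with
the pulled-back modulus, and an isomorphism over U. -/
theorem result {X : Scheme.{u}}
    (I : X.IdealSheafData) (hI : BlowUp.IsEffCartierIdeal I) (U₀ U₁ : X.Opens)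
    (hU : U₀ ⊔ U₁ = ModPair.interior I) (hd : Disjoint U₀ U₁) :
    BlowUp.IsEffCartierIdeal (I.comap (coprod.desc U₀.ι.imageι U₁.ι.imageι)) ∧
      ModPair.IsAdmBlowup (I.comap (coprod.desc U₀.ι.imageι U₁.ι.imageι)) I
        (coprod.desc U₀.ι.imageι U₁.ι.imageι) := by
  have hqc : QuasiCompact (ModPair.interior I).ι := Groth.Agent.S18732.quasiCompact_ι I hI (𝟙 X)
  have hqc0 : QuasiCompact U₀.ι :=
    quasiCompact_ι_of_sup_disjoint U₀ U₁ (ModPair.interior I) hU hd
  have hqc1 : QuasiCompact U₁.ι :=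
    quasiCompact_ι_of_sup_disjoint U₁ U₀ (ModPair.interior I) (sup_comm U₁ U₀ ▸ hU) hd.symm
  have h10 : U₁.ι.imageι ⁻¹ᵁ U₀ = ⊥ := preimage_imageι_eq_bot U₀ U₁ hd
  have h01 : U₀.ι.imageι ⁻¹ᵁ U₁ = ⊥ := preimage_imageι_eq_bot U₁ U₀ hd.symm
  -- effective Cartier on each closure
  have hc0 : BlowUp.IsEffCartierIdeal (I.comap U₀.ι.imageι) := by
    have : IsSchemeTheoreticallyDominant (U₀.ι.imageι ⁻¹ᵁ ModPair.interior I).ι := by
      have e : U₀.ι.imageι ⁻¹ᵁ ModPair.interior I = U₀.ι.imageι ⁻¹ᵁ U₀ := by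
        rw [← hU, Scheme.Hom.preimage_sup, h01, sup_bot_eq]
      rw [e]
      exact isSchemeTheoreticallyDominant_preimage_imageι U₀
    exact (Groth.Agent.S18732.result I hI U₀.ι.imageι).2
  have hc1 : BlowUp.IsEffCartierIdeal (I.comap U₁.ι.imageι) := by
    have : IsSchemeTheoreticallyDominant (U₁.ι.imageι ⁻¹ᵁ ModPair.interior I).ι := by
      have e : U₁.ι.imageι ⁻¹ᵁ ModPair.interior I = U₁.ι.imageι ⁻¹ᵁ U₁ := by
        rw [← hU, Scheme.Hom.preimage_sup, h10, bot_sup_eq]
      rw [e]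
      exact isSchemeTheoreticallyDominant_preimage_imageι U₁
    exact (Groth.Agent.S18732.result I hI U₁.ι.imageι).2
  refine ⟨?_, rfl, inferInstance, ?_⟩
  · apply isEffCartierIdeal_of_openCover _ (coprodOpenCover.{u, 0} U₀.ι.image U₁.ι.image)
    rintro (i | i)
    · show BlowUp.IsEffCartierIdeal
        ((I.comap (coprod.desc U₀.ι.imageι U₁.ι.imageι)).comap coprod.inl)
      rw [← Scheme.IdealSheafData.comap_comp, coprod.inl_desc]
      exact hc0
    · show BlowUp.IsEffCartierIdeal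
        ((I.comap (coprod.desc U₀.ι.imageι U₁.ι.imageι)).comap coprod.inr)
      rw [← Scheme.IdealSheafData.comap_comp, coprod.inr_desc]
      exact hc1
  · rw [← hU]
    exact isIso_morphismRestrict_sup _ U₀ U₁
      (isIso_morphismRestrict_coprodDesc_left _ _ U₀ U₀.ι.toImage U₀.ι.toImage_imageι h10)
      (isIso_morphismRestrict_coprodDesc_right _ _ U₁ U₁.ι.toImage U₁.ι.toImage_imageι h01)

end Groth.Agent.S18737
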