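import Groth.Statements.S18750
import Groth.Agent.R2.H92AmbProd
import Groth.Agent.R2.H92BlowExists

set_option autoImplicit false
universe u
open CategoryTheory CategoryTheory.Limits AlgebraicGeometry TopologicalSpace
open ModPair

namespace Groth.Agent.S18750

/-- Let (S, I_S), (T, J), (X, I) be schemes with quasi-coherent ideal sheaves of effective Cartier
divisors and f : X ⟶ S, g : T ⟶ S morphisms satisfying the modulus condition, and let Y₀ be the
scheme-theoretic image of pr₁⁻¹(X°) ∩ pr₂⁻¹(T°) in X ×_S T. Then the ambient product exists: there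
are a blowing up π : Y ⟶ Y₀ of Y₀ in the sum of the two pulled-back moduli and an ideal sheaf K on Y
whose product with the exceptional ideal is the product of the pull-backs of I and J (the divisor
D_X + D_T − E exists). -/
theorem result {S T X : Scheme.{u}} (IS : S.IdealSheafData)
    (J : T.IdealSheafData) (I : X.IdealSheafData) (hS : BlowUp.IsEffCartierIdeal IS)
    (hT : BlowUp.IsEffCartierIdeal J) (hX : BlowUp.IsEffCartierIdeal I)
    (f : X ⟶ S) (hf : ModPair.IsAmbient I IS f) (g : T ⟶ S) (hg : ModPair.IsAmbient J IS g) :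
    ∃ (Y : Scheme.{u}) (π : Y ⟶ ModPair.mprod f g I J) (K : Y.IdealSheafData),
      ModPair.IsAmbProd f g I J π K := by
  obtain ⟨Y, π, hblow⟩ := Groth.Agent.R2.H92.BlowExists.exists_isBlowUp
    (ModPair.mprod f g I J) (ModPair.prodCentre f g I J)
  have hqc : QuasiCompact (ModPair.prodInterior f g I J).ι :=
    Groth.Agent.R2.H92.AmbProd.quasiCompact_prodInterior_ι f g I J hX hT
  have hI' : BlowUp.IsEffCartierIdeal
      (I.comap (ModPair.mprodι f g I J ≫ pullback.fst f g)) :=
    Groth.Agent.R2.H92.AmbProd.isEffCartierIdeal_comap_imageι_of_le (pullback.fst f g) I hX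
      (ModPair.prodInterior f g I J) inf_le_left
  have hJ' : BlowUp.IsEffCartierIdeal
      (J.comap (ModPair.mprodι f g I J ≫ pullback.snd f g)) :=
    Groth.Agent.R2.H92.AmbProd.isEffCartierIdeal_comap_imageι_of_le (pullback.snd f g) J hT
      (ModPair.prodInterior f g I J) inf_le_right
  have hA := Groth.Agent.Lib.Helper20.BlowUpBasic.isEffCartierIdeal_comap _ π hblow _ hI'
  have hB := Groth.Agent.Lib.Helper20.BlowUpBasic.isEffCartierIdeal_comap _ π hblow _ hJ'
  have hEq : (ModPair.prodCentre f g I J).comap π =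
      (I.comap (ModPair.mprodι f g I J ≫ pullback.fst f g)).comap π ⊔
        (J.comap (ModPair.mprodι f g I J ≫ pullback.snd f g)).comap π :=
    Groth.Agent.R2.H92.AmbProd.comap_sup π _ _
  have hE := hblow.1
  rw [hEq] at hE
  obtain ⟨A', B', -, -, hAA', hBB', -, -⟩ := Groth.Agent.S18733.result _ _ hA hB hE
  refine ⟨Y, π, A' * B' * ((I.comap (ModPair.mprodι f g I J ≫ pullback.fst f g)).comap π ⊔
    (J.comap (ModPair.mprodι f g I J ≫ pullback.snd f g)).comap π), hblow, ?_⟩
  rw [hEq]
  generalize (I.comap (ModPair.mprodι f g I J ≫ pullback.fst f g)).comap π = A at hAA' hBB' ⊢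
  generalize (J.comap (ModPair.mprodι f g I J ≫ pullback.snd f g)).comap π = B at hAA' hBB' ⊢
  generalize A ⊔ B = E at hAA' hBB' ⊢
  subst hAA' hBB'
  ring

end Groth.Agent.S18750
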