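import Groth.Statements.S18739
import Groth.Agent.S18738
import Groth.Agent.S18749
import Groth.Agent.S18750
import Groth.Agent.S18752
import Groth.Agent.R2.H92LocLimits

set_option autoImplicit false
universe u
open CategoryTheory CategoryTheory.Limits AlgebraicGeometry TopologicalSpace
open ModPair

namespace Groth.Agent.S18739

/-- the terminal modulus pair: the terminal scheme with the empty divisor -/
noncomputable def termPair : ModPair.Pair.{u} :=
  ⟨⊤_ Scheme.{u}, ⊤, Groth.Agent.R2.H92.AmbProd.isEffCartierIdeal_top⟩

/-- `termPair` is terminal -/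
noncomputable def isTerminalTermPair : IsTerminal termPair.{u} :=
  IsTerminal.ofUniqueHom
    (fun Z => ModPair.Pair.Hom.mk (P := Z) (Q := termPair.{u}) (terminal.from Z.total) (by
      show Z.mod ≤ (⊤ : (⊤_ Scheme.{u}).IdealSheafData).comap (terminal.from Z.total)
      rw [Groth.Agent.Lib.Helper20.BlowUpBasic.comap_eq_top_of_le ⊤ (terminal.from Z.total)
        (fun y hy => by simp at hy)]
      exact le_top))
    (fun Z m => ModPair.Pair.Hom.ext (terminal.hom_ext _ _))

/-- The localization of the category of modulus pairs and ambient morphisms at the class of abstract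
admissible blow-ups has all finite limits. -/
theorem result :
    HasFiniteLimits (ModPair.Pair.admBlowup.{u}).Localization := by
  have : (ModPair.Pair.admBlowup.{u}).HasRightCalculusOfFractions := Groth.Agent.S18738.result
  have hterm : HasTerminal (ModPair.Pair.admBlowup.{u}).Localization := by
    obtain ⟨h⟩ := Groth.Agent.R2.H92.LocLimits.isTerminal_map (ModPair.Pair.admBlowup.{u}).Q
      (ModPair.Pair.admBlowup.{u}) isTerminalTermPair.{u}
    exact h.hasTerminal
  have hpb : HasPullbacks (ModPair.Pair.admBlowup.{u}).Localization := by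
    refine Groth.Agent.R2.H92.LocLimits.hasPullbacks_of_map (ModPair.Pair.admBlowup.{u}).Q
      (ModPair.Pair.admBlowup.{u}) ?_
    intro X T P f g
    obtain ⟨Y, π, K, hY⟩ := Groth.Agent.S18750.result P.mod T.mod X.mod P.isEffCartier
      T.isEffCartier X.isEffCartier f.hom f.cond g.hom g.cond
    obtain ⟨hK, hX, hT, -⟩ := Groth.Agent.S18749.result P.mod T.mod X.mod P.isEffCartier
      T.isEffCartier X.isEffCartier f.hom f.cond g.hom g.cond π K hY
    exact (Groth.Agent.S18752.result P T X f g π K hY hK hX hT).flip.hasPullback
  exact hasFiniteLimits_of_hasTerminal_and_pullbacks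

end Groth.Agent.S18739
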