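import Groth.Statements.S18747
import Groth.Agent.R2.H92SigmaIdeal

set_option autoImplicit false
universe u
open CategoryTheory CategoryTheory.Limits AlgebraicGeometry TopologicalSpace
open ModPair

namespace Groth.Agent.S18747


open Groth.Agent.R2.H92.SigmaIdeal Groth.Agent.R2.H92.ModPair in
/-- the coproduct of a family of modulus pairs, with its universal property and the fact that the
total-space functor sends it to a coproduct -/
theorem exists_cofan {σ : Type u} (P : σ → ModPair.Pair.{u}) :
    ∃ c : Cofan P, Nonempty (IsColimit c) ∧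
      Nonempty (IsColimit (ModPair.Pair.forget.{u}.mapCocone c)) := by
  obtain ⟨K, hK⟩ := exists_idealSheafData_sigma (fun i => (P i).total) (fun i => (P i).mod)
  have hKeff : BlowUp.IsEffCartierIdeal K := by
    refine isEffCartierIdeal_of_openCover K (sigmaOpenCover (fun i => (P i).total)) fun i => ?_
    show BlowUp.IsEffCartierIdeal (K.comap (Sigma.ι (fun i => (P i).total) i))
    rw [hK i]
    exact (P i).isEffCartier
  let Q : ModPair.Pair.{u} := ⟨∐ fun i => (P i).total, K, hKeff⟩
  let inj : ∀ i, P i ⟶ Q := fun i => ⟨Sigma.ι (fun i => (P i).total) i, (hK i).ge⟩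
  have hcond : ∀ s : Cofan P, ModPair.IsAmbient K s.pt.mod
      (Sigma.desc fun i => (s.inj i).hom) := by
    intro s
    refine le_of_openCover K _ (sigmaOpenCover (fun i => (P i).total)) fun (i : σ) => ?_
    show K.comap (Sigma.ι (fun i => (P i).total) i) ≤
      (s.pt.mod.comap (Sigma.desc fun i => (s.inj i).hom)).comap
        (Sigma.ι (fun i => (P i).total) i)
    rw [hK i, ← Scheme.IdealSheafData.comap_comp,
      Sigma.ι_desc (fun i => (s.inj i).hom) i]
    exact (s.inj i).cond
  refine ⟨Cofan.mk Q inj, ⟨Cofan.IsColimit.mk _
    (fun s => ⟨Sigma.desc fun i => (s.inj i).hom, hcond s⟩)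
    (fun s i => ?_) (fun s m hm => ?_)⟩, ⟨?_⟩⟩
  · apply ModPair.Pair.Hom.ext
    exact Sigma.ι_desc _ _
  · apply ModPair.Pair.Hom.ext
    refine Sigma.hom_ext _ _ fun i => ?_
    rw [Sigma.ι_desc (fun i => (s.inj i).hom) i]
    exact congrArg ModPair.Pair.Hom.hom (hm i)
  · exact
    { desc := fun s => Sigma.desc fun i => s.ι.app ⟨i⟩
      fac := fun s ⟨i⟩ => Sigma.ι_desc _ _
      uniq := fun s (m : (∐ fun i => (P i).total) ⟶ s.pt) hm => Sigma.hom_ext _ _ fun i =>
        (hm ⟨i⟩).trans (Sigma.ι_desc (fun i => s.ι.app ⟨i⟩) i).symm }

/-- The category of modulus pairs and ambient morphisms admits coproducts (indexed by any type in the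
universe of the schemes involved), and the total-space functor to schemes preserves them: the
coproduct of a family (X_i, I_i) is the disjoint union of the X_i with the modulus restricting to
I_i on each summand. (The published statement adds that the total-space functor detects coproducts;
read as reflection of coproducts this fails, since the identity of a scheme X is an ambient morphism
from (X, I) to (X, unit ideal) whose image is trivially a coproduct of the one-member family while
(X, unit ideal) is not the coproduct of (X, I) when I is not the unit ideal; only existence and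
preservation are stated.) -/
theorem result (σ : Type u) :
    HasColimitsOfShape (Discrete σ) ModPair.Pair.{u} ∧
      PreservesColimitsOfShape (Discrete σ) ModPair.Pair.forget.{u} := by
  have key : ∀ F : Discrete σ ⥤ ModPair.Pair.{u},
      HasColimit F ∧ PreservesColimit F ModPair.Pair.forget.{u} := by
    intro F
    obtain ⟨c, ⟨hc⟩, ⟨hc'⟩⟩ := exists_cofan (F.obj ∘ Discrete.mk)
    have h1 : HasColimit (Discrete.functor (F.obj ∘ Discrete.mk)) := ⟨⟨⟨c, hc⟩⟩⟩
    have h2 : PreservesColimit (Discrete.functor (F.obj ∘ Discrete.mk)) ModPair.Pair.forget.{u} :=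
      preservesColimit_of_preserves_colimit_cocone hc hc'
    exact ⟨hasColimit_of_iso Discrete.natIsoFunctor,
      preservesColimit_of_iso_diagram _ Discrete.natIsoFunctor.symm⟩
  exact ⟨⟨fun F => (key F).1⟩, ⟨fun {F} => (key F).2⟩⟩

end Groth.Agent.S18747
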