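import Groth.Statements.S18748
import Groth.Agent.R2.H92PairCoprod

set_option autoImplicit false
universe u
open CategoryTheory CategoryTheory.Limits AlgebraicGeometry TopologicalSpace
open ModPair

namespace Groth.Agent.S18748


/-- a limit cone of a discrete diagram in the opposite category gives a colimit cofan -/
noncomputable def isColimitCofanUnop {C : Type*} [Category C] {J : Type*} (X : Discrete J ⥤ Cᵒᵖ)
    (c : Cone X) (hc : IsLimit c) :
    IsColimit (Cofan.mk c.pt.unop (fun i => (c.π.app ⟨i⟩).unop) :
      Cofan (fun i => (X.obj ⟨i⟩).unop)) :=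
  Cofan.IsColimit.mk _
    (fun s => (hc.lift ⟨Opposite.op s.pt, Discrete.natTrans fun i => (s.inj i.as).op⟩).unop)
    (fun s i => by
      have := hc.fac ⟨Opposite.op s.pt, Discrete.natTrans fun i => (s.inj i.as).op⟩ ⟨i⟩
      exact congrArg Quiver.Hom.unop this)
    (fun s m hm => by
      apply Quiver.Hom.op_inj
      refine hc.uniq ⟨Opposite.op s.pt, Discrete.natTrans fun i => (s.inj i.as).op⟩ m.op ?_
      rintro ⟨i⟩
      exact congrArg Quiver.Hom.op (hm i))

/-- The localization of the category of modulus pairs and ambient morphisms at the class of abstract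
admissible blow-ups has binary coproducts, and the localization functor carries the coproduct of two
modulus pairs (the disjoint union of the total spaces with the disjoint union of the moduli) to a
coproduct. (The source also states that the interior functor detects these coproducts; that part is
not included.) -/
theorem result :
    HasBinaryCoproducts (ModPair.Pair.admBlowup.{u}).Localization ∧
      PreservesColimitsOfShape (Discrete WalkingPair) (ModPair.Pair.admBlowup.{u}).Q := by
  have hcop : HasColimitsOfShape (Discrete WalkingPair) ModPair.Pair.{u} := ⟨fun F => by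
    obtain ⟨c, ⟨hc⟩, -, -⟩ := Groth.Agent.R2.H92.PairCoprod.exists_cofan (F.obj ∘ Discrete.mk)
    have : HasColimit (Discrete.functor (F.obj ∘ Discrete.mk)) := ⟨⟨⟨c, hc⟩⟩⟩
    exact hasColimit_of_iso Discrete.natIsoFunctor⟩
  have hprod : HasProductsOfShape WalkingPair ModPair.Pair.{u}ᵒᵖ := inferInstance
  have hid : (ModPair.Pair.admBlowup.{u}).ContainsIdentities :=
    ⟨fun P => Groth.Agent.S18738.isAdmBlowup_id P.mod⟩
  have hstab : (ModPair.Pair.admBlowup.{u}).op.IsStableUnderLimitsOfShape
      (Discrete WalkingPair) := by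
    constructor
    intro X₁ X₂ c₁ c₂ h₁ h₂ f hf φ hφ
    show ModPair.Pair.admBlowup φ.unop
    have hc := isColimitCofanUnop X₂ c₂ h₂
    have hd := isColimitCofanUnop X₁ c₁ h₁
    exact Groth.Agent.R2.H92.PairCoprod.admBlowup_of_cofans
      (fun i => (X₂.obj ⟨i⟩).unop) (fun i => (X₁.obj ⟨i⟩).unop) (fun i => (f.app ⟨i⟩).unop)
      (fun i => hf ⟨i⟩) _
      (Groth.Agent.R2.H92.PairCoprod.isGoodCofan_of_isColimit _ _ hc) _
      (Groth.Agent.R2.H92.PairCoprod.isGoodCofan_of_isColimit _ _ hd) φ.unop
      (fun i => congrArg Quiver.Hom.unop (hφ ⟨i⟩))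
  have h1 : HasProductsOfShape WalkingPair (ModPair.Pair.admBlowup.{u}).Localizationᵒᵖ :=
    Localization.hasProductsOfShape (ModPair.Pair.admBlowup.{u}).Q.op
      (ModPair.Pair.admBlowup.{u}).op WalkingPair
  have h2 : PreservesLimitsOfShape (Discrete WalkingPair) (ModPair.Pair.admBlowup.{u}).Q.op :=
    Localization.preservesProductsOfShape (ModPair.Pair.admBlowup.{u}).Q.op
      (ModPair.Pair.admBlowup.{u}).op WalkingPair
  refine ⟨hasCoproductsOfShape_of_opposite WalkingPair, ?_⟩
  have h3 : PreservesLimitsOfShape (Discrete WalkingPair)ᵒᵖ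
      (ModPair.Pair.admBlowup.{u}).Q.op :=
    preservesLimitsOfShape_of_equiv (Discrete.opposite WalkingPair).symm _
  exact preservesColimitsOfShape_of_op _ _

end Groth.Agent.S18748
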