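import Groth.Statements.S18755
import Groth.Agent.R2.H92AmbProd
import Groth.Agent.S18749

set_option autoImplicit false
universe u
open CategoryTheory CategoryTheory.Limits AlgebraicGeometry TopologicalSpace
open ModPair

namespace Groth.Agent.S18755

/-- Let (S₀, I₀), (S₁, I₁), (T, J), (X, I) be schemes with quasi-coherent ideal sheaves of effective
Cartier divisors, f : X ⟶ S₁, g : T ⟶ S₁ and σ : S₁ ⟶ S₀ morphisms satisfying the modulus condition,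
and let (Y₁, K₁) with π₁ and (Y₀, K₀) with π₀ be ambient products of (X, I) and (T, J) over S₁ and
over S₀ (the latter for f ≫ σ and g ≫ σ): blow-ups of the scheme-theoretic image of the product of
the interiors inside X ×_{S₁} T, resp. X ×_{S₀} T, in the intersection of the pulled-back moduli,
with K·E = D_X·D_T. Then the ambient product is functorial in the base: there is a unique morphism φ
: Y₁ ⟶ Y₀ compatible with the maps to X ×_{S₀} T (through the canonical X ×_{S₁} T ⟶ X ×_{S₀} T),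
and every such φ is minimal, K₁ = K₀.comap φ. -/
theorem result {S₀ S₁ T X Y₁ Y₀ : Scheme.{u}} (I₀ : S₀.IdealSheafData)
    (I₁ : S₁.IdealSheafData) (J : T.IdealSheafData) (I : X.IdealSheafData)
    (h₀ : BlowUp.IsEffCartierIdeal I₀) (h₁ : BlowUp.IsEffCartierIdeal I₁)
    (hT : BlowUp.IsEffCartierIdeal J) (hX : BlowUp.IsEffCartierIdeal I)
    (f : X ⟶ S₁) (hf : ModPair.IsAmbient I I₁ f) (g : T ⟶ S₁) (hg : ModPair.IsAmbient J I₁ g)
    (σ : S₁ ⟶ S₀) (hσ : ModPair.IsAmbient I₁ I₀ σ)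
    (π₁ : Y₁ ⟶ ModPair.mprod f g I J) (K₁ : Y₁.IdealSheafData) (hY₁ : ModPair.IsAmbProd f g I J π₁ K₁)
    (π₀ : Y₀ ⟶ ModPair.mprod (f ≫ σ) (g ≫ σ) I J) (K₀ : Y₀.IdealSheafData)
    (hY₀ : ModPair.IsAmbProd (f ≫ σ) (g ≫ σ) I J π₀ K₀) :
    (∃! φ : Y₁ ⟶ Y₀, φ ≫ π₀ ≫ ModPair.mprodι (f ≫ σ) (g ≫ σ) I J =
        π₁ ≫ ModPair.mprodι f g I J ≫ pullback.mapDesc f g σ) ∧
      ∀ φ : Y₁ ⟶ Y₀, φ ≫ π₀ ≫ ModPair.mprodι (f ≫ σ) (g ≫ σ) I J =
          π₁ ≫ ModPair.mprodι f g I J ≫ pullback.mapDesc f g σ →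
        ModPair.IsMinimal K₁ K₀ φ := by
  -- notation
  obtain ⟨m, hm⟩ : ∃ m, m = pullback.mapDesc f g σ := ⟨_, rfl⟩
  have hm1 : m ≫ pullback.fst (f ≫ σ) (g ≫ σ) = pullback.fst f g := by
    rw [hm, pullback.lift_fst, Category.comp_id]
  have hm2 : m ≫ pullback.snd (f ≫ σ) (g ≫ σ) = pullback.snd f g := by
    rw [hm, pullback.lift_snd, Category.comp_id]
  rw [← hm]
  obtain ⟨hK₁eff, -, -, hint⟩ := Groth.Agent.S18749.result I₁ J I h₁ hT hX f hf g hg π₁ K₁ hY₁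
  obtain ⟨hblow₁, hK₁⟩ := hY₁
  obtain ⟨hblow₀, hK₀⟩ := hY₀
  -- the interiors match
  have hV : ModPair.prodInterior f g I J = m ⁻¹ᵁ ModPair.prodInterior (f ≫ σ) (g ≫ σ) I J := by
    unfold ModPair.prodInterior
    rw [Scheme.Hom.preimage_inf, ← Scheme.Hom.comp_preimage, ← Scheme.Hom.comp_preimage, hm1, hm2]
  have hc : ModPair.interior K₁ ≤
      (π₁ ≫ ModPair.mprodι f g I J ≫ m) ⁻¹ᵁ ModPair.prodInterior (f ≫ σ) (g ≫ σ) I J := by
    rw [hint, hV, ← Scheme.Hom.comp_preimage, Category.assoc]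
  obtain ⟨ψ, hψ, -⟩ := Groth.Agent.R2.H92.ModPair.existsUnique_lift_image K₁ hK₁eff
    (π₁ ≫ ModPair.mprodι f g I J ≫ m) (ModPair.prodInterior (f ≫ σ) (g ≫ σ) I J) hc
  have hψ' : ψ ≫ ModPair.mprodι (f ≫ σ) (g ≫ σ) I J = π₁ ≫ ModPair.mprodι f g I J ≫ m := hψ
  -- pull-backs of the moduli
  have hA : (I.comap (ModPair.mprodι (f ≫ σ) (g ≫ σ) I J ≫ pullback.fst (f ≫ σ) (g ≫ σ))).comap ψ =
      (I.comap (ModPair.mprodι f g I J ≫ pullback.fst f g)).comap π₁ := by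
    calc _ = I.comap (ψ ≫ ModPair.mprodι (f ≫ σ) (g ≫ σ) I J ≫ pullback.fst (f ≫ σ) (g ≫ σ)) :=
          (Scheme.IdealSheafData.comap_comp I ψ _).symm
      _ = I.comap (π₁ ≫ ModPair.mprodι f g I J ≫ pullback.fst f g) := by
          rw [← Category.assoc, hψ', Category.assoc, Category.assoc, hm1]
      _ = _ := Scheme.IdealSheafData.comap_comp I π₁ _
  have hB : (J.comap (ModPair.mprodι (f ≫ σ) (g ≫ σ) I J ≫ pullback.snd (f ≫ σ) (g ≫ σ))).comap ψ =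
      (J.comap (ModPair.mprodι f g I J ≫ pullback.snd f g)).comap π₁ := by
    calc _ = J.comap (ψ ≫ ModPair.mprodι (f ≫ σ) (g ≫ σ) I J ≫ pullback.snd (f ≫ σ) (g ≫ σ)) :=
          (Scheme.IdealSheafData.comap_comp J ψ _).symm
      _ = J.comap (π₁ ≫ ModPair.mprodι f g I J ≫ pullback.snd f g) := by
          rw [← Category.assoc, hψ', Category.assoc, Category.assoc, hm2]
      _ = _ := Scheme.IdealSheafData.comap_comp J π₁ _
  have hC : (ModPair.prodCentre (f ≫ σ) (g ≫ σ) I J).comap ψ =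
      (ModPair.prodCentre f g I J).comap π₁ := by
    unfold ModPair.prodCentre
    rw [Groth.Agent.R2.H92.AmbProd.comap_sup, Groth.Agent.R2.H92.AmbProd.comap_sup, hA, hB]
  have hE : BlowUp.IsEffCartierIdeal ((ModPair.prodCentre (f ≫ σ) (g ≫ σ) I J).comap ψ) := by
    rw [hC]; exact hblow₁.1
  have hK₁' : K₁ * (ModPair.prodCentre (f ≫ σ) (g ≫ σ) I J).comap ψ =
      (I.comap (ModPair.mprodι (f ≫ σ) (g ≫ σ) I J ≫ pullback.fst (f ≫ σ) (g ≫ σ))).comap ψ *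
      (J.comap (ModPair.mprodι (f ≫ σ) (g ≫ σ) I J ≫ pullback.snd (f ≫ σ) (g ≫ σ))).comap ψ := by
    rw [hC, hA, hB]; exact hK₁
  obtain ⟨⟨φ, hφ, hφu⟩, hmin⟩ := Groth.Agent.R2.H92.AmbProd.existsUnique_lift_isBlowUp_minimal
    _ _ π₀ hblow₀ K₀ hK₀ ψ hE K₁ hK₁'
  have hmono : ∀ φ' : Y₁ ⟶ Y₀, φ' ≫ π₀ ≫ ModPair.mprodι (f ≫ σ) (g ≫ σ) I J =
      π₁ ≫ ModPair.mprodι f g I J ≫ m → φ' ≫ π₀ = ψ := by
    intro φ' h
    rw [← cancel_mono (ModPair.mprodι (f ≫ σ) (g ≫ σ) I J), Category.assoc, h, hψ']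
  refine ⟨⟨φ, ?_, fun φ' h => hφu φ' (hmono φ' h)⟩, fun φ' h => hmin φ' (hmono φ' h)⟩
  show φ ≫ π₀ ≫ ModPair.mprodι (f ≫ σ) (g ≫ σ) I J = _
  rw [← Category.assoc, hφ, hψ']

end Groth.Agent.S18755
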