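import Groth.Statements.S1883
import Groth.Agent.S7518
import Groth.Agent.R2.H6GrpdSigmaTau

set_option autoImplicit false
universe u
open CategoryTheory CategoryTheory.Limits AlgebraicGeometry
open Grpd

namespace Groth.Agent.S1883

/-- Let (U, R, s, t, c) be a groupoid scheme over S with U the spectrum of a field and s, t locally of
finite type. Then R and its stabilizer group scheme G have equal dimension (G is the base change of
(t, s) along the diagonal of U). (A groupoid scheme carries U, R, s, t, c, e, i over S with the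
groupoid axioms on T-points; 'finite locally free' is finite, flat and locally of finite
presentation; C ⊂ Γ(U) is the ring of functions a with s♯(a) = t♯(a) and M = Spec C.) -/
theorem result (S : Scheme.{u}) (G : Grpd.GroupoidScheme S) (k : Type u) [Field k] (eU : G.U ≅ Spec (CommRingCat.of k)) [LocallyOfFiniteType G.s] [LocallyOfFiniteType G.t] : topologicalKrullDim G.R = topologicalKrullDim G.stabilizer := by
  classical
  open Groth.Agent.R2.H6.GrpdSigmaTau in
  apply le_antisymm
  · -- dim R ≤ dim G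
    let pt : Spec (CommRingCat.of k) := IsLocalRing.closedPoint k
    let x0 : Spec (CommRingCat.of k) ⟶ G.R := eU.inv ≫ G.e
    obtain ⟨_, ⟨W, hW, rfl⟩, hxW, -⟩ :=
      G.R.isBasis_affineOpens.exists_subset_of_mem_open (Set.mem_univ (x0 pt)) isOpen_univ
    have hW' : IsAffineOpen W := hW
    have hrange : Set.range x0 ⊆ Set.range hW'.fromSpec := by
      rw [hW'.range_fromSpec]
      rintro _ ⟨y, rfl⟩
      have : y = pt := Subsingleton.elim (α := PrimeSpectrum k) y pt
      rw [this]
      exact hxW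
    let eB : Spec (CommRingCat.of k) ⟶ Spec Γ(G.R, W) := IsOpenImmersion.lift hW'.fromSpec x0 hrange
    have heB : eB ≫ hW'.fromSpec = x0 := IsOpenImmersion.lift_fac _ _ _
    let ψ : Γ(G.R, W) ⟶ CommRingCat.of k := Spec.preimage eB
    have hψ : Spec.map ψ = eB := Spec.map_preimage eB
    haveI hkp : (RingHom.ker ψ.hom).IsPrime := by
      haveI : IsDomain (CommRingCat.of k) := inferInstanceAs (IsDomain k)
      exact RingHom.ker_isPrime _
    obtain ⟨𝔭, h𝔭min, h𝔭le⟩ :=
      Ideal.exists_minimalPrimes_le (bot_le : (⊥ : Ideal Γ(G.R, W)) ≤ RingHom.ker ψ.hom)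
    have h𝔭p : 𝔭.IsPrime := h𝔭min.1.1
    letI : G.R.Over (Spec (CommRingCat.of k)) := ⟨G.s ≫ eU.hom⟩
    haveI : LocallyOfFiniteType (G.R ↘ Spec (CommRingCat.of k)) := by
      show LocallyOfFiniteType (G.s ≫ eU.hom)
      infer_instance
    haveI : IsLocallyNoetherian G.R :=
      LocallyOfFiniteType.isLocallyNoetherian (G.R ↘ Spec (CommRingCat.of k))
    haveI : IsNoetherianRing Γ(G.R, W) := IsLocallyNoetherian.component_noetherian ⟨W, hW'⟩
    let ι : Spec (CommRingCat.of (Γ(G.R, W) ⧸ 𝔭)) ⟶ G.R :=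
      Spec.map (CommRingCat.ofHom (Ideal.Quotient.mk 𝔭)) ≫ hW'.fromSpec
    let ε : (Γ(G.R, W) ⧸ 𝔭) →+* k := Ideal.Quotient.lift 𝔭 ψ.hom (fun a ha => h𝔭le ha)
    let ebar : Spec (CommRingCat.of k) ⟶ Spec (CommRingCat.of (Γ(G.R, W) ⧸ 𝔭)) :=
      Spec.map (CommRingCat.ofHom ε)
    have hebar : ebar ≫ ι = x0 := by
      have h1 : CommRingCat.ofHom (Ideal.Quotient.mk 𝔭) ≫ CommRingCat.ofHom ε = ψ := by
        ext a
        simp [ε]
      show Spec.map (CommRingCat.ofHom ε) ≫ Spec.map (CommRingCat.ofHom (Ideal.Quotient.mk 𝔭)) ≫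
        hW'.fromSpec = x0
      rw [← Category.assoc, ← Spec.map_comp, h1, hψ, heB]
    have key : ι ≫ G.s ≫ eU.hom = ι ≫ G.t ≫ eU.hom := by
      apply spec_hom_eq_of_section _ _ ebar
      · rw [← Category.assoc, hebar]
        show (eU.inv ≫ G.e) ≫ G.s ≫ eU.hom = 𝟙 _
        rw [Category.assoc, ← Category.assoc G.e, G.e_s, Category.id_comp, eU.inv_hom_id]
      · rw [← Category.assoc, hebar]
        show (eU.inv ≫ G.e) ≫ G.t ≫ eU.hom = 𝟙 _
        rw [Category.assoc, ← Category.assoc G.e, G.e_t, Category.id_comp, eU.inv_hom_id]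
    have hst : ι ≫ G.s = ι ≫ G.t := by
      rw [← Category.assoc, ← Category.assoc] at key
      exact (cancel_mono eU.hom).mp key
    have hcond : ι ≫ G.j = (ι ≫ G.s) ≫ G.diag := by
      have e1 : G.j ≫ pullback.fst G.pU G.pU = G.t := pullback.lift_fst _ _ _
      have e2 : G.diag ≫ pullback.fst G.pU G.pU = 𝟙 _ := pullback.lift_fst _ _ _
      have e3 : G.j ≫ pullback.snd G.pU G.pU = G.s := pullback.lift_snd _ _ _
      have e4 : G.diag ≫ pullback.snd G.pU G.pU = 𝟙 _ := pullback.lift_snd _ _ _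
      apply pullback.hom_ext
      · calc (ι ≫ G.j) ≫ pullback.fst G.pU G.pU = ι ≫ (G.j ≫ pullback.fst G.pU G.pU) :=
              Category.assoc _ _ _
          _ = ι ≫ G.t := by rw [e1]
          _ = ι ≫ G.s := hst.symm
          _ = (ι ≫ G.s) ≫ 𝟙 _ := (Category.comp_id _).symm
          _ = (ι ≫ G.s) ≫ (G.diag ≫ pullback.fst G.pU G.pU) := by rw [e2]
          _ = ((ι ≫ G.s) ≫ G.diag) ≫ pullback.fst G.pU G.pU := (Category.assoc _ _ _).symm
      · calc (ι ≫ G.j) ≫ pullback.snd G.pU G.pU = ι ≫ (G.j ≫ pullback.snd G.pU G.pU) :=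
              Category.assoc _ _ _
          _ = ι ≫ G.s := by rw [e3]
          _ = (ι ≫ G.s) ≫ 𝟙 _ := (Category.comp_id _).symm
          _ = (ι ≫ G.s) ≫ (G.diag ≫ pullback.snd G.pU G.pU) := by rw [e4]
          _ = ((ι ≫ G.s) ≫ G.diag) ≫ pullback.snd G.pU G.pU := (Category.assoc _ _ _).symm
    let lam : Spec (CommRingCat.of (Γ(G.R, W) ⧸ 𝔭)) ⟶ pullback G.j G.diag :=
      pullback.lift ι (ι ≫ G.s) hcond
    have hlam : lam ≫ pullback.fst G.j G.diag = ι := pullback.lift_fst _ _ _
    have hlamind : Topology.IsInducing lam := by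
      apply Topology.IsInducing.of_comp lam.continuous (pullback.fst G.j G.diag).continuous
      have : (pullback.fst G.j G.diag) ∘ lam = ι := by
        rw [← hlam]
        rfl
      rw [this]
      exact ι.isEmbedding.isInducing
    calc topologicalKrullDim G.R
        = FlatMor.localDim G.R (hW'.fromSpec ⟨𝔭, h𝔭p⟩) :=
          ((Groth.Agent.S7518.result S G k eU).2 _).symm
      _ ≤ topologicalKrullDim (Spec (CommRingCat.of (Γ(G.R, W) ⧸ 𝔭))) :=
          localDim_le_of_minimalPrimes G.R W hW' 𝔭 h𝔭min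
      _ ≤ topologicalKrullDim G.stabilizer := hlamind.topologicalKrullDim_le
  · -- dim G ≤ dim R
    haveI : IsImmersion G.diag := by
      unfold Grpd.GroupoidScheme.diag
      exact inferInstanceAs (IsImmersion (pullback.diagonal G.pU))
    exact (pullback.fst G.j G.diag).isEmbedding.isInducing.topologicalKrullDim_le

end Groth.Agent.S1883
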