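import Groth.Statements.S18874
import Mathlib
import Groth.Agent.S2074
import Groth.Agent.R2.H87CplProper
-- import your own Groth.Agent.* helpers here

set_option autoImplicit false
universe u
open Lim

namespace Groth.Agent.S18874

open CategoryTheory AlgebraicGeometry in
/-- Let S be a quasi-compact scheme whose affine opens have excellent coordinate rings, let X → S and Y
→ S be quasi-compact, quasi-separated and locally of finite presentation, let f : X → Y be a
morphism over S, let s be a closed point of S and R the completion of the local ring of S at s. If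
the base change X ×_S Spec R → Y ×_S Spec R of f is proper, then s has an open neighbourhood W in S
such that X ×_S W → Y ×_S W is proper. (The published statement assumes X and Y only locally of
finite presentation over S; for S the affine line over a field, s the origin, Y = S and X the
disjoint union of S with one reduced point over each closed point other than s, the base change to
Spec R is an isomorphism while X ×_S W → W is not quasi-compact for any open W ∋ s, so X and Y are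
taken of finite presentation over S here, which is what the limit argument of the published proof
uses.) -/
theorem result
    (S : Scheme.{u}) [CompactSpace S] (hS : ∀ U : S.affineOpens, EGA4.IsExcellent Γ(S, U.1))
    {X Y : Scheme.{u}} (f : X ⟶ Y) (g : Y ⟶ S)
    [QuasiCompact g] [QuasiSeparated g] [LocallyOfFinitePresentation g]
    [QuasiCompact (f ≫ g)] [QuasiSeparated (f ≫ g)] [LocallyOfFinitePresentation (f ≫ g)]
    (s : S) (hs : IsClosed ({s} : Set S))
    (hR : IsProper (Limits.pullback.snd f (Limits.pullback.fst g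
      (Spec.map (CommRingCat.ofHom (algebraMap (S.presheaf.stalk s) (EGA4.Cpl (S.presheaf.stalk s)))) ≫
        S.fromSpecStalk s)))) :
    ∃ W : S.Opens, s ∈ W ∧ IsProper (f ∣_ (g ⁻¹ᵁ W)) := by
  classical
  have _ := hs
  -- Noetherianity of the local ring
  have hLN : IsLocallyNoetherian S := ⟨fun U => (hS U).1⟩
  have hAN : IsNoetherianRing (S.presheaf.stalk s) := inferInstance
  -- the limit system of affine neighbourhoods
  obtain ⟨a₀⟩ : Nonempty (Groth.Agent.Lib.Helper26.StalkLim.AffNhd s) := inferInstance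
  obtain ⟨D, hD⟩ : ∃ D : (Groth.Agent.Lib.Helper26.StalkLim.AffNhd s)ᵒᵖ ⥤ Scheme.{u},
      D = Groth.Agent.Lib.Helper26.StalkLim.specDiagram s := ⟨_, rfl⟩
  subst hD
  let c := Groth.Agent.Lib.Helper26.StalkLim.specCone s
  have hc := Groth.Agent.Lib.Helper26.StalkLim.specIsLimit s
  let i₀ : (Groth.Agent.Lib.Helper26.StalkLim.AffNhd s)ᵒᵖ := Opposite.op a₀
  obtain ⟨τ₀, hτ₀⟩ : ∃ τ₀ : (Groth.Agent.Lib.Helper26.StalkLim.specDiagram s).obj i₀ ⟶ S,
      τ₀ = Groth.Agent.Lib.Helper26.StalkLim.toX s i₀ := ⟨_, rfl⟩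
  -- stage i₀
  obtain ⟨Y₀, yY₀, g₀, hY₀⟩ : ∃ (Y₀ : Scheme.{u}) (yY₀ : Y₀ ⟶ Y)
      (g₀ : Y₀ ⟶ (Groth.Agent.Lib.Helper26.StalkLim.specDiagram s).obj i₀),
      IsPullback yY₀ g₀ g τ₀ := ⟨_, _, _, IsPullback.of_hasPullback g τ₀⟩
  obtain ⟨X₀, xX₀, f₀, hX₀⟩ : ∃ (X₀ : Scheme.{u}) (xX₀ : X₀ ⟶ X) (f₀ : X₀ ⟶ Y₀),
      IsPullback xX₀ f₀ f yY₀ := ⟨_, _, _, IsPullback.of_hasPullback f yY₀⟩
  have hqc0 : QuasiCompact g₀ := MorphismProperty.of_isPullback (P := @QuasiCompact) hY₀ inferInstance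
  have hqs0 : QuasiSeparated g₀ :=
    MorphismProperty.of_isPullback (P := @QuasiSeparated) hY₀ inferInstance
  have hXY₀ : IsPullback xX₀ (f₀ ≫ g₀) (f ≫ g) τ₀ := hX₀.paste_vert hY₀
  have hqc1 : QuasiCompact (f₀ ≫ g₀) :=
    MorphismProperty.of_isPullback (P := @QuasiCompact) hXY₀ inferInstance
  have hqs1 : QuasiSeparated (f₀ ≫ g₀) :=
    MorphismProperty.of_isPullback (P := @QuasiSeparated) hXY₀ inferInstance
  have : CompactSpace Y₀ := QuasiCompact.compactSpace_of_compactSpace g₀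
  have : QuasiSeparatedSpace Y₀ := quasiSeparatedSpace_of_quasiSeparated g₀
  have : CompactSpace X₀ := QuasiCompact.compactSpace_of_compactSpace (f₀ ≫ g₀)
  have : QuasiSeparatedSpace X₀ := quasiSeparatedSpace_of_quasiSeparated (f₀ ≫ g₀)
  have hlft : LocallyOfFiniteType f := locallyOfFiniteType_of_comp f g
  have hlft0 : LocallyOfFiniteType f₀ :=
    MorphismProperty.of_isPullback (P := @LocallyOfFiniteType) hX₀ hlft
  -- the limit level
  obtain ⟨Y', qY, g', hY⟩ : ∃ (Y' : Scheme.{u}) (qY : Y' ⟶ Y₀) (g' : Y' ⟶ c.pt),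
      IsPullback qY g' g₀ (c.π.app i₀) := ⟨_, _, _, IsPullback.of_hasPullback g₀ (c.π.app i₀)⟩
  obtain ⟨X', qX, f', hX⟩ : ∃ (X' : Scheme.{u}) (qX : X' ⟶ X₀) (f' : X' ⟶ Y'),
      IsPullback qX f' f₀ qY := ⟨_, _, _, IsPullback.of_hasPullback f₀ qY⟩
  -- properness of f' by fpqc descent along the completion
  obtain ⟨ρ, hρ⟩ : ∃ ρ : Spec (CommRingCat.of (EGA4.Cpl (S.presheaf.stalk s))) ⟶ c.pt,
      ρ = Spec.map (CommRingCat.ofHom
        (algebraMap (S.presheaf.stalk s) (EGA4.Cpl (S.presheaf.stalk s)))) := ⟨_, rfl⟩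
  have hρQ : (@Surjective ⊓ @Flat ⊓ @QuasiCompact : MorphismProperty Scheme.{u}) ρ := by
    rw [hρ]
    exact Groth.Agent.R2.H87.CplProper.fpqc_spec_completion (S.presheaf.stalk s)
  have hπτ : c.π.app i₀ ≫ τ₀ = S.fromSpecStalk s := by
    rw [hτ₀]
    exact Groth.Agent.Lib.Helper26.StalkLim.π_toX s i₀
  obtain ⟨T, w, t, hT⟩ : ∃ (T : Scheme.{u}) (w : T ⟶ Y')
      (t : T ⟶ Spec (CommRingCat.of (EGA4.Cpl (S.presheaf.stalk s)))), IsPullback w t g' ρ :=
    ⟨_, _, _, IsPullback.of_hasPullback g' ρ⟩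
  have hwQ : (@Surjective ⊓ @Flat ⊓ @QuasiCompact : MorphismProperty Scheme.{u}) w :=
    ⟨⟨MorphismProperty.of_isPullback (P := @Surjective) hT.flip hρQ.1.1,
      MorphismProperty.of_isPullback (P := @Flat) hT.flip hρQ.1.2⟩,
      MorphismProperty.of_isPullback (P := @QuasiCompact) hT.flip hρQ.2⟩
  obtain ⟨A', pa, pb, hA⟩ : ∃ (A' : Scheme.{u}) (pa : A' ⟶ T) (pb : A' ⟶ X'),
      IsPullback pa pb w f' := ⟨_, _, _, IsPullback.of_hasPullback w f'⟩
  have hbig : IsPullback ((pb ≫ qX) ≫ xX₀) pa f ((w ≫ qY) ≫ yY₀) :=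
    (hA.flip.paste_horiz hX).paste_horiz hX₀
  have hpa : IsProper pa := by
    have hcomm : ((w ≫ qY) ≫ yY₀) ≫ g =
        t ≫ (Spec.map (CommRingCat.ofHom (algebraMap (S.presheaf.stalk s)
          (EGA4.Cpl (S.presheaf.stalk s)))) ≫ S.fromSpecStalk s) := by
      rw [Category.assoc, hY₀.w, ← Category.assoc, Category.assoc w, hY.w, ← Category.assoc,
        ← Category.assoc, hT.w, Category.assoc, Category.assoc, hπτ, hρ, Category.assoc]
      rfl
    exact Groth.Agent.R2.H87.CplProper.isProper_of_isPullback_of_factor hR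
      (Limits.pullback.lift ((w ≫ qY) ≫ yY₀) t hcomm) (Limits.pullback.lift_fst _ _ _) hbig
  have hf' : IsProper f' := by
    have := Groth.Agent.Lib.Helper12.descendsAlong_isProper.{u}
    exact MorphismProperty.of_isPullback_of_descendsAlong (P := @IsProper)
      (Q := (@Surjective ⊓ @Flat ⊓ @QuasiCompact : MorphismProperty Scheme.{u})) hA hwQ hpa
  -- descend properness to a stage
  obtain ⟨i, φ, Xi, Yi, fi, gi, pY, pX, hYi, hXi, hfi⟩ :=
    Groth.Agent.S2074.result (Groth.Agent.Lib.Helper26.StalkLim.specDiagram s) c hc i₀ f₀ g₀ f' g'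
      qY qX hY hX
  refine ⟨i.unop.U, i.unop.mem, ?_⟩
  have hτi : (Groth.Agent.Lib.Helper26.StalkLim.specDiagram s).map φ ≫ τ₀ =
      Groth.Agent.Lib.Helper26.StalkLim.toX s i := by
    rw [hτ₀]; exact Groth.Agent.Lib.Helper26.StalkLim.map_toX s φ
  have hbigY : IsPullback (pY ≫ yY₀) gi g
      ((Groth.Agent.Lib.Helper26.StalkLim.specDiagram s).map φ ≫ τ₀) := hYi.paste_horiz hY₀
  rw [hτi] at hbigY
  obtain ⟨j, hj⟩ : ∃ j : Yi ⟶ Y, j = pY ≫ yY₀ := ⟨_, rfl⟩
  rw [← hj] at hbigY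
  have hjo : IsOpenImmersion j :=
    MorphismProperty.of_isPullback (P := @IsOpenImmersion) hbigY.flip inferInstance
  have hXi' : IsPullback (pX ≫ xX₀) fi f j := by
    rw [hj]; exact hXi.paste_horiz hX₀
  have hrange : Set.range j = Set.range (g ⁻¹ᵁ i.unop.U).ι := by
    have h1 : hbigY.isoPullback.hom ≫ Limits.pullback.fst g (Groth.Agent.Lib.Helper26.StalkLim.toX s i) = j :=
      hbigY.isoPullback_hom_fst
    rw [← h1, Scheme.Hom.comp_base, TopCat.coe_comp, Set.range_comp,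
      Set.range_eq_univ.mpr hbigY.isoPullback.hom.surjective, Set.image_univ,
      Scheme.Pullback.range_fst, Groth.Agent.Lib.Helper26.StalkLim.range_toX]
    simp
  obtain ⟨V, hV⟩ : ∃ V : Y.Opens, V = g ⁻¹ᵁ i.unop.U := ⟨_, rfl⟩
  rw [← hV] at hrange ⊢
  let e : Yi ≅ V.toScheme := IsOpenImmersion.isoOfRangeEq j V.ι hrange
  have he : e.hom ≫ V.ι = j := IsOpenImmersion.isoOfRangeEq_hom_fac _ _ _
  have he' : e.inv ≫ j = V.ι := by rw [← he, Iso.inv_hom_id_assoc]
  have hr : IsPullback (f ⁻¹ᵁ V).ι (f ∣_ V) f V.ι := (isPullback_morphismRestrict f V).flip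
  have hcomm : (f ⁻¹ᵁ V).ι ≫ f = ((f ∣_ V) ≫ e.inv) ≫ j := by
    rw [Category.assoc, he', hr.w]
  have hl1 : hXi'.lift (f ⁻¹ᵁ V).ι ((f ∣_ V) ≫ e.inv) hcomm ≫ (pX ≫ xX₀) = (f ⁻¹ᵁ V).ι :=
    hXi'.lift_fst _ _ _
  have hl2 : hXi'.lift (f ⁻¹ᵁ V).ι ((f ∣_ V) ≫ e.inv) hcomm ≫ fi = (f ∣_ V) ≫ e.inv :=
    hXi'.lift_snd _ _ _
  have big : IsPullback (hXi'.lift (f ⁻¹ᵁ V).ι ((f ∣_ V) ≫ e.inv) hcomm ≫ (pX ≫ xX₀)) (f ∣_ V) f
      (e.inv ≫ j) := by
    rw [hl1, he']; exact hr
  have sq : IsPullback (hXi'.lift (f ⁻¹ᵁ V).ι ((f ∣_ V) ≫ e.inv) hcomm) (f ∣_ V) fi e.inv :=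
    IsPullback.of_right big hl2 hXi'
  exact MorphismProperty.of_isPullback (P := @IsProper) sq hfi

end Groth.Agent.S18874
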