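import Groth.Statements.S18879
import Groth.Agent.Lib.Helper4DimFormulaAE

set_option autoImplicit false
universe u
open CategoryTheory AlgebraicGeometry
open Resolve

namespace Groth.Agent.S18879

open Groth.Agent.Lib.Helper4.DimFormula

/-- A point without proper generizations in a quasi-sober space is the generic point of an
irreducible component. -/
theorem mem_genericPoints_of_forall_specializes {α : Type*} [TopologicalSpace α] [QuasiSober α]
    (ξ : α) (h : ∀ x' : α, x' ⤳ ξ → x' = ξ) : ξ ∈ genericPoints α := by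
  obtain ⟨Z, hZ, hle, hmax⟩ := exists_preirreducible (closure ({ξ} : Set α))
    (isIrreducible_singleton.closure).isPreirreducible
  have hZmem : Z ∈ irreducibleComponents α := by
    refine ⟨⟨⟨ξ, hle (subset_closure rfl)⟩, hZ⟩, fun W hW hZW => ?_⟩
    exact (hmax W hW.2 hZW).le
  have hZirr : IsIrreducible Z := hZmem.1
  have hZcl : IsClosed Z := isClosed_of_mem_irreducibleComponents Z hZmem
  obtain ⟨η, hη⟩ := QuasiSober.sober hZirr hZcl
  have hξZ : ξ ∈ Z := hle (subset_closure rfl)
  have hspec : η ⤳ ξ := by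
    rw [specializes_iff_mem_closure, hη.def]
    exact hξZ
  have : η = ξ := h η hspec
  subst this
  show closure {η} ∈ irreducibleComponents α
  rw [hη.def]
  exact hZmem

theorem result {X Y : Scheme.{u}} (f : Y ⟶ X)
    [IsNoetherian X] [X.IsSeparated] [IsNoetherian Y] [Y.IsSeparated] [LocallyOfFiniteType f]
    (hf : RadPt.IsBirational f) (y : Y) :
    ringKrullDim (Y.presheaf.stalk y) ≤ ringKrullDim (X.presheaf.stalk (f.base y)) := by
  haveI : IsNoetherianRing (Y.presheaf.stalk y) := inferInstance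
  obtain ⟨𝔭, h𝔭min, h𝔭dim⟩ :=
    exists_minimalPrimes_ringKrullDim_quotient_eq (R := Y.presheaf.stalk y)
  haveI h𝔭 : 𝔭.IsPrime := h𝔭min.1.1
  set ξ : Y := Y.fromSpecStalk y ⟨𝔭, h𝔭⟩ with hξ
  have hξgen : ξ ∈ genericPoints Y :=
    mem_genericPoints_of_forall_specializes ξ
      ((mem_minimalPrimes_iff_fromSpecStalk_maximal y 𝔭).mp h𝔭min)
  have hfξ : f.base ξ ∈ genericPoints X := hf.1.mapsTo hξgen
  have hbij : Function.Bijective (f.residueFieldMap ξ).hom := (hf.2 _ hfξ).2 ξ rfl
  -- the transcendence degree at `ξ` vanishes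
  have htr : ptTrdeg f ξ = 0 := by
    have h1 := trdeg_eq_ptTrdeg f ξ
    letI : Algebra (X.residueField (f.base ξ)) (Y.residueField ξ) :=
      (f.residueFieldMap ξ).hom.toAlgebra
    have halg : Algebra.IsAlgebraic (X.residueField (f.base ξ)) (Y.residueField ξ) := by
      refine ⟨fun z => ?_⟩
      obtain ⟨w, rfl⟩ := hbij.2 z
      exact isAlgebraic_algebraMap w
    have h0 : Algebra.trdeg (X.residueField (f.base ξ)) (Y.residueField ξ) = 0 :=
      _root_.trdeg_eq_zero
    rw [h0] at h1
    exact_mod_cast h1.symm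
  have key := ringKrullDim_quotient_add_ptTrdeg_le f y 𝔭
  rw [← hξ, htr, h𝔭dim] at key
  have h2 : ringKrullDim (Y.presheaf.stalk y) ≤
      ringKrullDim (Y.presheaf.stalk y) + ((ptTrdeg f y : ℕ) : WithBot ℕ∞) := by
    exact le_add_of_nonneg_right (by positivity)
  refine le_trans h2 (le_trans key ?_)
  simp only [Nat.cast_zero, add_zero]
  exact ringKrullDim_quotient_le _

end Groth.Agent.S18879
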