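import Groth.Statements.S18884
import Mathlib.Tactic.Abel

set_option autoImplicit false
set_option linter.unusedSectionVars false
universe v u w
open CategoryTheory CategoryTheory.Limits
open Desc

namespace Groth.Agent.S18884

section aux

variable {C : Type u} [Category.{v} C] [HasPullbacks C] (W : MorphismProperty C)
  [W.IsStableUnderBaseChange] [W.IsStableUnderComposition]
  (D : ObjectProperty C) (hD : ∀ X : C, ∃ (Y : C) (π : Y ⟶ X), W π ∧ D Y)

/-- the cosheaf condition of the statement -/
def IsCosh (F : C ⥤ AddCommGrpCat.{w}) : Prop :=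
  ∀ ⦃Y X : C⦄ (π : Y ⟶ X), W π → Function.Surjective (F.map π).hom ∧
    (F.map π).hom.ker = ((F.map (pullback.fst π π)).hom - (F.map (pullback.snd π π)).hom).range

variable {W D}
variable {F G : C ⥤ AddCommGrpCat.{w}} (hF : IsCosh W F) (hG : IsCosh W G)
  (γ : D.ι ⋙ F ⟶ D.ι ⋙ G)

lemma map_comp_apply (H : C ⥤ AddCommGrpCat.{w}) {X Y Z : C} (f : X ⟶ Y) (g : Y ⟶ Z)
    (x : H.obj X) : (H.map (f ≫ g)).hom x = (H.map g).hom ((H.map f).hom x) := by
  rw [Functor.map_comp]; rfl

/-- naturality of `γ` on elements -/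
lemma gamma_nat {Z Y : C} (hZ : D Z) (hY : D Y) (g : Z ⟶ Y) (w : F.obj Z) :
    (γ.app ⟨Y, hY⟩).hom ((F.map g).hom w) = (G.map g).hom ((γ.app ⟨Z, hZ⟩).hom w) := by
  have h := γ.naturality (X := ⟨Z, hZ⟩) (Y := ⟨Y, hY⟩) (ObjectProperty.homMk g)
  have h2 := congrArg (fun φ => φ.hom w) h
  exact h2

include hD hF in
/-- elements of the kernel of a cover are killed -/
lemma kernel_lemma {Y X : C} (π : Y ⟶ X) (hπ : W π) (hY : D Y) (k : F.obj Y)
    (hk : (F.map π).hom k = 0) : (G.map π).hom ((γ.app ⟨Y, hY⟩).hom k) = 0 := by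
  have hker : k ∈ (F.map π).hom.ker := hk
  rw [(hF π hπ).2] at hker
  obtain ⟨z, hz⟩ := hker
  obtain ⟨Z, ρ, hρ, hZ⟩ := hD (pullback π π)
  obtain ⟨w, rfl⟩ := (hF ρ hρ).1 z
  have hk' : k = (F.map (ρ ≫ pullback.fst π π)).hom w - (F.map (ρ ≫ pullback.snd π π)).hom w := by
    rw [← hz, map_comp_apply, map_comp_apply]; rfl
  rw [hk', map_sub, map_sub, gamma_nat γ hZ hY, gamma_nat γ hZ hY, ← map_comp_apply,
    ← map_comp_apply]
  simp only [Category.assoc]
  rw [pullback.condition, sub_self]

include hD hF in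
/-- the key compatibility lemma -/
lemma key_lemma {X X' Y Y' : C} (f : X ⟶ X') (π : Y ⟶ X) (π' : Y' ⟶ X') (hπ : W π) (hπ' : W π')
    (hY : D Y) (hY' : D Y') (y : F.obj Y) (y' : F.obj Y')
    (h : (F.map f).hom ((F.map π).hom y) = (F.map π').hom y') :
    (G.map f).hom ((G.map π).hom ((γ.app ⟨Y, hY⟩).hom y)) =
      (G.map π').hom ((γ.app ⟨Y', hY'⟩).hom y') := by
  have hq₁ : W (pullback.fst (π ≫ f) π') := MorphismProperty.pullback_fst _ _ hπ'
  obtain ⟨Z, ρ, hρ, hZ⟩ := hD (pullback (π ≫ f) π')
  have hρq₁ : W (ρ ≫ pullback.fst (π ≫ f) π') := W.comp_mem _ _ hρ hq₁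
  obtain ⟨w, rfl⟩ := (hF _ hρq₁).1 y
  set k : F.obj Y' := y' - (F.map (ρ ≫ pullback.snd (π ≫ f) π')).hom w with hk
  have hk0 : (F.map π').hom k = 0 := by
    rw [hk, map_sub, ← h, ← map_comp_apply, ← map_comp_apply, ← map_comp_apply]
    simp only [Category.assoc]
    rw [← pullback.condition, sub_self]
  have hK := kernel_lemma hD hF γ π' hπ' hY' k hk0
  have hy' : y' = k + (F.map (ρ ≫ pullback.snd (π ≫ f) π')).hom w := by rw [hk]; abel
  rw [hy', map_add, map_add, hK, zero_add, gamma_nat γ hZ hY, gamma_nat γ hZ hY',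
    ← map_comp_apply, ← map_comp_apply, ← map_comp_apply]
  simp only [Category.assoc]
  rw [pullback.condition]

/-- chosen cover -/
noncomputable def covObj (X : C) : C := (hD X).choose

noncomputable def covMap (X : C) : covObj hD X ⟶ X := (hD X).choose_spec.choose

lemma covMap_mem (X : C) : W (covMap hD X) := (hD X).choose_spec.choose_spec.1

lemma covObj_mem (X : C) : D (covObj hD X) := (hD X).choose_spec.choose_spec.2

/-- chosen lift -/
noncomputable def lift (X : C) (x : F.obj X) : F.obj (covObj hD X) :=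
  ((hF _ (covMap_mem hD X)).1 x).choose

lemma lift_spec (X : C) (x : F.obj X) : (F.map (covMap hD X)).hom (lift hD hF X x) = x :=
  ((hF _ (covMap_mem hD X)).1 x).choose_spec

/-- the extension on elements -/
noncomputable def extFun (X : C) (x : F.obj X) : G.obj X :=
  (G.map (covMap hD X)).hom ((γ.app ⟨covObj hD X, covObj_mem hD X⟩).hom (lift hD hF X x))

lemma extFun_eq (X : C) (x : F.obj X) (y : F.obj (covObj hD X))
    (hy : (F.map (covMap hD X)).hom y = x) :
    extFun hD hF γ X x = (G.map (covMap hD X)).hom ((γ.app ⟨covObj hD X, covObj_mem hD X⟩).hom y) := by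
  have := key_lemma hD hF γ (𝟙 X) (covMap hD X) (covMap hD X) (covMap_mem hD X) (covMap_mem hD X)
    (covObj_mem hD X) (covObj_mem hD X) (lift hD hF X x) y
    (by rw [lift_spec, hy, F.map_id]; rfl)
  rw [G.map_id] at this
  exact this

/-- the extension as a morphism -/
noncomputable def extHom (X : C) : F.obj X ⟶ G.obj X :=
  AddCommGrpCat.ofHom (AddMonoidHom.mk' (extFun hD hF γ X) (by
    intro a b
    rw [extFun_eq hD hF γ X (a + b) (lift hD hF X a + lift hD hF X b)
      (by rw [map_add, lift_spec, lift_spec])]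
    rw [map_add, map_add]
    rfl))

lemma extHom_apply (X : C) (x : F.obj X) : (extHom hD hF γ X).hom x = extFun hD hF γ X x := rfl

/-- the extended natural transformation -/
noncomputable def ext : F ⟶ G where
  app X := extHom hD hF γ X
  naturality X X' f := by
    ext x
    show (extHom hD hF γ X').hom ((F.map f).hom x) = (G.map f).hom ((extHom hD hF γ X).hom x)
    rw [extHom_apply, extHom_apply]
    exact (key_lemma hD hF γ f (covMap hD X) (covMap hD X') (covMap_mem hD X) (covMap_mem hD X')
      (covObj_mem hD X) (covObj_mem hD X') (lift hD hF X x) (lift hD hF X' ((F.map f).hom x))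
      (by rw [lift_spec, lift_spec])).symm

lemma ext_restrict (X : D.FullSubcategory) : (ext hD hF γ).app X.obj = γ.app X := by
  ext x
  show (extHom hD hF γ X.obj).hom x = (γ.app X).hom x
  rw [extHom_apply]
  unfold extFun
  rw [← gamma_nat γ (covObj_mem hD X.obj) X.property, lift_spec]

end aux

/-- Let C be a category with pullbacks equipped with a class W of morphisms, the covers, stable under
base change and under composition. An abelian cosheaf is a functor F : C ⥤ Ab such that for every
cover π : Y ⟶ X the map F(π) is surjective and its kernel is the image of F(p₁) − F(p₂), where p₁,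
p₂ : Y ×_X Y ⟶ Y are the two projections. If D is a full subcategory of C such that every object of
C is the target of a cover whose source lies in D, then the restriction functor from the full
subcategory of abelian cosheaves in C ⥤ Ab to D ⥤ Ab is full and faithful. -/
theorem result {C : Type u} [Category.{v} C]
    [HasPullbacks C] (W : MorphismProperty C) [W.IsStableUnderBaseChange] [W.IsStableUnderComposition]
    (D : ObjectProperty C) (hD : ∀ X : C, ∃ (Y : C) (π : Y ⟶ X), W π ∧ D Y) :
    (ObjectProperty.ι (fun F : C ⥤ AddCommGrpCat.{w} =>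
        ∀ ⦃Y X : C⦄ (π : Y ⟶ X), W π → Function.Surjective (F.map π).hom ∧
          (F.map π).hom.ker = ((F.map (pullback.fst π π)).hom - (F.map (pullback.snd π π)).hom).range) ⋙
      (Functor.whiskeringLeft D.FullSubcategory C AddCommGrpCat.{w}).obj D.ι).Full ∧
    (ObjectProperty.ι (fun F : C ⥤ AddCommGrpCat.{w} =>
        ∀ ⦃Y X : C⦄ (π : Y ⟶ X), W π → Function.Surjective (F.map π).hom ∧
          (F.map π).hom.ker = ((F.map (pullback.fst π π)).hom - (F.map (pullback.snd π π)).hom).range) ⋙
      (Functor.whiskeringLeft D.FullSubcategory C AddCommGrpCat.{w}).obj D.ι).Faithful := by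
  constructor
  · constructor
    intro F G γ
    refine ⟨ObjectProperty.homMk (ext hD F.property γ), ?_⟩
    ext X : 2
    exact ext_restrict hD F.property γ X
  · constructor
    intro F G α β h
    ext X : 3
    obtain ⟨Y, π, hπ, hY⟩ := hD X
    have hsurj := (F.property π hπ).1
    have h1 : α.hom.app Y = β.hom.app Y := by
      have := congrArg (fun t => NatTrans.app t (⟨Y, hY⟩ : D.FullSubcategory)) h
      exact this
    have hα := α.hom.naturality π
    have hβ := β.hom.naturality π
    rw [h1] at hα
    have h3 : F.obj.map π ≫ α.hom.app X = F.obj.map π ≫ β.hom.app X := by rw [hα, hβ]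
    ext x
    obtain ⟨y, rfl⟩ := hsurj x
    exact congrArg (fun φ => φ.hom y) h3

end Groth.Agent.S18884
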