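import Groth.Statements.S18937
import Groth.Agent.R2.H93RegSeqAway

set_option autoImplicit false
universe u
open CategoryTheory AlgebraicGeometry

namespace Groth.Agent.S18937

open Groth.Agent.R2.H93.RegSeqAway

/-- the kernel ideal of `Spec B → Spec R` (for `R → B` surjective) on an affine open `U` is
`ker · Γ(U)` -/
lemma ker_app_eq {R B : CommRingCat.{u}} (φ : R ⟶ B) (hφ : Function.Surjective φ.hom)
    (U : (Spec R).affineOpens) :
    RingHom.ker ((Spec.map φ).app U.1).hom =
      (RingHom.ker φ.hom).map (algebraMap R Γ(Spec R, U.1)) := by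
  have hci : IsClosedImmersion (Spec.map φ) := IsClosedImmersion.spec_of_surjective _ hφ
  rw [← Scheme.Hom.ker_apply (Spec.map φ) U, Scheme.ker_of_isAffine (Spec.map φ),
    Scheme.IdealSheafData.ofIdealTop_ideal]
  have hk : RingHom.ker (Spec.map φ).appTop.hom =
      (RingHom.ker φ.hom).map (Scheme.ΓSpecIso R).inv.hom := by
    have hnat := Scheme.ΓSpecIso_inv_naturality φ
    have hcomp : ∀ y : R, (Spec.map φ).appTop.hom ((Scheme.ΓSpecIso R).inv.hom y) =
        (Scheme.ΓSpecIso B).inv.hom (φ.hom y) := fun y =>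
      (congrArg (fun ψ => ψ.hom y) hnat).symm
    have hinj : Function.Injective (Scheme.ΓSpecIso B).inv.hom :=
      (ConcreteCategory.bijective_of_isIso (Scheme.ΓSpecIso B).inv).1
    apply le_antisymm
    · intro x hx
      rw [RingHom.mem_ker] at hx
      have hx' : x = (Scheme.ΓSpecIso R).inv.hom ((Scheme.ΓSpecIso R).hom.hom x) :=
        (Iso.hom_inv_id_apply (Scheme.ΓSpecIso R) x).symm
      rw [hx']
      apply Ideal.mem_map_of_mem
      rw [RingHom.mem_ker]
      apply hinj
      rw [← hcomp, ← hx', hx, map_zero]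
    · rw [Ideal.map_le_iff_le_comap]
      intro y hy
      rw [RingHom.mem_ker] at hy
      rw [Ideal.mem_comap, RingHom.mem_ker, hcomp, hy, map_zero]
  rw [hk, Ideal.map_map]
  rfl

set_option backward.isDefEq.respectTransparency.types false in
/-- scheme-theoretic core: around a point, a basic open `D(g)` on which the ideal is generated
by a weakly regular sequence -/
lemma key {R B : CommRingCat.{u}} (φ : R ⟶ B) (hφ : Function.Surjective φ.hom)
    (h : RegImm.IsRegularImmersion RegImm.Kind.regular (Spec.map φ)) (q : Spec B) :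
    ∃ g : R, φ.hom g ∉ q.asIdeal ∧
      ∃ (S : Type u) (_ : CommRing S) (_ : Algebra R S) (_ : IsLocalization.Away g S)
        (rs' : List S), RingTheory.Sequence.IsWeaklyRegular S rs' ∧
          (RingHom.ker φ.hom).map (algebraMap R S) = Ideal.ofList rs' := by
  classical
  obtain ⟨U, hzU, hcl, rs, hrs, hker⟩ := h.2 q
  have hrs' : RingTheory.Sequence.IsRegular Γ(Spec R, U.1) rs := hrs
  have hIU : Ideal.map (algebraMap R Γ(Spec R, U.1)) (RingHom.ker φ.hom) = Ideal.ofList rs := by
    rw [← hker, ker_app_eq φ hφ U]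
  -- a basic open around the point inside `U`
  obtain ⟨V, ⟨g, rfl⟩, hqg, hgU⟩ :=
    (TopologicalSpace.Opens.isBasis_iff_nbhd.1
      (PrimeSpectrum.isBasis_basic_opens (R := R))) hzU
  have hgq : φ.hom g ∉ q.asIdeal := hqg
  refine ⟨g, hgq, Γ(Spec R, PrimeSpectrum.basicOpen g), inferInstance, inferInstance,
    inferInstance, ?_⟩
  let ρ : Γ(Spec R, U.1) ⟶ Γ(Spec R, PrimeSpectrum.basicOpen g) :=
    (Spec R).presheaf.map (homOfLE hgU).op
  have halg : algebraMap R Γ(Spec R, PrimeSpectrum.basicOpen g) =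
      ρ.hom.comp (algebraMap R Γ(Spec R, U.1)) := by
    rw [IsAffineOpen.algebraMap_Spec_obj, IsAffineOpen.algebraMap_Spec_obj, ← CommRingCat.hom_comp,
      Category.assoc, ← Functor.map_comp]
    rfl
  let gU : Γ(Spec R, U.1) := algebraMap R Γ(Spec R, U.1) g
  have hbo : PrimeSpectrum.basicOpen g = (Spec R).basicOpen gU := by
    change _ = (Spec R).basicOpen ((Spec R).presheaf.map (homOfLE le_top).op
      ((Scheme.ΓSpecIso R).inv g))
    rw [Scheme.basicOpen_res, basicOpen_eq_of_affine]
    exact (inf_eq_right.2 hgU).symm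
  let _ : Algebra Γ(Spec R, U.1) Γ(Spec R, PrimeSpectrum.basicOpen g) := ρ.hom.toAlgebra
  have hloc : IsLocalization.Away gU Γ(Spec R, PrimeSpectrum.basicOpen g) :=
    U.2.isLocalization_of_eq_basicOpen gU (homOfLE hgU) hbo
  refine ⟨rs.map ρ.hom, ?_, ?_⟩
  · exact hrs'.1.of_isLocalization Γ(Spec R, PrimeSpectrum.basicOpen g) (Submonoid.powers gU)
  · rw [halg, ← Ideal.map_map, hIU, Ideal.map_ofList]

/-- Let A be a Noetherian commutative ring, n a natural number, I an ideal of the polynomial ring A[X_1,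
…, X_n] and B = A[X_1, …, X_n]/I, and assume that the closed immersion Spec B → Spec A[X_1, …, X_n]
is a regular immersion (kind: successive non-zero-divisors). Then Spec B is covered by basic opens
D(g) with B[1/g] isomorphic, as an A-algebra, to a quotient A[X_0, …, X_n]/(P_1, …, P_d) of the
polynomial ring in one more variable by a regular sequence P_1, …, P_d. -/
theorem result
    (A : Type u) [CommRing A] [IsNoetherianRing A] (n : ℕ) (I : Ideal (MvPolynomial (Fin n) A))
    (h : RegImm.IsRegularImmersion RegImm.Kind.regular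
      (Spec.map (CommRingCat.ofHom (Ideal.Quotient.mk I))))
    (q : PrimeSpectrum (MvPolynomial (Fin n) A ⧸ I)) :
    ∃ g : MvPolynomial (Fin n) A ⧸ I, g ∉ q.asIdeal ∧
      ∃ (d : ℕ) (P : Fin d → MvPolynomial (Fin (n + 1)) A),
        RingTheory.Sequence.IsRegular (MvPolynomial (Fin (n + 1)) A) (List.ofFn P) ∧
        Nonempty (Localization.Away g ≃ₐ[A] (MvPolynomial (Fin (n + 1)) A ⧸ Ideal.ofList (List.ofFn P))) := by
  classical
  let φ : CommRingCat.of (MvPolynomial (Fin n) A) ⟶ CommRingCat.of (MvPolynomial (Fin n) A ⧸ I) :=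
    CommRingCat.ofHom (Ideal.Quotient.mk I)
  have hφ : Function.Surjective φ.hom := Ideal.Quotient.mk_surjective
  obtain ⟨g, hgq, S, _, _, _, rs', hrs', hI'⟩ := key φ hφ h q
  have hgq' : Ideal.Quotient.mk I g ∉ q.asIdeal := hgq
  have hI : I.map (algebraMap (MvPolynomial (Fin n) A) S) = Ideal.ofList rs' := by
    rw [← hI']
    congr 1
    exact (Ideal.mk_ker).symm
  refine ⟨Ideal.Quotient.mk I g, hgq', ?_⟩
  refine exists_presentation A n I g S rs' hrs' hI ?_
  rw [IsLocalization.map_algebraMap_ne_top_iff_disjoint (Submonoid.powers g) S I,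
    Set.disjoint_left]
  rintro _ ⟨k, rfl⟩ hk
  apply hgq'
  have h0 : (Ideal.Quotient.mk I g) ^ k = 0 := by
    rw [← map_pow]
    exact Ideal.Quotient.eq_zero_iff_mem.2 hk
  exact q.isPrime.mem_of_pow_mem k (h0 ▸ q.asIdeal.zero_mem)

end Groth.Agent.S18937
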