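import Groth.Statements.S18905
import Groth.Agent.R2.H93DualNumberUnram
import Groth.Agent.S18937

set_option autoImplicit false
universe u
open CategoryTheory CategoryTheory.Limits AlgebraicGeometry
open Mor

namespace Groth.Agent.S18905

open Groth.Agent.R2.H93.DualNumberUnram

/-- the kernel ideal sheaf of `Spec S → Spec R` for a square-zero surjection `R → S` is nilpotent -/
lemma isNilpotent_ker {R S : CommRingCat.{u}} (φ : R ⟶ S) (hφ : Function.Surjective φ.hom)
    (hsq : RingHom.ker φ.hom ^ 2 = ⊥) : IsNilpotent (Spec.map φ).ker := by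
  have hci : IsClosedImmersion (Spec.map φ) := IsClosedImmersion.spec_of_surjective _ hφ
  refine ⟨2, ?_⟩
  apply Scheme.IdealSheafData.ext
  funext U
  rw [Scheme.IdealSheafData.ideal_pow, Pi.pow_apply, Scheme.Hom.ker_apply,
    Groth.Agent.S18937.ker_app_eq φ hφ U, ← Ideal.map_pow, hsq, Ideal.map_bot]
  rfl

/-- Let k be an algebraically closed field and X a scheme locally of finite type over k. Then X → Spec k
is formally unramified if and only if the map Hom_k(Spec k[ε], X) → Hom_k(Spec k, X) given by
restricting along the closed immersion of Spec k into Spec k[ε] (k[ε] the ring of dual numbers, ε ↦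
0), is bijective; since that map is always surjective, the condition is stated as injectivity: two
k-morphisms from Spec k[ε] to X which agree on Spec k are equal. -/
theorem result (k : Type u) [Field k] [IsAlgClosed k]
    {X : Scheme.{u}} (p : X ⟶ Spec (CommRingCat.of k)) [LocallyOfFiniteType p] :
    FormallyUnramified p ↔
      ∀ v₁ v₂ : Spec (CommRingCat.of (DualNumber k)) ⟶ X,
        v₁ ≫ p = Spec.map (CommRingCat.ofHom (algebraMap k (DualNumber k))) →
        v₂ ≫ p = Spec.map (CommRingCat.ofHom (algebraMap k (DualNumber k))) →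
        Spec.map (CommRingCat.ofHom (TrivSqZeroExt.fstHom k k k).toRingHom) ≫ v₁ =
          Spec.map (CommRingCat.ofHom (TrivSqZeroExt.fstHom k k k).toRingHom) ≫ v₂ →
        v₁ = v₂ := by
  constructor
  · intro hfu v₁ v₂ h₁ h₂ h
    have hsurj : Function.Surjective
        (CommRingCat.ofHom (TrivSqZeroExt.fstHom k k k).toRingHom).hom :=
      fun c => ⟨TrivSqZeroExt.inl c, rfl⟩
    have hci : IsClosedImmersion
        (Spec.map (CommRingCat.ofHom (TrivSqZeroExt.fstHom k k k).toRingHom)) :=
      IsClosedImmersion.spec_of_surjective _ hsurj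
    have hsq : RingHom.ker (CommRingCat.ofHom (TrivSqZeroExt.fstHom k k k).toRingHom).hom ^ 2 = ⊥ := by
      rw [pow_two, eq_bot_iff, Ideal.mul_le]
      intro a ha b hb
      rw [RingHom.mem_ker] at ha hb
      have ha' : TrivSqZeroExt.fst a = 0 := ha
      have hb' : TrivSqZeroExt.fst b = 0 := hb
      rw [Ideal.mem_bot]
      ext
      · simp [ha']
      · simp [ha', hb']
    exact FormallyUnramified.hom_ext _ (isNilpotent_ker _ hsurj hsq) p h (h₁.trans h₂.symm)
  · intro H
    have hloc : IsZariskiLocalAtSource @AlgebraicGeometry.FormallyUnramified.{u} :=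
      HasRingHomProperty.instIsZariskiLocalAtSource (Q := RingHom.FormallyUnramified)
    rw [IsZariskiLocalAtSource.iff_of_openCover (P := @AlgebraicGeometry.FormallyUnramified)
      X.affineOpenCover.openCover]
    intro j
    change AlgebraicGeometry.FormallyUnramified (X.affineOpenCover.f j ≫ p)
    obtain ⟨ψ, hψ⟩ := Spec.map_surjective (X.affineOpenCover.f j ≫ p)
    have hoi : IsOpenImmersion (X.affineOpenCover.f j) := X.affineOpenCover.map_prop j
    have hlft : LocallyOfFiniteType (X.affineOpenCover.f j ≫ p) := inferInstance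
    rw [← hψ] at hlft ⊢
    rw [HasRingHomProperty.Spec_iff (P := @AlgebraicGeometry.LocallyOfFiniteType)] at hlft
    rw [HasRingHomProperty.Spec_iff (P := @AlgebraicGeometry.FormallyUnramified)]
    let _ : Algebra k (X.affineOpenCover.X j) := ψ.hom.toAlgebra
    have hft : Algebra.FiniteType k (X.affineOpenCover.X j) := hlft
    change Algebra.FormallyUnramified k (X.affineOpenCover.X j)
    refine formallyUnramified_of_dualNumber k _ fun φ₁ φ₂ hφ => ?_
    have hcomp : ∀ φ : X.affineOpenCover.X j →ₐ[k] DualNumber k,
        (Spec.map (CommRingCat.ofHom φ.toRingHom) ≫ X.affineOpenCover.f j) ≫ p =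
          Spec.map (CommRingCat.ofHom (algebraMap k (DualNumber k))) := by
      intro φ
      rw [Category.assoc, ← hψ, ← Spec.map_comp]
      congr 1
      apply CommRingCat.hom_ext
      apply RingHom.ext
      intro c
      exact φ.commutes c
    have hfst : Spec.map (CommRingCat.ofHom (TrivSqZeroExt.fstHom k k k).toRingHom) ≫
        (Spec.map (CommRingCat.ofHom φ₁.toRingHom) ≫ X.affineOpenCover.f j) =
        Spec.map (CommRingCat.ofHom (TrivSqZeroExt.fstHom k k k).toRingHom) ≫
        (Spec.map (CommRingCat.ofHom φ₂.toRingHom) ≫ X.affineOpenCover.f j) := by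
      rw [← Category.assoc, ← Category.assoc, ← Spec.map_comp, ← Spec.map_comp]
      congr 2
      apply CommRingCat.hom_ext
      apply RingHom.ext
      intro b
      exact congrArg (fun χ => χ b) hφ
    have h1 := H _ _ (hcomp φ₁) (hcomp φ₂) hfst
    rw [cancel_mono] at h1
    have h2 := Spec.map_injective h1
    ext b : 1
    exact congrArg (fun χ => χ.hom b) h2

end Groth.Agent.S18905
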