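import Groth.Statements.S1892
import Mathlib
import Groth.Agent.R2.H33GrpdShear
import Groth.Agent.Lib.Helper10ClosureProd
import Groth.Agent.S7462
import Groth.Agent.S7457
import Groth.Agent.S1891

set_option autoImplicit false
universe u
open CategoryTheory CategoryTheory.Limits AlgebraicGeometry
open Grpd

namespace Groth.Agent.S1892

open Groth.Agent.R2.H33.GrpdShear

/-- Let (U₁, R₁, s, t, c) and (U₂, R₂, s, t, c) be groupoid schemes over S with U₂ isomorphic to Spec k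
for a field k, and a : R₁ → R₂ a morphism of groupoid schemes which is an isomorphism on objects. If
a(R₁) is locally closed in R₂ then it is closed. (A groupoid scheme carries U, R, s, t, c, e, i over
S satisfying the groupoid axioms on T-points.) -/
theorem result (S : Scheme.{u}) (G₁ G₂ : Grpd.GroupoidScheme S) (k : Type u) [Field k] (eU : G₂.U ≅ Spec (CommRingCat.of k)) (a : Grpd.GroupoidScheme.Hom G₁ G₂) [IsIso a.fU] (hlc : IsLocallyClosed (Set.range ⇑a.fR)) : IsClosed (Set.range ⇑a.fR) := by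
  have hUn : Nonempty G₂.U := ⟨eU.inv (IsLocalRing.closedPoint k)⟩
  have hUi : IsIntegral G₂.U := isIntegral_of_isOpenImmersion eU.hom
  have hUs : Subsingleton G₂.U := eU.hom.homeomorph.subsingleton
  set W : Set G₂.R := Set.range ⇑a.fR with hW
  set Z : Set G₂.R := closure W with hZ
  have hWZ : W ⊆ Z := subset_closure
  -- `W` is open in `Z`
  obtain ⟨O, hO, hWO⟩ : ∃ O : Set G₂.R, IsOpen O ∧ W = Z ∩ O := by
    obtain ⟨O, Z', hO, hZ', hWeq⟩ := hlc
    refine ⟨O, hO, subset_antisymm (fun x hx => ⟨hWZ hx, (hWeq ▸ hx : x ∈ O ∩ Z').1⟩) ?_⟩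
    rintro x ⟨hxZ, hxO⟩
    have hZZ' : Z ⊆ Z' := closure_minimal (hWeq ▸ Set.inter_subset_right) hZ'
    rw [hWeq]
    exact ⟨hxO, hZZ' hxZ⟩
  set p1 := pullback.fst G₂.s G₂.t with hp1
  set p2 := pullback.snd G₂.s G₂.t with hp2
  -- stability properties
  have F2 : ∀ p : ↑(pullback G₂.s G₂.t), p1 p ∈ Z → p2 p ∈ Z → G₂.c p ∈ Z :=
    fun p h₁ h₂ => Groth.Agent.S7462.result S G₁ G₂ a k eU p h₁ h₂
  have F1 : ∀ p : ↑(pullback G₂.s G₂.t), p1 p ∈ W → p2 p ∈ W → G₂.c p ∈ W := by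
    intro p h₁ h₂
    let m : pullback G₁.s G₁.t ⟶ pullback G₂.s G₂.t :=
      pullback.map G₁.s G₁.t G₂.s G₂.t a.fR a.fR a.fU a.comm_s.symm a.comm_t.symm
    have hrange : Set.range ⇑m = (pullback.fst G₂.s G₂.t) ⁻¹' (Set.range ⇑a.fR) ∩
        (pullback.snd G₂.s G₂.t) ⁻¹' (Set.range ⇑a.fR) :=
      Scheme.Pullback.range_map _ _ _ _ _ _ _ _ _
    have hmc : m ≫ G₂.c = G₁.c ≫ a.fR := by
      have h := a.comm_c (pullback.fst G₁.s G₁.t) (pullback.snd G₁.s G₁.t) pullback.condition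
      have hid : pullback.lift (pullback.fst G₁.s G₁.t) (pullback.snd G₁.s G₁.t)
          pullback.condition = 𝟙 _ := by
        apply pullback.hom_ext <;> simp
      rw [hid, Category.id_comp] at h
      rw [h]
    have hp : p ∈ Set.range ⇑m := by
      rw [hrange]
      exact ⟨h₁, h₂⟩
    obtain ⟨w, rfl⟩ := hp
    refine ⟨G₁.c w, ?_⟩
    rw [← Scheme.Hom.comp_apply, ← hmc, Scheme.Hom.comp_apply]
  have F3W : ∀ r : G₂.R, r ∈ W → G₂.i r ∈ W := by
    rintro _ ⟨x, rfl⟩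
    refine ⟨G₁.i x, ?_⟩
    rw [← Scheme.Hom.comp_apply, Groth.Agent.S1891.hom_i, Scheme.Hom.comp_apply]
  have F3Z : ∀ r : G₂.R, r ∈ Z → G₂.i r ∈ Z := by
    intro r hr
    exact map_mem_closure G₂.i.continuous hr F3W
  have P1 : IsPullback G₂.c p2 G₂.s G₂.s := (Groth.Agent.S7457.result S G₂).2
  have P2 : IsPullback p1 G₂.c G₂.t G₂.t := isPullback_fst_c G₂
  rw [← closure_subset_iff_isClosed]
  intro z hz
  have hzZ : z ∈ Z := hz
  -- Step A
  obtain ⟨p₁, hp₁W, hp₁z⟩ : ∃ p₁ : ↑(pullback G₂.s G₂.t), p1 p₁ ∈ W ∧ G₂.c p₁ = z := by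
    have h4 := Groth.Agent.Lib.Helper10.ClosureProd.closure_inter_preimage P2 W {z}
    have hp₀ : (idE G₂) z ∈ closure (p1.base ⁻¹' W ∩ G₂.c.base ⁻¹' {z}) := by
      rw [h4]
      refine ⟨?_, ?_⟩
      · show p1 ((idE G₂) z) ∈ closure W
        rw [← Scheme.Hom.comp_apply, hp1, idE_fst]
        exact hzZ
      · show G₂.c ((idE G₂) z) ∈ closure {z}
        rw [← Scheme.Hom.comp_apply, idE_c]
        exact subset_closure rfl
    obtain ⟨p₁, hp₁⟩ := closure_nonempty_iff.mp ⟨_, hp₀⟩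
    exact ⟨p₁, hp₁.1, hp₁.2⟩
  -- Step B
  have hp₁2 : p2 p₁ ∈ Z := by
    have h := F2 ((invFst G₂) p₁) ?_ ?_
    · rwa [← Scheme.Hom.comp_apply, invFst_c] at h
    · rw [← Scheme.Hom.comp_apply, hp1, invFst_fst, Scheme.Hom.comp_apply]
      exact hWZ (F3W _ hp₁W)
    · rw [← Scheme.Hom.comp_apply, hp2, invFst_snd, hp₁z]
      exact hzZ
  -- Step C
  have h4' := Groth.Agent.Lib.Helper10.ClosureProd.closure_inter_preimage P1 {z} W
  have hp₁cl : p₁ ∈ closure (G₂.c.base ⁻¹' {z} ∩ p2.base ⁻¹' W) := by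
    rw [h4']
    exact ⟨by show G₂.c p₁ ∈ closure {z}; rw [hp₁z]; exact subset_closure rfl, hp₁2⟩
  -- Step D
  have hp₁O : p₁ ∈ p1.base ⁻¹' O := by
    show p1 p₁ ∈ O
    exact (hWO ▸ hp₁W : p1 p₁ ∈ Z ∩ O).2
  obtain ⟨q, hqO, hqz, hqW⟩ := mem_closure_iff.mp hp₁cl _ (hO.preimage p1.continuous) hp₁O
  have hqz' : G₂.c q = z := hqz
  have hqW' : p2 q ∈ W := hqW
  -- Step E
  have hq1Z : p1 q ∈ Z := by
    have h := F2 ((sndInv G₂) q) ?_ ?_
    · rwa [← Scheme.Hom.comp_apply, sndInv_c] at h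
    · rw [← Scheme.Hom.comp_apply, hp1, sndInv_fst, hqz']
      exact hzZ
    · rw [← Scheme.Hom.comp_apply, hp2, sndInv_snd, Scheme.Hom.comp_apply]
      exact hWZ (F3W _ hqW')
  have hq1W : p1 q ∈ W := by
    rw [hWO]
    exact ⟨hq1Z, hqO⟩
  -- Step F
  have := F1 q hq1W hqW'
  rwa [hqz'] at this

end Groth.Agent.S1892
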