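import Groth.Statements.S18927

set_option autoImplicit false
universe u v
open W4c6secantcecovers

namespace Groth.Agent.S18927

section helpers

variable (R : Type u) [CommRing R] (r : ℕ)

/-- graded Leibniz rule for the interior product against a wedge of `n` vectors -/
lemma contr_mul (j : Fin r) : ∀ (n : ℕ) (e : Fin n → (Fin r → R)) (η : SSLam R r),
    ssContr R r j (ExteriorAlgebra.ιMulti R n e * η) =
      ssContr R r j (ExteriorAlgebra.ιMulti R n e) * η +
        (-1 : R) ^ n • (ExteriorAlgebra.ιMulti R n e * ssContr R r j η) := by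
  intro n
  induction n with
  | zero =>
    intro e η
    simp [ssContr, CliffordAlgebra.contractLeft_one]
  | succ n ih =>
    intro e η
    rw [ExteriorAlgebra.ιMulti_succ_apply, mul_assoc]
    unfold ssContr at ih ⊢
    rw [CliffordAlgebra.contractLeft_ι_mul, CliffordAlgebra.contractLeft_ι_mul, ih, sub_mul,
      mul_add, mul_smul_comm, pow_succ, mul_assoc, smul_mul_assoc]
    simp only [mul_neg, mul_one, neg_smul, mul_assoc]
    abel

/-- wedges of more than `r` vectors of `R^r` vanish -/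
lemma ιMulti_eq_zero (n : ℕ) (hn : r < n) (v : Fin n → (Fin r → R)) :
    ExteriorAlgebra.ιMulti R n v = 0 := by
  have h : ExteriorAlgebra.ιMulti R n (M := Fin r → R) = 0 := by
    refine (Pi.basisFun R (Fin r)).ext_alternating fun w hw => ?_
    exact absurd (Fintype.card_le_of_injective w hw) (by simp; omega)
  rw [h]
  rfl

variable (N : Type v) [AddCommGroup N] [Module R N]

open TensorProduct in
lemma ssDelta_tmul (φ : Fin r → (N →ₗ[R] N)) (ω : SSLam R r) (s : MvPolynomial (Fin r) R)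
    (n : N) :
    ssDelta R r N φ ((ω ⊗ₜ[R] s) ⊗ₜ[R] n) =
      ∑ j, (((ssContr R r j ω) ⊗ₜ[R] (MvPolynomial.X j * s)) ⊗ₜ[R] n -
        ((ssContr R r j ω) ⊗ₜ[R] s) ⊗ₜ[R] (φ j n)) := by
  simp only [ssDelta, ssDKoszul, ssDAct, LinearMap.sum_apply, LinearMap.add_apply,
    LinearMap.smul_apply, TensorProduct.map_tmul, LinearMap.mulLeft_apply, LinearMap.id_apply,
    sub_eq_add_neg]
  refine Finset.sum_congr rfl fun j _ => ?_
  congr 1

open TensorProduct in
lemma ssPair_tmul (β : N →ₗ[R] N →ₗ[R] R) (k : ℕ) (ω₁ ω₂ : SSLam R r)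
    (s₁ s₂ : MvPolynomial (Fin r) R) (n₁ n₂ : N) :
    ssPair R r N β k ((ω₁ ⊗ₜ[R] s₁) ⊗ₜ[R] n₁) ((ω₂ ⊗ₜ[R] s₂) ⊗ₜ[R] n₂) =
      ((-1 : R) ^ (k.choose 2) * β n₁ n₂) • ((ω₁ * ω₂) ⊗ₜ[R] (s₁ * s₂)) := by
  simp [ssPair, ssPairAux, mul_smul]

end helpers

open TensorProduct in
/-- Let R be a commutative ring, E = R^r the free module with its coordinate basis, S = R[X_1, …, X_r]
(the symmetric algebra of E), and N an R-module carrying R-linear operators φ_j (the action of the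
j-th basis vector of E) and an R-bilinear form β with β(φ_j n, m) = β(n, φ_j m) for every j. On (ΛE
⊗ S) ⊗ N — all terms Λ^k(S ⊗ E) ⊗ N of the Scheja–Storch complex at once — let δ be the differential
sending (e_1 ∧ ⋯ ∧ e_k) ⊗ s ⊗ n to Σ_i (-1)^(i-1) (e_1 ∧ ⋯ ê_i ⋯ ∧ e_k) ⊗ x(e_i) s ⊗ n + Σ_i (-1)^i
(e_1 ∧ ⋯ ê_i ⋯ ∧ e_k) ⊗ s ⊗ e_i · n, and pair a term u = ω ⊗ s ⊗ n of degree k with v = η ⊗ t ⊗ m by
⟨u, v⟩_k = (-1)^(k choose 2) β(n, m) · (ω ∧ η) ⊗ s t. Then the differential is adjoint to itself for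
this pairing in complementary degrees: for u = (e_0 ∧ ⋯ ∧ e_k) ⊗ s ⊗ n of degree k + 1 ≤ r and v =
(f_1 ∧ ⋯ ∧ f_(r-k)) ⊗ t ⊗ m of degree r - k, ⟨δ u, v⟩_k = ⟨u, δ v⟩_(k+1). (The source takes E
finitely generated projective and N a module over the ambient algebra with a pairing satisfying ⟨f,
g h⟩ = ⟨g f, h⟩; the proof runs on a basis, which is the form stated here, with the action of E
recorded by the operators φ_j.) -/
theorem result
    (R : Type u) [CommRing R] (r : ℕ) (N : Type v) [AddCommGroup N] [Module R N]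
    (φ : Fin r → (N →ₗ[R] N)) (β : N →ₗ[R] N →ₗ[R] R)
    (hβ : ∀ (j : Fin r) (n m : N), β (φ j n) m = β n (φ j m))
    (k : ℕ) (hk : k < r)
    (e : Fin (k + 1) → (Fin r → R)) (f : Fin (r - k) → (Fin r → R))
    (s t : MvPolynomial (Fin r) R) (n m : N) :
    W4c6secantcecovers.ssPair R r N β k
        (W4c6secantcecovers.ssDelta R r N φ ((ExteriorAlgebra.ιMulti R (k + 1) e ⊗ₜ[R] s) ⊗ₜ[R] n))
        ((ExteriorAlgebra.ιMulti R (r - k) f ⊗ₜ[R] t) ⊗ₜ[R] m) =
      W4c6secantcecovers.ssPair R r N β (k + 1)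
        ((ExteriorAlgebra.ιMulti R (k + 1) e ⊗ₜ[R] s) ⊗ₜ[R] n)
        (W4c6secantcecovers.ssDelta R r N φ ((ExteriorAlgebra.ιMulti R (r - k) f ⊗ₜ[R] t) ⊗ₜ[R] m)) := by
  set ω := ExteriorAlgebra.ιMulti R (k + 1) e with hω
  set η := ExteriorAlgebra.ιMulti R (r - k) f with hη
  have hzero : ω * η = 0 := by
    rw [hω, hη, ExteriorAlgebra.ιMulti_mul_ιMulti]
    exact ιMulti_eq_zero R r _ (by omega) _
  have hkey : ∀ j, ssContr R r j ω * η = (-1 : R) ^ k • (ω * ssContr R r j η) := by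
    intro j
    have h1 := contr_mul R r j (k + 1) e η
    rw [← hω, hzero, map_zero, pow_succ, mul_neg, mul_one, neg_smul] at h1
    exact (eq_of_sub_eq_zero (by rw [sub_eq_add_neg]; exact h1.symm))
  have hchoose : (k + 1).choose 2 = k.choose 2 + k := by
    rw [Nat.choose_succ_succ' k 1, Nat.choose_one_right, add_comm]
  rw [ssDelta_tmul, ssDelta_tmul, map_sum, LinearMap.sum_apply, map_sum]
  refine Finset.sum_congr rfl fun j _ => ?_
  rw [map_sub, LinearMap.sub_apply, map_sub, ssPair_tmul, ssPair_tmul, ssPair_tmul, ssPair_tmul,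
    hkey j, hβ, hchoose, pow_add]
  simp only [TensorProduct.smul_tmul', smul_smul]
  have h1 : MvPolynomial.X j * s * t = s * (MvPolynomial.X j * t) := by ring
  rw [h1, mul_right_comm _ (β n m), mul_right_comm _ (β n (φ j m))]

end Groth.Agent.S18927
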