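import Groth.Statements.S18958
import Mathlib

set_option autoImplicit false
universe u
open CategoryTheory MonoidalCategory CartesianMonoidalCategory MonObj AlgebraicGeometry Opposite
open Magnet

namespace Groth.Agent.S18958
open CategoryTheory.Limits

variable {S : Scheme.{u}}

/-- whiskering an open immersion on the left gives a cartesian square over the second projections -/
lemma isPullback_whiskerLeft (G : Over S) {U X : Over S} (j : U ⟶ X) :
    IsPullback (G ◁ j).left (snd G U).left (snd G X).left j.left := by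
  refine IsPullback.of_right (h₁₂ := pullback.fst G.hom X.hom) (v₁₃ := G.hom) (h₂₂ := X.hom)
    ?_ ?_ (IsPullback.of_hasPullback G.hom X.hom)
  · have h1 : (G ◁ j).left ≫ pullback.fst G.hom X.hom = pullback.fst G.hom U.hom :=
      Over.whiskerLeft_left_fst j
    have h2 : j.left ≫ X.hom = U.hom := Over.w j
    rw [h1, h2]
    exact (IsPullback.of_hasPullback G.hom U.hom)
  · exact Over.whiskerLeft_left_snd j

/-- a `G`-stable open: points of `G × X` whose second component lies in `U` are moved into `U`. -/
lemma stable_of_equivariant {G X U : Over S} (actX : G ⊗ X ⟶ X) (actU : G ⊗ U ⟶ U) (j : U ⟶ X)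
    (hj : actU ≫ j = (G ◁ j) ≫ actX) (p : (G ⊗ X).left)
    (hp : (snd G X).left p ∈ Set.range j.left) : actX.left p ∈ Set.range j.left := by
  have hsq := isPullback_whiskerLeft G j
  obtain ⟨u, hu⟩ := hp
  obtain ⟨p', hp'1, hp'2⟩ := Scheme.exists_preimage_of_isPullback hsq p u hu.symm
  refine ⟨actU.left p', ?_⟩
  have h1 : (actU ≫ j).left = ((G ◁ j) ≫ actX).left := by rw [hj]
  have h2 := congrArg (fun f => f.base p') h1
  simp only [Over.comp_left, Scheme.Hom.comp_base, TopCat.comp_app] at h2
  rw [← hp'1]
  exact h2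

/-- stability of the preimage of `U` under an equivariant map -/
lemma stable_preimage {G X U B : Over S} (actX : G ⊗ X ⟶ X) (actU : G ⊗ U ⟶ U) (j : U ⟶ X)
    (hj : actU ≫ j = (G ◁ j) ≫ actX) (actB : G ⊗ B ⟶ B) (φ : B ⟶ X)
    (hφ : actB ≫ φ = (G ◁ φ) ≫ actX) (p : (G ⊗ B).left)
    (hp : φ.left ((snd G B).left p) ∈ Set.range j.left) :
    φ.left (actB.left p) ∈ Set.range j.left := by
  have h1 : (actB ≫ φ).left = ((G ◁ φ) ≫ actX).left := by rw [hφ]
  have h2 := congrArg (fun f => f.base p) h1
  simp only [Over.comp_left, Scheme.Hom.comp_base, TopCat.comp_app] at h2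
  have h3 : φ.left (actB.left p) = actX.left ((G ◁ φ).left p) := h2
  rw [h3]
  apply stable_of_equivariant actX actU j hj
  have h4 : (G ◁ φ).left ≫ (snd G X).left = (snd G B).left ≫ φ.left := Over.whiskerLeft_left_snd φ
  have h5 := congrArg (fun f => f.base p) h4
  simp only [Scheme.Hom.comp_base, TopCat.comp_app] at h5
  have h6 : (snd G X).left ((G ◁ φ).left p) = φ.left ((snd G B).left p) := h5
  rw [h6]
  exact hp

/-- the key point: an equivariant map whose zero section lands in `U` lands in `U`. -/
lemma range_subset (k : Type u) [Field k]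
    (M G X U : Over (Spec (CommRingCat.of k))) [MonObj M] [GrpObj G] (i : G ⟶ M) [IsMonHom i]
    (o : 𝟙_ (Over (Spec (CommRingCat.of k))) ⟶ M)
    (hM : ∀ (T : Over (Spec (CommRingCat.of k))) (K : Type u) [Field K] (eT : T.left ≅ Spec (CommRingCat.of K))
      (W : (M ⊗ T).left.Opens),
      (CartesianMonoidalCategory.snd G (M ⊗ T)).left ⁻¹ᵁ W ≤
          ((((Magnet.MonAct.regular M).restrict i).prod (Magnet.MonAct.trivial G T)).act).left ⁻¹ᵁ W →
      (CartesianMonoidalCategory.lift (toUnit T ≫ o) (𝟙 T)).left ⁻¹ᵁ W = ⊤ → W = ⊤)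
    (aX : AlgGrp.Action G X) (aU : AlgGrp.Action G U) (j : U ⟶ X) [IsOpenImmersion j.left]
    (hj : Magnet.MonAct.IsEquivariant (Magnet.MonAct.ofAction aU) (Magnet.MonAct.ofAction aX) j)
    (T : Over (Spec (CommRingCat.of k))) (φ : M ⊗ T ⟶ X)
    (hφ : MonAct.IsEquivariant
      ((((MonAct.regular M).restrict i)).prod (MonAct.trivial G T)) (MonAct.ofAction aX) φ)
    (z : T ⟶ U) (hz : lift (toUnit T ≫ o) (𝟙 T) ≫ φ = z ≫ j) :
    Set.range φ.left ⊆ Set.range j.left := by
  have hj' : aU.act ≫ j = (G ◁ j) ≫ aX.act := hj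
  rintro _ ⟨p, rfl⟩
  -- the point of `T` below `p`
  set t : T.left := (snd M T).left p with ht
  let T' : Over (Spec (CommRingCat.of k)) := Over.mk (T.left.fromSpecResidueField t ≫ T.hom)
  let ιt : T' ⟶ T := Over.homMk (T.left.fromSpecResidueField t) rfl
  have hsq := isPullback_whiskerLeft M ιt
  obtain ⟨y, hy⟩ : ∃ y : (Spec (T.left.residueField t)), (T.left.fromSpecResidueField t) y = t := by
    have : t ∈ Set.range (T.left.fromSpecResidueField t) := by
      rw [Scheme.range_fromSpecResidueField]; rfl
    exact this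
  obtain ⟨p', hp'1, hp'2⟩ := Scheme.exists_preimage_of_isPullback hsq p y (hy.symm)
  -- the restricted map
  set φ' : M ⊗ T' ⟶ X := (M ◁ ιt) ≫ φ with hφ'
  have hφ'eq : MonAct.IsEquivariant
      ((((MonAct.regular M).restrict i)).prod (MonAct.trivial G T')) (MonAct.ofAction aX) φ' :=
    ((MonAct.eqvHom ((MonAct.regular M).restrict i) (MonAct.ofAction aX)).map ιt.op ⟨φ, hφ⟩).2
  let W : (M ⊗ T').left.Opens := φ'.left ⁻¹ᵁ j.left.opensRange
  have hW : W = ⊤ := by
    refine hM T' (T.left.residueField t) (Iso.refl _) W ?_ ?_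
    · intro q hq
      exact stable_preimage aX.act aU.act j hj' _ φ' hφ'eq q hq
    · rw [eq_top_iff]
      intro q _
      show φ'.left ((lift (toUnit T' ≫ o) (𝟙 T')).left q) ∈ Set.range j.left
      have h1 : lift (toUnit T' ≫ o) (𝟙 T') ≫ φ' = (ιt ≫ z) ≫ j := by
        rw [hφ', lift_whiskerLeft_assoc, Category.id_comp, Category.assoc, ← hz,
          ← Category.assoc, comp_lift, Category.comp_id, ← Category.assoc,
          toUnit_unique (ιt ≫ toUnit T) (toUnit T')]
      have h2 := congrArg (fun f => f.left.base q) h1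
      simp only [Over.comp_left, Scheme.Hom.comp_base, TopCat.comp_app] at h2
      exact ⟨_, h2.symm⟩
  have hp'W : p' ∈ W := by rw [hW]; trivial
  have h3 : φ'.left p' = φ.left p := by
    rw [hφ', ← hp'1]
    rfl
  rw [← h3]
  exact hp'W

/-- Let k be a field, G a group k-scheme and M a monoid k-scheme with a homomorphism of monoids i : G →
M and a zero o : Spec k → M (m·o = o = o·m for every point m of M). Assume that for every k-scheme T
whose underlying scheme is the spectrum of a field K, every open subset of M ×_k T which is stable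
under G acting by left multiplication through i on the first factor and which contains the zero
section T → M ×_k T is the whole of M ×_k T. Let X be a k-scheme with an action aX of G and j : U →
X an open immersion, G-equivariant for an action aU of G on U (an open G-stable subscheme). For a
G-scheme W write D_W for the functor on k-schemes whose value at Y is the set of k-morphisms M ×_k Y
→ W that are G-equivariant for G acting on M ×_k Y by left multiplication through i on the first
factor. Then the square of presheaves formed by D_U → D_X (composition with j), the restrictions D_U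
→ U and D_X → X to the zero section of M, and j is cartesian. (In the source M is a Kempf monoid
with G its group of units, and the restriction to the zero section is viewed as the retraction of
D_X onto the fixed points X^G; the displayed property of the open G-stable subsets of M over field
extensions is what the argument uses about M, and the square over X^G is cartesian exactly when the
one over X is, U^G being X^G ×_X U.) -/
theorem result (k : Type u) [Field k]
    (M G X U : Over (Spec (CommRingCat.of k))) [MonObj M] [GrpObj G] (i : G ⟶ M) [IsMonHom i]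
    (o : 𝟙_ (Over (Spec (CommRingCat.of k))) ⟶ M)
    (ho : ∀ (T : Over (Spec (CommRingCat.of k))) (m : T ⟶ M), m * (toUnit T ≫ o) = toUnit T ≫ o ∧ (toUnit T ≫ o) * m = toUnit T ≫ o)
    (hM : ∀ (T : Over (Spec (CommRingCat.of k))) (K : Type u) [Field K] (eT : T.left ≅ Spec (CommRingCat.of K))
      (W : (M ⊗ T).left.Opens),
      (CartesianMonoidalCategory.snd G (M ⊗ T)).left ⁻¹ᵁ W ≤
          ((((Magnet.MonAct.regular M).restrict i).prod (Magnet.MonAct.trivial G T)).act).left ⁻¹ᵁ W →
      (CartesianMonoidalCategory.lift (toUnit T ≫ o) (𝟙 T)).left ⁻¹ᵁ W = ⊤ → W = ⊤)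
    (aX : AlgGrp.Action G X) (aU : AlgGrp.Action G U) (j : U ⟶ X) [IsOpenImmersion j.left]
    (hj : Magnet.MonAct.IsEquivariant (Magnet.MonAct.ofAction aU) (Magnet.MonAct.ofAction aX) j) :
    IsPullback
      (Magnet.MonAct.eqvHom.postcomp ((Magnet.MonAct.regular M).restrict i) j hj)
      (Magnet.MonAct.eqvHom.evalAt ((Magnet.MonAct.regular M).restrict i) (Magnet.MonAct.ofAction aU) o)
      (Magnet.MonAct.eqvHom.evalAt ((Magnet.MonAct.regular M).restrict i) (Magnet.MonAct.ofAction aX) o)
      (yoneda.map j) := by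
  have hjmono : Mono j := by
    have : Mono j.left := inferInstance
    exact (Over.forget _).mono_of_mono_map this
  have hj' : aU.act ≫ j = (G ◁ j) ≫ aX.act := hj
  refine IsPullback.of_forall_isPullback_app fun T => ?_
  rw [Types.isPullback_iff]
  refine ⟨?_, ?_, ?_⟩
  · ext φ
    change (lift (toUnit (unop T) ≫ o) (𝟙 (unop T)) ≫ (φ.1 ≫ j)) =
      (lift (toUnit (unop T) ≫ o) (𝟙 (unop T)) ≫ φ.1) ≫ j
    rw [Category.assoc]
  · rintro x₁ y₁ ⟨h1, -⟩
    apply Subtype.ext
    have h2 : x₁.1 ≫ j = y₁.1 ≫ j := congrArg Subtype.val h1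
    exact (cancel_mono j).mp h2
  · rintro ⟨φ, hφ⟩ z hz
    have hz' : lift (toUnit (unop T) ≫ o) (𝟙 (unop T)) ≫ φ = z ≫ j := hz
    have hrange := range_subset k M G X U i o hM aX aU j hj (unop T) φ hφ z hz'
    let χ₀ : (M ⊗ unop T).left ⟶ U.left := IsOpenImmersion.lift j.left φ.left hrange
    have hχ₀ : χ₀ ≫ j.left = φ.left := IsOpenImmersion.lift_fac _ _ _
    have hw : χ₀ ≫ U.hom = (M ⊗ unop T).hom := by
      rw [← Over.w j, ← Category.assoc, hχ₀, Over.w φ]
    let χ : M ⊗ unop T ⟶ U := Over.homMk χ₀ hw
    have hχ : χ ≫ j = φ := by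
      ext1
      exact hχ₀
    have hχeq : MonAct.IsEquivariant
        ((((MonAct.regular M).restrict i)).prod (MonAct.trivial G (unop T)))
        (MonAct.ofAction aU) χ := by
      change _ ≫ χ = (G ◁ χ) ≫ aU.act
      rw [← cancel_mono j, Category.assoc, hχ, Category.assoc, hj', ← Category.assoc (G ◁ χ),
        ← MonoidalCategory.whiskerLeft_comp, hχ]
      exact hφ
    refine ⟨⟨χ, hχeq⟩, ?_, ?_⟩
    · apply Subtype.ext
      exact hχ
    · change lift (toUnit (unop T) ≫ o) (𝟙 (unop T)) ≫ χ = z
      rw [← cancel_mono j, Category.assoc, hχ, hz']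

end Groth.Agent.S18958
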