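import Groth.Statements.S1896
import Groth.Agent.S4637
import Groth.Agent.Lib.Helper23StalkLin
-- import your own Groth.Agent.* helpers here

set_option autoImplicit false
universe u
open CategoryTheory AlgebraicGeometry
open Cyc

namespace Groth.Agent.S1896

set_option linter.style.haveILetI false

open Groth.Agent.Lib.Helper4.NormDelta Groth.Agent.Lib.Helper23.StalkLin

/-- For a short exact sequence 0 → F → G → H → 0 of coherent O_X-modules (X locally Noetherian with
dimension function δ) whose supports have δ-dimension at most k, one has [G]_k = [F]_k + [H]_k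
coefficientwise. Here (X, δ) satisfies Cyc.IsSetup (X locally Noetherian with universally catenary
local rings, δ a dimension function). -/
theorem result (X : Scheme.{u}) (δ : X → ℤ) (hX : Cyc.IsSetup X δ) (k : ℤ) (T : ShortComplex X.Modules) (hT : T.ShortExact) (h₁ : Coh.IsCoh T.X₁) (h₂ : Coh.IsCoh T.X₂) (h₃ : Coh.IsCoh T.X₃) (hdim : ∀ x : X, Nontrivial (T.X₂.presheaf.stalk x) → δ x ≤ k) : Cyc.sheafFun δ k T.X₂ = Cyc.sheafFun δ k T.X₁ + Cyc.sheafFun δ k T.X₃ := by
  obtain ⟨hN, -, hδ⟩ := hX
  haveI := hN
  funext x
  simp only [Cyc.sheafFun, Pi.add_apply]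
  split_ifs with hx
  · haveI : Mono T.f := hT.mono_f
    haveI : Epi T.g := hT.epi_g
    have hlen := Module.length_eq_add_of_exact (stalkLin T.f x) (stalkLin T.g x)
      (stalkLin_injective T.f x) (stalkLin_surjective T.g x) (stalkLin_exact T hT x)
    have hfin : Module.length (X.presheaf.stalk x) (T.X₂.presheaf.stalk x) ≠ ⊤ := by
      by_cases hnt : Nontrivial (T.X₂.presheaf.stalk x)
      · have h := (Groth.Agent.S4637.result T.X₂ h₂ x).1 ⟨hnt, fun y hy hyx => by
          by_contra hne
          have h1 := (hδ y x hyx hne).1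
          have h2 := hdim y hy
          omega⟩
        exact Module.length_ne_top_iff.2 h.2
      · rw [not_nontrivial_iff_subsingleton] at hnt
        rw [Module.length_eq_zero]
        exact ENat.zero_ne_top
    rw [hlen] at hfin ⊢
    have ha : Module.length (X.presheaf.stalk x) (T.X₁.presheaf.stalk x) ≠ ⊤ :=
      fun h => hfin (by rw [h, top_add])
    have hb : Module.length (X.presheaf.stalk x) (T.X₃.presheaf.stalk x) ≠ ⊤ :=
      fun h => hfin (by rw [h, add_top])
    rw [ENat.toNat_add ha hb]
    push_cast
    rfl
  · simp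

end Groth.Agent.S1896
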