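import Groth.Statements.S1897
import Groth.Agent.R2.H9DeltaBound
import Groth.Agent.R2.H9PullStalk
-- import your own Groth.Agent.* helpers here

set_option autoImplicit false
universe u
open CategoryTheory AlgebraicGeometry
open Cyc

namespace Groth.Agent.S1897

set_option linter.style.haveILetI false

open Groth.Agent.R2.H9.DeltaBound Groth.Agent.R2.H9.PullStalk

/-- Let f : X → Y be flat, locally of finite type, of relative dimension r, and F a coherent O_Y-module
whose support has δ-dimension ≤ k. Then the support of f^*F has δ-dimension ≤ k + r and f^*[F]_k =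
[f^*F]_{k+r} (coefficientwise). A pair (X, δ) with Cyc.IsSetup plays the role of a scheme locally of
finite type over a fixed base with a dimension function (X locally Noetherian with universally
catenary local rings, δ a dimension function), and Cyc.DeltaCompat records that the dimension
function upstairs is the induced one. -/
theorem result (X Y : Scheme.{u}) (δX : X → ℤ) (δY : Y → ℤ) (hX : Cyc.IsSetup X δX) (hY : Cyc.IsSetup Y δY) (f : X ⟶ Y) [Flat f] [LocallyOfFiniteType f] (r : ℕ) (hr : Cyc.HasRelDim f r) (hδ : Cyc.DeltaCompat f δX δY) (k : ℤ) (F : Y.Modules) (hF : Coh.IsCoh F) (hdim : ∀ y : Y, Nontrivial (F.presheaf.stalk y) → δY y ≤ k) : (∀ x : X, Nontrivial (((Scheme.Modules.pullback f).obj F).presheaf.stalk x) → δX x ≤ k + r) ∧ Cyc.pullFun f δX δY r (Cyc.sheafFun δY k F) = Cyc.sheafFun δX (k + r) ((Scheme.Modules.pullback f).obj F) := by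
  have hbound := fun x => exists_le_delta f r hr δX δY hδ x
  have hsub : ∀ x : X, ¬ Nontrivial (F.presheaf.stalk (f x)) →
      Subsingleton (((Scheme.Modules.pullback f).obj F).presheaf.stalk x) := fun x h =>
    subsingleton_stalk_pullback f F x (not_nontrivial_iff_subsingleton.mp h)
  have hpart1 : ∀ x : X, Nontrivial (((Scheme.Modules.pullback f).obj F).presheaf.stalk x) →
      δX x ≤ k + r := by
    intro x hx
    have hnt : Nontrivial (F.presheaf.stalk (f x)) := by
      by_contra h
      haveI := hsub x h
      exact not_subsingleton _ ‹_›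
    obtain ⟨n, hn, hδn⟩ := hbound x
    have := hdim (f x) hnt
    omega
  refine ⟨hpart1, ?_⟩
  funext x
  obtain ⟨n, hn, hδn⟩ := hbound x
  simp only [Cyc.pullFun, Cyc.sheafFun]
  by_cases h1 : δX x = δY (f x) + r
  · by_cases h2 : δY (f x) = k
    · have h3 : δX x = k + r := by omega
      rw [if_pos h1, if_pos h2, if_pos h3, length_stalk_pullback f F x (Flat.stalkMap f x),
        ENat.toNat_mul]
      push_cast
      rfl
    · have h3 : ¬ δX x = k + r := by omega
      rw [if_pos h1, if_neg h2, if_neg h3, zero_mul]
  · rw [if_neg h1]
    by_cases h3 : δX x = k + r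
    · rw [if_pos h3]
      have hnt : ¬ Nontrivial (F.presheaf.stalk (f x)) := by
        intro hnt
        have := hdim (f x) hnt
        omega
      haveI := hsub x hnt
      rw [Module.length_eq_zero]
      rfl
    · rw [if_neg h3]

end Groth.Agent.S1897
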