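import Groth.Statements.S1899
import Groth.Agent.R2.H9PushStalk
-- import your own Groth.Agent.* helpers here

set_option autoImplicit false
universe u
open CategoryTheory AlgebraicGeometry
open Cyc

namespace Groth.Agent.S1899

open Groth.Agent.R2.H9.PushStalk

/-- For a closed immersion i : Z → X with Z of δ-dimension ≤ k, [Z]_k = [O_Z]_k, i.e. the multiplicities
computed from lengths of the local rings O_{Z,z} agree with those computed from the stalks of i_*O_Z
as O_X-modules. A pair (X, δ) with Cyc.IsSetup plays the role of a scheme locally of finite type
over a fixed base with a dimension function (X locally Noetherian with universally catenary local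
rings, δ a dimension function), and Cyc.DeltaCompat records that the dimension function upstairs is
the induced one. -/
theorem result (X Z : Scheme.{u}) (δ : X → ℤ) (hX : Cyc.IsSetup X δ) (i : Z ⟶ X) [IsClosedImmersion i] (k : ℤ) (hdim : ∀ z : Z, δ (i z) ≤ k) : Cyc.subschemeFun δ k i = Cyc.sheafFun δ k ((Coh.push i).obj (Coh.structureModule Z)) := by
  funext x
  simp only [Cyc.subschemeFun, Cyc.sheafFun]
  split_ifs with hx
  · have hemb : Topology.IsClosedEmbedding i := i.isClosedEmbedding
    by_cases hr : x ∈ Set.range i
    · obtain ⟨z, rfl⟩ := hr
      have hset : {z' : Z | i z' = i z} = {z} := by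
        ext z'
        simp only [Set.mem_setOf_eq, Set.mem_singleton_iff]
        exact ⟨fun h => hemb.injective h, fun h => by rw [h]⟩
      rw [hset, finsum_mem_singleton]
      congr 2
      exact (length_stalk_pushO i z hemb.isInducing (i.stalkMap_surjective z)).symm
    · have hset : {z' : Z | i z' = x} = ∅ := by
        ext z'
        simp only [Set.mem_setOf_eq, Set.mem_empty_iff_false, iff_false]
        exact fun h => hr ⟨z', h⟩
      rw [hset, finsum_mem_empty]
      haveI := subsingleton_stalk_pushO i hemb.isClosed_range x hr
      rw [Module.length_eq_zero]
      rfl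
  · rfl

end Groth.Agent.S1899
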