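import Groth.Statements.S19017
-- import your own Groth.Agent.* helpers here
import Mathlib
import Groth.Agent.R2.H9OrdImm
import Groth.Agent.R2.H9DivLF
import Groth.Agent.R2.H9FieldSetup

set_option autoImplicit false
universe u
open CategoryTheory AlgebraicGeometry
open IntTh

namespace Groth.Agent.S19017

open Groth.Agent.R2.H9.OrdImm Groth.Agent.R2.H9.DivLF Groth.Agent.R2.H9.FieldSetup

set_option linter.style.haveILetI false

/-- Let k be an arbitrary field and X a scheme separated and of finite type over k, with the dimension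
function δ induced from Spec k. Let i_1 : X_1 → X and i_2 : X_2 → X be closed subschemes whose
images cover X, and let Y be their intersection: closed immersions j_1 : Y → X_1, j_2 : Y → X_2 with
i_1 ∘ j_1 = i_2 ∘ j_2 whose image in X is the intersection of the images of X_1 and X_2. Then the
sequence CH_n(Y) → CH_n(X_1) ⊕ CH_n(X_2) → CH_n(X) → 0, with first map γ ↦ (j_{1*}γ, −j_{2*}γ) and
second map the sum of the push-forwards, is exact for every integer n: every n-cycle on X is a sum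
i_{1*}α_1 + i_{2*}α_2 of n-cycles on X_1 and X_2, and whenever such a sum is rationally equivalent
to zero on X there is an n-cycle γ on Y with α_1 rationally equivalent to j_{1*}γ on X_1 and α_2
rationally equivalent to −j_{2*}γ on X_2. (The published statement does not require the two closed
subschemes to cover X; without that requirement the surjectivity fails already for two empty closed
subschemes of a point, and the printed argument uses the covering, so it is assumed here. The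
published statement also calls the sequence one of rings graded by codimension; stated here is the
additive sequence graded by dimension, which is what the printed argument gives.) -/
theorem result (k : Type u) [Field k]
    (X : Scheme.{u}) [X.Over (Spec (CommRingCat.of k))]
    [IsSeparated (X ↘ Spec (CommRingCat.of k))] [LocallyOfFiniteType (X ↘ Spec (CommRingCat.of k))]
    [QuasiCompact (X ↘ Spec (CommRingCat.of k))]
    (δ : X → ℤ) (hδ : Cyc.DeltaCompat (X ↘ Spec (CommRingCat.of k)) δ (fun _ => 0))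
    {X₁ X₂ Y : Scheme.{u}} (i₁ : X₁ ⟶ X) (i₂ : X₂ ⟶ X) [IsClosedImmersion i₁] [IsClosedImmersion i₂]
    (hcov : Set.range i₁ ∪ Set.range i₂ = Set.univ)
    (j₁ : Y ⟶ X₁) (j₂ : Y ⟶ X₂) [IsClosedImmersion j₁] [IsClosedImmersion j₂]
    (hcomm : j₁ ≫ i₁ = j₂ ≫ i₂) (hY : Set.range (j₁ ≫ i₁) = Set.range i₁ ∩ Set.range i₂) (n : ℤ) :
    (∀ α : AlgebraicCycle X ℤ, α ∈ Cyc.Zk X δ n →
      ∃ (α₁ : AlgebraicCycle X₁ ℤ) (α₂ : AlgebraicCycle X₂ ℤ),
        α₁ ∈ Cyc.Zk X₁ (fun x => δ (i₁ x)) n ∧ α₂ ∈ Cyc.Zk X₂ (fun x => δ (i₂ x)) n ∧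
        α = AlgebraicCycle.map i₁ (fun x => δ (i₁ x)) δ α₁ + AlgebraicCycle.map i₂ (fun x => δ (i₂ x)) δ α₂) ∧
    (∀ (α₁ : AlgebraicCycle X₁ ℤ) (α₂ : AlgebraicCycle X₂ ℤ),
      α₁ ∈ Cyc.Zk X₁ (fun x => δ (i₁ x)) n → α₂ ∈ Cyc.Zk X₂ (fun x => δ (i₂ x)) n →
      Cyc.RatEquivZero δ n
        (AlgebraicCycle.map i₁ (fun x => δ (i₁ x)) δ α₁ + AlgebraicCycle.map i₂ (fun x => δ (i₂ x)) δ α₂) →
      ∃ γ : AlgebraicCycle Y ℤ, γ ∈ Cyc.Zk Y (fun y => δ (i₁ (j₁ y))) n ∧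
        Cyc.RatEquiv (fun x => δ (i₁ x)) n α₁
          (AlgebraicCycle.map j₁ (fun y => δ (i₁ (j₁ y))) (fun x => δ (i₁ x)) γ) ∧
        Cyc.RatEquiv (fun x => δ (i₂ x)) n α₂
          (-AlgebraicCycle.map j₂ (fun y => δ (i₁ (j₁ y))) (fun x => δ (i₂ x)) γ)) := by
  classical
  haveI : IsLocallyNoetherian X :=
    LocallyOfFiniteType.isLocallyNoetherian (X ↘ Spec (CommRingCat.of k))
  have hdim : Cyc.IsDimFun X δ := isDimFun_of_field k (X ↘ Spec (CommRingCat.of k)) δ hδ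
  have hcond : ∀ y, i₁ (j₁ y) = i₂ (j₂ y) := fun y => by
    rw [← Scheme.Hom.comp_apply, ← Scheme.Hom.comp_apply, hcomm]
  have hinj₁ : Function.Injective i₁ := i₁.isEmbedding.injective
  have hinj₂ : Function.Injective i₂ := i₂.isEmbedding.injective
  have hinjj₁ : Function.Injective j₁ := j₁.isEmbedding.injective
  have hinjj₂ : Function.Injective j₂ := j₂.isEmbedding.injective
  have hcl₁ : IsClosed (Set.range i₁) := i₁.isClosedEmbedding.isClosed_range
  have hcl₂ : IsClosed (Set.range i₂) := i₂.isClosedEmbedding.isClosed_range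
  have hYmem : ∀ x, x ∈ Set.range i₁ → x ∈ Set.range i₂ → ∃ y, i₁ (j₁ y) = x := by
    intro x h1 h2
    have h3 : x ∈ Set.range (j₁ ≫ i₁) := by rw [hY]; exact ⟨h1, h2⟩
    obtain ⟨y, hy⟩ := h3
    exact ⟨y, by rw [← hy, Scheme.Hom.comp_apply]⟩
  have hrange₁ : ∀ x₁, i₁ x₁ ∈ Set.range i₂ → x₁ ∈ Set.range j₁ := by
    intro x₁ hx
    obtain ⟨y, hy⟩ := hYmem (i₁ x₁) ⟨x₁, rfl⟩ hx
    exact ⟨y, hinj₁ hy⟩
  have hrange₂ : ∀ x₂, i₂ x₂ ∈ Set.range i₁ → x₂ ∈ Set.range j₂ := by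
    intro x₂ hx
    obtain ⟨y, hy⟩ := hYmem (i₂ x₂) hx ⟨x₂, rfl⟩
    exact ⟨y, hinj₂ (by rw [← hcond, hy])⟩
  have hcovx : ∀ x, x ∉ Set.range i₂ → x ∈ Set.range i₁ := by
    intro x hx
    have h0 : x ∈ Set.range i₁ ∪ Set.range i₂ := by rw [hcov]; trivial
    rcases h0 with h0 | h0
    · exact h0
    · exact absurd h0 hx
  constructor
  · -- surjectivity
    intro α hα
    obtain ⟨α₁, hα₁⟩ := exists_comap_cycle i₁ hinj₁ α
    have hM₁a : ∀ x₁, (AlgebraicCycle.map i₁ (fun x => δ (i₁ x)) δ α₁) (i₁ x₁) = α (i₁ x₁) :=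
      fun x₁ => by
        rw [map_apply_of_injective i₁ hinj₁ (fun x => δ (i₁ x)) δ (fun _ => rfl) α₁ x₁, hα₁]
    have hM₁0 : ∀ x, x ∉ Set.range i₁ →
        (AlgebraicCycle.map i₁ (fun x => δ (i₁ x)) δ α₁) x = 0 := fun x hx =>
      map_apply_of_notMem_range i₁ _ δ α₁ x hx
    obtain ⟨α₂, hα₂⟩ := exists_comap_cycle i₂ hinj₂
      (α - AlgebraicCycle.map i₁ (fun x => δ (i₁ x)) δ α₁)
    have hα₂' : ∀ x₂, α₂ x₂ = α (i₂ x₂) -
        (AlgebraicCycle.map i₁ (fun x => δ (i₁ x)) δ α₁) (i₂ x₂) := fun x₂ => hα₂ x₂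
    refine ⟨α₁, α₂, ?_, ?_, ?_⟩
    · intro x hx
      rw [hα₁]
      exact hα _ hx
    · intro x hx
      rw [hα₂']
      have h1 : α (i₂ x) = 0 := hα _ hx
      by_cases hxr : i₂ x ∈ Set.range i₁
      · obtain ⟨x₁, hx₁⟩ := hxr
        rw [← hx₁, hM₁a, hx₁, h1, sub_zero]
      · rw [hM₁0 _ hxr, h1, sub_zero]
    · ext x
      have h1 : (AlgebraicCycle.map i₁ (fun x => δ (i₁ x)) δ α₁ +
          AlgebraicCycle.map i₂ (fun x => δ (i₂ x)) δ α₂) x =
          (AlgebraicCycle.map i₁ (fun x => δ (i₁ x)) δ α₁) x +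
          (AlgebraicCycle.map i₂ (fun x => δ (i₂ x)) δ α₂) x := rfl
      rw [h1]
      by_cases hx2 : x ∈ Set.range i₂
      · obtain ⟨x₂, rfl⟩ := hx2
        rw [map_apply_of_injective i₂ hinj₂ (fun x => δ (i₂ x)) δ (fun _ => rfl) α₂ x₂, hα₂']
        ring
      · rw [map_apply_of_notMem_range i₂ _ δ α₂ x hx2, add_zero]
        obtain ⟨x₁, rfl⟩ := hcovx x hx2
        rw [hM₁a]
  · -- exactness in the middle
    intro α₁ α₂ h₁ h₂ h
    obtain ⟨ι, ξ, f, hξ, hf, hlf, hsum⟩ := h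
    let J₁ : Set ι := {j | ξ j ∈ Set.range i₁}
    have hJ₂ : ∀ j, j ∉ J₁ → ξ j ∈ Set.range i₂ := by
      intro j hj
      have h0 : ξ j ∈ Set.range i₁ ∪ Set.range i₂ := by rw [hcov]; trivial
      rcases h0 with h0 | h0
      · exact absurd h0 hj
      · exact h0
    have hlfsub : ∀ (S : Set ι) (x : X), ∃ U : Set X, IsOpen U ∧ x ∈ U ∧
        {j : ↥S | (closure {ξ j.1} ∩ U).Nonempty}.Finite := by
      intro S x
      obtain ⟨U, hUo, hxU, hfin⟩ := hlf x
      refine ⟨U, hUo, hxU, ?_⟩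
      have h1 : {j : ↥S | (closure {ξ j.1} ∩ U).Nonempty} =
          Subtype.val ⁻¹' {j : ι | (closure {ξ j} ∩ U).Nonempty} := rfl
      rw [h1]
      exact hfin.preimage Subtype.val_injective.injOn
    have hD₁ : ∀ j, j ∈ J₁ → ∀ x, x ∉ Set.range i₁ → Cyc.divFun δ (ξ j) (f j) x = 0 := by
      intro j hj x hx
      unfold Cyc.divFun
      rw [dif_neg]
      rintro ⟨h1, -⟩
      exact hx (hcl₁.closure_subset_iff.mpr (Set.singleton_subset_iff.mpr hj)
        (specializes_iff_mem_closure.mp h1))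
    have hD₂ : ∀ j, j ∉ J₁ → ∀ x, x ∉ Set.range i₂ → Cyc.divFun δ (ξ j) (f j) x = 0 := by
      intro j hj x hx
      unfold Cyc.divFun
      rw [dif_neg]
      rintro ⟨h1, -⟩
      exact hx (hcl₂.closure_subset_iff.mpr (Set.singleton_subset_iff.mpr (hJ₂ j hj))
        (specializes_iff_mem_closure.mp h1))
    have hfinx : ∀ x : X, (Function.support fun j => Cyc.divFun δ (ξ j) (f j) x).Finite := by
      intro x
      obtain ⟨U, hUo, hxU, hfin⟩ := hlf x
      apply hfin.subset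
      intro j hj
      have hsp : ξ j ⤳ x := by
        by_contra hns
        apply hj
        show Cyc.divFun δ (ξ j) (f j) x = 0
        unfold Cyc.divFun
        rw [dif_neg]
        exact fun hc => hns hc.1
      exact ⟨x, specializes_iff_mem_closure.mp hsp, hxU⟩
    obtain ⟨D₁, hD₁c⟩ := exists_cycle_of_locallyFinite δ hdim (fun j : ↥J₁ => ξ j.1)
      (fun j => f j.1) (fun j => hf j.1) (hlfsub J₁)
    set M₁ := AlgebraicCycle.map i₁ (fun x => δ (i₁ x)) δ α₁ with hM₁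
    set M₂ := AlgebraicCycle.map i₂ (fun x => δ (i₂ x)) δ α₂ with hM₂
    let Γ : AlgebraicCycle X ℤ := M₁ - D₁
    have hΓ : ∀ x, Γ x = M₁ x - ∑ᶠ j : ↥J₁, Cyc.divFun δ (ξ j.1) (f j.1) x := by
      intro x
      show M₁ x - D₁ x = _
      rw [hD₁c]
    have hΓ' : ∀ x, Γ x = -M₂ x + ∑ᶠ j : ↥(J₁ᶜ), Cyc.divFun δ (ξ j.1) (f j.1) x := by
      intro x
      rw [hΓ x]
      have h1 := hsum x
      have h2 : (M₁ + M₂) x = M₁ x + M₂ x := rfl
      rw [h2] at h1
      have h3 : ∑ᶠ j, Cyc.divFun δ (ξ j) (f j) x =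
          (∑ᶠ j ∈ J₁, Cyc.divFun δ (ξ j) (f j) x) + ∑ᶠ j ∈ J₁ᶜ, Cyc.divFun δ (ξ j) (f j) x := by
        rw [← finsum_mem_union' disjoint_compl_right ((hfinx x).subset Set.inter_subset_right)
          ((hfinx x).subset Set.inter_subset_right), Set.union_compl_self, finsum_mem_univ]
      rw [finsum_set_coe_eq_finsum_mem (f := fun j => Cyc.divFun δ (ξ j) (f j) x) J₁,
        finsum_set_coe_eq_finsum_mem (f := fun j => Cyc.divFun δ (ξ j) (f j) x) J₁ᶜ]
      rw [h3] at h1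
      linarith
    have hM₁a : ∀ x₁, M₁ (i₁ x₁) = α₁ x₁ := fun x₁ =>
      map_apply_of_injective i₁ hinj₁ (fun x => δ (i₁ x)) δ (fun _ => rfl) α₁ x₁
    have hM₂a : ∀ x₂, M₂ (i₂ x₂) = α₂ x₂ := fun x₂ =>
      map_apply_of_injective i₂ hinj₂ (fun x => δ (i₂ x)) δ (fun _ => rfl) α₂ x₂
    have hM₁0 : ∀ x, x ∉ Set.range i₁ → M₁ x = 0 := fun x hx =>
      map_apply_of_notMem_range i₁ _ δ α₁ x hx
    have hM₂0 : ∀ x, x ∉ Set.range i₂ → M₂ x = 0 := fun x hx =>
      map_apply_of_notMem_range i₂ _ δ α₂ x hx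
    have hΓ₁ : ∀ x, x ∉ Set.range i₁ → Γ x = 0 := by
      intro x hx
      rw [hΓ x, hM₁0 x hx, zero_sub, neg_eq_zero]
      exact finsum_eq_zero_of_forall_eq_zero fun j => hD₁ j.1 j.2 x hx
    have hΓ₂ : ∀ x, x ∉ Set.range i₂ → Γ x = 0 := by
      intro x hx
      rw [hΓ' x, hM₂0 x hx, neg_zero, zero_add]
      exact finsum_eq_zero_of_forall_eq_zero fun j => hD₂ j.1 j.2 x hx
    have hΓk : ∀ x, δ x ≠ n → Γ x = 0 := by
      intro x hx
      rw [hΓ x]
      have h1 : M₁ x = 0 := by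
        by_cases hxr : x ∈ Set.range i₁
        · obtain ⟨x₁, rfl⟩ := hxr
          rw [hM₁a]
          exact h₁ x₁ hx
        · exact hM₁0 x hxr
      rw [h1, zero_sub, neg_eq_zero]
      apply finsum_eq_zero_of_forall_eq_zero
      intro j
      unfold Cyc.divFun
      rw [dif_neg]
      rintro ⟨-, h2⟩
      apply hx
      have := hξ j.1
      omega
    obtain ⟨γ, hγ⟩ := exists_comap_cycle (j₁ ≫ i₁) (hinj₁.comp hinjj₁) Γ
    have hγ₁ : ∀ y, γ y = Γ (i₁ (j₁ y)) := fun y => hγ y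
    have hγ₂ : ∀ y, γ y = Γ (i₂ (j₂ y)) := fun y => by rw [hγ₁, hcond]
    have hP₁ : ∀ x₁, (AlgebraicCycle.map j₁ (fun y => δ (i₁ (j₁ y))) (fun x => δ (i₁ x)) γ) x₁ =
        Γ (i₁ x₁) := by
      intro x₁
      by_cases hx : x₁ ∈ Set.range j₁
      · obtain ⟨y, rfl⟩ := hx
        rw [map_apply_of_injective j₁ hinjj₁ (fun y => δ (i₁ (j₁ y))) (fun x => δ (i₁ x))
          (fun _ => rfl) γ y, hγ₁]
      · rw [map_apply_of_notMem_range j₁ _ _ γ x₁ hx]
        symm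
        apply hΓ₂
        exact fun h0 => hx (hrange₁ x₁ h0)
    have hP₂ : ∀ x₂, (AlgebraicCycle.map j₂ (fun y => δ (i₁ (j₁ y))) (fun x => δ (i₂ x)) γ) x₂ =
        Γ (i₂ x₂) := by
      intro x₂
      by_cases hx : x₂ ∈ Set.range j₂
      · obtain ⟨y, rfl⟩ := hx
        rw [map_apply_of_injective j₂ hinjj₂ (fun y => δ (i₁ (j₁ y))) (fun x => δ (i₂ x))
          (fun y => by rw [hcond]) γ y, hγ₂]
      · rw [map_apply_of_notMem_range j₂ _ _ γ x₂ hx]
        symm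
        apply hΓ₁
        exact fun h0 => hx (hrange₂ x₂ h0)
    refine ⟨γ, ?_, ?_, ?_⟩
    · intro y hy
      rw [hγ₁]
      exact hΓk _ hy
    · unfold Cyc.RatEquiv
      apply ratEquivZero_of_family_in_range i₁ δ n (fun j : ↥J₁ => ξ j.1) (fun j => f j.1)
        (fun j => hξ j.1) (fun j => hf j.1) (hlfsub J₁) (fun j => j.2)
      intro x₁
      have h1 : (α₁ - AlgebraicCycle.map j₁ (fun y => δ (i₁ (j₁ y))) (fun x => δ (i₁ x)) γ) x₁ =
          α₁ x₁ - (AlgebraicCycle.map j₁ (fun y => δ (i₁ (j₁ y))) (fun x => δ (i₁ x)) γ) x₁ := rfl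
      rw [h1, hP₁, hΓ, hM₁a]
      ring
    · unfold Cyc.RatEquiv
      apply ratEquivZero_of_family_in_range i₂ δ n (fun j : ↥(J₁ᶜ) => ξ j.1)
        (fun j => f j.1)
        (fun j => hξ j.1) (fun j => hf j.1) (hlfsub J₁ᶜ) (fun j => hJ₂ j.1 j.2)
      intro x₂
      have h1 : (α₂ - -AlgebraicCycle.map j₂ (fun y => δ (i₁ (j₁ y))) (fun x => δ (i₂ x)) γ) x₂ =
          α₂ x₂ -
            -(AlgebraicCycle.map j₂ (fun y => δ (i₁ (j₁ y))) (fun x => δ (i₂ x)) γ) x₂ := rfl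
      rw [h1, hP₂, hΓ', hM₂a]
      ring

end Groth.Agent.S19017
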