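import Groth.Statements.S19022
import Groth.Agent.Lib.Helper23GenNear
import Groth.Agent.Lib.Helper20ParaF6
import Groth.Agent.Lib.Helper20UFDPic

set_option autoImplicit false
universe u
open CategoryTheory AlgebraicGeometry
open PicF

namespace Groth.Agent.S19022

open Groth.Agent.Lib.Helper23.GenNear Groth.Agent.Lib.Helper23.SecTw Groth.Agent.Lib.Helper6
open Groth.Agent.Lib.Helper20.ParaFLib Groth.Agent.Lib.Helper20.UFDPic

section helpers

variable {X : Scheme.{u}}

/-- a unit plus a sum of non-units at a point is a unit at that point -/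
lemma mem_basicOpen_sum {ι : Type*} (U : X.Opens) (s : Finset ι) (f : ι → Γ(X, U)) (y : X)
    (j : ι) (hj : j ∈ s) (hyj : y ∈ X.basicOpen (f j))
    (hy : ∀ i ∈ s, i ≠ j → y ∉ X.basicOpen (f i)) : y ∈ X.basicOpen (∑ i ∈ s, f i) := by
  classical
  have hyU : y ∈ U := X.basicOpen_le _ hyj
  rw [Scheme.mem_basicOpen X _ y hyU] at hyj ⊢
  rw [← Finset.add_sum_erase s f hj, map_add]
  have hnon : ∀ t : Finset ι, (∀ i ∈ t, i ∈ s ∧ i ≠ j) →
      X.presheaf.germ U y hyU (∑ i ∈ t, f i) ∈ nonunits (X.presheaf.stalk y) := by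
    intro t
    induction t using Finset.induction_on with
    | empty =>
      intro _
      rw [Finset.sum_empty, map_zero]
      exact zero_mem_nonunits.2 zero_ne_one
    | insert a t hat ih =>
      intro h
      rw [Finset.sum_insert hat, map_add]
      refine IsLocalRing.nonunits_add ?_ (ih fun i hi => h i (Finset.mem_insert_of_mem hi))
      have ha := h a (Finset.mem_insert_self a t)
      have := hy a ha.1 ha.2
      rw [Scheme.mem_basicOpen X _ y hyU] at this
      exact this
  have h2 := hnon (s.erase j) (fun i hi => ⟨Finset.mem_of_mem_erase hi, Finset.ne_of_mem_erase hi⟩)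
  by_contra hcon
  have h3 : X.presheaf.germ U y hyU (f j) ∈ nonunits (X.presheaf.stalk y) := by
    have := IsLocalRing.nonunits_add (show _ ∈ nonunits (X.presheaf.stalk y) from hcon)
      (show -(X.presheaf.germ U y hyU (∑ i ∈ s.erase j, f i)) ∈ nonunits (X.presheaf.stalk y) by
        rw [mem_nonunits_iff, IsUnit.neg_iff]; exact h2)
    rwa [add_neg_cancel_right] at this
  exact h3 hyj

/-- a point where a sum is a unit is a point where some summand is a unit -/
lemma exists_mem_basicOpen_of_sum {ι : Type*} (U : X.Opens) (s : Finset ι) (f : ι → Γ(X, U)) (y : X)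
    (hy : y ∈ X.basicOpen (∑ i ∈ s, f i)) : ∃ i ∈ s, y ∈ X.basicOpen (f i) := by
  classical
  have hyU : y ∈ U := X.basicOpen_le _ hy
  by_contra hcon
  push Not at hcon
  rw [Scheme.mem_basicOpen X _ y hyU] at hy
  have hnon : ∀ t : Finset ι, t ⊆ s →
      X.presheaf.germ U y hyU (∑ i ∈ t, f i) ∈ nonunits (X.presheaf.stalk y) := by
    intro t
    induction t using Finset.induction_on with
    | empty =>
      intro _
      rw [Finset.sum_empty, map_zero]
      exact zero_mem_nonunits.2 zero_ne_one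
    | insert a t hat ih =>
      intro h
      rw [Finset.sum_insert hat, map_add]
      refine IsLocalRing.nonunits_add ?_ (ih fun i hi => h (Finset.mem_insert_of_mem hi))
      have := hcon a (h (Finset.mem_insert_self a t))
      rw [Scheme.mem_basicOpen X _ y hyU] at this
      exact this
  exact hnon s subset_rfl hy


/-- coefficient as an additive map, for sums -/
lemma coef_sum {M : X.Modules} {W : X.Opens} {a : Γ(M, W)} (hgen : IsGen M W a) {A : X.Opens}
    (hA : A ≤ W) {ι : Type*} (s : Finset ι) (m : ι → Γ(M, A)) :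
    coef hgen hA (∑ i ∈ s, m i) = ∑ i ∈ s, coef hgen hA (m i) := by
  classical
  induction s using Finset.induction_on with
  | empty =>
    rw [Finset.sum_empty, Finset.sum_empty]
    exact (coef_unique hgen hA 0 0 (zero_smul _ _)).symm
  | insert a t hat ih =>
    rw [Finset.sum_insert hat, Finset.sum_insert hat, coef_add, ih]

lemma res_sum (M : X.Modules) {U V : X.Opens} (h : V ≤ U) {ι : Type*} (s : Finset ι)
    (m : ι → Γ(M, U)) : res M h (∑ i ∈ s, m i) = ∑ i ∈ s, res M h (m i) :=
  map_sum (M.presheaf.map (homOfLE h).op).hom _ _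

/-- a sum of sections, exactly one of which generates near `y`, generates near `y` -/
lemma isGenNear_sum {M : X.Modules} (hM : PicF.IsInvertible M) {B : X.Opens} {ι : Type*}
    (s : Finset ι) (m : ι → Γ(M, B)) (y : X) (j : ι) (hj : j ∈ s)
    (hyj : IsGenNear M B (m j) y) (hy : ∀ i ∈ s, i ≠ j → ¬ IsGenNear M B (m i) y) :
    IsGenNear M B (∑ i ∈ s, m i) y := by
  have hyB : y ∈ B := hyj.mem
  obtain ⟨W₀, e₀, hyW₀, hgen₀⟩ := exists_gen M hM y
  have hgen : IsGen M (W₀ ⊓ B) (res M inf_le_left e₀) := hgen₀.mono inf_le_left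
  have key : ∀ n : Γ(M, B), IsGenNear M B n y ↔
      y ∈ X.basicOpen (coef hgen le_rfl (res M (inf_le_right : W₀ ⊓ B ≤ B) n)) := fun n =>
    isGenNear_iff_of_isGen hgen (inf_le_right : W₀ ⊓ B ≤ B) n y ⟨hyW₀, hyB⟩
  rw [key, res_sum, coef_sum]
  refine mem_basicOpen_sum (W₀ ⊓ B) s _ y j hj ((key _).1 hyj) fun i hi hij => ?_
  rw [← key]
  exact hy i hi hij

/-- the complement of the other points of `T` -/
lemma exists_open_avoiding (T : Finset X) (hT : ∀ x ∈ T, IsClosed ({x} : Set X)) (x : X) :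
    ∃ V : X.Opens, x ∈ V ∧ ∀ y ∈ T, y ≠ x → y ∉ V := by
  classical
  have hcl : IsClosed (⋃ y ∈ T.erase x, ({y} : Set X)) :=
    isClosed_biUnion_finset fun y hy => hT y (Finset.mem_of_mem_erase hy)
  refine ⟨⟨(⋃ y ∈ T.erase x, ({y} : Set X))ᶜ, hcl.isOpen_compl⟩, ?_, ?_⟩
  · change x ∉ ⋃ y ∈ T.erase x, ({y} : Set X)
    simp
  · intro y hy hyx hmem
    apply hmem
    simp only [Set.mem_iUnion, Set.mem_singleton_iff]
    exact ⟨y, Finset.mem_erase.2 ⟨hyx, hy⟩, rfl⟩

end helpers

/-- Let X be a scheme, L an invertible O_X-module and T a finite set of closed points of X that lies in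
some affine open of X. Then T lies in an affine open U of X on which L is trivial (L restricted to U
is isomorphic to the structure sheaf). (The source states this for a smooth quasi-projective complex
surface, where every finite set of points lies in an affine open, and phrases it as: X^n and the
symmetric product S^n X are covered by the opens U^n and S^n U with U affine and L trivial on U; the
printed argument uses only that the finitely many points lie in one affine open, which is taken as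
the hypothesis here.) -/
theorem result
    (X : Scheme.{u}) (L : X.Modules) (hL : PicF.IsInvertible L)
    (T : Finset X) (hT : ∀ x ∈ T, IsClosed ({x} : Set X))
    (hU : ∃ U : X.Opens, IsAffineOpen U ∧ ∀ x ∈ T, x ∈ U) :
    ∃ U : X.Opens, IsAffineOpen U ∧ (∀ x ∈ T, x ∈ U) ∧
      Nonempty (L.restrict U.ι ≅ Coh.structureModule (↑U : Scheme.{u})) := by
  classical
  obtain ⟨U₀, hU₀, hTU₀⟩ := hU
  -- Step 1: sections generating near exactly one point of `T`
  have step1 : ∀ x : X, x ∈ T → ∃ t : Γ(L, U₀), IsGenNear L U₀ t x ∧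
      ∀ y ∈ T, y ≠ x → ¬ IsGenNear L U₀ t y := by
    intro x hx
    obtain ⟨W₀, e₀, hxW₀, hgen₀⟩ := exists_gen L hL x
    obtain ⟨V, hxV, hV⟩ := exists_open_avoiding T hT x
    obtain ⟨g, hg1, hg2⟩ := hU₀.exists_basicOpen_le (V := W₀ ⊓ V) ⟨x, hxW₀, hxV⟩ (hTU₀ x hx)
    obtain ⟨t, ht⟩ := exists_extension_isGenNear hL U₀ hU₀.isCompact hU₀.isQuasiSeparated g W₀
      (hg1.trans inf_le_left) e₀
    refine ⟨t, (ht x).2 ⟨hg2, W₀, le_rfl, hxW₀, ?_⟩, fun y hy hyx h => ?_⟩
    · rw [res_self]; exact hgen₀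
    · exact hV y hy hyx (hg1 ((ht y).1 h).1).2
  choose! tx htx1 htx2 using step1
  -- Step 2: the sum generates near every point of `T`
  let t : Γ(L, U₀) := ∑ x ∈ T, tx x
  have step2 : ∀ x ∈ T, IsGenNear L U₀ t x := fun x hx =>
    isGenNear_sum hL T tx x x hx (htx1 x hx) fun y hy hyx => htx2 y hy x hx (Ne.symm hyx)
  -- Step 3: opens on which `t` generates, and functions cutting them out
  have step3 : ∀ x : X, x ∈ T → ∃ h : Γ(X, U₀), x ∈ X.basicOpen h ∧
      (∀ y ∈ T, y ≠ x → y ∉ X.basicOpen h) ∧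
      ∃ (W : X.Opens) (hW : W ≤ U₀), X.basicOpen h ≤ W ∧ IsGen L W (res L hW t) := by
    intro x hx
    obtain ⟨W, hW, hxW, hgen⟩ := step2 x hx
    obtain ⟨V, hxV, hV⟩ := exists_open_avoiding T hT x
    obtain ⟨h, hh1, hh2⟩ := hU₀.exists_basicOpen_le (V := W ⊓ V) ⟨x, hxW, hxV⟩ (hTU₀ x hx)
    exact ⟨h, hh2, fun y hy hyx hmem => hV y hy hyx (hh1 hmem).2, W, hW, hh1.trans inf_le_left, hgen⟩
  choose! hx hhx1 hhx2 Wx hWx hhWx hgenx using step3
  let h : Γ(X, U₀) := ∑ x ∈ T, hx x
  have hDle : X.basicOpen h ≤ U₀ := X.basicOpen_le h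
  refine ⟨X.basicOpen h, hU₀.basicOpen h, fun x hxT => ?_, ?_⟩
  · exact mem_basicOpen_sum U₀ T hx x x hxT (hhx1 x hxT) fun y hy hyx =>
      hhx2 y hy x hxT (Ne.symm hyx)
  · have hgen : IsGen L (X.basicOpen h) (res L hDle t) := by
      refine isGen_of_local L (X.basicOpen h) _ fun y hy => ?_
      obtain ⟨x, hxT, hyx⟩ := exists_mem_basicOpen_of_sum U₀ T hx y hy
      refine ⟨X.basicOpen h ⊓ X.basicOpen (hx x), inf_le_left, ⟨hy, hyx⟩, ?_⟩
      rw [res_res]
      have := (hgenx x hxT).mono (inf_le_right.trans (hhWx x hxT) :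
        X.basicOpen h ⊓ X.basicOpen (hx x) ≤ Wx x)
      rwa [res_res] at this
    have h1 : Triv L (X.basicOpen h) := ⟨_, hgen⟩
    have h2 : Triv L ((X.basicOpen h).ι ''ᵁ ⊤) := h1.of_eq (by
      rw [Scheme.Hom.image_top_eq_opensRange, Scheme.Opens.opensRange_ι])
    exact nonempty_iso_of_triv_top _ (h2.restrict (X.basicOpen h).ι)

end Groth.Agent.S19022
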