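import Groth.Statements.S1905
import Groth.Agent.R2.H9OrdDiv
import Groth.Agent.R2.H9DeltaGen
import Groth.Agent.R2.H9FlatInj
import Groth.Agent.R2.H9FlatLen
import Groth.Agent.R2.H9DimOneLen
-- import your own Groth.Agent.* helpers here

set_option autoImplicit false
universe u
open CategoryTheory AlgebraicGeometry
open Cyc

namespace Groth.Agent.S1905

open Groth.Agent.R2.H9.LocQuot Groth.Agent.R2.H9.OrdDiv Groth.Agent.R2.H9.DeltaGen
  Groth.Agent.R2.H9.DeltaBound Groth.Agent.R2.H9.FlatInj Groth.Agent.R2.H9.FlatLen
  Groth.Agent.R2.H9.DimOneLen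

set_option linter.style.haveILetI false

/-- Let f : X → Y be a flat morphism, locally of finite type, of relative dimension r between integral
schemes, and g a nonzero rational function on Y, taken in the residue field at f(η_X) (the generic
point of Y). Then f^*(div_Y g) = div_X(g ∘ f) coefficientwise, where g ∘ f is the image of g in
κ(η_X). A pair (X, δ) with Cyc.IsSetup plays the role of a scheme locally of finite type over a
fixed base with a dimension function (X locally Noetherian with universally catenary local rings, δ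
a dimension function), and Cyc.DeltaCompat records that the dimension function upstairs is the
induced one. -/
theorem result (X Y : Scheme.{u}) [IsIntegral X] [IsIntegral Y] (δX : X → ℤ) (δY : Y → ℤ) (hX : Cyc.IsSetup X δX) (hY : Cyc.IsSetup Y δY) (f : X ⟶ Y) [Flat f] [LocallyOfFiniteType f] (r : ℕ) (hr : Cyc.HasRelDim f r) (hδ : Cyc.DeltaCompat f δX δY) (g : Y.residueField (f (genericPoint X))) (hg : g ≠ 0) : Cyc.pullFun f δX δY r (Cyc.divFun δY (f (genericPoint X)) g) = Cyc.divFun δX (genericPoint X) (f.residueFieldMap (genericPoint X) g) := by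
  classical
  funext x
  haveI : IsLocallyNoetherian X := hX.1
  haveI : IsLocallyNoetherian Y := hY.1
  have hδX : Cyc.IsDimFun X δX := hX.2.2
  have hδY : Cyc.IsDimFun Y δY := hY.2.2
  have hηx : genericPoint X ⤳ x := (genericPoint_spec X).specializes (Set.mem_univ x)
  have hξy : f (genericPoint X) ⤳ f x := f.base.hom.map_specializes hηx
  have hδη : δX (genericPoint X) = δY (f (genericPoint X)) + r :=
    delta_eq_of_maximal f r hr δX δY hδ (genericPoint X)
      (fun y _ hy => (hy.antisymm (genericPoint_specializes y)).eq)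
  obtain ⟨n, hn, hδx⟩ := exists_le_delta f r hr δX δY hδ x
  obtain ⟨a, b, hb, hgab⟩ := exists_frac (f x) (f (genericPoint X)) hξy g
  have ha : Cyc.specMap (f x) (f (genericPoint X)) hξy a ≠ 0 := by
    intro h0
    apply hg
    rw [hgab, ← specMap_eq, h0, zero_div]
  have hnat := residueFieldMap_residue_specializes f x (genericPoint X) hηx
  have hfg : f.residueFieldMap (genericPoint X) g =
      X.residue (genericPoint X) (X.presheaf.stalkSpecializes hηx (f.stalkMap x a)) /
        X.residue (genericPoint X) (X.presheaf.stalkSpecializes hηx (f.stalkMap x b)) := by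
    rw [hgab, map_div₀, hnat, hnat]
  have hne : ∀ c : Y.presheaf.stalk (f x), Cyc.specMap (f x) (f (genericPoint X)) hξy c ≠ 0 →
      Cyc.specMap x (genericPoint X) hηx (f.stalkMap x c) ≠ 0 := by
    intro c hc h0
    apply hc
    rw [specMap_eq] at h0 ⊢
    rw [← hnat c] at h0
    exact (map_eq_zero_iff _ (f.residueFieldMap (genericPoint X)).hom.injective).mp h0
  have hmax : IsLocalRing.maximalIdeal (X.presheaf.stalk (genericPoint X)) = ⊥ :=
    IsLocalRing.maximalIdeal_eq_bot
  have hkerX : RingHom.ker (Cyc.specMap x (genericPoint X) hηx) = ⊥ := by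
    rw [eq_bot_iff]
    intro c hc
    rw [RingHom.mem_ker] at hc
    have h1 : X.presheaf.stalkSpecializes hηx c ∈
        IsLocalRing.maximalIdeal (X.presheaf.stalk (genericPoint X)) :=
      (IsLocalRing.residue_eq_zero_iff _).mp hc
    rw [hmax, Ideal.mem_bot] at h1
    rw [Ideal.mem_bot]
    exact (IsFractionRing.injective (X.presheaf.stalk x) X.functionField) (by
      rw [map_zero]
      exact h1)
  have hkerY : RingHom.ker (Cyc.specMap (f x) (f (genericPoint X)) hξy) = ⊥ := by
    rw [eq_bot_iff]
    intro c hc
    rw [RingHom.mem_ker] at hc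
    rw [Ideal.mem_bot]
    by_contra hc0
    have h1 : Cyc.specMap x (genericPoint X) hηx (f.stalkMap x c) = 0 := by
      rw [specMap_eq, ← hnat c, ← specMap_eq, hc, map_zero]
    have h2 : (f.stalkMap x).hom c ∈ RingHom.ker (Cyc.specMap x (genericPoint X) hηx) :=
      RingHom.mem_ker.mpr h1
    rw [hkerX, Ideal.mem_bot] at h2
    exact hc0 (stalkMap_injective_of_flat f x (h2.trans (map_zero _).symm))
  unfold Cyc.pullFun Cyc.divFun
  beta_reduce
  by_cases h1 : δX x = δY (f x) + r
  · by_cases h2 : δY (f x) + 1 = δY (f (genericPoint X))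
    · have hcY : f (genericPoint X) ⤳ f x ∧ δY (f x) + 1 = δY (f (genericPoint X)) := ⟨hξy, h2⟩
      have hcX : genericPoint X ⤳ x ∧ δX x + 1 = δX (genericPoint X) := ⟨hηx, by omega⟩
      rw [if_pos h1, dif_pos hcY, dif_pos hcX, hfg,
        ordAt_div_eq δX hδX x (genericPoint X) hηx (by omega) _ _ (hne a ha) (hne b hb)]
      conv_lhs => rw [hgab]
      rw [ordAt_div_eq δY hδY (f x) (f (genericPoint X)) hξy (by omega) a b ha hb,
        hkerX, hkerY, bot_sup_eq, bot_sup_eq, bot_sup_eq, bot_sup_eq]
      have hflat : (f.stalkMap x).hom.Flat := Flat.stalkMap f x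
      have hA := toNat_length_quot_map (f.stalkMap x).hom hflat (Ideal.span {a})
      have hB := toNat_length_quot_map (f.stalkMap x).hom hflat (Ideal.span {b})
      rw [Ideal.map_span, Set.image_singleton] at hA hB
      rw [hA, hB]
      push_cast
      ring
    · have hcY : ¬ (f (genericPoint X) ⤳ f x ∧ δY (f x) + 1 = δY (f (genericPoint X))) :=
        fun h => h2 h.2
      have hcX : ¬ (genericPoint X ⤳ x ∧ δX x + 1 = δX (genericPoint X)) := by
        rintro ⟨-, h3⟩
        omega
      rw [if_pos h1, dif_neg hcY, dif_neg hcX, zero_mul]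
  · rw [if_neg h1]
    by_cases h3 : δX x + 1 = δX (genericPoint X)
    · have hcX : genericPoint X ⤳ x ∧ δX x + 1 = δX (genericPoint X) := ⟨hηx, h3⟩
      rw [dif_pos hcX, hfg,
        ordAt_div_eq δX hδX x (genericPoint X) hηx (by omega) _ _ (hne a ha) (hne b hb)]
      have heq : f (genericPoint X) = f x := by
        by_contra hne'
        have := (hδY (f (genericPoint X)) (f x) hξy hne').1
        omega
      have hau : IsUnit a := isUnit_of_specMap_ne_zero_of_eq (f x) _ hξy heq a ha
      have hbu : IsUnit b := isUnit_of_specMap_ne_zero_of_eq (f x) _ hξy heq b hb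
      have hA : Ideal.span {(f.stalkMap x).hom a} = ⊤ :=
        Ideal.span_singleton_eq_top.mpr (hau.map _)
      have hB : Ideal.span {(f.stalkMap x).hom b} = ⊤ :=
        Ideal.span_singleton_eq_top.mpr (hbu.map _)
      rw [length_quot_top_eq_zero _ _ (by rw [hA, sup_top_eq]),
        length_quot_top_eq_zero _ _ (by rw [hB, sup_top_eq])]
      simp
    · have hcX : ¬ (genericPoint X ⤳ x ∧ δX x + 1 = δX (genericPoint X)) := fun h => h3 h.2
      rw [dif_neg hcX]

end Groth.Agent.S1905
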