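import Groth.Statements.S1906
-- import your own Groth.Agent.* helpers here
import Groth.Agent.R2.H9NormPushGeo
import Groth.Agent.R2.H9NormPushTop

set_option autoImplicit false
universe u
open CategoryTheory AlgebraicGeometry
open Cyc

namespace Groth.Agent.S1906

set_option linter.style.haveILetI false

open Groth.Agent.R2.H9.NormPushGeo Groth.Agent.R2.H9.NormPushTop

/-- Let p : X → Y be a dominant proper morphism of integral schemes with δX(η_X) = δY(η_Y), and f a
nonzero rational function on X. Then p_*(div_X f) = div_Y(Nm f) coefficientwise, where Nm is the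
norm for the finite extension κ(η_X)/κ(p(η_X)) of function fields. A pair (X, δ) with Cyc.IsSetup
plays the role of a scheme locally of finite type over a fixed base with a dimension function (X
locally Noetherian with universally catenary local rings, δ a dimension function), and
Cyc.DeltaCompat records that the dimension function upstairs is the induced one. -/
theorem result (X Y : Scheme.{u}) [IsIntegral X] [IsIntegral Y] (δX : X → ℤ) (δY : Y → ℤ) (hX : Cyc.IsSetup X δX) (hY : Cyc.IsSetup Y δY) (p : X ⟶ Y) [IsProper p] (hδ : Cyc.DeltaCompat p δX δY) (hdom : p (genericPoint X) = genericPoint Y) (hn : δX (genericPoint X) = δY (genericPoint Y)) (f : X.residueField (genericPoint X)) (hf : f ≠ 0) (α : AlgebraicCycle X ℤ) (hα : ⇑α = Cyc.divFun δX (genericPoint X) f) : ⇑(AlgebraicCycle.map p δX δY α) = Cyc.divFun δY (p (genericPoint X)) (Cyc.normGen p (genericPoint X) f) := by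
  classical
  obtain ⟨hXn, hXc, hXd⟩ := hX
  obtain ⟨hYn, hYc, hYd⟩ := hY
  haveI := hXn
  haveI := hYn
  funext y
  change ∑ᶠ x ∈ p ⁻¹' {y}, α x * ((AlgebraicCycle.mapCoeff p δX δY x : ℕ) : ℤ) = _
  have hgen : ∀ x : X, genericPoint X ⤳ x := fun x => genericPoint_specializes x
  have hnY : δX (genericPoint X) = δY (p (genericPoint X)) := by rw [hdom]; exact hn
  by_cases hy1 : δY y + 1 = δY (p (genericPoint X))
  · have hy : p (genericPoint X) ⤳ y := by
      rw [hdom]
      exact genericPoint_specializes y
    have hfibδ : ∀ x, p x = y → δX x = δY y := by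
      intro x hx
      have hne : genericPoint X ≠ x := by
        intro h
        rw [← h] at hx
        rw [hx] at hy1
        omega
      have h1 := (hXd (genericPoint X) x (hgen x) hne).1
      obtain ⟨k, -, hk⟩ := hδ x
      rw [hx] at hk
      omega
    have hδx : ∀ x, p x = y → δX (genericPoint X) = δX x + 1 := by
      intro x hx
      rw [hfibδ x hx]
      omega
    have hspec : ∀ x x' : X, p x = y → p x' = y → x ⤳ x' → x = x' := by
      intro x x' hx hx' hxx'
      by_contra hne
      have h1 := (hXd x x' hxx' hne).1
      rw [hfibδ x hx, hfibδ x' hx'] at h1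
      omega
    have hfib : (p ⁻¹' {y}).Finite :=
      finite_preimage_singleton_of_forall_specializes_eq p y hspec
    obtain ⟨W, hW, hyW, hU, hfin⟩ := exists_affine_finite p y hfib
    have main := finsum_ordAt_eq_ordAt_norm p δX δY hXd hYd W hW hU hfin hdom y hyW hy
      (by omega) hfib hδx f hf
    have hR : Cyc.divFun δY (p (genericPoint X)) (Cyc.normGen p (genericPoint X) f) y =
        Cyc.ordAt y (p (genericPoint X)) hy (Cyc.normGen p (genericPoint X) f) := by
      unfold Cyc.divFun
      rw [dif_pos ⟨hy, hy1⟩]
    rw [hR, ← main]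
    refine finsum_mem_congr rfl fun x hx => ?_
    have hx' : p x = y := hx
    have hαx : α x = Cyc.ordAt x (genericPoint X) (genericPoint_specializes x) f := by
      rw [hα]
      unfold Cyc.divFun
      rw [dif_pos ⟨hgen x, (hδx x hx').symm⟩]
    have hmc : AlgebraicCycle.mapCoeff p δX δY x = p.residueDegree x := by
      unfold AlgebraicCycle.mapCoeff
      rw [if_pos]
      rw [hx', hfibδ x hx']
    rw [hαx, hmc]
  · have hR : Cyc.divFun δY (p (genericPoint X)) (Cyc.normGen p (genericPoint X) f) y = 0 := by
      unfold Cyc.divFun
      rw [dif_neg]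
      exact fun h => hy1 h.2
    rw [hR]
    refine finsum_mem_eq_zero_of_forall_eq_zero fun x hx => ?_
    have hx' : p x = y := hx
    by_cases hc : genericPoint X ⤳ x ∧ δX x + 1 = δX (genericPoint X)
    · have hmc : AlgebraicCycle.mapCoeff p δX δY x = 0 := by
        unfold AlgebraicCycle.mapCoeff
        rw [if_neg]
        rw [hx']
        intro h
        apply hy1
        rw [← hnY, ← hc.2, h]
      rw [hmc]
      simp
    · have hαx : α x = 0 := by
        rw [hα]
        unfold Cyc.divFun
        rw [dif_neg hc]
      rw [hαx, zero_mul]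

end Groth.Agent.S1906
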