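import Groth.Statements.S1907
import Groth.Agent.R2.H9PullDiv
import Groth.Agent.R2.H9DeltaGen
import Groth.Agent.R2.H9FlatInj
import Groth.Agent.R2.H9FlatLen
-- import your own Groth.Agent.* helpers here

set_option autoImplicit false
universe u
open CategoryTheory AlgebraicGeometry
open Cyc

namespace Groth.Agent.S1907

open Groth.Agent.R2.H9.LocQuot Groth.Agent.R2.H9.OrdDiv Groth.Agent.R2.H9.DeltaGen
  Groth.Agent.R2.H9.DeltaBound Groth.Agent.R2.H9.FlatInj Groth.Agent.R2.H9.FlatLen
  Groth.Agent.R2.H9.DimOneLen Groth.Agent.R2.H9.PullDiv Groth.Agent.R2.H9.StalkGen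
  Groth.Agent.R2.H9.GenDim

set_option linter.style.haveILetI false

/-- Let Y be integral with δY(η_Y) = k, f : X → Y flat, locally of finite type, of relative dimension r,
and g a nonzero rational function on Y. Then f^*(div_Y g) = Σ_j n_j · div_{X_j}(g|_{X_j}) as (k + r
− 1)-cycles on X, the sum over the irreducible components X_j of X (generic points ξ_j, which map to
η_Y) with n_j the length of O_{X,ξ_j}, and g|_{X_j} the image of g in κ(ξ_j). A pair (X, δ) with
Cyc.IsSetup plays the role of a scheme locally of finite type over a fixed base with a dimension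
function (X locally Noetherian with universally catenary local rings, δ a dimension function), and
Cyc.DeltaCompat records that the dimension function upstairs is the induced one. -/
theorem result (X Y : Scheme.{u}) [IsIntegral Y] (δX : X → ℤ) (δY : Y → ℤ) (hX : Cyc.IsSetup X δX) (hY : Cyc.IsSetup Y δY) (f : X ⟶ Y) [Flat f] [LocallyOfFiniteType f] (r : ℕ) (hr : Cyc.HasRelDim f r) (hδ : Cyc.DeltaCompat f δX δY) (k : ℤ) (hk : δY (genericPoint Y) = k) (g : Y.residueField (genericPoint Y)) (hg : g ≠ 0) (x : X) : Cyc.pullFun f δX δY r (Cyc.divFun δY (genericPoint Y) g) x = ∑ᶠ ξ : {ξ : X // (∀ x' : X, x' ⤳ ξ → x' = ξ) ∧ f ξ = genericPoint Y}, ((Module.length (X.presheaf.stalk ξ.1) (X.presheaf.stalk ξ.1)).toNat : ℤ) * Cyc.divFun δX ξ.1 (f.residueFieldMap ξ.1 ((Y.residueFieldCongr ξ.2.2.symm).hom g)) x := by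
  classical
  haveI : IsLocallyNoetherian X := hX.1
  haveI : IsLocallyNoetherian Y := hY.1
  have hδX : Cyc.IsDimFun X δX := hX.2.2
  have hδY : Cyc.IsDimFun Y δY := hY.2.2
  have hηy : genericPoint Y ⤳ f x := (genericPoint_spec Y).specializes (Set.mem_univ _)
  have hδYle : ∀ w : Y, δY w ≤ k := by
    intro w
    by_cases h : genericPoint Y = w
    · rw [← h, hk]
    · have := (hδY (genericPoint Y) w ((genericPoint_spec Y).specializes (Set.mem_univ _)) h).1
      omega
  have hδξ : ∀ ξ : {ξ : X // (∀ x' : X, x' ⤳ ξ → x' = ξ) ∧ f ξ = genericPoint Y},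
      δX ξ.1 = k + r := by
    intro ξ
    rw [delta_eq_of_maximal f r hr δX δY hδ ξ.1 (fun y _ hy => ξ.2.1 y hy), ξ.2.2, hk]
  obtain ⟨n, hn, hδx⟩ := exists_le_delta f r hr δX δY hδ x
  by_cases hcase : δX x + 1 = k + r
  swap
  · -- neither side sees `x`
    have hL : Cyc.pullFun f δX δY r (Cyc.divFun δY (genericPoint Y) g) x = 0 := by
      unfold Cyc.pullFun Cyc.divFun
      beta_reduce
      by_cases h1 : δX x = δY (f x) + r
      · have hc : ¬ (genericPoint Y ⤳ f x ∧ δY (f x) + 1 = δY (genericPoint Y)) := by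
          rintro ⟨-, h2⟩
          omega
        rw [if_pos h1, dif_neg hc, zero_mul]
      · rw [if_neg h1]
    rw [hL]
    symm
    apply finsum_eq_zero_of_forall_eq_zero
    intro ξ
    unfold Cyc.divFun
    beta_reduce
    have hc : ¬ (ξ.1 ⤳ x ∧ δX x + 1 = δX ξ.1) := by
      rintro ⟨-, h2⟩
      rw [hδξ ξ] at h2
      exact hcase h2
    rw [dif_neg hc, mul_zero]
  · have hdimx : ∀ z : X, z ⤳ x → δX z ≤ δX x + 1 := by
      intro z _
      obtain ⟨nz, hnz, hδz⟩ := exists_le_delta f r hr δX δY hδ z
      have := hδYle (f z)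
      omega
    haveI hK1 := krullDimLE_one_stalk δX hδX x hdimx
    haveI : IsNoetherianRing (X.presheaf.stalk x) := inferInstance
    obtain ⟨a, b, hb, hgab⟩ := exists_frac (f x) (genericPoint Y) hηy g
    have ha : Cyc.specMap (f x) (genericPoint Y) hηy a ≠ 0 := by
      intro h0
      apply hg
      rw [hgab, ← specMap_eq, h0, zero_div]
    have ha0 : a ≠ 0 := fun h0 => ha (by rw [h0, map_zero])
    have hb0 : b ≠ 0 := fun h0 => hb (by rw [h0, map_zero])
    have hflat : (f.stalkMap x).hom.Flat := Flat.stalkMap f x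
    have hnzd : ∀ c : Y.presheaf.stalk (f x), c ≠ 0 →
        (f.stalkMap x).hom c ∈ nonZeroDivisors (X.presheaf.stalk x) := fun c hc =>
      map_mem_nonZeroDivisors_of_flat _ hflat (mem_nonZeroDivisors_of_ne_zero hc)
    have hu := hnzd a ha0
    have hv := hnzd b hb0
    -- proper generizations of `x` are generic points of `X` over the generic point of `Y`
    have hmin : ∀ ξ : X, ∀ h : ξ ⤳ x, ξ ≠ x →
        (genPrime x ξ h).asIdeal ∈ minimalPrimes (X.presheaf.stalk x) := by
      intro ξ h hne
      rcases Ring.krullDimLE_one_iff.mp hK1 _ (genPrime x ξ h).2 with h1 | h1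
      · exact h1
      · exfalso
        apply hne
        have h2 : genPrime x ξ h = IsLocalRing.closedPoint (X.presheaf.stalk x) :=
          PrimeSpectrum.ext (IsLocalRing.eq_maximalIdeal h1)
        rw [← fromSpecStalk_genPrime x ξ h, h2]
        exact Scheme.fromSpecStalk_closedPoint
    have hp : ∀ ξ : X, ξ ⤳ x → ξ ≠ x →
        ((∀ x' : X, x' ⤳ ξ → x' = ξ) ∧ f ξ = genericPoint Y) := by
      intro ξ h hne
      have hPmin := hmin ξ h hne
      constructor
      · intro x' hx'
        have hx'x : x' ⤳ x := hx'.trans h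
        have hsp : genPrime x x' hx'x ⤳ genPrime x ξ h := by
          refine (X.fromSpecStalk x).isEmbedding.isInducing.specializes_iff.mp ?_
          have e1 := fromSpecStalk_genPrime x x' hx'x
          have e2 := fromSpecStalk_genPrime x ξ h
          rw [e1, e2]
          exact hx'
        have hle : (genPrime x x' hx'x).asIdeal ≤ (genPrime x ξ h).asIdeal :=
          (PrimeSpectrum.le_iff_specializes _ _).mpr hsp
        rw [minimalPrimes_eq_minimals] at hPmin
        have hge := hPmin.2 (genPrime x x' hx'x).2 hle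
        have heq : genPrime x x' hx'x = genPrime x ξ h := PrimeSpectrum.ext (le_antisymm hle hge)
        rw [← fromSpecStalk_genPrime x x' hx'x, heq, fromSpecStalk_genPrime]
      · have hfξ : f ξ ⤳ f x := f.base.hom.map_specializes h
        have hker : RingHom.ker (Cyc.specMap (f x) (f ξ) hfξ) = ⊥ := by
          rw [eq_bot_iff]
          intro c hc
          rw [RingHom.mem_ker] at hc
          rw [Ideal.mem_bot]
          by_contra hc0
          have h1 : Cyc.specMap x ξ h (f.stalkMap x c) = 0 := by
            rw [specMap_eq, ← residueFieldMap_residue_specializes f x ξ h c, ← specMap_eq, hc,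
              map_zero]
          have h2 : (f.stalkMap x).hom c ∈ (genPrime x ξ h).asIdeal := RingHom.mem_ker.mpr h1
          exact notMem_nonZeroDivisors_of_mem_mem_minimalPrimes h2 hPmin (hnzd c hc0)
        have heq : genPrime (f x) (f ξ) hfξ = genPrime (f x) (genericPoint Y) hηy := by
          apply PrimeSpectrum.ext
          change RingHom.ker (Cyc.specMap (f x) (f ξ) hfξ) =
            RingHom.ker (Cyc.specMap (f x) (genericPoint Y) hηy)
          rw [hker, ker_specMap_genericPoint]
        rw [← fromSpecStalk_genPrime (f x) (f ξ) hfξ, heq, fromSpecStalk_genPrime]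
    -- the terms of the right hand side
    have hterm : ∀ ξ : {ξ : X // (∀ x' : X, x' ⤳ ξ → x' = ξ) ∧ f ξ = genericPoint Y},
        ((Module.length (X.presheaf.stalk ξ.1) (X.presheaf.stalk ξ.1)).toNat : ℤ) *
          Cyc.divFun δX ξ.1 (f.residueFieldMap ξ.1
            ((Y.residueFieldCongr ξ.2.2.symm).hom g)) x =
        ((Module.length (X.presheaf.stalk ξ.1) (X.presheaf.stalk ξ.1)).toNat : ℤ) *
        (if h : ξ.1 ⤳ x ∧ δX x + 1 = δX ξ.1 then
          ((Module.length (X.presheaf.stalk x) (X.presheaf.stalk x ⧸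
            (RingHom.ker (Cyc.specMap x ξ.1 h.1) ⊔
              Ideal.span {(f.stalkMap x).hom a}))).toNat : ℤ) -
          ((Module.length (X.presheaf.stalk x) (X.presheaf.stalk x ⧸
            (RingHom.ker (Cyc.specMap x ξ.1 h.1) ⊔
              Ideal.span {(f.stalkMap x).hom b}))).toNat : ℤ) else 0) := by
      intro ξ
      congr 1
      unfold Cyc.divFun
      beta_reduce
      by_cases h : ξ.1 ⤳ x ∧ δX x + 1 = δX ξ.1
      · rw [dif_pos h, dif_pos h]
        have hfξ : f ξ.1 ⤳ f x := f.base.hom.map_specializes h.1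
        have hTR := residueFieldCongr_residue_specializes (f x) (genericPoint Y) (f ξ.1)
          ξ.2.2.symm hηy hfξ
        have hnat := residueFieldMap_residue_specializes f x ξ.1 h.1
        have hfg : f.residueFieldMap ξ.1 ((Y.residueFieldCongr ξ.2.2.symm).hom g) =
            X.residue ξ.1 (X.presheaf.stalkSpecializes h.1 (f.stalkMap x a)) /
              X.residue ξ.1 (X.presheaf.stalkSpecializes h.1 (f.stalkMap x b)) := by
          rw [hgab, map_div₀, hTR, hTR, map_div₀, hnat, hnat]
        have hne : ∀ c : Y.presheaf.stalk (f x),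
            Cyc.specMap (f x) (genericPoint Y) hηy c ≠ 0 →
            Cyc.specMap x ξ.1 h.1 (f.stalkMap x c) ≠ 0 := by
          intro c hc h0
          apply hc
          rw [specMap_eq] at h0 ⊢
          rw [← hnat c, ← hTR c] at h0
          have h1 := (map_eq_zero_iff _ (f.residueFieldMap ξ.1).hom.injective).mp h0
          exact (map_eq_zero_iff _ (Y.residueFieldCongr ξ.2.2.symm).hom.hom.injective).mp h1
        rw [hfg, ordAt_div_eq δX hδX x ξ.1 h.1 (by omega) _ _ (hne a ha) (hne b hb)]
      · rw [dif_neg h, dif_neg h]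
    rw [finsum_congr hterm,
      finsum_generizations_eq δX hδX x hdimx
        (fun ξ => (∀ x' : X, x' ⤳ ξ → x' = ξ) ∧ f ξ = genericPoint Y) hp _ _ hu hv]
    -- the left hand side
    unfold Cyc.pullFun Cyc.divFun
    beta_reduce
    by_cases h1 : δX x = δY (f x) + r
    · have hcY : genericPoint Y ⤳ f x ∧ δY (f x) + 1 = δY (genericPoint Y) := ⟨hηy, by omega⟩
      rw [if_pos h1, dif_pos hcY]
      conv_lhs => rw [hgab]
      rw [ordAt_div_eq δY hδY (f x) (genericPoint Y) hηy (by omega) a b ha hb,
        ker_specMap_genericPoint, bot_sup_eq, bot_sup_eq]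
      have hA := toNat_length_quot_map (f.stalkMap x).hom hflat (Ideal.span {a})
      have hB := toNat_length_quot_map (f.stalkMap x).hom hflat (Ideal.span {b})
      rw [Ideal.map_span, Set.image_singleton] at hA hB
      rw [hA, hB]
      push_cast
      ring
    · rw [if_neg h1]
      have heq : genericPoint Y = f x := by
        by_contra hne'
        have := (hδY (genericPoint Y) (f x) hηy hne').1
        omega
      have hau : IsUnit a := isUnit_of_specMap_ne_zero_of_eq (f x) _ hηy heq a ha
      have hbu : IsUnit b := isUnit_of_specMap_ne_zero_of_eq (f x) _ hηy heq b hb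
      have hA : Ideal.span {(f.stalkMap x).hom a} = ⊤ :=
        Ideal.span_singleton_eq_top.mpr (hau.map _)
      have hB : Ideal.span {(f.stalkMap x).hom b} = ⊤ :=
        Ideal.span_singleton_eq_top.mpr (hbu.map _)
      rw [length_quot_top_eq_zero _ _ hA, length_quot_top_eq_zero _ _ hB]
      simp

end Groth.Agent.S1907
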