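import Groth.Statements.S19132
import Mathlib
import Groth.Agent.R2.H94DualExt
import Groth.Agent.Lib.Helper1Devissage

set_option autoImplicit false
universe u
open CategoryTheory
attribute [local instance] HasDerivedCategory.standard
open Dual

namespace Groth.Agent.S19132

/-- In the case of a local ring whose dualizing complex is normalized, let A be a Noetherian local ring
with residue field k and ω a normalized dualizing complex over A (Hom(k, ω[i]) = 0 in D(A) for i ≠
0), and let N be an object of D(A) which is bounded with finitely generated cohomology modules and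
concentrated in nonnegative degrees (H^i(N) = 0 for i < 0). Then RHom_A(N, ω) is concentrated in
nonpositive degrees: the group of morphisms N → ω[i] in D(A) vanishes for every i > 0. (For the
local ring at a point x of a scheme of finite type over the base, whose dualizing complex is
normalized only up to the shift by the integer d(x), the corresponding bound is degree −d(x); that
case is this statement applied to the shifted complex.) -/
theorem result
    (A : Type u) [CommRing A] [IsLocalRing A] [IsNoetherianRing A]
    (ω : Dual.D A) (hω : Dual.IsDualizing A ω) (hn : Dual.IsNormalized A ω)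
    (N : Dual.D A) (hfin : ∀ i : ℤ, Module.Finite A (Dual.HD A N i))
    (b : ℤ) (hb : ∀ i : ℤ, b < i → Subsingleton (Dual.HD A N i))
    (hge : ∀ i : ℤ, i < 0 → Subsingleton (Dual.HD A N i))
    (i : ℤ) (hi : 0 < i) :
    Subsingleton (N ⟶ ω⟦i⟧) := by
  let P : ObjectProperty (Dual.D A) := fun K => ∀ i : ℤ, 0 < i → Subsingleton (K ⟶ ω⟦i⟧)
  haveI : P.IsClosedUnderIsomorphisms :=
    ⟨fun e h i hi => Groth.Agent.R2.H94.DualExt.subsingleton_hom_of_iso_left e (h i hi)⟩
  have hP : P N := by
    apply Groth.Agent.Lib.Helper1.Devissage.induction_homology' P ?_ ?_ N 0 (max b 0) ?_ ?_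
    · intro K hK i hi
      exact ⟨fun f g => hK.eq_of_src f g⟩
    · intro T hT h1 h3 i hi
      have key : ∀ φ : T.obj₂ ⟶ ω⟦i⟧, φ = 0 := by
        intro φ
        obtain ⟨ψ, hψ⟩ := Pretriangulated.Triangle.yoneda_exact₂ _ hT φ ((h1 i hi).elim _ _)
        rw [hψ, (h3 i hi).elim ψ 0, Limits.comp_zero]
      exact ⟨fun a b => by rw [key a, key b]⟩
    · intro j hj
      rcases hj with hj | hj
      · have := hge j hj
        exact ModuleCat.isZero_of_subsingleton _
      · have := hb j (lt_of_le_of_lt (le_max_left _ _) hj)
        exact ModuleCat.isZero_of_subsingleton _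
    · intro j hj0 hjb i hi
      apply Groth.Agent.R2.H94.DualExt.subsingleton_hom_single
      have := hfin j
      exact Groth.Agent.R2.H94.DualExt.subsingleton_hom_pos ω hω hn (Dual.HD A N j) (i + j)
        (by omega)
  exact hP i hi

end Groth.Agent.S19132
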