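import Groth.Statements.S19163
import Mathlib
import Groth.Agent.R2.H63HomDS
import Groth.Agent.Lib.Helper6LfpComp

set_option autoImplicit false
open CategoryTheory MonoidalCategory CartesianMonoidalCategory MonObj GrpObj AlgebraicGeometry
universe u
open SGA3x

namespace Groth.Agent.S19163

/-- Let Γ be a non-trivial totally ordered commutative group and H ⟶ G a closed immersion of reductive
S-groups (a homomorphism which is a closed immersion). Let A_H with υ_H, resp. A_G with υ_G,
represent the functor of group homomorphisms D_S(Γ) ⟶ H, resp. D_S(Γ) ⟶ G, and let φ : A_H ⟶ A_G be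
the S-morphism induced by composing with H ⟶ G (the universal family over A_H followed by H ⟶ G is
the pull-back of υ_G along φ). Then φ is a closed immersion, locally of finite presentation. -/
theorem result {S : Scheme.{u}}
    (Γ : Type) [AddCommGroup Γ] [LinearOrder Γ] [IsOrderedAddMonoid Γ] [Nontrivial Γ]
    (H G : Over S) [GrpObj H] [GrpObj G] (hH : Red.IsReductive H) (hG : Red.IsReductive G)
    (k : H ⟶ G) [IsMonHom k] (hk : IsClosedImmersion k.left)
    (AH : Over S) (υH : Red.DS S Γ ⊗ AH ⟶ H) (hAH : AutFam.RepresentsHom (Red.DS S Γ) H AH υH)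
    (AG : Over S) (υG : Red.DS S Γ ⊗ AG ⟶ G) (hAG : AutFam.RepresentsHom (Red.DS S Γ) G AG υG)
    (φ : AH ⟶ AG) (hφ : (Red.DS S Γ ◁ φ) ≫ υG = υH ≫ k) :
    IsClosedImmersion φ.left ∧ LocallyOfFinitePresentation φ.left := by
  haveI := hk
  haveI : IsAffineHom G.hom := hG.1
  haveI : Smooth G.hom := hG.2.1
  haveI : Smooth H.hom := hH.2.1
  have hproj : ∀ s : S, ∃ U : S.affineOpens, s ∈ (U : S.Opens) ∧
      @Module.Projective Γ(S, U) _ Γ((Red.DS S Γ).left, (Red.DS S Γ).hom ⁻¹ᵁ U) _
        ((Red.DS S Γ).hom.app U).hom.toAlgebra.toModule := by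
    intro s
    obtain ⟨U, hU, hsU, -⟩ :=
      exists_isAffineOpen_mem_and_subset (x := s) (U := (⊤ : S.Opens)) trivial
    exact ⟨⟨U, hU⟩, hsU, Groth.Agent.R2.H63.MultProj.projective_DS Γ U hU⟩
  obtain ⟨h1, h2⟩ := Groth.Agent.R2.H63.EqLocus.repHom_closedImmersion (Red.DS S Γ) H G hproj k
    AH υH hAH AG υG hAG φ hφ
  refine ⟨h1, h2 ?_⟩
  refine Groth.Agent.Lib.Helper6.locallyOfFinitePresentation_of_comp (g := G.hom) inferInstance ?_
  rw [Over.w k]
  infer_instance

end Groth.Agent.S19163
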