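import Groth.Statements.S1918
-- import your own Groth.Agent.* helpers here
import Mathlib
import Groth.Agent.R2.H9OrdImm
import Groth.Agent.R2.H9DivLF
import Groth.Agent.R2.H75C1Cap

set_option autoImplicit false
universe u
open CategoryTheory AlgebraicGeometry
open CategoryTheory.Limits
open Cyc

namespace Groth.Agent.S1918

open Groth.Agent.R2.H9.OrdImm Groth.Agent.R2.H9.DivLF

set_option linter.style.haveILetI false

/-- Mayer–Vietoris for Chow groups, exactness in the middle: let i₁ : X₁ → X, i₂ : X₂ → X be closed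
immersions covering X set-theoretically and X₁₂ = X₁ ×_X X₂ their scheme-theoretic intersection. If
k-cycles α₁ on X₁ and α₂ on X₂ have rationally equivalent pushforwards on X, then there is a k-cycle
β on X₁₂ with α₁ ∼_rat (pr₁)_*β on X₁ and α₂ ∼_rat (pr₂)_*β on X₂. (The published statement also
asserts that CH_k(X₁) ⊕ CH_k(X₂) → CH_k(X) is surjective; that is not asserted here.) Here a pair
(X, δ) with Cyc.IsSetup plays the role of a scheme locally of finite type over a fixed base with a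
dimension function (X locally Noetherian with universally catenary local rings, δ a dimension
function). -/
theorem result (X : Scheme.{u}) (δ : X → ℤ) (hX : Cyc.IsSetup X δ) (X₁ X₂ : Scheme.{u}) (i₁ : X₁ ⟶ X) (i₂ : X₂ ⟶ X) [IsClosedImmersion i₁] [IsClosedImmersion i₂] (hcov : Set.range ⇑i₁ ∪ Set.range ⇑i₂ = Set.univ) (k : ℤ) (α₁ : AlgebraicCycle X₁ ℤ) (α₂ : AlgebraicCycle X₂ ℤ) (h₁ : α₁ ∈ Cyc.Zk X₁ (fun x => δ (i₁ x)) k) (h₂ : α₂ ∈ Cyc.Zk X₂ (fun x => δ (i₂ x)) k) (h : Cyc.RatEquiv δ k (AlgebraicCycle.map i₁ (fun x => δ (i₁ x)) δ α₁) (AlgebraicCycle.map i₂ (fun x => δ (i₂ x)) δ α₂)) : ∃ β : AlgebraicCycle (pullback i₁ i₂) ℤ, β ∈ Cyc.Zk (pullback i₁ i₂) (fun z => δ (i₁ (pullback.fst i₁ i₂ z))) k ∧ Cyc.RatEquiv (fun x => δ (i₁ x)) k α₁ (AlgebraicCycle.map (pullback.fst i₁ i₂) (fun z => δ (i₁ (pullback.fst i₁ i₂ z))) (fun x => δ (i₁ x)) β) ∧ Cyc.RatEquiv (fun x => δ (i₂ x)) k α₂ (AlgebraicCycle.map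 (pullback.snd i₁ i₂) (fun z => δ (i₁ (pullback.fst i₁ i₂ z))) (fun x => δ (i₂ x)) β) := by
  classical
  obtain ⟨hN, -, hδ⟩ := hX
  haveI := hN
  obtain ⟨ι, ξ, f, hξ, hf, hlf, hsum⟩ := h
  set p₁ := pullback.fst i₁ i₂ with hp₁
  set p₂ := pullback.snd i₁ i₂ with hp₂
  have hcond : ∀ z, i₁ (p₁ z) = i₂ (p₂ z) := fun z => by
    rw [← Scheme.Hom.comp_apply, ← Scheme.Hom.comp_apply, pullback.condition]
  have hinj₁ : Function.Injective i₁ := i₁.isEmbedding.injective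
  have hinj₂ : Function.Injective i₂ := i₂.isEmbedding.injective
  have hinjp₁ : Function.Injective p₁ := p₁.isEmbedding.injective
  have hinjp₂ : Function.Injective p₂ := p₂.isEmbedding.injective
  have hcl₁ : IsClosed (Set.range i₁) := i₁.isClosedEmbedding.isClosed_range
  have hcl₂ : IsClosed (Set.range i₂) := i₂.isClosedEmbedding.isClosed_range
  -- the two halves of the family
  let J₁ : Set ι := {j | ξ j ∈ Set.range i₁}
  have hJ₂ : ∀ j, j ∉ J₁ → ξ j ∈ Set.range i₂ := by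
    intro j hj
    have h0 : ξ j ∈ Set.range i₁ ∪ Set.range i₂ := by rw [hcov]; trivial
    rcases h0 with h0 | h0
    · exact absurd h0 hj
    · exact h0
  have hlfsub : ∀ (S : Set ι) (x : X), ∃ U : Set X, IsOpen U ∧ x ∈ U ∧
      {j : ↥S | (closure {ξ j.1} ∩ U).Nonempty}.Finite := by
    intro S x
    obtain ⟨U, hUo, hxU, hfin⟩ := hlf x
    refine ⟨U, hUo, hxU, ?_⟩
    have h1 : {j : ↥S | (closure {ξ j.1} ∩ U).Nonempty} =
        Subtype.val ⁻¹' {j : ι | (closure {ξ j} ∩ U).Nonempty} := rfl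
    rw [h1]
    exact hfin.preimage Subtype.val_injective.injOn
  -- vanishing of the divisors away from the closed sets
  have hD₁ : ∀ j, j ∈ J₁ → ∀ x, x ∉ Set.range i₁ → Cyc.divFun δ (ξ j) (f j) x = 0 := by
    intro j hj x hx
    unfold Cyc.divFun
    rw [dif_neg]
    rintro ⟨h1, -⟩
    exact hx (hcl₁.closure_subset_iff.mpr (Set.singleton_subset_iff.mpr hj)
      (specializes_iff_mem_closure.mp h1))
  have hD₂ : ∀ j, j ∉ J₁ → ∀ x, x ∉ Set.range i₂ → Cyc.divFun δ (ξ j) (f j) x = 0 := by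
    intro j hj x hx
    unfold Cyc.divFun
    rw [dif_neg]
    rintro ⟨h1, -⟩
    exact hx (hcl₂.closure_subset_iff.mpr (Set.singleton_subset_iff.mpr (hJ₂ j hj))
      (specializes_iff_mem_closure.mp h1))
  -- finiteness of the support of the family at a point
  have hfinx : ∀ x : X, (Function.support fun j => Cyc.divFun δ (ξ j) (f j) x).Finite := by
    intro x
    obtain ⟨U, hUo, hxU, hfin⟩ := hlf x
    apply hfin.subset
    intro j hj
    have hsp : ξ j ⤳ x := by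
      by_contra hns
      apply hj
      show Cyc.divFun δ (ξ j) (f j) x = 0
      unfold Cyc.divFun
      rw [dif_neg]
      exact fun hc => hns hc.1
    exact ⟨x, specializes_iff_mem_closure.mp hsp, hxU⟩
  -- the cycle of the first half
  obtain ⟨D₁, hD₁c⟩ := exists_cycle_of_locallyFinite δ hδ (fun j : ↥J₁ => ξ j.1)
    (fun j => f j.1) (fun j => hf j.1) (hlfsub J₁)
  set M₁ := AlgebraicCycle.map i₁ (fun x => δ (i₁ x)) δ α₁ with hM₁
  set M₂ := AlgebraicCycle.map i₂ (fun x => δ (i₂ x)) δ α₂ with hM₂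
  let Γ : AlgebraicCycle X ℤ := M₁ - D₁
  have hΓ : ∀ x, Γ x = M₁ x - ∑ᶠ j : ↥J₁, Cyc.divFun δ (ξ j.1) (f j.1) x := by
    intro x
    show M₁ x - D₁ x = _
    rw [hD₁c]
  have hΓ' : ∀ x, Γ x = M₂ x + ∑ᶠ j : ↥(J₁ᶜ), Cyc.divFun δ (ξ j.1) (f j.1) x := by
    intro x
    rw [hΓ x]
    have h1 := hsum x
    have h2 : (M₁ - M₂) x = M₁ x - M₂ x := rfl
    rw [h2] at h1
    have h3 : ∑ᶠ j, Cyc.divFun δ (ξ j) (f j) x =
        (∑ᶠ j ∈ J₁, Cyc.divFun δ (ξ j) (f j) x) + ∑ᶠ j ∈ J₁ᶜ, Cyc.divFun δ (ξ j) (f j) x := by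
      rw [← finsum_mem_union' disjoint_compl_right ((hfinx x).subset Set.inter_subset_right)
        ((hfinx x).subset Set.inter_subset_right), Set.union_compl_self, finsum_mem_univ]
    rw [finsum_set_coe_eq_finsum_mem (f := fun j => Cyc.divFun δ (ξ j) (f j) x) J₁,
      finsum_set_coe_eq_finsum_mem (f := fun j => Cyc.divFun δ (ξ j) (f j) x) J₁ᶜ]
    rw [h3] at h1
    linarith
  -- the pushforwards
  have hM₁a : ∀ x₁, M₁ (i₁ x₁) = α₁ x₁ := fun x₁ =>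
    map_apply_of_injective i₁ hinj₁ (fun x => δ (i₁ x)) δ (fun _ => rfl) α₁ x₁
  have hM₂a : ∀ x₂, M₂ (i₂ x₂) = α₂ x₂ := fun x₂ =>
    map_apply_of_injective i₂ hinj₂ (fun x => δ (i₂ x)) δ (fun _ => rfl) α₂ x₂
  have hM₁0 : ∀ x, x ∉ Set.range i₁ → M₁ x = 0 := fun x hx =>
    map_apply_of_notMem_range i₁ _ δ α₁ x hx
  have hM₂0 : ∀ x, x ∉ Set.range i₂ → M₂ x = 0 := fun x hx =>
    map_apply_of_notMem_range i₂ _ δ α₂ x hx
  -- the support of `Γ`
  have hΓ₁ : ∀ x, x ∉ Set.range i₁ → Γ x = 0 := by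
    intro x hx
    rw [hΓ x, hM₁0 x hx, zero_sub, neg_eq_zero]
    exact finsum_eq_zero_of_forall_eq_zero fun j => hD₁ j.1 j.2 x hx
  have hΓ₂ : ∀ x, x ∉ Set.range i₂ → Γ x = 0 := by
    intro x hx
    rw [hΓ' x, hM₂0 x hx, zero_add]
    exact finsum_eq_zero_of_forall_eq_zero fun j => hD₂ j.1 j.2 x hx
  have hΓk : ∀ x, δ x ≠ k → Γ x = 0 := by
    intro x hx
    rw [hΓ x]
    have h1 : M₁ x = 0 := by
      by_cases hxr : x ∈ Set.range i₁
      · obtain ⟨x₁, rfl⟩ := hxr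
        rw [hM₁a]
        exact h₁ x₁ hx
      · exact hM₁0 x hxr
    rw [h1, zero_sub, neg_eq_zero]
    apply finsum_eq_zero_of_forall_eq_zero
    intro j
    unfold Cyc.divFun
    rw [dif_neg]
    rintro ⟨-, h2⟩
    apply hx
    have := hξ j.1
    omega
  -- the cycle on the intersection
  obtain ⟨β, hβ⟩ := exists_comap_cycle (p₁ ≫ i₁) (hinj₁.comp hinjp₁) Γ
  have hβ₁ : ∀ z, β z = Γ (i₁ (p₁ z)) := fun z => hβ z
  have hβ₂ : ∀ z, β z = Γ (i₂ (p₂ z)) := fun z => by rw [hβ₁, hcond]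
  -- points of the intersection
  have hrange₁ : ∀ x₁, i₁ x₁ ∈ Set.range i₂ → x₁ ∈ Set.range p₁ := by
    rintro x₁ ⟨x₂, hx₂⟩
    obtain ⟨z, hz1, -⟩ :=
      Scheme.Pullback.exists_preimage_pullback (f := i₁) (g := i₂) x₁ x₂ hx₂.symm
    exact ⟨z, hz1⟩
  have hrange₂ : ∀ x₂, i₂ x₂ ∈ Set.range i₁ → x₂ ∈ Set.range p₂ := by
    rintro x₂ ⟨x₁, hx₁⟩
    obtain ⟨z, -, hz2⟩ :=
      Scheme.Pullback.exists_preimage_pullback (f := i₁) (g := i₂) x₁ x₂ hx₁
    exact ⟨z, hz2⟩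
  have hP₁ : ∀ x₁, (AlgebraicCycle.map p₁ (fun z => δ (i₁ (p₁ z))) (fun x => δ (i₁ x)) β) x₁ =
      Γ (i₁ x₁) := by
    intro x₁
    by_cases hx : x₁ ∈ Set.range p₁
    · obtain ⟨z, rfl⟩ := hx
      rw [map_apply_of_injective p₁ hinjp₁ (fun z => δ (i₁ (p₁ z))) (fun x => δ (i₁ x))
        (fun _ => rfl) β z, hβ₁]
    · rw [map_apply_of_notMem_range p₁ _ _ β x₁ hx]
      symm
      apply hΓ₂
      exact fun h0 => hx (hrange₁ x₁ h0)
  have hP₂ : ∀ x₂, (AlgebraicCycle.map p₂ (fun z => δ (i₁ (p₁ z))) (fun x => δ (i₂ x)) β) x₂ =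
      Γ (i₂ x₂) := by
    intro x₂
    by_cases hx : x₂ ∈ Set.range p₂
    · obtain ⟨z, rfl⟩ := hx
      rw [map_apply_of_injective p₂ hinjp₂ (fun z => δ (i₁ (p₁ z))) (fun x => δ (i₂ x))
        (fun z => by rw [hcond]) β z, hβ₂]
    · rw [map_apply_of_notMem_range p₂ _ _ β x₂ hx]
      symm
      apply hΓ₁
      exact fun h0 => hx (hrange₂ x₂ h0)
  refine ⟨β, ?_, ?_, ?_⟩
  · intro z hz
    rw [hβ₁]
    exact hΓk _ hz
  · unfold Cyc.RatEquiv
    apply ratEquivZero_of_family_in_range i₁ δ k (fun j : ↥J₁ => ξ j.1) (fun j => f j.1)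
      (fun j => hξ j.1) (fun j => hf j.1) (hlfsub J₁) (fun j => j.2)
    intro x₁
    have h1 : (α₁ - AlgebraicCycle.map p₁ (fun z => δ (i₁ (p₁ z))) (fun x => δ (i₁ x)) β) x₁ =
        α₁ x₁ - (AlgebraicCycle.map p₁ (fun z => δ (i₁ (p₁ z))) (fun x => δ (i₁ x)) β) x₁ := rfl
    rw [h1, hP₁, hΓ, hM₁a]
    ring
  · unfold Cyc.RatEquiv
    apply ratEquivZero_of_family_in_range i₂ δ k (fun j : ↥(J₁ᶜ) => ξ j.1)
      (fun j => (f j.1) ^ (-1 : ℤ))
      (fun j => hξ j.1) (fun j => zpow_ne_zero _ (hf j.1)) (hlfsub J₁ᶜ) (fun j => hJ₂ j.1 j.2)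
    intro x₂
    have h1 : (α₂ - AlgebraicCycle.map p₂ (fun z => δ (i₁ (p₁ z))) (fun x => δ (i₂ x)) β) x₂ =
        α₂ x₂ - (AlgebraicCycle.map p₂ (fun z => δ (i₁ (p₁ z))) (fun x => δ (i₂ x)) β) x₂ := rfl
    rw [h1, hP₂, hΓ', hM₂a]
    have h2 : ∀ j : ↥(J₁ᶜ), Cyc.divFun δ (ξ j.1) ((f j.1) ^ (-1 : ℤ)) (i₂ x₂) =
        -Cyc.divFun δ (ξ j.1) (f j.1) (i₂ x₂) := by
      intro j
      rw [Groth.Agent.R2.H75.C1Cap.divFun_zpow δ (ξ j.1) (hf j.1)]
      ring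
    rw [finsum_congr h2, finsum_neg_distrib]
    ring

end Groth.Agent.S1918
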