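import Groth.Statements.S19185
import Mathlib
import Groth.Agent.R2.H94HypSmooth
import Groth.Agent.R2.H94HirzCharts

set_option autoImplicit false
universe u
open Curves

namespace Groth.Agent.S19185

/-- Let k be a field, n ≥ 3, q a binary quadratic form and ξ a binary form of degree n over k, given by
coefficient vectors (q_i the coefficient of x^i y^(2−i), ξ_j that of x^j y^(n−j)), not both zero.
The pair (q, ξ) is a global section of O(2) ⊕ O(n) on P¹_k, i.e. of the line bundle of class e + nf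
on the Hirzebruch surface F_{n−2} = P(O ⊕ O(n−2)) → P¹_k, and cuts out the curve W : q·u + ξ·v = 0
there ([u : v] the fibre coordinates). Over the two standard opens of P¹ (t = x/y, s = y/x) and the
two opens u ≠ 0, v ≠ 0 of the fibres, W is covered by four affine charts with coordinate rings k[t,
w]/(q(t,1) + ξ(t,1)·w), k[t, w]/(q(t,1)·w + ξ(t,1)), k[s, w]/(q(1,s) + ξ(1,s)·w) and k[s,
w]/(q(1,s)·w + ξ(1,s)) (variables indexed 0 for t or s and 1 for w). Then W is smooth over k — all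
four chart algebras are smooth k-algebras — if and only if the resultant of q and ξ (the Sylvester
determinant of the two coefficient vectors with size parameters 2 and n) is nonzero. (The published
statement is over a general base scheme B, for a section (q, ξ) vanishing on no fibre, with 'the
resultant is a unit on B' in place of 'nonzero'; its proof reduces at once to the statement over a
field given here, which is the case B = Spec k.) -/
theorem result (k : Type u) [Field k] (n : ℕ) (hn : 3 ≤ n)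
    (q : Fin 3 → k) (ξ : Fin (n + 1) → k) (hqξ : q ≠ 0 ∨ ξ ≠ 0) :
    (Algebra.Smooth k (MvPolynomial (Fin 2) k ⧸ Ideal.span ({(∑ i : Fin 3, MvPolynomial.C (q i) * MvPolynomial.X 0 ^ (i : ℕ)) + (∑ j : Fin (n + 1), MvPolynomial.C (ξ j) * MvPolynomial.X 0 ^ (j : ℕ)) * MvPolynomial.X 1} : Set (MvPolynomial (Fin 2) k))) ∧
      Algebra.Smooth k (MvPolynomial (Fin 2) k ⧸ Ideal.span ({(∑ i : Fin 3, MvPolynomial.C (q i) * MvPolynomial.X 0 ^ (i : ℕ)) * MvPolynomial.X 1 + (∑ j : Fin (n + 1), MvPolynomial.C (ξ j) * MvPolynomial.X 0 ^ (j : ℕ))} : Set (MvPolynomial (Fin 2) k))) ∧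
      Algebra.Smooth k (MvPolynomial (Fin 2) k ⧸ Ideal.span ({(∑ i : Fin 3, MvPolynomial.C (q i) * MvPolynomial.X 0 ^ (2 - (i : ℕ))) + (∑ j : Fin (n + 1), MvPolynomial.C (ξ j) * MvPolynomial.X 0 ^ (n - (j : ℕ))) * MvPolynomial.X 1} : Set (MvPolynomial (Fin 2) k))) ∧
      Algebra.Smooth k (MvPolynomial (Fin 2) k ⧸ Ideal.span ({(∑ i : Fin 3, MvPolynomial.C (q i) * MvPolynomial.X 0 ^ (2 - (i : ℕ))) * MvPolynomial.X 1 + (∑ j : Fin (n + 1), MvPolynomial.C (ξ j) * MvPolynomial.X 0 ^ (n - (j : ℕ)))} : Set (MvPolynomial (Fin 2) k)))) ↔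
    Polynomial.resultant (∑ i : Fin 3, Polynomial.C (q i) * Polynomial.X ^ (i : ℕ))
      (∑ j : Fin (n + 1), Polynomial.C (ξ j) * Polynomial.X ^ (j : ℕ)) 2 n ≠ 0 := by
  open Groth.Agent.R2.H94.HirzCharts in
  classical
  have hn0 : 0 < n := by omega
  have hAB : polyOf q ≠ 0 ∨ polyOf ξ ≠ 0 := hqξ.imp polyOf_ne_zero polyOf_ne_zero
  have hAB' : Polynomial.reflect 2 (polyOf q) ≠ 0 ∨ Polynomial.reflect n (polyOf ξ) ≠ 0 :=
    hAB.imp (fun h => by rwa [Ne, Polynomial.reflect_eq_zero_iff])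
      (fun h => by rwa [Ne, Polynomial.reflect_eq_zero_iff])
  have h12 := smooth_charts_iff_isCoprime hAB
  have h34 := smooth_charts_iff_isCoprime hAB'
  rw [F1, F2, toMv_polyOf, toMv_polyOf] at h12
  rw [F1, F2, toMv_reflect_polyOf, toMv_reflect_polyOf] at h34
  have hres : Polynomial.resultant (polyOf q) (polyOf ξ) 2 n ≠ 0 ↔
      IsCoprime (polyOf q) (polyOf ξ) ∧
        IsCoprime (Polynomial.reflect 2 (polyOf q)) (Polynomial.reflect n (polyOf ξ)) :=
    ⟨isCoprime_of_resultant_ne_zero _ _ 2 n (by norm_num) hn0 (natDegree_polyOf_le q)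
        (natDegree_polyOf_le ξ),
      fun h => resultant_ne_zero_of_isCoprime _ _ 2 n (natDegree_polyOf_le q)
        (natDegree_polyOf_le ξ) h.1 h.2⟩
  refine Iff.trans ?_ hres.symm
  refine Iff.trans ?_ (and_congr h12 h34)
  exact ⟨fun ⟨a, b, c, d⟩ => ⟨⟨a, b⟩, c, d⟩, fun ⟨⟨a, b⟩, c, d⟩ => ⟨a, b, c, d⟩⟩

end Groth.Agent.S19185
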