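import Groth.Statements.S19195
import Groth.Agent.R2.H22LocGen

set_option autoImplicit false
set_option linter.style.haveILetI false
universe u
open TensorProduct
open RelS1

namespace Groth.Agent.S19195

/-- on a fibre: an element avoiding all minimal primes of the annihilator of a module all of whose associated primes
are such minimal primes is a nonzerodivisor. -/
theorem isSMulRegular_of_avoid {R N : Type*} [CommRing R] [IsNoetherianRing R] [AddCommGroup N]
    [Module R N] (h : associatedPrimes R N ⊆ (Module.annihilator R N).minimalPrimes) (r : R)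
    (hr : ∀ P ∈ (Module.annihilator R N).minimalPrimes, r ∉ P) : IsSMulRegular N r := by
  by_contra hne
  have h1 : r ∈ {r : R | IsSMulRegular N r}ᶜ := hne
  rw [← biUnion_associatedPrimes_eq_compl_regular R N] at h1
  simp only [Set.mem_iUnion, SetLike.mem_coe, exists_prop] at h1
  obtain ⟨P, hP, hrP⟩ := h1
  exact hr P (h hP) hrP

/-- Let A be a commutative ring, B a finitely presented A-algebra and M a finitely presented B-module
which is flat over A. Suppose that for every prime p of A, with residue field κ(p), the fibre module
(B ⊗_A κ(p)) ⊗_B M over the fibre ring B ⊗_A κ(p) satisfies Serre's condition (S_1) in the form: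
each of its associated primes is a minimal prime of its annihilator. Let a be an element of B whose
image a ⊗ 1 in every fibre ring B ⊗_A κ(p) lies in no minimal prime of the annihilator of the fibre
module. Then a is a non-zero-divisor on M. (Since all hypotheses are preserved by base change of A
and by passing to affine opens, this expresses that a flat finitely presented sheaf with (S_1)
fibres is pure relative to the base after every base change. The published statement is an
equivalence for sheaves on a locally finitely presented morphism, quantified over all base changes;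
this row states its direct implication in affine form.) -/
theorem result (A B M : Type u) [CommRing A] [CommRing B] [Algebra A B]
    [Algebra.FinitePresentation A B] [AddCommGroup M] [Module B M] [Module A M]
    [IsScalarTower A B M] [Module.FinitePresentation B M] [Module.Flat A M]
    (hS1 : ∀ (p : Ideal A) [p.IsPrime],
      associatedPrimes (B ⊗[A] p.ResidueField) ((B ⊗[A] p.ResidueField) ⊗[B] M) ⊆
        (Module.annihilator (B ⊗[A] p.ResidueField) ((B ⊗[A] p.ResidueField) ⊗[B] M)).minimalPrimes)
    (a : B)
    (ha : ∀ (p : Ideal A) [p.IsPrime],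
      ∀ P ∈ (Module.annihilator (B ⊗[A] p.ResidueField) ((B ⊗[A] p.ResidueField) ⊗[B] M)).minimalPrimes,
        a ⊗ₜ[A] (1 : p.ResidueField) ∉ P) :
    IsSMulRegular M a := by
  classical
  rw [isSMulRegular_iff_right_eq_zero_of_smul]
  intro x hx
  by_contra hne
  -- the annihilator of `x` is a proper ideal
  have hI : Ideal.torsionOf B M x ≠ ⊤ := by
    intro htop
    apply hne
    have : (1 : B) ∈ Ideal.torsionOf B M x := by rw [htop]; trivial
    rw [Ideal.mem_torsionOf_iff, one_smul] at this
    exact this
  obtain ⟨q, hqmax, hIq⟩ := Ideal.exists_le_maximal _ hI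
  haveI : q.IsPrime := hqmax.isPrime
  set p : Ideal A := q.comap (algebraMap A B) with hp
  haveI : p.IsPrime := Ideal.IsPrime.comap _
  -- regularity on the fibre
  haveI : IsNoetherianRing (p.ResidueField ⊗[A] B) :=
    Algebra.FiniteType.isNoetherianRing p.ResidueField (p.ResidueField ⊗[A] B)
  haveI : IsNoetherianRing (B ⊗[A] p.ResidueField) :=
    isNoetherianRing_of_ringEquiv (p.ResidueField ⊗[A] B)
      (Algebra.TensorProduct.comm A p.ResidueField B).toRingEquiv
  have hfib : IsSMulRegular ((B ⊗[A] p.ResidueField) ⊗[B] M) (a ⊗ₜ[A] (1 : p.ResidueField)) :=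
    isSMulRegular_of_avoid (hS1 p) _ (ha p)
  have hreg : Groth.Agent.R2.H22.LocDesc.RegAt (A := A) M p.ResidueField (1 : B) a := by
    rintro z ⟨n, hn⟩
    rw [one_pow, one_smul] at hn
    refine ⟨0, ?_⟩
    rw [pow_zero, one_smul]
    let e : M ⊗[B] (B ⊗[A] p.ResidueField) ≃ₗ[B] M ⊗[A] p.ResidueField :=
      TensorProduct.AlgebraTensorModule.cancelBaseChange A B B M p.ResidueField
    let c : (B ⊗[A] p.ResidueField) ⊗[B] M ≃ₗ[B] M ⊗[B] (B ⊗[A] p.ResidueField) :=
      TensorProduct.comm B _ _
    have h1 : (a ⊗ₜ[A] (1 : p.ResidueField) : B ⊗[A] p.ResidueField) • c.symm (e.symm z) = 0 := by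
      have h2 : (a ⊗ₜ[A] (1 : p.ResidueField) : B ⊗[A] p.ResidueField) =
          algebraMap B (B ⊗[A] p.ResidueField) a := by
        rw [Algebra.TensorProduct.algebraMap_apply, Algebra.algebraMap_self, RingHom.id_apply]
      rw [h2, algebraMap_smul, ← map_smul, ← map_smul, hn, map_zero, map_zero]
    have h3 := hfib (by rw [h1, smul_zero] : (a ⊗ₜ[A] (1 : p.ResidueField) : B ⊗[A] p.ResidueField) •
      c.symm (e.symm z) = (a ⊗ₜ[A] (1 : p.ResidueField) : B ⊗[A] p.ResidueField) • 0)
    have h4 : e.symm z = 0 := by
      have := congrArg c h3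
      rwa [LinearEquiv.apply_symm_apply, map_zero] at this
    have := congrArg e h4
    rwa [LinearEquiv.apply_symm_apply, map_zero] at this
  obtain ⟨g, hgq, hgx⟩ := Groth.Agent.R2.H22.LocGen.exists_smul_eq_zero_of_regAt (A := A) (M := M)
    q 1 a (fun h1 => hqmax.ne_top ((Ideal.eq_top_iff_one q).mpr h1)) p.ResidueField
    (Ideal.ker_algebraMap_residueField p) hreg x ⟨0, by rw [pow_zero, one_smul, hx]⟩
  exact hgq (hIq ((Ideal.mem_torsionOf_iff x g).mpr hgx))

end Groth.Agent.S19195
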