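import Groth.Statements.S19197
import Groth.Agent.R2.H26PdLocal
-- import your own Groth.Agent.* helpers here

set_option autoImplicit false
universe u
open TensorProduct CategoryTheory
open RelS1

namespace Groth.Agent.S19197

open Groth.Agent.R2.H26.PdFlat in
/-- In affine form, let A be a commutative ring, B a finitely presented A-algebra which is flat over A,
and M a finitely presented B-module which is flat over A. For a prime P of B lying over the prime p
of A, let B_P/pB_P be the local ring of the fibre at P and M_P/pM_P = (B_P/pB_P) ⊗_B M the fibre
stalk module. Then the function sending P to the projective dimension of M_P/pM_P over B_P/pB_P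
(valued in WithBot ℕ∞, the zero module having dimension ⊥) is upper semicontinuous on Spec B: for
every bound, the set of P where the fibre projective dimension is below the bound is open. -/
theorem result (A B M : Type u) [CommRing A] [CommRing B] [Algebra A B]
    [Algebra.FinitePresentation A B] [Module.Flat A B] [AddCommGroup M] [Module B M] [Module A M]
    [IsScalarTower A B M] [Module.FinitePresentation B M] [Module.Flat A M] :
    UpperSemicontinuous fun P : PrimeSpectrum B => projectiveDimension (ModuleCat.of
      (Localization.AtPrime P.asIdeal ⧸ (P.asIdeal.under A).map (algebraMap A (Localization.AtPrime P.asIdeal)))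
      ((Localization.AtPrime P.asIdeal ⧸ (P.asIdeal.under A).map (algebraMap A (Localization.AtPrime P.asIdeal))) ⊗[B] M)) := by
  rw [upperSemicontinuous_iff_isOpen_preimage]
  intro y
  have hnat : ∀ k : ℕ, IsOpen ((fun P : PrimeSpectrum B => projectiveDimension (ModuleCat.of
      (Localization.AtPrime P.asIdeal ⧸ (P.asIdeal.under A).map (algebraMap A (Localization.AtPrime P.asIdeal)))
      ((Localization.AtPrime P.asIdeal ⧸ (P.asIdeal.under A).map (algebraMap A (Localization.AtPrime P.asIdeal))) ⊗[B] M))) ⁻¹'
        Set.Iio (k : WithBot ℕ∞)) := by
    intro k
    have : ((fun P : PrimeSpectrum B => projectiveDimension (ModuleCat.of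
      (Localization.AtPrime P.asIdeal ⧸ (P.asIdeal.under A).map (algebraMap A (Localization.AtPrime P.asIdeal)))
      ((Localization.AtPrime P.asIdeal ⧸ (P.asIdeal.under A).map (algebraMap A (Localization.AtPrime P.asIdeal))) ⊗[B] M))) ⁻¹'
        Set.Iio (k : WithBot ℕ∞)) = fibLT A B M k := by
      ext P
      exact projectiveDimension_lt_iff
    rw [this]
    exact isOpen_fibLT A B M k
  induction y with
  | bot =>
    have : Set.Iio (⊥ : WithBot ℕ∞) = ∅ := Set.Iio_bot
    rw [this, Set.preimage_empty]
    exact isOpen_empty
  | coe y =>
    induction y with
    | top =>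
      have : Set.Iio (((⊤ : ℕ∞) : WithBot ℕ∞)) = ⋃ k : ℕ, Set.Iio (k : WithBot ℕ∞) := by
        ext a
        simp only [Set.mem_Iio, Set.mem_iUnion]
        constructor
        · intro ha
          induction a with
          | bot => exact ⟨0, by exact_mod_cast WithBot.bot_lt_coe (0 : ℕ∞)⟩
          | coe a =>
            induction a with
            | top => exact absurd ha (lt_irrefl _)
            | coe j => exact ⟨j + 1, by exact_mod_cast Nat.lt_succ_self j⟩
        · rintro ⟨k, hk⟩
          exact lt_of_lt_of_le hk (by exact_mod_cast (le_top : (k : ℕ∞) ≤ ⊤))
      rw [this, Set.preimage_iUnion]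
      exact isOpen_iUnion hnat
    | coe k => exact_mod_cast hnat k

end Groth.Agent.S19197
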