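import Groth.Statements.S19212
import Mathlib
import Groth.Agent.R2.H94DiagSym3

set_option autoImplicit false
universe u v
open TensorProduct
open DiagIdeal

namespace Groth.Agent.S19212

/-- Let k be an algebraically closed field of characteristic zero and A a smooth k-algebra which is a
domain. Let the symmetric group on three letters permute the factors of A ⊗ A ⊗ A (it is generated
by the swap of the first two factors and the swap of the last two), let r : A ⊗ (A ⊗ A) → A ⊗ A be
the k-linear map a ⊗ b ⊗ c ↦ ab ⊗ c, and let D : A ⊗ A → Ω_{A/k} be the k-linear map a ⊗ b ↦ 2a·db −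
b·da. Then an element y of A ⊗ A satisfies D y = 0 if and only if y = r x for some x fixed by both
swaps, and D is surjective. (This is exactness at the last two places of the four-term right
resolution of the invariants of the ideal of the big diagonal on the symmetric cube of X = Spec A,
namely invariant functions on X³, then functions on X × X through restriction to a diagonal, then
one-forms on X; exactness at the first two places is immediate. The published statement is the sheaf
version on the symmetric cube of a smooth complex variety of any dimension; an algebraically closed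
field of characteristic zero is used here.) -/
theorem result (k : Type u) [Field k] [IsAlgClosed k] [CharZero k]
    (A : Type v) [CommRing A] [Algebra k A] [Algebra.Smooth k A] [IsDomain A]
    (r : A ⊗[k] (A ⊗[k] A) →ₗ[k] A ⊗[k] A)
    (hr : ∀ a b c : A, r (a ⊗ₜ[k] (b ⊗ₜ[k] c)) = (a * b) ⊗ₜ[k] c)
    (D : A ⊗[k] A →ₗ[k] Ω[A⁄k])
    (hD : ∀ a b : A, D (a ⊗ₜ[k] b) = (2 : A) • (a • KaehlerDifferential.D k A b) - b • KaehlerDifferential.D k A a) :
    (∀ y : A ⊗[k] A, D y = 0 ↔ ∃ x : A ⊗[k] (A ⊗[k] A),
        TensorProduct.leftComm k A A A x = x ∧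
        LinearMap.lTensor A (TensorProduct.comm k A A).toLinearMap x = x ∧ r x = y) ∧
    Function.Surjective D := by
  have hr' : ∀ x, r x = Groth.Agent.R2.H94.DiagSym3.rA k A x := by
    intro x
    have : r = (Groth.Agent.R2.H94.DiagSym3.rA k A).toLinearMap := by
      apply TensorProduct.ext_threefold'
      intro a b c
      rw [hr]
      simp [Groth.Agent.R2.H94.DiagSym3.rA]
    rw [this]; rfl
  have hs1 : ∀ x, TensorProduct.leftComm k A A A x = Groth.Agent.R2.H94.DiagSym3.s1 k A x := by
    intro x
    have : (TensorProduct.leftComm k A A A).toLinearMap =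
        (Groth.Agent.R2.H94.DiagSym3.s1 k A).toLinearMap := by
      apply TensorProduct.ext_threefold'
      intro a b c
      simp [Groth.Agent.R2.H94.DiagSym3.s1]
    exact LinearMap.congr_fun this x
  have hs2 : ∀ x, LinearMap.lTensor A (TensorProduct.comm k A A).toLinearMap x =
      Groth.Agent.R2.H94.DiagSym3.s2 k A x := by
    intro x
    have : LinearMap.lTensor A (TensorProduct.comm k A A).toLinearMap =
        (Groth.Agent.R2.H94.DiagSym3.s2 k A).toLinearMap := by
      apply TensorProduct.ext_threefold'
      intro a b c
      simp [Groth.Agent.R2.H94.DiagSym3.s2]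
    exact LinearMap.congr_fun this x
  refine ⟨fun y => ⟨fun hy => ?_, ?_⟩, Groth.Agent.R2.H94.DiagSym3.D_surjective D hD⟩
  · obtain ⟨x, h1, h2, h3⟩ := Groth.Agent.R2.H94.DiagSym3.mem_W.mp
      (Groth.Agent.R2.H94.DiagSym3.mem_W_of_D_eq_zero D hD y hy)
    exact ⟨x, (hs1 x).trans h1, (hs2 x).trans h2, (hr' x).trans h3⟩
  · rintro ⟨x, h1, h2, h3⟩
    rw [← h3, hr']
    exact Groth.Agent.R2.H94.DiagSym3.D_rA_eq_zero_of_invariant D hD x
      ((hs1 x).symm.trans h1) ((hs2 x).symm.trans h2)

end Groth.Agent.S19212
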