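import Groth.Statements.S19213
import Mathlib
import Groth.Agent.R2.H94DiagSym3b

set_option autoImplicit false
universe u v
open TensorProduct
open DiagIdeal

namespace Groth.Agent.S19213

/-- Let k be an algebraically closed field of characteristic zero and A a smooth k-algebra which is a
domain. Let r₁₂, r₂₃ : A ⊗ (A ⊗ A) → A ⊗ A be the k-linear maps a ⊗ u ⊗ v ↦ au ⊗ v and a ⊗ u ⊗ v ↦
uv ⊗ a (restriction to the diagonal of factors 1, 2, resp. 2, 3, the repeated coordinate written
first), let m : A ⊗ A → A be multiplication, and let ψ : (A ⊗ A) × (A ⊗ A) → Ω_{A/k} be the k-linear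
map with ψ(a ⊗ u, b ⊗ v) = 2a·du − v·db. Then for p, q in A ⊗ A with m p = m q one has ψ(p, q) = 0
if and only if (p, q) = (r₁₂ x, r₂₃ x) for some x fixed by the swap of the last two tensor factors;
and every element of Ω_{A/k} is ψ(p, q) for some pair with m p = m q. (This is exactness at the last
two places of the right resolution, on the symmetric cube of X = Spec A, of the invariants of the
ideal of the big diagonal under the transposition of the last two factors; exactness at the first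
two places is immediate. The published statement is the sheaf version for a smooth complex variety
of any dimension; an algebraically closed field of characteristic zero is used here.) -/
theorem result (k : Type u) [Field k] [IsAlgClosed k] [CharZero k]
    (A : Type v) [CommRing A] [Algebra k A] [Algebra.Smooth k A] [IsDomain A]
    (r₁₂ r₂₃ : A ⊗[k] (A ⊗[k] A) →ₗ[k] A ⊗[k] A)
    (h₁₂ : ∀ a u v : A, r₁₂ (a ⊗ₜ[k] (u ⊗ₜ[k] v)) = (a * u) ⊗ₜ[k] v)
    (h₂₃ : ∀ a u v : A, r₂₃ (a ⊗ₜ[k] (u ⊗ₜ[k] v)) = (u * v) ⊗ₜ[k] a)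
    (ψ : (A ⊗[k] A) × (A ⊗[k] A) →ₗ[k] Ω[A⁄k])
    (hψ : ∀ a u b v : A, ψ (a ⊗ₜ[k] u, b ⊗ₜ[k] v) =
      (2 : A) • (a • KaehlerDifferential.D k A u) - v • KaehlerDifferential.D k A b) :
    (∀ p q : A ⊗[k] A, LinearMap.mul' k A p = LinearMap.mul' k A q →
      (ψ (p, q) = 0 ↔ ∃ x : A ⊗[k] (A ⊗[k] A),
        LinearMap.lTensor A (TensorProduct.comm k A A).toLinearMap x = x ∧ r₁₂ x = p ∧ r₂₃ x = q)) ∧
    (∀ ω : Ω[A⁄k], ∃ p q : A ⊗[k] A, LinearMap.mul' k A p = LinearMap.mul' k A q ∧ ψ (p, q) = ω) := by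
  have h12 : ∀ x, r₁₂ x = Groth.Agent.R2.H94.DiagSym3.rA k A x := by
    intro x
    have : r₁₂ = (Groth.Agent.R2.H94.DiagSym3.rA k A).toLinearMap := by
      apply TensorProduct.ext_threefold'
      intro a b c
      rw [h₁₂]
      simp [Groth.Agent.R2.H94.DiagSym3.rA]
    rw [this]; rfl
  have h23 : ∀ x, r₂₃ x = Groth.Agent.R2.H94.DiagSym3b.rB k A x := by
    intro x
    have : r₂₃ = (Groth.Agent.R2.H94.DiagSym3b.rB k A).toLinearMap := by
      apply TensorProduct.ext_threefold'
      intro a b c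
      rw [h₂₃]
      simp [Groth.Agent.R2.H94.DiagSym3b.rB]
    rw [this]; rfl
  have hs2 : ∀ x, LinearMap.lTensor A (TensorProduct.comm k A A).toLinearMap x =
      Groth.Agent.R2.H94.DiagSym3.s2 k A x := by
    intro x
    have : LinearMap.lTensor A (TensorProduct.comm k A A).toLinearMap =
        (Groth.Agent.R2.H94.DiagSym3.s2 k A).toLinearMap := by
      apply TensorProduct.ext_threefold'
      intro a b c
      simp [Groth.Agent.R2.H94.DiagSym3.s2]
    exact LinearMap.congr_fun this x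
  have hmul : ∀ p : A ⊗[k] A, LinearMap.mul' k A p = Algebra.TensorProduct.lmul' k p := by
    intro p
    rw [← Algebra.TensorProduct.lmul'_toLinearMap]; rfl
  refine ⟨fun p q hm => ⟨fun h0 => ?_, ?_⟩, fun ω => ?_⟩
  · rw [hmul, hmul] at hm
    obtain ⟨x, hx2, hx12, hx23⟩ := Groth.Agent.R2.H94.DiagSym3b.mem_V.mp
      (Groth.Agent.R2.H94.DiagSym3b.mem_V_of_psi_eq_zero ψ hψ p q hm h0)
    exact ⟨x, (hs2 x).trans hx2, (h12 x).trans hx12, (h23 x).trans hx23⟩
  · rintro ⟨x, hx2, hx12, hx23⟩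
    rw [← hx12, ← hx23, h12, h23]
    exact Groth.Agent.R2.H94.DiagSym3b.psi_eq_zero_of_invariant ψ hψ x ((hs2 x).symm.trans hx2)
  · obtain ⟨p, q, hm, h⟩ := Groth.Agent.R2.H94.DiagSym3b.exists_psi_eq ψ hψ ω
    exact ⟨p, q, by rw [hmul, hmul]; exact hm, h⟩

end Groth.Agent.S19213
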