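import Groth.Statements.S19221
import Mathlib
import Groth.Agent.R2.H94K4Wedge

set_option autoImplicit false
universe u
open SymRep

namespace Groth.Agent.S19221

/-- Let k be a field of characteristic zero and F the k-space of functions Fin 2 → Fin 4 → Fin 4 → k,
with the symmetric group of Fin 4 acting through P σ f c a b = f c (σ⁻¹ a) (σ⁻¹ b). The signed edge
vectors of the complete graph on four vertices live in F as the functions antisymmetric in the two
vertex arguments, and for a colour c and an oriented 3-cycle i → j → l → i the cycle vector z c i j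
l is the function equal, in colour c, to +1 at (i,j), (j,l), (l,i), to −1 at (j,i), (l,j), (i,l) and
to 0 elsewhere (and 0 in the other colour); these cycle vectors span k² ⊗ (cycle space), the
representation written C² ⊗ q in the published text. Let Γ be the graph with edges 01, 02, 03, 12,
23 (a 4-cycle with one chord), whose cycle space is spanned by the cycles (0,1,2) and (0,2,3), and
let ω be the product in the exterior algebra of F of the four vectors z 0 0 1 2, z 1 0 1 2, z 0 0 2
3, z 1 0 2 3 (a generator of the top exterior power of k² ⊗ q_Γ). Then ω is fixed by the stabiliser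
of Γ in the symmetric group (generated by the transpositions (0 2) and (1 3)), and the sum over all
24 permutations σ of the images of ω under the maps induced by P σ is nonzero: the projection of ω
to the invariants of the fourth exterior power of k² ⊗ q_{K₄} does not vanish. (The published
statement is over the complex numbers; a field of characteristic zero is used here. The published
statement also asserts that this map is an isomorphism onto the one-dimensional space of
S₄-invariants of the fourth exterior power of k² ⊗ q_{K₄}; only its non-vanishing is stated here.) -/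
theorem result (k : Type u) [Field k] [CharZero k]
    (P : Equiv.Perm (Fin 4) → ((Fin 2 → Fin 4 → Fin 4 → k) →ₗ[k] (Fin 2 → Fin 4 → Fin 4 → k)))
    (hP : ∀ (σ : Equiv.Perm (Fin 4)) (f : Fin 2 → Fin 4 → Fin 4 → k) (c : Fin 2) (a b : Fin 4),
      P σ f c a b = f c (σ.symm a) (σ.symm b))
    (z : Fin 2 → Fin 4 → Fin 4 → Fin 4 → (Fin 2 → Fin 4 → Fin 4 → k))
    (hz : ∀ (c : Fin 2) (i j l : Fin 4) (c' : Fin 2) (a b : Fin 4), z c i j l c' a b =
      if c' = c then
        ((if a = i ∧ b = j then 1 else 0) + (if a = j ∧ b = l then 1 else 0) + (if a = l ∧ b = i then 1 else 0)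
          - (if a = j ∧ b = i then 1 else 0) - (if a = l ∧ b = j then 1 else 0) - (if a = i ∧ b = l then 1 else 0))
      else 0)
    (ω : ExteriorAlgebra k (Fin 2 → Fin 4 → Fin 4 → k))
    (hω : ω = ExteriorAlgebra.ι k (z 0 0 1 2) * ExteriorAlgebra.ι k (z 1 0 1 2) *
      ExteriorAlgebra.ι k (z 0 0 2 3) * ExteriorAlgebra.ι k (z 1 0 2 3)) :
    ExteriorAlgebra.map (P (Equiv.swap 0 2)) ω = ω ∧
    ExteriorAlgebra.map (P (Equiv.swap 1 3)) ω = ω ∧
    (∑ σ : Equiv.Perm (Fin 4), ExteriorAlgebra.map (P σ) ω) ≠ 0 := by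
  open Groth.Agent.R2.H94.K4Wedge in
  classical
  -- the four vectors
  let v : Fin 4 → (Fin 2 → Fin 4 → Fin 4 → k) := ![z 0 0 1 2, z 1 0 1 2, z 0 0 2 3, z 1 0 2 3]
  have hωv : ω = ExteriorAlgebra.ιMulti k 4 v := by
    rw [hω, ExteriorAlgebra.ιMulti_apply]
    simp [v, List.ofFn_succ, mul_assoc]
  have hmap : ∀ σ, ExteriorAlgebra.map (P σ) ω =
      ExteriorAlgebra.ιMulti k 4 (fun i => P σ (v i)) := by
    intro σ
    rw [hωv, ExteriorAlgebra.map_apply_ιMulti]
    rfl
  have hneg : ∀ w : Fin 4 → (Fin 2 → Fin 4 → Fin 4 → k),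
      ExteriorAlgebra.ιMulti k 4 (fun i => - w i) = ExteriorAlgebra.ιMulti k 4 w := by
    intro w
    rw [ExteriorAlgebra.ιMulti_apply, ExteriorAlgebra.ιMulti_apply]
    simp [List.ofFn_succ, map_neg]
  -- action of a permutation on cycle vectors
  have hPz : ∀ (σ : Equiv.Perm (Fin 4)) (c : Fin 2) (i j l : Fin 4),
      P σ (z c i j l) = z c (σ i) (σ j) (σ l) := by
    intro σ c i j l
    funext c' a b
    rw [hP, hz, hz]
    simp only [Equiv.symm_apply_eq]
  -- orientation reversal identities
  have hrev : ∀ (c : Fin 2) (i j l i' j' l' : Fin 4),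
      ((i', j', l') = (l, j, i) ∨ (i', j', l') = (j, i, l) ∨ (i', j', l') = (i, l, j)) →
      z c i' j' l' = - z c i j l := by
    intro c i j l i' j' l' h
    funext c' a b
    simp only [hz, Pi.neg_apply]
    by_cases hc : c' = c
    · simp only [hc, if_true]
      rcases h with h | h | h <;> (simp only [Prod.mk.injEq] at h; obtain ⟨rfl, rfl, rfl⟩ := h; ring)
    · simp [hc]
  refine ⟨?_, ?_, ?_⟩
  · -- swap 0 2
    rw [hmap, hωv, ← hneg v]
    congr 1
    funext i
    fin_cases i
    · show P (Equiv.swap 0 2) (z 0 0 1 2) = - z 0 0 1 2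
      rw [hPz]
      exact hrev _ _ _ _ _ _ _ (Or.inl rfl)
    · show P (Equiv.swap 0 2) (z 1 0 1 2) = - z 1 0 1 2
      rw [hPz]
      exact hrev _ _ _ _ _ _ _ (Or.inl rfl)
    · show P (Equiv.swap 0 2) (z 0 0 2 3) = - z 0 0 2 3
      rw [hPz]
      exact hrev _ _ _ _ _ _ _ (Or.inr (Or.inl rfl))
    · show P (Equiv.swap 0 2) (z 1 0 2 3) = - z 1 0 2 3
      rw [hPz]
      exact hrev _ _ _ _ _ _ _ (Or.inr (Or.inl rfl))
  · -- swap 1 3
    rw [hmap, hωv]
    have h1 : (fun i => P (Equiv.swap 1 3) (v i)) =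
        fun i => - (v ∘ ⇑(Equiv.swap (0 : Fin 4) 2 * Equiv.swap (1 : Fin 4) 3 : Equiv.Perm (Fin 4))) i := by
      funext i
      fin_cases i
      · show P (Equiv.swap 1 3) (z 0 0 1 2) = - z 0 0 2 3
        rw [hPz]
        exact hrev _ _ _ _ _ _ _ (Or.inr (Or.inr rfl))
      · show P (Equiv.swap 1 3) (z 1 0 1 2) = - z 1 0 2 3
        rw [hPz]
        exact hrev _ _ _ _ _ _ _ (Or.inr (Or.inr rfl))
      · show P (Equiv.swap 1 3) (z 0 0 2 3) = - z 0 0 1 2
        rw [hPz]
        exact hrev _ _ _ _ _ _ _ (Or.inr (Or.inr rfl))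
      · show P (Equiv.swap 1 3) (z 1 0 2 3) = - z 1 0 1 2
        rw [hPz]
        exact hrev _ _ _ _ _ _ _ (Or.inr (Or.inr rfl))
    rw [h1, hneg, AlternatingMap.map_perm]
    have hsign : Equiv.Perm.sign (Equiv.swap (0 : Fin 4) 2 * Equiv.swap (1 : Fin 4) 3 : Equiv.Perm (Fin 4)) = 1 := by decide
    rw [hsign, one_smul]
  · intro hsum
    -- an alternating 4-form on `F` built from four coordinate functionals
    let ℓ : (Fin 2 → Fin 4 → Fin 4 → k) →ₗ[k] (Fin 4 → k) :=
      LinearMap.pi fun j => (LinearMap.proj (bb j)) ∘ₗ (LinearMap.proj 0) ∘ₗ (LinearMap.proj (cc j))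
    let φ : (Fin 2 → Fin 4 → Fin 4 → k) [⋀^Fin 4]→ₗ[k] k :=
      (Matrix.detRowAlternating).compLinearMap ℓ
    let f : ∀ n, (Fin 2 → Fin 4 → Fin 4 → k) [⋀^Fin n]→ₗ[k] k :=
      fun n => if h : n = 4 then h ▸ φ else 0
    have hf4 : f 4 = φ := by simp [f]
    have h0 := congrArg (ExteriorAlgebra.liftAlternating f) hsum
    rw [map_sum, map_zero] at h0
    simp only [hmap, ExteriorAlgebra.liftAlternating_apply_ιMulti, hf4] at h0
    have hvZ : ∀ (i : Fin 4) (c : Fin 2) (a b : Fin 4), v i c a b = ((vZ i c a b : ℤ) : k) := by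
      intro i c a b
      fin_cases i <;> simp [v, vZ, zZ, hz]
    have hterm : ∀ σ : Equiv.Perm (Fin 4), φ (fun i => P σ (v i)) =
        ((Matrix.det (Matrix.of fun i j => vZ i (cc j) (σ.symm 0) (σ.symm (bb j))) : ℤ) : k) := by
      intro σ
      show Matrix.det (Matrix.of fun i => ℓ (P σ (v i))) = _
      rw [Int.cast_det]
      congr 1
      ext i j
      show P σ (v i) (cc j) 0 (bb j) = _
      rw [hP, hvZ]
      rfl
    simp only [hterm] at h0
    rw [← Int.cast_sum, sumZ] at h0
    norm_num at h0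

end Groth.Agent.S19221
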