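import Groth.Statements.S19223
import Mathlib
import Groth.Agent.R2.H94GrpCohDiv

set_option autoImplicit false
attribute [local instance] Units.mulDistribMulActionRight
open GalCoh

namespace Groth.Agent.S19223

/-- For a strictly henselian local ring R whose residue field k has characteristic p ≥ 0, and a finite
group G of order prime to p acting on R by ring automorphisms (hence on the unit groups R^× and
k^×), consider the homomorphism H^n(G, R^×) → H^n(G, k^×) induced by the reduction map. It is
bijective for every n ≥ 2; it is also bijective for n = 1 provided that p = 0 or the only p-power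
root of unity in R is 1. (The reduction map on cohomology is pinned by its values on units; groups,
rings and modules are taken in the lowest universe, as integral coefficients in the group-cohomology
library require.) -/
theorem result (R : Type) [CommRing R]
    [HenselianLocalRing R] [IsSepClosed (IsLocalRing.ResidueField R)] (p : ℕ) [CharP (IsLocalRing.ResidueField R) p]
    (G : Type) [Group G] [Finite G] [MulSemiringAction G R] (hp : ¬ p ∣ Nat.card G)
    (φ : Rep.ofMulDistribMulAction G Rˣ ⟶ Rep.ofMulDistribMulAction G (IsLocalRing.ResidueField R)ˣ)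
    (hφ : ∀ x : Rˣ, Additive.toMul (φ.hom (Additive.ofMul x)) = Units.map (IsLocalRing.residue R).toMonoidHom x)
    (n : ℕ) (hn : 1 ≤ n) (h1 : n = 1 → p ≠ 0 → ∀ (ζ : Rˣ) (m : ℕ), ζ ^ p ^ m = 1 → ζ = 1) :
    Function.Bijective ((groupCohomology.functor ℤ G n).map φ).hom := by
  classical
  haveI : Fintype G := Fintype.ofFinite G
  set k := IsLocalRing.ResidueField R with hk
  set N := Fintype.card G with hN
  have hNpos : 0 < N := Fintype.card_pos
  have hNk : ((N : ℕ) : k) ≠ 0 := by
    intro h
    rw [CharP.cast_eq_zero_iff k p N] at h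
    apply hp
    rwa [Nat.card_eq_fintype_card]
  -- φ is surjective
  have hφsurj : Function.Surjective φ.hom := by
    intro y
    obtain ⟨r, hr⟩ := IsLocalRing.residue_surjective (R := R) ((Additive.toMul y : kˣ) : k)
    have hru : IsUnit r := by
      rw [← IsLocalRing.residue_ne_zero_iff_isUnit, hr]
      exact Units.ne_zero _
    refine ⟨Additive.ofMul hru.unit, ?_⟩
    have h1 := hφ hru.unit
    have h2 : Units.map (IsLocalRing.residue R).toMonoidHom hru.unit = (Additive.toMul y : kˣ) := by
      apply Units.ext
      simp [hr]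
    rw [h2] at h1
    exact Additive.toMul.injective h1
  -- kernel is uniquely N-divisible
  have e0 : (Additive.toMul (0 : Rep.ofMulDistribMulAction G Rˣ) : Rˣ) = 1 := rfl
  have e0' : (Additive.toMul (0 : Rep.ofMulDistribMulAction G kˣ) : kˣ) = 1 := rfl
  have eN : ∀ x : Rep.ofMulDistribMulAction G Rˣ,
      (Additive.toMul (N • x) : Rˣ) = (Additive.toMul x : Rˣ) ^ N := fun x => rfl
  have hres : ∀ x : Rˣ, φ.hom (Additive.ofMul x) = 0 ↔ IsLocalRing.residue R (x : R) = 1 := by
    intro x
    constructor
    · intro h
      have h1 : (1 : kˣ) = Units.map (IsLocalRing.residue R).toMonoidHom x := by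
        rw [← hφ x, h]; rfl
      have h2 := congrArg (fun u : kˣ => (u : k)) h1
      simp only [Units.val_one, Units.coe_map, RingHom.toMonoidHom_eq_coe,
        MonoidHom.coe_coe] at h2
      exact h2.symm
    · intro h
      apply Additive.toMul.injective
      rw [hφ]
      show _ = (1 : kˣ)
      apply Units.ext
      simpa using h
  have hinj : ∀ x : Rep.ofMulDistribMulAction G Rˣ, φ.hom x = 0 → N • x = 0 → x = 0 := by
    intro x hx hNx
    have h1 : IsLocalRing.residue R ((Additive.toMul x : Rˣ) : R) = 1 := (hres (Additive.toMul x)).1 hx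
    have h2 : ((Additive.toMul x : Rˣ) : R) ^ N = 1 := by
      have h := congrArg (fun y : Rep.ofMulDistribMulAction G Rˣ => (Additive.toMul y : Rˣ)) hNx
      have h' : (Additive.toMul x : Rˣ) ^ N = 1 := h
      rw [← Units.val_pow_eq_pow_val, h', Units.val_one]
    have h3 := Groth.Agent.R2.H94.GrpCohDiv.eq_one_of_pow_eq_one_of_residue N hNk _ h2 h1
    apply Additive.toMul.injective
    show (Additive.toMul x : Rˣ) = 1
    exact Units.ext h3
  have hdiv : ∀ x : Rep.ofMulDistribMulAction G Rˣ, φ.hom x = 0 →
      ∃ y : Rep.ofMulDistribMulAction G Rˣ, φ.hom y = 0 ∧ N • y = x := by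
    intro x hx
    have h1 : IsLocalRing.residue R ((Additive.toMul x : Rˣ) : R) = 1 := (hres (Additive.toMul x)).1 hx
    obtain ⟨v, hv, hv1⟩ := Groth.Agent.R2.H94.GrpCohDiv.exists_pow_eq_of_residue N hNpos hNk _ h1
    have hvu : IsUnit v := by
      rw [← IsLocalRing.residue_ne_zero_iff_isUnit, hv1]
      exact one_ne_zero
    refine ⟨Additive.ofMul hvu.unit, (hres _).2 (by simpa using hv1), ?_⟩
    apply Additive.toMul.injective
    show (hvu.unit : Rˣ) ^ N = (Additive.toMul x : Rˣ)
    apply Units.ext
    rw [Units.val_pow_eq_pow_val]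
    exact hv
  exact Groth.Agent.R2.H94.GrpCohDiv.bijective_map_of_ker_uniquely_divisible φ hφsurj hinj hdiv n hn

end Groth.Agent.S19223
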