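import Groth.Statements.S1923
import Groth.Agent.R2.H9SecOrd
-- import your own Groth.Agent.* helpers here

set_option autoImplicit false
universe u
open CategoryTheory AlgebraicGeometry
open Cyc

namespace Groth.Agent.S1923

open Groth.Agent.R2.H9.LocQuot Groth.Agent.R2.H9.SecOrd Groth.Agent.Lib.Helper20.InvGen

/-- Let X be integral with δ(η) = n, L an invertible O_X-module and s a global section of L whose germ
at η is nonzero. Then div_L(s) = [Z(s)]_{n−1} as (n − 1)-cycles, where s is viewed as a rational
section through its image in L(η). Here L(ξ) = L_ξ/𝔪_ξ L_ξ is the space of rational sections of L on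
the closure of ξ, div_{L|W}(s) and c_1(L) ∩ α are computed as coefficient functions from chosen
nonzero rational sections (Cyc.secDivFun, Cyc.c1CapFun), and results are compared up to rational
equivalence for any cycles with those coefficients. A pair (X, δ) with Cyc.IsSetup plays the role of
a scheme locally of finite type over a fixed base with a dimension function (X locally Noetherian
with universally catenary local rings, δ a dimension function), and Cyc.DeltaCompat records that the
dimension function upstairs is the induced one. -/
theorem result (X : Scheme.{u}) [IsIntegral X] (δ : X → ℤ) (hX : Cyc.IsSetup X δ) (n : ℤ) (hn : δ (genericPoint X) = n) (L : X.Modules) (hL : PicF.IsInvertible L) (s : L.presheaf.obj (Opposite.op ⊤)) (hs : (L.presheaf.germ ⊤ (genericPoint X) trivial) s ≠ 0) : Cyc.secDivFun δ L (genericPoint X) (Submodule.Quotient.mk ((L.presheaf.germ ⊤ (genericPoint X) trivial) s)) = Cyc.zeroSectionFun δ (n - 1) L s := by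
  funext x
  have : IsLocallyNoetherian X := hX.1
  have hδ : Cyc.IsDimFun X δ := hX.2.2
  have hηx : genericPoint X ⤳ x := (genericPoint_spec X).specializes (Set.mem_univ x)
  obtain ⟨W, t, hxW, ht⟩ := exists_local_generator L hL x
  have hηW : genericPoint X ∈ W := hηx.mem_open W.2 hxW
  have htx := ht x hxW
  have hspt : L.presheaf.stalkSpecializes hηx (L.presheaf.germ W x hxW t) =
      L.presheaf.germ W (genericPoint X) hηW t :=
    ConcreteCategory.congr_hom (TopCat.Presheaf.germ_stalkSpecializes L.presheaf hxW hηx) t
  have htη : Function.Bijective (fun c : X.presheaf.stalk (genericPoint X) =>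
      c • (L.presheaf.stalkSpecializes hηx (L.presheaf.germ W x hxW t))) := by
    rw [hspt]
    exact ht _ hηW
  obtain ⟨f, hf⟩ := htx.2 ((L.presheaf.germ ⊤ x trivial) s)
  have hf' : (L.presheaf.germ ⊤ x trivial) s = f • L.presheaf.germ W x hxW t := hf.symm
  rw [zeroSectionFun_eq δ (n - 1) L s x _ htx f hf']
  have hsη : (L.presheaf.germ ⊤ (genericPoint X) trivial) s =
      L.presheaf.stalkSpecializes hηx (f • L.presheaf.germ W x hxW t) := by
    rw [← hf']
    exact (ConcreteCategory.congr_hom
      (TopCat.Presheaf.germ_stalkSpecializes L.presheaf (U := ⊤) trivial hηx) s).symm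
  unfold Cyc.secDivFun
  beta_reduce
  by_cases hk : δ x = n - 1
  · have hc : genericPoint X ⤳ x ∧ δ x + 1 = δ (genericPoint X) := ⟨hηx, by omega⟩
    rw [dif_pos hc, if_pos hk, hsη, secOrdAt_eq L hηx _ htx htη f]
    have hmax : IsLocalRing.maximalIdeal (X.presheaf.stalk (genericPoint X)) = ⊥ :=
      IsLocalRing.maximalIdeal_eq_bot
    have hspf : X.presheaf.stalkSpecializes hηx f ≠ 0 := by
      intro h0
      apply hs
      rw [hsη, Groth.Agent.S8923.stalkSpecializes_smul, h0, zero_smul]
    have hfne : Cyc.specMap x (genericPoint X) hηx f ≠ 0 := by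
      intro h0
      apply hspf
      have h1 : X.presheaf.stalkSpecializes hηx f ∈
          IsLocalRing.maximalIdeal (X.presheaf.stalk (genericPoint X)) :=
        (IsLocalRing.residue_eq_zero_iff _).mp h0
      rw [hmax, Ideal.mem_bot] at h1
      exact h1
    rw [ordAt_eq_toNat_length δ hδ x (genericPoint X) hηx (by omega) f hfne]
    have hker : RingHom.ker (Cyc.specMap x (genericPoint X) hηx) = ⊥ := by
      rw [eq_bot_iff]
      intro a ha
      rw [RingHom.mem_ker] at ha
      have h1 : X.presheaf.stalkSpecializes hηx a ∈
          IsLocalRing.maximalIdeal (X.presheaf.stalk (genericPoint X)) :=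
        (IsLocalRing.residue_eq_zero_iff _).mp ha
      rw [hmax, Ideal.mem_bot] at h1
      rw [Ideal.mem_bot]
      exact (IsFractionRing.injective (X.presheaf.stalk x) X.functionField) (by
        rw [map_zero]
        exact h1)
    rw [hker, bot_sup_eq]
  · have hc : ¬ (genericPoint X ⤳ x ∧ δ x + 1 = δ (genericPoint X)) := by
      rintro ⟨-, h2⟩
      omega
    rw [dif_neg hc, if_neg hk]

end Groth.Agent.S1923
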