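import Groth.Statements.S1925
import Groth.Agent.R2.H9SecOrd
import Groth.Agent.R2.H9GenDim
import Groth.Agent.R2.H9DimOneLen
-- import your own Groth.Agent.* helpers here

set_option autoImplicit false
universe u
open CategoryTheory AlgebraicGeometry
open Cyc

namespace Groth.Agent.S1925

open Groth.Agent.R2.H9.LocQuot Groth.Agent.R2.H9.SecOrd Groth.Agent.R2.H9.StalkGen
  Groth.Agent.R2.H9.GenDim Groth.Agent.R2.H9.DimOneLen Groth.Agent.Lib.Helper20.InvGen

set_option linter.style.haveILetI false

/-- Let L be an invertible O_Y-module and s a global section of L; assume δ ≤ k + 1 on Y, δ ≤ k on the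
zero locus of s, and multiplication by the germ of s injective on O_{Y,ξ} at the points ξ of
δ-dimension k. Writing [Y]_{k+1} = Σ n_i[Y_i] over the irreducible components of δ-dimension k + 1,
one has [Z(s)]_k = Σ n_i [Z(s|_{Y_i})]_k as k-cycles on Y; here the right side is computed as c_1(L)
∩ [Y]_{k+1} with the rational sections induced by s. Here L(ξ) = L_ξ/𝔪_ξ L_ξ is the space of
rational sections of L on the closure of ξ, div_{L|W}(s) and c_1(L) ∩ α are computed as coefficient
functions from chosen nonzero rational sections (Cyc.secDivFun, Cyc.c1CapFun), and results are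
compared up to rational equivalence for any cycles with those coefficients. A pair (X, δ) with
Cyc.IsSetup plays the role of a scheme locally of finite type over a fixed base with a dimension
function (X locally Noetherian with universally catenary local rings, δ a dimension function), and
Cyc.DeltaCompat records that the dimension function upstairs is the induced one. -/
theorem result (Y : Scheme.{u}) (δ : Y → ℤ) (hY : Cyc.IsSetup Y δ) (L : Y.Modules) (hL : PicF.IsInvertible L) (k : ℤ) (hdim : ∀ y : Y, δ y ≤ k + 1) (s : L.presheaf.obj (Opposite.op ⊤)) (hZ : ∀ y : Y, (L.presheaf.germ ⊤ y trivial) s ∈ IsLocalRing.maximalIdeal (Y.presheaf.stalk y) • (⊤ : Submodule (Y.presheaf.stalk y) (L.presheaf.stalk y)) → δ y ≤ k) (hreg : ∀ y : Y, δ y = k → Function.Injective (fun a : Y.presheaf.stalk y => a • (L.presheaf.germ ⊤ y trivial) s)) : Cyc.zeroSectionFun δ k L s = Cyc.c1CapFun δ L (Cyc.subschemeFun δ (k + 1) (𝟙 Y)) (fun ξ => Submodule.Quotient.mk ((L.presheaf.germ ⊤ ξ trivial) s)) := by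
  classical
  funext y
  haveI : IsLocallyNoetherian Y := hY.1
  have hδ : Cyc.IsDimFun Y δ := hY.2.2
  obtain ⟨W, t, hyW, ht⟩ := exists_local_generator L hL y
  have hty := ht y hyW
  obtain ⟨f, hf⟩ := hty.2 ((L.presheaf.germ ⊤ y trivial) s)
  have hf' : (L.presheaf.germ ⊤ y trivial) s = f • L.presheaf.germ W y hyW t := hf.symm
  rw [zeroSectionFun_eq δ k L s y _ hty f hf']
  unfold Cyc.c1CapFun
  beta_reduce
  have hsub : ∀ ξ : Y, Cyc.subschemeFun δ (k + 1) (𝟙 Y) ξ =
      if δ ξ = k + 1 then
        ((Module.length (Y.presheaf.stalk ξ) (Y.presheaf.stalk ξ)).toNat : ℤ) else 0 := by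
    intro ξ
    unfold Cyc.subschemeFun
    beta_reduce
    by_cases h : δ ξ = k + 1
    · rw [if_pos h, if_pos h]
      have hset : {z : Y | (𝟙 Y : Y ⟶ Y) z = ξ} = {ξ} := by
        ext z
        simp
      rw [hset, finsum_mem_singleton]
    · rw [if_neg h, if_neg h]
  by_cases hk : δ y = k
  · rw [if_pos hk]
    have hdim' : ∀ z : Y, z ⤳ y → δ z ≤ δ y + 1 := fun z _ => by rw [hk]; exact hdim z
    haveI hK1 := krullDimLE_one_stalk δ hδ y hdim'
    haveI : IsNoetherianRing (Y.presheaf.stalk y) := inferInstance
    have hfnzd : f ∈ nonZeroDivisors (Y.presheaf.stalk y) := by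
      rw [mem_nonZeroDivisors_iff_right]
      intro a ha
      apply hreg y hk
      change a • (L.presheaf.germ ⊤ y trivial) s = (0 : Y.presheaf.stalk y) • _
      rw [hf', ← mul_smul, ha, zero_smul, zero_smul]
    rw [length_quot_eq_finsum _ f hfnzd]
    -- the terms of the right hand side
    set G : Y → ℤ := fun ξ => if h : ξ ⤳ y ∧ ξ ≠ y then
      ((Module.length (Y.presheaf.stalk ξ) (Y.presheaf.stalk ξ)).toNat : ℤ) *
        ((Module.length (Y.presheaf.stalk y) (Y.presheaf.stalk y ⧸
          ((genPrime y ξ h.1).asIdeal ⊔ Ideal.span {f}))).toNat : ℤ) else 0 with hG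
    have hterm : ∀ ξ : Y, Cyc.subschemeFun δ (k + 1) (𝟙 Y) ξ *
        Cyc.secDivFun δ L ξ (Submodule.Quotient.mk ((L.presheaf.germ ⊤ ξ trivial) s)) y = G ξ := by
      intro ξ
      rw [hsub ξ, hG]
      beta_reduce
      unfold Cyc.secDivFun
      by_cases h : ξ ⤳ y ∧ ξ ≠ y
      · have hδξ : δ ξ = δ y + 1 := delta_eq_of_generization δ hδ y hdim' ξ h.1 h.2
        have hc : ξ ⤳ y ∧ δ y + 1 = δ ξ := ⟨h.1, hδξ.symm⟩
        have hξW : ξ ∈ W := h.1.mem_open W.2 hyW
        rw [dif_pos h, dif_pos hc, if_pos (by omega)]
        congr 1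
        have hspt : L.presheaf.stalkSpecializes h.1 (L.presheaf.germ W y hyW t) =
            L.presheaf.germ W ξ hξW t :=
          ConcreteCategory.congr_hom (TopCat.Presheaf.germ_stalkSpecializes L.presheaf hyW h.1) t
        have htξ : Function.Bijective (fun c : Y.presheaf.stalk ξ =>
            c • (L.presheaf.stalkSpecializes h.1 (L.presheaf.germ W y hyW t))) := by
          rw [hspt]
          exact ht ξ hξW
        have hsξ : (L.presheaf.germ ⊤ ξ trivial) s =
            L.presheaf.stalkSpecializes h.1 (f • L.presheaf.germ W y hyW t) := by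
          rw [← hf']
          exact (ConcreteCategory.congr_hom
            (TopCat.Presheaf.germ_stalkSpecializes L.presheaf (U := ⊤) trivial h.1) s).symm
        rw [hsξ, secOrdAt_eq L h.1 _ hty htξ f]
        have hfne : Cyc.specMap y ξ h.1 f ≠ 0 := by
          intro h0
          have hmem : f ∈ (genPrime y ξ h.1).asIdeal := h0
          have hmin : (genPrime y ξ h.1).asIdeal ∈ minimalPrimes (Y.presheaf.stalk y) := by
            rcases Ring.krullDimLE_one_iff.mp hK1 _ (genPrime y ξ h.1).2 with h1 | h1
            · exact h1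
            · exfalso
              apply h.2
              have h2 : genPrime y ξ h.1 = IsLocalRing.closedPoint (Y.presheaf.stalk y) :=
                PrimeSpectrum.ext (IsLocalRing.eq_maximalIdeal h1)
              rw [← fromSpecStalk_genPrime y ξ h.1, h2]
              exact Scheme.fromSpecStalk_closedPoint
          exact notMem_nonZeroDivisors_of_mem_mem_minimalPrimes hmem hmin hfnzd
        exact ordAt_eq_toNat_length δ hδ y ξ h.1 hδξ f hfne
      · rw [dif_neg h]
        by_cases hc : ξ ⤳ y ∧ δ y + 1 = δ ξ
        · have hne : ξ ≠ y := by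
            rintro rfl
            omega
          exact absurd ⟨hc.1, hne⟩ h
        · rw [dif_neg hc, mul_zero]
    rw [finsum_congr hterm]
    -- reindex along `Spec O_{Y,y} → Y`
    have hinj : Set.InjOn (Y.fromSpecStalk y)
        {P : PrimeSpectrum (Y.presheaf.stalk y) | P ≠ IsLocalRing.closedPoint _} :=
      (fromSpecStalk_injective y).injOn
    rw [← finsum_mem_univ G, finsum_mem_inter_support_eq' G Set.univ
      ((Y.fromSpecStalk y) '' {P : PrimeSpectrum (Y.presheaf.stalk y) |
        P ≠ IsLocalRing.closedPoint _}), finsum_mem_image hinj]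
    · refine finsum_mem_congr rfl fun P hP => ?_
      have hPy : Y.fromSpecStalk y P ⤳ y := fromSpecStalk_specializes y P
      have hPne : Y.fromSpecStalk y P ≠ y := fun h0 => hP ((fromSpecStalk_eq_self_iff y P).mp h0)
      have hgp : genPrime y (Y.fromSpecStalk y P) hPy = P := genPrime_fromSpecStalk y P hPy
      have hlen := length_localizedModule_eq y (Y.fromSpecStalk y P) hPy
      rw [hgp] at hlen
      rw [hG]
      beta_reduce
      rw [dif_pos ⟨hPy, hPne⟩, hgp, hlen]
    · intro ξ hξ
      constructor
      · intro _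
        have hne : G ξ ≠ 0 := hξ
        rw [hG] at hne
        beta_reduce at hne
        by_cases h : ξ ⤳ y ∧ ξ ≠ y
        · refine ⟨genPrime y ξ h.1, ?_, fromSpecStalk_genPrime y ξ h.1⟩
          intro h0
          apply h.2
          rw [← fromSpecStalk_genPrime y ξ h.1, h0]
          exact Scheme.fromSpecStalk_closedPoint
        · rw [dif_neg h] at hne
          exact absurd rfl hne
      · intro _
        trivial
  · rw [if_neg hk]
    symm
    apply finsum_eq_zero_of_forall_eq_zero
    intro ξ
    rw [hsub ξ]
    unfold Cyc.secDivFun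
    by_cases h1 : δ ξ = k + 1
    · by_cases hc : ξ ⤳ y ∧ δ y + 1 = δ ξ
      · exfalso
        omega
      · rw [dif_neg hc, mul_zero]
    · rw [if_neg h1, zero_mul]

end Groth.Agent.S1925
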