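import Groth.Statements.S19268
import Groth.Agent.R2.H95WittPS

set_option autoImplicit false
universe u
open WittFil

namespace Groth.Agent.S19268

open Groth.Agent.R2.H95.WittPS in
/-- Let S be an integral domain of characteristic p, A = S[[π]] the power series ring, B = A[1/π] with u
the unit of B given by π, and let m > s ≥ 0 and i be an integer with s = 0 or p ∤ i; put n = p ^
(m−1−s) · i. For e in B write fil(e) for the set of truncated p-typical Witt vectors of length m
over B whose j-th coordinate y_j satisfies y_j ^ (p ^ (m−1−j)) · e ∈ A for all j, and for a Witt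
vector c over S let Φ(c) ∈ W_m(B) be the length-m truncation of V^s(c · [u ^ i]) (V the
Verschiebung, [ ] the Teichmüller map, c mapped to B). Then Φ induces a bijection from the
length-(m−s) truncated Witt vectors of S onto the graded piece fil(u^(−n)) / fil(u^(−n−1)): (1) Φ(c)
lies in fil(u^(−n)) for every c; (2) Φ(c) lies in fil(u^(−n−1)) exactly when the length-(m−s)
truncation of c is zero; (3) every element of fil(u^(−n)) is congruent to some Φ(c) modulo
fil(u^(−n−1)). (Published for S a regular local Noetherian F-finite F_p-algebra; the argument uses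
only that S is a domain.) -/
theorem result (p : ℕ) [Fact p.Prime] {S B : Type u} [CommRing S]
    [IsDomain S] [CharP S p] [CommRing B] [Algebra (PowerSeries S) B] [Algebra S B]
    [IsScalarTower S (PowerSeries S) B] [IsLocalization.Away (PowerSeries.X : PowerSeries S) B]
    (u : Bˣ) (hu : (u : B) = algebraMap (PowerSeries S) B PowerSeries.X) (m s : ℕ) (hs : s < m)
    (i : ℤ) (hsi : s = 0 ∨ ¬ ((p : ℤ) ∣ i)) :
    (∀ c : WittVector p S,
        WittFil.vShiftTeich p m s ((u ^ i : Bˣ) : B) c ∈
          WittFil.fil p m (A := PowerSeries S) ((u ^ (-((p : ℤ) ^ (m - 1 - s) * i)) : Bˣ) : B)) ∧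
      (∀ c : WittVector p S,
        WittFil.vShiftTeich p m s ((u ^ i : Bˣ) : B) c ∈
            WittFil.fil p m (A := PowerSeries S) ((u ^ (-((p : ℤ) ^ (m - 1 - s) * i) - 1) : Bˣ) : B) ↔
          WittVector.truncate (m - s) c = 0) ∧
      (∀ y ∈ WittFil.fil p m (A := PowerSeries S) ((u ^ (-((p : ℤ) ^ (m - 1 - s) * i)) : Bˣ) : B),
        ∃ c : WittVector p S,
          y - WittFil.vShiftTeich p m s ((u ^ i : Bˣ) : B) c ∈
            WittFil.fil p m (A := PowerSeries S)
              ((u ^ (-((p : ℤ) ^ (m - 1 - s) * i) - 1) : Bˣ) : B)) := by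
  have e : -((p : ℤ) ^ (m - 1 - s) * i) - 1 = -((p : ℤ) ^ (m - 1 - s) * i + 1) := by ring
  rw [e]
  refine ⟨fun c j => ?_, fun c => ⟨fun h => ?_, fun h j => ?_⟩, fun y hy => ?_⟩
  · -- (1)
    rw [vShiftTeich_eq, WittVector.coeff_truncate, ← mem_Fil]
    exact bigZ_mem_Fil p u j.2 i c
  · -- (2), forward
    apply TruncatedWittVector.ext
    intro k
    rw [WittVector.coeff_truncate, TruncatedWittVector.coeff_zero]
    have hk : (k : ℕ) + s < m := by have := k.2; omega
    have hj := h ⟨(k : ℕ) + s, hk⟩
    rw [vShiftTeich_eq, WittVector.coeff_truncate, ← mem_Fil] at hj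
    have := coeff_eq_zero_of_mem p u hu hk (Nat.le_add_left _ _) i c hj
    simpa using this
  · -- (2), backward
    rw [vShiftTeich_eq, WittVector.coeff_truncate, ← mem_Fil]
    have hz : (bigZ p s ((u ^ i : Bˣ) : B) c).coeff (j : ℕ) = 0 := by
      by_cases hsj : s ≤ (j : ℕ)
      · obtain ⟨k, hk⟩ : ∃ k, (j : ℕ) = k + s := ⟨(j : ℕ) - s, by omega⟩
        have hk' : k < m - s := by have := j.2; omega
        have hck : c.coeff k = 0 := by
          have := congrArg (TruncatedWittVector.coeff ⟨k, hk'⟩) h
          rwa [WittVector.coeff_truncate, TruncatedWittVector.coeff_zero] at this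
        rw [hk, bigZ_coeff_add, hck, map_zero, zero_mul]
      · exact bigZ_coeff_lt p _ _ (by omega)
    rw [hz, zero_pow (pow_pos (Fact.out : p.Prime).pos _).ne']
    exact AddSubgroup.zero_mem _
  · -- (3)
    have hY : ∀ k, k < m → (y.out).coeff k ^ p ^ (m - 1 - k) ∈
        Fil (PowerSeries S) u ((p : ℤ) ^ (m - 1 - s) * i) := by
      intro k hk
      have := hy ⟨k, hk⟩
      rw [← mem_Fil, ← TruncatedWittVector.coeff_out] at this
      exact this
    obtain ⟨c, hc⟩ := exists_sub_mem p u hu hs i hsi y.out hY
    refine ⟨c, fun j => ?_⟩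
    have hyout : y = WittVector.truncate m y.out := by
      apply TruncatedWittVector.ext
      intro k
      rw [WittVector.coeff_truncate, TruncatedWittVector.coeff_out]
    have hsub : y - WittVector.truncate m (bigZ p s ((u ^ i : Bˣ) : B) c) =
        WittVector.truncate m (y.out - bigZ p s ((u ^ i : Bˣ) : B) c) := by
      rw [map_sub, ← hyout]
    rw [vShiftTeich_eq, hsub, WittVector.coeff_truncate, ← mem_Fil]
    exact hc j j.2

end Groth.Agent.S19268
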