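import Groth.Statements.S19273
import Mathlib.RingTheory.Etale.Kaehler
import Mathlib.RingTheory.Localization.Module

set_option autoImplicit false
universe u
open CAlg

namespace Groth.Agent.S19273

open KaehlerDifferential in
/-- Let A be an integral domain of prime characteristic p, x_1, …, x_N elements of A, r ≤ N, B =
A[1/(x_1⋯x_r)] with u_i the unit of B defined by x_i for i ≤ r, and suppose that the module Ω_A of
absolute Kähler differentials of A is free with a basis b indexed by {1, …, N} ⊔ ι whose i-th vector
is d(x_i) for i ≤ N. Then the module of logarithmic 1-forms — the A-submodule of Ω_B spanned by the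
image of Ω_A and the forms u_i⁻¹ · d(x_i), i ≤ r — is a free A-module: it has a basis indexed by {1,
…, N} ⊔ ι whose vector at i ≤ r is u_i⁻¹ · d(x_i), at r < i ≤ N is d(x_i), and at k ∈ ι is the image
of b_k. (In the published statement A is a regular local F-finite algebra over the prime field with
maximal ideal (x_1, …, x_N), the basis of Ω_A comes from the preceding lemma, and the assertion
covers the logarithmic q-forms for all q together with their identification with the log de Rham
complex of the log ring; only the degree-one freeness is stated here, from the properties of A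
actually used.) -/
theorem result (p : ℕ) [Fact p.Prime]
    {A B : Type u} [CommRing A] [IsDomain A] [CharP A p] [CommRing B] [Algebra A B] {r N : ℕ}
    (hr : r ≤ N) (x : Fin N → A) [IsLocalization.Away (∏ i : Fin r, x (Fin.castLE hr i)) B]
    (u : Fin r → Bˣ) (hu : ∀ i, (u i : B) = algebraMap A B (x (Fin.castLE hr i)))
    {ι : Type u} (b : Module.Basis (Fin N ⊕ ι) A (Ω[A⁄ℤ])) (hb : ∀ i, b (Sum.inl i) = D ℤ A (x i)) :
    ∃ e : Module.Basis (Fin N ⊕ ι) A
        (W4c6katofilta.logForms1 (fun i : Fin r => x (Fin.castLE hr i)) u),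
      (∀ i : Fin r, (e (Sum.inl (Fin.castLE hr i)) : Ω[B⁄ℤ]) =
          ((u i)⁻¹ : Bˣ) • KaehlerDifferential.map ℤ ℤ A B (D ℤ A (x (Fin.castLE hr i)))) ∧
      (∀ i : Fin N, r ≤ (i : ℕ) →
          (e (Sum.inl i) : Ω[B⁄ℤ]) = KaehlerDifferential.map ℤ ℤ A B (D ℤ A (x i))) ∧
      (∀ k : ι, (e (Sum.inr k) : Ω[B⁄ℤ]) = KaehlerDifferential.map ℤ ℤ A B (b (Sum.inr k))) := by
  classical
  set s : A := ∏ i : Fin r, x (Fin.castLE hr i) with hs
  set φ : Ω[A⁄ℤ] →ₗ[A] Ω[B⁄ℤ] := KaehlerDifferential.map ℤ ℤ A B with hφ
  have : IsLocalization (Submonoid.powers s) B := ‹IsLocalization.Away s B›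
  have : IsLocalizedModule (Submonoid.powers s) φ :=
    KaehlerDifferential.isLocalizedModule_map (R := ℤ) (S := A) (T := B) (Submonoid.powers s)
  let bB : Module.Basis (Fin N ⊕ ι) B (Ω[B⁄ℤ]) :=
    b.ofIsLocalizedModule B (Submonoid.powers s) φ
  have hbB : ∀ j, bB j = φ (b j) := fun j => b.ofIsLocalizedModule_apply B _ φ j
  -- the rescaling units
  let w : Fin N ⊕ ι → Bˣ :=
    Sum.elim (fun i => if h : (i : ℕ) < r then (u ⟨i, h⟩)⁻¹ else 1) (fun _ => 1)
  let v : Fin N ⊕ ι → Ω[B⁄ℤ] := fun j => w j • φ (b j)
  have hvB : LinearIndependent B v := by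
    have := bB.linearIndependent.units_smul w
    convert this using 1
    funext j
    simp only [v, Pi.smul_apply', hbB]
  -- `s ≠ 0`
  have hx0 : ∀ i : Fin N, x i ≠ 0 := by
    intro i hi
    have h1 : b (Sum.inl i) = 0 := by rw [hb, hi, map_zero]
    exact b.ne_zero _ h1
  have hs0 : s ≠ 0 := by
    rw [hs]
    exact Finset.prod_ne_zero_iff.mpr fun i _ => hx0 _
  have hinj : Function.Injective (algebraMap A B) :=
    IsLocalization.injective B (powers_le_nonZeroDivisors_of_noZeroDivisors hs0)
  have hvA : LinearIndependent A v := by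
    refine hvB.restrict_scalars ?_
    intro a a' h
    apply hinj
    simpa [Algebra.smul_def] using h
  have hcast : ∀ (i : Fin r), (⟨((Fin.castLE hr i : Fin N) : ℕ), by simp⟩ : Fin r) = i :=
    fun i => Fin.ext (by simp)
  have hwl : ∀ i : Fin r, w (Sum.inl (Fin.castLE hr i)) = (u i)⁻¹ := by
    intro i
    have hlt : ((Fin.castLE hr i : Fin N) : ℕ) < r := by simp
    simp only [w, Sum.elim_inl, dif_pos hlt]
    rw [hcast i]
  have hwr : ∀ i : Fin N, r ≤ (i : ℕ) → w (Sum.inl i) = 1 := by
    intro i hi
    simp only [w, Sum.elim_inl, dif_neg (not_lt.mpr hi)]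
  have hwk : ∀ k : ι, w (Sum.inr k) = 1 := fun k => rfl
  have hspan : Submodule.span A (Set.range v) =
      W4c6katofilta.logForms1 (fun i : Fin r => x (Fin.castLE hr i)) u := by
    apply le_antisymm
    · rw [Submodule.span_le]
      rintro _ ⟨j, rfl⟩
      rcases j with i | k
      · by_cases h : (i : ℕ) < r
        · have hi : i = Fin.castLE hr ⟨i, h⟩ := Fin.ext (by simp)
          apply Submodule.subset_span
          right
          refine ⟨⟨i, h⟩, ?_⟩
          show _ = w (Sum.inl i) • φ (b (Sum.inl i))
          rw [hb]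
          conv_rhs => rw [hi]
          rw [hwl]
        · apply Submodule.subset_span
          left
          refine ⟨b (Sum.inl i), ?_⟩
          show _ = w (Sum.inl i) • φ (b (Sum.inl i))
          rw [hwr i (not_lt.mp h), one_smul]
      · apply Submodule.subset_span
        left
        refine ⟨b (Sum.inr k), ?_⟩
        show _ = w (Sum.inr k) • φ (b (Sum.inr k))
        rw [hwk, one_smul]
    · have key : ∀ j, φ (b j) ∈ Submodule.span A (Set.range v) := by
        intro j
        rcases j with i | k
        · by_cases h : (i : ℕ) < r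
          · have hi : i = Fin.castLE hr ⟨i, h⟩ := Fin.ext (by simp)
            have : φ (b (Sum.inl i)) = x i • v (Sum.inl i) := by
              show _ = x i • (w (Sum.inl i) • φ (b (Sum.inl i)))
              rw [← algebraMap_smul B (x i)]
              conv_rhs => rw [hi]
              rw [hwl, ← hu, Units.smul_def, smul_smul]
              simp
            rw [this]
            exact Submodule.smul_mem _ _ (Submodule.subset_span ⟨_, rfl⟩)
          · have : φ (b (Sum.inl i)) = v (Sum.inl i) := by
              show _ = w (Sum.inl i) • φ (b (Sum.inl i))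
              rw [hwr i (not_lt.mp h), one_smul]
            rw [this]
            exact Submodule.subset_span ⟨_, rfl⟩
        · have : φ (b (Sum.inr k)) = v (Sum.inr k) := by
            show _ = w (Sum.inr k) • φ (b (Sum.inr k))
            rw [hwk, one_smul]
          rw [this]
          exact Submodule.subset_span ⟨_, rfl⟩
      unfold W4c6katofilta.logForms1
      rw [Submodule.span_le]
      rintro m (⟨m, rfl⟩ | ⟨i, rfl⟩)
      · have hm : m ∈ Submodule.span A (Set.range b) := by rw [b.span_eq]; trivial
        have : φ m ∈ Submodule.map φ (Submodule.span A (Set.range b)) :=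
          Submodule.mem_map_of_mem hm
        rw [Submodule.map_span] at this
        refine Submodule.span_le.mpr ?_ this
        rintro _ ⟨_, ⟨j, rfl⟩, rfl⟩
        exact key j
      · apply Submodule.subset_span
        refine ⟨Sum.inl (Fin.castLE hr i), ?_⟩
        show w (Sum.inl (Fin.castLE hr i)) • φ (b (Sum.inl (Fin.castLE hr i))) = _
        rw [hwl, hb]
  let e : Module.Basis (Fin N ⊕ ι) A
      (W4c6katofilta.logForms1 (fun i : Fin r => x (Fin.castLE hr i)) u) :=
    (Module.Basis.span hvA).map (LinearEquiv.ofEq _ _ hspan)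
  have he : ∀ j, (e j : Ω[B⁄ℤ]) = v j := by
    intro j
    simp only [e, Module.Basis.map_apply, LinearEquiv.coe_ofEq_apply]
    rw [Module.Basis.span_apply hvA j]
  refine ⟨e, ?_, ?_, ?_⟩
  · intro i
    rw [he]
    show w (Sum.inl (Fin.castLE hr i)) • φ (b (Sum.inl (Fin.castLE hr i))) = _
    rw [hwl, hb]
  · intro i hi
    rw [he]
    show w (Sum.inl i) • φ (b (Sum.inl i)) = _
    rw [hwr i hi, one_smul, hb]
  · intro k
    rw [he]
    show w (Sum.inr k) • φ (b (Sum.inr k)) = _
    rw [hwk, one_smul]

end Groth.Agent.S19273
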