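import Groth.Statements.S19288
-- import your own Groth.Agent.* helpers here

set_option autoImplicit false
universe u
open CategoryTheory CategoryTheory.Limits MonoidalCategory CartesianMonoidalCategory MonObj AlgebraicGeometry
open AbSch

namespace Groth.Agent.S19288

set_option backward.isDefEq.respectTransparency.types false in
/-- A section of a morphism which is locally of finite type and formally unramified is an open
immersion. -/
theorem isOpenImmersion_of_section {X S : Scheme.{u}} (e : S ⟶ X) (π : X ⟶ S)
    [LocallyOfFiniteType π] [FormallyUnramified π] (h : e ≫ π = 𝟙 S) : IsOpenImmersion e := by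
  have hle : (@LocallyOfFiniteType ⊓ @FormallyUnramified : MorphismProperty Scheme.{u}) ≤
      MorphismProperty.diagonal @IsOpenImmersion := by
    intro A B g ⟨h1, h2⟩
    have : LocallyOfFiniteType g := h1
    have : FormallyUnramified g := h2
    exact inferInstanceAs (IsOpenImmersion (pullback.diagonal g))
  have hpost : MorphismProperty.HasOfPostcompProperty @IsOpenImmersion
      (@LocallyOfFiniteType ⊓ @FormallyUnramified : MorphismProperty Scheme.{u}) :=
    MorphismProperty.hasOfPostcompProperty_iff_le_diagonal.mpr hle
  have hcomp : IsOpenImmersion (e ≫ π) := by rw [h]; infer_instance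
  exact MorphismProperty.of_postcomp (W := @IsOpenImmersion)
    (W' := (@LocallyOfFiniteType ⊓ @FormallyUnramified : MorphismProperty Scheme.{u})) e π
    ⟨inferInstance, inferInstance⟩ hcomp

/-- A section of a separated morphism is a closed immersion. -/
theorem isClosedImmersion_of_section {X S : Scheme.{u}} (e : S ⟶ X) (π : X ⟶ S)
    [IsSeparated π] (h : e ≫ π = 𝟙 S) : IsClosedImmersion e := by
  have hcomp : IsClosedImmersion (e ≫ π) := by rw [h]; infer_instance
  exact IsClosedImmersion.of_comp e π

/-- A clopen subset meeting every (connected) fibre is everything. -/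
theorem eq_univ_of_isClopen_of_fibres {P S : Scheme.{u}} (π : P ⟶ S)
    (hP : ∀ s : S, ConnectedSpace ↥(π.fiber s)) (W : Set P) (hW : IsClopen W)
    (hne : ∀ s : S, ∃ x : P, π x = s ∧ x ∈ W) : W = Set.univ := by
  rw [Set.eq_univ_iff_forall]
  intro x
  have hconn := hP (π x)
  have hV : IsClopen ((π.fiberι (π x)) ⁻¹' W) := hW.preimage (π.fiberι (π x)).continuous
  have hVne : ((π.fiberι (π x)) ⁻¹' W).Nonempty := by
    obtain ⟨y, hy, hyW⟩ := hne (π x)
    have hy' : y ∈ Set.range (π.fiberι (π x)) := by
      rw [Scheme.Hom.range_fiberι]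
      exact hy
    obtain ⟨z, hz⟩ := hy'
    exact ⟨z, by rw [Set.mem_preimage, hz]; exact hyW⟩
  have huniv := hV.eq_univ hVne
  have hx : π.asFiber x ∈ (π.fiberι (π x)) ⁻¹' W := by rw [huniv]; trivial
  rw [Set.mem_preimage, Scheme.Hom.fiberι_asFiber] at hx
  exact hx

/-- Let S be a scheme, X a commutative S-group scheme which is etale and separated over S (hence locally
of finite presentation), and P a commutative S-group scheme of finite presentation over S all of
whose fibres are connected. Then every homomorphism of S-group schemes from P to X is trivial (it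
factors through the unit section). -/
theorem result {S : Scheme.{u}} (P X : Over S)
    [GrpObj P] [IsCommMonObj P] [GrpObj X] [IsCommMonObj X]
    [Etale X.hom] [IsSeparated X.hom]
    [QuasiCompact P.hom] [QuasiSeparated P.hom] [LocallyOfFinitePresentation P.hom]
    (hP : ∀ s : S, ConnectedSpace ↥(P.hom.fiber s))
    (f : P ⟶ X) [IsMonHom f] : f = 1 := by
  -- the unit sections
  obtain ⟨eX, heX⟩ : ∃ eX : S ⟶ X.left, eX = η[X].left := ⟨_, rfl⟩
  obtain ⟨eP, heP⟩ : ∃ eP : S ⟶ P.left, eP = η[P].left := ⟨_, rfl⟩
  have heXπ : eX ≫ X.hom = 𝟙 S := by rw [heX]; exact Over.w η[X]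
  have hePπ : eP ≫ P.hom = 𝟙 S := by rw [heP]; exact Over.w η[P]
  have hePf : eP ≫ f.left = eX := by
    rw [heP, heX, ← Over.comp_left, IsMonHom.one_hom]
  have hoi : IsOpenImmersion eX := isOpenImmersion_of_section eX X.hom heXπ
  have hci : IsClosedImmersion eX := isClosedImmersion_of_section eX X.hom heXπ
  -- the clopen subset
  have hWclopen : IsClopen (f.left ⁻¹' Set.range eX) :=
    IsClopen.preimage ⟨eX.isClosedEmbedding.isClosed_range, eX.isOpenEmbedding.isOpen_range⟩
      f.left.continuous
  have hWuniv : f.left ⁻¹' Set.range eX = Set.univ := by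
    apply eq_univ_of_isClopen_of_fibres P.hom hP _ hWclopen
    intro s
    refine ⟨eP s, ?_, ?_⟩
    · rw [← Scheme.Hom.comp_apply, hePπ]
      rfl
    · refine ⟨s, ?_⟩
      rw [← hePf, Scheme.Hom.comp_apply]
  have hrange : Set.range f.left ⊆ Set.range eX := by
    rintro _ ⟨x, rfl⟩
    have : x ∈ f.left ⁻¹' Set.range eX := by rw [hWuniv]; trivial
    exact this
  -- factor through the unit section
  have hfac : IsOpenImmersion.lift eX f.left hrange ≫ eX = f.left := IsOpenImmersion.lift_fac _ _ _
  have hlift : IsOpenImmersion.lift eX f.left hrange = P.hom := by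
    have h1 : IsOpenImmersion.lift eX f.left hrange =
        (IsOpenImmersion.lift eX f.left hrange ≫ eX) ≫ X.hom := by
      rw [Category.assoc, heXπ, Category.comp_id]
    rw [h1, hfac]
    exact Over.w f
  rw [Hom.one_def]
  apply Over.OverMorphism.ext
  rw [Over.comp_left, ← hfac, hlift, ← heX]
  rfl

end Groth.Agent.S19288
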