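import Groth.Statements.S19322
import Mathlib
-- import your own Groth.Agent.* helpers here

set_option autoImplicit false
universe v u
open CategoryTheory CategoryTheory.Limits
open SpSeq

namespace Groth.Agent.S19322

section aux

variable {K : Type u} [Field K]

/-- The homology of a short complex of vector spaces with finite-dimensional middle term is
finite-dimensional of dimension at most that of the middle term, with equality only if both maps
vanish. -/
theorem finrank_homology_le (S : ShortComplex (ModuleCat.{v} K)) [Module.Finite K S.X₂] :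
    Module.Finite K S.homology ∧ Module.finrank K S.homology ≤ Module.finrank K S.X₂ ∧
      (Module.finrank K S.homology = Module.finrank K S.X₂ → S.f = 0 ∧ S.g = 0) := by
  have hi : Function.Injective S.iCycles.hom := (ModuleCat.mono_iff_injective _).mp inferInstance
  have hπ : Function.Surjective S.homologyπ.hom := (ModuleCat.epi_iff_surjective _).mp inferInstance
  have hfc : Module.Finite K S.cycles := Module.Finite.of_injective S.iCycles.hom hi
  have hfh : Module.Finite K S.homology := Module.Finite.of_surjective S.homologyπ.hom hπ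
  have h1 : Module.finrank K S.cycles ≤ Module.finrank K S.X₂ :=
    LinearMap.finrank_le_finrank_of_injective hi
  have h2 : Module.finrank K S.homology ≤ Module.finrank K S.cycles :=
    LinearMap.finrank_le_finrank_of_surjective hπ
  refine ⟨hfh, h2.trans h1, fun heq => ?_⟩
  have e1 : Module.finrank K S.cycles = Module.finrank K S.X₂ := by omega
  have e2 : Module.finrank K S.homology = Module.finrank K S.cycles := by omega
  have hisurj : Function.Surjective S.iCycles.hom :=
    (LinearMap.injective_iff_surjective_of_finrank_eq_finrank e1).mp hi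
  have hπinj : Function.Injective S.homologyπ.hom :=
    (LinearMap.injective_iff_surjective_of_finrank_eq_finrank e2.symm).mpr hπ
  have : Epi S.iCycles := (ModuleCat.epi_iff_surjective _).mpr hisurj
  have : Mono S.homologyπ := (ModuleCat.mono_iff_injective _).mpr hπinj
  have hg : S.g = 0 := by
    rw [← cancel_epi S.iCycles, S.iCycles_g, comp_zero]
  have ht : S.toCycles = 0 := by
    rw [← cancel_mono S.homologyπ, S.toCycles_comp_homologyπ, zero_comp]
  have hf : S.f = 0 := by
    rw [← S.toCycles_i, ht, zero_comp]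
  exact ⟨hf, hg⟩

/-- One step in the pages of a spectral sequence of vector spaces: dimensions do not increase, and
stay the same only if the two differentials at the position vanish. -/
theorem page_step {r₀ : ℤ} (E : CohomologicalSpectralSequence (ModuleCat.{v} K) r₀) (pq : ℤ × ℤ)
    (r r' : ℤ) (hrr' : r + 1 = r') (hr : r₀ ≤ r) (hr' : r₀ ≤ r')
    (hfd : Module.Finite K ((E.page r hr).X pq)) :
    Module.Finite K ((E.page r' hr').X pq) ∧
    Module.finrank K ((E.page r' hr').X pq) ≤ Module.finrank K ((E.page r hr).X pq) ∧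
    (Module.finrank K ((E.page r' hr').X pq) = Module.finrank K ((E.page r hr).X pq) →
      (E.page r hr).d (pq - (r, 1 - r)) pq = 0 ∧ (E.page r hr).d pq (pq + (r, 1 - r)) = 0) := by
  have hfd' : Module.Finite K ((E.page r hr).sc pq).X₂ := hfd
  obtain ⟨h1, h2, h3⟩ := finrank_homology_le ((E.page r hr).sc pq)
  let e : ((E.page r hr).sc pq).homology ≃ₗ[K] (E.page r' hr').X pq :=
    (E.iso r r' pq hrr' hr).toLinearEquiv
  have hprev : (ComplexShape.up' ((r, 1 - r) : ℤ × ℤ)).prev pq = pq - (r, 1 - r) :=
    (ComplexShape.up' ((r, 1 - r) : ℤ × ℤ)).prev_eq' (sub_add_cancel pq ((r, 1 - r) : ℤ × ℤ))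
  have hnext : (ComplexShape.up' ((r, 1 - r) : ℤ × ℤ)).next pq = pq + (r, 1 - r) :=
    (ComplexShape.up' ((r, 1 - r) : ℤ × ℤ)).next_eq' rfl
  refine ⟨Module.Finite.equiv e, ?_, ?_⟩
  · rw [← e.finrank_eq]
    exact h2
  · intro heq
    rw [← e.finrank_eq] at heq
    obtain ⟨hf, hg⟩ := h3 heq
    constructor
    · rw [← hprev]
      exact hf
    · rw [← hnext]
      exact hg

theorem finite_page {r₀ : ℤ} (E : CohomologicalSpectralSequence (ModuleCat.{v} K) r₀) (pq : ℤ × ℤ)
    (hfd : Module.Finite K ((E.page r₀ le_rfl).X pq)) (r : ℤ) (hr : r₀ ≤ r) :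
    Module.Finite K ((E.page r hr).X pq) := by
  induction r, hr using Int.leInduction with
  | base => exact hfd
  | succ r hr ih => exact (page_step E pq r (r + 1) rfl hr (by omega) ih).1

theorem finrank_page_anti {r₀ : ℤ} (E : CohomologicalSpectralSequence (ModuleCat.{v} K) r₀)
    (pq : ℤ × ℤ) (hfd : Module.Finite K ((E.page r₀ le_rfl).X pq)) (r : ℤ) (hr : r₀ ≤ r)
    (r' : ℤ) (hrr' : r ≤ r') :
    Module.finrank K ((E.page r' (hr.trans hrr')).X pq) ≤ Module.finrank K ((E.page r hr).X pq) := by
  induction r', hrr' using Int.leInduction with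
  | base => exact le_rfl
  | succ r' hrr' ih =>
    exact ((page_step E pq r' (r' + 1) rfl (hr.trans hrr') (by omega)
      (finite_page E pq hfd r' (hr.trans hrr'))).2.1).trans ih

/-- If the dimension at a position on a page from which it is stationary is still the dimension on
the first page, the position is stationary from the first page on. -/
theorem stationaryAt_of_finrank_eq {r₀ : ℤ} (E : CohomologicalSpectralSequence (ModuleCat.{v} K) r₀)
    (pq : ℤ × ℤ) (hfd : Module.Finite K ((E.page r₀ le_rfl).X pq)) (R : ℤ) (hR : r₀ ≤ R)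
    (hstat : StationaryAt E pq R)
    (heq : Module.finrank K ((E.page r₀ le_rfl).X pq) ≤ Module.finrank K ((E.page R hR).X pq)) :
    StationaryAt E pq r₀ := by
  refine ⟨le_rfl, fun r' h₀ _ => ?_⟩
  by_cases hrR : R ≤ r'
  · exact hstat.2 r' h₀ hrR
  · have hstep := page_step E pq r' (r' + 1) rfl h₀ (by omega) (finite_page E pq hfd r' h₀)
    apply hstep.2.2
    apply le_antisymm hstep.2.1
    have h1 := finrank_page_anti E pq hfd r₀ le_rfl r' h₀
    have h2 := finrank_page_anti E pq hfd (r' + 1) (by omega) R (by omega)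
    omega

end aux

section fil

variable {K : Type u} [Field K] {X : ModuleCat.{v} K}

/-- The dimension of a subobject. -/
noncomputable def dimSub (S : Subobject X) : ℕ := Module.finrank K (S : ModuleCat.{v} K)

theorem finite_sub [Module.Finite K X] (S : Subobject X) : Module.Finite K (S : ModuleCat.{v} K) :=
  Module.Finite.of_injective S.arrow.hom ((ModuleCat.mono_iff_injective _).mp inferInstance)

theorem finrank_subquot [Module.Finite K X] (Z B : Subobject X) (h : B ≤ Z) :
    Module.finrank K (SpSeq.subquot Z B h : ModuleCat.{v} K) + dimSub B = dimSub Z := by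
  unfold SpSeq.subquot dimSub
  have hfZ := finite_sub Z
  have hinj : Function.Injective (B.ofLE Z h).hom :=
    (ModuleCat.mono_iff_injective _).mp inferInstance
  let e := (ModuleCat.cokernelIsoRangeQuotient (B.ofLE Z h)).toLinearEquiv
  rw [e.finrank_eq]
  have h1 := Submodule.finrank_quotient_add_finrank (LinearMap.range (B.ofLE Z h).hom)
  rw [LinearMap.finrank_range_of_inj hinj] at h1
  exact h1

theorem dimSub_top (S : Subobject X) (h : S = ⊤) : dimSub S = Module.finrank K X := by
  have : IsIso S.arrow := (Subobject.isIso_arrow_iff_eq_top S).mpr h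
  exact (asIso S.arrow).toLinearEquiv.finrank_eq

theorem dimSub_bot (S : Subobject X) (h : S = ⊥) : dimSub S = 0 := by
  have hz : IsZero (S : ModuleCat.{v} K) :=
    IsZero.of_iso (isZero_zero _) (Subobject.isoOfEq _ _ h ≪≫ Subobject.botCoeIsoZero)
  have := ModuleCat.subsingleton_of_isZero hz
  exact Module.finrank_zero_of_subsingleton

/-- Telescoping the dimensions of the graded pieces of a decreasing filtration. -/
theorem sum_finrank_grPiece [Module.Finite K X] (F : ℤ → Subobject X) (hF : Antitone F) (lo hi : ℤ)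
    (h : lo ≤ hi) :
    (∑ p ∈ Finset.Ico lo hi, Module.finrank K (SpSeq.grPiece F hF p : ModuleCat.{v} K)) + dimSub (F hi) =
      dimSub (F lo) := by
  induction hi, h using Int.leInduction with
  | base => simp
  | succ hi h ih =>
    rw [← Finset.insert_Ico_right_eq_Ico_add_one h, Finset.sum_insert (by simp), ← ih]
    have h1 := finrank_subquot (F hi) (F (hi + 1)) (hF (Int.le_add_one le_rfl))
    unfold SpSeq.grPiece
    omega

/-- The dimension of a finitely filtered vector space is the sum of the dimensions of the graded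
pieces. -/
theorem finrank_eq_sum_grPiece [Module.Finite K X] (F : ℤ → Subobject X) (hF : Antitone F)
    (a₀ b₀ : ℤ) (ha : F a₀ = ⊤) (hb : F b₀ = ⊥) (lo hi : ℤ) (hlo : lo ≤ a₀) (hhi : b₀ ≤ hi)
    (h : lo ≤ hi) :
    ∑ p ∈ Finset.Ico lo hi, Module.finrank K (SpSeq.grPiece F hF p : ModuleCat.{v} K) = Module.finrank K X := by
  have h1 := sum_finrank_grPiece F hF lo hi h
  have htop : F lo = ⊤ := top_le_iff.mp (ha ▸ hF hlo)
  have hbot : F hi = ⊥ := le_bot_iff.mp (hb ▸ hF hhi)
  rw [dimSub_top _ htop, dimSub_bot _ hbot] at h1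
  omega

end fil

/-- Let K be a field and E a cohomological spectral sequence of K-vector spaces, pages from r₀,
concentrated in the first quadrant on page r₀ and with all terms of page r₀ finite-dimensional, and
let H be abutment data for E whose filtration in degree n is finite, H n finite-dimensional. If the
dimensions of the page-r₀ terms E^{s, n-s}, 0 ≤ s ≤ n, add up to the dimension of H n, then every
position of total degree n is stationary from page r₀ on: all differentials into and out of it
vanish on every page. (The printed statement takes r₀ a positive integer and n ≥ 0; neither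
restriction is needed.) -/
theorem result
    {K : Type u} [Field K] {r₀ : ℤ}
    (E : CohomologicalSpectralSequence (ModuleCat.{v} K) r₀) (H : ℤ → ModuleCat.{v} K)
    (a : SpSeq.Abutment E H) (n : ℤ) (hfin : a.IsFinite n)
    (hquad : ∀ pq : ℤ × ℤ, pq.1 < 0 ∨ pq.2 < 0 → IsZero ((E.page r₀ le_rfl).X pq))
    (hfd : ∀ pq : ℤ × ℤ, Module.Finite K ((E.page r₀ le_rfl).X pq))
    (hH : Module.Finite K (H n))
    (hsum : ∑ s ∈ Finset.Icc (0 : ℤ) n, Module.finrank K ((E.page r₀ le_rfl).X (s, n - s)) =
      Module.finrank K (H n)) :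
    ∀ s : ℤ, SpSeq.StationaryAt E (s, n - s) r₀ := by
  have hHfin : Module.Finite K (H n) := hH
  obtain ⟨⟨a₀, ha⟩, ⟨b₀, hb⟩⟩ := hfin
  have ha' : a.fil n a₀ = ⊤ := ha
  have hb' : a.fil n b₀ = ⊥ := hb
  -- the limit terms are the graded pieces
  have hβ : ∀ s : ℤ, Module.finrank K ((E.page (a.rk (s, n - s)) (a.stat (s, n - s)).1).X (s, n - s)) =
      Module.finrank K (grPiece (a.fil n) (a.anti n) s : ModuleCat.{v} K) := by
    intro s
    have key : ∀ (m : ℤ) (_ : m = n),
        Module.finrank K (grPiece (a.fil m) (a.anti m) s : ModuleCat.{v} K) =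
          Module.finrank K (grPiece (a.fil n) (a.anti n) s : ModuleCat.{v} K) := by
      rintro m rfl
      rfl
    rw [← key (s + (n - s)) (by ring)]
    exact (a.β (s, n - s)).toLinearEquiv.finrank_eq
  have hle : ∀ s : ℤ, Module.finrank K ((E.page (a.rk (s, n - s)) (a.stat (s, n - s)).1).X (s, n - s)) ≤
      Module.finrank K ((E.page r₀ le_rfl).X (s, n - s)) := fun s =>
    finrank_page_anti E _ (hfd _) r₀ le_rfl (a.rk _) (a.stat _).1
  have hzero : ∀ s : ℤ, s ∉ Finset.Icc (0 : ℤ) n →
      Module.finrank K ((E.page r₀ le_rfl).X (s, n - s)) = 0 := by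
    intro s hs
    have hz : IsZero ((E.page r₀ le_rfl).X (s, n - s)) := hquad _ (by
      rw [Finset.mem_Icc] at hs
      simp only
      omega)
    have := ModuleCat.subsingleton_of_isZero hz
    exact Module.finrank_zero_of_subsingleton
  obtain ⟨lo, hlo⟩ : ∃ lo : ℤ, lo = min a₀ 0 := ⟨_, rfl⟩
  obtain ⟨hi, hhi⟩ : ∃ hi : ℤ, hi = max (max b₀ (n + 1)) lo := ⟨_, rfl⟩
  have hsum1 := finrank_eq_sum_grPiece (a.fil n) (a.anti n) a₀ b₀ ha' hb' lo hi
    (by omega) (by omega) (by omega)
  have hsub : Finset.Icc (0 : ℤ) n ⊆ Finset.Ico lo hi := by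
    intro s hs
    rw [Finset.mem_Icc] at hs
    rw [Finset.mem_Ico]
    omega
  have hsum2 : ∑ s ∈ Finset.Ico lo hi, Module.finrank K ((E.page r₀ le_rfl).X (s, n - s)) =
      Module.finrank K (H n) := by
    rw [← hsum]
    exact (Finset.sum_subset hsub (fun s _ hs => hzero s hs)).symm
  have hsum3 : ∑ s ∈ Finset.Ico lo hi,
      Module.finrank K ((E.page (a.rk (s, n - s)) (a.stat (s, n - s)).1).X (s, n - s)) =
      ∑ s ∈ Finset.Ico lo hi, Module.finrank K ((E.page r₀ le_rfl).X (s, n - s)) := by
    rw [hsum2, ← hsum1]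
    exact Finset.sum_congr rfl (fun s _ => hβ s)
  have heq := (Finset.sum_eq_sum_iff_of_le (fun s _ => hle s)).mp hsum3
  intro s
  apply stationaryAt_of_finrank_eq E (s, n - s) (hfd _) (a.rk _) (a.stat _).1 (a.stat _)
  by_cases hs : s ∈ Finset.Ico lo hi
  · exact (heq s hs).ge
  · have hs' : s ∉ Finset.Icc (0 : ℤ) n := fun h => hs (hsub h)
    rw [hzero s hs']
    exact Nat.zero_le _

end Groth.Agent.S19322
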