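import Groth.Statements.S19323
-- import your own Groth.Agent.* helpers here

set_option autoImplicit false
universe v u
open CategoryTheory CategoryTheory.Limits
open SpSeq

namespace Groth.Agent.S19323

section aux

variable {C : Type u} [Category.{v} C] [Abelian C] {ι : Type*} {c : ComplexShape ι}

/-- If the differential of `K` arriving at `i` vanishes and `f.f i` is a monomorphism, then the map induced
by `f` on homology at `i` is a monomorphism. -/
theorem mono_homologyMap_of_mono {K L : HomologicalComplex C c} (f : K ⟶ L) (i : ι)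
    (hK : K.d (c.prev i) i = 0) (hf : Mono (f.f i))
    (hL : L.d (c.prev i) i = 0) :
    Mono (HomologicalComplex.homologyMap f i) := by
  have : IsIso (K.pOpcycles i) := K.isIso_pOpcycles (c.prev i) i rfl hK
  have : IsIso (L.pOpcycles i) := L.isIso_pOpcycles (c.prev i) i rfl hL
  have h1 : HomologicalComplex.opcyclesMap f i =
      inv (K.pOpcycles i) ≫ f.f i ≫ L.pOpcycles i := by
    rw [← HomologicalComplex.p_opcyclesMap, IsIso.inv_hom_id_assoc]
  have : Mono (HomologicalComplex.opcyclesMap f i) := by
    rw [h1]
    infer_instance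
  have : Mono (HomologicalComplex.homologyMap f i ≫ L.homologyι i) := by
    rw [HomologicalComplex.homologyι_naturality]
    infer_instance
  exact mono_of_mono _ (L.homologyι i)

end aux

/-- In an abelian category let E and E' be first-quadrant E₂ cohomological spectral sequences and φ : E
⟶ E' a morphism of spectral sequences such that (i) every differential of E' leaving a position
whose first coordinate is nonzero vanishes, (ii) on every page the map φ at each position followed
by the outgoing differential of E' is zero, and (iii) φ is a monomorphism at every position of page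
2. Then E degenerates at page 2. -/
theorem result
    {C : Type u} [Category.{v} C] [Abelian C]
    (E E' : E₂CohomologicalSpectralSequence C) (φ : E ⟶ E')
    (hE : ∀ pq : ℤ × ℤ, pq.1 < 0 ∨ pq.2 < 0 → IsZero ((E.page 2 le_rfl).X pq))
    (hE' : ∀ pq : ℤ × ℤ, pq.1 < 0 ∨ pq.2 < 0 → IsZero ((E'.page 2 le_rfl).X pq))
    (hd' : ∀ (r : ℤ) (hr : 2 ≤ r) (pq : ℤ × ℤ), pq.1 ≠ 0 →
      (E'.page r hr).d pq (pq + (r, 1 - r)) = 0)
    (hφd : ∀ (r : ℤ) (hr : 2 ≤ r) (pq : ℤ × ℤ),
      (φ.hom r hr).f pq ≫ (E'.page r hr).d pq (pq + (r, 1 - r)) = 0)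
    (hmono : ∀ pq : ℤ × ℤ, Mono ((φ.hom 2 le_rfl).f pq)) :
    SpSeq.Degenerates E 2 := by
  -- the invariant: on page `r`, the objects in negative columns vanish and `φ` is a monomorphism
  -- at the columns `≥ r`
  have key : ∀ (r : ℤ) (hr : 2 ≤ r),
      (∀ pq : ℤ × ℤ, pq.1 < 0 → IsZero ((E.page r hr).X pq)) ∧
      (∀ pq : ℤ × ℤ, r ≤ pq.1 → Mono ((φ.hom r hr).f pq)) := by
    intro r hr
    induction r, hr using Int.leInduction with
    | base =>
      exact ⟨fun pq h => hE pq (Or.inl h), fun pq _ => hmono pq⟩
    | succ r hr ih =>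
      obtain ⟨ih1, ih2⟩ := ih
      -- all differentials of page `r` of `E` vanish
      have hd : ∀ pq pq' : ℤ × ℤ, (E.page r hr).d pq pq' = 0 := by
        intro pq pq'
        by_cases hrel : (ComplexShape.up' ((r, 1 - r) : ℤ × ℤ)).Rel pq pq'
        · have hpq' : pq + (r, 1 - r) = pq' := hrel
          subst hpq'
          by_cases hneg : pq.1 < 0
          · exact (ih1 pq hneg).eq_of_src _ _
          · have : Mono ((φ.hom r hr).f (pq + (r, 1 - r))) := ih2 _ (by
              simp only [Prod.fst_add]; omega)
            rw [← cancel_mono ((φ.hom r hr).f (pq + (r, 1 - r))), zero_comp,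
              ← (φ.hom r hr).comm pq (pq + (r, 1 - r))]
            exact hφd r hr pq
        · exact (E.page r hr).shape _ _ hrel
      refine ⟨fun pq h => ?_, fun pq h => ?_⟩
      · refine IsZero.of_iso ?_ (E.iso r (r + 1) pq rfl hr).symm
        exact ShortComplex.isZero_homology_of_isZero_X₂ _ (ih1 pq h)
      · have hcomm := φ.comm r (r + 1) pq rfl hr
        have hprev : (ComplexShape.up' ((r, 1 - r) : ℤ × ℤ)).prev pq = pq - (r, 1 - r) :=
          (ComplexShape.up' ((r, 1 - r) : ℤ × ℤ)).prev_eq' (sub_add_cancel pq ((r, 1 - r) : ℤ × ℤ))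
        have : Mono (HomologicalComplex.homologyMap (φ.hom r hr) pq) := by
          apply mono_homologyMap_of_mono
          · exact hd _ _
          · exact ih2 pq (by omega)
          · rw [hprev]
            have := hd' r hr (pq - (r, 1 - r)) (by simp only [Prod.fst_sub]; omega)
            rwa [sub_add_cancel] at this
        have : (φ.hom (r + 1) (by omega)).f pq =
            (E.iso r (r + 1) pq rfl hr).inv ≫ HomologicalComplex.homologyMap (φ.hom r hr) pq ≫
              (E'.iso r (r + 1) pq rfl hr).hom := by
          rw [hcomm, Iso.inv_hom_id_assoc]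
        rw [this]
        infer_instance
  refine ⟨le_rfl, fun r' h₀ _ pq pq' => ?_⟩
  obtain ⟨ih1, ih2⟩ := key r' h₀
  by_cases hrel : (ComplexShape.up' ((r', 1 - r') : ℤ × ℤ)).Rel pq pq'
  · have hpq' : pq + (r', 1 - r') = pq' := hrel
    subst hpq'
    by_cases hneg : pq.1 < 0
    · exact (ih1 pq hneg).eq_of_src _ _
    · have : Mono ((φ.hom r' h₀).f (pq + (r', 1 - r'))) := ih2 _ (by
        simp only [Prod.fst_add]; omega)
      rw [← cancel_mono ((φ.hom r' h₀).f (pq + (r', 1 - r'))), zero_comp,
        ← (φ.hom r' h₀).comm pq (pq + (r', 1 - r'))]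
      exact hφd r' h₀ pq
  · exact (E.page r' h₀).shape _ _ hrel

end Groth.Agent.S19323
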