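import Groth.Statements.S19329
import Groth.Agent.Lib.Helper20EffCartier

set_option autoImplicit false
universe u
open CategoryTheory CategoryTheory.Limits AlgebraicGeometry TopologicalSpace
open ModPair

namespace Groth.Agent.S19329

open Groth.Agent.Lib.Helper20

section algebra

variable {R : Type*} [CommRing R]

theorem mem_nzd_of_span_eq {x i : R} (hi : i ∈ nonZeroDivisors R)
    (h : Ideal.span {x} = Ideal.span {i}) : x ∈ nonZeroDivisors R := by
  have h0 : i ∈ Ideal.span {x} := h ▸ Ideal.subset_span rfl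
  obtain ⟨d, hd⟩ := Ideal.mem_span_singleton'.mp h0
  rw [← hd] at hi
  exact (mul_mem_nonZeroDivisors.mp hi).2

theorem isUnit_of_span_eq {s t a : R} (hs : s ∈ nonZeroDivisors R) (hsta : s = t * a)
    (h : Ideal.span {s} = Ideal.span {t}) : IsUnit a := by
  have h0 : t ∈ Ideal.span {s} := h ▸ Ideal.subset_span rfl
  obtain ⟨c, hc⟩ := Ideal.mem_span_singleton'.mp h0
  have h1 : s * (c * a) = s * 1 := by
    rw [mul_one]
    conv_rhs => rw [hsta, ← hc]
    ring
  have h2 : c * a = 1 := (mul_cancel_left_mem_nonZeroDivisors hs).mp h1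
  exact ⟨⟨a, c, by rw [mul_comm]; exact h2, h2⟩, rfl⟩

end algebra

variable {Y : Scheme.{u}}

/-- The open locus where two ideal sheaves agree: the union of the affine opens on which their
ideals coincide. -/
noncomputable def eqLocus (J K : Y.IdealSheafData) : Y.Opens :=
  ⨆ V : {V : Y.affineOpens // J.ideal V = K.ideal V}, V.1.1

theorem mem_eqLocus_iff {J K : Y.IdealSheafData} {y : Y} :
    y ∈ eqLocus J K ↔ ∃ V : Y.affineOpens, y ∈ V.1 ∧ J.ideal V = K.ideal V := by
  unfold eqLocus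
  rw [Opens.mem_iSup]
  constructor
  · rintro ⟨⟨V, hV⟩, hy⟩
    exact ⟨V, hy, hV⟩
  · rintro ⟨V, hy, hV⟩
    exact ⟨⟨V, hV⟩, hy⟩

/-- Local description of the agreement locus: where `J = (s)`, `K = (t)` and `s = t a`, the two
ideal sheaves agree exactly on the basic open of `a`. -/
theorem mem_eqLocus_iff_mem_basicOpen {J K : Y.IdealSheafData} (hJ : BlowUp.IsEffCartierIdeal J)
    (V : Y.affineOpens) (s t a : Γ(Y, V.1)) (hsta : s = t * a)
    (hJV : J.ideal V = Ideal.span {s}) (hKV : K.ideal V = Ideal.span {t}) (y : Y)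
    (hy : y ∈ V.1) :
    y ∈ eqLocus J K ↔ y ∈ Y.basicOpen a := by
  rw [mem_eqLocus_iff]
  constructor
  · rintro ⟨V', hyV', hV'⟩
    obtain ⟨U, hU, hyU, hUle, s'', hs'', hJU⟩ :=
      EffCartier.exists_le_of_isEffCartierIdeal hJ y (V.1 ⊓ V'.1) ⟨hy, hyV'⟩
    have hUV : (⟨U, hU⟩ : Y.affineOpens) ≤ V := hUle.trans inf_le_left
    have hUV' : (⟨U, hU⟩ : Y.affineOpens) ≤ V' := hUle.trans inf_le_right
    have h1 : J.ideal ⟨U, hU⟩ = Ideal.span {(Y.presheaf.map (homOfLE hUV).op).hom s} := by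
      rw [← J.map_ideal hUV, hJV, Ideal.map_span, Set.image_singleton]
    have h2 : K.ideal ⟨U, hU⟩ = Ideal.span {(Y.presheaf.map (homOfLE hUV).op).hom t} := by
      rw [← K.map_ideal hUV, hKV, Ideal.map_span, Set.image_singleton]
    have h3 : J.ideal ⟨U, hU⟩ = K.ideal ⟨U, hU⟩ := by
      rw [← J.map_ideal hUV', ← K.map_ideal hUV', hV']
    have hρs : (Y.presheaf.map (homOfLE hUV).op).hom s ∈ nonZeroDivisors _ :=
      mem_nzd_of_span_eq hs'' (h1.symm.trans hJU)
    have hunit : IsUnit ((Y.presheaf.map (homOfLE hUV).op).hom a) :=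
      isUnit_of_span_eq hρs (by rw [hsta, map_mul]) (h1.symm.trans (h3.trans h2))
    have h4 : Y.basicOpen ((Y.presheaf.map (homOfLE hUV).op).hom a) = U :=
      Scheme.basicOpen_of_isUnit _ hunit
    have h5 : Y.basicOpen ((Y.presheaf.map (homOfLE hUV).op).hom a) = U ⊓ Y.basicOpen a :=
      Scheme.basicOpen_res _ _ _
    have h6 : y ∈ U ⊓ Y.basicOpen a := by
      rw [← h5, h4]
      exact hyU
    exact h6.2
  · intro hya
    refine ⟨Y.affineBasicOpen a, hya, ?_⟩
    have hle : Y.affineBasicOpen a ≤ V := Y.basicOpen_le a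
    rw [← J.map_ideal hle, ← K.map_ideal hle, hJV, hKV, Ideal.map_span, Ideal.map_span,
      Set.image_singleton, Set.image_singleton, hsta, map_mul]
    have hunit : IsUnit ((Y.presheaf.map (homOfLE hle).op).hom a) :=
      RingedSpace.isUnit_res_basicOpen _ a
    exact Ideal.span_singleton_mul_right_unit hunit _

/-- A morphism from an effective Cartier pair that is minimal for both `J` and `K` lands in the
agreement locus (local form). -/
theorem map_mem_basicOpen {X : Scheme.{u}} (f : X ⟶ Y) {I : X.IdealSheafData}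
    (hI : BlowUp.IsEffCartierIdeal I) {J K : Y.IdealSheafData} (hIJ : I = J.comap f)
    (hIK : I = K.comap f) (V : Y.affineOpens) (s t a : Γ(Y, V.1)) (hsta : s = t * a)
    (hJV : J.ideal V = Ideal.span {s}) (hKV : K.ideal V = Ideal.span {t}) (x : X)
    (hx : f.base x ∈ V.1) :
    f.base x ∈ Y.basicOpen a := by
  obtain ⟨W, hW, hxW, hWle, i, hi, hIW⟩ :=
    EffCartier.exists_le_of_isEffCartierIdeal hI x (f ⁻¹ᵁ V.1) hx
  have h1 : I.ideal ⟨W, hW⟩ = Ideal.span {(f.appLE V.1 W hWle).hom s} := by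
    conv_lhs => rw [hIJ]
    rw [EffCartier.ideal_comap_eq_map f J hW V.2 hWle, hJV, Ideal.map_span, Set.image_singleton]
  have h2 : I.ideal ⟨W, hW⟩ = Ideal.span {(f.appLE V.1 W hWle).hom t} := by
    conv_lhs => rw [hIK]
    rw [EffCartier.ideal_comap_eq_map f K hW V.2 hWle, hKV, Ideal.map_span, Set.image_singleton]
  have hφs : (f.appLE V.1 W hWle).hom s ∈ nonZeroDivisors _ :=
    mem_nzd_of_span_eq hi (h1.symm.trans hIW)
  have hunit : IsUnit ((f.appLE V.1 W hWle).hom a) :=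
    isUnit_of_span_eq hφs (by rw [hsta, map_mul]) (h1.symm.trans h2)
  have h4 : X.basicOpen ((f.appLE V.1 W hWle).hom a) = W := Scheme.basicOpen_of_isUnit _ hunit
  have h5 : X.basicOpen ((f.appLE V.1 W hWle).hom a) = W ⊓ f ⁻¹ᵁ (Y.basicOpen a) :=
    Scheme.basicOpen_appLE f W V.1 hWle a
  have h6 : x ∈ W ⊓ f ⁻¹ᵁ (Y.basicOpen a) := by
    rw [← h5, h4]
    exact hxW
  exact h6.2

/-- The two ideal sheaves agree after restriction to their agreement locus. -/
theorem comap_ι_eqLocus (J K : Y.IdealSheafData) :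
    J.comap (eqLocus J K).ι = K.comap (eqLocus J K).ι := by
  set U₀ := eqLocus J K with hU₀
  refine Scheme.IdealSheafData.ext_of_iSup_eq_top
    (ι := {W : U₀.toScheme.affineOpens //
      J.ideal ⟨U₀.ι ''ᵁ W.1, W.2.image_of_isOpenImmersion U₀.ι⟩ =
        K.ideal ⟨U₀.ι ''ᵁ W.1, W.2.image_of_isOpenImmersion U₀.ι⟩})
    (fun W => W.1) ?_ ?_
  · rw [eq_top_iff]
    rintro ⟨u, hu⟩ -
    obtain ⟨V, huV, hV⟩ := mem_eqLocus_iff.mp hu
    have huV' : (⟨u, hu⟩ : U₀.toScheme) ∈ U₀.ι ⁻¹ᵁ V.1 := huV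
    obtain ⟨W, hW, huW, hWle⟩ := exists_isAffineOpen_mem_and_subset huV'
    have hle : (⟨U₀.ι ''ᵁ W, hW.image_of_isOpenImmersion U₀.ι⟩ : Y.affineOpens) ≤ V := by
      rintro _ ⟨w, hw, rfl⟩
      exact hWle hw
    refine Opens.mem_iSup.mpr ⟨⟨⟨W, hW⟩, ?_⟩, huW⟩
    rw [← J.map_ideal hle, ← K.map_ideal hle, hV]
  · rintro ⟨W, hW⟩
    rw [Scheme.IdealSheafData.ideal_comap_of_isOpenImmersion,
      Scheme.IdealSheafData.ideal_comap_of_isOpenImmersion, hW]

set_option backward.isDefEq.respectTransparency.types false in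
/-- Quasi-compactness of an open inclusion can be checked on an affine cover. -/
theorem quasiCompact_ι_of_cover {U₀ : Y.Opens} {ι : Type*} (V : ι → Y.affineOpens)
    (hcover : ⨆ i, ((V i : Y.affineOpens) : Y.Opens) = ⊤)
    (h : ∀ i, IsCompact (((V i).1 : Set Y) ∩ (U₀ : Set Y))) : QuasiCompact U₀.ι := by
  rw [HasAffineProperty.iff_of_iSup_eq_top (P := @QuasiCompact)
      (Q := fun X _ _ _ => CompactSpace X) V hcover]
  intro i
  show CompactSpace ↥(U₀.ι ⁻¹ᵁ (V i).1)
  suffices hc : IsCompact ((U₀.ι ⁻¹ᵁ (V i).1 : U₀.toScheme.Opens) : Set U₀.toScheme) from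
    isCompact_iff_compactSpace.mp hc
  rw [U₀.ι.isOpenEmbedding.isInducing.isCompact_iff]
  have himg : U₀.ι.base '' (U₀.ι ⁻¹ᵁ (V i).1 : Set U₀) = ((V i).1 : Set Y) ∩ (U₀ : Set Y) := by
    ext z
    constructor
    · rintro ⟨w, hw, rfl⟩
      exact ⟨hw, w.2⟩
    · rintro ⟨hzV, hz0⟩
      exact ⟨⟨z, hz0⟩, hzV, rfl⟩
  rw [himg]
  exact h i

/-- Let (X, I), (Y, J), (Z, K) be modulus pairs, i.e. schemes with quasi-coherent ideal sheaves of
effective Cartier divisors, and let f : X ⟶ Y and g : Y ⟶ Z satisfy the modulus conditions I ≤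
J.comap f and J ≤ K.comap g. Suppose the composite X ⟶ Z is minimal, I = K.comap (f ≫ g). Then f is
minimal, and there is an open subset U of Y whose inclusion is quasi-compact, which contains the
image of f, and such that U ⟶ Z is minimal for the modulus of Y restricted to U. -/
theorem result {X Y Z : Scheme.{u}}
    (I : X.IdealSheafData) (J : Y.IdealSheafData) (K : Z.IdealSheafData)
    (hI : BlowUp.IsEffCartierIdeal I) (hJ : BlowUp.IsEffCartierIdeal J)
    (hK : BlowUp.IsEffCartierIdeal K) (f : X ⟶ Y) (g : Y ⟶ Z)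
    (hf : ModPair.IsAmbient I J f) (hg : ModPair.IsAmbient J K g)
    (hfg : ModPair.IsMinimal I K (f ≫ g)) :
    ModPair.IsMinimal I J f ∧
      ∃ U : Y.Opens, QuasiCompact U.ι ∧ Set.range f.base ⊆ (U : Set Y) ∧
        ModPair.IsMinimal (J.comap U.ι) K (U.ι ≫ g) := by
  unfold ModPair.IsAmbient at hf hg
  unfold ModPair.IsMinimal at hfg ⊢
  have hIK' : I = (K.comap g).comap f := by rw [← Scheme.IdealSheafData.comap_comp]; exact hfg
  have hIJ : I = J.comap f := by
    apply le_antisymm hf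
    rw [hIK']
    exact Scheme.IdealSheafData.comap_mono f hg
  refine ⟨hIJ, ?_⟩
  -- local structure at every point of `Y`
  have hloc : ∀ y : Y, ∃ (V : Y.affineOpens) (s t a : Γ(Y, V.1)), y ∈ V.1 ∧ s = t * a ∧
      J.ideal V = Ideal.span {s} ∧ (K.comap g).ideal V = Ideal.span {t} := by
    intro y
    obtain ⟨W, hW, hzW, -, k, -, hKW⟩ :=
      EffCartier.exists_le_of_isEffCartierIdeal hK (g.base y) ⊤ trivial
    obtain ⟨V, hV, hyV, hVle, s, -, hJV⟩ :=
      EffCartier.exists_le_of_isEffCartierIdeal hJ y (g ⁻¹ᵁ W) hzW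
    have hKV : (K.comap g).ideal ⟨V, hV⟩ = Ideal.span {(g.appLE W V hVle).hom k} := by
      rw [EffCartier.ideal_comap_eq_map g K hV hW hVle, hKW, Ideal.map_span, Set.image_singleton]
    have hs : s ∈ (K.comap g).ideal ⟨V, hV⟩ := by
      apply hg ⟨V, hV⟩
      rw [hJV]
      exact Ideal.subset_span rfl
    rw [hKV] at hs
    obtain ⟨a, ha⟩ := Ideal.mem_span_singleton'.mp hs
    exact ⟨⟨V, hV⟩, s, (g.appLE W V hVle).hom k, a, hyV, by rw [← ha, mul_comm], hJV, hKV⟩
  choose V s t a hyV hsta hJV hKV using hloc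
  refine ⟨eqLocus J (K.comap g), ?_, ?_, ?_⟩
  · -- quasi-compactness
    have hcover : ⨆ y, ((V y : Y.affineOpens) : Y.Opens) = ⊤ := by
      rw [eq_top_iff]
      rintro y -
      exact Opens.mem_iSup.mpr ⟨y, hyV y⟩
    refine quasiCompact_ι_of_cover V hcover fun y => ?_
    have himg : ((V y).1 : Set Y) ∩ (eqLocus J (K.comap g) : Set Y) =
        (Y.basicOpen (a y) : Set Y) := by
      ext z
      constructor
      · rintro ⟨hzV, hz0⟩
        exact (mem_eqLocus_iff_mem_basicOpen hJ (V y) (s y) (t y) (a y) (hsta y) (hJV y)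
          (hKV y) _ hzV).mp hz0
      · intro hz
        have hzV : z ∈ (V y).1 := Y.basicOpen_le (a y) hz
        exact ⟨hzV, (mem_eqLocus_iff_mem_basicOpen hJ (V y) (s y) (t y) (a y) (hsta y) (hJV y)
            (hKV y) z hzV).mpr hz⟩
    rw [himg]
    exact ((V y).2.basicOpen (a y)).isCompact
  · -- the image of `f` lies in the agreement locus
    rintro _ ⟨x, rfl⟩
    have h1 := map_mem_basicOpen f hI hIJ hIK' (V (f.base x)) (s _) (t _) (a _) (hsta _) (hJV _)
      (hKV _) x (hyV _)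
    exact (mem_eqLocus_iff_mem_basicOpen hJ (V _) (s _) (t _) (a _) (hsta _) (hJV _)
      (hKV _) _ (hyV _)).mpr h1
  · rw [Scheme.IdealSheafData.comap_comp]
    exact comap_ι_eqLocus J (K.comap g)

end Groth.Agent.S19329
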