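import Groth.Statements.S19330
import Groth.Agent.R2.H95ModPairLib

set_option autoImplicit false
universe u
open CategoryTheory CategoryTheory.Limits AlgebraicGeometry TopologicalSpace
open ModPair

namespace Groth.Agent.S19330

open Groth.Agent.R2.H95.ModPairLib

/-- Let (S, I) be a modulus pair, i.e. a scheme with the quasi-coherent ideal sheaf of an effective
Cartier divisor, with interior U, and let g_i : V_i ⟶ U be a jointly surjective family of closed
immersions into the interior. Let V̄_i be the scheme-theoretic image of V_i ⟶ U ⟶ S. Then the closed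
immersions V̄_i ⟶ S are jointly surjective, the modulus restricted to each V̄_i is again the ideal
sheaf of an effective Cartier divisor (so that V̄_i ⟶ S is a minimal morphism of modulus pairs), and
the interior of V̄_i is V_i: the canonical morphism V_i ⟶ V̄_i is an open immersion whose image is
the preimage of U. -/
theorem result {S : Scheme.{u}} (I : S.IdealSheafData)
    (hI : BlowUp.IsEffCartierIdeal I) {ι : Type u} (V : ι → Scheme.{u})
    (g : ∀ i, V i ⟶ (ModPair.interior I : Scheme.{u})) [∀ i, IsClosedImmersion (g i)]
    (hsurj : ∀ u : (ModPair.interior I : Scheme.{u}), ∃ (i : ι) (v : V i), (g i).base v = u) :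
    (∀ s : S, ∃ (i : ι) (v : (g i ≫ (ModPair.interior I).ι).image),
        (g i ≫ (ModPair.interior I).ι).imageι.base v = s) ∧
      (∀ i, BlowUp.IsEffCartierIdeal (I.comap (g i ≫ (ModPair.interior I).ι).imageι)) ∧
      ∀ i, IsOpenImmersion (g i ≫ (ModPair.interior I).ι).toImage ∧
        Set.range (g i ≫ (ModPair.interior I).ι).toImage.base =
          (g i ≫ (ModPair.interior I).ι).imageι.base ⁻¹' (ModPair.interior I : Set S) := by
  have hqcU : QuasiCompact (ModPair.interior I).ι := quasiCompact_interior_ι hI
  have hqc : ∀ i, QuasiCompact (g i ≫ (ModPair.interior I).ι) := fun i => inferInstance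
  have hland : ∀ i (w : V i),
      (g i ≫ (ModPair.interior I).ι).base w ∈ ModPair.interior I := by
    intro i w
    rw [Scheme.Hom.comp_apply]
    exact ((g i).base w).2
  refine ⟨?_, ?_, ?_⟩
  · intro s
    obtain ⟨u, hu, hus⟩ := exists_specializes_of_isEffCartierIdeal hI s
    obtain ⟨i, v, hv⟩ := hsurj ⟨u, hu⟩
    refine ⟨i, ?_⟩
    have h1 : u ∈ (g i ≫ (ModPair.interior I).ι).ker.support := by
      apply (g i ≫ (ModPair.interior I).ι).range_subset_ker_support
      refine ⟨v, ?_⟩
      rw [Scheme.Hom.comp_apply, hv]
      rfl
    have h2 : s ∈ (g i ≫ (ModPair.interior I).ι).ker.support :=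
      hus.mem_closed (g i ≫ (ModPair.interior I).ι).ker.support.isClosed h1
    have h3 : s ∈ Set.range (g i ≫ (ModPair.interior I).ι).ker.subschemeι.base := by
      rw [Scheme.IdealSheafData.range_subschemeι]
      exact h2
    obtain ⟨z, hz⟩ := h3
    exact ⟨z, hz⟩
  · intro i
    exact isEffCartierIdeal_comap_imageι _ hI (hland i)
  · intro i
    have := hqc i
    refine ⟨inferInstance, ?_⟩
    apply Set.Subset.antisymm
    · rintro _ ⟨w, rfl⟩
      show (g i ≫ (ModPair.interior I).ι).imageι.base
        ((g i ≫ (ModPair.interior I).ι).toImage.base w) ∈ ModPair.interior I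
      rw [← Scheme.Hom.comp_apply, Scheme.Hom.toImage_imageι]
      exact hland i w
    · intro v hv
      have hv' : (g i ≫ (ModPair.interior I).ι).imageι.base v ∈ ModPair.interior I := hv
      have h1 : (g i ≫ (ModPair.interior I).ι).imageι.base v ∈
          (g i ≫ (ModPair.interior I).ι).ker.support := by
        rw [← SetLike.mem_coe, ← Scheme.IdealSheafData.range_subschemeι]
        exact ⟨v, rfl⟩
      rw [← SetLike.mem_coe, Scheme.Hom.support_ker] at h1
      have hrange : Set.range (g i ≫ (ModPair.interior I).ι).base =
          (ModPair.interior I).ι.base '' Set.range (g i).base := by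
        rw [Scheme.Hom.comp_base, TopCat.coe_comp, Set.range_comp]
      have hclosed : IsClosed (Set.range (g i).base) := (g i).isClosedEmbedding.isClosed_range
      have h2 : (⟨_, hv'⟩ : (ModPair.interior I : Scheme.{u})) ∈
          closure (Set.range (g i).base) := by
        rw [(ModPair.interior I).ι.isEmbedding.isInducing.closure_eq_preimage_closure_image]
        show (g i ≫ (ModPair.interior I).ι).imageι.base v ∈
          closure ((ModPair.interior I).ι.base '' Set.range (g i).base)
        rw [← hrange]
        exact h1
      rw [hclosed.closure_eq] at h2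
      obtain ⟨w, hw⟩ := h2
      refine ⟨w, ?_⟩
      apply (g i ≫ (ModPair.interior I).ι).imageι.isEmbedding.injective
      show (g i ≫ (ModPair.interior I).ι).imageι.base
        ((g i ≫ (ModPair.interior I).ι).toImage.base w) = _
      rw [← Scheme.Hom.comp_apply, Scheme.Hom.toImage_imageι, Scheme.Hom.comp_apply, hw]
      rfl

end Groth.Agent.S19330
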