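import Groth.Statements.S19336
import Groth.Agent.S18732
import Groth.Agent.R2.H32BlowSep
import Groth.Agent.R2.H92BlowExists
import Groth.Agent.Lib.Helper20BlowUp

set_option autoImplicit false
universe u
open CategoryTheory CategoryTheory.Limits AlgebraicGeometry TopologicalSpace
open ModPair

namespace Groth.Agent.S19336

open nonZeroDivisors in
/-- if a sum of ideals is generated by a nonzerodivisor `f`, the cofactors `d` with `f d` in one of the
summands generate the unit ideal -/
theorem span_cofactors_iSup_eq_top {B : Type*} [CommRing B] {κ : Type*} (A : κ → Ideal B) (f : B)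
    (hf : f ∈ B⁰) (h : ⨆ k, A k = Ideal.span {f}) :
    Ideal.span {d : B | ∃ k, f * d ∈ A k} = ⊤ := by
  have h1 : ⨆ k, A k ≤ Ideal.span {f} * Ideal.span {d : B | ∃ k, f * d ∈ A k} := by
    refine iSup_le fun k a ha => ?_
    have h2 : a ∈ Ideal.span {f} := h ▸ (le_iSup A k) ha
    obtain ⟨d, hd⟩ := Ideal.mem_span_singleton'.mp h2
    have hd' : a = f * d := by rw [← hd, mul_comm]
    rw [hd']
    exact Ideal.mul_mem_mul (Ideal.mem_span_singleton_self f)
      (Ideal.subset_span ⟨k, hd' ▸ ha⟩)
  have h3 : f ∈ Ideal.span {f} * Ideal.span {d : B | ∃ k, f * d ∈ A k} :=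
    h1 (h ▸ Ideal.mem_span_singleton_self f)
  obtain ⟨z, hz, hfz⟩ := Ideal.mem_span_singleton_mul.mp h3
  have h4 : z = 1 := by
    have : z * f = 1 * f := by rw [one_mul, mul_comm]; exact hfz
    exact (mul_cancel_right_mem_nonZeroDivisors hf).mp this
  rw [Ideal.eq_top_iff_one, ← h4]
  exact hz

open nonZeroDivisors in
/-- if a finite sum of ideal sheaves is effective Cartier, locally one of the summands is the sum -/
theorem exists_summand_eq {Y : Scheme.{u}} {κ : Type*} (A : κ → Y.IdealSheafData)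
    (hE : BlowUp.IsEffCartierIdeal (⨆ k, A k)) (y : Y) :
    ∃ (W : Y.affineOpens) (k : κ), y ∈ W.1 ∧ (A k).ideal W = (⨆ k, A k).ideal W := by
  obtain ⟨W₀, hyW₀, f, hf, hFf⟩ := hE y
  have hideal : ⨆ k, (A k).ideal W₀ = Ideal.span {f} := by
    rw [← hFf, Scheme.IdealSheafData.ideal_iSup, iSup_apply]
  have hspan := span_cofactors_iSup_eq_top (fun k => (A k).ideal W₀) f hf hideal
  have hcov := iSup_basicOpen_of_span_eq_top W₀.1 _ hspan
  have hy' : y ∈ ⨆ i ∈ {d : Γ(Y, W₀.1) | ∃ k, f * d ∈ (A k).ideal W₀}, Y.basicOpen i := by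
    rw [hcov]; exact hyW₀
  obtain ⟨d, hyd⟩ := TopologicalSpace.Opens.mem_iSup.mp hy'
  obtain ⟨⟨k, hkd⟩, hyd⟩ := TopologicalSpace.Opens.mem_iSup.mp hyd
  refine ⟨Y.affineBasicOpen d, k, hyd, le_antisymm ((le_iSup A k) _) ?_⟩
  have inst := W₀.2.isLocalization_basicOpen d
  have hdunit : IsUnit ((Y.presheaf.map (homOfLE (Y.basicOpen_le d)).op).hom d) :=
    IsLocalization.Away.algebraMap_isUnit (S := Γ(Y, Y.basicOpen d)) d
  have hF' : (⨆ k, A k).ideal (Y.affineBasicOpen d) =
      Ideal.span {(Y.presheaf.map (homOfLE (Y.basicOpen_le d)).op).hom f} := by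
    rw [← (⨆ k, A k).map_ideal_basicOpen W₀ d, hFf, Ideal.map_span, Set.image_singleton]
  have hA' : (Y.presheaf.map (homOfLE (Y.basicOpen_le d)).op).hom f ∈
      (A k).ideal (Y.affineBasicOpen d) := by
    rw [← (A k).map_ideal_basicOpen W₀ d]
    have h1 : (Y.presheaf.map (homOfLE (Y.basicOpen_le d)).op).hom (f * d) ∈
        ((A k).ideal W₀).map (Y.presheaf.map (homOfLE (Y.basicOpen_le d)).op).hom :=
      Ideal.mem_map_of_mem _ hkd
    rw [map_mul] at h1
    obtain ⟨u, hu⟩ := hdunit
    have h2 := Ideal.mul_mem_right (↑u⁻¹ : Γ(Y, Y.basicOpen d)) _ h1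
    rwa [← hu, mul_assoc, Units.mul_inv, mul_one] at h2
  rw [hF']
  exact (Ideal.span_singleton_le_iff_mem _).mpr hA'

/-- Let (S, I) be a modulus pair, i.e. a scheme S with the quasi-coherent ideal sheaf I of an effective
Cartier divisor, with S quasi-compact and quasi-separated and with interior U, and let (V_i) be a
covering of U by quasi-compact open subsets. Then there are a quasi-coherent ideal sheaf F of finite
type on S whose support is disjoint from U, a blow-up b : Y ⟶ S of S in F (an admissible blow-up)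
such that I.comap b is again the ideal sheaf of an effective Cartier divisor, and a covering of Y by
quasi-compact open subsets W_j such that each W_j ∩ b⁻¹(U) is contained in b⁻¹(V_i) for some i: the
Zariski covering of the interior extends, after an admissible blow-up, to a Zariski covering of the
total space. -/
theorem result {S : Scheme.{u}}
    [CompactSpace S] [QuasiSeparatedSpace S] (I : S.IdealSheafData)
    (hI : BlowUp.IsEffCartierIdeal I) {ι : Type u} (V : ι → S.Opens)
    (hVU : ∀ i, V i ≤ ModPair.interior I) (hVqc : ∀ i, IsCompact (V i : Set S))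
    (hcov : ModPair.interior I ≤ ⨆ i, V i) :
    ∃ (F : S.IdealSheafData) (Y : Scheme.{u}) (b : Y ⟶ S) (κ : Type u) (W : κ → Y.Opens),
      BlowUp.IsAdmissibleFor (ModPair.interior I) F ∧ BlowUp.IsBlowUp b F ∧
        BlowUp.IsEffCartierIdeal (I.comap b) ∧ (∀ k, IsCompact (W k : Set Y)) ∧
        (⨆ k, W k) = ⊤ ∧ ∀ k, ∃ i, W k ⊓ b ⁻¹ᵁ ModPair.interior I ≤ b ⁻¹ᵁ V i := by
  classical
  -- the interior is quasi-compact
  have hqc : QuasiCompact (ModPair.interior I).ι := by
    have := Groth.Agent.S18732.quasiCompact_ι I hI (𝟙 S)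
    exact this
  have hUc : IsCompact (ModPair.interior I : Set S) := by
    have h1 := (quasiCompact_iff (ModPair.interior I).ι).mp hqc Set.univ isOpen_univ isCompact_univ
    have h2 := h1.image (ModPair.interior I).ι.continuous
    rwa [Set.preimage_univ, Set.image_univ, Scheme.Opens.range_ι] at h2
  -- a finite subcover
  obtain ⟨t, ht⟩ := hUc.elim_finite_subcover (fun i => (V i : Set S)) (fun i => (V i).2)
    (fun x hx => by
      have := hcov hx
      rw [TopologicalSpace.Opens.mem_iSup] at this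
      obtain ⟨i, hi⟩ := this
      exact Set.mem_iUnion.mpr ⟨i, hi⟩)
  -- finite type ideals with support the complements
  choose J hJft hJsupp using fun i : t =>
    Groth.Agent.R2.H32.BlowSep.exists_ft_support_eq (V i.1) (hVqc i.1)
  have hFft : BlowUp.IsFiniteTypeIdeal (⨆ i : t, J i) := by
    intro W
    rw [Scheme.IdealSheafData.ideal_iSup, iSup_apply]
    exact Submodule.fg_iSup _ fun i => hJft i W
  have hFsupp : Disjoint ((⨆ i : t, J i).support : Set S) (ModPair.interior I : Set S) := by
    rw [Set.disjoint_left]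
    intro x hx hxU
    obtain ⟨i, hi, hxi⟩ := Set.mem_iUnion₂.mp (ht hxU)
    have h1 : x ∈ ((J ⟨i, hi⟩).support : Set S) :=
      Scheme.IdealSheafData.support_antitone (le_iSup J ⟨i, hi⟩) hx
    rw [hJsupp] at h1
    exact h1 hxi
  obtain ⟨Y, b, hb⟩ := Groth.Agent.R2.H92.BlowExists.exists_isBlowUp S (⨆ i : t, J i)
  have hcomap : (⨆ i : t, J i).comap b = ⨆ i : t, (J i).comap b :=
    (Scheme.IdealSheafData.map_gc b).l_iSup
  have hE : BlowUp.IsEffCartierIdeal (⨆ i : t, (J i).comap b) := hcomap ▸ hb.1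
  refine ⟨⨆ i : t, J i, Y, b,
    {p : Y.affineOpens × t // ((J p.2).comap b).ideal p.1 = (⨆ i : t, (J i).comap b).ideal p.1},
    fun k => k.1.1.1, ⟨hFft, hFsupp⟩, hb,
    Groth.Agent.Lib.Helper20.BlowUpBasic.isEffCartierIdeal_comap _ b hb I hI,
    fun k => k.1.1.2.isCompact, ?_, ?_⟩
  · rw [eq_top_iff]
    intro y _
    obtain ⟨W, i, hyW, hWi⟩ := exists_summand_eq (fun i : t => (J i).comap b) hE y
    exact TopologicalSpace.Opens.mem_iSup.mpr ⟨⟨(W, i), hWi⟩, hyW⟩
  · rintro ⟨⟨W, i⟩, hWi⟩
    refine ⟨i.1, ?_⟩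
    rintro y ⟨hyW, hyU⟩
    have hyW' : y ∈ W.1 := hyW
    -- `y` is not in the support of the pulled-back centre
    have h1 : y ∉ ((⨆ i : t, (J i).comap b).support : Set Y) := by
      rw [← hcomap, Scheme.IdealSheafData.support_comap]
      intro h
      exact Set.disjoint_left.mp hFsupp h hyU
    have h2 : y ∉ (((J i).comap b).support : Set Y) := by
      intro h
      apply h1
      have h3 := (Scheme.IdealSheafData.mem_support_iff_of_mem (I := (J i).comap b) (U := W)
        hyW').mp h
      rw [hWi] at h3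
      exact (Scheme.IdealSheafData.mem_support_iff_of_mem (I := ⨆ i : t, (J i).comap b)
        (U := W) hyW').mpr h3
    rw [Scheme.IdealSheafData.support_comap] at h2
    have h4 : b y ∉ ((J i).support : Set S) := h2
    rw [hJsupp] at h4
    exact not_not.mp h4

end Groth.Agent.S19336
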