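import Groth.Statements.S19341
import Groth.Agent.Lib.Helper20EffCartier

set_option autoImplicit false
universe u
open CategoryTheory CategoryTheory.Limits AlgebraicGeometry TopologicalSpace
open ModPair

namespace Groth.Agent.S19341

open Groth.Agent.Lib.Helper20

/-- If an effective Cartier ideal `J` is contained in the pullback of a locally principal ideal
`K`, then that pullback is effective Cartier as well. -/
theorem isEffCartierIdeal_comap_of_le {P S : Scheme.{u}} (f : P ⟶ S) {K : S.IdealSheafData}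
    (hK : BlowUp.IsEffCartierIdeal K) {J : P.IdealSheafData} (hJ : BlowUp.IsEffCartierIdeal J)
    (hJK : J ≤ K.comap f) : BlowUp.IsEffCartierIdeal (K.comap f) := by
  intro p
  obtain ⟨W, hW, hzW, -, k, -, hKW⟩ :=
    EffCartier.exists_le_of_isEffCartierIdeal hK (f.base p) ⊤ trivial
  obtain ⟨V, hV, hpV, hVle, s, hs, hJV⟩ :=
    EffCartier.exists_le_of_isEffCartierIdeal hJ p (f ⁻¹ᵁ W) hzW
  have hKV : (K.comap f).ideal ⟨V, hV⟩ = Ideal.span {(f.appLE W V hVle).hom k} := by
    rw [EffCartier.ideal_comap_eq_map f K hV hW hVle, hKW, Ideal.map_span, Set.image_singleton]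
  have hs' : s ∈ (K.comap f).ideal ⟨V, hV⟩ := by
    apply hJK ⟨V, hV⟩
    rw [hJV]
    exact Ideal.subset_span rfl
  rw [hKV] at hs'
  obtain ⟨c, hc⟩ := Ideal.mem_span_singleton'.mp hs'
  rw [← hc] at hs
  exact ⟨⟨V, hV⟩, hpV, (f.appLE W V hVle).hom k, (mul_mem_nonZeroDivisors.mp hs).2, hKV⟩

open nonZeroDivisors in
/-- Restricting a principal ideal generated by a nonzerodivisor to a basic open. -/
theorem restrict_basicOpen {X : Scheme.{u}} (I : X.IdealSheafData) (U' : X.affineOpens)
    (a : Γ(X, U'.1)) (ha : a ∈ Γ(X, U'.1)⁰) (hIa : I.ideal U' = Ideal.span {a}) (r : Γ(X, U'.1))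
    (V : X.Opens) (hV : V = X.basicOpen r) :
    ∃ (hVa : IsAffineOpen V) (b : Γ(X, V)), b ∈ Γ(X, V)⁰ ∧ I.ideal ⟨V, hVa⟩ = Ideal.span {b} := by
  subst hV
  refine ⟨U'.2.basicOpen r, (X.presheaf.map (homOfLE (X.basicOpen_le r)).op).hom a, ?_, ?_⟩
  · have inst := U'.2.isLocalization_basicOpen r
    have h1 : (X.presheaf.map (homOfLE (X.basicOpen_le r)).op).hom = algebraMap _ _ := rfl
    rw [h1]
    exact IsLocalization.map_nonZeroDivisors_le (.powers r) _ (Submonoid.mem_map_of_mem _ ha)
  · have h2 := I.map_ideal_basicOpen U' r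
    rw [hIa, Ideal.map_span, Set.image_singleton] at h2
    exact h2.symm

open nonZeroDivisors in
/-- Two effective Cartier ideals are simultaneously principal, generated by nonzerodivisors, on
a common affine neighbourhood of any point. -/
theorem exists_common_affine {X : Scheme.{u}} {A B : X.IdealSheafData}
    (hA : BlowUp.IsEffCartierIdeal A) (hB : BlowUp.IsEffCartierIdeal B) (p : X) :
    ∃ (V : X.Opens) (hV : IsAffineOpen V), p ∈ V ∧ ∃ x t : Γ(X, V), x ∈ Γ(X, V)⁰ ∧ t ∈ Γ(X, V)⁰ ∧
      A.ideal ⟨V, hV⟩ = Ideal.span {x} ∧ B.ideal ⟨V, hV⟩ = Ideal.span {t} := by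
  obtain ⟨V₁, hp₁, x₁, hx₁, hA₁⟩ := hA p
  obtain ⟨V₂, hp₂, t₂, ht₂, hB₂⟩ := hB p
  obtain ⟨r₁, r₂, hr, hpr⟩ := exists_basicOpen_le_affine_inter V₁.2 V₂.2 p ⟨hp₁, hp₂⟩
  obtain ⟨hVa, x, hx, hAx⟩ := restrict_basicOpen A V₁ x₁ hx₁ hA₁ r₁ (X.basicOpen r₁) rfl
  obtain ⟨hVa', t, ht, hBt⟩ := restrict_basicOpen B V₂ t₂ ht₂ hB₂ r₂ (X.basicOpen r₁) hr
  exact ⟨X.basicOpen r₁, hVa, hpr, x, t, hx, ht, hAx, hBt⟩

/-- Membership in the support of a principal ideal sheaf on an affine open. -/
theorem mem_support_iff_notMem_basicOpen {X : Scheme.{u}} (A : X.IdealSheafData) {V : X.Opens}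
    (hV : IsAffineOpen V) (x : Γ(X, V)) (hA : A.ideal ⟨V, hV⟩ = Ideal.span {x}) (q : X)
    (hq : q ∈ V) : q ∈ A.support ↔ q ∉ X.basicOpen x := by
  rw [Scheme.IdealSheafData.mem_support_iff_of_mem (U := ⟨V, hV⟩) hq, hA,
    Scheme.zeroLocus_span, Scheme.zeroLocus_singleton]
  rfl

/-- An open subscheme whose restriction maps are injective on an affine cover is
scheme-theoretically dense: its scheme-theoretic image is everything. -/
theorem isIso_imageι_of_injective {P : Scheme.{u}} (U : P.Opens) {ι : Type*}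
    (V : ι → P.affineOpens) (hV : ⨆ i, (V i).1 = ⊤)
    (h : ∀ i, Function.Injective (U.ι.app (V i).1).hom) : IsIso U.ι.imageι := by
  rw [Scheme.isIso_subschemeι_iff_eq_bot, ← le_bot_iff]
  refine Scheme.IdealSheafData.le_of_iSup_eq_top V hV fun i => ?_
  refine (Scheme.Hom.ideal_ker_le U.ι (V i)).trans ?_
  rw [(RingHom.injective_iff_ker_eq_bot _).mp (h i)]
  exact bot_le

/-- Let (S, I_S), (X, I_X), (T, I_T) be modulus pairs, i.e. schemes with quasi-coherent ideal sheaves of
effective Cartier divisors, and f : X ⟶ S, g : T ⟶ S morphisms satisfying the modulus conditions I_X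
≤ I_S.comap f and I_T ≤ I_S.comap g. Suppose that the pulled-back ideals I_X.comap pr₁ and I_T.comap
pr₂ on X ×_S T are again ideal sheaves of effective Cartier divisors. Then the pulled-back base
modulus I_S.comap (pr₁ ≫ f) is also the ideal sheaf of an effective Cartier divisor, and the
scheme-theoretic closure of pr₁⁻¹(X°) ∩ pr₂⁻¹(T°) is all of X ×_S T: its closed immersion into X ×_S
T is an isomorphism. Consequently the box product of (X, I_X) and (T, I_T) over (S, I_S) has total
space X ×_S T with modulus D_X + D_T − D_S. -/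
theorem result {X T S : Scheme.{u}}
    (IS : S.IdealSheafData) (IX : X.IdealSheafData) (IT : T.IdealSheafData)
    (hS : BlowUp.IsEffCartierIdeal IS) (hX : BlowUp.IsEffCartierIdeal IX)
    (hT : BlowUp.IsEffCartierIdeal IT) (f : X ⟶ S) (g : T ⟶ S)
    (hf : ModPair.IsAmbient IX IS f) (hg : ModPair.IsAmbient IT IS g)
    (h₁ : BlowUp.IsEffCartierIdeal (IX.comap (pullback.fst f g)))
    (h₂ : BlowUp.IsEffCartierIdeal (IT.comap (pullback.snd f g))) :
    BlowUp.IsEffCartierIdeal (IS.comap (pullback.fst f g ≫ f)) ∧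
      IsIso (ModPair.mprodι f g IX IT) := by
  unfold ModPair.IsAmbient at hf hg
  constructor
  · refine isEffCartierIdeal_comap_of_le (pullback.fst f g ≫ f) hS h₁ ?_
    rw [Scheme.IdealSheafData.comap_comp]
    exact Scheme.IdealSheafData.comap_mono _ hf
  · have hloc := fun p => exists_common_affine h₁ h₂ p
    choose V hV hpV x t hx ht hA hB using hloc
    have hcover : ⨆ p, ((⟨V p, hV p⟩ : (pullback f g).affineOpens) : (pullback f g).Opens) = ⊤ := by
      rw [eq_top_iff]
      rintro p -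
      exact Opens.mem_iSup.mpr ⟨p, hpV p⟩
    refine isIso_imageι_of_injective (prodInterior f g IX IT) (fun p => ⟨V p, hV p⟩) hcover ?_
    intro p
    obtain ⟨U, hU⟩ : ∃ U, U = prodInterior f g IX IT := ⟨_, rfl⟩
    rw [← hU]
    have himg : U.ι ''ᵁ U.ι ⁻¹ᵁ (V p) = (pullback f g).basicOpen (x p * t p) := by
      ext q
      rw [Scheme.basicOpen_mul]
      constructor
      · rintro ⟨w, hw, rfl⟩
        have hwU : (U.ι.base w) ∈ prodInterior f g IX IT := hU ▸ w.2
        have hwV : (U.ι.base w) ∈ V p := hw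
        have h1 : U.ι.base w ∉ (IX.comap (pullback.fst f g)).support := by
          rw [Scheme.IdealSheafData.support_comap]
          exact hwU.1
        have h2 : U.ι.base w ∉ (IT.comap (pullback.snd f g)).support := by
          rw [Scheme.IdealSheafData.support_comap]
          exact hwU.2
        rw [mem_support_iff_notMem_basicOpen _ (hV p) (x p) (hA p) _ hwV, not_not] at h1
        rw [mem_support_iff_notMem_basicOpen _ (hV p) (t p) (hB p) _ hwV, not_not] at h2
        exact ⟨h1, h2⟩
      · rintro ⟨h1, h2⟩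
        have hqV : q ∈ V p := (pullback f g).basicOpen_le (x p) h1
        have h1' : q ∉ (IX.comap (pullback.fst f g)).support := by
          rw [mem_support_iff_notMem_basicOpen _ (hV p) (x p) (hA p) _ hqV, not_not]
          exact h1
        have h2' : q ∉ (IT.comap (pullback.snd f g)).support := by
          rw [mem_support_iff_notMem_basicOpen _ (hV p) (t p) (hB p) _ hqV, not_not]
          exact h2
        rw [Scheme.IdealSheafData.support_comap] at h1' h2'
        have hqU : q ∈ U := hU ▸ ⟨h1', h2'⟩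
        exact ⟨⟨q, hqU⟩, hqV, rfl⟩
    have hle : U.ι ''ᵁ U.ι ⁻¹ᵁ (V p) ≤ V p := Set.image_preimage_subset _ _
    have hloc' := (hV p).isLocalization_of_eq_basicOpen (x p * t p) (homOfLE hle) himg
    have hpow : Submonoid.powers (x p * t p) ≤ nonZeroDivisors _ :=
      Submonoid.powers_le.mpr (mul_mem (hx p) (ht p))
    have hinj := @IsLocalization.injective _ _ _ _ _
      ((pullback f g).presheaf.map (homOfLE hle).op).hom.toAlgebra hloc' hpow
    exact hinj

end Groth.Agent.S19341
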