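import Groth.Statements.S1939
-- import your own Groth.Agent.* helpers here
import Mathlib
import Groth.Agent.Lib.Helper3LocDimBC
import Groth.Agent.Lib.Helper4DimFormulaT

set_option autoImplicit false
universe u
open CategoryTheory AlgebraicGeometry
open CategoryTheory.Limits
open Cyc

namespace Groth.Agent.S1939

open Groth.Agent.Lib.Helper4.DimFormula Groth.Agent.Lib.Helper3.LocDimBC

set_option linter.style.haveILetI false

/-- Let (S, δS) and (S', δS') be two pairs satisfying Cyc.IsSetup, g : S' → S flat with δS'(s') = δS(g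
s') + c for every s' generic in an irreducible component of its fibre g⁻¹(g s'), a : X → S locally
of finite type with X integral of δ-dimension k (δX induced from δS), and X' = X ×_S S' with δX'
induced from δS'. Then every generic point x' of an irreducible component of X' has δX'(x') = k + c.
A pair (X, δ) with Cyc.IsSetup plays the role of a scheme locally of finite type over a fixed base
with a dimension function (X locally Noetherian with universally catenary local rings, δ a dimension
function), and Cyc.DeltaCompat records that the dimension function upstairs is the induced one. -/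
theorem result (S S' X : Scheme.{u}) (δS : S → ℤ) (δS' : S' → ℤ) (hS : Cyc.IsSetup S δS) (hS' : Cyc.IsSetup S' δS') (g : S' ⟶ S) [Flat g] (c : ℤ) (hc : ∀ s' : S', (∀ y, g y = g s' → y ⤳ s' → y = s') → δS' s' = δS (g s') + c) (a : X ⟶ S) [LocallyOfFiniteType a] [IsIntegral X] (δX : X → ℤ) (hX : Cyc.DeltaCompat a δX δS) (δX' : ↥(pullback a g) → ℤ) (hX' : Cyc.DeltaCompat (pullback.snd a g) δX' δS') (k : ℤ) (hk : δX (genericPoint X) = k) (x' : ↥(pullback a g)) (hx' : ∀ y : ↥(pullback a g), y ⤳ x' → y = x') : δX' x' = k + c := by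
  classical
  set p₁ := pullback.fst a g with hp₁
  set p₂ := pullback.snd a g with hp₂
  haveI : Flat p₁ := MorphismProperty.pullback_fst _ _ inferInstance
  haveI : LocallyOfFiniteType p₂ := MorphismProperty.pullback_snd _ _ inferInstance
  have hcond : ∀ z, a (p₁ z) = g (p₂ z) := fun z => by
    rw [← Scheme.Hom.comp_apply, ← Scheme.Hom.comp_apply, pullback.condition]
  -- Step 1: `x'` lies over the generic point of `X`
  have h1 : p₁ x' = genericPoint X := by
    obtain ⟨y, hy, hy2⟩ := (Flat.generalizingMap p₁) (genericPoint_specializes (p₁ x'))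
    rw [hx' y hy] at hy2
    exact hy2
  -- Step 2: `p₂ x'` is generic in its fibre
  have h2 : ∀ w, g w = g (p₂ x') → w ⤳ p₂ x' → w = p₂ x' := by
    intro w hw hsp
    have hsq : IsPullback p₂ p₁ g a := (IsPullback.of_hasPullback a g).flip
    let E : p₁.fiber (p₁ x') ⟶ g.fiber (a (p₁ x')) :=
      pullback.map _ _ _ _ p₂ (Spec.map (a.residueFieldMap (p₁ x'))) a hsq.w.symm (by simp)
    have key : IsPullback E (p₁.fiberToSpecResidueField (p₁ x'))
        (g.fiberToSpecResidueField (a (p₁ x'))) (Spec.map (a.residueFieldMap (p₁ x'))) :=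
      isPullback_fiberToSpecResidueField_of_isPullback hsq (p₁ x')
    haveI : Flat (Spec.map (a.residueFieldMap (p₁ x'))) := by
      rw [HasRingHomProperty.Spec_iff (P := @Flat)]
      letI := (a.residueFieldMap (p₁ x')).hom.toAlgebra
      show Module.Flat _ _
      infer_instance
    haveI hflat : Flat E := MorphismProperty.of_isPullback (P := @Flat) key.flip inferInstance
    have hgen := Flat.generalizingMap E
    have hw' : w ∈ Set.range (g.fiberι (a (p₁ x'))) := by
      rw [g.range_fiberι]
      show g w = a (p₁ x')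
      rw [hw, hcond]
    obtain ⟨wt, rfl⟩ := hw'
    have hEmor : E ≫ g.fiberι (a (p₁ x')) = p₁.fiberι (p₁ x') ≫ p₂ := pullback.lift_fst _ _ _
    have hE : ∀ z, g.fiberι (a (p₁ x')) (E z) = p₂ (p₁.fiberι (p₁ x') z) := by
      intro z
      have h0 := congrArg (fun φ : p₁.fiber (p₁ x') ⟶ S' => φ z) hEmor
      simpa only [Scheme.Hom.comp_apply] using h0
    have hsp' : wt ⤳ E (p₁.asFiber x') := by
      apply (g.fiberι (a (p₁ x'))).isEmbedding.isInducing.specializes_iff.mp
      rw [hE, p₁.fiberι_asFiber]
      exact hsp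
    obtain ⟨zt, hz1, hz2⟩ := hgen hsp'
    have hz : p₁.fiberι (p₁ x') zt ⤳ x' := by
      have := hz1.map (p₁.fiberι (p₁ x')).continuous
      rwa [p₁.fiberι_asFiber] at this
    have hzx := hx' _ hz
    rw [← hz2, hE, hzx]
  -- Step 3: transcendence degrees
  have hmax' : ∀ y, p₂.base y = p₂.base x' → y ⤳ x' → y = x' := fun y _ h => hx' y h
  have e1 := fibreDimAt_eq_ptTrdeg_of_maximal p₂ x' hmax'
  have hmaxη : ∀ y, a.base y = a.base (p₁ x') → y ⤳ p₁ x' → y = p₁ x' := by
    intro y _ hy
    rw [h1] at hy ⊢
    exact ((genericPoint_specializes y).antisymm hy).eq.symm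
  have e2 := fibreDimAt_eq_ptTrdeg_of_maximal a (p₁ x') hmaxη
  have e3 := fibreDimAt_eq_of_isPullback a g p₁ p₂ (IsPullback.of_hasPullback a g) x'
  have e4 : ptTrdeg p₂ x' = ptTrdeg a (p₁ x') := by
    have := e1.symm.trans (e3.trans e2)
    exact_mod_cast this
  obtain ⟨n', hn', hd'⟩ := hX' x'
  obtain ⟨n, hn, hd⟩ := hX (p₁ x')
  have t1 := trdeg_eq_ptTrdeg p₂ x'
  have t2 := trdeg_eq_ptTrdeg a (p₁ x')
  have hn1 : n' = ptTrdeg p₂ x' := by
    have := hn'.symm.trans t1
    exact_mod_cast this
  have hn2 : n = ptTrdeg a (p₁ x') := by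
    have := hn.symm.trans t2
    exact_mod_cast this
  have h3 := hc (p₂ x') h2
  rw [← hcond] at h3
  rw [h1] at hd h3
  rw [hk] at hd
  rw [hd', h3, hd, hn1, hn2, e4]
  ring

end Groth.Agent.S1939
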