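import Groth.Statements.S19419
-- import your own Groth.Agent.* helpers here
import Groth.Agent.R2.H9GraphPull

set_option autoImplicit false
universe u
open CategoryTheory CategoryTheory.Limits AlgebraicGeometry
open Cyc

namespace Groth.Agent.S19419

set_option linter.style.haveILetI false
open Groth.Agent.R2.H9.GraphPull Groth.Agent.R2.H9.FieldSetup

theorem length_quot_eq_one_of_field {F : Type*} [Field F] (I : Ideal F) (hI : I ≠ ⊤) :
    Module.length F (F ⧸ I) = 1 := by
  have hbot : I = ⊥ := (Ideal.eq_bot_or_top I).resolve_right hI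
  rw [(Submodule.quotEquivOfEqBot I hbot).length_eq, Module.length_eq_one_iff]
  infer_instance

theorem length_generic {X : Scheme.{u}} [IsIntegral X] (ψ : X ⟶ X) (x : X)
    (hx : x = genericPoint ↥X) :
    Module.length (X.presheaf.stalk x) (X.presheaf.stalk x ⧸
      Ideal.map (ψ.stalkMap x).hom (IsLocalRing.maximalIdeal (X.presheaf.stalk (ψ x)))) = 1 := by
  subst hx
  letI : Field (X.presheaf.stalk (genericPoint ↥X)) := inferInstanceAs (Field X.functionField)
  apply length_quot_eq_one_of_field
  intro htop
  have hle : Ideal.map (ψ.stalkMap (genericPoint ↥X)).hom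
      (IsLocalRing.maximalIdeal (X.presheaf.stalk (ψ (genericPoint ↥X)))) ≤
      IsLocalRing.maximalIdeal (X.presheaf.stalk (genericPoint ↥X)) :=
    ((IsLocalRing.local_hom_TFAE (ψ.stalkMap (genericPoint ↥X)).hom).out 0 2).mp
      (by infer_instance)
  rw [htop] at hle
  exact (IsLocalRing.maximalIdeal.isMaximal _).ne_top (top_le_iff.mp hle)


/-- Let X be a smooth proper integral curve over an algebraically closed field k, with generic point η,
and ψ : X → X a flat endomorphism over k. Let Y = X ×_k X with its two projections, m = ψ × id : Y →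
Y (first projection intertwines ψ, second projection unchanged), d : X → Y the diagonal and g = (id,
ψ) : X → Y the graph of ψ. For the dimension function δ on Y induced from weight 0 on Spec k, the
flat pull-back of cycles along m in relative dimension 0 takes the diagonal divisor [Δ], the cycle
equal to 1 at d(η) and 0 elsewhere, to the graph divisor [Γ_ψ], the cycle equal to 1 at g(η) and 0
elsewhere: (ψ × id)^*[Δ] = [Γ_ψ]. The published statement allows any endomorphism ψ and reads the
pull-back on divisors; flatness of ψ is what the flat pull-back of cycles requires (the intended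
case is the Frobenius endomorphism), and iterating gives [Γ_{ψ^n}] = ((ψ × id)^*)^n [Δ]. -/
theorem result (k : Type u) [Field k]
    [IsAlgClosed k] (X : Scheme.{u}) (f : X ⟶ Spec (CommRingCat.of k)) [Smooth f] [IsProper f]
    [IsIntegral X] (hdim : topologicalKrullDim ↥X = 1) (ψ : X ⟶ X) (hψ : ψ ≫ f = f) [Flat ψ]
    (m : pullback f f ⟶ pullback f f) (hm₁ : m ≫ pullback.fst f f = pullback.fst f f ≫ ψ)
    (hm₂ : m ≫ pullback.snd f f = pullback.snd f f) (g : X ⟶ pullback f f)
    (hg₁ : g ≫ pullback.fst f f = 𝟙 X) (hg₂ : g ≫ pullback.snd f f = ψ)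
    (δ : ↥(pullback f f) → ℤ) (hδ : Cyc.DeltaCompat (pullback.fst f f ≫ f) δ (fun _ => 0)) :
    Cyc.pullFun m δ δ 0
        (Set.indicator ({pullback.diagonal f (genericPoint ↥X)} : Set ↥(pullback f f)) (fun _ => (1 : ℤ))) =
      Set.indicator ({g (genericPoint ↥X)} : Set ↥(pullback f f)) (fun _ => (1 : ℤ)) := by
  classical
  have hF1 : g ≫ m = ψ ≫ pullback.diagonal f := by
    apply pullback.hom_ext
    · rw [Category.assoc, hm₁, ← Category.assoc, hg₁, Category.id_comp, Category.assoc,
        pullback.diagonal_fst, Category.comp_id]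
    · rw [Category.assoc, hm₂, hg₂, Category.assoc, pullback.diagonal_snd, Category.comp_id]
  have hψη : ψ (genericPoint ↥X) = genericPoint ↥X := by
    have hgen : GeneralizingMap ψ := Flat.generalizingMap ψ
    have h1 : genericPoint ↥X ⤳ ψ (genericPoint ↥X) := genericPoint_specializes _
    obtain ⟨x', hx', hx'e⟩ := hgen h1
    have h2 : x' = genericPoint ↥X :=
      (hx'.antisymm (genericPoint_specializes x')).eq
    rw [h2] at hx'e
    exact hx'e
  have hmg : m (g (genericPoint ↥X)) = pullback.diagonal f (genericPoint ↥X) := by
    have h0 := congrArg (fun φ : X ⟶ pullback f f => φ (genericPoint ↥X)) hF1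
    simp only [Scheme.Hom.comp_apply] at h0
    rw [h0, hψη]
  have hY : IsPullback (pullback.fst f f) (pullback.snd f f) f f := IsPullback.of_hasPullback f f
  have hsq : IsPullback (pullback.fst f f) m ψ (pullback.fst f f) := by
    have houter : IsPullback (m ≫ pullback.snd f f) (pullback.fst f f) f (ψ ≫ f) := by
      rw [hm₂, hψ]
      exact hY.flip
    exact (IsPullback.of_right houter hm₁ hY.flip).flip
  have hΔ₁ : pullback.diagonal f ≫ pullback.fst f f = 𝟙 X := pullback.diagonal_fst f
  have hbijΔ : ∀ (w : ↥(pullback f f)) (x' : X), w = pullback.diagonal f x' →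
      Function.Bijective ((pullback.fst f f).residueFieldMap w).hom :=
    fun w x' hw => residueFieldMap_bijective_of_eq (pullback.diagonal f) (pullback.fst f f) hΔ₁ x' w hw
  have hδg : δ (g (genericPoint ↥X)) = δ (pullback.diagonal f (genericPoint ↥X)) := by
    obtain ⟨n₁, hn₁, hd₁⟩ := delta_section k f (pullback.fst f f) δ hδ g hg₁ (genericPoint ↥X)
    obtain ⟨n₂, hn₂, hd₂⟩ := delta_section k f (pullback.fst f f) δ hδ (pullback.diagonal f) hΔ₁
      (genericPoint ↥X)
    have h1 : (n₁ : Cardinal.{u}) = n₂ := hn₁.symm.trans hn₂
    have h2 : n₁ = n₂ := by exact_mod_cast h1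
    rw [hd₁, hd₂, h2]
  have hδY : Cyc.IsDimFun (pullback f f) δ := isDimFun_of_field k (pullback.fst f f ≫ f) δ hδ
  have hp₁g : ∀ a : X, pullback.fst f f (g a) = a := by
    intro a
    have h0 := congrArg (fun φ : X ⟶ X => φ a) hg₁
    simp only [Scheme.Hom.comp_apply] at h0
    exact h0
  have hmgx : ∀ a : X, m (g a) = pullback.diagonal f (ψ a) := by
    intro a
    have h0 := congrArg (fun φ : X ⟶ pullback f f => φ a) hF1
    simpa only [Scheme.Hom.comp_apply] using h0
  funext z
  unfold Cyc.pullFun
  by_cases hz : z = g (genericPoint ↥X)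
  · rw [hz, Set.indicator_of_mem (show g (genericPoint ↥X) ∈
      ({g (genericPoint ↥X)} : Set ↥(pullback f f)) from rfl)]
    rw [if_pos (by rw [hmg, add_zero]; exact hδg),
      Set.indicator_of_mem (show m (g (genericPoint ↥X)) ∈
        ({pullback.diagonal f (genericPoint ↥X)} : Set ↥(pullback f f)) from hmg)]
    have hlen := length_quot_of_isPullback' hsq (g (genericPoint ↥X))
      (hbijΔ (m (g (genericPoint ↥X))) (genericPoint ↥X) hmg)
    rw [hlen, length_generic ψ _ (hp₁g (genericPoint ↥X))]
    simp
  · rw [Set.indicator_of_notMem (show z ∉ ({g (genericPoint ↥X)} : Set ↥(pullback f f)) from hz)]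
    by_cases hc : δ z = δ (m z) + 0
    · rw [if_pos hc]
      have hmz : m z ≠ pullback.diagonal f (genericPoint ↥X) := by
        intro hmz
        apply hz
        set x := pullback.fst f f z with hx
        have hψx : ψ x = genericPoint ↥X := by
          have h0 := congrArg (fun φ : pullback f f ⟶ X => φ z) hm₁
          simp only [Scheme.Hom.comp_apply] at h0
          rw [← h0, hmz]
          have h1 := congrArg (fun φ : X ⟶ X => φ (genericPoint ↥X)) hΔ₁
          simp only [Scheme.Hom.comp_apply] at h1
          exact h1
        have hzg : z = g x := by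
          refine eq_of_fst_eq_of_snd_eq hsq z (g x) ?_ ?_ (hbijΔ (m z) (genericPoint ↥X) hmz)
          · rw [hmgx, hψx, hmz]
          · rw [hp₁g]
        have hxη : x = genericPoint ↥X := by
          by_contra hne
          have hsp : g (genericPoint ↥X) ⤳ g x :=
            (genericPoint_specializes x).map g.continuous
          have hne' : g (genericPoint ↥X) ≠ g x := by
            intro h
            apply hne
            have := congrArg (pullback.fst f f) h
            rw [hp₁g, hp₁g] at this
            exact this.symm
          have hlt := (hδY _ _ hsp hne').1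
          have h5 : δ (g x) = δ (g (genericPoint ↥X)) := by
            rw [← hzg, hc, hmz, add_zero, hδg]
          omega
        rw [hzg, hxη]
      rw [Set.indicator_of_notMem (show m z ∉
        ({pullback.diagonal f (genericPoint ↥X)} : Set ↥(pullback f f)) from hmz), zero_mul]
    · rw [if_neg hc]

end Groth.Agent.S19419
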