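import Groth.Statements.S19425
import Groth.Agent.R2.H95GoodQuotOpen

set_option autoImplicit false
universe u
open CategoryTheory MonoidalCategory CartesianMonoidalCategory MonObj AlgebraicGeometry Topology
open NRQuot

namespace Groth.Agent.S19425

/-- Let k be an algebraically closed field, G an affine group scheme of finite type over k acting on a
k-scheme X locally of finite type, φ : X → Y a good quotient (affine and invariant, functions on
every open of Y are exactly the invariant functions on its preimage, invariant closed subsets have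
closed images, and images commute with intersections of families of invariant closed subsets), and U
an open subset of Y. Equip the open subscheme φ⁻¹(U) of X with the restricted action, given here as
an action compatible with the inclusion into X, and let φ_U : φ⁻¹(U) → U be the restriction of φ.
Then φ_U is a good quotient for the restricted action. -/
theorem result
    (k : Type u) [Field k] [IsAlgClosed k]
    (G X Y : Over (Spec (CommRingCat.of k))) [GrpObj G] [IsAffine G.left] [LocallyOfFiniteType G.hom]
    [LocallyOfFiniteType X.hom]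
    (a : AlgGrp.Action G X) (φ : X ⟶ Y) (h : NRQuot.IsGoodQuot a φ)
    (U : Y.left.Opens)
    (aU : AlgGrp.Action G (Over.mk ((φ.left ⁻¹ᵁ U).ι ≫ X.hom)))
    (jU : Over.mk ((φ.left ⁻¹ᵁ U).ι ≫ X.hom) ⟶ X) (hjU : jU.left = (φ.left ⁻¹ᵁ U).ι)
    (haU : aU.act ≫ jU = (G ◁ jU) ≫ a.act)
    (φU : Over.mk ((φ.left ⁻¹ᵁ U).ι ≫ X.hom) ⟶ Over.mk (U.ι ≫ Y.hom))
    (hφU : φU.left ≫ U.ι = (φ.left ⁻¹ᵁ U).ι ≫ φ.left) :
    NRQuot.IsGoodQuot aU φU := by
  have hopen : IsOpenImmersion jU.left := by
    rw [hjU]
    infer_instance
  have hopenY : IsOpenImmersion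
      (U.ι : (Over.mk (U.ι ≫ Y.hom)).left ⟶ Y.left) :=
    inferInstanceAs (IsOpenImmersion U.ι)
  have hφU' : φU.left ≫ (U.ι : (Over.mk (U.ι ≫ Y.hom)).left ⟶ Y.left) =
      jU.left ≫ φ.left := by
    rw [hjU]
    exact hφU
  have hrange : φ.left ⁻¹ᵁ (U.ι : (Over.mk (U.ι ≫ Y.hom)).left ⟶ Y.left).opensRange =
      jU.left.opensRange := by
    apply TopologicalSpace.Opens.ext
    show φ.left.base ⁻¹' Set.range U.ι.base = Set.range jU.left.base
    rw [hjU, Scheme.Opens.range_ι, Scheme.Opens.range_ι]
    rfl
  exact Groth.Agent.R2.H95.GoodQuotOpen.isGoodQuot_restrict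
    (jY := (U.ι : (Over.mk (U.ι ≫ Y.hom)).left ⟶ Y.left)) h haU hφU' hrange

end Groth.Agent.S19425
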