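import Groth.Statements.S19452
import Groth.Agent.R2.H96DualFlat

set_option autoImplicit false
universe u
attribute [local instance] W4c6puncthilbintro.dualAlgebra
open HilbD

namespace Groth.Agent.S19452

open TensorProduct DualNumber TrivSqZeroExt Groth.Agent.R2.H96.DualFlat

section aux

variable {A : Type u} [CommRing A] {R : Type u} [CommRing R] [Algebra A R]

theorem eps_mul' (y : DualNumber R) : (ε : DualNumber R) * y = inr y.fst := by
  ext <;> simp

theorem eps_smul_mk (J : Ideal (DualNumber R)) (y : DualNumber R) :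
    (ε : DualNumber A) • (Ideal.Quotient.mk J y) = Ideal.Quotient.mk J (inr y.fst) := by
  show Ideal.Quotient.mk J (W4c6puncthilbintro.dualMap A R ε * y) = _
  rw [W4c6puncthilbintro.dualMap_eps, eps_mul']

theorem inl_smul_mk (J : Ideal (DualNumber R)) (a : A) (y : DualNumber R) :
    (inl a : DualNumber A) • (Ideal.Quotient.mk J y) = Ideal.Quotient.mk J (a • y) := by
  show Ideal.Quotient.mk J (W4c6puncthilbintro.dualMap A R (inl a) * y) = _
  rw [W4c6puncthilbintro.dualMap_inl, Algebra.smul_def]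

theorem inr_mem_liftIdeal {I : Ideal R} (φ : I →ₗ[R] R ⧸ I) (c : R) :
    (inr c : DualNumber R) ∈ W4c6puncthilbintro.liftIdeal I φ ↔ c ∈ I := by
  constructor
  · rintro ⟨h, h'⟩
    have h0 : (⟨(inr c : DualNumber R).fst, h⟩ : I) = 0 := by
      apply Subtype.ext
      simp
    rw [h0, map_zero] at h'
    simpa using Ideal.Quotient.eq_zero_iff_mem.mp h'
  · intro hc
    have h : (inr c : DualNumber R).fst ∈ I := by simp
    refine ⟨h, ?_⟩
    have h0 : (⟨(inr c : DualNumber R).fst, h⟩ : I) = 0 := by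
      apply Subtype.ext
      simp
    rw [h0, map_zero]
    simpa using Ideal.Quotient.eq_zero_iff_mem.mpr hc

theorem exists_mem_liftIdeal {I : Ideal R} (φ : I →ₗ[R] R ⧸ I) (a : R) (ha : a ∈ I) :
    ∃ b : R, Ideal.Quotient.mk I b = φ ⟨a, ha⟩ ∧
      (inl a + inr b : DualNumber R) ∈ W4c6puncthilbintro.liftIdeal I φ := by
  obtain ⟨b, hb⟩ := Ideal.Quotient.mk_surjective (φ ⟨a, ha⟩)
  refine ⟨b, hb, ?_⟩
  have h : (inl a + inr b : DualNumber R).fst ∈ I := by simpa using ha
  refine ⟨h, ?_⟩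
  have h0 : (⟨(inl a + inr b : DualNumber R).fst, h⟩ : I) = ⟨a, ha⟩ := by
    apply Subtype.ext
    simp
  rw [h0, ← hb]
  simp

theorem fstHom_surjective : Function.Surjective (TrivSqZeroExt.fstHom A R R) := fun a =>
  ⟨inl a, by simp⟩

theorem mem_map_fstHom (J : Ideal (DualNumber R)) (a : R) :
    a ∈ Ideal.map (TrivSqZeroExt.fstHom A R R) J ↔ ∃ x ∈ J, x.fst = a := by
  rw [Ideal.mem_map_iff_of_surjective _ (fstHom_surjective (A := A))]
  rfl

theorem map_fstHom_liftIdeal {I : Ideal R} (φ : I →ₗ[R] R ⧸ I) :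
    Ideal.map (TrivSqZeroExt.fstHom A R R) (W4c6puncthilbintro.liftIdeal I φ) = I := by
  ext a
  rw [mem_map_fstHom]
  constructor
  · rintro ⟨x, ⟨h, _⟩, rfl⟩
    exact h
  · intro ha
    obtain ⟨b, _, hb⟩ := exists_mem_liftIdeal φ a ha
    exact ⟨_, hb, by simp⟩

theorem liftIdeal_injective (I : Ideal R) :
    Function.Injective (W4c6puncthilbintro.liftIdeal I) := by
  intro φ ψ h
  ext ⟨a, ha⟩
  obtain ⟨b, hb, hmem⟩ := exists_mem_liftIdeal φ a ha
  rw [h] at hmem
  obtain ⟨h1, h2⟩ := hmem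
  have h0 : (⟨(inl a + inr b : DualNumber R).fst, h1⟩ : I) = ⟨a, ha⟩ := by
    apply Subtype.ext
    simp
  rw [h0] at h2
  rw [← hb, ← h2]
  simp

theorem exists_of_flat (I : Ideal R) (J : Ideal (DualNumber R))
    [Module.Flat (DualNumber A) (DualNumber R ⧸ J)]
    (hJ : Ideal.map (TrivSqZeroExt.fstHom A R R) J = I) :
    ∃ φ : I →ₗ[R] R ⧸ I, J = W4c6puncthilbintro.liftIdeal I φ := by
  have hmemI : ∀ a, a ∈ I ↔ ∃ x ∈ J, x.fst = a := fun a => by rw [← hJ, mem_map_fstHom]
  have star : ∀ c : R, (inr c : DualNumber R) ∈ J ↔ c ∈ I := by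
    intro c
    constructor
    · intro hc
      have h0 : (ε : DualNumber A) • (Ideal.Quotient.mk J (inl c)) = 0 := by
        rw [eps_smul_mk]
        simpa using Ideal.Quotient.eq_zero_iff_mem.mpr hc
      obtain ⟨m', hm'⟩ := exists_eps_smul_of_flat (A := A) (M := DualNumber R ⧸ J) _ h0
      obtain ⟨y, rfl⟩ := Ideal.Quotient.mk_surjective m'
      rw [eps_smul_mk, Ideal.Quotient.eq] at hm'
      rw [hmemI]
      exact ⟨_, hm', by simp⟩
    · intro hc
      obtain ⟨x, hx, rfl⟩ := (hmemI c).mp hc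
      rw [← eps_mul']
      exact J.mul_mem_left _ hx
  have key : ∀ x ∈ J, ∀ x' ∈ J, x.fst = x'.fst →
      Ideal.Quotient.mk I x.snd = Ideal.Quotient.mk I x'.snd := by
    intro x hx x' hx' h
    rw [Ideal.Quotient.eq, ← star]
    have : (inr (x.snd - x'.snd) : DualNumber R) = x - x' := by
      ext
      · simp [h]
      · simp
    rw [this]
    exact J.sub_mem hx hx'
  have hex : ∀ a : I, ∃ x ∈ J, x.fst = (a : R) := fun a => (hmemI a.1).mp a.2
  choose xa hxa hxa' using hex
  let φ : I →ₗ[R] R ⧸ I :=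
    { toFun := fun a => Ideal.Quotient.mk I (xa a).snd
      map_add' := fun a b => by
        have := key (xa (a + b)) (hxa _) (xa a + xa b) (J.add_mem (hxa a) (hxa b))
          (by simp [hxa'])
        rw [this]
        simp
      map_smul' := fun r a => by
        have := key (xa (r • a)) (hxa _) (inl r * xa a) (J.mul_mem_left _ (hxa a))
          (by simp [hxa'])
        rw [this]
        simp [Algebra.smul_def] }
  have hφ : ∀ x ∈ J, ∀ h : x.fst ∈ I, φ ⟨x.fst, h⟩ = Ideal.Quotient.mk I x.snd := by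
    intro x hx h
    exact key _ (hxa _) x hx (hxa' _)
  refine ⟨φ, ?_⟩
  ext x
  constructor
  · intro hx
    have h : x.fst ∈ I := (hmemI _).mpr ⟨x, hx, rfl⟩
    exact ⟨h, (hφ x hx h).symm⟩
  · rintro ⟨h, h'⟩
    have h1 : Ideal.Quotient.mk I x.snd = Ideal.Quotient.mk I (xa ⟨x.fst, h⟩).snd := h'
    rw [Ideal.Quotient.eq, ← star] at h1
    have : x = xa ⟨x.fst, h⟩ + inr (x.snd - (xa ⟨x.fst, h⟩).snd) := by
      ext
      · simp [hxa']
      · simp
    rw [this]
    exact J.add_mem (hxa _) h1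

end aux

section flat

variable {A : Type u} [CommRing A] {R : Type u} [CommRing R] [Algebra A R]
variable (I : Ideal R) (φ : I →ₗ[R] R ⧸ I)

theorem mk_inl_surjective (s : DualNumber A ⧸ Ideal.span {(ε : DualNumber A)}) :
    ∃ a : A, Ideal.Quotient.mk (Ideal.span {(ε : DualNumber A)}) (inl a) = s := by
  obtain ⟨y, rfl⟩ := Ideal.Quotient.mk_surjective s
  refine ⟨y.fst, ?_⟩
  rw [Ideal.Quotient.eq, Ideal.mem_span_singleton]
  refine ⟨inl (-y.snd), ?_⟩
  ext <;> simp

theorem h1_liftIdeal (m : DualNumber R ⧸ W4c6puncthilbintro.liftIdeal I φ)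
    (hm : (ε : DualNumber A) • m = 0) : ∃ m', m = (ε : DualNumber A) • m' := by
  obtain ⟨y, rfl⟩ := Ideal.Quotient.mk_surjective m
  rw [eps_smul_mk, Ideal.Quotient.eq_zero_iff_mem, inr_mem_liftIdeal] at hm
  obtain ⟨b, _, hb⟩ := exists_mem_liftIdeal φ y.fst hm
  refine ⟨Ideal.Quotient.mk _ (inl (y.snd - b)), ?_⟩
  rw [eps_smul_mk, Ideal.Quotient.eq]
  have : y - inr (inl (y.snd - b) : DualNumber R).fst = inl y.fst + inr b := by
    ext <;> simp
  rw [this]
  exact hb

theorem eps_smul_one :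
    (ε : DualNumber A) • (1 : DualNumber A ⧸ Ideal.span {(ε : DualNumber A)}) = 0 := by
  show Ideal.Quotient.mk _ ((ε : DualNumber A) * 1) = 0
  rw [mul_one, Ideal.Quotient.eq_zero_iff_mem]
  exact eps_mem_span

/-- `x ↦ 1 ⊗ [x]`. -/
noncomputable def f0 : R →+ (DualNumber A ⧸ Ideal.span {(ε : DualNumber A)}) ⊗[DualNumber A]
    (DualNumber R ⧸ W4c6puncthilbintro.liftIdeal I φ) where
  toFun x := 1 ⊗ₜ Ideal.Quotient.mk _ (inl x)
  map_zero' := by simp
  map_add' x y := by simp [tmul_add]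

theorem one_tmul_eps_smul (m : DualNumber R ⧸ W4c6puncthilbintro.liftIdeal I φ) :
    (1 : DualNumber A ⧸ Ideal.span {(ε : DualNumber A)}) ⊗ₜ[DualNumber A]
      ((ε : DualNumber A) • m) = 0 := by
  rw [← TensorProduct.smul_tmul (ε : DualNumber A)
    (1 : DualNumber A ⧸ Ideal.span {(ε : DualNumber A)}) m, eps_smul_one, zero_tmul]

theorem f0_eq_zero (x : R) (hx : x ∈ I) : f0 (A := A) I φ x = 0 := by
  obtain ⟨b, _, hb⟩ := exists_mem_liftIdeal φ x hx
  have h1 : Ideal.Quotient.mk (W4c6puncthilbintro.liftIdeal I φ) (inl x) =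
      (ε : DualNumber A) • Ideal.Quotient.mk (W4c6puncthilbintro.liftIdeal I φ) (inl (-b)) := by
    rw [eps_smul_mk, Ideal.Quotient.eq]
    have : inl x - inr (inl (-b) : DualNumber R).fst = (inl x + inr b : DualNumber R) := by
      ext <;> simp
    rw [this]
    exact hb
  show (1 : DualNumber A ⧸ Ideal.span {(ε : DualNumber A)}) ⊗ₜ[DualNumber A]
    Ideal.Quotient.mk _ (inl x) = 0
  rw [h1, one_tmul_eps_smul]

theorem smul_f0 (a : A) (x : R) : a • f0 (A := A) I φ x = f0 (A := A) I φ (a • x) := by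
  show a • ((1 : DualNumber A ⧸ Ideal.span {(ε : DualNumber A)}) ⊗ₜ[DualNumber A]
    Ideal.Quotient.mk (W4c6puncthilbintro.liftIdeal I φ) (inl x)) =
    (1 : DualNumber A ⧸ Ideal.span {(ε : DualNumber A)}) ⊗ₜ[DualNumber A]
    Ideal.Quotient.mk (W4c6puncthilbintro.liftIdeal I φ) (inl (a • x))
  rw [TensorProduct.smul_tmul']
  have h1 : a • (1 : DualNumber A ⧸ Ideal.span {(ε : DualNumber A)}) =
      (inl a : DualNumber A) • (1 : DualNumber A ⧸ Ideal.span {(ε : DualNumber A)}) := by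
    show Ideal.Quotient.mk (Ideal.span {(ε : DualNumber A)}) (a • (1 : DualNumber A)) =
      Ideal.Quotient.mk (Ideal.span {(ε : DualNumber A)}) ((inl a : DualNumber A) • (1 : DualNumber A))
    congr 1
    ext <;> simp
  rw [h1, TensorProduct.smul_tmul, inl_smul_mk]
  congr 2
  ext <;> simp

/-- The comparison map `R/I → (A[ε]/ε) ⊗ R[ε]/J_φ`. -/
noncomputable def f : (R ⧸ I) →ₗ[A] (DualNumber A ⧸ Ideal.span {(ε : DualNumber A)}) ⊗[DualNumber A]
    (DualNumber R ⧸ W4c6puncthilbintro.liftIdeal I φ) where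
  toFun := QuotientAddGroup.lift I.toAddSubgroup (f0 (A := A) I φ) (fun x hx => f0_eq_zero I φ x hx)
  map_add' := map_add _
  map_smul' a x := by
    obtain ⟨x, rfl⟩ := Ideal.Quotient.mk_surjective x
    exact (smul_f0 I φ a x).symm

theorem f_mk (x : R) : f (A := A) I φ (Ideal.Quotient.mk I x) =
    1 ⊗ₜ Ideal.Quotient.mk _ (inl x) := rfl

theorem one_tmul_mk (z : DualNumber R) :
    (1 : DualNumber A ⧸ Ideal.span {(ε : DualNumber A)}) ⊗ₜ[DualNumber A]
      Ideal.Quotient.mk (W4c6puncthilbintro.liftIdeal I φ) z =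
    f (A := A) I φ (Ideal.Quotient.mk I z.fst) := by
  have hz : Ideal.Quotient.mk (W4c6puncthilbintro.liftIdeal I φ) z =
      Ideal.Quotient.mk _ (inl z.fst) + (ε : DualNumber A) • Ideal.Quotient.mk _ (inl z.snd) := by
    rw [eps_smul_mk, ← map_add]
    congr 1
    ext <;> simp
  rw [hz, tmul_add, one_tmul_eps_smul, add_zero, f_mk]

theorem f_surjective : Function.Surjective (f (A := A) I φ) := by
  intro n
  induction n using TensorProduct.induction_on with
  | zero => exact ⟨0, map_zero _⟩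
  | tmul s m =>
    obtain ⟨a, rfl⟩ := mk_inl_surjective s
    obtain ⟨y, rfl⟩ := Ideal.Quotient.mk_surjective m
    have h1 : Ideal.Quotient.mk (Ideal.span {(ε : DualNumber A)}) (inl a) =
        (inl a : DualNumber A) • (1 : DualNumber A ⧸ Ideal.span {(ε : DualNumber A)}) := by
      show _ = Ideal.Quotient.mk (Ideal.span {(ε : DualNumber A)}) ((inl a : DualNumber A) * 1)
      rw [mul_one]
    rw [h1, TensorProduct.smul_tmul, inl_smul_mk, one_tmul_mk]
    exact ⟨_, rfl⟩
  | add x y hx hy =>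
    obtain ⟨x', rfl⟩ := hx
    obtain ⟨y', rfl⟩ := hy
    exact ⟨x' + y', map_add _ _ _⟩

theorem fst_dualMap (r : DualNumber A) :
    (W4c6puncthilbintro.dualMap A R r).fst = algebraMap A R r.fst := by
  have h : (TrivSqZeroExt.fstHom A R R).comp (W4c6puncthilbintro.dualMap A R) =
      (Algebra.ofId A R).comp (TrivSqZeroExt.fstHom A A A) := by
    apply DualNumber.algHom_ext
    simp
  exact AlgHom.congr_fun h r

/-- `A[ε]/ε → A`. -/
noncomputable def psi : (DualNumber A ⧸ Ideal.span {(ε : DualNumber A)}) →+* A :=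
  Ideal.Quotient.lift (Ideal.span {(ε : DualNumber A)}) (TrivSqZeroExt.fstHom A A A).toRingHom (by
    intro x hx
    obtain ⟨c, rfl⟩ := Ideal.mem_span_singleton'.mp hx
    simp)

/-- `R[ε]/J_φ → R/I`. -/
noncomputable def chi : (DualNumber R ⧸ W4c6puncthilbintro.liftIdeal I φ) →+* R ⧸ I :=
  Ideal.Quotient.lift (W4c6puncthilbintro.liftIdeal I φ)
    ((Ideal.Quotient.mk I).comp (TrivSqZeroExt.fstHom R R R).toRingHom) (by
    rintro x ⟨h, _⟩
    simpa using Ideal.Quotient.eq_zero_iff_mem.mpr h)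

/-- A left inverse of `f`. -/
noncomputable def g : (DualNumber A ⧸ Ideal.span {(ε : DualNumber A)}) ⊗[DualNumber A]
    (DualNumber R ⧸ W4c6puncthilbintro.liftIdeal I φ) →+ R ⧸ I :=
  TensorProduct.liftAddHom
    ((AddMonoidHom.mul.comp
      ((algebraMap A (R ⧸ I)).comp (psi (A := A))).toAddMonoidHom).compl₂
        (chi I φ).toAddMonoidHom) (by
    intro r s m
    obtain ⟨c, rfl⟩ := Ideal.Quotient.mk_surjective s
    obtain ⟨y, rfl⟩ := Ideal.Quotient.mk_surjective m
    have e1 : r • Ideal.Quotient.mk (Ideal.span {(ε : DualNumber A)}) c =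
        Ideal.Quotient.mk (Ideal.span {(ε : DualNumber A)}) (r * c) := rfl
    have e2 : r • Ideal.Quotient.mk (W4c6puncthilbintro.liftIdeal I φ) y =
        Ideal.Quotient.mk (W4c6puncthilbintro.liftIdeal I φ)
          (W4c6puncthilbintro.dualMap A R r * y) := rfl
    rw [e1, e2]
    simp only [AddMonoidHom.compl₂_apply, AddMonoidHom.comp_apply, AddMonoidHom.mul_apply,
      RingHom.toAddMonoidHom_eq_coe, AddMonoidHom.coe_coe, RingHom.comp_apply, psi, chi,
      Ideal.Quotient.lift_mk, AlgHom.toRingHom_eq_coe, RingHom.coe_coe, fstHom_apply,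
      fst_dualMap, map_mul]
    rw [← Ideal.Quotient.algebraMap_eq, ← IsScalarTower.algebraMap_apply]
    ring)

theorem g_f (x : R ⧸ I) : g (A := A) I φ (f (A := A) I φ x) = x := by
  obtain ⟨x, rfl⟩ := Ideal.Quotient.mk_surjective x
  rw [f_mk]
  simp [g, psi, chi]

theorem f_injective : Function.Injective (f (A := A) I φ) :=
  Function.LeftInverse.injective (g_f I φ)

theorem flat_liftIdeal [Module.Flat A (R ⧸ I)] :
    Module.Flat (DualNumber A) (DualNumber R ⧸ W4c6puncthilbintro.liftIdeal I φ) := by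
  apply flat_of_eps (h1_liftIdeal I φ)
  have hbc : IsBaseChange (DualNumber A ⧸ Ideal.span {(ε : DualNumber A)}) (f (A := A) I φ) := by
    refine isBaseChange_of_bijective (R := A) (S := DualNumber A ⧸ Ideal.span {(ε : DualNumber A)})
      (M := R ⧸ I) (N := (DualNumber A ⧸ Ideal.span {(ε : DualNumber A)}) ⊗[DualNumber A]
        (DualNumber R ⧸ W4c6puncthilbintro.liftIdeal I φ)) ?_ (f (A := A) I φ) ?_
    · intro s
      obtain ⟨a, ha⟩ := mk_inl_surjective s
      refine ⟨a, ?_⟩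
      rw [← ha]
      rfl
    · exact ⟨f_injective I φ, f_surjective I φ⟩
  exact Module.Flat.isBaseChange A _ (R ⧸ I) _ hbc

end flat

/-- Let A be a commutative ring, R a commutative A-algebra free as an A-module, I an ideal of R with R/I
flat over A, and view the dual numbers R[ε] as an algebra over A[ε] (ε ↦ ε). For φ : I → R/I linear
over R, let J_φ be the ideal of elements a + bε of R[ε] with a ∈ I and b ≡ φ(a) modulo I. Then each
R[ε]/J_φ is flat over A[ε] and J_φ reduces to I modulo ε; the assignment φ ↦ J_φ is injective; and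
every ideal J of R[ε] with R[ε]/J flat over A[ε] which reduces to I modulo ε equals some J_φ. Thus
the first-order liftings of I correspond one-to-one to Hom_R(I, R/I) (the tangent space of the
Hilbert scheme at I). -/
theorem result (A : Type u) [CommRing A] (R : Type u) [CommRing R]
    [Algebra A R] [Module.Free A R] (I : Ideal R) [Module.Flat A (R ⧸ I)] :
    (∀ φ : I →ₗ[R] R ⧸ I,
        Module.Flat (DualNumber A) (DualNumber R ⧸ W4c6puncthilbintro.liftIdeal I φ) ∧
          Ideal.map (TrivSqZeroExt.fstHom A R R) (W4c6puncthilbintro.liftIdeal I φ) = I) ∧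
      Function.Injective (W4c6puncthilbintro.liftIdeal I) ∧
      ∀ J : Ideal (DualNumber R), Module.Flat (DualNumber A) (DualNumber R ⧸ J) →
        Ideal.map (TrivSqZeroExt.fstHom A R R) J = I →
          ∃ φ : I →ₗ[R] R ⧸ I, J = W4c6puncthilbintro.liftIdeal I φ := by
  refine ⟨fun φ => ⟨flat_liftIdeal I φ, map_fstHom_liftIdeal φ⟩, liftIdeal_injective I, ?_⟩
  intro J hflat hJ
  exact exists_of_flat I J hJ

end Groth.Agent.S19452
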