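import Groth.Statements.S19462
import Mathlib
-- import your own Groth.Agent.* helpers here

set_option autoImplicit false
universe u
open GrNak

namespace Groth.Agent.S19462


open DirectSum

section Graded

variable {R : Type u} [CommRing R]
  {σ : Type u} [SetLike σ R] [AddSubmonoidClass σ R] (𝒜 : ℤ → σ) [GradedRing 𝒜]
  {M : Type u} [AddCommGroup M] [Module R M]
  {τ : Type u} [SetLike τ M] [AddSubmonoidClass τ M] (ℳ : ℤ → τ) [DirectSum.Decomposition ℳ]
  [SetLike.GradedSMul 𝒜 ℳ]

/-- the component of a product with a homogeneous element. -/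
lemma decompose_smul_of_mem (c : R) {y : M} {e : ℤ} (hy : y ∈ ℳ e) (d : ℤ) :
    ((decompose ℳ (c • y)) d : M) = ((decompose 𝒜 c) (d - e) : R) • y := by
  classical
  conv_lhs => rw [← DirectSum.sum_support_decompose 𝒜 c, Finset.sum_smul, decompose_sum]
  rw [DFinsupp.finsetSum_apply, AddSubmonoidClass.coe_finsetSum]
  have hterm : ∀ f : ℤ, ((decompose ℳ (((decompose 𝒜 c) f : R) • y)) d : M) =
      if f = d - e then ((decompose 𝒜 c) f : R) • y else 0 := by
    intro f
    have hmem : ((decompose 𝒜 c) f : R) • y ∈ ℳ (f + e) := by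
      have := SetLike.GradedSMul.smul_mem (A := 𝒜) (B := ℳ) (SetLike.coe_mem ((decompose 𝒜 c) f)) hy
      rwa [vadd_eq_add] at this
    split_ifs with h
    · have : f + e = d := by omega
      rw [← this]
      exact decompose_of_mem_same ℳ hmem
    · exact decompose_of_mem_ne ℳ hmem (by omega)
  simp_rw [hterm]
  rw [Finset.sum_ite_eq']
  split_ifs with h
  · rfl
  · rw [DFinsupp.mem_support_toFun, not_not] at h
    rw [h]; simp

/-- the irrelevant ideal, generated by the homogeneous elements of positive degree. -/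
def irr : Ideal R := Ideal.span {x | ∃ i : ℤ, 0 < i ∧ x ∈ 𝒜 i}

variable (hneg : ∀ i : ℤ, i < 0 → ∀ x ∈ 𝒜 i, x = 0)

include hneg in
lemma decompose_neg (r : R) {i : ℤ} (hi : i < 0) : ((decompose 𝒜 r) i : R) = 0 :=
  hneg i hi _ (SetLike.coe_mem _)

include hneg in
lemma decompose_zero_of_mem_irr {p : R} (hp : p ∈ irr 𝒜) : ((decompose 𝒜 p) 0 : R) = 0 := by
  induction hp using Submodule.closure_induction with
  | zero => simp
  | add x y _ _ hx hy => rw [decompose_add, DirectSum.add_apply, AddMemClass.coe_add, hx, hy, add_zero]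
  | smul_mem r x hx =>
    obtain ⟨i, hi, hxi⟩ := hx
    rw [decompose_smul_of_mem 𝒜 𝒜 r hxi 0, decompose_neg 𝒜 hneg r (by omega : (0 : ℤ) - i < 0),
      zero_smul]

include hneg in
lemma decompose_mem_irr (r : R) {e : ℤ} (he : e ≠ 0) : ((decompose 𝒜 r) e : R) ∈ irr 𝒜 := by
  rcases lt_or_gt_of_ne he with h | h
  · rw [decompose_neg 𝒜 hneg r h]; exact zero_mem _
  · exact Ideal.subset_span ⟨e, h, SetLike.coe_mem _⟩

include hneg in
lemma sub_decompose_zero_mem_irr (r : R) : r - ((decompose 𝒜 r) 0 : R) ∈ irr 𝒜 := by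
  classical
  have h1 : r = ∑ e ∈ (decompose 𝒜 r).support, ((decompose 𝒜 r) e : R) :=
    (DirectSum.sum_support_decompose 𝒜 r).symm
  have h2 : ((decompose 𝒜 r) 0 : R) =
      ∑ e ∈ (decompose 𝒜 r).support, if e = 0 then ((decompose 𝒜 r) e : R) else 0 := by
    rw [Finset.sum_ite_eq']
    split_ifs with h
    · rfl
    · rw [DFinsupp.mem_support_toFun, not_not] at h
      rw [h]; rfl
  have h3 : r - ((decompose 𝒜 r) 0 : R) = ∑ e ∈ (decompose 𝒜 r).support,
      (((decompose 𝒜 r) e : R) - if e = 0 then ((decompose 𝒜 r) e : R) else 0) := by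
    rw [Finset.sum_sub_distrib, ← h1, ← h2]
  rw [h3]
  refine sum_mem fun e _ => ?_
  split_ifs with h
  · rw [sub_self]; exact zero_mem _
  · rw [sub_zero]; exact decompose_mem_irr 𝒜 hneg r h

include ℳ hneg in
/-- elements congruent to `1` modulo the irrelevant ideal act injectively on graded modules. -/
lemma eq_zero_of_smul_eq_zero {r : R} (hr : r - 1 ∈ irr 𝒜) {x : M} (hx : r • x = 0) : x = 0 := by
  classical
  have hr0 : ((decompose 𝒜 r) 0 : R) = 1 := by
    have h := decompose_zero_of_mem_irr 𝒜 hneg hr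
    have h1 : ((decompose 𝒜 (1 : R)) 0 : R) = 1 :=
      decompose_of_mem_same 𝒜 SetLike.GradedOne.one_mem
    have h2 : r = (r - 1) + 1 := by ring
    rw [h2, decompose_add, DirectSum.add_apply, AddMemClass.coe_add, h, h1, zero_add]
  by_contra hx0
  have hne : (decompose ℳ x).support.Nonempty := by
    rw [Finset.nonempty_iff_ne_empty]
    intro hemp
    apply hx0
    rw [← DirectSum.sum_support_decompose ℳ x, hemp, Finset.sum_empty]
  set d := (decompose ℳ x).support.min' hne with hd
  have hdmem : d ∈ (decompose ℳ x).support := Finset.min'_mem _ hne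
  have hxd : ((decompose ℳ x) d : M) ≠ 0 := by
    rw [DFinsupp.mem_support_toFun] at hdmem
    intro h
    exact hdmem (Subtype.ext h)
  apply hxd
  have h1 : ((decompose ℳ (r • x)) d : M) = ((decompose ℳ x) d : M) := by
    conv_lhs => rw [← DirectSum.sum_support_decompose ℳ x, Finset.smul_sum, decompose_sum]
    rw [DFinsupp.finsetSum_apply, AddSubmonoidClass.coe_finsetSum]
    rw [Finset.sum_eq_single_of_mem d hdmem]
    · rw [decompose_smul_of_mem 𝒜 ℳ r (SetLike.coe_mem _) d, sub_self, hr0, one_smul]
    · intro f hf hfd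
      have hlt : d < f := lt_of_le_of_ne (Finset.min'_le _ f hf) (Ne.symm hfd)
      rw [decompose_smul_of_mem 𝒜 ℳ r (SetLike.coe_mem _) d,
        decompose_neg 𝒜 hneg r (by omega : d - f < 0), zero_smul]
  rw [← h1, hx, decompose_zero]
  rfl

include 𝒜 hneg in
/-- a finitely generated graded module is bounded below. -/
lemma exists_bound [Module.Finite R M] : ∃ d₀ : ℤ, ∀ d < d₀, ∀ m ∈ ℳ d, m = 0 := by
  classical
  obtain ⟨S, hS⟩ := (Module.finite_def.1 (inferInstance : Module.Finite R M))
  set T : Finset ℤ := S.biUnion fun s => (decompose ℳ s).support with hT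
  have key : ∀ m ∈ Submodule.span R (S : Set M), ∀ d : ℤ, (∀ f ∈ T, d < f) →
      ((decompose ℳ m) d : M) = 0 := by
    intro m hm d hd
    induction hm using Submodule.closure_induction with
    | zero => simp
    | add x y _ _ hx hy =>
      rw [decompose_add, DirectSum.add_apply, AddMemClass.coe_add, hx, hy, add_zero]
    | smul_mem r x hx =>
      conv_lhs => rw [← DirectSum.sum_support_decompose ℳ x, Finset.smul_sum, decompose_sum]
      rw [DFinsupp.finsetSum_apply, AddSubmonoidClass.coe_finsetSum]
      refine Finset.sum_eq_zero fun f hf => ?_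
      have hfT : f ∈ T := Finset.mem_biUnion.2 ⟨x, hx, hf⟩
      rw [decompose_smul_of_mem 𝒜 ℳ r (SetLike.coe_mem _) d,
        decompose_neg 𝒜 hneg r (by have := hd f hfT; omega : d - f < 0), zero_smul]
  by_cases hne : T.Nonempty
  · refine ⟨T.min' hne, fun d hd m hm => ?_⟩
    rw [← decompose_of_mem_same ℳ hm]
    exact key m (by rw [hS]; trivial) d (fun f hf => lt_of_lt_of_le hd (Finset.min'_le _ f hf))
  · refine ⟨0, fun d _ m hm => ?_⟩
    rw [← decompose_of_mem_same ℳ hm]
    refine key m (by rw [hS]; trivial) d (fun f hf => ?_)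
    exact absurd ⟨f, hf⟩ hne

include hneg in
/-- graded Nakayama: homogeneous elements generating modulo the irrelevant ideal generate. -/
lemma span_eq_top_of_sup_eq_top [Module.Finite R M] (G : Set M)
    (hG : ∀ g ∈ G, SetLike.IsHomogeneousElem ℳ g)
    (hsup : Submodule.span R G ⊔ (irr 𝒜 • ⊤ : Submodule R M) = ⊤) :
    Submodule.span R G = ⊤ := by
  classical
  set N := Submodule.span R G with hN
  -- `N` is homogeneous
  have hhom : ∀ n ∈ N, ∀ d : ℤ, ((decompose ℳ n) d : M) ∈ N := by
    intro n hn d
    induction hn using Submodule.closure_induction with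
    | zero => simp
    | add x y _ _ hx hy =>
      rw [decompose_add, DirectSum.add_apply, AddMemClass.coe_add]
      exact N.add_mem hx hy
    | smul_mem r x hx =>
      obtain ⟨e, he⟩ := hG x hx
      rw [decompose_smul_of_mem 𝒜 ℳ r he d]
      exact N.smul_mem _ (Submodule.subset_span hx)
  obtain ⟨d₀, hd₀⟩ := exists_bound 𝒜 ℳ hneg
  have hdeg : ∀ n : ℕ, ∀ d : ℤ, d < d₀ + n → ∀ m ∈ ℳ d, m ∈ N := by
    intro n
    induction n with
    | zero =>
      intro d hd m hm
      rw [hd₀ d (by simpa using hd) m hm]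
      exact N.zero_mem
    | succ n ih =>
      intro d hd m hm
      have hmtop : m ∈ N ⊔ (irr 𝒜 • ⊤ : Submodule R M) := by rw [hsup]; trivial
      obtain ⟨a, ha, b, hb, hab⟩ := Submodule.mem_sup.1 hmtop
      have hbd : ∀ b ∈ (irr 𝒜 • ⊤ : Submodule R M), ((decompose ℳ b) d : M) ∈ N := by
        intro b hb
        refine Submodule.smul_induction_on hb (fun p hp x _ => ?_) (fun x y hx hy => ?_)
        · have hx' : p • x = ∑ f ∈ (decompose ℳ x).support, p • ((decompose ℳ x) f : M) := by
            rw [← Finset.smul_sum, DirectSum.sum_support_decompose ℳ x]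
          rw [hx', decompose_sum, DFinsupp.finsetSum_apply, AddSubmonoidClass.coe_finsetSum]
          refine N.sum_mem fun f _ => ?_
          rw [decompose_smul_of_mem 𝒜 ℳ p (SetLike.coe_mem _) d]
          rcases lt_trichotomy f d with hfd | hfd | hfd
          · exact N.smul_mem _ (ih f (by push_cast at hd; omega) _ (SetLike.coe_mem _))
          · rw [hfd, sub_self, decompose_zero_of_mem_irr 𝒜 hneg hp, zero_smul]
            exact N.zero_mem
          · rw [decompose_neg 𝒜 hneg p (by omega : d - f < 0), zero_smul]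
            exact N.zero_mem
        · rw [decompose_add, DirectSum.add_apply, AddMemClass.coe_add]
          exact N.add_mem hx hy
      have : m = ((decompose ℳ a) d : M) + ((decompose ℳ b) d : M) := by
        rw [← AddMemClass.coe_add, ← DirectSum.add_apply, ← decompose_add, hab,
          decompose_of_mem_same ℳ hm]
      rw [this]
      exact N.add_mem (hhom a ha d) (hbd b hb)
  rw [eq_top_iff]
  intro m _
  rw [← DirectSum.sum_support_decompose ℳ m]
  refine N.sum_mem fun d _ => ?_
  refine hdeg (d - d₀ + 1).toNat d ?_ _ (SetLike.coe_mem _)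
  have := Int.self_le_toNat (d - d₀ + 1)
  omega

end Graded

section Main

variable {k : Type u} [Field k] {R : Type u} [CommRing R] [Algebra k R]
  {σ : Type u} [SetLike σ R] [AddSubmonoidClass σ R] (𝒜 : ℤ → σ) [GradedRing 𝒜]
  (hneg : ∀ i : ℤ, i < 0 → ∀ x ∈ 𝒜 i, x = 0)
  (h0 : ∀ x ∈ 𝒜 0, ∃ c : k, algebraMap k R c = x)

include hneg h0 in
lemma irr_isMaximal [Nontrivial R] : (irr 𝒜).IsMaximal := by
  rw [Ideal.isMaximal_iff]
  constructor
  · intro h1
    have := decompose_zero_of_mem_irr 𝒜 hneg h1
    rw [decompose_of_mem_same 𝒜 SetLike.GradedOne.one_mem] at this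
    exact one_ne_zero this
  · intro J x hJ hx hxJ
    obtain ⟨c, hc⟩ := h0 _ (SetLike.coe_mem ((decompose 𝒜 x) 0))
    have hp := sub_decompose_zero_mem_irr 𝒜 hneg x
    have hc0 : c ≠ 0 := by
      rintro rfl
      rw [map_zero] at hc
      rw [← hc, sub_zero] at hp
      exact hx hp
    have : (1 : R) = algebraMap k R c⁻¹ * (x - (x - ((decompose 𝒜 x) 0 : R))) := by
      rw [sub_sub_cancel, ← hc, ← map_mul, inv_mul_cancel₀ hc0, map_one]
    rw [this]
    exact J.mul_mem_left _ (J.sub_mem hxJ (hJ hp))

lemma mem_smul_top_of_coeff_mem {ι : Type u} (I : Ideal R) (z : ι →₀ R) (hz : ∀ j, z j ∈ I) :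
    z ∈ (I • ⊤ : Submodule R (ι →₀ R)) := by
  rw [← Finsupp.sum_single z]
  refine Submodule.sum_mem _ fun j _ => ?_
  rw [← Finsupp.smul_single_one]
  exact Submodule.smul_mem_smul (hz j) trivial

variable {M : Type u} [AddCommGroup M] [Module R M]
  {τ : Type u} [SetLike τ M] [AddSubmonoidClass τ M] (ℳ : ℤ → τ) [DirectSum.Decomposition ℳ]
  [SetLike.GradedSMul 𝒜 ℳ]

include hneg h0 in
theorem exists_homogeneous_basis [Nontrivial R] [Module.Finite R M] [Module.Projective R M] :
    ∃ (ι : Type u) (b : Module.Basis ι R M), ∀ i : ι, SetLike.IsHomogeneousElem ℳ (b i) := by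
  classical
  haveI := irr_isMaximal 𝒜 hneg h0
  set I := irr 𝒜 with hI
  letI : Field (R ⧸ I) := Ideal.Quotient.field I
  set mk : M →ₗ[R] (M ⧸ (I • ⊤ : Submodule R M)) := Submodule.mkQ _ with hmk
  -- a spanning set of homogeneous classes
  set S : Set (M ⧸ (I • ⊤ : Submodule R M)) :=
    {v | ∃ m, SetLike.IsHomogeneousElem ℳ m ∧ mk m = v} with hSdef
  have hS : Submodule.span (R ⧸ I) S = ⊤ := by
    rw [eq_top_iff]
    intro v _
    obtain ⟨m, rfl⟩ := Submodule.mkQ_surjective _ v
    rw [← DirectSum.sum_support_decompose ℳ m, map_sum]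
    refine Submodule.sum_mem _ fun d _ => Submodule.subset_span ?_
    exact ⟨_, ⟨d, SetLike.coe_mem _⟩, rfl⟩
  obtain ⟨b, hbS, hbspan, hbli⟩ := exists_linearIndependent (R ⧸ I) S
  have hbtop : Submodule.span (R ⧸ I) b = ⊤ := hbspan.trans hS
  choose g hg1 hg2 using fun v : b => hbS v.2
  haveI : Finite b := hbli.finite
  set φ : (b →₀ R) →ₗ[R] M := Finsupp.linearCombination R g with hφ
  -- generation
  have hGspan : Submodule.span R (Set.range g) = ⊤ := by
    refine span_eq_top_of_sup_eq_top 𝒜 ℳ hneg (Set.range g) ?_ ?_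
    · rintro _ ⟨v, rfl⟩; exact hg1 v
    · rw [eq_top_iff]
      intro m _
      have hm : mk m ∈ Submodule.span (R ⧸ I) b := by rw [hbtop]; trivial
      have key : ∀ v ∈ Submodule.span (R ⧸ I) b,
          ∃ n ∈ Submodule.span R (Set.range g), mk n = v := by
        intro v hv
        induction hv using Submodule.span_induction with
        | mem v hv => exact ⟨g ⟨v, hv⟩, Submodule.subset_span ⟨_, rfl⟩, hg2 ⟨v, hv⟩⟩
        | zero => exact ⟨0, Submodule.zero_mem _, map_zero _⟩
        | add x y _ _ hx hy =>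
          obtain ⟨n₁, hn₁, rfl⟩ := hx
          obtain ⟨n₂, hn₂, rfl⟩ := hy
          exact ⟨n₁ + n₂, Submodule.add_mem _ hn₁ hn₂, map_add _ _ _⟩
        | smul a x _ hx =>
          obtain ⟨n, hn, rfl⟩ := hx
          obtain ⟨r, rfl⟩ := Ideal.Quotient.mk_surjective a
          exact ⟨r • n, Submodule.smul_mem _ _ hn, rfl⟩
      obtain ⟨n, hn, hnm⟩ := key _ hm
      have hker : m - n ∈ (I • ⊤ : Submodule R M) := by
        rw [← Submodule.ker_mkQ (I • ⊤ : Submodule R M), LinearMap.mem_ker, map_sub]
        exact sub_eq_zero.2 hnm.symm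
      have : m = n + (m - n) := by abel
      rw [this]
      exact Submodule.add_mem _ (Submodule.mem_sup_left hn) (Submodule.mem_sup_right hker)
  have hφsurj : Function.Surjective φ := by
    rw [← LinearMap.range_eq_top, hφ, Finsupp.range_linearCombination, hGspan]
  -- splitting
  obtain ⟨s, hs⟩ := Module.projective_lifting_property φ LinearMap.id hφsurj
  have hs' : ∀ m, φ (s m) = m := fun m => by
    have := congrArg (fun f => f m) hs
    simpa using this
  -- the section is the identity modulo `I`
  have hsec : ∀ i : b, s (g i) - Finsupp.single i 1 ∈ (I • ⊤ : Submodule R (b →₀ R)) := by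
    intro i
    apply mem_smul_top_of_coeff_mem
    intro j
    set y := s (g i) with hy
    have h1 : mk (φ y) = (i : M ⧸ (I • ⊤ : Submodule R M)) := by rw [hs', hg2]
    have h2 : Finsupp.linearCombination (R ⧸ I) (Subtype.val : b → M ⧸ (I • ⊤ : Submodule R M))
        (y.mapRange (Ideal.Quotient.mk I) (map_zero _) - Finsupp.single i 1) = 0 := by
      rw [map_sub, Finsupp.linearCombination_single, one_smul, sub_eq_zero, ← h1,
        Finsupp.linearCombination_apply, Finsupp.sum_mapRange_index (by intro a; exact zero_smul _ _),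
        hφ, Finsupp.linearCombination_apply, map_finsuppSum]
      refine Finsupp.sum_congr fun a _ => ?_
      rw [← hg2 a]
      rfl
    have h3 := linearIndependent_iff.1 hbli _ h2
    have h4 := DFunLike.congr_fun h3 j
    rw [Finsupp.sub_apply, Finsupp.mapRange_apply, Finsupp.zero_apply, sub_eq_zero] at h4
    rw [Finsupp.sub_apply, ← Ideal.Quotient.eq, h4]
    rw [Finsupp.single_apply, Finsupp.single_apply]
    split_ifs <;> simp
  -- the projection onto the kernel
  set Q : (b →₀ R) →ₗ[R] (b →₀ R) := LinearMap.id - s ∘ₗ φ with hQ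
  have hQtop : ∀ z, Q z ∈ (I • ⊤ : Submodule R (b →₀ R)) := by
    intro z
    induction z using Finsupp.induction_linear with
    | zero => rw [map_zero]; exact Submodule.zero_mem _
    | add x y hx hy => rw [map_add]; exact Submodule.add_mem _ hx hy
    | single j r =>
      have : Q (Finsupp.single j r) = -(r • (s (g j) - Finsupp.single j 1)) := by
        rw [hQ, LinearMap.sub_apply, LinearMap.id_apply, LinearMap.comp_apply, hφ,
          Finsupp.linearCombination_single, map_smul, smul_sub, Finsupp.smul_single_one]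
        abel
      rw [this]
      exact Submodule.neg_mem _ (Submodule.smul_mem _ _ (hsec j))
  have hQker : ∀ z, Q z ∈ LinearMap.ker φ := by
    intro z
    rw [LinearMap.mem_ker, hQ, LinearMap.sub_apply, LinearMap.id_apply, LinearMap.comp_apply,
      map_sub, hs', sub_self]
  have hQid : ∀ x ∈ LinearMap.ker φ, Q x = x := by
    intro x hx
    rw [hQ, LinearMap.sub_apply, LinearMap.id_apply, LinearMap.comp_apply,
      LinearMap.mem_ker.1 hx, map_zero, sub_zero]
  have hle : LinearMap.ker φ ≤ I • LinearMap.ker φ := by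
    intro x hx
    have h1 : Q x ∈ Submodule.map Q (I • ⊤ : Submodule R (b →₀ R)) :=
      Submodule.mem_map_of_mem (by rw [← hQid x hx]; exact hQtop x)
    rw [Submodule.map_smul''] at h1
    rw [← hQid x hx]
    refine Submodule.smul_mono le_rfl ?_ h1
    rintro _ ⟨z, -, rfl⟩
    exact hQker z
  have hfg : (LinearMap.ker φ).FG := by
    have : LinearMap.ker φ = Submodule.map Q ⊤ := by
      apply le_antisymm
      · intro x hx; exact ⟨x, trivial, hQid x hx⟩
      · rintro _ ⟨z, -, rfl⟩; exact hQker z
    rw [this]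
    exact Submodule.FG.map _ (Module.finite_def.1 inferInstance)
  obtain ⟨r, hr, hrk⟩ :=
    Submodule.exists_sub_one_mem_and_smul_eq_zero_of_fg_of_le_smul I (LinearMap.ker φ) hfg hle
  have hφinj : Function.Injective φ := by
    rw [← LinearMap.ker_eq_bot, eq_bot_iff]
    intro x hx
    rw [Submodule.mem_bot]
    ext j
    have h1 := DFunLike.congr_fun (hrk x hx) j
    rw [Finsupp.smul_apply, Finsupp.zero_apply] at h1
    rw [Finsupp.zero_apply]
    exact eq_zero_of_smul_eq_zero 𝒜 𝒜 hneg hr h1
  refine ⟨b, Module.Basis.ofRepr (LinearEquiv.ofBijective φ ⟨hφinj, hφsurj⟩).symm, fun i => ?_⟩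
  have : (Module.Basis.ofRepr (LinearEquiv.ofBijective φ ⟨hφinj, hφsurj⟩).symm) i = g i := by
    rw [Module.Basis.coe_ofRepr]
    simp [hφ]
  rw [this]
  exact hg1 i

end Main


/-- Let k be a field and R a commutative ℤ-graded k-algebra whose pieces of negative degree vanish and
whose degree-zero piece is the image of k, and let M be a finitely generated ℤ-graded R-module,
graded compatibly with R. Then M is a projective R-module if and only if M has an R-basis consisting
of homogeneous elements, i.e. M is a free graded module. (The published statement takes R a graded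
quotient of a polynomial ring k[x_0, …, x_n] with its standard grading; stated here for any
commutative graded k-algebra concentrated in non-negative degrees with degree-zero part k, to which
the same graded-Nakayama argument applies.) -/
theorem result {k : Type u} [Field k] {R : Type u} [CommRing R] [Algebra k R]
    {σ : Type u} [SetLike σ R] [AddSubmonoidClass σ R] (𝒜 : ℤ → σ) [GradedRing 𝒜]
    (hneg : ∀ i : ℤ, i < 0 → ∀ x ∈ 𝒜 i, x = 0)
    (hk : ∀ c : k, algebraMap k R c ∈ 𝒜 0) (h0 : ∀ x ∈ 𝒜 0, ∃ c : k, algebraMap k R c = x)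
    {M : Type u} [AddCommGroup M] [Module R M] [Module.Finite R M]
    {τ : Type u} [SetLike τ M] [AddSubmonoidClass τ M] (ℳ : ℤ → τ) [DirectSum.Decomposition ℳ]
    [SetLike.GradedSMul 𝒜 ℳ] :
    Module.Projective R M ↔
      ∃ (ι : Type u) (b : Module.Basis ι R M), ∀ i : ι, SetLike.IsHomogeneousElem ℳ (b i) := by
  constructor
  · intro hproj
    rcases subsingleton_or_nontrivial R with hR | hR
    · have : Subsingleton M := Module.subsingleton R M
      exact ⟨PEmpty, Module.Basis.empty M, fun i => i.elim⟩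
    · exact exists_homogeneous_basis 𝒜 hneg h0 ℳ
  · rintro ⟨ι, b, -⟩
    exact Module.Projective.of_basis b


end Groth.Agent.S19462
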