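import Groth.Statements.S19480
import Groth.Agent.R2.H47QuietFrobQuot

set_option autoImplicit false
open CategoryTheory AlgebraicGeometry MvPolynomial
universe u
open Quiet

namespace Groth.Agent.S19480

/-- Let k be a perfect field of prime characteristic p, A a smooth k-algebra of characteristic p and
t_1, …, t_n a regular sequence in A, so that A₀ = A/(t_1^p, …, t_n^p) is a p-good algebra when A has
a system of parameters; let v_1, …, v_m ∈ A[Y_1, …, Y_r] have images forming a regular sequence in
A₀[Y_1, …, Y_r], and put B_0 = A[Y]/(t_1^p, …, t_n^p, v_1, …, v_m). Identify A^{1/p} with A as a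
ring, so that u_i = t_i^p and the Frobenius x ↦ x^p of A[Y] carries the ideal (t_i^p, v_j) into
(u_i^p, v_j^p) = (t_i^{p²}, v_j^p). Then: (ii) (t_1^{p²}, …, t_n^{p²}, v_1^p, …, v_m^p) is a regular
sequence in A[Y]; (iii) the induced ring map β : B_0 → B = A[Y]/(t_i^{p²}, v_j^p) is faithfully flat
and Spec β is an extraction of p-th roots, i.e. every point of Spec B_0 has an affine open
neighbourhood with affine preimage over which the ring map is a tower of finitely many elementary
extractions R → R[x]/(x^p − a). (The published statement also assumes B_0 faithfully flat and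
syntomic over A₀ and A good; these are not used for (ii) and (iii) and are not assumed here. The v_j
are taken in A[Y] rather than in A₀[Y], which is how their p-th powers in A^{1/p}[Y] are meant.) -/
theorem result (p : ℕ) [Fact p.Prime]
    (k : Type u) [Field k] [CharP k p] [PerfectRing k p] (A : Type u) [CommRing A] [Algebra k A]
    [CharP A p] [Algebra.Smooth k A] (n : ℕ) (t : Fin n → A) (ht : RingTheory.Sequence.IsRegular A (List.ofFn t))
    (r m : ℕ) (v : Fin m → MvPolynomial (Fin r) A)
    (hv : RingTheory.Sequence.IsRegular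
      (MvPolynomial (Fin r) A ⧸ Ideal.span (Set.range fun i => C (t i) ^ p))
      (List.ofFn fun j => Ideal.Quotient.mk (Ideal.span (Set.range fun i => C (t i) ^ p)) (v j))) :
    RingTheory.Sequence.IsRegular (MvPolynomial (Fin r) A)
        (List.ofFn (fun i => C (t i) ^ (p ^ 2)) ++ List.ofFn (fun j => v j ^ p)) ∧
      (Ideal.quotientMap ((Ideal.span (Set.range (fun i => C (t i) ^ p) ∪ Set.range v)).map (frobenius (MvPolynomial (Fin r) A) p)) (frobenius (MvPolynomial (Fin r) A) p) Ideal.le_comap_map).FaithfullyFlat ∧
      Quiet.IsPthRoot p (Spec.map (CommRingCat.ofHom (Ideal.quotientMap ((Ideal.span (Set.range (fun i => C (t i) ^ p) ∪ Set.range v)).map (frobenius (MvPolynomial (Fin r) A) p)) (frobenius (MvPolynomial (Fin r) A) p) Ideal.le_comap_map))) := by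
  classical
  haveI : Nontrivial A := CharP.nontrivial_of_char_ne_one (R := A) (Fact.out : p.Prime).ne_one
  let P := MvPolynomial (Fin r) A
  haveI : Algebra.Smooth A P := ⟨inferInstance, inferInstance⟩
  haveI : Algebra.Smooth k P := Algebra.Smooth.comp k A P
  have hFA := Groth.Agent.R2.H47.QuietFrob.faithfullyFlat_frobenius_of_smooth p k A
  have hFP := Groth.Agent.R2.H47.QuietFrob.faithfullyFlat_frobenius_of_smooth p k P
  have hRP := Groth.Agent.R2.H47.QuietFrob.isPthRoot_frobenius_of_smooth p k P
  refine ⟨?_, Groth.Agent.R2.H47.QuietFrobQuot.faithfullyFlat_quotientMap _ hFP _,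
    Groth.Agent.R2.H47.QuietFrobQuot.isPthRoot_quotientMap p _ hRP _⟩
  -- the regular sequence
  have h1 := Groth.Agent.R2.H47.QuietFrobQuot.isRegular_map_of_faithfullyFlat (frobenius A p) hFA ht
  have hC : (C : A →+* P).FaithfullyFlat := by
    change (algebraMap A P).FaithfullyFlat
    rw [RingHom.faithfullyFlat_algebraMap_iff]
    infer_instance
  have h2 := Groth.Agent.R2.H47.QuietFrobQuot.isRegular_map_of_faithfullyFlat (C : A →+* P) hC h1
  let rs₁ : List P := List.ofFn (fun i => C (t i) ^ p)
  let rs₂ : List P := List.ofFn v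
  have e1 : ((List.ofFn t).map (frobenius A p)).map (C : A →+* P) = rs₁ := by
    rw [List.map_ofFn, List.map_ofFn]
    congr 1
    funext i
    simp [frobenius_def]
  rw [e1] at h2
  have hJ : Ideal.span (Set.range fun i => (C (t i) : P) ^ p) = Ideal.ofList rs₁ := by
    congr 1
    ext x
    simp only [rs₁, List.mem_ofFn, Set.mem_range]
    exact Iff.rfl
  have e2 : (List.ofFn fun j => Ideal.Quotient.mk (Ideal.span (Set.range fun i => (C (t i) : P) ^ p))
      (v j)) = rs₂.map (Ideal.Quotient.mk (Ideal.span (Set.range fun i => (C (t i) : P) ^ p))) := by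
    rw [List.map_ofFn]
    rfl
  rw [e2] at hv
  have h3 := Groth.Agent.R2.H47.QuietFrobQuot.isRegular_append_of_quotient rs₁ rs₂ _ hJ h2 hv
  have h4 := Groth.Agent.R2.H47.QuietFrobQuot.isRegular_map_of_faithfullyFlat (frobenius P p) hFP h3
  have e3 : (rs₁ ++ rs₂).map (frobenius P p) =
      List.ofFn (fun i => (C (t i) : P) ^ (p ^ 2)) ++ List.ofFn (fun j => v j ^ p) := by
    rw [List.map_append, List.map_ofFn, List.map_ofFn]
    congr 2
    funext i
    simp [frobenius_def, ← pow_mul, pow_two]
  rw [e3] at h4
  exact h4

end Groth.Agent.S19480
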