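-- Statement S19488 (W4c1frobunstiva.epi_adjoint_and_epi_kernelComparison_pullback...).
-- Proof: the pushforward along a closed immersion is faithful (every open of the source is the
-- preimage of an open of the target), so the counit of the adjunction is an epimorphism; the
-- pullback is a left adjoint, hence right exact, which gives both assertions.
import Groth.Statements.S19488

set_option autoImplicit false
universe u
open CategoryTheory CategoryTheory.Limits AlgebraicGeometry
open W4c1frobunstiva

namespace Groth.Agent.S19488

/-- The pushforward of modules along a morphism which is a topological embedding is faithful. -/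
theorem pushforward_faithful_of_isEmbedding {S T : Scheme.{u}} (f : S ⟶ T)
    (hf : Topology.IsEmbedding f) : (Scheme.Modules.pushforward f).Faithful where
  map_injective {M N} φ ψ h := by
    apply Scheme.Modules.hom_ext
    intro W
    obtain ⟨V, hV, hVW⟩ := hf.isInducing.isOpen_iff.mp W.isOpen
    obtain rfl : f ⁻¹ᵁ ⟨V, hV⟩ = W := TopologicalSpace.Opens.ext hVW
    have := congrArg (fun χ => Scheme.Modules.Hom.app χ ⟨V, hV⟩) h
    exact this

/-- A right exact functor between abelian categories sends the kernel of an epimorphism onto the
kernel of its image. -/
theorem epi_kernelComparison_of_epi {A B : Type*} [Category A] [Category B] [Abelian A] [Abelian B]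
    (F : A ⥤ B) [F.PreservesZeroMorphisms] [PreservesFiniteColimits F] {X Y : A} (g : X ⟶ Y)
    [Epi g] : Epi (kernelComparison g F) := by
  let Sc : ShortComplex A := ShortComplex.mk (kernel.ι g) g (kernel.condition g)
  have hS : Sc.Exact := ShortComplex.exact_of_f_is_kernel _ (kernelIsKernel g)
  have hS' : (Sc.map F).Exact :=
    hS.map_of_epi_of_preservesCokernel F (inferInstanceAs (Epi g)) inferInstance
  exact (Sc.map F).exact_iff_epi_kernel_lift.1 hS'

/-- Fix a closed immersion of schemes f : S → T, an O_T-module G, an O_S-module E and an epimorphism ψ :
G → f_*E. Then the morphism ψ′ : f^*G → E that corresponds to ψ under the adjunction between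
pullback and pushforward (it is the pullback f^*ψ followed by the counit f^*f_*E → E, an isomorphism
for a closed immersion) is an epimorphism, and the canonical map f^*(ker ψ) → ker(f^*ψ) is an
epimorphism. (The published statement takes G and E locally free, which these two assertions do not
use.) -/
theorem result
    {S T : Scheme.{u}} (f : S ⟶ T) [IsClosedImmersion f] (G : T.Modules) (E : S.Modules)
    (ψ : G ⟶ (Scheme.Modules.pushforward f).obj E) [Epi ψ] :
    Epi (((Scheme.Modules.pullbackPushforwardAdjunction f).homEquiv G E).symm ψ) ∧
      Epi (kernelComparison ψ (Scheme.Modules.pullback f)) := by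
  have hfaith : (Scheme.Modules.pushforward f).Faithful :=
    pushforward_faithful_of_isEmbedding f f.isClosedEmbedding.isEmbedding
  have : PreservesColimitsOfSize.{0, 0} (Scheme.Modules.pullback f) :=
    (Scheme.Modules.pullbackPushforwardAdjunction f).leftAdjoint_preservesColimits
  have : PreservesFiniteColimits (Scheme.Modules.pullback f) :=
    PreservesColimitsOfSize.preservesFiniteColimits _
  constructor
  · rw [Adjunction.homEquiv_counit]
    have h1 : Epi ((Scheme.Modules.pullback f).map ψ) := inferInstance
    have h2 : Epi ((Scheme.Modules.pullbackPushforwardAdjunction f).counit.app E) := inferInstance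
    exact epi_comp _ _
  · exact epi_kernelComparison_of_epi _ ψ

end Groth.Agent.S19488
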