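import Groth.Statements.S19514
import Groth.Agent.R2.H39FibBC

set_option autoImplicit false
universe u
open CategoryTheory CategoryTheory.Limits AlgebraicGeometry
open Variety

namespace Groth.Agent.S19514

/-- Let k be a field and f : X → Y a k-morphism between proper k-schemes which is a fibration, i.e. O_Y
→ f_*O_X is an isomorphism (Γ(V, O_Y) → Γ(f⁻¹V, O_X) bijective for every open V ⊆ Y). If X is
geometrically integral over k, then so is Y. (The assertion of (iii) for geometric normality is not
stated here.) -/
theorem result (k : Type u) [Field k] (X Y : Scheme.{u})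
    [X.Over (Spec (CommRingCat.of k))] [Y.Over (Spec (CommRingCat.of k))] [IsProper (X ↘ Spec (CommRingCat.of k))] [IsProper (Y ↘ Spec (CommRingCat.of k))]
    (f : X ⟶ Y) (hf : f ≫ (Y ↘ Spec (CommRingCat.of k)) = X ↘ Spec (CommRingCat.of k)) (hfib : ∀ V : Y.Opens, IsIso (f.app V))
    [GeometricallyIntegral (X ↘ Spec (CommRingCat.of k))] : GeometricallyIntegral (Y ↘ Spec (CommRingCat.of k)) := by
  have hqs : QuasiSeparated f := by
    have : QuasiSeparated (f ≫ (Y ↘ Spec (CommRingCat.of k))) := by rw [hf]; infer_instance
    exact QuasiSeparated.of_comp f (Y ↘ Spec (CommRingCat.of k))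
  have hqc : QuasiCompact f := by
    have : QuasiCompact (f ≫ (Y ↘ Spec (CommRingCat.of k))) := by rw [hf]; infer_instance
    exact QuasiCompact.of_comp f (Y ↘ Spec (CommRingCat.of k))
  refine ⟨fun K _ y Z' fst' snd' hZ' => ?_⟩
  -- `y : Spec K ⟶ Spec k` is flat, hence so is `fst' : Z' ⟶ Y`
  have hflat : Flat y := by
    have : Subsingleton ↥(Spec (CommRingCat.of k)) :=
      inferInstanceAs (Subsingleton (PrimeSpectrum k))
    infer_instance
  have hflat' : Flat fst' := MorphismProperty.of_isPullback hZ'.flip hflat
  -- the base change of `X`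
  have hint : IsIntegral (pullback (X ↘ Spec (CommRingCat.of k)) y) :=
    pullback_of_geometrically (GeometricallyIntegral.geometrically_isIntegral
      (f := X ↘ Spec (CommRingCat.of k))) K y
  let fK : pullback (X ↘ Spec (CommRingCat.of k)) y ⟶ Z' :=
    hZ'.lift (pullback.fst _ _ ≫ f) (pullback.snd _ _) (by
      rw [Category.assoc, hf, pullback.condition])
  have H : IsPullback (pullback.fst (X ↘ Spec (CommRingCat.of k)) y) fK f fst' := by
    refine (IsPullback.of_right ?_ (hZ'.lift_fst _ _ _) hZ'.flip).flip
    rw [hZ'.lift_snd, hf]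
    exact (IsPullback.of_hasPullback _ _).flip
  have hfibK := Groth.Agent.R2.H39.FibBC.isIso_app_of_isPullback H hfib
  exact Groth.Agent.R2.H39.FibBC.isIntegral_of_forall_isIso_app fK hfibK

end Groth.Agent.S19514
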