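-- Statement S19530 (Subtr.exists_finite_chain_lift_of_univSSubtrusive).
-- Proof: a finite chain of specializations in `Y` is the image of a chain of primes of a valuation
-- ring `V` (iterated composites, `H96ChainVal`); by the valuative form of universal S-subtrusiveness
-- (`Helper10SubtrVal2.main2`) there is a valuation ring `V'` over `X` with `Spec V' → Spec V`
-- surjective, and the primes of `V'` are totally ordered.
import Groth.Statements.S19530
import Groth.Agent.Lib.Helper10SubtrVal2
import Groth.Agent.R2.H96ChainVal

set_option autoImplicit false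
universe u
open CategoryTheory CategoryTheory.Limits AlgebraicGeometry
open Subtr

namespace Groth.Agent.S19530

/-- Let f : X ⟶ Y be a morphism of schemes such that every base change of f has the lifting property for
ordered pairs of points (every point together with a specialization of it is the image of such a
pair). Then every finite chain of points y_0, y_1, …, y_n of Y, in which y_j is a specialization of
y_i whenever i ≤ j, lifts to a chain in X: there are points x_0, …, x_n of X with x_j a
specialization of x_i for i ≤ j and f(x_i) = y_i for every i. (The published statement is for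
universally subtrusive f, which adds submersiveness for the constructible topologies, and for
arbitrary chains having a lower bound in Y; this row keeps the pair-lifting property alone and
finite chains, whose most special member is a lower bound.) -/
theorem result {X Y : Scheme.{u}} (f : X ⟶ Y)
    (hf : Subtr.UnivSSubtrusive f) (n : ℕ) (y : Fin (n + 1) → Y)
    (hy : ∀ i j : Fin (n + 1), i ≤ j → y i ⤳ y j) :
    ∃ x : Fin (n + 1) → X, (∀ i j : Fin (n + 1), i ≤ j → x i ⤳ x j) ∧ ∀ i, f (x i) = y i := by
  classical
  -- an affine open neighbourhood of the most special point contains the whole chain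
  obtain ⟨U, hU, hyU⟩ : ∃ U : Y.Opens, IsAffineOpen U ∧ y (Fin.last n) ∈ U := by
    obtain ⟨_, ⟨W, hW, rfl⟩, hyW, -⟩ :=
      Y.isBasis_affineOpens.exists_subset_of_mem_open (Set.mem_univ (y (Fin.last n))) isOpen_univ
    exact ⟨W, hW, hyW⟩
  have hmem : ∀ i, y i ∈ U := fun i =>
    (hy i (Fin.last n) (Fin.le_last i)).mem_open U.isOpen hyU
  let q : Fin (n + 1) → PrimeSpectrum Γ(Y, U) := fun i => hU.primeIdealOf ⟨y i, hmem i⟩
  have hq : ∀ i, hU.fromSpec (q i) = y i := fun i => hU.fromSpec_primeIdealOf ⟨y i, hmem i⟩
  have hqle : ∀ i j, i ≤ j → q i ≤ q j := by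
    intro i j hij
    rw [PrimeSpectrum.le_iff_specializes]
    apply (hU.fromSpec.isOpenEmbedding.isInducing.specializes_iff).mp
    rw [hq, hq]
    exact hy i j hij
  -- extend the chain to all natural numbers
  let c : ℕ → Fin (n + 1) := fun k => ⟨min k n, Nat.lt_succ_of_le (min_le_right k n)⟩
  have hc : Monotone c := fun a b hab => by
    change min a n ≤ min b n
    exact min_le_min_right n hab
  have hci : ∀ i : Fin (n + 1), c i.1 = i := fun i =>
    Fin.ext (min_eq_left (Nat.lt_succ_iff.mp i.2))
  obtain ⟨V, _, _, _, φ, P, hPmono, hPcomap, -⟩ :=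
    Groth.Agent.R2.H96.ChainVal.exists_valuationRing_chain Γ(Y, U) (fun k => q (c k))
      (fun a b hab => hqle _ _ (hc hab)) n
  let g : Spec (CommRingCat.of V) ⟶ Y := Spec.map (CommRingCat.ofHom φ) ≫ hU.fromSpec
  have hg : ∀ i : Fin (n + 1), g (P i.1) = y i := by
    intro i
    change hU.fromSpec ((P i.1).comap φ) = y i
    rw [hPcomap i.1 (Nat.lt_succ_iff.mp i.2), hci, hq]
  -- the valuative criterion
  obtain ⟨V', _, _, _, a, b, hb, hab⟩ :=
    (Groth.Agent.Lib.Helper10.SubtrVal.main2 f).mp hf V g
  -- choose a lift of every point of `Spec V`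
  choose l hl using hb.surj
  have hlmono : ∀ s t : PrimeSpectrum V, s ≤ t →
      (l s : Spec (CommRingCat.of V')) ⤳ (l t : Spec (CommRingCat.of V')) := by
    intro s t hst
    rcases (ValuationRing.le_total_ideal (A := V')).total (PrimeSpectrum.asIdeal (l s))
      (PrimeSpectrum.asIdeal (l t)) with h | h
    · exact (PrimeSpectrum.le_iff_specializes (l s) (l t)).mp h
    · have h1 : (l t : Spec (CommRingCat.of V')) ⤳ (l s : Spec (CommRingCat.of V')) :=
        (PrimeSpectrum.le_iff_specializes (l t) (l s)).mp h
      have h2 : b (l t) ⤳ b (l s) := h1.map b.continuous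
      have h3 : t ≤ s := by
        rw [PrimeSpectrum.le_iff_specializes]
        exact (hl t) ▸ (hl s) ▸ h2
      obtain rfl : s = t := le_antisymm hst h3
      exact specializes_rfl
  refine ⟨fun i => a (l (P i.1)), ?_, ?_⟩
  · intro i j hij
    have h1 : P i.1 ≤ P j.1 := hPmono i.1 j.1 hij (Nat.lt_succ_iff.mp j.2)
    exact (hlmono _ _ h1).map a.continuous
  · intro i
    have h1 : f (a (l (P i.1))) = g (b (l (P i.1))) :=
      congrArg (fun m : Spec (CommRingCat.of V') ⟶ Y => m (l (P i.1))) hab
    exact h1.trans ((congrArg g (hl (P i.1))).trans (hg i))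

end Groth.Agent.S19530
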