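import Groth.Statements.S19533
import Groth.Agent.R2.H96Rigid
import Groth.Agent.Lib.Helper11RigidityB
import Groth.Agent.Lib.Helper11SmInt
import Groth.Agent.Lib.Helper11RedCl
import Groth.Agent.Lib.Helper6SmGeom

set_option autoImplicit false
universe u
open CategoryTheory CategoryTheory.Limits MonoidalCategory CartesianMonoidalCategory MonObj GrpObj AlgebraicGeometry
open AbVar

namespace Groth.Agent.S19533

open Groth.Agent.Lib.Helper11Rigidity Groth.Agent.Lib.Helper11SmInt Groth.Agent.R2.H96.Rigid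
open TopologicalSpace

section Top

/-- On a closed preconnected subset of a Noetherian space, a function which is constant on every
irreducible closed subset is constant. -/
theorem const_of_const_on_irreducible {α : Type*} {β : Type*} [TopologicalSpace α]
    [NoetherianSpace α] (S : Set α) (hS : IsClosed S) (hconn : IsPreconnected S) (g : α → β)
    (hg : ∀ Z : Set α, IsIrreducible Z → IsClosed Z → Z ⊆ S → ∀ a ∈ Z, ∀ b ∈ Z, g a = g b) :
    ∀ a ∈ S, ∀ b ∈ S, g a = g b := by
  intro a ha b hb
  have : PreconnectedSpace ↥S := Subtype.preconnectedSpace hconn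
  have hfin : (irreducibleComponents ↥S).Finite := NoetherianSpace.finite_irreducibleComponents
  have hconst : ∀ Z' ∈ irreducibleComponents ↥S, ∀ u ∈ Z', ∀ v ∈ Z', g u.1 = g v.1 := by
    intro Z' hZ' u hu v hv
    have hirr : IsIrreducible Z' := hZ'.1
    have hcl : IsClosed Z' := isClosed_of_mem_irreducibleComponents Z' hZ'
    refine hg (Subtype.val '' Z') (hirr.image _ continuous_subtype_val.continuousOn)
      (hS.isClosedEmbedding_subtypeVal.isClosedMap _ hcl) ?_ u.1 ⟨u, hu, rfl⟩ v.1 ⟨v, hv, rfl⟩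
    rintro _ ⟨w, -, rfl⟩
    exact w.2
  let C₁ : Set (Set ↥S) := {Z' ∈ irreducibleComponents ↥S | ∀ z ∈ Z', g z.1 = g a}
  let C₂ : Set (Set ↥S) := {Z' ∈ irreducibleComponents ↥S | ¬ ∀ z ∈ Z', g z.1 = g a}
  have hC₁cl : IsClosed (⋃₀ C₁) := by
    rw [Set.sUnion_eq_biUnion]
    refine Set.Finite.isClosed_biUnion (hfin.subset fun Z' hZ' => hZ'.1) fun Z' hZ' => ?_
    exact isClosed_of_mem_irreducibleComponents Z' hZ'.1
  have hC₂cl : IsClosed (⋃₀ C₂) := by
    rw [Set.sUnion_eq_biUnion]
    refine Set.Finite.isClosed_biUnion (hfin.subset fun Z' hZ' => hZ'.1) fun Z' hZ' => ?_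
    exact isClosed_of_mem_irreducibleComponents Z' hZ'.1
  have hcover : ⋃₀ C₁ ∪ ⋃₀ C₂ = Set.univ := by
    rw [← Set.sUnion_union, ← sUnion_irreducibleComponents (X := ↥S)]
    congr 1
    ext Z'
    simp only [C₁, C₂, Set.mem_union, Set.mem_ofPred_eq]
    tauto
  have hdisj : Disjoint (⋃₀ C₁) (⋃₀ C₂) := by
    rw [Set.disjoint_left]
    rintro w ⟨Z₁, hZ₁, hw₁⟩ ⟨Z₂, hZ₂, hw₂⟩
    apply hZ₂.2
    intro z hz
    rw [hconst Z₂ hZ₂.1 z hz w hw₂]
    exact hZ₁.2 w hw₁
  have hclopen : IsClopen (⋃₀ C₁) := by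
    refine ⟨hC₁cl, ?_⟩
    have : ⋃₀ C₁ = (⋃₀ C₂)ᶜ := by
      ext w
      constructor
      · intro hw hw'
        exact Set.disjoint_left.mp hdisj hw hw'
      · intro hw
        have : w ∈ ⋃₀ C₁ ∪ ⋃₀ C₂ := hcover ▸ Set.mem_univ w
        exact this.resolve_right hw
    rw [this]
    exact hC₂cl.isOpen_compl
  have hmem : ∀ w : ↥S, ∃ Z' ∈ irreducibleComponents ↥S, w ∈ Z' := fun w =>
    ⟨irreducibleComponent w, irreducibleComponent_mem_irreducibleComponents w,
      mem_irreducibleComponent⟩
  have ha1 : (⟨a, ha⟩ : ↥S) ∈ ⋃₀ C₁ := by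
    obtain ⟨Z', hZ', haZ'⟩ := hmem ⟨a, ha⟩
    exact ⟨Z', ⟨hZ', fun z hz => hconst Z' hZ' z hz ⟨a, ha⟩ haZ'⟩, haZ'⟩
  have huniv : ⋃₀ C₁ = Set.univ := by
    rcases isClopen_iff.mp hclopen with h | h
    · rw [h] at ha1; exact ha1.elim
    · exact h
  have hb1 : (⟨b, hb⟩ : ↥S) ∈ ⋃₀ C₁ := huniv ▸ Set.mem_univ _
  obtain ⟨Z', hZ', hbZ'⟩ := hb1
  exact (hZ'.2 ⟨b, hb⟩ hbZ').symm

theorem isClosed_connectedComponentIn {α : Type*} [TopologicalSpace α] {F : Set α}
    (hF : IsClosed F) (x : α) : IsClosed (connectedComponentIn F x) := by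
  by_cases hx : x ∈ F
  · rw [connectedComponentIn_eq_image hx]
    exact hF.isClosedEmbedding_subtypeVal.isClosedMap _ isClosed_connectedComponent
  · rw [connectedComponentIn_eq_empty hx]
    exact isClosed_empty

end Top

section Formal

variable {C : Type*} [Category C] [CartesianMonoidalCategory C] {A : C} [GrpObj A]

/-- Left translation by a point. -/
def trans (a : 𝟙_ C ⟶ A) : A ⟶ A := (toUnit A ≫ a) * 𝟙 A

theorem comp_trans {T : C} (a : 𝟙_ C ⟶ A) (b : T ⟶ A) :
    b ≫ trans a = (toUnit T ≫ a) * b := by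
  rw [trans, MonObj.comp_mul, Category.comp_id, ← Category.assoc,
    toUnit_unique (b ≫ toUnit A) (toUnit T)]

theorem pt_trans (a b : 𝟙_ C ⟶ A) : b ≫ trans a = a * b := by
  rw [comp_trans, toUnit_unique (toUnit (𝟙_ C)) (𝟙 _), Category.id_comp]

end Formal

section Main

theorem irreducibleSpace_of_isEmbedding {α β : Type*} [TopologicalSpace α] [TopologicalSpace β]
    {f : α → β} (hf : Topology.IsEmbedding f) (h : IsIrreducible (Set.range f)) :
    IrreducibleSpace α := by
  have : IrreducibleSpace (Set.range f) := Subtype.irreducibleSpace h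
  let e := hf.toHomeomorph
  have h1 : IsIrreducible (e.symm '' Set.univ) :=
    (IrreducibleSpace.isIrreducible_univ _).image _ e.symm.continuous.continuousOn
  rw [Set.image_univ_of_surjective e.symm.surjective] at h1
  exact { isPreirreducible_univ := h1.isPreirreducible
          toNonempty := Set.nonempty_iff_univ_nonempty.mpr h1.nonempty }

variable {k : Type u} [Field k] [IsAlgClosed k]

/-- Rigidity on an irreducible closed subset contracted by `f`: all translates are contracted. -/
theorem component_const (A : Over (Spec (CommRingCat.of k))) [GrpObj A] [IsProper A.hom]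
    [Smooth A.hom] [IrreducibleSpace A.left]
    {Y : Scheme.{u}} (q : Y ⟶ Spec (CommRingCat.of k)) [IsSeparated q] (f : A.left ⟶ Y)
    (hf : f ≫ q = A.hom) (y₀ : Y) (Z : Set A.left) (hZirr : IsIrreducible Z) (hZcl : IsClosed Z)
    (hZ : ∀ z ∈ Z, f z = y₀) (a : 𝟙_ (Over (Spec (CommRingCat.of k))) ⟶ A) :
    ∀ z₁ ∈ Z, ∀ z₂ ∈ Z, f ((trans a).left z₁) = f ((trans a).left z₂) := by
  let S := Spec (CommRingCat.of k)
  let pt : S := IsLocalRing.closedPoint k
  have hpt : ∀ s : S, s = pt := fun s => Subsingleton.elim _ _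
  let Zc : Closeds A.left := ⟨Z, hZcl⟩
  let XZ := (Scheme.IdealSheafData.vanishingIdeal Zc).subscheme
  let ιZ : XZ ⟶ A.left := (Scheme.IdealSheafData.vanishingIdeal Zc).subschemeι
  have hrange : Set.range ιZ = Z :=
    Groth.Agent.Lib.Helper11RedCl.range_subschemeι_vanishingIdeal Zc
  let X : Over (Spec (CommRingCat.of k)) := Over.mk (ιZ ≫ A.hom)
  let ιX : X ⟶ A := Over.homMk ιZ rfl
  have hprop : IsProper X.hom := by
    show IsProper (ιZ ≫ A.hom); infer_instance
  have hred : IsReduced X.left := by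
    show IsReduced XZ
    exact Groth.Agent.Lib.Helper11RedCl.isReduced_subscheme_vanishingIdeal Zc
  have hirr : IrreducibleSpace X.left := by
    show IrreducibleSpace XZ
    exact irreducibleSpace_of_isEmbedding ιZ.isEmbedding (hrange ▸ hZirr)
  have hint : IsIntegral X.left := isIntegral_of_irreducibleSpace_of_isReduced _
  have hΓ : Function.Bijective X.hom.appTop := appTop_bijective_of_isAlgClosed X.hom
  -- a rational point of `X`
  have hcomp : CompactSpace X.left := QuasiCompact.compactSpace_of_compactSpace X.hom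
  obtain ⟨w⟩ : Nonempty X.left := inferInstance
  obtain ⟨c, -, hc⟩ := (isClosed_univ : IsClosed (Set.univ : Set X.left)).exists_closed_singleton
    ⟨w, trivial⟩
  let x₀ : 𝟙_ (Over S) ⟶ X :=
    Over.homMk (pointOfClosedPoint X.hom c hc) (pointOfClosedPoint_comp X.hom c hc)
  have hLN : IsLocallyNoetherian X.left := LocallyOfFiniteType.isLocallyNoetherian X.hom
  have hGR : GeometricallyReduced A.hom := by
    constructor
    intro K _ y Z' fst' snd' hpb
    have : Smooth snd' := MorphismProperty.of_isPullback hpb inferInstance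
    exact Groth.Agent.Lib.Helper6.SmGeom.isReduced_of_smooth_over_field K Z' snd'
  have hredP : IsReduced (X ⊗ A).left := by
    rw [Over.tensorObj_left]; infer_instance
  let Yo : Over (Spec (CommRingCat.of k)) := Over.mk q
  let fY : A ⟶ Yo := Over.homMk f hf
  have hsepY : IsSeparated Yo.hom := by
    show IsSeparated q; infer_instance
  let F : X ⊗ A ⟶ Yo := (snd X A * (fst X A ≫ ιX)) ≫ fY
  have hsl : ∀ b : 𝟙_ (Over S) ⟶ A, slice X b ≫ F = (ιX ≫ trans b) ≫ fY := by
    intro b
    show slice X b ≫ (snd X A * (fst X A ≫ ιX)) ≫ fY = _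
    rw [← Category.assoc, MonObj.comp_mul, lift_snd, ← Category.assoc, lift_fst,
      Category.id_comp, comp_trans]
  have h : ∀ x : X.left, (slice X η[A] ≫ F).left.base x = y₀ := by
    intro x
    have h1 : slice X η[A] ≫ F = ιX ≫ fY := by
      rw [hsl, comp_trans, toUnit_eta, _root_.one_mul]
    rw [h1]
    show f (ιZ x) = y₀
    exact hZ _ (hrange ▸ ⟨x, rfl⟩)
  have key := rigidity_set X A Yo hΓ F x₀ η[A] y₀ h
  -- restrict to the slice over `a`
  have h2 : (ιX ≫ trans a) ≫ fY =
      toUnit X ≫ (a ≫ lift (toUnit A ≫ x₀) (𝟙 A) ≫ F) := by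
    rw [← hsl a]
    conv_lhs => rw [key]
    rw [← Category.assoc, lift_snd, Category.assoc]
  have h3 : ∀ z : X.left, f ((trans a).left (ιZ z)) =
      (a ≫ lift (toUnit A ≫ x₀) (𝟙 A) ≫ F).left pt := by
    intro z
    show ((ιX ≫ trans a) ≫ fY).left z = _
    rw [h2]
    show (a ≫ lift (toUnit A ≫ x₀) (𝟙 A) ≫ F).left ((toUnit X).left z) = _
    rw [hpt ((toUnit X).left z)]
  intro z₁ hz₁ z₂ hz₂
  rw [← hrange] at hz₁ hz₂
  obtain ⟨w₁, rfl⟩ := hz₁
  obtain ⟨w₂, rfl⟩ := hz₂
  rw [h3 w₁, h3 w₂]

/-- Let k be an algebraically closed field, A an abelian variety over k (a k-group scheme whose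
structure morphism is proper, smooth and geometrically connected) with unit point e, Y a scheme
separated over k and f : A → Y a morphism over k. Write F₀ for the connected component of e in the
fibre f⁻¹(f(e)). Then the k-rational points of F₀ are stable under the group law: if k-points x and
y of A lie in F₀ then so do the product point x·y and the inverse point x⁻¹. (The published
statement is for Y a k-variety and concludes that F₀ with its reduced structure is an abelian
subvariety, together with the translation formula F_a = a + F₀; this row records the closure of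
F₀(k) under multiplication and inversion, for Y merely separated over k.) -/
theorem result (k : Type u) [Field k] [IsAlgClosed k]
    (A : Over (Spec (CommRingCat.of k))) [GrpObj A] [IsProper A.hom] [Smooth A.hom] [GeometricallyConnected A.hom]
    {Y : Scheme.{u}} (q : Y ⟶ Spec (CommRingCat.of k)) [IsSeparated q] (f : A.left ⟶ Y) (hf : f ≫ q = A.hom)
    (x y : 𝟙_ (Over (Spec (CommRingCat.of k))) ⟶ A)
    (hx : x.left (IsLocalRing.closedPoint k) ∈
      connectedComponentIn (f ⁻¹' {f (η[A].left (IsLocalRing.closedPoint k))}) (η[A].left (IsLocalRing.closedPoint k)))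
    (hy : y.left (IsLocalRing.closedPoint k) ∈
      connectedComponentIn (f ⁻¹' {f (η[A].left (IsLocalRing.closedPoint k))}) (η[A].left (IsLocalRing.closedPoint k))) :
    (lift x y ≫ μ[A]).left (IsLocalRing.closedPoint k) ∈
        connectedComponentIn (f ⁻¹' {f (η[A].left (IsLocalRing.closedPoint k))}) (η[A].left (IsLocalRing.closedPoint k)) ∧
      (x ≫ ι[A]).left (IsLocalRing.closedPoint k) ∈
        connectedComponentIn (f ⁻¹' {f (η[A].left (IsLocalRing.closedPoint k))}) (η[A].left (IsLocalRing.closedPoint k)) := by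
  let S := Spec (CommRingCat.of k)
  let pt : S := IsLocalRing.closedPoint k
  have hpt : ∀ s : S, s = pt := fun s => Subsingleton.elim _ _
  -- `A` is integral
  have hAdom : ∀ a : A.left, IsDomain (A.left.presheaf.stalk a) := isDomain_stalk_of_smooth k A.hom
  have hconn : ConnectedSpace A.left :=
    GeometricallyConnected.connectedSpace_of_subsingleton (f := A.hom)
  have hcomp : CompactSpace A.left := QuasiCompact.compactSpace_of_compactSpace A.hom
  have hNoe : IsNoetherian A.left := { __ := LocallyOfFiniteType.isLocallyNoetherian A.hom }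
  have hAint : IsIntegral A.left := isIntegral_of_connected_of_isDomain_stalk hAdom
  -- notation
  obtain ⟨e, he⟩ : ∃ e : A.left, e = η[A].left pt := ⟨_, rfl⟩
  rw [← he] at hx hy ⊢
  obtain ⟨Φ, hΦdef⟩ : ∃ Φ : Set A.left, Φ = f ⁻¹' {f e} := ⟨_, rfl⟩
  rw [← hΦdef] at hx hy ⊢
  let Yo : Over (Spec (CommRingCat.of k)) := Over.mk q
  let fY : A ⟶ Yo := Over.homMk f hf
  -- the fibre is closed
  have hclpt : IsClosed ({f e} : Set Y) := by
    have hsec : (η[A] ≫ fY).left ≫ q = 𝟙 S := Over.w (η[A] ≫ fY)
    have hci : IsClosedImmersion (η[A] ≫ fY).left := isClosedImmersion_of_comp_eq_id q _ hsec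
    have hr := (η[A] ≫ fY).left.isClosedEmbedding.isClosed_range
    have : Set.range (η[A] ≫ fY).left = {f e} := by
      ext y'
      constructor
      · rintro ⟨s, rfl⟩
        rw [hpt s, he]
        rfl
      · rintro rfl
        exact ⟨pt, by rw [he]; rfl⟩
    rwa [this] at hr
  have hΦ : IsClosed Φ := by
    rw [hΦdef]; exact hclpt.preimage f.continuous
  have hF₀cl : IsClosed (connectedComponentIn Φ e) := isClosed_connectedComponentIn hΦ e
  have heΦ : e ∈ Φ := by rw [hΦdef]; rfl
  have heF₀ : e ∈ connectedComponentIn Φ e := mem_connectedComponentIn heΦ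
  have htrans_e : ∀ a : 𝟙_ (Over S) ⟶ A, (trans a).left e = a.left pt := by
    intro a
    have h1 : η[A] ≫ trans a = a := by rw [pt_trans, eta_eq_one, _root_.mul_one]
    rw [he, ← Scheme.Hom.comp_apply, ← Over.comp_left, h1]
  have hpt_trans : ∀ a b : 𝟙_ (Over S) ⟶ A, (trans a).left (b.left pt) = (a * b).left pt := by
    intro a b
    rw [← Scheme.Hom.comp_apply, ← Over.comp_left, pt_trans]
  -- the key claim
  have claim : ∀ (a : 𝟙_ (Over S) ⟶ A), ∀ z ∈ connectedComponentIn Φ e,
      f ((trans a).left z) = f (a.left pt) := by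
    intro a z hz
    have hconst := const_of_const_on_irreducible (connectedComponentIn Φ e) hF₀cl
      isPreconnected_connectedComponentIn (fun w => f ((trans a).left w)) ?_ z hz e heF₀
    · rw [← htrans_e a]
      exact hconst
    · intro Z hZirr hZcl hZsub z₁ hz₁ z₂ hz₂
      refine component_const A q f hf (f e) Z hZirr hZcl (fun z' hz' => ?_) a z₁ hz₁ z₂ hz₂
      have := connectedComponentIn_subset _ _ (hZsub hz')
      rw [hΦdef] at this
      exact this
  have hsub : ∀ a : 𝟙_ (Over S) ⟶ A, f (a.left pt) = f e →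
      (trans a).left '' connectedComponentIn Φ e ⊆ Φ := by
    intro a ha
    rintro _ ⟨z, hz, rfl⟩
    rw [hΦdef]
    show f _ = f e
    rw [claim a z hz, ha]
  have hpre : ∀ a : 𝟙_ (Over S) ⟶ A,
      _root_.IsPreconnected ((trans a).left '' connectedComponentIn Φ e) := fun a =>
    isPreconnected_connectedComponentIn.image _ (trans a).left.continuous.continuousOn
  have hxΦ : f (x.left pt) = f e := by
    have := connectedComponentIn_subset _ _ hx
    rw [hΦdef] at this
    exact this
  refine ⟨?_, ?_⟩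
  · -- the product
    have h1 : (lift x y ≫ μ[A]).left pt = (trans x).left (y.left pt) := by
      rw [hpt_trans]; rfl
    rw [h1]
    have hxS : x.left pt ∈ (trans x).left '' connectedComponentIn Φ e :=
      ⟨e, heF₀, htrans_e x⟩
    have hS := (hpre x).subset_connectedComponentIn hxS (hsub x hxΦ)
    rw [← connectedComponentIn_eq hx] at hS
    exact hS ⟨y.left pt, hy, rfl⟩
  · -- the inverse
    have h1 : x ≫ ι[A] = x⁻¹ := rfl
    rw [h1]
    have h2 : (trans x⁻¹).left (x.left pt) = e := by
      rw [hpt_trans, _root_.inv_mul_cancel, he, ← eta_eq_one]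
    have heS : e ∈ (trans x⁻¹).left '' connectedComponentIn Φ e := ⟨x.left pt, hx, h2⟩
    have hinvΦ : f ((x⁻¹).left pt) = f e := by
      rw [← claim x⁻¹ (x.left pt) hx, h2]
    have hS := (hpre x⁻¹).subset_connectedComponentIn heS (hsub x⁻¹ hinvΦ)
    exact hS ⟨e, heF₀, htrans_e x⁻¹⟩

end Main

end Groth.Agent.S19533
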