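import Groth.Statements.S19541
import Groth.Agent.Lib.Helper10CurveFlat
import Groth.Agent.Lib.Helper20EtLocalSch
import Groth.Agent.Lib.Helper6LfpComp
import Groth.Agent.Lib.Helper6SmRegSch
import Groth.Agent.Lib.Helper28Catenary

set_option autoImplicit false
universe u
open CategoryTheory CategoryTheory.Limits AlgebraicGeometry TopologicalSpace
open Curves

namespace Groth.Agent.S19541

open Groth.Agent.Lib

/-- The local ring at a closed point of an integral scheme with more than one point is not a
field. -/
theorem maximalIdeal_stalk_ne_bot {X : Scheme.{u}} [IsIntegral X] (x : X)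
    (hx : IsClosed ({x} : Set X)) (hne : ∃ a b : X, a ≠ b) :
    IsLocalRing.maximalIdeal (X.presheaf.stalk x) ≠ ⊥ := by
  intro h0
  have hspec : genericPoint X ⤳ x := genericPoint_specializes x
  have hmem : genericPoint X ∈ Set.range (X.fromSpecStalk x) := by
    rw [Scheme.range_fromSpecStalk]; exact hspec
  obtain ⟨q, hq⟩ := hmem
  have hq' : q = IsLocalRing.closedPoint _ := by
    apply PrimeSpectrum.ext
    have h1 : q.asIdeal ≤ IsLocalRing.maximalIdeal _ := IsLocalRing.le_maximalIdeal q.2.ne_top
    rw [h0, le_bot_iff] at h1
    rw [h1]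
    exact h0.symm
  rw [hq', Scheme.fromSpecStalk_closedPoint] at hq
  have h1 : closure ({x} : Set X) = Set.univ := by
    rw [hq]
    exact (genericPoint_spec X).def
  rw [hx.closure_eq] at h1
  obtain ⟨a, b, hab⟩ := hne
  apply hab
  have ha : a ∈ ({x} : Set X) := h1 ▸ Set.mem_univ a
  have hb : b ∈ ({x} : Set X) := h1 ▸ Set.mem_univ b
  rw [Set.mem_singleton_iff] at ha hb
  rw [ha, hb]

attribute [local instance] specializationOrder in
theorem exists_ne_of_dim {X : Scheme.{u}} (hdX : topologicalKrullDim X = 1) :
    ∃ a b : X, a ≠ b := by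
  have h1 : (1 : WithBot ℕ∞) ≤ topologicalKrullDim X := hdX.ge
  rw [Helper7.topologicalKrullDim_eq_krullDim_points, Order.one_le_krullDim_iff] at h1
  obtain ⟨a, b, hab⟩ := h1
  exact ⟨a, b, hab.ne⟩

/-- Pointwise criterion for a map of smooth curves to be étale: let k be an algebraically closed field,
X and Y integral schemes each smooth, separated and quasi-compact over Spec k and of dimension one,
φ : X → Y a morphism over k and x a closed point of X. Then φ is étale at x (the restriction of φ to
some open neighbourhood of x is étale) if and only if the induced homomorphism of stalks O_{Y,φ(x)}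
→ O_{X,x} carries the maximal ideal of the discrete valuation ring O_{Y,φ(x)} to an ideal generating
the maximal ideal of O_{X,x}; equivalently a uniformiser at φ(x) pulls back to a uniformiser at x.
(The published statement is for smooth curves, which are in addition geometrically connected;
integrality is what is used. For a constant φ both sides fail.) -/
theorem result (k : Type u) [Field k] [IsAlgClosed k] {X Y : Scheme.{u}}
    (pX : X ⟶ Spec (CommRingCat.of k)) (pY : Y ⟶ Spec (CommRingCat.of k)) (φ : X ⟶ Y) (w : φ ≫ pY = pX)
    [IsIntegral X] [Smooth pX] [IsSeparated pX] [QuasiCompact pX] (hdX : topologicalKrullDim X = 1)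
    [IsIntegral Y] [Smooth pY] [IsSeparated pY] [QuasiCompact pY] (hdY : topologicalKrullDim Y = 1)
    (x : X) (hx : IsClosed ({x} : Set X)) :
    (∃ U : X.Opens, x ∈ U ∧ Etale (U.ι ≫ φ)) ↔
      Ideal.map (φ.stalkMap x).hom (IsLocalRing.maximalIdeal (Y.presheaf.stalk (φ.base x))) =
        IsLocalRing.maximalIdeal (X.presheaf.stalk x) := by
  have hlfpX : LocallyOfFinitePresentation (φ ≫ pY) := by rw [w]; infer_instance
  have hlfp : LocallyOfFinitePresentation φ :=
    Helper6.locallyOfFinitePresentation_of_comp (g := pY) inferInstance hlfpX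
  have hlft : LocallyOfFiniteType φ := inferInstance
  constructor
  · rintro ⟨U, hxU, hU⟩
    have hun : (φ.stalkMap x).hom.FormallyUnramified :=
      Helper20.EtLocal.formallyUnramified_stalkMap_of_nbhd φ x U hxU
    exact ((Helper20.EtLocal.formallyUnramified_stalkMap_iff_local φ x).mp hun).1
  · intro H
    -- residue field extension is trivial
    have hsurj : Function.Surjective (φ.residueFieldMap x).hom := by
      let ι := residueFieldIsoBase pX x hx
      have hιinv : Spec.map ι.inv =
          Spec.map (Spec.preimage (Y.fromSpecResidueField (φ x) ≫ pY) ≫ φ.residueFieldMap x) := by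
        rw [SpecMap_residueFieldIsoBase_inv, Spec.map_comp, Spec.map_preimage, ← w,
          Scheme.Hom.SpecMap_residueFieldMap_fromSpecResidueField_assoc]
      have h2 := Spec.map_injective hιinv
      intro b
      refine ⟨(Spec.preimage (Y.fromSpecResidueField (φ x) ≫ pY)).hom (ι.hom.hom b), ?_⟩
      have h3 : ι.inv.hom (ι.hom.hom b) = b := by
        rw [← CommRingCat.comp_apply, Iso.hom_inv_id]
        rfl
      rw [h2] at h3
      exact h3
    have hunr : (φ.stalkMap x).hom.FormallyUnramified := by
      rw [Helper20.EtLocal.formallyUnramified_stalkMap_iff_local φ x]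
      refine ⟨H, ?_⟩
      letI := (φ.residueFieldMap x).hom.toAlgebra
      refine ⟨Module.Finite.of_surjective (Algebra.linearMap _ _) hsurj, ⟨fun b => ?_⟩⟩
      obtain ⟨a, rfl⟩ := hsurj b
      exact isSeparable_algebraMap a
    -- flatness
    have hLN : IsLocallyNoetherian Y := LocallyOfFiniteType.isLocallyNoetherian pY
    have hreg : IsRegularLocalRing (Y.presheaf.stalk (φ x)) :=
      Helper6.SmRegSch.isRegularLocalRing_stalk_of_smooth_over_field k Y pY (φ x)
    have hic : IsIntegrallyClosed (Y.presheaf.stalk (φ x)) :=
      Helper28.isIntegrallyClosed_of_isRegularLocalRing _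
    have hded : IsDedekindDomain (Y.presheaf.stalk (φ x)) :=
      Helper10.CurveFlat.isDedekindDomain_stalk Y hdY.le (φ x) hic
    have hmx : IsLocalRing.maximalIdeal (X.presheaf.stalk x) ≠ ⊥ :=
      maximalIdeal_stalk_ne_bot x hx (exists_ne_of_dim hdX)
    have hker : RingHom.ker (φ.stalkMap x).hom = ⊥ := by
      by_contra hne
      have hprime : (RingHom.ker (φ.stalkMap x).hom).IsPrime := RingHom.ker_isPrime _
      have hmax : (RingHom.ker (φ.stalkMap x).hom).IsMaximal := hprime.isMaximal hne
      have heq := IsLocalRing.eq_maximalIdeal hmax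
      apply hmx
      rw [← H, ← heq, Ideal.map_eq_bot_iff_le_ker]
    have hinj : Function.Injective (φ.stalkMap x).hom :=
      (RingHom.injective_iff_ker_eq_bot _).mpr hker
    have hflat : (φ.stalkMap x).hom.Flat :=
      Helper10.CurveFlat.flat_of_injective_of_isDedekindDomain _ hinj
    exact Helper20.EtLocal.exists_etale_nbhd φ x hunr hflat

end Groth.Agent.S19541
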