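import Groth.Statements.S19548
import Mathlib
-- import your own Groth.Agent.* helpers here

set_option autoImplicit false
universe u
open CategoryTheory AlgebraicGeometry
open RedSub

namespace Groth.Agent.S19548

variable {idx M N : Type} [AddCommGroup M] [AddCommGroup N]

/-- elements of the positive cone are non-negative integer combinations of the simple roots. -/
lemma closure_repr (P : RootPairing idx ℤ M N) (b : P.Base) (x : M)
    (hx : x ∈ AddSubmonoid.closure (P.root '' (b.support : Set idx))) :
    ∃ f : idx → ℤ, (∀ j, 0 ≤ f j) ∧ x = ∑ j ∈ b.support, f j • P.root j := by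
  classical
  induction hx using AddSubmonoid.closure_induction with
  | mem x hx =>
    obtain ⟨j, hj, rfl⟩ := hx
    refine ⟨Pi.single j 1, fun k => ?_, ?_⟩
    · by_cases hk : k = j
      · subst hk; simp
      · simp [Pi.single_eq_of_ne hk]
    · rw [Finset.sum_eq_single_of_mem j hj (fun k _ hk => by simp [Pi.single_eq_of_ne hk])]
      simp
  | zero => exact ⟨0, fun _ => le_rfl, by simp⟩
  | add x y _ _ hx hy =>
    obtain ⟨f, hf, rfl⟩ := hx
    obtain ⟨g, hg, rfl⟩ := hy
    exact ⟨f + g, fun j => add_nonneg (hf j) (hg j), by
      simp [add_smul, Finset.sum_add_distrib]⟩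

lemma isPos_of_mem_posRoots (P : RootPairing idx ℤ M N) (b : P.Base) {a : idx}
    (ha : a ∈ RedSub.posRoots P b) : b.IsPos a := by
  obtain ⟨f, hf, hfa⟩ := closure_repr P b _ ha
  rw [RootPairing.Base.isPos_iff', RootPairing.Base.height_eq_sum hfa]
  exact Finset.sum_nonneg fun j _ => hf j

lemma not_isPos_of_mem_negRoots (P : RootPairing idx ℤ M N) (b : P.Base) {a : idx}
    (ha : a ∈ RedSub.negRoots P b) : ¬ b.IsPos a := by
  obtain ⟨f, hf, hfa⟩ := closure_repr P b _ ha
  have hfa' : P.root a = ∑ j ∈ b.support, (-f) j • P.root j := by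
    rw [← neg_neg (P.root a), hfa]
    simp [Finset.sum_neg_distrib]
  rw [RootPairing.Base.isPos_iff, RootPairing.Base.height_eq_sum hfa', not_lt]
  simp only [Pi.neg_apply, Finset.sum_neg_distrib, neg_nonpos]
  exact Finset.sum_nonneg fun j _ => hf j

/-- conjugation of a reflection by a reflection. -/
lemma reflectionPerm_reflectionPerm (P : RootPairing idx ℤ M N) (j i : idx) :
    P.reflectionPerm (P.reflectionPerm j i) =
      P.reflectionPerm j * P.reflectionPerm i * P.reflectionPerm j := by
  ext k
  apply P.root.injective
  simp only [Equiv.Perm.coe_mul, Function.comp_apply, RootPairing.root_reflectionPerm,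
    RootPairing.reflection_reflectionPerm]
  rfl

/-- conjugation of a reflection by a word. -/
lemma reflectionPerm_wordPerm (P : RootPairing idx ℤ M N) (l : List idx) (k : idx) :
    P.reflectionPerm (RedSub.wordPerm P l k) =
      RedSub.wordPerm P l * P.reflectionPerm k * (RedSub.wordPerm P l)⁻¹ := by
  induction l with
  | nil => simp [RedSub.wordPerm]
  | cons a l ih =>
    have h1 : RedSub.wordPerm P (a :: l) = P.reflectionPerm a * RedSub.wordPerm P l := by
      simp [RedSub.wordPerm]
    rw [h1, Equiv.Perm.mul_apply, reflectionPerm_reflectionPerm, ih, mul_inv_rev,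
      RootPairing.reflectionPerm_inv]
    simp only [mul_assoc]

lemma wordPerm_take_succ (P : RootPairing idx ℤ M N) (l : List idx) (i : ℕ) (hi : i < l.length) :
    RedSub.wordPerm P (l.take (i + 1)) = RedSub.wordPerm P (l.take i) * P.reflectionPerm l[i] := by
  rw [List.take_succ_eq_append_getElem hi]
  simp only [RedSub.wordPerm, List.map_append, List.prod_append, List.map_cons, List.map_nil,
    List.prod_cons, List.prod_nil, mul_one]

/-- Let Φ be a finite reduced root system (a reduced root pairing over ℤ on a finite index set) with a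
base b, let w = σ_{α_1} ⋯ σ_{α_ℓ} be a reduced decomposition of a Weyl group element into simple
reflections (every α_j in the base, and no shorter word in the simple reflections gives the same
permutation of the roots), and let γ be a positive root with w⁻¹(γ) negative. Then for some i with 1
≤ i ≤ ℓ one has σ_γ σ_{α_1} ⋯ σ_{α_i} = σ_{α_1} ⋯ σ_{α_{i-1}}. (Indices are shifted by one below:
the word is a list and the prefixes are its first i + 1 and first i letters.) -/
theorem result {idx M N : Type}
    [AddCommGroup M] [AddCommGroup N] [Finite idx]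
    (P : RootPairing idx ℤ M N) [P.IsReduced] (b : P.Base) (l : List idx)
    (hl : ∀ a ∈ l, a ∈ b.support)
    (hred : ∀ l' : List idx, (∀ a ∈ l', a ∈ b.support) →
      RedSub.wordPerm P l' = RedSub.wordPerm P l → l.length ≤ l'.length)
    (c : idx) (hc : c ∈ RedSub.posRoots P b) (hneg : (RedSub.wordPerm P l).symm c ∈ RedSub.negRoots P b) :
    ∃ i : ℕ, i < l.length ∧
      P.reflectionPerm c * RedSub.wordPerm P (l.take (i + 1)) = RedSub.wordPerm P (l.take i) := by
  have h0 : b.IsPos ((RedSub.wordPerm P (l.take 0)).symm c) := by
    have h1 : RedSub.wordPerm P (l.take 0) = 1 := by simp [RedSub.wordPerm]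
    rw [h1]
    exact isPos_of_mem_posRoots P b hc
  have hlen : ¬ b.IsPos ((RedSub.wordPerm P (l.take l.length)).symm c) := by
    rw [List.take_length]
    exact not_isPos_of_mem_negRoots P b hneg
  -- the first index where positivity fails
  obtain ⟨i, hi, hpos, hnpos⟩ : ∃ i, i < l.length ∧
      b.IsPos ((RedSub.wordPerm P (l.take i)).symm c) ∧
      ¬ b.IsPos ((RedSub.wordPerm P (l.take (i + 1))).symm c) := by
    by_contra hcon
    push Not at hcon
    have : ∀ i, i ≤ l.length → b.IsPos ((RedSub.wordPerm P (l.take i)).symm c) := by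
      intro i
      induction i with
      | zero => intro _; exact h0
      | succ i ih => intro hi; exact hcon i hi (ih (Nat.le_of_succ_le hi))
    exact hlen (this l.length le_rfl)
  refine ⟨i, hi, ?_⟩
  have hmem : l[i] ∈ b.support := hl _ (List.getElem_mem hi)
  set w := RedSub.wordPerm P (l.take i) with hw
  have hsucc := wordPerm_take_succ P l i hi
  have heq : w.symm c = l[i] := by
    by_contra hne
    apply hnpos
    rw [hsucc]
    have := hpos.reflectionPerm hmem hne
    simpa [Equiv.Perm.mul_def, Equiv.symm_trans_apply, RootPairing.reflectionPerm_symm] using this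
  have hc' : c = w l[i] := by rw [← heq, Equiv.apply_symm_apply]
  rw [hsucc, hc', reflectionPerm_wordPerm P (l.take i) l[i], ← hw]
  have hsq : P.reflectionPerm l[i] * P.reflectionPerm l[i] = 1 := by
    rw [← sq, RootPairing.reflectionPerm_sq]
  rw [mul_assoc, mul_assoc, inv_mul_cancel_left, hsq, mul_one]

end Groth.Agent.S19548
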