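import Groth.Statements.S19569
import Mathlib
-- import your own Groth.Agent.* helpers here

set_option autoImplicit false
universe u
open CAlg

namespace Groth.Agent.S19569

open TensorProduct

section Lift

variable {ι : Type u} [Preorder ι] [IsDirected ι (· ≤ ·)] [Nonempty ι]
  (G : ι → Type u) [∀ i, CommRing (G i)] (f : ∀ i j, i ≤ j → (G i →+* G j))
  (A : Type u) [CommRing A] (g : ∀ i, G i →+* A)
  (hg : ∀ i j (h : i ≤ j), (g j).comp (f i j h) = g i)
  (hsurj : ∀ a : A, ∃ i, ∃ x : G i, g i x = a)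
  (hker : ∀ i (x : G i), g i x = 0 → ∃ j, ∃ h : i ≤ j, f i j h x = 0)

include hg hsurj in
/-- a ring map from a polynomial ring over `ℤ` in finitely many variables lifts to a finite stage. -/
lemma exists_lift_mvPolynomial (n : ℕ) (χ : MvPolynomial (Fin n) ℤ →+* A) :
    ∃ (i : ι) (θ : MvPolynomial (Fin n) ℤ →+* G i), (g i).comp θ = χ := by
  choose ik xk hxk using fun k : Fin n => hsurj (χ (MvPolynomial.X k))
  obtain ⟨i₀, hi₀⟩ := Finite.exists_le ik
  refine ⟨i₀, MvPolynomial.eval₂Hom (Int.castRingHom (G i₀)) (fun k => f (ik k) i₀ (hi₀ k) (xk k)), ?_⟩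
  apply MvPolynomial.ringHom_ext
  · intro r
    simp
  · intro k
    simp only [RingHom.comp_apply, MvPolynomial.eval₂Hom_X']
    rw [← RingHom.comp_apply, hg, hxk]

include hg hker in
/-- a lift to a finite stage can be improved to kill any finite set of elements dying in `A`. -/
lemma exists_lift_killing (n : ℕ) (χ : MvPolynomial (Fin n) ℤ →+* A)
    (T : Finset (MvPolynomial (Fin n) ℤ)) (hT : ∀ r ∈ T, χ r = 0)
    (i : ι) (θ : MvPolynomial (Fin n) ℤ →+* G i) (hθ : (g i).comp θ = χ) :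
    ∃ (j : ι) (θ' : MvPolynomial (Fin n) ℤ →+* G j), (g j).comp θ' = χ ∧ ∀ r ∈ T, θ' r = 0 := by
  classical
  induction T using Finset.induction_on with
  | empty => exact ⟨i, θ, hθ, by simp⟩
  | insert r T hr ih =>
    obtain ⟨j, θ', hθ', hkill⟩ := ih (fun r' hr' => hT r' (Finset.mem_insert_of_mem hr'))
    have hz : g j (θ' r) = 0 := by
      rw [← RingHom.comp_apply, hθ']
      exact hT r (Finset.mem_insert_self r T)
    obtain ⟨j', hjj', hz'⟩ := hker j (θ' r) hz
    refine ⟨j', (f j j' hjj').comp θ', ?_, ?_⟩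
    · rw [← RingHom.comp_assoc, hg, hθ']
    · intro r' hr'
      rcases Finset.mem_insert.1 hr' with rfl | hr'
      · exact hz'
      · rw [RingHom.comp_apply, hkill r' hr', map_zero]

include hg hsurj hker in
/-- a finitely generated `ℤ`-subalgebra of `A` lifts to a finite stage. -/
lemma exists_lift_subalgebra (A₀ : Subalgebra ℤ A) (hA₀ : A₀.FG) :
    ∃ (j : ι) (φ : A₀ →+* G j), (g j).comp φ = A₀.val.toRingHom := by
  classical
  have hft : Algebra.FiniteType ℤ A₀ := (Subalgebra.fg_iff_finiteType A₀).1 hA₀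
  obtain ⟨n, ψ, hψ⟩ := Algebra.FiniteType.iff_quotient_mvPolynomial''.1 hft
  set χ : MvPolynomial (Fin n) ℤ →+* A := A₀.val.toRingHom.comp ψ.toRingHom with hχ
  obtain ⟨i, θ, hθ⟩ := exists_lift_mvPolynomial G f A g hg hsurj n χ
  have hfg : (RingHom.ker ψ.toRingHom).FG := IsNoetherian.noetherian _
  obtain ⟨T, hT⟩ := hfg
  have hTχ : ∀ r ∈ T, χ r = 0 := by
    intro r hr
    have : r ∈ RingHom.ker ψ.toRingHom := by
      rw [← hT]; exact Ideal.subset_span hr
    rw [hχ, RingHom.comp_apply, (RingHom.mem_ker).1 this, map_zero]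
  obtain ⟨j, θ', hθ', hkill⟩ := exists_lift_killing G f A g hg hker n χ T hTχ i θ hθ
  have hle : RingHom.ker ψ.toRingHom ≤ RingHom.ker θ' := by
    rw [← hT, Ideal.span_le]
    intro r hr
    exact (RingHom.mem_ker).2 (hkill r hr)
  refine ⟨j, RingHom.liftOfSurjective ψ.toRingHom hψ ⟨θ', hle⟩, ?_⟩
  apply RingHom.ext
  intro a
  obtain ⟨p, rfl⟩ := hψ a
  have h1 : (RingHom.liftOfSurjective ψ.toRingHom hψ ⟨θ', hle⟩) (ψ.toRingHom p) = θ' p :=
    RingHom.liftOfRightInverse_comp_apply _ _ _ ⟨θ', hle⟩ p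
  change g j ((RingHom.liftOfSurjective ψ.toRingHom hψ ⟨θ', hle⟩) (ψ.toRingHom p)) = _
  rw [h1, ← RingHom.comp_apply, hθ']
  rfl

end Lift

open TensorProduct in
/-- Let A be the colimit of a directed system of rings (A_i), given by compatible ring maps A_i → A
which are jointly surjective and such that an element of some A_i mapping to zero in A already maps
to zero in some later A_j, and let B be an étale A-algebra. Then for some index i there is an étale
A_i-algebra B_i such that B is isomorphic, as an A-algebra, to the base change A ⊗_{A_i} B_i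
(existence of an isomorphism). (Stated for a system indexed by a directed preordered set.) -/
theorem result {ι : Type u} [Preorder ι] [IsDirected ι (· ≤ ·)] [Nonempty ι]
    (G : ι → Type u) [∀ i, CommRing (G i)] (f : ∀ i j, i ≤ j → (G i →+* G j))
    (A : Type u) [CommRing A] (g : ∀ i, G i →+* A) (hg : ∀ i j (h : i ≤ j), (g j).comp (f i j h) = g i)
    (hsurj : ∀ a : A, ∃ i, ∃ x : G i, g i x = a)
    (hker : ∀ i (x : G i), g i x = 0 → ∃ j, ∃ h : i ≤ j, f i j h x = 0)
    (B : Type u) [CommRing B] [Algebra A B] [Algebra.Etale A B] :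
    ∃ (i : ι) (Bi : Type u) (_ : CommRing Bi) (_ : Algebra (G i) Bi), Algebra.Etale (G i) Bi ∧
      letI : Algebra (G i) A := (g i).toAlgebra
      Nonempty (B ≃ₐ[A] A ⊗[G i] Bi) := by
  obtain ⟨A₀, B₀, _, _, hA₀, hB₀, ⟨e⟩⟩ := Algebra.Etale.exists_subalgebra_fg ℤ A B
  obtain ⟨j, φ, hφ⟩ := exists_lift_subalgebra G f A g hg hsurj hker A₀ hA₀
  letI : Algebra A₀ (G j) := φ.toAlgebra
  letI : Algebra (G j) A := (g j).toAlgebra
  haveI : IsScalarTower A₀ (G j) A := IsScalarTower.of_algebraMap_eq' hφ.symm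
  refine ⟨j, (G j) ⊗[A₀] B₀, inferInstance, inferInstance, inferInstance, ?_⟩
  exact ⟨e.trans (Algebra.TensorProduct.cancelBaseChange A₀ (G j) A A B₀).symm⟩

end Groth.Agent.S19569
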