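import Groth.Statements.S19586
import Mathlib
import Groth.Agent.R2.H94ExtPowAnn
import Groth.Agent.R2.H94HypJac

set_option autoImplicit false
universe u
open KaehlerDifferential
open LocInt

namespace Groth.Agent.S19586

/-- Let A → B be a smooth ring map with Ω_{B/A} of rank n at every prime of B, g ∈ B a nonzerodivisor
and R = B/gB, so that Spec R is a hypersurface of virtual relative dimension n − 1 over Spec A. Let
J ⊆ R be the annihilator of the n-th exterior power of Ω_{R/A} and Z = V(J) ⊆ Spec R. Then the
underlying set of Z is exactly the set of primes at which R is not smooth over A: for a prime p of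
R, J ⊆ p if and only if the localization R_p is not formally smooth over A. -/
theorem result (A B R : Type u) [CommRing A] [CommRing B] [CommRing R]
    [Algebra A B] [Algebra B R] [Algebra A R] [IsScalarTower A B R] [Algebra.Smooth A B] (n : ℕ)
    (hn : ∀ p : PrimeSpectrum B, Module.rankAtStalk (Ω[B⁄A]) p = n)
    (g : B) (hg : IsSMulRegular B g) (hsurj : Function.Surjective (algebraMap B R))
    (hker : RingHom.ker (algebraMap B R) = Ideal.span {g}) (p : PrimeSpectrum R) :
    (⋀[R]^n (Ω[R⁄A])).annihilator ≤ p.asIdeal ↔ p ∉ Algebra.smoothLocus A R := by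
  classical
  open Groth.Agent.R2.H94.HypJac Groth.Agent.R2.H94.ExtPowAnn TensorProduct in
  -- finiteness of Ω_{R/A}
  haveI : Algebra.FiniteType A R :=
    Algebra.FiniteType.of_surjective (IsScalarTower.toAlgHom A B R) hsurj
  -- the residue field of `p` as a `B`-algebra
  letI : Algebra B p.asIdeal.ResidueField :=
    ((algebraMap R p.asIdeal.ResidueField).comp (algebraMap B R)).toAlgebra
  haveI : IsScalarTower B R p.asIdeal.ResidueField := IsScalarTower.of_algebraMap_eq fun _ => rfl
  have hK : ∀ b : B, algebraMap B p.asIdeal.ResidueField b = 0 ↔ algebraMap B R b ∈ p.asIdeal := by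
    intro b
    rw [IsScalarTower.algebraMap_apply B R p.asIdeal.ResidueField,
      Ideal.algebraMap_residueField_eq_zero]
  have hg0 : algebraMap B R g = 0 := by
    have : g ∈ RingHom.ker (algebraMap B R) := hker ▸ Ideal.mem_span_singleton_self g
    exact RingHom.mem_ker.1 this
  have hamb := finrank_fibre_ambient A R p.asIdeal.ResidueField n hn
  rw [annihilator_exteriorPower_le_iff]
  show _ ↔ ¬ Algebra.FormallySmooth A (Localization.AtPrime p.asIdeal)
  rw [formallySmooth_localization_iff_exists_derivation g hg hsurj hker p.asIdeal]
  constructor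
  · rintro hle ⟨D, hD⟩
    have hv : v0 A R p.asIdeal.ResidueField g ≠ 0 :=
      v0_ne_zero_of_derivation A R p.asIdeal.ResidueField g D (fun h => hD ((hK _).1 h))
    have hlt := finrank_fibre_lt_of_v0_ne_zero A R p.asIdeal.ResidueField g hsurj hg0 hv
    omega
  · intro hno
    have hv : v0 A R p.asIdeal.ResidueField g = 0 := by
      apply v0_eq_zero_of_forall
      intro D
      rw [hK]
      by_contra hD
      exact hno ⟨D, hD⟩
    rw [finrank_fibre_eq_of_v0_eq_zero A R p.asIdeal.ResidueField g hsurj hker hv, hamb]

end Groth.Agent.S19586
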