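import Groth.Statements.S19595
import Groth.Agent.R2.H71PowerFix

set_option autoImplicit false
universe u
open ArLef

namespace Groth.Agent.S19595

/-- In the case of a smooth point lying on the divisorial part of the fixed locus with multiplicity i
strictly between 0 and j, let B be a discrete valuation ring with uniformizer π and residue field k,
B[[t]] the complete local ring of a semi-stable arithmetic surface over B at a point x where the
closed fibre is smooth, and σ a ring automorphism of B[[t]] with σ(π) = π + γ π^j (γ a unit of B, j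
≥ 1) and σ(b) - b ∈ π^j B[[t]] for all b ∈ B (σ lies over an automorphism τ of B with v(τ(π) - π) =
j). Suppose σ(t) - t = π^i f with 0 < i < j and π not dividing f, so that the fixed-point ideal I of
σ is (π^j, π^i f) and its divisorial part near x is the closed fibre with multiplicity i. Then the
residual fixed-point scheme, with ideal (I : π^i), has length (j - i) m at x, where m is the length
of k[[t]]/(f mod π) (the order at x of the derivation induced by σ on the closed fibre). -/
theorem result (B : Type u) [CommRing B] [IsDomain B] [IsDiscreteValuationRing B] (π : B) (hπ : Irreducible π)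
    (j i : ℕ) (hi : 0 < i) (hij : i < j) (γ : B) (hγ : IsUnit γ)
    (σ : PowerSeries B ≃+* PowerSeries B)
    (hσB : ∀ b : B, σ (algebraMap B (PowerSeries B) b) - algebraMap B (PowerSeries B) b ∈
      Ideal.span ({algebraMap B (PowerSeries B) (π ^ j)} : Set (PowerSeries B)))
    (hσπ : σ (algebraMap B (PowerSeries B) π) = algebraMap B (PowerSeries B) (π + γ * π ^ j))
    (f : PowerSeries B) (hf : σ PowerSeries.X - PowerSeries.X = algebraMap B (PowerSeries B) (π ^ i) * f)
    (hfπ : ¬ (algebraMap B (PowerSeries B) π ∣ f)) :
    Module.length (PowerSeries B) (PowerSeries B ⧸ (ArLef.fixIdeal σ).colon ({algebraMap B (PowerSeries B) (π ^ i)} : Set (PowerSeries B))) =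
      ((j - i : ℕ) : ℕ∞) * Module.length (PowerSeries (IsLocalRing.ResidueField B)) (PowerSeries (IsLocalRing.ResidueField B) ⧸
        Ideal.span ({PowerSeries.map (IsLocalRing.residue B) f} : Set (PowerSeries (IsLocalRing.ResidueField B)))) := by
  classical
  have hmax : IsLocalRing.maximalIdeal B = Ideal.span {π} := hπ.maximalIdeal_eq
  set P : PowerSeries B := algebraMap B (PowerSeries B) π with hP
  set G : PowerSeries B := algebraMap B (PowerSeries B) γ with hG
  have hGu : IsUnit G := hγ.map _
  obtain ⟨G', hG'⟩ := hGu.exists_left_inv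
  have hσP : σ P = P + G * P ^ j := by
    rw [hσπ, map_add, map_mul, map_pow]
  have hf' : σ PowerSeries.X - PowerSeries.X = P ^ i * f := by
    rw [hf, map_pow]
  have hP0 : P ≠ 0 := by
    rw [hP, PowerSeries.algebraMap_eq]
    intro h
    exact hπ.ne_zero (PowerSeries.C_injective (by rw [h, map_zero]))
  obtain ⟨d, hd⟩ : ∃ d, j = i + d := ⟨j - i, by omega⟩
  have hd' : j - i = d := by omega
  -- the fixed-point ideal
  set I : Ideal (PowerSeries B) := Ideal.span {P ^ i * f} ⊔ Ideal.span {P ^ j} with hI
  have hfI : P ^ i * f ∈ I := Submodule.mem_sup_left (Ideal.mem_span_singleton_self _)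
  have hPI : P ^ j ∈ I := Submodule.mem_sup_right (Ideal.mem_span_singleton_self _)
  have hfix : ArLef.fixIdeal σ = I := by
    apply le_antisymm
    · apply Groth.Agent.R2.H71.PS.fixIdeal_le (σ : PowerSeries B →+* PowerSeries B)
      · intro b'
        have := hσB b'
        rw [Ideal.mem_span_singleton'] at this
        obtain ⟨c, hc⟩ := this
        show σ (algebraMap B (PowerSeries B) b') - _ ∈ _
        rw [← hc, map_pow]
        exact I.mul_mem_left _ hPI
      · show σ PowerSeries.X - PowerSeries.X ∈ I
        rw [hf']; exact hfI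
    · rw [hI]
      refine sup_le ?_ ?_
      · rw [Ideal.span_singleton_le_iff_mem, ← hf']
        exact Ideal.subset_span ⟨_, rfl⟩
      · rw [Ideal.span_singleton_le_iff_mem]
        have h1 : σ P - P ∈ ArLef.fixIdeal σ := Ideal.subset_span ⟨_, rfl⟩
        have : P ^ j = G' * (σ P - P) := by
          rw [hσP]
          linear_combination (-(P ^ j)) * hG'
        rw [this]
        exact Ideal.mul_mem_left _ _ h1
  -- the colon ideal
  have hcolon : (ArLef.fixIdeal σ).colon ({algebraMap B (PowerSeries B) (π ^ i)} : Set (PowerSeries B)) =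
      Ideal.span {f} ⊔ Ideal.span {P ^ d} := by
    rw [hfix, map_pow]
    ext r
    rw [Submodule.mem_colon_singleton, smul_eq_mul]
    constructor
    · intro hr
      obtain ⟨p, hp, q, hq, hpq⟩ := Submodule.mem_sup.mp hr
      obtain ⟨c, rfl⟩ := Ideal.mem_span_singleton'.mp hp
      obtain ⟨c', rfl⟩ := Ideal.mem_span_singleton'.mp hq
      have h1 : P ^ i * r = P ^ i * (c * f + c' * P ^ d) := by
        rw [mul_comm (P ^ i) r, ← hpq, hd, pow_add]; ring
      have h2 := mul_left_cancel₀ (pow_ne_zero i hP0) h1
      rw [h2]
      exact Submodule.add_mem_sup (Ideal.mul_mem_left _ _ (Ideal.mem_span_singleton_self _))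
        (Ideal.mul_mem_left _ _ (Ideal.mem_span_singleton_self _))
    · intro hr
      obtain ⟨p, hp, q, hq, rfl⟩ := Submodule.mem_sup.mp hr
      obtain ⟨c, rfl⟩ := Ideal.mem_span_singleton'.mp hp
      obtain ⟨c', rfl⟩ := Ideal.mem_span_singleton'.mp hq
      have : (c * f + c' * P ^ d) * P ^ i = c * (P ^ i * f) + c' * P ^ j := by
        rw [hd, pow_add]; ring
      rw [this]
      exact I.add_mem (I.mul_mem_left _ hfI) (I.mul_mem_left _ hPI)
  rw [hcolon, hd']
  -- `P` is regular modulo `f`
  have hρf : PowerSeries.map (IsLocalRing.residue B) f ≠ 0 := by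
    intro h
    exact hfπ ((Groth.Agent.R2.H71.PS.map_residue_eq_zero_iff hmax f).mp h)
  have hreg : ∀ y, P * y ∈ Ideal.span ({f} : Set (PowerSeries B)) →
      y ∈ Ideal.span ({f} : Set (PowerSeries B)) := by
    intro y hy
    rw [Ideal.mem_span_singleton'] at hy ⊢
    obtain ⟨s, hs⟩ := hy
    have h1 := congrArg (PowerSeries.map (IsLocalRing.residue B)) hs
    have hρP : PowerSeries.map (IsLocalRing.residue B) P = 0 :=
      (Groth.Agent.R2.H71.PS.map_residue_eq_zero_iff hmax P).mpr dvd_rfl
    rw [map_mul, map_mul, hρP, zero_mul] at h1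
    rcases mul_eq_zero.mp h1 with h2 | h2
    · obtain ⟨s', rfl⟩ := (Groth.Agent.R2.H71.PS.map_residue_eq_zero_iff hmax s).mp h2
      refine ⟨s', ?_⟩
      apply mul_left_cancel₀ hP0
      rw [← hs]; ring
    · exact absurd h2 hρf
  rw [Groth.Agent.R2.H71.Len.length_quotient_sup_span_pow (Ideal.span {f}) P hreg d]
  congr 1
  -- compare with the residue field
  have hsurj : Function.Surjective
      (algebraMap (PowerSeries B) (PowerSeries (IsLocalRing.ResidueField B))) :=
    PowerSeries.map_surjective _ IsLocalRing.residue_surjective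
  have hker : RingHom.ker (algebraMap (PowerSeries B) (PowerSeries (IsLocalRing.ResidueField B))) ≤
      Ideal.span ({f} : Set (PowerSeries B)) ⊔ Ideal.span {P} := by
    intro r hr
    have : PowerSeries.map (IsLocalRing.residue B) r = 0 := hr
    obtain ⟨c, rfl⟩ := (Groth.Agent.R2.H71.PS.map_residue_eq_zero_iff hmax r).mp this
    exact Submodule.mem_sup_right (Ideal.mul_mem_right _ _ (Ideal.mem_span_singleton_self _))
  rw [Groth.Agent.R2.H71.PS.length_quotient_map hsurj _ hker]
  have hmap : Ideal.map (algebraMap (PowerSeries B) (PowerSeries (IsLocalRing.ResidueField B)))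
      (Ideal.span ({f} : Set (PowerSeries B)) ⊔ Ideal.span {P}) =
      Ideal.span ({PowerSeries.map (IsLocalRing.residue B) f} :
        Set (PowerSeries (IsLocalRing.ResidueField B))) := by
    rw [Ideal.map_sup, Ideal.map_span, Ideal.map_span, Set.image_singleton, Set.image_singleton]
    have hρP : algebraMap (PowerSeries B) (PowerSeries (IsLocalRing.ResidueField B)) P = 0 :=
      (Groth.Agent.R2.H71.PS.map_residue_eq_zero_iff hmax P).mpr dvd_rfl
    rw [hρP, Ideal.span_singleton_eq_bot.mpr rfl, sup_bot_eq]
    rfl
  rw [hmap]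

end Groth.Agent.S19595
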