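import Groth.Statements.S19596
import Groth.Agent.R2.H71NodeCore

set_option autoImplicit false
universe u
open ArLef ArLef.NodeAlg

namespace Groth.Agent.S19596

/-- In the cases where σ fixes the two branches through the point, these lie on different components,
and the second branch lies in the divisorial part of the fixed locus with multiplicity i₂ strictly
between 0 and j while the first has multiplicity i₁ ≤ i₂, let B be a discrete valuation ring with
uniformizer π, N = B[[t, e]]/(te - π) the complete local ring of a semi-stable arithmetic surface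
over B at a singular point x of the closed fibre, and σ a ring automorphism of N with σ(π) = π + γ
π^j (γ a unit of B, j ≥ 1) and σ(c) - c ∈ π^j N for all c ∈ B. Suppose σ(t) = α t and σ(e) = β e
with units α, β, and α - 1 = t^{i₁} e^{i₂} a, β - 1 = t^{i₁} e^{i₂} b with i₁ ≤ i₂, 0 < i₂ < j, e
not dividing a and t not dividing b. Then, I being the fixed-point ideal of σ, whose divisorial part
near x is t^{i₁} e^{i₂}, the residual fixed-point scheme with ideal (I : t^{i₁} e^{i₂}) has length 1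
+ (j - i₁)·Leng N/(t, b) + (j - i₂)·Leng N/(e, a) at x; here Leng N/(t, b) + i₂ + 1 and Leng N/(e,
a) + i₁ + 1 are the orders at x of the derivations σ induces on the two components (the fixed-point
multiplicities when the component is outside the divisorial part). -/
theorem result (B : Type u) [CommRing B] [IsDomain B] [IsDiscreteValuationRing B] (π : B) (hπ : Irreducible π)
    (j i₁ i₂ : ℕ) (h12 : i₁ ≤ i₂) (h2 : 0 < i₂) (h2j : i₂ < j) (γ : B) (hγ : IsUnit γ)
    (σ : ArLef.NodeAlg B π ≃+* ArLef.NodeAlg B π)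
    (hσB : ∀ c : B, σ (algebraMap B (ArLef.NodeAlg B π) c) - algebraMap B (ArLef.NodeAlg B π) c ∈
      Ideal.span ({algebraMap B (ArLef.NodeAlg B π) (π ^ j)} : Set (ArLef.NodeAlg B π)))
    (hσπ : σ (algebraMap B (ArLef.NodeAlg B π) π) = algebraMap B (ArLef.NodeAlg B π) (π + γ * π ^ j))
    (α β : (ArLef.NodeAlg B π)ˣ) (ht : σ (ArLef.NodeAlg.t π) = (α : ArLef.NodeAlg B π) * ArLef.NodeAlg.t π) (he : σ (ArLef.NodeAlg.e π) = (β : ArLef.NodeAlg B π) * ArLef.NodeAlg.e π)
    (a b : ArLef.NodeAlg B π) (ha : (α : ArLef.NodeAlg B π) - 1 = ArLef.NodeAlg.t π ^ i₁ * ArLef.NodeAlg.e π ^ i₂ * a) (hb : (β : ArLef.NodeAlg B π) - 1 = ArLef.NodeAlg.t π ^ i₁ * ArLef.NodeAlg.e π ^ i₂ * b)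
    (hea : ¬ (ArLef.NodeAlg.e π ∣ a)) (htb : ¬ (ArLef.NodeAlg.t π ∣ b)) :
    Module.length (ArLef.NodeAlg B π) (ArLef.NodeAlg B π ⧸ (ArLef.fixIdeal σ).colon ({ArLef.NodeAlg.t π ^ i₁ * ArLef.NodeAlg.e π ^ i₂} : Set (ArLef.NodeAlg B π))) =
      1 + ((j - i₁ : ℕ) : ℕ∞) * Module.length (ArLef.NodeAlg B π) (ArLef.NodeAlg B π ⧸ Ideal.span ({ArLef.NodeAlg.t π, b} : Set (ArLef.NodeAlg B π))) +
        ((j - i₂ : ℕ) : ℕ∞) * Module.length (ArLef.NodeAlg B π) (ArLef.NodeAlg B π ⧸ Ideal.span ({ArLef.NodeAlg.e π, a} : Set (ArLef.NodeAlg B π))) := by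
  classical
  have hte := Groth.Agent.R2.H71.NodeAlg.t_mul_e π
  obtain ⟨p, hp⟩ : ∃ p, j = i₁ + p + 1 := ⟨j - 1 - i₁, by omega⟩
  obtain ⟨q, hq⟩ : ∃ q, j = i₂ + q + 1 := ⟨j - 1 - i₂, by omega⟩
  have hp' : j - i₁ = p + 1 := by omega
  have hq' : j - i₂ = q + 1 := by omega
  -- notation
  set P : ArLef.NodeAlg B π := algebraMap B (ArLef.NodeAlg B π) π with hP
  set G : ArLef.NodeAlg B π := algebraMap B (ArLef.NodeAlg B π) γ with hG
  set T : ArLef.NodeAlg B π := ArLef.NodeAlg.t π with hT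
  set E : ArLef.NodeAlg B π := ArLef.NodeAlg.e π with hE
  have hGu : IsUnit G := hγ.map _
  obtain ⟨G', hG'⟩ := hGu.exists_left_inv
  have hσP : σ P = P + G * P ^ j := by
    rw [hσπ, map_add, map_mul, map_pow]
  have hTreg : IsLeftRegular T := by
    intro x y hxy
    have : T * (x - y) = 0 := by rw [mul_sub]; exact sub_eq_zero.mpr hxy
    exact sub_eq_zero.mp (Groth.Agent.R2.H71.NodeAlg.var_regular hπ 0 _ this)
  have hEreg : IsLeftRegular E := by
    intro x y hxy
    have : E * (x - y) = 0 := by rw [mul_sub]; exact sub_eq_zero.mpr hxy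
    exact sub_eq_zero.mp (Groth.Agent.R2.H71.NodeAlg.var_regular hπ 1 _ this)
  set D : ArLef.NodeAlg B π := T ^ i₁ * E ^ i₂ with hD
  have hDreg : IsLeftRegular D := (hTreg.pow i₁).mul (hEreg.pow i₂)
  have hPj : P ^ j = D * (T ^ (p + 1) * E ^ (q + 1)) := by
    rw [← hte, mul_pow, hD]
    nth_rewrite 1 [hp]
    rw [hq]
    ring
  have hPj1 : P ^ (i₁ + p) = D * (T ^ p * E ^ q) := by
    have h2 : i₁ + p = i₂ + q := by omega
    rw [← hte, mul_pow, hD]
    nth_rewrite 2 [h2]
    ring
  have hαβ : (α : ArLef.NodeAlg B π) * β = 1 + G * P ^ (i₁ + p) := by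
    have h1 : σ (T * E) = P + G * P ^ j := by
      rw [hte]; exact hσP
    rw [map_mul, ht, he] at h1
    have h2 : P * ((α : ArLef.NodeAlg B π) * β - (1 + G * P ^ (i₁ + p))) = 0 := by
      have : P * ((α : ArLef.NodeAlg B π) * β - (1 + G * P ^ (i₁ + p))) =
          (α : ArLef.NodeAlg B π) * T * (β * E) - (P + G * P ^ (i₁ + p + 1)) + (P - T * E) * (α * β) := by
        rw [pow_succ]; ring
      rw [this, ← hp, h1, hte]; ring
    exact sub_eq_zero.mp (Groth.Agent.R2.H71.NodeAlg.pi_regular hπ _ h2)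
  have hα1 : (α : ArLef.NodeAlg B π) = 1 + D * a := by rw [← ha]; ring
  have hβ1 : (β : ArLef.NodeAlg B π) = 1 + D * b := by rw [← hb]; ring
  have hR : a + b + D * a * b = G * (T ^ p * E ^ q) := by
    apply hDreg
    show D * (a + b + D * a * b) = D * (G * (T ^ p * E ^ q))
    have : D * (G * (T ^ p * E ^ q)) = G * P ^ (i₁ + p) := by rw [hPj1]; ring
    rw [this]
    have h3 := hαβ
    rw [hα1, hβ1] at h3
    linear_combination h3
  obtain ⟨α', hα'⟩ := α.isUnit.exists_left_inv
  obtain ⟨β', hβ'⟩ := β.isUnit.exists_left_inv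
  have hb_eq : b = α' * (G * (T ^ p * E ^ q) - a) := by
    have : (α : ArLef.NodeAlg B π) * b = G * (T ^ p * E ^ q) - a := by
      rw [← hR, hα1]; ring
    rw [← this, ← mul_assoc, hα', one_mul]
  have ha_eq : a = β' * (G * (T ^ p * E ^ q) - b) := by
    have : (β : ArLef.NodeAlg B π) * a = G * (T ^ p * E ^ q) - b := by
      rw [← hR, hβ1]; ring
    rw [← this, ← mul_assoc, hβ', one_mul]
  have hσt : σ T - T = D * (a * T) := by rw [ht, hα1]; ring
  have hσe : σ E - E = D * (b * E) := by rw [he, hβ1]; ring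
  -- the fixed-point ideal
  set I : Ideal (ArLef.NodeAlg B π) :=
    Ideal.span {D * (a * T)} ⊔ Ideal.span {D * (b * E)} ⊔ Ideal.span {P ^ j} with hI
  have haTI : D * (a * T) ∈ I :=
    Submodule.mem_sup_left (Submodule.mem_sup_left (Ideal.mem_span_singleton_self _))
  have hbEI : D * (b * E) ∈ I :=
    Submodule.mem_sup_left (Submodule.mem_sup_right (Ideal.mem_span_singleton_self _))
  have hPI : P ^ j ∈ I := Submodule.mem_sup_right (Ideal.mem_span_singleton_self _)
  have hfix : ArLef.fixIdeal σ = I := by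
    apply le_antisymm
    · apply Groth.Agent.R2.H71.NodeAlg.fixIdeal_le π (σ : ArLef.NodeAlg B π →+* ArLef.NodeAlg B π)
      · intro b'
        have := hσB b'
        rw [Ideal.mem_span_singleton'] at this
        obtain ⟨c, hc⟩ := this
        show σ (algebraMap B (ArLef.NodeAlg B π) b') - _ ∈ _
        rw [← hc, map_pow]
        exact I.mul_mem_left _ hPI
      · show σ T - T ∈ I
        rw [hσt]; exact haTI
      · show σ E - E ∈ I
        rw [hσe]; exact hbEI
    · rw [hI]
      refine sup_le (sup_le ?_ ?_) ?_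
      · rw [Ideal.span_singleton_le_iff_mem, ← hσt]
        exact Ideal.subset_span ⟨_, rfl⟩
      · rw [Ideal.span_singleton_le_iff_mem, ← hσe]
        exact Ideal.subset_span ⟨_, rfl⟩
      · rw [Ideal.span_singleton_le_iff_mem]
        have h1 : σ P - P ∈ ArLef.fixIdeal σ := Ideal.subset_span ⟨_, rfl⟩
        have : P ^ j = G' * (σ P - P) := by
          rw [hσP]
          linear_combination (-(P ^ j)) * hG'
        rw [this]
        exact Ideal.mul_mem_left _ _ h1
  -- the colon ideal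
  have hcolon : (ArLef.fixIdeal σ).colon ({D} : Set (ArLef.NodeAlg B π)) =
      Ideal.span {a * T} ⊔ Ideal.span {b * E} ⊔ Ideal.span {T ^ (p + 1) * E ^ (q + 1)} := by
    rw [hfix]
    ext r
    rw [Submodule.mem_colon_singleton, smul_eq_mul]
    constructor
    · intro hr
      obtain ⟨pq, hpq, r', hr', hsum⟩ := Submodule.mem_sup.mp hr
      obtain ⟨p', hp'', q', hq'', rfl⟩ := Submodule.mem_sup.mp hpq
      obtain ⟨c, rfl⟩ := Ideal.mem_span_singleton'.mp hp''
      obtain ⟨d, rfl⟩ := Ideal.mem_span_singleton'.mp hq''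
      obtain ⟨f, rfl⟩ := Ideal.mem_span_singleton'.mp hr'
      have h1 : D * r = D * (c * (a * T) + d * (b * E) + f * (T ^ (p + 1) * E ^ (q + 1))) := by
        rw [mul_comm D r, ← hsum, hPj]; ring
      rw [hDreg h1]
      exact Submodule.add_mem_sup (Submodule.add_mem_sup
        (Ideal.mul_mem_left _ _ (Ideal.mem_span_singleton_self _))
        (Ideal.mul_mem_left _ _ (Ideal.mem_span_singleton_self _)))
        (Ideal.mul_mem_left _ _ (Ideal.mem_span_singleton_self _))
    · intro hr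
      obtain ⟨pq, hpq, r', hr', rfl⟩ := Submodule.mem_sup.mp hr
      obtain ⟨p', hp'', q', hq'', rfl⟩ := Submodule.mem_sup.mp hpq
      obtain ⟨c, rfl⟩ := Ideal.mem_span_singleton'.mp hp''
      obtain ⟨d, rfl⟩ := Ideal.mem_span_singleton'.mp hq''
      obtain ⟨f, rfl⟩ := Ideal.mem_span_singleton'.mp hr'
      have : (c * (a * T) + d * (b * E) + f * (T ^ (p + 1) * E ^ (q + 1))) * D =
          c * (D * (a * T)) + d * (D * (b * E)) + f * P ^ j := by
        rw [hPj]; ring
      rw [this]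
      exact I.add_mem (I.add_mem (I.mul_mem_left _ haTI) (I.mul_mem_left _ hbEI))
        (I.mul_mem_left _ hPI)
  rw [hcolon, Groth.Agent.R2.H71.NodeAlg.length_core hπ a b α' β' G p q hea htb hb_eq ha_eq,
    hp', hq']

end Groth.Agent.S19596
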