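import Groth.Statements.S19597
import Groth.Agent.R2.H71NodeCore

set_option autoImplicit false
universe u
open ArLef ArLef.NodeAlg

namespace Groth.Agent.S19597

/-- In the cases where σ fixes the two branches through the point, these lie on different components,
the second lies in the divisorial part of the fixed locus with the maximal multiplicity j and the
first with multiplicity i₁ < j, let B be a discrete valuation ring with uniformizer π, N = B[[t,
e]]/(te - π) the complete local ring of a semi-stable arithmetic surface over B at a singular point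
x of the closed fibre, and σ a ring automorphism of N with σ(π) = π + γ π^j (γ a unit of B, j ≥ 1)
and σ(c) - c ∈ π^j N for all c ∈ B. Suppose σ(t) = α t and σ(e) = β e with units α, β, that α - 1 =
t^{i₁} e^j a and β - 1 = t^{i₁} e^{j-1} b with i₁ < j and t not dividing b. Then, I being the
fixed-point ideal of σ, whose divisorial part near x is t^{i₁} e^j, the length l of the residual
fixed-point scheme with ideal (I : t^{i₁} e^j) satisfies l + (j - 1 - i₁) = (j - i₁)·Leng N/(t, b);
for i₁ = 0, Leng N/(t, b) + j is the fixed-point multiplicity s₁ of σ at x on the first component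
and l = j (s₁ - j - 1) + 1. -/
theorem result (B : Type u) [CommRing B] [IsDomain B] [IsDiscreteValuationRing B] (π : B) (hπ : Irreducible π)
    (j i₁ : ℕ) (h1 : i₁ < j) (γ : B) (hγ : IsUnit γ)
    (σ : ArLef.NodeAlg B π ≃+* ArLef.NodeAlg B π)
    (hσB : ∀ c : B, σ (algebraMap B (ArLef.NodeAlg B π) c) - algebraMap B (ArLef.NodeAlg B π) c ∈
      Ideal.span ({algebraMap B (ArLef.NodeAlg B π) (π ^ j)} : Set (ArLef.NodeAlg B π)))
    (hσπ : σ (algebraMap B (ArLef.NodeAlg B π) π) = algebraMap B (ArLef.NodeAlg B π) (π + γ * π ^ j))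
    (α β : (ArLef.NodeAlg B π)ˣ) (ht : σ (ArLef.NodeAlg.t π) = (α : ArLef.NodeAlg B π) * ArLef.NodeAlg.t π) (he : σ (ArLef.NodeAlg.e π) = (β : ArLef.NodeAlg B π) * ArLef.NodeAlg.e π)
    (a b : ArLef.NodeAlg B π) (ha : (α : ArLef.NodeAlg B π) - 1 = ArLef.NodeAlg.t π ^ i₁ * ArLef.NodeAlg.e π ^ j * a) (hb : (β : ArLef.NodeAlg B π) - 1 = ArLef.NodeAlg.t π ^ i₁ * ArLef.NodeAlg.e π ^ (j - 1) * b)
    (htb : ¬ (ArLef.NodeAlg.t π ∣ b)) :
    Module.length (ArLef.NodeAlg B π) (ArLef.NodeAlg B π ⧸ (ArLef.fixIdeal σ).colon ({ArLef.NodeAlg.t π ^ i₁ * ArLef.NodeAlg.e π ^ j} : Set (ArLef.NodeAlg B π))) + ((j - 1 - i₁ : ℕ) : ℕ∞) =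
      ((j - i₁ : ℕ) : ℕ∞) * Module.length (ArLef.NodeAlg B π) (ArLef.NodeAlg B π ⧸ Ideal.span ({ArLef.NodeAlg.t π, b} : Set (ArLef.NodeAlg B π))) := by
  classical
  have hmax := Groth.Agent.R2.H71.NodeAlg.maximalIdeal_eq hπ
  have hte := Groth.Agent.R2.H71.NodeAlg.t_mul_e π
  have h01 : (0 : Fin 2) ≠ 1 := by decide
  have h10 : (1 : Fin 2) ≠ 0 := by decide
  obtain ⟨p, hp⟩ : ∃ p, j = i₁ + p + 1 := ⟨j - 1 - i₁, by omega⟩
  have hp' : j - i₁ = p + 1 := by omega
  have hp'' : j - 1 - i₁ = p := by omega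
  have hj1 : j - 1 = i₁ + p := by omega
  -- notation
  set P : ArLef.NodeAlg B π := algebraMap B (ArLef.NodeAlg B π) π with hP
  set G : ArLef.NodeAlg B π := algebraMap B (ArLef.NodeAlg B π) γ with hG
  set T : ArLef.NodeAlg B π := ArLef.NodeAlg.t π with hT
  set E : ArLef.NodeAlg B π := ArLef.NodeAlg.e π with hE
  have hT0 : Groth.Agent.R2.H71.NodeAlg.var π 0 = T := rfl
  have hE1 : Groth.Agent.R2.H71.NodeAlg.var π 1 = E := rfl
  have hGu : IsUnit G := hγ.map _
  obtain ⟨G', hG'⟩ := hGu.exists_left_inv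
  have hσP : σ P = P + G * P ^ j := by
    rw [hσπ, map_add, map_mul, map_pow]
  have hTreg : IsLeftRegular T := by
    intro x y hxy
    have : T * (x - y) = 0 := by rw [mul_sub]; exact sub_eq_zero.mpr hxy
    exact sub_eq_zero.mp (Groth.Agent.R2.H71.NodeAlg.var_regular hπ 0 _ this)
  have hEreg : IsLeftRegular E := by
    intro x y hxy
    have : E * (x - y) = 0 := by rw [mul_sub]; exact sub_eq_zero.mpr hxy
    exact sub_eq_zero.mp (Groth.Agent.R2.H71.NodeAlg.var_regular hπ 1 _ this)
  have hTprime : ∀ {x y : ArLef.NodeAlg B π}, T ∣ x * y → T ∣ x ∨ T ∣ y :=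
    fun h => Groth.Agent.R2.H71.NodeAlg.var_dvd_mul hπ 0 h
  have hTb : ¬ T ∣ b := htb
  rw [hj1] at hb
  set D' : ArLef.NodeAlg B π := T ^ i₁ * E ^ (i₁ + p) with hD'
  set D : ArLef.NodeAlg B π := T ^ i₁ * E ^ j with hD
  have hDD' : D = D' * E := by rw [hD, hD', hp]; ring
  have hDreg : IsLeftRegular D := (hTreg.pow i₁).mul (hEreg.pow j)
  have hD'reg : IsLeftRegular D' := (hTreg.pow i₁).mul (hEreg.pow (i₁ + p))
  have hPj : P ^ j = D * T ^ (p + 1) := by
    rw [← hte, mul_pow, hD]
    nth_rewrite 1 [hp]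
    ring
  have hPj1 : P ^ (i₁ + p) = D' * T ^ p := by
    rw [← hte, mul_pow, hD']
    ring
  have hαβ : (α : ArLef.NodeAlg B π) * β = 1 + G * P ^ (i₁ + p) := by
    have h1 : σ (T * E) = P + G * P ^ j := by
      rw [hte]; exact hσP
    rw [map_mul, ht, he] at h1
    have h2 : P * ((α : ArLef.NodeAlg B π) * β - (1 + G * P ^ (i₁ + p))) = 0 := by
      have : P * ((α : ArLef.NodeAlg B π) * β - (1 + G * P ^ (i₁ + p))) =
          (α : ArLef.NodeAlg B π) * T * (β * E) - (P + G * P ^ (i₁ + p + 1)) + (P - T * E) * (α * β) := by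
        rw [pow_succ]; ring
      rw [this, ← hp, h1, hte]; ring
    exact sub_eq_zero.mp (Groth.Agent.R2.H71.NodeAlg.pi_regular hπ _ h2)
  have hα1 : (α : ArLef.NodeAlg B π) = 1 + D * a := by rw [← ha]; ring
  have hβ1 : (β : ArLef.NodeAlg B π) = 1 + D' * b := by rw [← hb]; ring
  have hR : E * a + b + D * a * b = G * T ^ p := by
    apply hD'reg
    show D' * (E * a + b + D * a * b) = D' * (G * T ^ p)
    have : D' * (G * T ^ p) = G * P ^ (i₁ + p) := by rw [hPj1]; ring
    rw [this]
    have h3 := hαβ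
    rw [hα1, hβ1] at h3
    rw [hDD'] at h3 ⊢
    linear_combination h3
  obtain ⟨α', hα'⟩ := α.isUnit.exists_left_inv
  have hαb : (α : ArLef.NodeAlg B π) * b = G * T ^ p - E * a := by
    rw [← hR, hα1]; ring
  have hb_eq : b = α' * (G * T ^ p - E * a) := by
    rw [← hαb, ← mul_assoc, hα', one_mul]
  have hσt : σ T - T = D * (a * T) := by rw [ht, hα1]; ring
  have hσe : σ E - E = D * b := by rw [he, hβ1, hDD']; ring
  -- the fixed-point ideal
  set I : Ideal (ArLef.NodeAlg B π) :=
    Ideal.span {D * (a * T)} ⊔ Ideal.span {D * b} ⊔ Ideal.span {P ^ j} with hI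
  have haTI : D * (a * T) ∈ I :=
    Submodule.mem_sup_left (Submodule.mem_sup_left (Ideal.mem_span_singleton_self _))
  have hbEI : D * b ∈ I :=
    Submodule.mem_sup_left (Submodule.mem_sup_right (Ideal.mem_span_singleton_self _))
  have hPI : P ^ j ∈ I := Submodule.mem_sup_right (Ideal.mem_span_singleton_self _)
  have hfix : ArLef.fixIdeal σ = I := by
    apply le_antisymm
    · apply Groth.Agent.R2.H71.NodeAlg.fixIdeal_le π (σ : ArLef.NodeAlg B π →+* ArLef.NodeAlg B π)
      · intro b'
        have := hσB b'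
        rw [Ideal.mem_span_singleton'] at this
        obtain ⟨c, hc⟩ := this
        show σ (algebraMap B (ArLef.NodeAlg B π) b') - _ ∈ _
        rw [← hc, map_pow]
        exact I.mul_mem_left _ hPI
      · show σ T - T ∈ I
        rw [hσt]; exact haTI
      · show σ E - E ∈ I
        rw [hσe]; exact hbEI
    · rw [hI]
      refine sup_le (sup_le ?_ ?_) ?_
      · rw [Ideal.span_singleton_le_iff_mem, ← hσt]
        exact Ideal.subset_span ⟨_, rfl⟩
      · rw [Ideal.span_singleton_le_iff_mem, ← hσe]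
        exact Ideal.subset_span ⟨_, rfl⟩
      · rw [Ideal.span_singleton_le_iff_mem]
        have h1 : σ P - P ∈ ArLef.fixIdeal σ := Ideal.subset_span ⟨_, rfl⟩
        have : P ^ j = G' * (σ P - P) := by
          rw [hσP]
          linear_combination (-(P ^ j)) * hG'
        rw [this]
        exact Ideal.mul_mem_left _ _ h1
  -- the colon ideal
  have hcolon : (ArLef.fixIdeal σ).colon ({D} : Set (ArLef.NodeAlg B π)) =
      Ideal.span {a * T} ⊔ Ideal.span {b} ⊔ Ideal.span {T ^ (p + 1)} := by
    rw [hfix]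
    ext r
    rw [Submodule.mem_colon_singleton, smul_eq_mul]
    constructor
    · intro hr
      obtain ⟨pq, hpq, r', hr', hsum⟩ := Submodule.mem_sup.mp hr
      obtain ⟨p', hp1, q', hq1, rfl⟩ := Submodule.mem_sup.mp hpq
      obtain ⟨c, rfl⟩ := Ideal.mem_span_singleton'.mp hp1
      obtain ⟨d, rfl⟩ := Ideal.mem_span_singleton'.mp hq1
      obtain ⟨f, rfl⟩ := Ideal.mem_span_singleton'.mp hr'
      have h1 : D * r = D * (c * (a * T) + d * b + f * T ^ (p + 1)) := by
        rw [mul_comm D r, ← hsum, hPj]; ring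
      rw [hDreg h1]
      exact Submodule.add_mem_sup (Submodule.add_mem_sup
        (Ideal.mul_mem_left _ _ (Ideal.mem_span_singleton_self _))
        (Ideal.mul_mem_left _ _ (Ideal.mem_span_singleton_self _)))
        (Ideal.mul_mem_left _ _ (Ideal.mem_span_singleton_self _))
    · intro hr
      obtain ⟨pq, hpq, r', hr', rfl⟩ := Submodule.mem_sup.mp hr
      obtain ⟨p', hp1, q', hq1, rfl⟩ := Submodule.mem_sup.mp hpq
      obtain ⟨c, rfl⟩ := Ideal.mem_span_singleton'.mp hp1
      obtain ⟨d, rfl⟩ := Ideal.mem_span_singleton'.mp hq1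
      obtain ⟨f, rfl⟩ := Ideal.mem_span_singleton'.mp hr'
      have : (c * (a * T) + d * b + f * T ^ (p + 1)) * D =
          c * (D * (a * T)) + d * (D * b) + f * P ^ j := by
        rw [hPj]; ring
      rw [this]
      exact I.add_mem (I.add_mem (I.mul_mem_left _ haTI) (I.mul_mem_left _ hbEI))
        (I.mul_mem_left _ hPI)
  rw [hcolon, hp', hp'']
  have hTbsup : Ideal.span ({T} : Set (ArLef.NodeAlg B π)) ⊔ Ideal.span {b} = Ideal.span {T, b} := by
    rw [← Ideal.span_union]; rfl
  have hTEsup : Ideal.span ({T} : Set (ArLef.NodeAlg B π)) ⊔ Ideal.span {E} = Ideal.span {T, E} := by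
    rw [← Ideal.span_union]; rfl
  rcases Nat.eq_zero_or_pos p with hp0 | hppos
  · -- `p = 0`: `b` is a unit
    subst hp0
    have hEa : E * a ∈ Ideal.jacobson (⊥ : Ideal (ArLef.NodeAlg B π)) :=
      Groth.Agent.R2.H71.NodeAlg.span_te_le_jacobson π
        (Ideal.mul_mem_right _ _ (Ideal.subset_span (Set.mem_insert_of_mem _ (Set.mem_singleton _))))
    have hu1 : IsUnit (E * a * (-G') + 1) := (Ideal.mem_jacobson_bot.mp hEa) (-G')
    have hu2 : IsUnit (G * T ^ 0 - E * a) := by
      have : G * T ^ 0 - E * a = G * (E * a * (-G') + 1) := by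
        rw [pow_zero]; linear_combination (E * a) * hG'
      rw [this]
      exact hGu.mul hu1
    have hbu : IsUnit b := by
      rw [← hαb] at hu2
      exact isUnit_of_mul_isUnit_right hu2
    have e1 : Ideal.span {a * T} ⊔ Ideal.span {b} ⊔ Ideal.span {T ^ (0 + 1)} =
        (⊤ : Ideal (ArLef.NodeAlg B π)) := by
      apply Ideal.eq_top_of_isUnit_mem _ _ hbu
      exact Submodule.mem_sup_left (Submodule.mem_sup_right (Ideal.mem_span_singleton_self _))
    have e2 : Ideal.span ({T, b} : Set (ArLef.NodeAlg B π)) = ⊤ := by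
      apply Ideal.eq_top_of_isUnit_mem _ _ hbu
      exact Ideal.subset_span (by simp)
    rw [e1, e2]
    have : Module.length (ArLef.NodeAlg B π) (ArLef.NodeAlg B π ⧸ (⊤ : Ideal (ArLef.NodeAlg B π))) = 0 :=
      Module.length_eq_zero
    rw [this]
    simp
  · obtain ⟨p', rfl⟩ : ∃ p', p = p' + 1 := ⟨p - 1, by omega⟩
    have hTP : T ∣ G * T ^ (p' + 1) := ⟨G * T ^ p', by rw [pow_succ' T]; ring⟩
    have hTa : ¬ T ∣ a := by
      intro hTa
      apply hTb
      rw [hb_eq]
      exact Dvd.dvd.mul_left (dvd_sub hTP (Dvd.dvd.mul_left hTa _)) _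
    -- regularity statements
    have hTrega : ∀ y, T * y ∈ Ideal.span ({a} : Set (ArLef.NodeAlg B π)) →
        y ∈ Ideal.span ({a} : Set (ArLef.NodeAlg B π)) := by
      intro y hy
      rw [Ideal.mem_span_singleton'] at hy ⊢
      obtain ⟨s, hs⟩ := hy
      have h1 : T ∣ s * a := ⟨y, hs⟩
      rcases hTprime h1 with h | h
      · obtain ⟨s', rfl⟩ := h
        refine ⟨s', ?_⟩
        apply hTreg
        show T * (s' * a) = T * y
        rw [← hs]; ring
      · exact absurd h hTa
    have hTregb : ∀ y, T * y ∈ Ideal.span ({b} : Set (ArLef.NodeAlg B π)) →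
        y ∈ Ideal.span ({b} : Set (ArLef.NodeAlg B π)) := by
      intro y hy
      rw [Ideal.mem_span_singleton'] at hy ⊢
      obtain ⟨s, hs⟩ := hy
      have h1 : T ∣ s * b := ⟨y, hs⟩
      rcases hTprime h1 with h | h
      · obtain ⟨s', rfl⟩ := h
        refine ⟨s', ?_⟩
        apply hTreg
        show T * (s' * b) = T * y
        rw [← hs]; ring
      · exact absurd h hTb
    -- `K = (b) + (T a)`
    have hK : Ideal.span {a * T} ⊔ Ideal.span {b} ⊔ Ideal.span {T ^ (p' + 1 + 1)} =
        Ideal.span ({b} : Set (ArLef.NodeAlg B π)) ⊔ Ideal.span {T * a} := by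
      apply le_antisymm
      · refine sup_le (sup_le ?_ le_sup_left) ?_
        · rw [mul_comm a T]; exact le_sup_right
        · rw [Ideal.span_singleton_le_iff_mem]
          have : T ^ (p' + 1 + 1) = G' * (T * α) * b + (G' * E) * (T * a) := by
            have h1 : G * T ^ (p' + 1 + 1) = T * ((α : ArLef.NodeAlg B π) * b) + E * (T * a) := by
              rw [hαb]; ring
            linear_combination (-(T ^ (p' + 1 + 1))) * hG' + G' * h1
          rw [this]
          exact Submodule.add_mem_sup (Ideal.mul_mem_left _ _ (Ideal.mem_span_singleton_self _))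
            (Ideal.mul_mem_left _ _ (Ideal.mem_span_singleton_self _))
      · refine sup_le ?_ ?_
        · exact le_sup_of_le_left le_sup_right
        · rw [mul_comm T a]; exact le_sup_of_le_left le_sup_left
    rw [hK, Groth.Agent.R2.H71.Len.length_quotient_sup_span_mul (Ideal.span {b}) T a hTregb]
    -- `(b) + (a) = (a) + (T^p)`
    have hba : Ideal.span ({b} : Set (ArLef.NodeAlg B π)) ⊔ Ideal.span {a} =
        Ideal.span {a} ⊔ Ideal.span {T ^ (p' + 1)} := by
      apply le_antisymm
      · refine sup_le ?_ le_sup_left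
        rw [Ideal.span_singleton_le_iff_mem, hb_eq]
        refine Ideal.mul_mem_left _ _ (Ideal.sub_mem _ ?_ ?_)
        · exact Ideal.mul_mem_left _ _ (Submodule.mem_sup_right (Ideal.mem_span_singleton_self _))
        · exact Ideal.mul_mem_left _ _ (Submodule.mem_sup_left (Ideal.mem_span_singleton_self _))
      · refine sup_le le_sup_right ?_
        rw [Ideal.span_singleton_le_iff_mem]
        have : T ^ (p' + 1) = (G' * α) * b + (G' * E) * a := by
          linear_combination (-(T ^ (p' + 1))) * hG' - G' * hαb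
        rw [this]
        exact Submodule.add_mem_sup (Ideal.mul_mem_left _ _ (Ideal.mem_span_singleton_self _))
          (Ideal.mul_mem_left _ _ (Ideal.mem_span_singleton_self _))
    rw [hba, Groth.Agent.R2.H71.Len.length_quotient_sup_span_pow (Ideal.span {a}) T hTrega (p' + 1)]
    -- `(T, b) = (T) + (E a)`
    have hTb' : Ideal.span ({b} : Set (ArLef.NodeAlg B π)) ⊔ Ideal.span {T} = Ideal.span {T, b} := by
      rw [sup_comm, hTbsup]
    have hTbEa : Ideal.span ({T, b} : Set (ArLef.NodeAlg B π)) =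
        Ideal.span {T} ⊔ Ideal.span {E * a} := by
      rw [← hTbsup]
      obtain ⟨z, hz⟩ := hTP
      apply le_antisymm
      · refine sup_le le_sup_left ?_
        rw [Ideal.span_singleton_le_iff_mem, hb_eq, hz]
        refine Ideal.mul_mem_left _ _ (Ideal.sub_mem _ ?_ ?_)
        · exact Ideal.mul_mem_right _ _ (Submodule.mem_sup_left (Ideal.mem_span_singleton_self _))
        · exact Submodule.mem_sup_right (Ideal.mem_span_singleton_self _)
      · refine sup_le le_sup_left ?_
        rw [Ideal.span_singleton_le_iff_mem]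
        have : E * a = T * z - (α : ArLef.NodeAlg B π) * b := by
          rw [hαb, hz]; ring
        rw [this]
        exact Ideal.sub_mem _
          (Ideal.mul_mem_right _ _ (Submodule.mem_sup_left (Ideal.mem_span_singleton_self _)))
          (Ideal.mul_mem_left _ _ (Submodule.mem_sup_right (Ideal.mem_span_singleton_self _)))
    have hL := Groth.Agent.R2.H71.Len.length_quotient_sup_span_mul (Ideal.span {T}) E a
      (fun y hy => by
        rw [← hT0] at hy ⊢
        rw [← hE1] at hy
        exact Groth.Agent.R2.H71.NodeAlg.var_mul_mem_span_var hmax h10 hy)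
    rw [hTEsup, Groth.Agent.R2.H71.NodeAlg.length_quotient_span_te hmax] at hL
    rw [hTb', hTbEa, hL, sup_comm (Ideal.span {a}) (Ideal.span {T})]
    push_cast
    ring

end Groth.Agent.S19597
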