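import Groth.Statements.S19620
import Groth.Agent.R2.H28Support
import Groth.Agent.R2.H28HasRpush
import Groth.Agent.S6508

set_option autoImplicit false
universe u
open CategoryTheory CategoryTheory.Limits AlgebraicGeometry
attribute [local instance] HasDerivedCategory.standard
open DCoh

namespace Groth.Agent.S19620

/-- Let f : X → Y be a proper morphism of schemes, with Rf_* the total right derived functor of f_* on
the unbounded derived categories of modules (assumed to exist), let Z ⊆ X be a closed subset and E
an object of D(O_X) whose cohomology sheaves are all supported in Z (every stalk at a point outside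
Z is trivial). Then the cohomology sheaves of Rf_*E are supported in the closed subset f(Z) of Y.
(The published statement, made in a setting where all schemes are separated and of finite type over
a regular base, takes f proper and perfect and concludes that Rf_* carries perfect complexes acyclic
outside Z to perfect complexes acyclic outside f(Z); the perfectness of Rf_*E is a separate result,
and the support inclusion, which is what the published proof establishes, holds for every proper f
and every E and is stated in that generality.) -/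
theorem result {X Y : Scheme.{u}} (f : X ⟶ Y) [IsProper f]
    [DCoh.HasRpush f] (Z : Set ↥X) (hZ : IsClosed Z) (E : DCoh.D X)
    (hE : ∀ i : ℤ, CohB1.support (DCoh.HD E i) ⊆ Z) (i : ℤ) :
    CohB1.support (DCoh.HD ((DCoh.Rpush f).obj E) i) ⊆ f.base '' Z := by
  open Groth.Agent.R2.H28.Support in
  intro y hy
  by_contra hyZ
  have hcl : IsClosed (f.base '' Z) := f.isClosedMap _ hZ
  let V : Y.Opens := ⟨(f.base '' Z)ᶜ, hcl.isOpen_compl⟩
  have hyV : y ∈ V := hyZ
  haveI : DCoh.HasRpush (f ∣_ V) := Groth.Agent.R2.H28.HasRpush.hasRpush _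
  obtain ⟨e⟩ := Groth.Agent.S6508.result f V
  have h0 : IsZero ((DCoh.restrictD (f ⁻¹ᵁ V).ι).obj E) :=
    isZero_restrictD_of_support (f ⁻¹ᵁ V) E Z hE (fun y' hy'Z => y'.2 ⟨_, hy'Z, rfl⟩)
  have h1 : IsZero ((DCoh.restrictD V.ι).obj ((DCoh.Rpush f).obj E)) :=
    IsZero.of_iso (isZero_rpush_obj _ _ h0) (e.app E)
  have h2 : IsZero ((Scheme.Modules.restrictFunctor V.ι).obj (DCoh.HD ((DCoh.Rpush f).obj E) i)) :=
    IsZero.of_iso ((DerivedCategory.homologyFunctor _ i).map_isZero h1)
      (Groth.Agent.Lib.Helper17.AdjWay.homologyIso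
        (Scheme.Modules.restrictFunctor V.ι) ((DCoh.Rpush f).obj E) i).symm
  apply hy
  have e2 := (Scheme.Modules.restrictStalkNatIso V.ι ⟨y, hyV⟩).app
    (DCoh.HD ((DCoh.Rpush f).obj E) i)
  have h3 : IsZero (((Scheme.Modules.restrictFunctor V.ι).obj
      (DCoh.HD ((DCoh.Rpush f).obj E) i)).presheaf.stalk ⟨y, hyV⟩) :=
    (Scheme.Modules.toPresheaf _ ⋙ TopCat.Presheaf.stalkFunctor Ab.{u} _).map_isZero h2
  have h4 : Subsingleton (((Scheme.Modules.restrictFunctor V.ι).obj
      (DCoh.HD ((DCoh.Rpush f).obj E) i)).presheaf.stalk ⟨y, hyV⟩) :=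
    AddCommGrpCat.subsingleton_of_isZero h3
  exact @Equiv.subsingleton _ _ (e2.addCommGroupIsoToAddEquiv.toEquiv).symm h4

end Groth.Agent.S19620
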