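import Groth.Statements.S19628
import Mathlib
import Groth.Agent.S15295

set_option autoImplicit false
universe u
open DeRham

namespace Groth.Agent.S19628

open exteriorPower TensorProduct
open Groth.Agent.S15295.Aux

section

variable (k K : Type u) [Field k] [Field K] [Algebra k K]
    (A A' : Type u) [CommRing A] [CommRing A'] [Algebra k A]
    [Algebra A A'] [Algebra k A'] [IsScalarTower k A A'] [Algebra K A'] [IsScalarTower k K A']
    [Algebra.IsPushout k K A A']
    (ψ : ∀ p : ℕ, ↥(⋀[A]^p (Ω[A⁄k])) →+ ↥(⋀[A']^p (Ω[A'⁄K])))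
    (hψ : DeRham.IsCxMap (KaehlerDifferential.D k A) (KaehlerDifferential.D K A') (algebraMap A A') ψ)

include hψ in
theorem total_tmul (p : ℕ) (s : K) (x : ↥(⋀[A]^p (Ω[A⁄k]))) :
    total k K A A' p (s ⊗ₜ[k] x) = s • ψ p x := by
  induction x using gen_induction with
  | h0 => simp
  | hadd x y hx hy => rw [map_add, smul_add, TensorProduct.tmul_add, map_add, hx, hy]
  | hgen c b => rw [hψ p c b, total_tmul_gen]

include hψ in
theorem total_smul (p : ℕ) (s : K) (z : K ⊗[k] ↥(⋀[A]^p (Ω[A⁄k]))) :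
    total k K A A' p (s • z) = s • total k K A A' p z := by
  induction z using TensorProduct.induction_on with
  | zero => simp
  | add x y hx hy => rw [smul_add, map_add, map_add, smul_add, hx, hy]
  | tmul t x =>
    rw [TensorProduct.smul_tmul', total_tmul k K A A' ψ hψ, total_tmul k K A A' ψ hψ, smul_eq_mul,
      mul_smul]

/-- The base-change isomorphism as a `K`-linear equivalence. -/
noncomputable def totalL (hψ : DeRham.IsCxMap (KaehlerDifferential.D k A) (KaehlerDifferential.D K A')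
    (algebraMap A A') ψ) (p : ℕ) :
    K ⊗[k] ↥(⋀[A]^p (Ω[A⁄k])) ≃ₗ[K] ↥(⋀[A']^p (Ω[A'⁄K])) :=
  { total k K A A' p with
    map_smul' := fun s z => total_smul k K A A' ψ hψ p s z }

theorem totalL_tmul (p : ℕ) (s : K) (x : ↥(⋀[A]^p (Ω[A⁄k]))) :
    totalL k K A A' ψ hψ p (s ⊗ₜ[k] x) = s • ψ p x :=
  total_tmul k K A A' ψ hψ p s x

variable (d : ∀ p : ℕ, ↥(⋀[A]^p (Ω[A⁄k])) →ₗ[k] ↥(⋀[A]^(p + 1) (Ω[A⁄k])))
    (d' : ∀ p : ℕ, ↥(⋀[A']^p (Ω[A'⁄K])) →ₗ[K] ↥(⋀[A']^(p + 1) (Ω[A'⁄K])))
    (hcomm : ∀ (p : ℕ) (x : ↥(⋀[A]^p (Ω[A⁄k]))), ψ (p + 1) (d p x) = d' p (ψ p x))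

include hψ hcomm in
theorem d'_totalL (p : ℕ) (z : K ⊗[k] ↥(⋀[A]^p (Ω[A⁄k]))) :
    d' p (totalL k K A A' ψ hψ p z) =
      totalL k K A A' ψ hψ (p + 1) (AlgebraTensorModule.lTensor K K (d p) z) := by
  induction z using TensorProduct.induction_on with
  | zero => simp
  | add x y hx hy => rw [map_add, map_add, map_add, map_add, hx, hy]
  | tmul s x =>
    rw [totalL_tmul, map_smul, ← hcomm, AlgebraTensorModule.lTensor_tmul, totalL_tmul]

include hψ hcomm in
theorem cocycles_eq (p : ℕ) :
    Submodule.span K (ψ p '' (DeRham.cocycles d p : Set ↥(⋀[A]^p (Ω[A⁄k])))) = DeRham.cocycles d' p := by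
  apply le_antisymm
  · rw [Submodule.span_le]
    rintro _ ⟨x, hx, rfl⟩
    change d' p (ψ p x) = 0
    rw [← hcomm, show d p x = 0 from hx, map_zero]
  · have key : ∀ w : K ⊗[k] ↥(LinearMap.ker (d p)),
        totalL k K A A' ψ hψ p (AlgebraTensorModule.lTensor K K (LinearMap.ker (d p)).subtype w) ∈
          Submodule.span K (ψ p '' (DeRham.cocycles d p : Set ↥(⋀[A]^p (Ω[A⁄k])))) := by
      intro w
      induction w using TensorProduct.induction_on with
      | zero => simp
      | add x y hx hy =>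
        rw [map_add, map_add]
        exact Submodule.add_mem _ hx hy
      | tmul s x =>
        rw [AlgebraTensorModule.lTensor_tmul, totalL_tmul]
        exact Submodule.smul_mem _ _ (Submodule.subset_span ⟨x.1, x.2, rfl⟩)
    intro y hy
    obtain ⟨z, rfl⟩ := (totalL k K A A' ψ hψ p).surjective y
    have hy' : d' p (totalL k K A A' ψ hψ p z) = 0 := hy
    rw [d'_totalL k K A A' ψ hψ d d' hcomm] at hy'
    have hz : z ∈ LinearMap.ker (AlgebraTensorModule.lTensor K K (d p)) :=
      (totalL k K A A' ψ hψ (p + 1)).injective (by rw [hy', map_zero])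
    rw [Module.Flat.ker_lTensor_eq] at hz
    obtain ⟨w, rfl⟩ := hz
    exact key w

include hψ hcomm in
theorem coboundaries_eq (p : ℕ) :
    Submodule.span K (ψ p '' (DeRham.coboundaries d p : Set ↥(⋀[A]^p (Ω[A⁄k])))) =
      DeRham.coboundaries d' p := by
  cases p with
  | zero =>
    change Submodule.span K (ψ 0 '' (((⊥ : Submodule k ↥(⋀[A]^0 (Ω[A⁄k]))) : Set ↥(⋀[A]^0 (Ω[A⁄k]))))) = ⊥
    rw [Submodule.span_eq_bot]
    rintro _ ⟨x, hx, rfl⟩
    rw [show x = 0 from hx, map_zero]
  | succ p =>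
    change Submodule.span K (ψ (p + 1) '' (LinearMap.range (d p) : Set _)) = LinearMap.range (d' p)
    apply le_antisymm
    · rw [Submodule.span_le]
      rintro _ ⟨_, ⟨x, rfl⟩, rfl⟩
      exact ⟨ψ p x, (hcomm p x).symm⟩
    · rintro _ ⟨y, rfl⟩
      obtain ⟨z, rfl⟩ := (totalL k K A A' ψ hψ p).surjective y
      rw [d'_totalL k K A A' ψ hψ d d' hcomm]
      induction z using TensorProduct.induction_on with
      | zero => simp
      | add x y hx hy =>
        rw [map_add, map_add]
        exact Submodule.add_mem _ hx hy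
      | tmul s x =>
        rw [AlgebraTensorModule.lTensor_tmul, totalL_tmul]
        exact Submodule.smul_mem _ _ (Submodule.subset_span ⟨d p x, ⟨x, rfl⟩, rfl⟩)

end

open exteriorPower in
/-- In the affine case, at ring level, let k ⊆ K be an extension of fields of characteristic zero, A a
smooth k-algebra and A' = K ⊗_k A (a pushout square of commutative rings with the scalar-tower
conventions). Let d be the de Rham differential of A over k, d' that of A' over K, and ψ the map of
de Rham complexes induced by A → A', assumed compatible with d and d'. Then for every p the K-span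
of ψ(closed p-forms of A/k) is the module of closed p-forms of A'/K, and the K-span of ψ(exact
p-forms of A/k) is the module of exact p-forms of A'/K. Together with the degreewise base-change
bijection for exterior powers of differentials, this says that the natural map H^p_dR(A/k) ⊗_k K →
H^p_dR(A'/K) is an isomorphism. (The source states the isomorphism H^i_dR(X) ⊗_k K ≅ H^i_dR(X_K) for
a smooth variety X, induced by a quasi-isomorphism of complexes; this row is the case of an affine
X, phrased through closed and exact forms.) -/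
theorem result
    (k K : Type u) [Field k] [Field K] [CharZero k] [Algebra k K]
    (A A' : Type u) [CommRing A] [CommRing A'] [Algebra k A] [Algebra.Smooth k A]
    [Algebra A A'] [Algebra k A'] [IsScalarTower k A A'] [Algebra K A'] [IsScalarTower k K A']
    [Algebra.IsPushout k K A A']
    (d : ∀ p : ℕ, ↥(⋀[A]^p (Ω[A⁄k])) →ₗ[k] ↥(⋀[A]^(p + 1) (Ω[A⁄k])))
    (hd : DeRham.IsDiff (KaehlerDifferential.D k A) d)
    (d' : ∀ p : ℕ, ↥(⋀[A']^p (Ω[A'⁄K])) →ₗ[K] ↥(⋀[A']^(p + 1) (Ω[A'⁄K])))
    (hd' : DeRham.IsDiff (KaehlerDifferential.D K A') d')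
    (ψ : ∀ p : ℕ, ↥(⋀[A]^p (Ω[A⁄k])) →+ ↥(⋀[A']^p (Ω[A'⁄K])))
    (hψ : DeRham.IsCxMap (KaehlerDifferential.D k A) (KaehlerDifferential.D K A') (algebraMap A A') ψ)
    (hcomm : ∀ (p : ℕ) (x : ↥(⋀[A]^p (Ω[A⁄k]))), ψ (p + 1) (d p x) = d' p (ψ p x))
    (p : ℕ) :
    Submodule.span K (ψ p '' (DeRham.cocycles d p : Set ↥(⋀[A]^p (Ω[A⁄k])))) = DeRham.cocycles d' p ∧
      Submodule.span K (ψ p '' (DeRham.coboundaries d p : Set ↥(⋀[A]^p (Ω[A⁄k])))) =
        DeRham.coboundaries d' p :=
  ⟨cocycles_eq k K A A' ψ hψ d d' hcomm p, coboundaries_eq k K A A' ψ hψ d d' hcomm p⟩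

end Groth.Agent.S19628
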