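import Groth.Statements.S19629
import Mathlib.LinearAlgebra.ExteriorPower.Basic
import Mathlib.RingTheory.Kaehler.Basic

set_option autoImplicit false
universe u
open DeRham

namespace Groth.Agent.S19629

open exteriorPower

section Aux

variable (k : Type u) [Field k] (A : Type u) [CommRing A] [Algebra k A]
  {d n : ℕ} (t : Fin d → A) (e : Fin n ↪ Fin d)

/-- The basic element `ā · dt̄_{σ 0} ∧ … ∧ dt̄_{σ (m-1)}` of `Ω^m(A_I/k)`. -/
noncomputable def W (I : Finset (Fin n)) (m : ℕ) (a : A) (σ : Fin m → Fin d) :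
    ↥(⋀[(A ⧸ (⨆ i ∈ I, Ideal.span {t (e i)} : Ideal A))]^m
      (Ω[(A ⧸ (⨆ i ∈ I, Ideal.span {t (e i)} : Ideal A))⁄k])) :=
  DeRham.gen (KaehlerDifferential.D k (A ⧸ (⨆ i ∈ I, Ideal.span {t (e i)} : Ideal A))) m
    (Ideal.Quotient.mk _ a) (fun i => Ideal.Quotient.mk _ (t (σ i)))

lemma mk_t_eq_zero (I : Finset (Fin n)) {j : Fin n} (hj : j ∈ I) :
    Ideal.Quotient.mk (⨆ i ∈ I, Ideal.span {t (e i)} : Ideal A) (t (e j)) = 0 := by
  rw [Ideal.Quotient.eq_zero_iff_mem]
  exact (le_biSup (fun i => Ideal.span {t (e i)}) hj) (Ideal.mem_span_singleton_self _)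

lemma W_eq_zero (I : Finset (Fin n)) (m : ℕ) (a : A) (σ : Fin m → Fin d)
    {j : Fin n} (hj : j ∈ I) (i : Fin m) (hi : σ i = e j) :
    W k A t e I m a σ = 0 := by
  unfold W DeRham.gen
  rw [(ιMulti _ m).map_coord_zero i, smul_zero]
  simp only [hi, mk_t_eq_zero A t e I hj, map_zero]

lemma psi_W (I J : Finset (Fin n)) (h : I ⊆ J)
    (ψ : ∀ p : ℕ, ↥(⋀[(A ⧸ (⨆ i ∈ I, Ideal.span {t (e i)} : Ideal A))]^p (Ω[(A ⧸ (⨆ i ∈ I, Ideal.span {t (e i)} : Ideal A))⁄k])) →+ ↥(⋀[(A ⧸ (⨆ i ∈ J, Ideal.span {t (e i)} : Ideal A))]^p (Ω[(A ⧸ (⨆ i ∈ J, Ideal.span {t (e i)} : Ideal A))⁄k])))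
    (hψ : DeRham.IsCxMap (KaehlerDifferential.D k (A ⧸ (⨆ i ∈ I, Ideal.span {t (e i)} : Ideal A))) (KaehlerDifferential.D k (A ⧸ (⨆ i ∈ J, Ideal.span {t (e i)} : Ideal A)))
        (Ideal.Quotient.factor (biSup_mono h)) ψ)
    (m : ℕ) (a : A) (σ : Fin m → Fin d) :
    ψ m (W k A t e I m a σ) = W k A t e J m a σ := by
  unfold W
  rw [hψ m]
  rfl

lemma span_D_mk_t (b : Module.Basis (Fin d) A (Ω[A⁄k]))
    (hb : ∀ i, b i = KaehlerDifferential.D k A (t i)) (𝔞 : Ideal A) :
    Submodule.span (A ⧸ 𝔞) (Set.range (fun i : Fin d =>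
      KaehlerDifferential.D k (A ⧸ 𝔞) (Ideal.Quotient.mk 𝔞 (t i)))) = ⊤ := by
  rw [eq_top_iff, ← KaehlerDifferential.span_range_derivation k (A ⧸ 𝔞), Submodule.span_le]
  rintro _ ⟨x, rfl⟩
  obtain ⟨a, rfl⟩ := Ideal.Quotient.mk_surjective x
  have h1 : KaehlerDifferential.D k (A ⧸ 𝔞) (Ideal.Quotient.mk 𝔞 a) =
      KaehlerDifferential.map k k A (A ⧸ 𝔞) (KaehlerDifferential.D k A a) := by
    rw [KaehlerDifferential.map_D]; rfl
  have h2 : KaehlerDifferential.D k A a =
      ∑ i, b.repr (KaehlerDifferential.D k A a) i • b i := (b.sum_repr _).symm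
  rw [SetLike.mem_coe, h1, h2, map_sum]
  refine Submodule.sum_mem _ fun i _ => ?_
  rw [map_smul, hb, KaehlerDifferential.map_D, ← algebraMap_smul (A ⧸ 𝔞)]
  exact Submodule.smul_mem _ _ (Submodule.subset_span ⟨i, rfl⟩)


lemma exists_gen (b : Module.Basis (Fin d) A (Ω[A⁄k]))
    (hb : ∀ i, b i = KaehlerDifferential.D k A (t i))
    (J : Finset (Fin n)) (s m : ℕ) (hs : s + 1 + m = d) (hJ : J.card = s + 1) :
    ∃ σ : Fin m → Fin d, (∀ j : Fin n, j ∉ J → ∃ i, σ i = e j) ∧
      ∀ x : ↥(⋀[(A ⧸ (⨆ i ∈ J, Ideal.span {t (e i)} : Ideal A))]^m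
          (Ω[(A ⧸ (⨆ i ∈ J, Ideal.span {t (e i)} : Ideal A))⁄k])),
        ∃ a : A, x = W k A t e J m a σ := by
  classical
  set S : Finset (Fin d) := (J.map e)ᶜ with hS
  have hScard : S.card = m := by
    rw [hS, Finset.card_compl, Finset.card_map, Fintype.card_fin, hJ]; omega
  refine ⟨S.orderEmbOfFin hScard, ?_, ?_⟩
  · intro j hj
    have hmem : e j ∈ S := by
      rw [hS, Finset.mem_compl, Finset.mem_map']
      exact hj
    have hr := Finset.range_orderEmbOfFin S hScard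
    have : e j ∈ Set.range (S.orderEmbOfFin hScard) := by rw [hr]; exact hmem
    exact this
  · set 𝔞 : Ideal A := (⨆ i ∈ J, Ideal.span {t (e i)} : Ideal A) with h𝔞
    intro x
    have hspan := exteriorPower.ιMulti_family_span_of_span (R := A ⧸ 𝔞) (n := m)
      (span_D_mk_t k A t b hb 𝔞)
    have hx : x ∈ Submodule.span (A ⧸ 𝔞) {W k A t e J m 1 (S.orderEmbOfFin hScard)} := by
      have hx' : x ∈ (⊤ : Submodule (A ⧸ 𝔞) _) := trivial
      rw [← hspan] at hx'
      refine Submodule.span_le.mpr ?_ hx'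
      rintro _ ⟨T, rfl⟩
      by_cases hT : T.val = S
      · refine Submodule.subset_span ?_
        rw [Set.mem_singleton_iff]
        obtain ⟨T, hTm⟩ := T
        simp only at hT
        subst hT
        unfold W DeRham.gen ιMulti_family
        rw [map_one, one_smul]
        rfl
      · -- some element of T is not in S
        have hex : ∃ i ∈ T.val, i ∉ S := by
          by_contra hcon
          push Not at hcon
          have hsub : T.val ⊆ S := hcon
          have hTc : T.val.card = m := T.prop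
          exact hT (Finset.eq_of_subset_of_card_le hsub (by rw [hScard, hTc]))
        obtain ⟨i, hiT, hiS⟩ := hex
        rw [hS, Finset.mem_compl, not_not, Finset.mem_map] at hiS
        obtain ⟨j, hjJ, rfl⟩ := hiS
        obtain ⟨l, hl⟩ := (Set.powersetCard.mem_range_ofFinEmbEquiv_symm_iff_mem T (e j)).mpr hiT
        have hz : ιMulti_family (A ⧸ 𝔞) m (fun i : Fin d =>
            KaehlerDifferential.D k (A ⧸ 𝔞) (Ideal.Quotient.mk 𝔞 (t i))) T = 0 := by
          unfold ιMulti_family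
          refine (ιMulti _ m).map_coord_zero l ?_
          simp only [Function.comp_apply, hl]
          rw [h𝔞, mk_t_eq_zero A t e J hjJ, map_zero]
        rw [hz]
        exact Submodule.zero_mem _
    obtain ⟨c, hc⟩ := Submodule.mem_span_singleton.mp hx
    obtain ⟨a, rfl⟩ := Ideal.Quotient.mk_surjective c
    refine ⟨a, ?_⟩
    rw [← hc]
    unfold W DeRham.gen
    rw [map_one, one_smul]

end Aux

open exteriorPower in
/-- In the chart case reached in its proof, let k be a field of characteristic zero and A a smooth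
k-algebra carrying functions t_1, …, t_d whose differentials form a basis of Ω_{A/k} (a global
system of étale coordinates on X = Spec A), and let D_1, …, D_n be the coordinate hyperplanes
t_{e(1)} = 0, …, t_{e(n)} = 0 for an injection e, so that D = D_1 ∪ ⋯ ∪ D_n is a simple normal
crossings divisor. For I ⊆ {1, …, n} write A_I = A/(t_{e(i)} : i ∈ I) for the coordinate ring of D_I
= ⋂_{i ∈ I} D_i, and let ψ_{I,J} (I ⊆ J) be the maps of de Rham complexes induced by the surjections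
A_I → A_J. Then whenever s + 1 + m = d, the Čech differential ∏_{|I| = s} Ω^m_{A_I/k} → ∏_{|J| =
s+1} Ω^m_{A_J/k}, (ω_I) ↦ (Σ_{j ∈ J} ± ψ_{J∖j,J}(ω_{J∖j}))_J with the usual alternating signs, is
surjective; for s = 0 this is the surjectivity of Ω^{d-1}(X) → ⊕_i Ω^{d-1}(D_i). (The source states
the surjectivity for a smooth affine variety X of dimension d with a simple normal crossings divisor
and reduces to this chart case étale-locally; here A_∅ is A/0 rather than A.) -/
theorem result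
    (k : Type u) [Field k] [CharZero k] (A : Type u) [CommRing A] [Algebra k A] [Algebra.Smooth k A]
    (d n : ℕ) (t : Fin d → A) (e : Fin n ↪ Fin d)
    (b : Module.Basis (Fin d) A (Ω[A⁄k])) (hb : ∀ i, b i = KaehlerDifferential.D k A (t i))
    (ψ : ∀ (I J : Finset (Fin n)) (p : ℕ), ↥(⋀[(A ⧸ (⨆ i ∈ I, Ideal.span {t (e i)} : Ideal A))]^p (Ω[(A ⧸ (⨆ i ∈ I, Ideal.span {t (e i)} : Ideal A))⁄k])) →+ ↥(⋀[(A ⧸ (⨆ i ∈ J, Ideal.span {t (e i)} : Ideal A))]^p (Ω[(A ⧸ (⨆ i ∈ J, Ideal.span {t (e i)} : Ideal A))⁄k])))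
    (hψ : ∀ (I J : Finset (Fin n)) (h : I ⊆ J),
      DeRham.IsCxMap (KaehlerDifferential.D k (A ⧸ (⨆ i ∈ I, Ideal.span {t (e i)} : Ideal A))) (KaehlerDifferential.D k (A ⧸ (⨆ i ∈ J, Ideal.span {t (e i)} : Ideal A)))
        (Ideal.Quotient.factor (biSup_mono h)) (ψ I J))
    (s m : ℕ) (hs : s + 1 + m = d)
    (g : ∀ J : Finset (Fin n), ↥(⋀[(A ⧸ (⨆ i ∈ J, Ideal.span {t (e i)} : Ideal A))]^m (Ω[(A ⧸ (⨆ i ∈ J, Ideal.span {t (e i)} : Ideal A))⁄k]))) :
    ∃ ω : ∀ I : Finset (Fin n), ↥(⋀[(A ⧸ (⨆ i ∈ I, Ideal.span {t (e i)} : Ideal A))]^m (Ω[(A ⧸ (⨆ i ∈ I, Ideal.span {t (e i)} : Ideal A))⁄k])),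
      ∀ J : Finset (Fin n), J.card = s + 1 →
        (∑ j ∈ J.attach,
          ((-1 : ℤ) ^ (J.filter (fun i => i < j.1)).card) •
            ψ (J.erase j.1) J m (ω (J.erase j.1))) = g J := by
  classical
  have hd0 : 0 < d := by omega
  have hgen : ∀ J : Finset (Fin n), ∃ (σ : Fin m → Fin d) (a : A), J.card = s + 1 →
      (∀ j : Fin n, j ∉ J → ∃ i, σ i = e j) ∧ g J = W k A t e J m a σ := by
    intro J
    by_cases hJ : J.card = s + 1
    · obtain ⟨σ, h1, h2⟩ := exists_gen k A t e b hb J s m hs hJ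
      obtain ⟨a, ha⟩ := h2 (g J)
      exact ⟨σ, a, fun _ => ⟨h1, ha⟩⟩
    · exact ⟨fun _ => ⟨0, hd0⟩, 0, fun h => absurd h hJ⟩
  choose σ a hσa using hgen
  refine ⟨fun I => ∑ j₀ ∈ Finset.univ.filter (fun j₀ => j₀ ∉ I ∧ ∀ i ∈ I, j₀ < i),
    W k A t e I m (a (insert j₀ I)) (σ (insert j₀ I)), ?_⟩
  intro J hJ
  have hJne : J.Nonempty := by rw [← Finset.card_pos]; omega
  have key : ∀ j ∈ J, ψ (J.erase j) J m
      (∑ j₀ ∈ Finset.univ.filter (fun j₀ => j₀ ∉ J.erase j ∧ ∀ i ∈ J.erase j, j₀ < i),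
        W k A t e (J.erase j) m (a (insert j₀ (J.erase j))) (σ (insert j₀ (J.erase j)))) =
      if (∀ i ∈ J.erase j, j < i) then g J else 0 := by
    intro j hj
    rw [map_sum]
    have hterm : ∀ j₀ ∈ Finset.univ.filter (fun j₀ => j₀ ∉ J.erase j ∧ ∀ i ∈ J.erase j, j₀ < i),
        ψ (J.erase j) J m (W k A t e (J.erase j) m (a (insert j₀ (J.erase j)))
          (σ (insert j₀ (J.erase j)))) = if j₀ = j then g J else 0 := by
      intro j₀ hj₀
      rw [psi_W k A t e (J.erase j) J (Finset.erase_subset _ _) (ψ (J.erase j) J) (hψ _ _ (Finset.erase_subset _ _))]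
      rw [Finset.mem_filter] at hj₀
      split_ifs with h
      · subst h
        rw [Finset.insert_erase hj]
        exact ((hσa J hJ).2).symm
      · have hcard : (insert j₀ (J.erase j)).card = s + 1 := by
          rw [Finset.card_insert_of_notMem hj₀.2.1, Finset.card_erase_of_mem hj, hJ]; rfl
        have hjn : j ∉ insert j₀ (J.erase j) := by
          simp [Finset.mem_insert, Ne.symm h]
        obtain ⟨i, hi⟩ := (hσa _ hcard).1 j hjn
        exact W_eq_zero k A t e J m _ _ hj i hi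
    rw [Finset.sum_congr rfl hterm, Finset.sum_ite_eq']
    simp [Finset.mem_filter]
  rw [Finset.sum_eq_single ⟨J.min' hJne, J.min'_mem hJne⟩]
  · rw [key _ (J.min'_mem hJne), if_pos]
    · have hemp : J.filter (fun i => i < J.min' hJne) = ∅ := by
        apply Finset.filter_eq_empty_iff.mpr
        intro i hi
        exact not_lt.mpr (J.min'_le i hi)
      rw [hemp]; simp
    · intro i hi
      have := Finset.mem_erase.mp hi
      exact lt_of_le_of_ne (J.min'_le i this.2) (Ne.symm this.1)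
  · rintro ⟨j, hj⟩ _ hne
    rw [key j hj, if_neg, smul_zero]
    intro hall
    apply hne
    have hjmin : j = J.min' hJne := by
      apply le_antisymm
      · by_contra hcon
        have hne' : J.min' hJne ≠ j := fun h => hcon (le_of_eq h.symm)
        have hm : J.min' hJne ∈ J.erase j := Finset.mem_erase.mpr ⟨hne', J.min'_mem hJne⟩
        exact hcon (le_of_lt (hall _ hm))
      · exact J.min'_le j hj
    exact Subtype.ext hjmin
  · intro h; exact absurd (Finset.mem_attach _ _) h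

end Groth.Agent.S19629
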