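import Groth.Statements.S19630
import Mathlib
import Groth.Agent.Lib.Helper22DeRham

set_option autoImplicit false
universe u
open DeRham

namespace Groth.Agent.S19630

open exteriorPower in
/-- The comparison map `Ω[B⁄k] → Ω[B⁄K]` is injective when `K/k` is a finite extension of fields of
characteristic zero. -/
theorem kaehler_map_bijective
    (k K : Type u) [Field k] [Field K] [CharZero k] [Algebra k K] [Module.Finite k K]
    (B : Type u) [CommRing B] [Algebra K B] [Algebra k B] [IsScalarTower k K B] :
    Function.Bijective (KaehlerDifferential.map k K B B) := by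
  refine ⟨?_, KaehlerDifferential.map_surjective k K B⟩
  have hsep : Algebra.IsSeparable k K := inferInstance
  have hunr : Algebra.FormallyUnramified k K := Algebra.FormallyUnramified.of_isSeparable k K
  have hsub : Subsingleton (Ω[K⁄k]) := inferInstance
  have hsub2 : Subsingleton (TensorProduct K B (Ω[K⁄k])) := by
    refine ⟨fun x y => ?_⟩
    have h0 : ∀ z : TensorProduct K B (Ω[K⁄k]), z = 0 := by
      intro z
      induction z using TensorProduct.induction_on with
      | zero => rfl
      | tmul b w => rw [Subsingleton.elim w 0, TensorProduct.tmul_zero]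
      | add x y hx hy => rw [hx, hy, add_zero]
    rw [h0 x, h0 y]
  rw [injective_iff_map_eq_zero]
  intro x hx
  obtain ⟨y, rfl⟩ := (KaehlerDifferential.exact_mapBaseChange_map k K B x).mp hx
  rw [Subsingleton.elim y 0, map_zero]

open exteriorPower in
/-- In the affine case, at ring level, let k ⊆ K be a finite extension of fields of characteristic zero
and B a smooth K-algebra, so that Y = Spec B is a smooth affine variety over K which may also be
regarded over k. Let ψ be the map of de Rham complexes from Ω•_{B/k} to Ω•_{B/K} induced by the
identity of B. Then ψ is bijective in every degree: the de Rham complex of Y over k and over K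
coincide, and hence the natural map H^i_dR(Y/k) → H^i_dR(Y/K) is an isomorphism. (The source states
the isomorphism on de Rham cohomology for any smooth variety Y over K, through the equality of the
two de Rham complexes; this row is that equality for affine Y.) -/
theorem result
    (k K : Type u) [Field k] [Field K] [CharZero k] [Algebra k K] [Module.Finite k K]
    (B : Type u) [CommRing B] [Algebra K B] [Algebra k B] [IsScalarTower k K B] [Algebra.Smooth K B]
    (ψ : ∀ p : ℕ, ↥(⋀[B]^p (Ω[B⁄k])) →+ ↥(⋀[B]^p (Ω[B⁄K])))
    (hψ : DeRham.IsCxMap (KaehlerDifferential.D k B) (KaehlerDifferential.D K B) (RingHom.id B) ψ)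
    (p : ℕ) :
    Function.Bijective (ψ p) := by
  have hbij := kaehler_map_bijective k K B
  let e : Ω[B⁄k] ≃ₗ[B] Ω[B⁄K] := LinearEquiv.ofBijective (KaehlerDifferential.map k K B B) hbij
  -- ψ p agrees with the exterior power of `e`
  have hagree : ∀ ω, ψ p ω = exteriorPower.map p e.toLinearMap ω := by
    intro ω
    refine Groth.Agent.Lib.Helper22.deRham_gen_induction (R := k) (A := B) p
      (fun ω => ψ p ω = exteriorPower.map p e.toLinearMap ω) ?_ ?_ ?_ ω
    · simp
    · intro x y hx hy
      rw [map_add, map_add, hx, hy]
    · intro c b
      rw [hψ p c b]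
      unfold gen
      rw [map_smul, exteriorPower.map_apply_ιMulti]
      congr 2
      funext i
      simp [e]
  have hfun : (ψ p : ↥(⋀[B]^p (Ω[B⁄k])) → ↥(⋀[B]^p (Ω[B⁄K]))) =
      exteriorPower.map p e.toLinearMap := funext hagree
  rw [hfun]
  have h1 : (exteriorPower.map p e.symm.toLinearMap) ∘ₗ (exteriorPower.map p e.toLinearMap) =
      LinearMap.id := by
    rw [← exteriorPower.map_comp]
    have : e.symm.toLinearMap ∘ₗ e.toLinearMap = LinearMap.id := by
      ext x; simp
    rw [this, exteriorPower.map_id]
  have h2 : (exteriorPower.map p e.toLinearMap) ∘ₗ (exteriorPower.map p e.symm.toLinearMap) =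
      LinearMap.id := by
    rw [← exteriorPower.map_comp]
    have : e.toLinearMap ∘ₗ e.symm.toLinearMap = LinearMap.id := by
      ext x; simp
    rw [this, exteriorPower.map_id]
  refine ⟨?_, ?_⟩
  · intro x y hxy
    have := congrArg (exteriorPower.map p e.symm.toLinearMap) hxy
    rw [← LinearMap.comp_apply, ← LinearMap.comp_apply, h1] at this
    simpa using this
  · intro y
    refine ⟨exteriorPower.map p e.symm.toLinearMap y, ?_⟩
    rw [← LinearMap.comp_apply, h2]
    rfl

end Groth.Agent.S19630
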