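import Groth.Statements.S19633
import Mathlib
import Groth.Agent.S19632
import Groth.Agent.Lib.Helper22DeRham

set_option autoImplicit false
universe u
open DeRham

namespace Groth.Agent.S19633

open Groth.Agent.S19632 LaurentPolynomial

variable (k : Type u) [Field k]

/-- the Euler contraction `Ω → A`, `df ↦ t f'` -/
noncomputable def eps : Ω[LaurentPolynomial k⁄k] →ₗ[LaurentPolynomial k] LaurentPolynomial k :=
  (eulerDer k).liftKaehlerDifferential

theorem eps_D (f : LaurentPolynomial k) :
    eps k (KaehlerDifferential.D k (LaurentPolynomial k) f) = euler k f :=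
  Derivation.liftKaehlerDifferential_comp_D _ _

theorem euler_T (n : ℤ) : euler k (T n) = (n : k) • T n := by
  change euler k (AddMonoidAlgebra.single n 1) = _
  rw [euler_single, mul_one]
  change _ = (n : k) • AddMonoidAlgebra.single n (1 : k)
  rw [AddMonoidAlgebra.smul_single, smul_eq_mul, mul_one]

theorem D_T_neg_one :
    KaehlerDifferential.D k (LaurentPolynomial k) (T (-1)) =
      (-(T (-2) : LaurentPolynomial k)) • KaehlerDifferential.D k (LaurentPolynomial k) (T 1) := by
  have h0 : KaehlerDifferential.D k (LaurentPolynomial k) (T (-1) * T 1) = 0 := by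
    rw [← T_add]; norm_num
  rw [Derivation.leibniz] at h0
  have h1 := congrArg (fun ω => (T (-1) : LaurentPolynomial k) • ω) h0
  simp only [smul_add, smul_zero, smul_smul] at h1
  rw [← T_add, ← T_add] at h1
  norm_num at h1
  rw [neg_smul]
  exact eq_neg_of_add_eq_zero_right h1

theorem D_T_succ (m : ℤ)
    (ih : KaehlerDifferential.D k (LaurentPolynomial k) (T m) =
      ((m : k) • (T (m - 1) : LaurentPolynomial k)) • KaehlerDifferential.D k (LaurentPolynomial k) (T 1)) :
    KaehlerDifferential.D k (LaurentPolynomial k) (T (m + 1)) =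
      (((m + 1 : ℤ) : k) • (T (m + 1 - 1) : LaurentPolynomial k)) •
        KaehlerDifferential.D k (LaurentPolynomial k) (T 1) := by
  rw [T_add, Derivation.leibniz, ih, smul_smul, ← add_smul]
  congr 1
  have h1 : (T 1 : LaurentPolynomial k) * ((m : k) • T (m - 1)) = (m : k) • T m := by
    rw [mul_smul_comm, ← T_add]; congr 2; ring
  have h2 : (m + 1 - 1) = m := by ring
  rw [h1, h2, Int.cast_add, Int.cast_one, add_smul, one_smul, add_comm]

theorem D_T_pred (m : ℤ)
    (ih : KaehlerDifferential.D k (LaurentPolynomial k) (T m) =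
      ((m : k) • (T (m - 1) : LaurentPolynomial k)) • KaehlerDifferential.D k (LaurentPolynomial k) (T 1)) :
    KaehlerDifferential.D k (LaurentPolynomial k) (T (m - 1)) =
      (((m - 1 : ℤ) : k) • (T (m - 1 - 1) : LaurentPolynomial k)) •
        KaehlerDifferential.D k (LaurentPolynomial k) (T 1) := by
  have h3 : (m - 1) = m + (-1) := by ring
  rw [h3, T_add, Derivation.leibniz, ih, D_T_neg_one, smul_smul, smul_smul, ← add_smul]
  congr 1
  have e1 : (T m : LaurentPolynomial k) * (-(T (-2))) = -(T (m + -1 - 1)) := by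
    rw [mul_neg, ← T_add]; congr 2; ring
  have e2 : (T (-1) : LaurentPolynomial k) * ((m : k) • T (m - 1)) =
      (m : k) • T (m + -1 - 1) := by
    rw [mul_smul_comm, ← T_add]; congr 2; ring
  rw [e1, e2, Int.cast_add, Int.cast_neg, Int.cast_one, add_smul, neg_smul, one_smul, add_comm]

theorem D_T (n : ℤ) :
    KaehlerDifferential.D k (LaurentPolynomial k) (T n) =
      ((n : k) • (T (n - 1) : LaurentPolynomial k)) • KaehlerDifferential.D k (LaurentPolynomial k) (T 1) := by
  induction n using Int.induction_on with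
  | zero => simp
  | succ n ih => exact D_T_succ k n ih
  | pred n ih => exact D_T_pred k (-n) ih

theorem D_eq (f : LaurentPolynomial k) :
    KaehlerDifferential.D k (LaurentPolynomial k) f =
      ((T (-1) : LaurentPolynomial k) * euler k f) •
        KaehlerDifferential.D k (LaurentPolynomial k) (T 1) := by
  induction f using AddMonoidAlgebra.induction_linear with
  | zero => simp
  | add f g hf hg => rw [map_add, hf, hg, map_add, mul_add, add_smul]
  | single m r =>
    have h1 : (AddMonoidAlgebra.single m r : LaurentPolynomial k) = r • T m := by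
      change _ = r • AddMonoidAlgebra.single m (1 : k)
      rw [AddMonoidAlgebra.smul_single, smul_eq_mul, mul_one]
    rw [h1, Derivation.map_smul, map_smul, D_T, euler_T, ← smul_assoc]
    congr 1
    rw [mul_smul_comm, mul_smul_comm, ← T_add, smul_smul, smul_smul, mul_comm]
    congr 2
    ring

theorem eps_dT :
    eps k (KaehlerDifferential.D k (LaurentPolynomial k) (T 1)) = T 1 := by
  rw [eps_D, euler_T]; simp

theorem eq_smul_dT (ω : Ω[LaurentPolynomial k⁄k]) :
    ω = ((T (-1) : LaurentPolynomial k) * eps k ω) •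
      KaehlerDifferential.D k (LaurentPolynomial k) (T 1) := by
  have hω : ω ∈ Submodule.span (LaurentPolynomial k)
      (Set.range (KaehlerDifferential.D k (LaurentPolynomial k))) := by
    rw [KaehlerDifferential.span_range_derivation]; trivial
  induction hω using Submodule.span_induction with
  | mem x hx =>
    obtain ⟨f, rfl⟩ := hx
    rw [eps_D]; exact D_eq k f
  | zero => simp
  | add x y _ _ hx hy =>
    rw [map_add, mul_add, add_smul, ← hx, ← hy]
  | smul a x _ hx =>
    rw [map_smul, smul_eq_mul, mul_left_comm, mul_smul, ← hx]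

theorem eps_injective : Function.Injective (eps k) := by
  rw [injective_iff_map_eq_zero]
  intro ω h
  rw [eq_smul_dT k ω, h, mul_zero, zero_smul]

open exteriorPower in
theorem extPow_eq_zero (p : ℕ) (ω : ↥(⋀[LaurentPolynomial k]^(p + 2) (Ω[LaurentPolynomial k⁄k]))) :
    ω = 0 := by
  have hω : ω ∈ Submodule.span (LaurentPolynomial k)
      (Set.range (ιMulti (LaurentPolynomial k) (p + 2) (M := Ω[LaurentPolynomial k⁄k]))) := by
    rw [ιMulti_span]; trivial
  induction hω using Submodule.span_induction with
  | mem x hx =>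
    obtain ⟨v, rfl⟩ := hx
    have hv : v = fun i => ((T (-1) : LaurentPolynomial k) * eps k (v i)) •
        KaehlerDifferential.D k (LaurentPolynomial k) (T 1) := by
      funext i; exact eq_smul_dT k (v i)
    rw [hv, (ιMulti (LaurentPolynomial k) (p + 2)).map_smul_univ]
    have h0 : ιMulti (LaurentPolynomial k) (p + 2)
        (fun _ : Fin (p + 2) => KaehlerDifferential.D k (LaurentPolynomial k) (T 1)) = 0 :=
      (ιMulti (LaurentPolynomial k) (p + 2)).map_eq_zero_of_eq _ (i := 0) (j := 1) rfl
        (by simp)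
    rw [h0, smul_zero]
  | zero => rfl
  | add x y _ _ hx hy => rw [hx, hy, add_zero]
  | smul a x _ hx => rw [hx, smul_zero]

theorem exists_euler_add [CharZero k] (g : LaurentPolynomial k) :
    ∃ (f : LaurentPolynomial k) (c : k), g = euler k f + c • (1 : LaurentPolynomial k) := by
  induction g using AddMonoidAlgebra.induction_linear with
  | zero => exact ⟨0, 0, by simp⟩
  | add g₁ g₂ h₁ h₂ =>
    obtain ⟨f₁, c₁, e₁⟩ := h₁
    obtain ⟨f₂, c₂, e₂⟩ := h₂
    refine ⟨f₁ + f₂, c₁ + c₂, ?_⟩
    rw [map_add, add_smul, e₁, e₂]; abel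
  | single n r =>
    by_cases hn : n = 0
    · subst hn
      refine ⟨0, r, ?_⟩
      rw [map_zero, zero_add]
      change _ = r • (AddMonoidAlgebra.single (0 : ℤ) (1 : k))
      rw [AddMonoidAlgebra.smul_single, smul_eq_mul, mul_one]
    · refine ⟨AddMonoidAlgebra.single n ((n : k)⁻¹ * r), 0, ?_⟩
      have hn' : (n : k) ≠ 0 := by exact_mod_cast hn
      rw [euler_single, zero_smul, add_zero, ← mul_assoc, mul_inv_cancel₀ hn', one_mul]

/-- the residue: coefficient of `t⁰` of the Euler contraction -/
noncomputable def res : Ω[LaurentPolynomial k⁄k] →ₗ[k] k :=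
  (Finsupp.lapply (0 : ℤ)) ∘ₗ (AddMonoidAlgebra.coeffLinearEquiv k).toLinearMap ∘ₗ
    (eps k).restrictScalars k

theorem res_apply (ω : Ω[LaurentPolynomial k⁄k]) : res k ω = (eps k ω).coeff 0 := rfl

theorem res_D (f : LaurentPolynomial k) :
    res k (KaehlerDifferential.D k (LaurentPolynomial k) f) = 0 := by
  rw [res_apply, eps_D, euler_coeff]; simp

theorem T_neg_one_mul_T_one : (T (-1) : LaurentPolynomial k) * T 1 = 1 := by
  rw [← T_add]; norm_num

theorem res_smul_dT :
    res k ((T (-1) : LaurentPolynomial k) • KaehlerDifferential.D k (LaurentPolynomial k) (T 1)) = 1 := by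
  rw [res_apply, map_smul, eps_dT, smul_eq_mul, T_neg_one_mul_T_one]
  change (AddMonoidAlgebra.single (0 : ℤ) (1 : k)).coeff 0 = 1
  rw [AddMonoidAlgebra.coeff_single]; simp

open exteriorPower in
/-- Let k be a field of characteristic zero, G_m = Spec k[t, t⁻¹], and d the de Rham differential of
k[t, t⁻¹] over k. Then: every 1-form is closed; the exact 1-forms and the k-line spanned by t⁻¹ dt
are complementary subspaces of the 1-forms, and t⁻¹ dt is not exact — so H^1_dR(G_m/k) is
one-dimensional, generated by the class of dt/t (the isomorphism with k being the residue); and for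
every i ≥ 2 the closed i-forms are exact, so H^i_dR(G_m/k) = 0 for i > 1. (Characteristic zero is
used in the computation of the exact forms.) -/
theorem result (k : Type u) [Field k] [CharZero k]
    (d : ∀ p : ℕ, ↥(⋀[LaurentPolynomial k]^p (Ω[LaurentPolynomial k⁄k])) →ₗ[k] ↥(⋀[LaurentPolynomial k]^(p + 1) (Ω[LaurentPolynomial k⁄k])))
    (hd : DeRham.IsDiff (KaehlerDifferential.D k (LaurentPolynomial k)) d) :
    DeRham.cocycles d 1 = ⊤ ∧
    IsCompl (DeRham.coboundaries d 1)
      (Submodule.span k {DeRham.gen (KaehlerDifferential.D k (LaurentPolynomial k)) 1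
        (LaurentPolynomial.T (-1)) (fun _ => LaurentPolynomial.T 1)}) ∧
    DeRham.gen (KaehlerDifferential.D k (LaurentPolynomial k)) 1
        (LaurentPolynomial.T (-1)) (fun _ => LaurentPolynomial.T 1) ∉ DeRham.coboundaries d 1 ∧
    ∀ i : ℕ, DeRham.cocycles d (i + 2) ≤ DeRham.coboundaries d (i + 2) := by
  classical
  set δ := KaehlerDifferential.D k (LaurentPolynomial k) with hδ
  set η := DeRham.gen δ 1 (LaurentPolynomial.T (-1)) (fun _ => LaurentPolynomial.T 1) with hη
  -- the comparison map ⋀¹Ω → A
  let e1 := exteriorPower.oneEquiv (LaurentPolynomial k) (Ω[LaurentPolynomial k⁄k])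
  have he1k : ∀ (c : k) (x : ↥(⋀[LaurentPolynomial k]^1 (Ω[LaurentPolynomial k⁄k]))),
      e1 (c • x) = c • e1 x := fun c x => e1.toLinearMap.map_smul_of_tower c x
  -- every 0-form is a generator
  have hzero : ∀ x : ↥(⋀[LaurentPolynomial k]^0 (Ω[LaurentPolynomial k⁄k])),
      x = DeRham.gen δ 0 (exteriorPower.zeroEquiv _ _ x) Fin.elim0 := by
    intro x
    apply (exteriorPower.zeroEquiv (LaurentPolynomial k) (Ω[LaurentPolynomial k⁄k])).injective
    unfold DeRham.gen
    rw [map_smul, exteriorPower.zeroEquiv_ιMulti, smul_eq_mul, mul_one]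
  have hd0 : ∀ f : LaurentPolynomial k,
      e1 (d 0 (DeRham.gen δ 0 f Fin.elim0)) = δ f := by
    intro f
    rw [hd.1 0 f Fin.elim0, exteriorPower.oneEquiv_ιMulti]
    rfl
  have heη : e1 η = (LaurentPolynomial.T (-1) : LaurentPolynomial k) • δ (LaurentPolynomial.T 1) := by
    rw [hη]; unfold DeRham.gen
    rw [map_smul, exteriorPower.oneEquiv_ιMulti]
  have hres_range : ∀ y ∈ LinearMap.range (d 0), res k (e1 y) = 0 := by
    rintro y ⟨x, rfl⟩
    rw [hzero x, hd0, res_D]
  have hres_η : res k (e1 η) = 1 := by rw [heη]; exact res_smul_dT k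
  have hcob : DeRham.coboundaries d 1 = LinearMap.range (d 0) := rfl
  refine ⟨?_, ?_, ?_, ?_⟩
  · rw [eq_top_iff]
    intro x _
    change d 1 x = 0
    exact extPow_eq_zero k 0 _
  · rw [hcob]
    refine ⟨?_, ?_⟩
    · rw [Submodule.disjoint_def]
      intro x hx1 hx2
      obtain ⟨c, rfl⟩ := Submodule.mem_span_singleton.mp hx2
      have h := hres_range _ hx1
      rw [he1k, map_smul, hres_η, smul_eq_mul, mul_one] at h
      rw [h, zero_smul]
    · rw [codisjoint_iff, eq_top_iff]
      intro ω _
      obtain ⟨f, c, hfc⟩ := exists_euler_add k (eps k (e1 ω))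
      have hω : ω = d 0 (DeRham.gen δ 0 f Fin.elim0) + c • η := by
        apply e1.injective
        apply eps_injective k
        rw [map_add, map_add, hd0, he1k, heη, hfc, eps_D]
        congr 1
        rw [LinearMap.map_smul_of_tower, map_smul, eps_dT, smul_eq_mul, T_neg_one_mul_T_one]
      rw [hω]
      exact Submodule.add_mem_sup ⟨_, rfl⟩ (Submodule.mem_span_singleton.mpr ⟨c, rfl⟩)
  · rw [hcob]
    intro hmem
    have h := hres_range _ hmem
    rw [hres_η] at h
    exact one_ne_zero h
  · intro i x _
    rw [extPow_eq_zero k i x]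
    exact Submodule.zero_mem _

end Groth.Agent.S19633
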