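import Groth.Statements.S19649
import Groth.Agent.R2.H97GradedFree

set_option autoImplicit false
universe u v
open Instab

namespace Groth.Agent.S19649

open MvPolynomial DirectSum in
/-- The case of a point, in graded-module form over an affine base. Let R be a commutative ring, n a
natural number, A = R[x_1, …, x_n] the polynomial ring graded by ℤ^n with x_i of degree the i-th
basis vector (the weight grading of the standard action of the n-dimensional split torus on affine
n-space), and P a finitely generated projective A-module carrying a compatible ℤ^n-grading (an
equivariant vector bundle on affine n-space over Spec R). Then P is graded-free Zariski-locally on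
Spec R: for every prime p of R there are r ∉ p and finitely many homogeneous elements f_1, …, f_m of
P such that, after inverting r, the f_i form an A-basis of P — every element of P multiplied by a
power of r is an A-linear combination of the f_i, and the coefficients of every A-linear relation
among the f_i are killed by a power of r. (This is the case of a point of the source's description
of filtered points of quotient stacks by the general linear group, whose argument the source gives
in full: an equivariant vector bundle on affine n-space over a base is, locally on the base, the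
standard one attached to a cocharacter; the general case, an identification of mapping stacks, is
not stated here.) -/
theorem result
    {R : Type u} [CommRing R] (n : ℕ)
    {P : Type v} [AddCommGroup P] [Module (MvPolynomial (Fin n) R) P] [Module R P]
    [IsScalarTower R (MvPolynomial (Fin n) R) P]
    (ℳ : (Fin n → ℤ) → Submodule R P) [DirectSum.Decomposition ℳ]
    [SetLike.GradedSMul (MvPolynomial.weightedHomogeneousSubmodule R (fun i : Fin n => (Pi.single i 1 : Fin n → ℤ))) ℳ]
    [Module.Finite (MvPolynomial (Fin n) R) P] [Module.Projective (MvPolynomial (Fin n) R) P]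
    (p : PrimeSpectrum R) :
    ∃ r : R, r ∉ p.asIdeal ∧ ∃ (m : ℕ) (d : Fin m → (Fin n → ℤ)) (f : Fin m → P), (∀ i, f i ∈ ℳ (d i)) ∧
      (∀ q : P, ∃ (N : ℕ) (c : Fin m → MvPolynomial (Fin n) R), (MvPolynomial.C r : MvPolynomial (Fin n) R) ^ N • q = ∑ i, c i • f i) ∧
      (∀ c : Fin m → MvPolynomial (Fin n) R, ∑ i, c i • f i = 0 →
        ∃ N : ℕ, ∀ i, (MvPolynomial.C r : MvPolynomial (Fin n) R) ^ N * c i = 0) := by
  classical
  obtain ⟨m, d, f, hf, hG, hL⟩ := Groth.Agent.R2.H97.GradedFree.exists_hom_family ℳ p
  obtain ⟨r₁, hr₁, hgen⟩ :=
    Groth.Agent.R2.H97.GradedFree.exists_uniform_generation ℳ p d f hf hG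
  obtain ⟨s, hs, hrel⟩ :=
    Groth.Agent.R2.H97.GradedFree.exists_uniform_relations p f hL r₁ hgen
  refine ⟨s * r₁, ?_, m, d, f, hf, ?_, ?_⟩
  · intro h
    rcases p.isPrime.mem_or_mem h with h | h
    · exact hs h
    · exact hr₁ h
  · intro q
    have h1 : (s * r₁) • q ∈ Submodule.span (MvPolynomial (Fin n) R) (Set.range f) := by
      rw [mul_smul, ← Groth.Agent.R2.H97.GradedFree.C_smul (n := n)]
      exact Submodule.smul_mem _ _ (hgen q)
    rw [← Fintype.range_linearCombination, LinearMap.mem_range] at h1
    obtain ⟨c, hc⟩ := h1
    refine ⟨1, c, ?_⟩
    rw [pow_one, Groth.Agent.R2.H97.GradedFree.C_smul, ← hc]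
    rfl
  · intro c hc
    exact hrel c hc

end Groth.Agent.S19649
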