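import Groth.Statements.S1967
import Groth.Agent.R2.H3IntClosedB

set_option autoImplicit false
universe u
open TensorProduct
open EtAlg

namespace Groth.Agent.S1967

/-- If A is an integrally closed domain with fraction field K and B is weakly etale over A, then every
element of B ⊗_A K that is integral over B (via b ↦ b ⊗ 1) already comes from B. -/
theorem result (A : Type u) [CommRing A] [IsDomain A] [IsIntegrallyClosed A]
    (K : Type u) [Field K] [Algebra A K] [IsFractionRing A K] (B : Type u) [CommRing B] [Algebra A B]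
    [Algebra.WeaklyEtale A B] :
    IsIntegrallyClosedIn B (B ⊗[A] K) := by
  rw [isIntegrallyClosedIn_iff]
  refine ⟨Algebra.TensorProduct.includeLeft_injective (S := B)
    (IsFractionRing.injective A K), ?_⟩
  intro x hx
  obtain ⟨p, hp, hpx⟩ := hx
  let e : B ⊗[A] K ≃ₐ[A] K ⊗[A] B := Algebra.TensorProduct.comm A B K
  have hint : (Algebra.TensorProduct.includeRight : B →ₐ[A] K ⊗[A] B).toRingHom.IsIntegralElem
      (e x) := by
    refine ⟨p, hp, ?_⟩
    have e1 : (Algebra.TensorProduct.includeRight : B →ₐ[A] K ⊗[A] B).toRingHom =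
        (e : B ⊗[A] K →+* K ⊗[A] B).comp (algebraMap B (B ⊗[A] K)) := by
      ext b
      simp [e, Algebra.TensorProduct.algebraMap_apply]
    rw [e1]
    have := Polynomial.hom_eval₂ p (algebraMap B (B ⊗[A] K)) (e : B ⊗[A] K →+* K ⊗[A] B) x
    rw [hpx, map_zero] at this
    exact this.symm
  obtain ⟨b, hb⟩ := Groth.Agent.R2.H3.IntClosedB.exists_of_isIntegralElem A K B (e x) hint
  refine ⟨b, ?_⟩
  apply e.injective
  rw [← hb]
  simp [e, Algebra.TensorProduct.algebraMap_apply]

end Groth.Agent.S1967
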