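import Groth.Statements.S19683
import Groth.Agent.R2.H97Biext

set_option autoImplicit false
universe u
open CategoryTheory CategoryTheory.Limits MonoidalCategory CartesianMonoidalCategory MonObj AlgebraicGeometry
open AbSch

namespace Groth.Agent.S19683

open Groth.Agent.R2.H97.Biext Opposite

section Aux

variable {C : Type (u + 1)} [Category.{u} C] {J : GrothendieckTopology C}

theorem zsmul_id_app (P : Sheaf J AddCommGrpCat.{u + 1}) (k : ℤ) (T : C) (p : P.obj.obj (op T)) :
    (k • 𝟙 P).hom.app (op T) p = k • p := by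
  let ev : (P ⟶ P) →+ (P.obj.obj (op T) →+ P.obj.obj (op T)) :=
    AddMonoidHom.mk' (fun f => (f.hom.app (op T)).hom) (fun f g => rfl)
  have h1 : ev (k • 𝟙 P) = k • ev (𝟙 P) := map_zsmul ev k (𝟙 P)
  have h2 : ev (𝟙 P) = AddMonoidHom.id _ := rfl
  have h3 : (k • 𝟙 P).hom.app (op T) p = ev (k • 𝟙 P) p := rfl
  rw [h3, h1, h2]
  rfl

theorem locDiv_of_epi (P : Sheaf J AddCommGrpCat.{u + 1}) (k : ℤ) (h : Epi (k • 𝟙 P)) : LocDiv P k := by
  have hls : Sheaf.IsLocallySurjective (k • 𝟙 P) := by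
    rw [Sheaf.isLocallySurjective_iff_epi']
    exact h
  intro T s
  have hmem := Presheaf.imageSieve_mem J (k • 𝟙 P).hom (U := op T) s
  refine ⟨_, hmem, fun T' f hf => ?_⟩
  obtain ⟨t, ht⟩ := hf
  refine ⟨t, ?_⟩
  rw [← zsmul_id_app P k T' t]
  exact ht

end Aux

/-- Let S be a scheme, P, Q and G commutative S-group schemes with P and Q divisible (multiplication by
every non-zero integer is an epimorphism of their sheaves of points on the big fppf site), and n, m
non-zero integers. Then the pull-back map on isomorphism classes of biextensions of (P, Q) by G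
along (n, m) : P × Q → P × Q has trivial kernel: if B is a biextension of (P, Q) by G on the big
fppf site of all S-schemes, B' a biextension of (P, Q) by G with a morphism of biextensions B' → B
lying over multiplication by n on P, multiplication by m on Q and the identity of G (so that B' is
the inverse image of B by (n, m)), and B' is trivial, then B is trivial. -/
theorem result {S : Scheme.{u}} (P Q G : Over S)
    [GrpObj P] [IsCommMonObj P] [GrpObj Q] [IsCommMonObj Q] [GrpObj G] [IsCommMonObj G]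
    (hP : ∀ k : ℤ, k ≠ 0 → Epi (k • 𝟙 (CGrpSh.pts Scheme.fppfPrecoverage P)))
    (hQ : ∀ k : ℤ, k ≠ 0 → Epi (k • 𝟙 (CGrpSh.pts Scheme.fppfPrecoverage Q)))
    (n m : ℤ) (hn : n ≠ 0) (hm : m ≠ 0)
    (B B' : Biext (QuotSh.J Scheme.fppfPrecoverage S) (CGrpSh.pts Scheme.fppfPrecoverage P) (CGrpSh.pts Scheme.fppfPrecoverage Q) (CGrpSh.pts Scheme.fppfPrecoverage G))
    (φ : Biext.HomOver (QuotSh.J Scheme.fppfPrecoverage S) (n • 𝟙 (CGrpSh.pts Scheme.fppfPrecoverage P)) (m • 𝟙 (CGrpSh.pts Scheme.fppfPrecoverage Q)) (𝟙 (CGrpSh.pts Scheme.fppfPrecoverage G)) B' B)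
    (hB' : Biext.IsTrivial (QuotSh.J Scheme.fppfPrecoverage S) B') :
    Biext.IsTrivial (QuotSh.J Scheme.fppfPrecoverage S) B := by
  obtain ⟨σ'⟩ := hB'
  exact ⟨splittingOfHomOver φ σ' n m
    (fun T p => zsmul_id_app _ n T p) (fun T q => zsmul_id_app _ m T q)
    (locDiv_of_epi _ n (hP n hn)) (locDiv_of_epi _ m (hQ m hm))
    (locDiv_of_epi _ n (hQ n hn)) (locDiv_of_epi _ m (hP m hm))⟩

end Groth.Agent.S19683
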