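import Groth.Statements.S19741
import Mathlib

set_option autoImplicit false
universe w u
open EssDim

namespace Groth.Agent.S19741

open Cardinal

open IntermediateField IntermediateField.algebraAdjoinAdjoin in
theorem trdeg_adjoin_le (K L : Type u) [Field K] [Field L] [Algebra K L] (sL : Set L) :
    Algebra.trdeg K (IntermediateField.adjoin K sL) ≤ #sL := by
  have h1 := trdeg_add_eq K (Algebra.adjoin K sL) (A := IntermediateField.adjoin K sL)
  rw [trdeg_eq_zero (R := Algebra.adjoin K sL), add_zero] at h1
  rw [← h1]
  have h2 : Algebra.adjoin K sL = (MvPolynomial.aeval ((↑) : sL → L)).range := by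
    rw [Algebra.adjoin_eq_range]
  let f : MvPolynomial sL K →ₐ[K] Algebra.adjoin K sL :=
    (MvPolynomial.aeval ((↑) : sL → L)).codRestrict _ (fun p => by rw [h2]; exact ⟨p, rfl⟩)
  have hf : Function.Surjective f := by
    rintro ⟨y, hy⟩
    rw [h2] at hy
    obtain ⟨p, rfl⟩ := hy
    exact ⟨p, rfl⟩
  have h3 := trdeg_le_of_surjective f hf
  rw [MvPolynomial.trdeg_of_isDomain, lift_id] at h3
  exact h3

open IntermediateField in
/-- Given `k ⊆ K ⊆ L` and an intermediate field `E` of `L/k`, there is an intermediate field `E'` of `L/K`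
containing `E` with `trdeg_K E' ≤ trdeg_k E` (the algebraic closure in `L` of `K(s)`, `s` a transcendence
basis of `E/k`). -/
theorem field_lemma (k K L : Type u) [Field k] [Field K] [Field L] [Algebra k K] [Algebra K L] [Algebra k L]
    [IsScalarTower k K L] (E : IntermediateField k L) :
    ∃ E' : IntermediateField K L, (∀ x ∈ E, x ∈ E') ∧ Algebra.trdeg K E' ≤ Algebra.trdeg k E := by
  classical
  obtain ⟨s, hs⟩ := exists_isTranscendenceBasis k E
  have hcard := hs.cardinalMk_eq_trdeg
  have halg := hs.isAlgebraic
  let sL : Set L := (fun x : E => (x : L)) '' s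
  let F₀ : IntermediateField K L := IntermediateField.adjoin K sL
  let X : IntermediateField F₀ L := algebraicClosure F₀ L
  refine ⟨X.restrictScalars K, ?_, ?_⟩
  · intro x hx
    change x ∈ X
    rw [mem_algebraicClosure_iff]
    have hxalg : IsAlgebraic (Algebra.adjoin k (Set.range ((↑) : s → E))) (⟨x, hx⟩ : E) :=
      halg.isAlgebraic _
    have hmem : ∀ y : Algebra.adjoin k (Set.range ((↑) : s → E)), ((y : E) : L) ∈ F₀ := by
      rintro ⟨y, hy⟩
      induction hy using Algebra.adjoin_induction with
      | mem y hy =>
        obtain ⟨z, rfl⟩ := hy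
        exact IntermediateField.subset_adjoin K sL ⟨z, z.2, rfl⟩
      | algebraMap r =>
        change algebraMap k L r ∈ F₀
        rw [IsScalarTower.algebraMap_apply k K L]
        exact F₀.algebraMap_mem _
      | add y z _ _ hy hz => exact F₀.add_mem hy hz
      | mul y z _ _ hy hz => exact F₀.mul_mem hy hz
    let f : Algebra.adjoin k (Set.range ((↑) : s → E)) →+* F₀ :=
      RingHom.codRestrict ((algebraMap E L).comp (algebraMap _ E)) F₀.toSubfield.toSubring
        (fun y => hmem y)
    have hf : Function.Injective f := by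
      intro a b hab
      have : ((a : E) : L) = ((b : E) : L) := congrArg (fun t : F₀ => (t : L)) hab
      exact Subtype.ext (Subtype.ext this)
    have := hxalg.ringHom_of_comp_eq f (algebraMap E L) hf (by ext y; rfl)
    exact this
  · have e : ↥(X.restrictScalars K) ≃ₐ[K] ↥X :=
      { toFun := fun x => ⟨x.1, x.2⟩
        invFun := fun x => ⟨x.1, x.2⟩
        left_inv := fun _ => rfl
        right_inv := fun _ => rfl
        map_mul' := fun _ _ => rfl
        map_add' := fun _ _ => rfl
        commutes' := fun _ => rfl }
    rw [e.trdeg_eq]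
    have : FaithfulSMul F₀ X :=
      (faithfulSMul_iff_algebraMap_injective F₀ X).mpr (algebraMap F₀ X).injective
    have : FaithfulSMul K F₀ :=
      (faithfulSMul_iff_algebraMap_injective K F₀).mpr (algebraMap K F₀).injective
    have h1 := trdeg_add_eq K F₀ (A := X)
    rw [trdeg_eq_zero (R := F₀), add_zero] at h1
    rw [← h1, ← hcard]
    exact (trdeg_adjoin_le K L sL).trans Cardinal.mk_image_le

open CategoryTheory AlgebraicGeometry Opposite

section

variable (k : Type u) [Field k] (K : Type u) [Field K] [Algebra k K]

/-- `Spec K ⟶ Spec k`. -/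
noncomputable abbrev sig : Spec (CommRingCat.of K) ⟶ Spec (CommRingCat.of k) :=
  Spec.map (CommRingCat.ofHom (algebraMap k K))

variable {k K}

/-- `Spec F` over `Spec K`, viewed over `Spec k`, is `Spec F` over `Spec k`. -/
noncomputable def cmp (F : Type u) [Field F] [Algebra K F] [Algebra k F] [IsScalarTower k K F] :
    (Over.map (sig k K)).obj (SGA7.pt (K := K) F) ≅ SGA7.pt (K := k) F :=
  Over.isoMk (Iso.refl _) (by
    change 𝟙 _ ≫ Spec.map _ = Spec.map _ ≫ Spec.map _
    rw [Category.id_comp, ← Spec.map_comp, ← CommRingCat.ofHom_comp,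
      IsScalarTower.algebraMap_eq k K F])

theorem key (P : (Over (Spec (CommRingCat.of k)))ᵒᵖ ⥤ Type w)
    (L : Type u) [Field L] [Algebra K L] [Algebra k L] [IsScalarTower k K L]
    (ξ : FPt (k := K) ((Over.map (sig k K)).op ⋙ P) L) :
    (edAt (k := K) ((Over.map (sig k K)).op ⋙ P) ξ : WithBot ℕ∞) ≤ EssDim.ed P := by
  -- transport ξ to an element of `F(L)` for `P`
  let ξ' : FPt P L := P.map (cmp (k := k) (K := K) L).inv.op ξ
  -- a field of definition `E` realizing the minimum
  have : Nonempty {E : IntermediateField k L // Descends P ξ' E} := ⟨⟨⊤, descends_top ξ'⟩⟩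
  obtain ⟨⟨E, hE⟩, hmin⟩ := ENat.exists_eq_iInf
    (fun E : {E : IntermediateField k L // Descends P ξ' E} => Cardinal.toENat (Algebra.trdeg k E.1))
  obtain ⟨E', hEE', htr⟩ := field_lemma k K L E
  obtain ⟨ξ₀, hξ₀⟩ := hE
  -- the ring hom E → E'
  let j : E →+* E' := RingHom.codRestrict (algebraMap E L) E'.toSubfield.toSubring
    (fun x => hEE' x.1 x.2)
  let a : (Over.map (sig k K)).obj (SGA7.pt (K := K) E') ⟶ SGA7.pt (K := k) E :=
    Over.homMk (Spec.map (CommRingCat.ofHom j)) (by
      change Spec.map _ ≫ Spec.map _ = Spec.map _ ≫ Spec.map _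
      rw [← Spec.map_comp, ← Spec.map_comp, ← CommRingCat.ofHom_comp, ← CommRingCat.ofHom_comp]
      congr 2
      ext x
      change algebraMap k L x = algebraMap K L (algebraMap k K x)
      rw [← IsScalarTower.algebraMap_apply k K L])
  have hcomm : (Over.map (sig k K)).map (resPt (k := K) E'.val) ≫ a =
      (cmp (k := k) (K := K) L).hom ≫ resPt (k := k) E.val := by
    ext : 1
    change Spec.map _ ≫ Spec.map _ = 𝟙 _ ≫ Spec.map _
    rw [Category.id_comp, ← Spec.map_comp, ← CommRingCat.ofHom_comp]
    rfl
  have hdesc : Descends (k := K) ((Over.map (sig k K)).op ⋙ P) ξ E' := by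
    refine ⟨P.map a.op ξ₀, ?_⟩
    change P.map ((Over.map (sig k K)).map (resPt (k := K) E'.val)).op (P.map a.op ξ₀) = ξ
    have h1 : P.map ((Over.map (sig k K)).map (resPt (k := K) E'.val)).op (P.map a.op ξ₀) =
        P.map ((Over.map (sig k K)).map (resPt (k := K) E'.val) ≫ a).op ξ₀ := by
      rw [op_comp, P.map_comp]; rfl
    rw [h1, hcomm, op_comp, P.map_comp]
    change P.map (cmp (k := k) (K := K) L).hom.op (fmap E.val ξ₀) = ξ
    rw [hξ₀]
    change (P.map (cmp (k := k) (K := K) L).inv.op ≫ P.map (cmp (k := k) (K := K) L).hom.op) ξ = ξ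
    rw [← P.map_comp, ← op_comp, Iso.hom_inv_id, op_id, P.map_id]
    rfl
  have h2 : edAt (k := K) ((Over.map (sig k K)).op ⋙ P) ξ ≤ edAt P ξ' := by
    refine (edAt_le_of_descends hdesc).trans ?_
    refine le_trans ?_ (le_of_eq hmin)
    exact Cardinal.toENat.monotone' htr
  exact (WithBot.coe_le_coe.mpr h2).trans (edAt_le_ed ξ')

end

open CategoryTheory AlgebraicGeometry in
/-- For a field extension `K` of `k` and a presheaf of sets `P` on schemes over `k`, restrict `P` to
schemes over `K` by viewing a scheme over `Spec K` as a scheme over `Spec k`; then the essential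
dimension over `K` of the restricted presheaf is at most the essential dimension of `P` over `k`.
(The source states this for an algebraic stack over `k` and its base change to `K`, through the
presheaf of isomorphism classes of objects, whose restriction to schemes over `K` is the presheaf of
classes of the base-changed stack; the inequality is stated here for an arbitrary presheaf, which is
what the argument with composita of fields of definition gives.) -/
theorem result (k : Type u) [Field k] (K : Type u) [Field K] [Algebra k K]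
    (P : (Over (Spec (CommRingCat.of k)))ᵒᵖ ⥤ Type w) :
    EssDim.ed (k := K) ((Over.map (Spec.map (CommRingCat.ofHom (algebraMap k K)))).op ⋙ P) ≤ EssDim.ed P := by
  unfold EssDim.ed
  refine iSup_le fun L => iSup_le fun _ => iSup_le fun _ => iSup_le fun ξ => ?_
  let _ : Algebra k L := ((algebraMap K L).comp (algebraMap k K)).toAlgebra
  have : IsScalarTower k K L := IsScalarTower.of_algebraMap_eq (fun _ => rfl)
  exact key P L ξ

end Groth.Agent.S19741
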