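import Groth.Statements.S19767
import Groth.Agent.Lib.Helper20ParaF6
import Groth.Agent.Lib.Helper23RestrTensor
import Groth.Agent.Lib.Helper23TensorUnit
import Groth.Agent.Lib.Helper23PB

set_option autoImplicit false
universe u
open CategoryTheory MonoidalCategory CartesianMonoidalCategory MonObj GrpObj AlgebraicGeometry
open AbVar

namespace Groth.Agent.S19767

/-- invertible modules on the spectrum of a field are trivial -/
theorem trivial_of_field (k : Type u) [Field k] (N : (Spec (CommRingCat.of k)).Modules)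
    (hN : PicF.IsInvertible N) : Nonempty (N ≅ Coh.structureModule (Spec (CommRingCat.of k))) := by
  have y : Spec (CommRingCat.of k) := (default : PrimeSpectrum k)
  obtain ⟨W, hyW, hW⟩ := Groth.Agent.Lib.Helper20.ParaFLib.exists_triv N hN y
  have hWtop : W = ⊤ := by
    ext z
    have hz : z = y := (inferInstance : Subsingleton (PrimeSpectrum k)).elim z y
    simp only [hz, hyW, SetLike.mem_coe, TopologicalSpace.Opens.coe_top, Set.mem_univ]
  exact Groth.Agent.Lib.Helper20.ParaFLib.nonempty_iso_of_triv_top N (hW.of_eq hWtop)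

/-- composite of inverse images along a commuting triangle -/
noncomputable def pbComp {Y Z W : Scheme.{u}} (f : Y ⟶ Z) (g : Z ⟶ W) (h : Y ⟶ W) (e : f ≫ g = h)
    (L : W.Modules) :
    (Scheme.Modules.pullback f).obj ((Scheme.Modules.pullback g).obj L) ≅
      (Scheme.Modules.pullback h).obj L :=
  (Scheme.Modules.pullbackComp f g).app L ≪≫ (Scheme.Modules.pullbackCongr e).app L

/-- Let X be an abelian variety over a field k (a proper, geometrically integral k-group scheme), L an
invertible O_X-module, T a k-scheme, x : T → X a T-valued point with translation t_x : X_T → X_T,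
and L_T the inverse image of L on X_T = X ×_k T. If an O_T-module M satisfies L_T ⊗ pr_T^*M ≅
t_x^*L_T (that is, t_x^*L_T ⊗ L_T⁻¹ ≅ pr_T^*M), then M ≅ x^*L (existence of an isomorphism). (The
published statement takes M invertible; invertibility is not needed.) -/
theorem result (k : Type u) [Field k] (X : Over (Spec (CommRingCat.of k)))
    [GrpObj X] [IsProper X.hom] [GeometricallyIntegral X.hom] (L : X.left.Modules) (hL : PicF.IsInvertible L)
    (T : Over (Spec (CommRingCat.of k))) (x : T ⟶ X) (M : T.left.Modules)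
    (h : Nonempty (CohB1.tensorMod ((Scheme.Modules.pullback (fst X T).left).obj L)
          ((Scheme.Modules.pullback (snd X T).left).obj M) ≅
        (Scheme.Modules.pullback (ThetaGrp.transl X x ≫ fst X T).left).obj L)) :
    Nonempty (M ≅ (Scheme.Modules.pullback x.left).obj L) := by
  obtain ⟨φ⟩ := h
  let s : T ⟶ X ⊗ T := lift (toUnit T ≫ η[X]) (𝟙 T)
  have hs1 : s ≫ fst X T = toUnit T ≫ η[X] := lift_fst _ _
  have hs2 : s ≫ snd X T = 𝟙 T := lift_snd _ _
  have hs3 : s ≫ ThetaGrp.transl X x ≫ fst X T = x := by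
    rw [ThetaGrp.transl_fst, MonObj.comp_mul, ← Category.assoc, hs1, hs2, Category.id_comp,
      ← Hom.one_def, _root_.one_mul]
  -- the module `e^* L` on `Spec k` is trivial
  have hηL : PicF.IsInvertible ((Scheme.Modules.pullback (η[X] : 𝟙_ _ ⟶ X).left).obj L) :=
    Groth.Agent.Lib.Helper23.PB.isInvertible_pullback _ L hL
  obtain ⟨τ⟩ := trivial_of_field k _ hηL
  -- `s^* fst^* L ≅ O_T`
  have e1 : (Scheme.Modules.pullback s.left).obj ((Scheme.Modules.pullback (fst X T).left).obj L) ≅
      Coh.structureModule T.left :=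
    pbComp s.left (fst X T).left (toUnit T ≫ η[X]).left (congrArg (fun f => f.left) hs1) L ≪≫
      (pbComp (toUnit T).left (η[X] : 𝟙_ _ ⟶ X).left (toUnit T ≫ η[X]).left rfl L).symm ≪≫
      (Scheme.Modules.pullback (toUnit T).left).mapIso τ ≪≫
      Groth.Agent.Lib.Helper23.PB.pullbackUnitIso (toUnit T).left
  -- `s^* snd^* M ≅ M`
  have e2 : (Scheme.Modules.pullback s.left).obj ((Scheme.Modules.pullback (snd X T).left).obj M) ≅ M :=
    pbComp s.left (snd X T).left (𝟙 T.left) (congrArg (fun f => f.left) hs2) M ≪≫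
      (Scheme.Modules.pullbackId T.left).app M
  -- `s^* (t_x ≫ fst)^* L ≅ x^* L`
  have e3 : (Scheme.Modules.pullback s.left).obj
      ((Scheme.Modules.pullback (ThetaGrp.transl X x ≫ fst X T).left).obj L) ≅
      (Scheme.Modules.pullback x.left).obj L :=
    pbComp s.left (ThetaGrp.transl X x ≫ fst X T).left x.left (congrArg (fun f => f.left) hs3) L
  exact ⟨(Groth.Agent.Lib.Helper23.TensorUnit.unitTensorIso M).symm ≪≫
    PicGrp.tensorModIso e1.symm e2.symm ≪≫
    (Groth.Agent.Lib.Helper23.RestrTensor.pullbackTensorIso _ _ s.left).symm ≪≫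
    (Scheme.Modules.pullback s.left).mapIso φ ≪≫ e3⟩

end Groth.Agent.S19767
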