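import Groth.Statements.S19770
import Groth.Agent.R2.H98KL2

set_option autoImplicit false
universe u
open CategoryTheory MonoidalCategory CartesianMonoidalCategory MonObj GrpObj AlgebraicGeometry
open AbVar

namespace Groth.Agent.S19770

/-- Let X be an abelian variety over a field k (a proper, geometrically integral k-group scheme), L an
invertible O_X-module, i : K → X a closed immersion exhibiting K as K(L) (the maximal closed
subscheme over which the Mumford bundle m^*L ⊗ p_1^*L⁻¹ ⊗ p_2^*L⁻¹, restricted to X ×_k K, is the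
inverse image of an invertible module on K, with its universal property), and B a k-group scheme
with a homomorphism j : B → X that factors through i. Write M = j^*L. Then M ⊗ [-1]^*M ≅ O_B, where
[-1] : B → B is the inversion (existence of an isomorphism). (The published statement assumes k
algebraically closed and takes for B the reduced identity component of K(L), an abelian subvariety;
the argument — restrict the Mumford bundle to B × B and pull back along (1, -1) — applies to any
group scheme over k mapping homomorphically into K(L).) -/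
theorem result (k : Type u) [Field k] (X : Over (Spec (CommRingCat.of k)))
    [GrpObj X] [IsProper X.hom] [GeometricallyIntegral X.hom] (L : X.left.Modules) (hL : PicF.IsInvertible L)
    (K : Over (Spec (CommRingCat.of k))) (i : K ⟶ X) (hK : ThetaGrp.IsKL X L i)
    (B : Over (Spec (CommRingCat.of k))) [GrpObj B] (j : B ⟶ X) [IsMonHom j] (hj : ∃ y : B ⟶ K, y ≫ i = j) :
    Nonempty (CohB1.tensorMod ((Scheme.Modules.pullback j.left).obj L)
        ((Scheme.Modules.pullback ((𝟙 B)⁻¹ ≫ j).left).obj L) ≅ Coh.structureModule B.left) := by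
  open Groth.Agent.R2.H98.KL2 in
  have hΘ := lambda_trivial L hL i hK
  obtain ⟨y, hy⟩ := hj
  obtain ⟨sq⟩ := Groth.Agent.R2.H98.KL2.square L i hΘ ((𝟙 B)⁻¹ ≫ j) y
  obtain ⟨τ⟩ := Groth.Agent.R2.H98.KL2.one_pullback_trivial L hL B
  have hw : ((𝟙 B)⁻¹ ≫ j) * (y ≫ i) = 1 := by
    rw [hy, GrpObj.inv_comp, Category.id_comp, _root_.inv_mul_cancel]
  obtain ⟨c⟩ := Groth.Agent.Lib.Helper23.SecTw.nonempty_tensorMod_comm_iso
    ((Scheme.Modules.pullback j.left).obj L) ((Scheme.Modules.pullback ((𝟙 B)⁻¹ ≫ j).left).obj L)
    (Groth.Agent.Lib.Helper23.PB.isInvertible_pullback _ L hL)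
    (Groth.Agent.Lib.Helper23.PB.isInvertible_pullback _ L hL)
  exact ⟨c ≪≫ PicGrp.tensorModIso (Iso.refl _) (Groth.Agent.R2.H98.KL2.pbEq hy.symm L) ≪≫ sq ≪≫
    Groth.Agent.R2.H98.KL2.pbEq hw L ≪≫ τ⟩

end Groth.Agent.S19770
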