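import Groth.Statements.S1988
-- import your own Groth.Agent.* helpers here
import Groth.Agent.R2.H10EtRamC
import Groth.Agent.R2.H10EtRamD

set_option autoImplicit false
universe u
open EtAlg

namespace Groth.Agent.S1988

open Groth.Agent.R2.H10 in
/-- Let A -> B -> C be extensions of discrete valuation rings (local injective maps) with fraction
fields K ⊂ L ⊂ M₀ and K₁/K a finite extension. (The solution predicates mention only B, C and the
fields: in them the bottom ring is recovered as B ∩ K, which the hypotheses on A force to be A.) If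
K₁ is a weak solution (resp. a solution) for A -> C then it is a weak solution (resp. a solution)
for A -> B. -/
theorem result (A B C K L M₀ K₁ : Type u) [CommRing A] [IsDomain A] [IsDiscreteValuationRing A]
    [CommRing B] [IsDomain B] [IsDiscreteValuationRing B] [Algebra A B] [IsLocalHom (algebraMap A B)]
    (hinjA : Function.Injective (algebraMap A B))
    [CommRing C] [IsDomain C] [IsDiscreteValuationRing C] [Algebra B C] [IsLocalHom (algebraMap B C)]
    (hinj : Function.Injective (algebraMap B C))
    [Field K] [Field L] [Field M₀] [Field K₁] [Algebra K L] [Algebra K M₀] [Algebra L M₀] [IsScalarTower K L M₀]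
    [Algebra K K₁] [FiniteDimensional K K₁] [Algebra A K] [IsFractionRing A K]
    [Algebra B L] [IsFractionRing B L] [Algebra A L] [IsScalarTower A K L] [IsScalarTower A B L]
    [Algebra C M₀] [IsFractionRing C M₀] [Algebra B M₀]
    [IsScalarTower B C M₀] [IsScalarTower B L M₀] :
    (EtRam.IsWeakSolution C K M₀ K₁ → EtRam.IsWeakSolution B K L K₁) ∧
    (EtRam.IsSolution C K M₀ K₁ → EtRam.IsSolution B K L K₁) := by
  -- common construction
  have key : ∀ (P : ∀ (M : Type u) [Field M], ValuationSubring M → (K₁ →+* M) → Prop),
      (∀ (M M' : Type u) [Field M] [Field M'] (f : K₁ →+* M) (j : M →+* M')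
        (W' : ValuationSubring M'), P M' W' (j.comp f) → P M (W'.comap j) f) →
      EtRam.ForallLocalExt C K M₀ K₁ P → EtRam.ForallLocalExt B K L K₁ P := by
    intro P hP hC M _ _ _ _ _ _ hadj W hW
    obtain ⟨M', _, ι, j, W', hcompat, rfl, hdom, hgen⟩ :=
      EtRamC.exists_compositum B C L M₀ M hinj W hW
    letI iM₀ : Algebra M₀ M' := ι.toAlgebra
    letI iK : Algebra K M' := (ι.comp (algebraMap K M₀)).toAlgebra
    letI iK₁ : Algebra K₁ M' := (j.comp (algebraMap K₁ M)).toAlgebra
    haveI t1 : IsScalarTower K M₀ M' := IsScalarTower.of_algebraMap_eq (fun _ => rfl)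
    haveI t2 : IsScalarTower K K₁ M' := by
      refine IsScalarTower.of_algebraMap_eq (fun k => ?_)
      show ι (algebraMap K M₀ k) = j (algebraMap K₁ M (algebraMap K K₁ k))
      rw [← IsScalarTower.algebraMap_apply K K₁ M, IsScalarTower.algebraMap_apply K L M,
        IsScalarTower.algebraMap_apply K L M₀]
      exact congrArg (fun φ : L →+* M' => φ (algebraMap K L k)) hcompat
    have hadj' : Algebra.adjoin M₀ (Set.range (algebraMap K₁ M')) = ⊤ := by
      haveI : Algebra.IsIntegral M₀ (Algebra.adjoin M₀ (Set.range (algebraMap K₁ M'))) := by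
        apply Algebra.IsIntegral.adjoin
        rintro _ ⟨k₁, rfl⟩
        have h1 : IsIntegral K k₁ := Algebra.IsIntegral.isIntegral k₁
        have h2 : IsIntegral K (algebraMap K₁ M' k₁) := h1.algebraMap
        exact h2.tower_top
      have hS := hgen (Algebra.adjoin M₀ (Set.range (algebraMap K₁ M'))).toSubring
        (fun x => Subalgebra.algebraMap_mem _ x) ?_ ?_
      · rw [eq_top_iff]
        intro z _
        have : z ∈ (Algebra.adjoin M₀ (Set.range (algebraMap K₁ M'))).toSubring := by
          rw [hS]; trivial
        exact this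
      · intro y
        have hy : y ∈ Algebra.adjoin L (Set.range (algebraMap K₁ M)) := by rw [hadj]; trivial
        induction hy using Algebra.adjoin_induction with
        | mem y hy =>
          obtain ⟨k₁, rfl⟩ := hy
          exact Algebra.subset_adjoin ⟨k₁, rfl⟩
        | algebraMap l =>
          have : j (algebraMap L M l) = ι (algebraMap L M₀ l) :=
            (congrArg (fun φ : L →+* M' => φ l) hcompat).symm
          rw [this]
          exact Subalgebra.algebraMap_mem _ (algebraMap L M₀ l)
        | add y z _ _ hy hz => rw [map_add]; exact Subalgebra.add_mem _ hy hz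
        | mul y z _ _ hy hz => rw [map_mul]; exact Subalgebra.mul_mem _ hy hz
      · intro s hs
        have hs' : s ∈ Algebra.adjoin M₀ (Set.range (algebraMap K₁ M')) := hs
        have halg : IsAlgebraic M₀ s :=
          ((Subalgebra.isIntegral_iff _).mp inferInstance s hs').isAlgebraic
        exact Subalgebra.inv_mem_of_algebraic _ (x := ⟨s, hs'⟩) halg
    have h1 := @hC M' _ iK iM₀ iK₁ t1 t2 hadj' W' hdom
    exact hP M M' (algebraMap K₁ M) j W' h1
  constructor
  · intro h
    refine key _ ?_ h
    intro M M' _ _ f j W' hW'
    exact EtRamD.weaklyUnramified_comap f j W' hW'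
  · intro h
    refine key _ ?_ h
    intro M M' _ _ f j W' hW'
    exact ⟨EtRamD.weaklyUnramified_comap f j W' hW'.1, EtRamD.geomReduced_comap f j W' hW'.2⟩

end Groth.Agent.S1988
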