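import Groth.Statements.S19914
import Groth.Agent.Lib.Helper15Atlas

set_option autoImplicit false
set_option backward.isDefEq.respectTransparency false
set_option backward.isDefEq.respectTransparency.types false
open CategoryTheory AlgebraicGeometry
universe u
open AlgSt

namespace Groth.Agent.S19914

open Groth.Agent.Lib.Helper17 Groth.Agent.Lib.Helper15PshFib Groth.Agent.Lib.Helper15RepComp
  Groth.Agent.Lib.Helper15RepPsh Groth.Agent.Lib.Helper15DiagBase Groth.Agent.Lib.Helper15DiagRepSp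
  Groth.Agent.Lib.Helper15Descent Groth.Agent.Lib.Helper15DiagLft
  Groth.Agent.Lib.Helper15DiagDescent Groth.Agent.Lib.Helper15SpMapRep
  Groth.Agent.Lib.Helper15SrcCancel Groth.Agent.Lib.Helper15ChartSp Groth.Agent.Lib.Helper15Atlas

/-- A category fibred in groupoids with a functor representable by algebraic spaces to a category
fibred in groupoids with a smooth surjective chart has a smooth surjective chart (no topology is
involved). -/
theorem hasAtlas_of_repByAlgSp1 {S : Scheme.{u}} {𝒳 𝒴 : AlgSt.Cat S} (h𝒳 : FibCat.IsFibGrpd 𝒳.p)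
    (h𝒴 : FibCat.IsFibGrpd 𝒴.p) (hat : AlgSt.HasAtlas (AlgSp.LocP @Smooth) 𝒴)
    (j : 𝒳 ⥤ᵇ 𝒴) (hj : AlgSt.RepByAlgSp1 j) : AlgSt.HasAtlas (AlgSp.LocP @Smooth) 𝒳 := by
  obtain ⟨V, y, hy₁, hy₂⟩ := hat
  have hV : FibCat.IsFibGrpd (FibCat.overCat V).p := (isFibSet_overForget V).1
  have hA : AlgSt.RepByAlgSp (FibCat.fp y j) := hj V y
  have hAt : AlgSt.HasAtlas (AlgSp.LocP @Smooth) (FibCat.fp y j) :=
    hasAtlas_of_repByAlgSp _ locP_smooth_of_etale_surjective hA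
  exact hasAtlas_of_cover (isFibGrpd_fp y j hV h𝒳 h𝒴) (FibCat.fpSnd y j)
    (repByAlgSpWith_fpSnd _ y j hy₁) (repByAlgSpWith_fpSnd _ y j hy₂) hAt

/-- The 2-fibre product of algebraic stacks (for any topology) over a prestack with diagonal
representable by algebraic spaces is an algebraic stack. -/
theorem isAlgStack_fp_of_isPrestack_gen {S : Scheme.{u}} {𝒳 𝒴 𝒵 : AlgSt.Cat S}
    (K : Precoverage Scheme.{u})
    (h𝒵 : Stk.IsPrestack (QuotSh.J K S) 𝒵)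
    (hΔ : AlgSt.RepByAlgSp1 (FibCat.diag (FibCat.toSelf 𝒵)))
    (h𝒳 : AlgSt.IsAlgStack K 𝒳) (h𝒴 : AlgSt.IsAlgStack K 𝒴)
    (f : 𝒳 ⥤ᵇ 𝒵) (g : 𝒴 ⥤ᵇ 𝒵) :
    AlgSt.IsAlgStack K (FibCat.fp f g) := by
  refine ⟨Groth.Agent.S12792.result _ f g h𝒳.isStack h𝒴.isStack h𝒵,
    Groth.Agent.Lib.Helper15DiagOfComp.repByAlgSp1_diag_toSelf_fp h𝒳.isStack.1 h𝒴.isStack.1 h𝒵.1
      h𝒳.diag h𝒴.diag hΔ f g, ?_⟩
  obtain ⟨U, x, hx₁, hx₂⟩ := h𝒳.atlas
  have hU : FibCat.IsFibGrpd (FibCat.overCat U).p := (isFibSet_overForget U).1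
  let pr : FibCat.fp f g ⥤ᵇ 𝒳 := FibCat.fpFst f g
  have ha₁ := repByAlgSpWith_fpSnd (AlgSp.LocP @Smooth) x pr hx₁
  have ha₂ := repByAlgSpWith_fpSnd AlgSp.IsSurjectiveMor x pr hx₂
  have hxf : AlgSt.RepByAlgSp1 (BasedFunctor.comp x f) :=
    repByAlgSp1_of_repByAlgSp1_diag hΔ U (BasedFunctor.comp x f)
  have hsnd : AlgSt.RepByAlgSp1 (FibCat.fpSnd (BasedFunctor.comp x f) g) :=
    Groth.Agent.Lib.Helper17.RepStack.repByAlgSp1_fpSnd (BasedFunctor.comp x f) g hxf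
  have hBfib : FibCat.IsFibGrpd (FibCat.fp (BasedFunctor.comp x f) g).p :=
    isFibGrpd_fp _ g hU h𝒴.isStack.1 h𝒵.1
  have hBat : AlgSt.HasAtlas (AlgSp.LocP @Smooth) (FibCat.fp (BasedFunctor.comp x f) g) :=
    hasAtlas_of_repByAlgSp1 hBfib h𝒴.isStack.1 h𝒴.atlas _ hsnd
  have hfpfib : FibCat.IsFibGrpd (FibCat.fp f g).p :=
    isFibGrpd_fp f g h𝒳.isStack.1 h𝒴.isStack.1 h𝒵.1
  have hAfib : FibCat.IsFibGrpd (FibCat.fp x pr).p := isFibGrpd_fp x pr hU hfpfib h𝒳.isStack.1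
  obtain ⟨e', he', -, -⟩ := IsEquivOver.exists_inverse_isEquivOver' (pasteL g f x)
    (isEquivOver_pasteL g f x)
  have hAat : AlgSt.HasAtlas (AlgSp.LocP @Smooth) (FibCat.fp x pr) :=
    hasAtlas_of_isEquivOver _ e' he' hBat
  exact hasAtlas_of_cover hAfib (FibCat.fpSnd x pr) ha₁ ha₂ hAat

/-- Let S be a scheme and let 𝒳, 𝒴, 𝒵 be algebraic stacks over (Sch/S) for the etale topology (stacks in
groupoids for the big etale topology whose diagonal is representable by algebraic spaces, with a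
smooth surjective atlas from a scheme representable by algebraic spaces), with functors f : 𝒳 → 𝒵
and g : 𝒴 → 𝒵 over (Sch/S). Then the 2-fibre product 𝒳 ×_𝒵 𝒴 over (Sch/S) is an algebraic stack for
the etale topology. -/
theorem result (S : Scheme.{u}) (𝒳 𝒴 𝒵 : AlgSt.Cat S)
    (h𝒳 : AlgSt.IsAlgStack Scheme.etalePrecoverage 𝒳) (h𝒴 : AlgSt.IsAlgStack Scheme.etalePrecoverage 𝒴)
    (h𝒵 : AlgSt.IsAlgStack Scheme.etalePrecoverage 𝒵)
    (f : 𝒳 ⥤ᵇ 𝒵) (g : 𝒴 ⥤ᵇ 𝒵) :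
    AlgSt.IsAlgStack Scheme.etalePrecoverage (FibCat.fp f g) := by
  exact isAlgStack_fp_of_isPrestack_gen Scheme.etalePrecoverage
    (Groth.Agent.Lib.Helper17.IsStack.isPrestack _ h𝒵.isStack) h𝒵.diag h𝒳 h𝒴 f g

end Groth.Agent.S19914
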