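import Groth.Statements.S19945
import Groth.Agent.R2.H98Theta
import Groth.Agent.S19766

set_option autoImplicit false
universe u
open CategoryTheory MonoidalCategory CartesianMonoidalCategory MonObj GrpObj AlgebraicGeometry
open ThetaGrp

namespace Groth.Agent.S19945

/-- Let X be an abelian variety over a field k (a proper, geometrically integral, commutative k-group
scheme), L an invertible O_X-module and i : K → X a closed immersion exhibiting K as K(L), the
maximal closed subscheme of X over which the Mumford bundle m^*L ⊗ p_1^*L⁻¹ ⊗ p_2^*L⁻¹, restricted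
to X ×_k K, is the inverse image of an invertible module on K, with its universal property for
morphisms T → X. For a k-scheme T and a T-valued point x of X, the following are equivalent: x
factors through i; every point of T has an open neighbourhood U over which some point of the theta
group G(L)(U) lies over the restriction of x, that is, there is an isomorphism L_U ≅ t_x^*L_U of
modules on X ×_k U. In other words the map G(L) → X, (x, φ) ↦ x, has image the subfunctor K(L),
surjectively for the Zariski topology. -/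
theorem result (k : Type u) [Field k]
    (A : Over (Spec (CommRingCat.of k))) [GrpObj A] [IsCommMonObj A] [IsProper A.hom] [GeometricallyIntegral A.hom]
    (L : A.left.Modules) (hL : PicF.IsInvertible L)
    (K : Over (Spec (CommRingCat.of k))) (iK : K ⟶ A) (hK : ThetaGrp.IsKL A L iK)
    (T : Over (Spec (CommRingCat.of k))) (x : T ⟶ A) :
    (∃ y : T ⟶ K, y ≫ iK = x) ↔
      ∀ t : ↥T.left, ∃ U : T.left.Opens, t ∈ U ∧
        ∃ β : ThetaGrp.thetaPts A L (Over.mk (U.ι ≫ T.hom)),
          ThetaGrp.IsOverPt β ((Over.homMk U.ι rfl : Over.mk (U.ι ≫ T.hom) ⟶ T) ≫ x) := by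
  open Groth.Agent.R2.H98.KL Groth.Agent.R2.H98.KL2 Groth.Agent.R2.H98.Theta in
  constructor
  · rintro ⟨y, hy⟩ t
    have hx : PicF.IsInvertible (pb x L) := isInvertible_pb x L hL
    obtain ⟨U, htU, ⟨ε⟩⟩ := hx t
    refine ⟨U, htU, ?_⟩
    have hΘ := lambda_trivial L hL iK hK
    set TU : Over (Spec (CommRingCat.of k)) := Over.mk (U.ι ≫ T.hom) with hTU
    set j : TU ⟶ T := Over.homMk U.ι rfl with hj
    obtain ⟨sq⟩ := square L iK hΘ (fst A TU) (snd A TU ≫ j ≫ y)
    have h1 : (snd A TU ≫ j ≫ y) ≫ iK = snd A TU ≫ j ≫ x := by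
      rw [Category.assoc, Category.assoc, hy]
    have e1 : pb (snd A TU ≫ j ≫ x) L ≅ Coh.structureModule (A ⊗ TU).left :=
      (pbO (snd A TU) (j ≫ x) _ rfl L).symm ≪≫
        (Scheme.Modules.pullback (snd A TU).left).mapIso ((pbO j x _ rfl L).symm ≪≫
          (Scheme.Modules.restrictFunctorIsoPullback U.ι).symm.app (pb x L) ≪≫ ε) ≪≫ pbUnit (snd A TU)
    have h2 : fst A TU * ((snd A TU ≫ j ≫ y) ≫ iK) = ThetaGrp.transl A (j ≫ x) ≫ fst A TU := by
      rw [h1, ThetaGrp.transl_fst]
    exact exists_thetaPt L (j ≫ x)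
      ((Groth.Agent.Lib.Helper23.TensorUnit.tensorUnitIso _).symm ≪≫
        PicGrp.tensorModIso (Iso.refl _) (e1.symm ≪≫ pbEq h1.symm L) ≪≫ sq ≪≫ pbEq h2 L ≪≫
        (pbO (ThetaGrp.transl A (j ≫ x)) (fst A TU) _ rfl L).symm)
  · intro h
    haveI : IsClosedImmersion iK.left := hK.closed
    refine exists_lift_of_local iK x fun t => ?_
    obtain ⟨U, htU, β, hβ⟩ := h t
    refine ⟨U, htU, ?_⟩
    obtain ⟨φ⟩ := nonempty_iso_of_thetaPt L _ β hβ
    refine (Groth.Agent.S19766.result k A L hL K iK hK _ _).2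
      ⟨Coh.structureModule _, Groth.Agent.Lib.Helper23.TensorUnit.isInvertible_structureModule _, ⟨?_⟩⟩
    exact PicGrp.tensorModIso (Iso.refl _) (pbUnit (snd A _)) ≪≫
      Groth.Agent.Lib.Helper23.TensorUnit.tensorUnitIso _ ≪≫ φ ≪≫ pbO (ThetaGrp.transl A _) (fst A _) _ rfl L

end Groth.Agent.S19945
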