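-- Statement S19976: strong approximation for the complement of a codimension-two closed subset of
-- affine space over a number field, off one finite place.
import Groth.Statements.S19976
import Groth.Agent.R2.H99SALocal

set_option autoImplicit false
set_option linter.style.haveILetI false
set_option linter.unusedVariables false
universe u
open NumberField

namespace Groth.Agent.S19976

open IsDedekindDomain HeightOneSpectrum
open Groth.Agent.R2.H99.SALocal Groth.Agent.R2.H99.SAPoly Groth.Agent.R2.H99.SAGa

/-- coordinates of `Fin.cons t x'` in a completion -/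
theorem coe_cons {k L : Type*} [CommSemiring k] [CommSemiring L] [Algebra k L] {n : ℕ} (t : k)
    (x' : Fin n → k) :
    (fun i => algebraMap k L ((Fin.cons t x' : Fin (n + 1) → k) i)) =
      (Fin.cons (algebraMap k L t) (fun i => algebraMap k L (x' i)) : Fin (n + 1) → L) := by
  funext i
  refine Fin.cases ?_ (fun j => ?_) i
  · simp
  · simp

/-- The generalized statement, proved by induction on the number of variables. -/
theorem main (k : Type u) [Field k] [NumberField k] (n : ℕ) :
    ∀ (m : ℕ) (f : Fin m → MvPolynomial (Fin n) (𝓞 k))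
      (hcodim : ringKrullDim (MvPolynomial (Fin n) k ⧸ Ideal.span (Set.range fun j =>
        MvPolynomial.map (algebraMap (𝓞 k) k) (f j))) + 2 ≤ (n : WithBot ℕ∞))
      (v₀ : HeightOneSpectrum (𝓞 k)) (Sf : Finset (HeightOneSpectrum (𝓞 k))) (hv₀ : v₀ ∈ Sf)
      (A : Finset (HeightOneSpectrum (𝓞 k)))
      (Ω : (v : HeightOneSpectrum (𝓞 k)) → Set (Fin n → v.adicCompletion k))
      (hΩ : ∀ v ∈ A, v ≠ v₀ → IsOpen (Ω v) ∧ (Ω v).Nonempty)
      (hΩU : ∀ v ∈ A, v ∉ Sf → Ω v ⊆ Ugood k f v)
      (Ωi : (w : InfinitePlace k) → Set (Fin n → w.Completion))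
      (hΩi : ∀ w, IsOpen (Ωi w) ∧ (Ωi w).Nonempty)
      (hne : ∀ v : HeightOneSpectrum (𝓞 k), v ∉ Sf → (Ugood k f v).Nonempty),
      ∃ P : Fin n → k, (∀ v : HeightOneSpectrum (𝓞 k), v ∉ Sf → P ∈ UgoodK k f v) ∧
        (∀ v ∈ A, v ≠ v₀ → (fun i => algebraMap k (v.adicCompletion k) (P i)) ∈ Ω v) ∧
        (∀ w : InfinitePlace k, (fun i => algebraMap k w.Completion (P i)) ∈ Ωi w) := by
  classical
  induction n with
  | zero =>
    intro m f hcodim v₀ Sf hv₀ A Ω hΩ hΩU Ωi hΩi hne
    refine ⟨fun i => i.elim0, ?_, ?_, ?_⟩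
    · intro v hv
      obtain ⟨R, hR⟩ := hne v hv
      rw [← mem_Ugood_coe_iff]
      have : (fun i : Fin 0 => algebraMap k (v.adicCompletion k) (i.elim0 : k)) = R :=
        Subsingleton.elim _ _
      rwa [this]
    · intro v hvA hv0
      obtain ⟨R, hR⟩ := (hΩ v hvA hv0).2
      have : (fun i : Fin 0 => algebraMap k (v.adicCompletion k) (i.elim0 : k)) = R :=
        Subsingleton.elim _ _
      rwa [this]
    · intro w
      obtain ⟨R, hR⟩ := (hΩi w).2
      have : (fun i : Fin 0 => algebraMap k w.Completion (i.elim0 : k)) = R :=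
        Subsingleton.elim _ _
      rwa [this]
  | succ n ih =>
    intro m f hcodim v₀ Sf hv₀ A Ω hΩ hΩU Ωi hΩi hne
    -- degree bound in the first variable
    obtain ⟨d, hd⟩ : ∃ d, ∀ j, (MvPolynomial.finSuccEquiv (𝓞 k) n (f j)).natDegree ≤ d :=
      ⟨Finset.univ.sup fun j => (MvPolynomial.finSuccEquiv (𝓞 k) n (f j)).natDegree,
        fun j => Finset.le_sup (f := fun j => (MvPolynomial.finSuccEquiv (𝓞 k) n (f j)).natDegree)
          (Finset.mem_univ j)⟩
    have hcodim' := codim_coeffFam f d hd hcodim
    -- elimination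
    obtain ⟨g, hg0, hgI⟩ := exists_rename_succ_mem k n _ hcodim
    obtain ⟨b, hb⟩ := Ideal.mem_span_range_iff_exists_fun.mp hgI
    -- places with small residue field
    have hsmall : {v : HeightOneSpectrum (𝓞 k) | Ideal.absNorm v.asIdeal ≤ d}.Finite := by
      have h1 := Ideal.finite_setOfPred_absNorm_le (S := 𝓞 k) d
      refine Set.Finite.preimage (f := fun v : HeightOneSpectrum (𝓞 k) => v.asIdeal) ?_ h1
      intro v _ u _ h
      exact HeightOneSpectrum.ext h
    set Small : Finset (HeightOneSpectrum (𝓞 k)) := hsmall.toFinset with hSmall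
    set A₁ : Finset (HeightOneSpectrum (𝓞 k)) := A ∪ (Small \ Sf) with hA₁
    let Ω₁ : (v : HeightOneSpectrum (𝓞 k)) → Set (Fin (n + 1) → v.adicCompletion k) :=
      fun v => if v ∈ A then Ω v else Ugood k f v
    have hv₀' : ∀ v : HeightOneSpectrum (𝓞 k), v ∉ Sf → v ≠ v₀ := fun v hv h => hv (h ▸ hv₀)
    have hΩ₁ : ∀ v ∈ A₁, v ≠ v₀ → IsOpen (Ω₁ v) ∧ (Ω₁ v).Nonempty := by
      intro v hv hv0
      by_cases hvA : v ∈ A
      · simp only [Ω₁, hvA, if_true]
        exact hΩ v hvA hv0
      · simp only [Ω₁, hvA, if_false]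
        have hvS : v ∉ Sf := by
          rcases Finset.mem_union.mp hv with h | h
          · exact absurd h hvA
          · exact (Finset.mem_sdiff.mp h).2
        exact ⟨isOpen_Ugood f v, hne v hvS⟩
    have hΩ₁U : ∀ v ∈ A₁, v ∉ Sf → Ω₁ v ⊆ Ugood k f v := by
      intro v hv hvS
      by_cases hvA : v ∈ A
      · simp only [Ω₁, hvA, if_true]
        exact hΩU v hvA hvS
      · simp only [Ω₁, hvA, if_false]
        exact subset_rfl
    -- boxes at the finite places
    have hboxf : ∀ v : HeightOneSpectrum (𝓞 k), ∃ (Av : Set (v.adicCompletion k))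
        (Bv : Set (Fin n → v.adicCompletion k)), v ∈ A₁ → v ≠ v₀ →
        IsOpen Av ∧ IsOpen Bv ∧ Av.Nonempty ∧ Bv.Nonempty ∧
          ∀ t ∈ Av, ∀ y ∈ Bv, (Fin.cons t y : Fin (n + 1) → v.adicCompletion k) ∈ Ω₁ v := by
      intro v
      by_cases hv : v ∈ A₁ ∧ v ≠ v₀
      · obtain ⟨Z, hZ⟩ := (hΩ₁ v hv.1 hv.2).2
        obtain ⟨Av, Bv, hAv, hBv, hZA, hZB, hsub⟩ := exists_box (Ω₁ v) (hΩ₁ v hv.1 hv.2).1 Z hZ
        exact ⟨Av, Bv, fun _ _ => ⟨hAv, hBv, ⟨_, hZA⟩, ⟨_, hZB⟩, hsub⟩⟩
      · exact ⟨∅, ∅, fun h1 h2 => absurd ⟨h1, h2⟩ hv⟩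
    choose Af Bf hAB using hboxf
    -- boxes at the infinite places
    have hboxi : ∀ w : InfinitePlace k, ∃ (Aw : Set w.Completion)
        (Bw : Set (Fin n → w.Completion)), IsOpen Aw ∧ IsOpen Bw ∧ Aw.Nonempty ∧ Bw.Nonempty ∧
          ∀ t ∈ Aw, ∀ y ∈ Bw, (Fin.cons t y : Fin (n + 1) → w.Completion) ∈ Ωi w := by
      intro w
      obtain ⟨Z, hZ⟩ := (hΩi w).2
      obtain ⟨Aw, Bw, hAw, hBw, hZA, hZB, hsub⟩ := exists_box (Ωi w) (hΩi w).1 Z hZ
      exact ⟨Aw, Bw, hAw, hBw, ⟨_, hZA⟩, ⟨_, hZB⟩, hsub⟩
    choose Ai Bi hABi using hboxi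
    -- shrink at one infinite place so that `g ≠ 0`
    obtain ⟨w₁⟩ : Nonempty (InfinitePlace k) := inferInstance
    obtain ⟨B', hB'sub, hB'open, hB'ne, hB'g⟩ := exists_open_sub_ne_zero w₁ g hg0 (Bi w₁)
      (hABi w₁).2.1 (hABi w₁).2.2.2.1
    -- induction hypothesis
    obtain ⟨x', hx'U, hx'A, hx'i⟩ := ih (m * (d + 1)) (coeffFam f d) hcodim' v₀ Sf hv₀ A₁ Bf
      (fun v hv hv0 => ⟨(hAB v hv hv0).2.1, (hAB v hv hv0).2.2.2.1⟩)
      (fun v hv hvS y hy => by
        obtain ⟨t, ht⟩ := (hAB v hv (hv₀' v hvS)).2.2.1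
        exact tail_mem_Ugood f d hd v t y
          (hΩ₁U v hv hvS ((hAB v hv (hv₀' v hvS)).2.2.2.2 t ht y hy)))
      (Function.update Bi w₁ B')
      (fun w => by
        by_cases hw : w = w₁
        · subst hw
          rw [Function.update_self]
          exact ⟨hB'open, hB'ne⟩
        · rw [Function.update_of_ne hw]
          exact ⟨(hABi w).2.1, (hABi w).2.2.2.1⟩)
      (fun v hv => by
        obtain ⟨R, hR⟩ := hne v hv
        refine ⟨fun i => R i.succ, tail_mem_Ugood f d hd v (R 0) _ ?_⟩
        have : (Fin.cons (R 0) (fun i => R i.succ) : Fin (n + 1) → v.adicCompletion k) = R :=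
          Fin.cons_self_tail R
        rwa [this])
    -- `g(x') ≠ 0`
    have hx'Bi : ∀ w, (fun i => algebraMap k w.Completion (x' i)) ∈ Bi w := by
      intro w
      have := hx'i w
      by_cases hw : w = w₁
      · subst hw
        rw [Function.update_self] at this
        exact hB'sub this
      · rwa [Function.update_of_ne hw] at this
    have hy₀ : MvPolynomial.eval x' g ≠ 0 := by
      have h1 := hx'i w₁
      rw [Function.update_self] at h1
      have h2 := hB'g _ h1
      rw [aeval_coe_infinite] at h2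
      intro h3
      apply h2
      have h4 : MvPolynomial.aeval x' g = MvPolynomial.eval x' g := by
        rw [MvPolynomial.aeval_def, MvPolynomial.eval, Algebra.algebraMap_self]; rfl
      rw [h4, h3, map_zero]
    -- the exceptional places
    have hE := finite_exceptional (MvPolynomial.eval x' g) hy₀ b
    set E : Finset (HeightOneSpectrum (𝓞 k)) := hE.toFinset with hEdef
    set E' : Finset (HeightOneSpectrum (𝓞 k)) := E \ (Sf ∪ A₁) with hE'
    have hfib : ∀ v : HeightOneSpectrum (𝓞 k), ∃ t : 𝓞 k, v ∈ E' →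
        ∃ j, v.valuation k (MvPolynomial.aeval
          (Fin.cons (algebraMap (𝓞 k) k t) x' : Fin (n + 1) → k)
          (MvPolynomial.map (algebraMap (𝓞 k) k) (f j))) = 1 := by
      intro v
      by_cases hv : v ∈ E'
      · have hv' := Finset.mem_sdiff.mp hv
        have hvS : v ∉ Sf := fun h => hv'.2 (Finset.mem_union_left _ h)
        have hvA₁ : v ∉ A₁ := fun h => hv'.2 (Finset.mem_union_right _ h)
        have hcard : d < Ideal.absNorm v.asIdeal := by
          by_contra hle
          push Not at hle
          apply hvA₁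
          refine Finset.mem_union_right _ (Finset.mem_sdiff.mpr ⟨?_, hvS⟩)
          rw [hSmall, Set.Finite.mem_toFinset]
          exact hle
        obtain ⟨t, j, hj⟩ := exists_fibre_unit f d hd v hcard x' (hx'U v hvS)
        exact ⟨t, fun _ => ⟨j, hj⟩⟩
      · exact ⟨0, fun h => absurd h hv⟩
    choose tv htv using hfib
    -- strong approximation in the fibre
    let Ωfib : (v : HeightOneSpectrum (𝓞 k)) → Set (v.adicCompletion k) := fun v =>
      if v ∈ A₁ then Af v else
        {t | Valued.v (t - algebraMap k (v.adicCompletion k) (algebraMap (𝓞 k) k (tv v))) < 1}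
    have hΩfib : ∀ v ∈ A₁ ∪ E', v ≠ v₀ → IsOpen (Ωfib v) ∧ (Ωfib v).Nonempty := by
      intro v hv hv0
      by_cases hvA : v ∈ A₁
      · simp only [Ωfib, hvA, if_true]
        exact ⟨(hAB v hvA hv0).1, (hAB v hvA hv0).2.2.1⟩
      · simp only [Ωfib, hvA, if_false]
        refine ⟨?_, ⟨algebraMap k (v.adicCompletion k) (algebraMap (𝓞 k) k (tv v)), ?_⟩⟩
        · have h1 : IsOpen {x : v.adicCompletion k | Valued.v x < 1} := by
            have h2 : {x : v.adicCompletion k | Valued.v x < 1} =
                {x | (Valued.v (R := v.adicCompletion k)).restrict x < 1} := by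
              ext x
              simp [Valuation.restrict_lt_one_iff]
            rw [h2]
            exact Valued.isOpen_ball _ _
          exact h1.preimage (continuous_id.sub continuous_const)
        · simp
    obtain ⟨t, htS, hti, htint⟩ := strongApprox_top k v₀ (A₁ ∪ E') Ωfib hΩfib Ai
      (fun w => ⟨(hABi w).1, (hABi w).2.2.1⟩)
    -- the point
    refine ⟨Fin.cons t x', ?_, ?_, ?_⟩
    · -- integrality and unit condition outside `Sf`
      intro v hvS
      have hv0 := hv₀' v hvS
      by_cases hvA : v ∈ A₁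
      · rw [← mem_Ugood_coe_iff, coe_cons]
        refine hΩ₁U v hvA hvS ((hAB v hvA hv0).2.2.2.2 _ ?_ _ (hx'A v hvA hv0))
        have := htS v (Finset.mem_union_left _ hvA) hv0
        simpa only [Ωfib, hvA, if_true] using this
      · have hx'int : ∀ i, v.valuation k (x' i) ≤ 1 := (hx'U v hvS).1
        by_cases hvE : v ∈ E
        · have hvE' : v ∈ E' :=
            Finset.mem_sdiff.mpr ⟨hvE, fun h => (Finset.mem_union.mp h).elim hvS hvA⟩
          have h1 := htS v (Finset.mem_union_right _ hvE') hv0
          simp only [Ωfib, hvA, if_false, Set.mem_ofPred_eq] at h1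
          rw [← map_sub, valued_algebraMap_adicCompletion] at h1
          have htv1 : v.valuation k (algebraMap (𝓞 k) k (tv v)) ≤ 1 := valuation_le_one v _
          have ht1 : v.valuation k t ≤ 1 := by
            have : t = (t - algebraMap (𝓞 k) k (tv v)) + algebraMap (𝓞 k) k (tv v) := by ring
            rw [this]
            exact (Valuation.map_add _ _ _).trans (max_le h1.le htv1)
          refine ⟨fun i => ?_, ?_⟩
          · refine Fin.cases ?_ (fun i' => ?_) i
            · simpa using ht1
            · simpa using hx'int i'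
          · obtain ⟨j, hj⟩ := htv v hvE'
            refine ⟨j, ?_⟩
            rw [aeval_cons_map] at hj ⊢
            set φ := Polynomial.map ((MvPolynomial.aeval x' :
              MvPolynomial (Fin n) (𝓞 k) →ₐ[𝓞 k] k) : MvPolynomial (Fin n) (𝓞 k) →+* k)
              (MvPolynomial.finSuccEquiv (𝓞 k) n (f j)) with hφ
            have hφc : ∀ e, v.valuation k (φ.coeff e) ≤ 1 := by
              intro e
              rw [hφ, Polynomial.coeff_map]
              exact val_aeval_le_one _ (fun r => valuation_le_one v r) x' hx'int _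
            have h2 := val_eval_sub_lt_one (v.valuation k) φ hφc t
              (algebraMap (𝓞 k) k (tv v)) ht1 htv1 h1
            rw [← hj] at h2
            rw [Valuation.map_eq_of_sub_lt _ h2, hj]
        · -- generic places
          have hgen : v.valuation k (MvPolynomial.eval x' g) = 1 ∧
              ∀ j d', v.valuation k ((b j).coeff d') ≤ 1 := by
            by_contra hcon
            apply hvE
            rw [hEdef, Set.Finite.mem_toFinset]
            exact hcon
          have hvS' : v ∉ A₁ ∪ E' := fun h =>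
            (Finset.mem_union.mp h).elim hvA (fun h' => hvE (Finset.mem_sdiff.mp h').1)
          have ht1 : v.valuation k t ≤ 1 := htint v hvS' hv0
          have hPint : ∀ i, v.valuation k ((Fin.cons t x' : Fin (n + 1) → k) i) ≤ 1 := by
            intro i
            refine Fin.cases ?_ (fun i' => ?_) i
            · simpa using ht1
            · simpa using hx'int i'
          refine ⟨hPint, exists_unit_of_combination f g b hb.symm v hgen.2 _ hPint ?_⟩
          simpa using hgen.1
    · -- approximation at the places of `A`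
      intro v hvA hv0
      have hvA₁ : v ∈ A₁ := Finset.mem_union_left _ hvA
      rw [coe_cons]
      have h1 : (Fin.cons (algebraMap k (v.adicCompletion k) t)
          (fun i => algebraMap k (v.adicCompletion k) (x' i)) :
          Fin (n + 1) → v.adicCompletion k) ∈ Ω₁ v := by
        refine (hAB v hvA₁ hv0).2.2.2.2 _ ?_ _ (hx'A v hvA₁ hv0)
        have := htS v (Finset.mem_union_left _ hvA₁) hv0
        simpa only [Ωfib, hvA₁, if_true] using this
      simpa only [Ω₁, hvA, if_true] using h1
    · -- approximation at the infinite places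
      intro w
      rw [coe_cons]
      exact (hABi w).2.2.2.2 _ (hti w) _ (hx'Bi w)

/-- Strong approximation off a place v₀ for the complement of a closed subset of codimension at least 2
in affine n-space over a number field, here in the following explicit form for a finite place v₀ and
the standard integral model. Let k be a number field with ring of integers O_k, n ≥ 1, and f_1, …,
f_m polynomials in n variables with coefficients in O_k whose common zero locus F in 𝔸ⁿ_k has
codimension at least 2, i.e. the k-algebra k[x_1, …, x_n]/(f_1, …, f_m) has Krull dimension at most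
n − 2 (dimension −∞ when F is empty). Put U = 𝔸ⁿ_k ∖ F and 𝒰 = 𝔸ⁿ_{O_k} ∖ V(f_1, …, f_m), so that
for a finite place v the O_v-points of 𝒰 are the P ∈ O_vⁿ with some f_j(P) a unit. Let S_f be a
finite set of finite places containing v₀ (the set S of the source is S_f together with all infinite
places). Suppose given, for every v ∈ S_f other than v₀, a point P_v ∈ U(k_v) with an open
neighbourhood N_v ⊆ k_vⁿ; for every infinite place w, a point P_w ∈ U(k_w) with an open
neighbourhood N_w ⊆ k_wⁿ; for every v in a finite set T of finite places disjoint from S_f, a point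
Q_v ∈ 𝒰(O_v) with an open neighbourhood W_v ⊆ k_vⁿ; and suppose 𝒰(O_v) is nonempty for every finite
place v ∉ S_f. Then there is a point P ∈ kⁿ whose coordinates are v-integral and some f_j(P) is a
v-unit at every finite place v ∉ S_f (so P ∈ 𝒰(O_S)), and whose image lies in N_v for v ∈ S_f ∖
{v₀}, in N_w for every infinite w, and in W_v for v ∈ T. (The source states strong approximation off
an arbitrary place v₀ and for every model over O_S; this row is the case of a finite v₀ and of the
standard model, approximation at a basic open set of the restricted product.) -/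
theorem result
    (k : Type u) [Field k] [NumberField k] (n : ℕ) (hn : 1 ≤ n) (m : ℕ)
    (f : Fin m → MvPolynomial (Fin n) (NumberField.RingOfIntegers k))
    (hcodim : ringKrullDim (MvPolynomial (Fin n) k ⧸ Ideal.span (Set.range fun j =>
        MvPolynomial.map (algebraMap (NumberField.RingOfIntegers k) k) (f j))) + 2 ≤ (n : WithBot ℕ∞))
    (v₀ : IsDedekindDomain.HeightOneSpectrum (NumberField.RingOfIntegers k)) (Sf : Finset (IsDedekindDomain.HeightOneSpectrum (NumberField.RingOfIntegers k))) (hv₀ : v₀ ∈ Sf)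
    (Pf : (v : IsDedekindDomain.HeightOneSpectrum (NumberField.RingOfIntegers k)) → (Fin n → v.adicCompletion k))
    (hPf : ∀ v ∈ Sf, v ≠ v₀ → ∃ j, MvPolynomial.aeval (Pf v)
      (MvPolynomial.map (algebraMap (NumberField.RingOfIntegers k) k) (f j)) ≠ 0)
    (Nf : (v : IsDedekindDomain.HeightOneSpectrum (NumberField.RingOfIntegers k)) → Set (Fin n → v.adicCompletion k))
    (hNf : ∀ v ∈ Sf, v ≠ v₀ → IsOpen (Nf v) ∧ Pf v ∈ Nf v)
    (Pi : (w : NumberField.InfinitePlace k) → (Fin n → w.Completion))
    (hPi : ∀ w, ∃ j, MvPolynomial.aeval (Pi w)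
      (MvPolynomial.map (algebraMap (NumberField.RingOfIntegers k) k) (f j)) ≠ 0)
    (Ni : (w : NumberField.InfinitePlace k) → Set (Fin n → w.Completion))
    (hNi : ∀ w, IsOpen (Ni w) ∧ Pi w ∈ Ni w)
    (T : Finset (IsDedekindDomain.HeightOneSpectrum (NumberField.RingOfIntegers k))) (hT : Disjoint T Sf)
    (Q : (v : IsDedekindDomain.HeightOneSpectrum (NumberField.RingOfIntegers k)) → (Fin n → v.adicCompletion k))
    (hQ : ∀ v ∈ T, (∀ i, Q v i ∈ v.adicCompletionIntegers k) ∧ ∃ j, Valued.v (MvPolynomial.aeval (Q v)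
      (MvPolynomial.map (algebraMap (NumberField.RingOfIntegers k) k) (f j))) = 1)
    (W : (v : IsDedekindDomain.HeightOneSpectrum (NumberField.RingOfIntegers k)) → Set (Fin n → v.adicCompletion k))
    (hW : ∀ v ∈ T, IsOpen (W v) ∧ Q v ∈ W v)
    (hne : ∀ v : IsDedekindDomain.HeightOneSpectrum (NumberField.RingOfIntegers k), v ∉ Sf → ∃ R : Fin n → v.adicCompletion k,
      (∀ i, R i ∈ v.adicCompletionIntegers k) ∧ ∃ j, Valued.v (MvPolynomial.aeval R
        (MvPolynomial.map (algebraMap (NumberField.RingOfIntegers k) k) (f j))) = 1) :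
    ∃ P : Fin n → k,
      (∀ v : IsDedekindDomain.HeightOneSpectrum (NumberField.RingOfIntegers k), v ∉ Sf → (∀ i, v.valuation k (P i) ≤ 1) ∧
        ∃ j, v.valuation k (MvPolynomial.aeval P
          (MvPolynomial.map (algebraMap (NumberField.RingOfIntegers k) k) (f j))) = 1) ∧
      (∀ v ∈ Sf, v ≠ v₀ → (fun i => algebraMap k (v.adicCompletion k) (P i)) ∈ Nf v) ∧
      (∀ w : NumberField.InfinitePlace k, (fun i => algebraMap k w.Completion (P i)) ∈ Ni w) ∧
      (∀ v ∈ T, (fun i => algebraMap k (v.adicCompletion k) (P i)) ∈ W v) := by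
  classical
  obtain ⟨P, hPU, hPA, hPi⟩ := main k n m f hcodim v₀ Sf hv₀ (Sf ∪ T)
    (fun v => if v ∈ Sf then Nf v else W v ∩ Ugood k f v)
    (fun v hv hv0 => by
      by_cases hvS : v ∈ Sf
      · simp only [hvS, if_true]
        exact ⟨(hNf v hvS hv0).1, ⟨_, (hNf v hvS hv0).2⟩⟩
      · simp only [hvS, if_false]
        have hvT : v ∈ T := (Finset.mem_union.mp hv).resolve_left hvS
        exact ⟨(hW v hvT).1.inter (isOpen_Ugood f v), ⟨Q v, (hW v hvT).2, hQ v hvT⟩⟩)
    (fun v hv hvS => by
      simp only [hvS, if_false]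
      exact Set.inter_subset_right)
    Ni (fun w => ⟨(hNi w).1, ⟨_, (hNi w).2⟩⟩)
    (fun v hv => by
      obtain ⟨R, hR⟩ := hne v hv
      exact ⟨R, hR⟩)
  refine ⟨P, fun v hv => hPU v hv, ?_, hPi, ?_⟩
  · intro v hvS hv0
    have := hPA v (Finset.mem_union_left _ hvS) hv0
    simpa only [hvS, if_true] using this
  · intro v hvT
    have hvS : v ∉ Sf := fun h => (Finset.disjoint_left.mp hT hvT) h
    have hv0 : v ≠ v₀ := fun h => hvS (h ▸ hv₀)
    have := hPA v (Finset.mem_union_right _ hvT) hv0
    simp only [hvS, if_false] at this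
    exact this.1

end Groth.Agent.S19976
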