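import Groth.Statements.S19994
import Mathlib
import Groth.Agent.S15794
import Groth.Agent.Lib.Helper28RegLoc
import Groth.Agent.R2.H73WildCore
import Groth.Agent.R2.H73GaloisProj

set_option autoImplicit false
set_option linter.style.haveILetI false
universe u v w
open WildQuot

namespace Groth.Agent.S19994

open IsLocalRing Groth.Agent.R2.H73

/-- Let `A` be a complete regular local ring of Krull dimension at least `2` and prime characteristic
`p`, with maximal ideal `m`; let `k` be a field with a ring map `k → A` whose composite with `A →
A/m` is onto; let `G` be a group of order `p` acting on `A` by ring automorphisms fixing the image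
of `k` and ramified precisely at the origin (for every prime `P ≠ m`, the inertia subgroup of `P`,
i.e. the elements of `G` fixing every element modulo `P`, is trivial). Then the singular locus of
`Spec A^G` is contained in the closed point: for every non-maximal prime ideal `P` of the invariant
ring `A^G`, the localization `(A^G)_P` is a regular local ring. (The published statement also
asserts that the punctured spectrum of `A` is a `G`-torsor over the punctured spectrum of `A^G`;
this row omits that clause. Together with the non-regularity of `A^G` itself, the singular locus is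
exactly the closed point.) -/
theorem result
    (p : ℕ) [Fact p.Prime] (A : Type u) [CommRing A] [IsRegularLocalRing A] [CharP A p]
    [IsAdicComplete (IsLocalRing.maximalIdeal A) A] (hdim : 2 ≤ ringKrullDim A)
    (k : Type v) [Field k] [Algebra k A]
    (hk : Function.Surjective (IsLocalRing.residue A ∘ algebraMap k A))
    (G : Type w) [Group G] [Finite G] [MulSemiringAction G A] (hcard : Nat.card G = p)
    (hGk : ∀ (σ : G) (c : k), σ • algebraMap k A c = algebraMap k A c)
    (hram : ∀ P : Ideal A, P.IsPrime → P ≠ IsLocalRing.maximalIdeal A → P.inertia G = ⊥)
    (P : Ideal (FixedPoints.subring A G)) [P.IsPrime] (hP : ¬ P.IsMaximal) :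
    IsRegularLocalRing (Localization.AtPrime P) := by
  classical
  obtain ⟨hfin, hnoeth, -, -⟩ := Groth.Agent.S15794.core p A hdim k hk G hcard hGk hram
  haveI := hnoeth
  haveI : Fintype G := Fintype.ofFinite G
  -- primes over `P` are not maximal, hence have trivial inertia
  have hover : ∀ Q : Ideal A, Q.IsPrime →
      Q.comap (algebraMap (FixedPoints.subring A G) A) = P → Q.inertia G = ⊥ := by
    intro Q hQ hQP
    apply hram Q hQ
    intro h
    apply hP
    rw [← hQP, h]
    have := WildCore.maximalIdeal_fixed (A := A) (G := G)
    change Ideal.IsMaximal (Ideal.comap (FixedPoints.subring A G).subtype (maximalIdeal A))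
    rw [← this]
    exact IsLocalRing.maximalIdeal.isMaximal _
  obtain ⟨F, hF, J, _, α, β, hαβ⟩ := GaloisProj.exists_split P hover
  -- a prime over `P`
  obtain ⟨Q, -, hQprime, hQP⟩ := Ideal.exists_ideal_over_prime_of_isIntegral P (⊥ : Ideal A) (by
    intro b hb
    have hb0 : b = 0 := Subtype.ext (by simpa using hb)
    rw [hb0]; exact P.zero_mem)
  haveI := hQprime
  -- flatness of `A[1/F]` over the invariants
  haveI hflat1 : Module.Flat (FixedPoints.subring A G)
      (Localization (Algebra.algebraMapSubmonoid A (Submonoid.powers F))) :=
    GaloisProj.flat_of_isLocalizedModule_of_split F α β hαβ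
      (IsScalarTower.toAlgHom (FixedPoints.subring A G) A
        (Localization (Algebra.algebraMapSubmonoid A (Submonoid.powers F)))).toLinearMap
  have hle : Algebra.algebraMapSubmonoid A (Submonoid.powers F) ≤ Q.primeCompl := by
    rintro _ ⟨_, ⟨n, rfl⟩, rfl⟩
    intro hmem
    rw [map_pow] at hmem
    have h1 : algebraMap (FixedPoints.subring A G) A F ∈ Q := hQprime.mem_of_pow_mem n hmem
    apply hF
    rw [← hQP]
    exact h1
  letI alg1 : Algebra (Localization (Algebra.algebraMapSubmonoid A (Submonoid.powers F)))
      (Localization.AtPrime Q) :=
    IsLocalization.localizationAlgebraOfSubmonoidLe _ _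
      (Algebra.algebraMapSubmonoid A (Submonoid.powers F)) Q.primeCompl hle
  haveI : IsScalarTower A (Localization (Algebra.algebraMapSubmonoid A (Submonoid.powers F)))
      (Localization.AtPrime Q) :=
    IsLocalization.localization_isScalarTower_of_submonoid_le _ _
      (Algebra.algebraMapSubmonoid A (Submonoid.powers F)) Q.primeCompl hle
  haveI : IsLocalization (Q.primeCompl.map (algebraMap A
      (Localization (Algebra.algebraMapSubmonoid A (Submonoid.powers F))))) (Localization.AtPrime Q) :=
    IsLocalization.isLocalization_of_submonoid_le _ _
      (Algebra.algebraMapSubmonoid A (Submonoid.powers F)) Q.primeCompl hle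
  haveI : Module.Flat (Localization (Algebra.algebraMapSubmonoid A (Submonoid.powers F)))
      (Localization.AtPrime Q) :=
    IsLocalization.flat _ (Q.primeCompl.map (algebraMap A
      (Localization (Algebra.algebraMapSubmonoid A (Submonoid.powers F)))))
  haveI : IsScalarTower (FixedPoints.subring A G)
      (Localization (Algebra.algebraMapSubmonoid A (Submonoid.powers F))) (Localization.AtPrime Q) :=
    IsScalarTower.of_algebraMap_eq (fun b => by
      rw [IsScalarTower.algebraMap_apply (FixedPoints.subring A G) A (Localization.AtPrime Q),
        IsScalarTower.algebraMap_apply (FixedPoints.subring A G) A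
          (Localization (Algebra.algebraMapSubmonoid A (Submonoid.powers F))),
        ← IsScalarTower.algebraMap_apply A
          (Localization (Algebra.algebraMapSubmonoid A (Submonoid.powers F)))
          (Localization.AtPrime Q)])
  haveI hflat2 : Module.Flat (FixedPoints.subring A G) (Localization.AtPrime Q) :=
    Module.Flat.trans (FixedPoints.subring A G)
      (Localization (Algebra.algebraMapSubmonoid A (Submonoid.powers F))) (Localization.AtPrime Q)
  -- the local homomorphism `B_P → A_Q`
  haveI : Q.LiesOver P := ⟨hQP.symm⟩
  letI alg2 : Algebra (Localization.AtPrime P) (Localization.AtPrime Q) :=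
    Localization.AtPrime.algebraOfLiesOver P Q
  haveI hflat3 : Module.Flat (Localization.AtPrime P) (Localization.AtPrime Q) :=
    (Module.flat_iff_of_isLocalization (Localization.AtPrime P) P.primeCompl
      (Localization.AtPrime Q)).2 hflat2
  haveI : IsLocalHom (algebraMap (Localization.AtPrime P) (Localization.AtPrime Q)) :=
    Localization.isLocalHom_localRingHom _ _ _ _
  haveI : IsRegularLocalRing (Localization.AtPrime Q) :=
    Groth.Agent.Lib.Helper28.isRegularLocalRing_localization_of_isRegularLocalRing A Q
  haveI : IsNoetherianRing (Localization.AtPrime P) :=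
    IsLocalization.isNoetherianRing P.primeCompl _ inferInstance
  exact Groth.Agent.Lib.Helper28.isRegularLocalRing_of_flat_of_isLocalHom
    (Localization.AtPrime P) (Localization.AtPrime Q)

end Groth.Agent.S19994
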