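-- Statement S19997 (WildQuot.exists_pow_mul_mem_adjoin_minorElts_of_fixed)
import Groth.Statements.S19997
import Groth.Agent.S15787
import Groth.Agent.R2.H73ASFamily2
import Groth.Agent.R2.H73ASMinor
import Groth.Agent.Lib.Helper19PsDim
import Groth.Agent.Lib.Helper5RLR

set_option autoImplicit false
universe u
open WildQuot

namespace Groth.Agent.S19997

open Groth.Agent.R2.H73.ASFamily Groth.Agent.R2.H73.ASMinor in
/-- The general statement for the library's form of the quotient. -/
theorem main (p : ℕ) [Fact p.Prime] (k : Type u) [Field k] [CharP k p] (n : ℕ)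
    (a : Fin n → MvPowerSeries (Fin n) k) (μ : MvPowerSeries (Fin n) k)
    (ham : ∀ i, MvPowerSeries.constantCoeff (a i) = 0) (i₀ : Fin n)
    (σ : ASQuot p (fun i => μ * a i) (fun i => (MvPowerSeries.X i : MvPowerSeries (Fin n) k)) ≃ₐ[MvPowerSeries (Fin n) k]
      ASQuot p (fun i => μ * a i) (fun i => (MvPowerSeries.X i : MvPowerSeries (Fin n) k)))
    (hσ : ∀ i, σ (uq p (fun i => μ * a i) (fun i => (MvPowerSeries.X i : MvPowerSeries (Fin n) k)) i) =
      uq p (fun i => μ * a i) (fun i => (MvPowerSeries.X i : MvPowerSeries (Fin n) k)) i +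
        algebraMap (MvPowerSeries (Fin n) k) _ (μ * a i))
    (t : ASQuot p (fun i => μ * a i) (fun i => (MvPowerSeries.X i : MvPowerSeries (Fin n) k)))
    (ht : σ t = t) :
    ∃ N : ℕ, algebraMap (MvPowerSeries (Fin n) k) _ (μ * a i₀) ^ N * t ∈
      Algebra.adjoin (MvPowerSeries (Fin n) k)
        (Set.range (zmin p (fun i => μ * a i) (fun i => (MvPowerSeries.X i : MvPowerSeries (Fin n) k)) a i₀)) := by
  have hp : 2 ≤ p := (Fact.out : p.Prime).two_le
  have hx : Ideal.span (Set.range fun i : Fin n => (MvPowerSeries.X i : MvPowerSeries (Fin n) k)) =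
      IsLocalRing.maximalIdeal (MvPowerSeries (Fin n) k) :=
    (Groth.Agent.Lib.Helper19.maximalIdeal_mvPowerSeries_eq k n).symm
  have hc : ∀ i, (μ * a i) ^ (p - 1) ∈ IsLocalRing.maximalIdeal (MvPowerSeries (Fin n) k) := by
    intro i
    apply Ideal.pow_mem_of_mem _ _ _ (by omega)
    rw [IsLocalRing.mem_maximalIdeal, mem_nonunits_iff, MvPowerSeries.isUnit_iff_constantCoeff,
      map_mul, ham i, mul_zero]
    exact not_isUnit_zero
  have hreg := isRegularLocalRing hp hc hx (Groth.Agent.Lib.Helper19.ringKrullDim_mvPowerSeries k n)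
  have hdom : IsDomain (ASQuot p (fun i => μ * a i)
      (fun i => (MvPowerSeries.X i : MvPowerSeries (Fin n) k))) :=
    Groth.Agent.Lib.Helper5.isDomain_of_isRegularLocalRing _
  have hRdom : IsDomain (MvPowerSeries (Fin n) k) :=
    Groth.Agent.Lib.Helper5.isDomain_of_isRegularLocalRing _
  have hchar : CharP (MvPowerSeries (Fin n) k) p :=
    charP_of_injective_algebraMap (algebraMap k (MvPowerSeries (Fin n) k)).injective p
  exact exists_pow_mul_mem_adjoin_zmin p (fun i => μ * a i)
    (fun i => (MvPowerSeries.X i : MvPowerSeries (Fin n) k)) a μ i₀ (fun i => rfl) σ hσ t ht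

open MvPolynomial in
/-- Let `k` be a field of characteristic `p > 0`, `n ≥ 2`, `R = k[[x_1, …, x_n]]`, `a_1, …, a_n ∈ R`
with zero constant term and pairwise coprime, `μ ∈ R` nonzero and coprime to each `a_i`, `A = R[u_1,
…, u_n] / (u_i ^ p - (μ a_i) ^ (p-1) u_i - x_i : i = 1..n)`, and `σ` the `R`-algebra automorphism of
`A` with `σ u_i = u_i + μ a_i` for every `i` (it generates a group `G` of order `p`). Fix an index
`i₀` and let `A_ci ⊆ A` be the `R`-subalgebra generated by the minor elements `z_j = a_{i₀} u_j -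
a_j u_{i₀}`, `j ≠ i₀` (these are `σ`-invariant). Then `A_ci[1/(μ a_{i₀})] = A^G[1/(μ a_{i₀})]`: for
every `σ`-invariant `t ∈ A` some power `(μ a_{i₀}) ^ N t` lies in `A_ci`. (The published statement
uses the first index for `i₀`.) -/
theorem result
    (p : ℕ) [Fact p.Prime] (k : Type u) [Field k] [CharP k p] (n : ℕ) (hn : 2 ≤ n)
    (a : Fin n → MvPowerSeries (Fin n) k) (μ : MvPowerSeries (Fin n) k)
    (ham : ∀ i, MvPowerSeries.constantCoeff (a i) = 0) (hcop : ∀ i j, i ≠ j → IsRelPrime (a i) (a j))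
    (hμ : μ ≠ 0) (hμa : ∀ i, IsRelPrime μ (a i)) (i₀ : Fin n) :
    let R := MvPowerSeries (Fin n) k
    let I : Ideal (MvPolynomial (Fin n) R) :=
      Ideal.span (Set.range fun i : Fin n =>
        X i ^ p - C ((μ * a i) ^ (p - 1)) * X i - C (MvPowerSeries.X i))
    let A := MvPolynomial (Fin n) R ⧸ I
    let u : Fin n → A := fun i => Ideal.Quotient.mk I (X i)
    let z : {j : Fin n // j ≠ i₀} → A := fun j =>
      algebraMap R A (a i₀) * u j.1 - algebraMap R A (a j.1) * u i₀
    ∀ σ : A ≃ₐ[R] A, (∀ i, σ (u i) = u i + algebraMap R A (μ * a i)) →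
      ∀ t : A, σ t = t →
        ∃ N : ℕ, algebraMap R A (μ * a i₀) ^ N * t ∈ Algebra.adjoin R (Set.range z) := by
  intro R I
  have hI : I = Groth.Agent.R2.H73.ASFamily.relIdeal
      (Groth.Agent.R2.H73.ASFamily.asFam p (fun i => (μ * a i) ^ (p - 1))
        (fun i => MvPowerSeries.X i)) := Groth.Agent.S15787.ideal_eq p k n (fun i => μ * a i)
  clear_value I
  subst hI
  intro A u z σ hσ t ht
  exact main p k n a μ ham i₀ σ hσ t ht

end Groth.Agent.S19997
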