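-- Statement S19998 (WildQuot.fixedPointIdeal_le_pow_and_length_artinSchreierFamily)
import Groth.Statements.S19998
import Groth.Agent.S15787
import Groth.Agent.R2.H73ASFix
import Groth.Agent.Lib.Helper19PsDim

set_option autoImplicit false
universe u
open WildQuot

namespace Groth.Agent.S19998

open Groth.Agent.R2.H73.ASFamily in
/-- The statement in terms of the Artin–Schreier family quotient. -/
theorem main (p : ℕ) [Fact p.Prime] (k : Type u) [Field k] (n : ℕ)
    (a : Fin n → MvPowerSeries (Fin n) k)
    (ham : ∀ i, MvPowerSeries.constantCoeff (a i) = 0)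
    (σ : ASQuot p a (fun i => (MvPowerSeries.X i : MvPowerSeries (Fin n) k)) ≃ₐ[MvPowerSeries (Fin n) k]
      ASQuot p a (fun i => (MvPowerSeries.X i : MvPowerSeries (Fin n) k)))
    (hσ : ∀ i, σ (uq p a (fun i => (MvPowerSeries.X i : MvPowerSeries (Fin n) k)) i) =
      uq p a (fun i => (MvPowerSeries.X i : MvPowerSeries (Fin n) k)) i +
        algebraMap (MvPowerSeries (Fin n) k) _ (a i)) :
    Ideal.span (Set.range fun t : ASQuot p a (fun i => (MvPowerSeries.X i : MvPowerSeries (Fin n) k)) =>
        σ t - t) ≤
      Ideal.span (Set.range (uq p a (fun i => (MvPowerSeries.X i : MvPowerSeries (Fin n) k)))) ^ p ∧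
    Module.length (ASQuot p a (fun i => (MvPowerSeries.X i : MvPowerSeries (Fin n) k)))
        (ASQuot p a (fun i => (MvPowerSeries.X i : MvPowerSeries (Fin n) k)) ⧸
          Ideal.span (Set.range fun t : ASQuot p a
            (fun i => (MvPowerSeries.X i : MvPowerSeries (Fin n) k)) => σ t - t)) =
      (p ^ n : ℕ∞) * Module.length (MvPowerSeries (Fin n) k)
        (MvPowerSeries (Fin n) k ⧸ Ideal.span (Set.range a)) := by
  have hp : 2 ≤ p := (Fact.out : p.Prime).two_le
  have hx : Ideal.span (Set.range fun i : Fin n => (MvPowerSeries.X i : MvPowerSeries (Fin n) k)) =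
      IsLocalRing.maximalIdeal (MvPowerSeries (Fin n) k) :=
    (Groth.Agent.Lib.Helper19.maximalIdeal_mvPowerSeries_eq k n).symm
  have ha : ∀ i, a i ∈ IsLocalRing.maximalIdeal (MvPowerSeries (Fin n) k) := by
    intro i
    rw [IsLocalRing.mem_maximalIdeal, mem_nonunits_iff, MvPowerSeries.isUnit_iff_constantCoeff,
      ham i]
    exact not_isUnit_zero
  have hc : ∀ i, a i ^ (p - 1) ∈ IsLocalRing.maximalIdeal (MvPowerSeries (Fin n) k) := by
    intro i
    exact Ideal.pow_mem_of_mem _ (ha i) _ (by omega)
  have : IsLocalRing (ASQuot p a (fun i => (MvPowerSeries.X i : MvPowerSeries (Fin n) k))) :=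
    isLocalRing hp hc hx
  rw [Groth.Agent.R2.H73.ASFix.fixIdeal_eq p a _ σ hσ]
  refine ⟨Groth.Agent.R2.H73.ASFix.map_le_pow p a _ (by omega) ?_,
    Groth.Agent.R2.H73.ASFix.length_quotient_map p a _ hx _⟩
  intro i
  rw [hx]
  exact ha i

open MvPolynomial in
/-- Let `k` be a field of characteristic `p > 0`, `n ≥ 2`, `R = k[[x_1, …, x_n]]`, `a_1, …, a_n ∈ R`
with zero constant term, `A = R[u_1, …, u_n] / (u_i ^ p - a_i ^ (p-1) u_i - x_i : i = 1..n)`, and
`σ` the `R`-algebra automorphism of `A` with `σ u_i = u_i + a_i` for every `i` (when some `a_i` is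
non-zero it generates a group `G` of order `p`). Let `I ⊆ A` be the ideal generated by the elements
`σ t - t`, `t ∈ A`, which defines the fixed-point scheme of `G`. Then `I ⊆ (u_1, …, u_n) ^ p` (the
`p`-th power of the maximal ideal of `A`), and the length of `A / I` over `A` equals `p ^ n` times
the length of `R / (a_1, …, a_n)` over `R`; in particular it is a multiple of `p ^ n`. (The
published statement is for an arbitrary moderately ramified action, which has this normal form with
`a_1, …, a_n` a system of parameters of `R`, and records only divisibility by `p ^ n`; here the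
`a_i` are arbitrary non-units, both lengths being infinite when `(a_1, …, a_n)` is not primary to
the maximal ideal of `R`.) -/
theorem result
    (p : ℕ) [Fact p.Prime] (k : Type u) [Field k] [CharP k p] (n : ℕ) (hn : 2 ≤ n)
    (a : Fin n → MvPowerSeries (Fin n) k)
    (ham : ∀ i, MvPowerSeries.constantCoeff (a i) = 0) :
    let R := MvPowerSeries (Fin n) k
    let I : Ideal (MvPolynomial (Fin n) R) :=
      Ideal.span (Set.range fun i : Fin n =>
        X i ^ p - C (a i ^ (p - 1)) * X i - C (MvPowerSeries.X i))
    let A := MvPolynomial (Fin n) R ⧸ I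
    let u : Fin n → A := fun i => Ideal.Quotient.mk I (X i)
    ∀ σ : A ≃ₐ[R] A, (∀ i, σ (u i) = u i + algebraMap R A (a i)) →
      Ideal.span (Set.range fun t : A => σ t - t) ≤ Ideal.span (Set.range u) ^ p ∧
        Module.length A (A ⧸ Ideal.span (Set.range fun t : A => σ t - t)) =
          (p ^ n : ℕ∞) * Module.length R (R ⧸ Ideal.span (Set.range a)) := by
  intro R I
  have hI : I = Groth.Agent.R2.H73.ASFamily.relIdeal
      (Groth.Agent.R2.H73.ASFamily.asFam p (fun i => a i ^ (p - 1))
        (fun i => MvPowerSeries.X i)) := Groth.Agent.S15787.ideal_eq p k n a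
  clear_value I
  subst hI
  intro A u σ hσ
  exact main p k n a ham σ hσ

end Groth.Agent.S19998
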