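-- Statement S20014: normality descends along a proper birational morphism with f_*O = O.
import Groth.Statements.S20014
import Groth.Agent.Lib.Helper4EtNormalSch
import Groth.Agent.Lib.Helper4NormGlobal

set_option autoImplicit false
set_option linter.style.haveILetI false
universe u
open CategoryTheory CategoryTheory.Limits AlgebraicGeometry
open RatSing

namespace Groth.Agent.S20014

open TopologicalSpace Opposite

/-- a disjoint open cover gives a global function restricting to `1` and `0`. -/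
theorem exists_section_one_zero {X : Scheme.{u}} (U₁ U₂ : X.Opens) (hcov : U₁ ⊔ U₂ = ⊤)
    (hdisj : U₁ ⊓ U₂ = ⊥) :
    ∃ e : Γ(X, ⊤), X.presheaf.map (homOfLE (le_top : U₁ ≤ ⊤)).op e = 1 ∧
      X.presheaf.map (homOfLE (le_top : U₂ ≤ ⊤)).op e = 0 := by
  have : Subsingleton Γ(X, U₁ ⊓ U₂) := by rw [hdisj]; infer_instance
  let x : (CommRingCat.of <| RingHom.eqLocus
      (RingHom.comp (X.sheaf.obj.map (homOfLE inf_le_left : U₁ ⊓ U₂ ⟶ U₁).op).hom
        (RingHom.fst (X.sheaf.obj.obj <| op U₁) (X.sheaf.obj.obj <| op U₂)))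
      (RingHom.comp (X.sheaf.obj.map (homOfLE inf_le_right : U₁ ⊓ U₂ ⟶ U₂).op).hom
        (RingHom.snd (X.sheaf.obj.obj <| op U₁) (X.sheaf.obj.obj <| op U₂)))) :=
    ⟨((1 : Γ(X, U₁)), (0 : Γ(X, U₂))), Subsingleton.elim (α := Γ(X, U₁ ⊓ U₂)) _ _⟩
  obtain ⟨e₀, he₀⟩ : ∃ e₀ : Γ(X, U₁ ⊔ U₂), e₀ = (X.sheaf.objSupIsoProdEqLocus U₁ U₂).inv x :=
    ⟨_, rfl⟩
  have h1 : X.presheaf.map (homOfLE (le_sup_left : U₁ ≤ U₁ ⊔ U₂)).op e₀ = 1 := by
    rw [he₀]; exact X.sheaf.objSupIsoProdEqLocus_inv_fst U₁ U₂ x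
  have h2 : X.presheaf.map (homOfLE (le_sup_right : U₂ ≤ U₁ ⊔ U₂)).op e₀ = 0 := by
    rw [he₀]; exact X.sheaf.objSupIsoProdEqLocus_inv_snd U₁ U₂ x
  have htop : (⊤ : X.Opens) ≤ U₁ ⊔ U₂ := hcov.ge
  obtain ⟨e, he⟩ : ∃ e : Γ(X, ⊤), e = X.presheaf.map (homOfLE htop).op e₀ := ⟨_, rfl⟩
  refine ⟨e, ?_, ?_⟩
  · rw [he, ← h1, ← ConcreteCategory.comp_apply, ← Functor.map_comp]; rfl
  · rw [he, ← h2, ← ConcreteCategory.comp_apply, ← Functor.map_comp]; rfl

/-- If a nonzero ring of sections over an open `s` has `1 = 0` then `s` is empty. -/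
theorem eq_empty_of_one_eq_zero {X : Scheme.{u}} (U : X.Opens) (h : (1 : Γ(X, U)) = 0) :
    (U : Set X) = ∅ := by
  have h3 := Scheme.basicOpen_of_isUnit X (U := U) isUnit_one
  rw [h, Scheme.basicOpen_zero] at h3
  have h4 := congrArg (fun U : X.Opens => (U : Set X)) h3
  simpa using h4.symm

/-- A scheme whose ring of global sections is a domain is connected. -/
theorem connectedSpace_of_isDomain (X : Scheme.{u}) [IsDomain Γ(X, ⊤)] : ConnectedSpace X := by
  rw [connectedSpace_iff_clopen]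
  refine ⟨?_, ?_⟩
  · by_contra h
    rw [not_nonempty_iff] at h
    have htb : (⊤ : X.Opens) = ⊥ := by
      ext x
      exact (h.false x).elim
    have hs : Subsingleton Γ(X, ⊤) := by rw [htb]; infer_instance
    exact false_of_nontrivial_of_subsingleton Γ(X, ⊤)
  · intro s hs
    obtain ⟨e, he1, he2⟩ := exists_section_one_zero (X := X) ⟨s, hs.isOpen⟩
      ⟨sᶜ, hs.compl.isOpen⟩ (by ext x; simp) (by ext x; simp)
    have hmul : e * (1 - e) = 0 := by
      refine TopCat.Sheaf.eq_of_locally_eq₂ X.sheaf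
        (homOfLE (le_top : (⟨s, hs.isOpen⟩ : X.Opens) ≤ ⊤))
        (homOfLE (le_top : (⟨sᶜ, hs.compl.isOpen⟩ : X.Opens) ≤ ⊤))
        (by intro x _; by_cases hx : x ∈ s
            · exact Or.inl hx
            · exact Or.inr hx) _ _ ?_ ?_
      · change X.presheaf.map _ (e * (1 - e)) = X.presheaf.map _ 0
        rw [map_mul, map_sub, map_one, he1, map_zero, sub_self, mul_zero]
      · change X.presheaf.map _ (e * (1 - e)) = X.presheaf.map _ 0
        rw [map_mul, he2, map_zero, zero_mul]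
    rcases mul_eq_zero.mp hmul with h0 | h1
    · left
      subst h0
      rw [map_zero] at he1
      exact eq_empty_of_one_eq_zero (X := X) ⟨s, hs.isOpen⟩ he1.symm
    · right
      have h1' : e = 1 := (sub_eq_zero.mp h1).symm
      subst h1'
      rw [map_one] at he2
      have := eq_empty_of_one_eq_zero (X := X) ⟨sᶜ, hs.compl.isOpen⟩ he2
      simp only [Opens.coe_mk] at this
      exact Set.compl_empty_iff.mp this

/-- A domain that is integrally closed in some field extension is integrally closed. -/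
theorem isIntegrallyClosed_of_isIntegrallyClosedIn_field (B L : Type*) [CommRing B] [IsDomain B]
    [Field L] [Algebra B L] (h : IsIntegrallyClosedIn B L) : IsIntegrallyClosed B := by
  have hinj : Function.Injective (algebraMap B L) := (isIntegrallyClosedIn_iff.mp h).1
  haveI : FaithfulSMul B L := (faithfulSMul_iff_algebraMap_injective _ _).mpr hinj
  let φ : FractionRing B →ₐ[B] L := IsFractionRing.liftAlgHom (K := FractionRing B) (g := Algebra.ofId B L) hinj
  exact AlgHom.isIntegrallyClosedIn φ φ.toRingHom.injective h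

theorem result (k : Type u) [Field k]
    (X Xt : Scheme.{u}) [X.Over (Spec (CommRingCat.of k))] [Xt.Over (Spec (CommRingCat.of k))]
    [IsIntegral X] [IsSeparated (X ↘ Spec (CommRingCat.of k))]
    [LocallyOfFiniteType (X ↘ Spec (CommRingCat.of k))] [QuasiCompact (X ↘ Spec (CommRingCat.of k))]
    (f : Xt ⟶ X) (hf : f ≫ (X ↘ Spec (CommRingCat.of k)) = Xt ↘ Spec (CommRingCat.of k)) [IsProper f]
    (U : X.Opens) (hU : (U : Set X).Nonempty) (hbir : IsIso (f ∣_ U))
    (hfib : ∀ V : X.Opens, IsIso (f.app V))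
    (hXt : Pi1.IsNormalScheme Xt) : Pi1.IsNormalScheme X := by
  -- `Xt` is Noetherian
  haveI : LocallyOfFiniteType (Xt ↘ Spec (CommRingCat.of k)) := by
    rw [← hf]; infer_instance
  haveI : QuasiCompact (Xt ↘ Spec (CommRingCat.of k)) := by
    rw [← hf]; infer_instance
  haveI : IsLocallyNoetherian Xt :=
    LocallyOfFiniteType.isLocallyNoetherian (Xt ↘ Spec (CommRingCat.of k))
  haveI : CompactSpace Xt :=
    QuasiCompact.compactSpace_of_compactSpace (Xt ↘ Spec (CommRingCat.of k))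
  haveI : IsNoetherian Xt := {}
  -- `Xt` is connected
  haveI hiso := hfib ⊤
  let e₀ : Γ(X, ⊤) ≃+* Γ(Xt, ⊤) := (asIso (f.app ⊤)).commRingCatIsoToRingEquiv
  haveI : Nonempty (⊤ : X.Opens) := ⟨⟨Classical.arbitrary X, trivial⟩⟩
  haveI : IsDomain Γ(X, ⊤) := IsIntegral.component_integral ⊤
  haveI : IsDomain Γ(Xt, ⊤) := e₀.symm.toMulEquiv.isDomain _
  haveI : ConnectedSpace Xt := connectedSpace_of_isDomain Xt
  -- `Xt` is integral
  haveI : IrreducibleSpace Xt :=
    Groth.Agent.Lib.Helper4.EtNormalSch.irreducibleSpace_of_connected (fun t => (hXt t).1)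
      finite_irreducibleComponents_of_isNoetherian
  haveI : ∀ y : Xt, _root_.IsReduced (Xt.presheaf.stalk y) := fun y => by
    haveI := (hXt y).1
    infer_instance
  haveI : IsReduced Xt := isReduced_of_isReduced_stalk Xt
  haveI : IsIntegral Xt := isIntegral_of_irreducibleSpace_of_isReduced Xt
  intro x
  refine ⟨inferInstance, ?_⟩
  obtain ⟨_, ⟨V, hV, rfl⟩, hxV, -⟩ := X.isBasis_affineOpens.exists_subset_of_mem_open
    (Set.mem_univ x) isOpen_univ
  haveI : Nonempty V := ⟨⟨x, hxV⟩⟩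
  haveI : IsDomain Γ(X, V) := IsIntegral.component_integral V
  haveI := hfib V
  let eV : Γ(X, V) ≃+* Γ(Xt, f ⁻¹ᵁ V) := (asIso (f.app V)).commRingCatIsoToRingEquiv
  -- `W = f⁻¹ V` is nonempty
  have hWne : Nonempty (f ⁻¹ᵁ V) := by
    by_contra h
    rw [not_nonempty_iff] at h
    have hbot : f ⁻¹ᵁ V = ⊥ := by
      ext y
      simp only [Opens.coe_bot, Set.mem_empty_iff_false, iff_false]
      intro hy
      exact h.false ⟨y, hy⟩
    have hs : Subsingleton Γ(Xt, f ⁻¹ᵁ V) := by rw [hbot]; infer_instance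
    have : Subsingleton Γ(X, V) := eV.injective.subsingleton
    exact false_of_nontrivial_of_subsingleton Γ(X, V)
  -- sections over `W` are integrally closed
  have hWnorm : Pi1.IsNormalScheme (f ⁻¹ᵁ V).toScheme :=
    Groth.Agent.Lib.Helper4.EtNormalSch.isNormalScheme_of_etale hXt (f ⁻¹ᵁ V).ι
  have hcl := Groth.Agent.Lib.Helper4.NormGlobal.isIntegrallyClosedIn_top_functionField
    (f ⁻¹ᵁ V).toScheme hWnorm
  haveI : Nonempty (⊤ : (f ⁻¹ᵁ V).toScheme.Opens) :=
    ⟨⟨Classical.arbitrary _, trivial⟩⟩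
  haveI : IsDomain Γ((f ⁻¹ᵁ V).toScheme, ⊤) := IsIntegral.component_integral ⊤
  have hic1 : IsIntegrallyClosed Γ((f ⁻¹ᵁ V).toScheme, ⊤) :=
    isIntegrallyClosed_of_isIntegrallyClosedIn_field _ _ hcl
  let eW : Γ((f ⁻¹ᵁ V).toScheme, ⊤) ≃+* Γ(Xt, f ⁻¹ᵁ V) :=
    (f ⁻¹ᵁ V).topIso.commRingCatIsoToRingEquiv
  haveI hic2 : IsIntegrallyClosed Γ(X, V) :=
    IsIntegrallyClosed.of_equiv (eW.trans eV.symm)
  -- the stalk is a localization of `Γ(X, V)`
  letI := TopCat.Presheaf.algebra_section_stalk X.presheaf ⟨x, hxV⟩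
  haveI hloc := hV.isLocalization_stalk ⟨x, hxV⟩
  haveI := (hV.primeIdealOf ⟨x, hxV⟩).isPrime
  exact isIntegrallyClosed_of_isLocalization (X.presheaf.stalk x)
    (hV.primeIdealOf ⟨x, hxV⟩).asIdeal.primeCompl
    (Ideal.primeCompl_le_nonZeroDivisors _)

end Groth.Agent.S20014
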