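-- Statement S20016: integral closedness of O_X in O_{X°} ascends along étale morphisms.
import Groth.Statements.S20016
import Groth.Agent.S18743
import Groth.Agent.R2.H99IntClosEtale

set_option autoImplicit false
set_option linter.style.haveILetI false
universe u
open CategoryTheory AlgebraicGeometry TopologicalSpace Opposite
open ModPair

namespace Groth.Agent.S20016

/-- composition of restriction maps -/
theorem res_res {Y : Scheme.{u}} {A B C : Y.Opens} (i : B ⟶ A) (j : C ⟶ B) (s : Γ(Y, A)) :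
    (Y.presheaf.map j.op).hom ((Y.presheaf.map i.op).hom s) =
      (Y.presheaf.map (homOfLE ((leOfHom j).trans (leOfHom i))).op).hom s := by
  rw [← CommRingCat.comp_apply, ← Functor.map_comp]
  rfl

/-- Restriction to an open containing the trace of a scheme-theoretically dense quasi-compact open
is injective. -/
theorem res_injective {Y : Scheme.{u}} (O : Y.Opens) [QuasiCompact O.ι]
    [IsSchemeTheoreticallyDominant O.ι] (W W' : Y.Opens) (hle : W' ≤ W) (hW' : W ⊓ O ≤ W') :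
    Function.Injective (Y.presheaf.map (homOfLE hle).op).hom := by
  have hinj := O.ι.app_injective W
  have hle2 : O.ι ''ᵁ O.ι ⁻¹ᵁ W ≤ W' := by
    refine le_trans ?_ hW'
    rintro _ ⟨z, hz, rfl⟩
    exact ⟨hz, z.2⟩
  intro a b hab
  apply hinj
  have h1 := congrArg (Y.presheaf.map (homOfLE hle2).op).hom hab
  rw [res_res, res_res] at h1
  exact h1

/-- Integral elements restrict to integral elements. -/
theorem isIntegralElem_res {Y : Scheme.{u}} {A A' B B' : Y.Opens} (hA : A' ≤ A) (hB : B' ≤ B)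
    (hAB : B ≤ A) (hAB' : B' ≤ A') (t : Γ(Y, B))
    (ht : (Y.presheaf.map (homOfLE hAB).op).hom.IsIntegralElem t) :
    (Y.presheaf.map (homOfLE hAB').op).hom.IsIntegralElem
      ((Y.presheaf.map (homOfLE hB).op).hom t) := by
  obtain ⟨p, hp, hpt⟩ := ht
  refine ⟨p.map (Y.presheaf.map (homOfLE hA).op).hom, hp.map _, ?_⟩
  rw [Polynomial.eval₂_map]
  have hcomp : (Y.presheaf.map (homOfLE hAB').op).hom.comp (Y.presheaf.map (homOfLE hA).op).hom =
      (Y.presheaf.map (homOfLE hB).op).hom.comp (Y.presheaf.map (homOfLE hAB).op).hom := by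
    rw [← CommRingCat.hom_comp, ← CommRingCat.hom_comp, ← Functor.map_comp, ← Functor.map_comp]
    rfl
  rw [hcomp, ← Polynomial.hom_eval₂, hpt, map_zero]

theorem main {X Y : Scheme.{u}}
    (IX : X.IdealSheafData) (hX : BlowUp.IsEffCartierIdeal IX)
    (hint : ∀ U ∈ X.affineOpens, ∀ s : Γ(X, U ⊓ ModPair.interior IX),
      (X.presheaf.map (homOfLE (inf_le_left : U ⊓ ModPair.interior IX ≤ U)).op).hom.IsIntegralElem s →
        s ∈ Set.range (X.presheaf.map (homOfLE (inf_le_left : U ⊓ ModPair.interior IX ≤ U)).op).hom)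
    (g : Y ⟶ X) [Etale g] (O : Y.Opens) (hO : O = g ⁻¹ᵁ ModPair.interior IX) :
    ∀ V ∈ Y.affineOpens, ∀ t : Γ(Y, V ⊓ O),
      (Y.presheaf.map (homOfLE (inf_le_left : V ⊓ O ≤ V)).op).hom.IsIntegralElem t →
        t ∈ Set.range (Y.presheaf.map (homOfLE (inf_le_left : V ⊓ O ≤ V)).op).hom := by
  intro V hV t ht
  haveI hqc : QuasiCompact O.ι := hO ▸ Groth.Agent.S18732.quasiCompact_ι IX hX g
  haveI hdom : IsSchemeTheoreticallyDominant O.ι := by
    have := Groth.Agent.S18743.isSchemeTheoreticallyDominant_interior (IX.comap g)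
      (Groth.Agent.S10855.result g IX hX)
    rwa [Groth.Agent.S18743.interior_comap, ← hO] at this
  -- local step
  have hloc : ∀ y : V, ∃ V' : Y.Opens, ∃ hV'V : V' ≤ V, y.1 ∈ V' ∧ ∃ s : Γ(Y, V'),
      (Y.presheaf.map (homOfLE (inf_le_left : V' ⊓ O ≤ V')).op).hom s =
        (Y.presheaf.map (homOfLE (inf_le_inf_right O hV'V : V' ⊓ O ≤ V ⊓ O)).op).hom t := by
    rintro ⟨y, hyV⟩
    obtain ⟨U, hxU, f, hf0, hfI⟩ := hX (g y)
    obtain ⟨_, ⟨V', hV', rfl⟩, hyV', hV'le⟩ := Y.isBasis_affineOpens.exists_subset_of_mem_open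
      (show y ∈ ((V ⊓ g ⁻¹ᵁ U.1 : Y.Opens) : Set Y) from ⟨hyV, hxU⟩) (V ⊓ g ⁻¹ᵁ U.1).isOpen
    have hV'V : V' ≤ V := fun z hz => (hV'le hz).1
    have hV'U : V' ≤ g ⁻¹ᵁ U.1 := fun z hz => (hV'le hz).2
    refine ⟨V', hV'V, hyV', ?_⟩
    have h1 : V' ⊓ O = Y.basicOpen ((g.appLE U.1 V' hV'U).hom f) := by
      rw [hO, inf_comm]
      exact Groth.Agent.S18732.preimage_interior_inf_eq_basicOpen IX g ⟨V', hV'⟩ U hV'U f hfI
    have h2 : U.1 ⊓ ModPair.interior IX = X.basicOpen f := by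
      rw [inf_comm]
      exact Groth.Agent.S18743.interior_inf_eq_basicOpen IX U f hfI
    have hOle : V' ⊓ O ≤ g ⁻¹ᵁ (U.1 ⊓ ModPair.interior IX) := by
      rw [hO]
      exact fun z hz => ⟨hV'U hz.1, hz.2⟩
    -- the algebra structures
    letI algRS : Algebra Γ(X, U.1) Γ(Y, V') := (g.appLE U.1 V' hV'U).hom.toAlgebra
    letI algRRo : Algebra Γ(X, U.1) Γ(X, U.1 ⊓ ModPair.interior IX) :=
      (X.presheaf.map (homOfLE (inf_le_left : U.1 ⊓ ModPair.interior IX ≤ U.1)).op).hom.toAlgebra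
    letI algSSo : Algebra Γ(Y, V') Γ(Y, V' ⊓ O) :=
      (Y.presheaf.map (homOfLE (inf_le_left : V' ⊓ O ≤ V')).op).hom.toAlgebra
    letI algRoSo : Algebra Γ(X, U.1 ⊓ ModPair.interior IX) Γ(Y, V' ⊓ O) :=
      (g.appLE (U.1 ⊓ ModPair.interior IX) (V' ⊓ O) hOle).hom.toAlgebra
    letI algRSo : Algebra Γ(X, U.1) Γ(Y, V' ⊓ O) :=
      ((algebraMap Γ(Y, V') Γ(Y, V' ⊓ O)).comp (algebraMap Γ(X, U.1) Γ(Y, V'))).toAlgebra
    haveI : IsScalarTower Γ(X, U.1) Γ(Y, V') Γ(Y, V' ⊓ O) := IsScalarTower.of_algebraMap_eq' rfl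
    haveI : IsScalarTower Γ(X, U.1) Γ(X, U.1 ⊓ ModPair.interior IX) Γ(Y, V' ⊓ O) := by
      apply IsScalarTower.of_algebraMap_eq'
      show (Y.presheaf.map (homOfLE (inf_le_left : V' ⊓ O ≤ V')).op).hom.comp
          (g.appLE U.1 V' hV'U).hom =
        (g.appLE (U.1 ⊓ ModPair.interior IX) (V' ⊓ O) hOle).hom.comp
          (X.presheaf.map (homOfLE (inf_le_left : U.1 ⊓ ModPair.interior IX ≤ U.1)).op).hom
      rw [← CommRingCat.hom_comp, ← CommRingCat.hom_comp, Scheme.Hom.appLE_map,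
        Scheme.Hom.map_appLE]
    haveI : Algebra.Etale Γ(X, U.1) Γ(Y, V') := g.etale_appLE U.2 hV' hV'U
    haveI : IsLocalization.Away f Γ(X, U.1 ⊓ ModPair.interior IX) :=
      U.2.isLocalization_of_eq_basicOpen f (homOfLE inf_le_left) h2
    haveI : IsLocalization.Away (algebraMap Γ(X, U.1) Γ(Y, V') f) Γ(Y, V' ⊓ O) :=
      hV'.isLocalization_of_eq_basicOpen _ (homOfLE inf_le_left) h1
    have hR : ∀ a : Γ(X, U.1 ⊓ ModPair.interior IX), IsIntegral Γ(X, U.1) a →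
        a ∈ Set.range (algebraMap Γ(X, U.1) Γ(X, U.1 ⊓ ModPair.interior IX)) :=
      fun a ha => hint U.1 U.2 a ha
    have ht' : IsIntegral Γ(Y, V')
        ((Y.presheaf.map (homOfLE (inf_le_inf_right O hV'V : V' ⊓ O ≤ V ⊓ O)).op).hom t) :=
      isIntegralElem_res hV'V (inf_le_inf_right O hV'V) inf_le_left inf_le_left t ht
    obtain ⟨s, hs⟩ := Groth.Agent.R2.H99.IntClosEtale.mem_range_of_isIntegral_of_smooth f hR _ ht'
    exact ⟨s, hs⟩
  choose V' hV'V hyV' s hs using hloc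
  -- gluing
  have hcover : V ≤ iSup V' := fun y hy => Opens.mem_iSup.mpr ⟨⟨y, hy⟩, hyV' ⟨y, hy⟩⟩
  have hcompat : TopCat.Presheaf.IsCompatible Y.sheaf.1 V' s := by
    intro i j
    apply res_injective O (V' i ⊓ V' j) (V' i ⊓ V' j ⊓ O) inf_le_left le_rfl
    have e1 : (Y.presheaf.map (homOfLE (inf_le_left : V' i ⊓ V' j ⊓ O ≤ V' i ⊓ V' j)).op).hom
        ((Y.presheaf.map (Opens.infLELeft (V' i) (V' j)).op).hom (s i)) =
        (Y.presheaf.map (homOfLE (show V' i ⊓ V' j ⊓ O ≤ V ⊓ O from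
          inf_le_inf_right O (inf_le_left.trans (hV'V i)))).op).hom t := by
      have h3 : V' i ⊓ V' j ⊓ O ≤ V' i ⊓ O := inf_le_inf_right O inf_le_left
      rw [← res_res (homOfLE (inf_le_inf_right O (hV'V i))) (homOfLE h3) t, ← hs i, res_res,
        res_res]
    have e2 : (Y.presheaf.map (homOfLE (inf_le_left : V' i ⊓ V' j ⊓ O ≤ V' i ⊓ V' j)).op).hom
        ((Y.presheaf.map (Opens.infLERight (V' i) (V' j)).op).hom (s j)) =
        (Y.presheaf.map (homOfLE (show V' i ⊓ V' j ⊓ O ≤ V ⊓ O from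
          inf_le_inf_right O (inf_le_left.trans (hV'V i)))).op).hom t := by
      have h3 : V' i ⊓ V' j ⊓ O ≤ V' j ⊓ O := inf_le_inf_right O inf_le_right
      rw [← res_res (homOfLE (inf_le_inf_right O (hV'V j))) (homOfLE h3) t, ← hs j, res_res,
        res_res]
    exact e1.trans e2.symm
  have hglue : ∃ S : Γ(Y, V), ∀ i, (Y.presheaf.map (homOfLE (hV'V i)).op).hom S = s i := by
    obtain ⟨S, hS, -⟩ := Y.sheaf.existsUnique_gluing' V' V (fun i => homOfLE (hV'V i)) hcover s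
      hcompat
    exact ⟨S, hS⟩
  obtain ⟨S, hS⟩ := hglue
  refine ⟨S, ?_⟩
  -- check the restriction locally
  refine TopCat.Sheaf.eq_of_locally_eq' Y.sheaf (fun i => V' i ⊓ O) (V ⊓ O)
    (fun i => homOfLE (inf_le_inf_right O (hV'V i))) ?_ _ _ ?_
  · rintro y ⟨hy1, hy2⟩
    exact Opens.mem_iSup.mpr ⟨⟨y, hy1⟩, hyV' ⟨y, hy1⟩, hy2⟩
  · intro i
    have hSi : (Y.presheaf.map (homOfLE (hV'V i)).op).hom S = s i := hS i
    show (Y.presheaf.map (homOfLE (inf_le_inf_right O (hV'V i))).op).hom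
        ((Y.presheaf.map (homOfLE (inf_le_left : V ⊓ O ≤ V)).op).hom S) =
      (Y.presheaf.map (homOfLE (inf_le_inf_right O (hV'V i))).op).hom t
    rw [← hs i, ← hSi, res_res, res_res]

theorem result {X Y : Scheme.{u}}
    (IX : X.IdealSheafData) (hX : BlowUp.IsEffCartierIdeal IX)
    (hint : ∀ U ∈ X.affineOpens, ∀ s : Γ(X, U ⊓ ModPair.interior IX),
      (X.presheaf.map (homOfLE (inf_le_left : U ⊓ ModPair.interior IX ≤ U)).op).hom.IsIntegralElem s →
        s ∈ Set.range (X.presheaf.map (homOfLE (inf_le_left : U ⊓ ModPair.interior IX ≤ U)).op).hom)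
    (g : Y ⟶ X) [Etale g] :
    ∀ V ∈ Y.affineOpens, ∀ t : Γ(Y, V ⊓ g ⁻¹ᵁ ModPair.interior IX),
      (Y.presheaf.map (homOfLE (inf_le_left : V ⊓ g ⁻¹ᵁ ModPair.interior IX ≤ V)).op).hom.IsIntegralElem t →
        t ∈ Set.range (Y.presheaf.map (homOfLE (inf_le_left : V ⊓ g ⁻¹ᵁ ModPair.interior IX ≤ V)).op).hom :=
  main IX hX hint g _ rfl

end Groth.Agent.S20016
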