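import Groth.Statements.S2058
-- import your own Groth.Agent.* helpers here
import Groth.Agent.R2.H10KollarB

set_option autoImplicit false
universe u
open CAlg

namespace Groth.Agent.S2058

/-- Let R be a Noetherian local ring which is not Artinian, is not a regular local ring of dimension
one, and has depth at most one. Then there is a finite ring map R → R' with R' ≠ 0, not bijective,
whose kernel and cokernel are killed by a power of the maximal ideal of R, such that the maximal
ideal of R is not an associated prime of the R-module R'. (This says that the four cases for a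
Noetherian local ring — Artinian, regular of dimension one, depth at least two, or admitting such a
map — cover everything; that they are mutually exclusive is not asserted.) -/
theorem result {R : Type u} [CommRing R] [IsLocalRing R] [IsNoetherianRing R]
    (h1 : ¬ IsArtinianRing R) (h2 : ¬ (IsRegularLocalRing R ∧ ringKrullDim R = 1))
    (h3 : LocCoh.depth R R ≤ 1) :
    ∃ (R' : Type u) (_ : CommRing R') (_ : Algebra R R'), Nontrivial R' ∧ Module.Finite R R' ∧
      ¬ Function.Bijective (algebraMap R R') ∧
      (∃ n : ℕ, (∀ x : R, algebraMap R R' x = 0 → ∀ a ∈ IsLocalRing.maximalIdeal R ^ n, a * x = 0) ∧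
        (∀ y : R', ∀ a ∈ IsLocalRing.maximalIdeal R ^ n, a • y ∈ Set.range (algebraMap R R'))) ∧
      IsLocalRing.maximalIdeal R ∉ associatedPrimes R R' := by
  by_cases hreg : ∃ x ∈ IsLocalRing.maximalIdeal R, IsSMulRegular R x
  · obtain ⟨x, hxm, hxreg⟩ := hreg
    have hnr : ∀ t ∈ IsLocalRing.maximalIdeal R, ¬ IsSMulRegular (QuotSMulTop x R) t := by
      intro t ht hreg_t
      have hw : RingTheory.Sequence.IsWeaklyRegular R [x, t] := by
        rw [RingTheory.Sequence.isWeaklyRegular_cons_iff]
        refine ⟨hxreg, ?_⟩
        rw [RingTheory.Sequence.isWeaklyRegular_cons_iff]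
        exact ⟨hreg_t, RingTheory.Sequence.IsWeaklyRegular.nil _ _⟩
      have := Groth.Agent.R2.H10.KollarA.length_le_one_of_depth h3 [x, t] hw (by
        intro r hr
        simp only [List.mem_cons, List.not_mem_nil, or_false] at hr
        rcases hr with rfl | rfl
        · exact hxm
        · exact ht)
      simp at this
    obtain ⟨ybar, hy0, hykill⟩ :=
      Groth.Agent.R2.H10.KollarA.exists_ne_zero_killed (QuotSMulTop x R) hnr
    obtain ⟨y, rfl⟩ := Submodule.Quotient.mk_surjective _ ybar
    have hxnzd : x ∈ nonZeroDivisors R := by
      rw [mem_nonZeroDivisors_iff_right]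
      intro z hz
      apply hxreg
      show x • z = x • 0
      rw [smul_zero, smul_eq_mul, mul_comm]
      exact hz
    apply Groth.Agent.R2.H10.KollarB.caseB h1 h2 x hxm hxnzd y
    · intro r hyr
      apply hy0
      rw [Submodule.Quotient.mk_eq_zero, Submodule.mem_smul_pointwise_iff_exists]
      exact ⟨r, trivial, hyr.symm⟩
    · intro a ha
      have h := hykill a ha
      rw [← Submodule.Quotient.mk_smul, Submodule.Quotient.mk_eq_zero,
        Submodule.mem_smul_pointwise_iff_exists] at h
      obtain ⟨b, _, hb⟩ := h
      exact ⟨b, hb.symm⟩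
  · push Not at hreg
    obtain ⟨y, hy0, hy⟩ := Groth.Agent.R2.H10.KollarA.exists_ne_zero_killed R hreg
    exact Groth.Agent.R2.H10.KollarA.caseA h1 y hy0 (fun a ha => hy a ha)

end Groth.Agent.S2058
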