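import Groth.Statements.S2079
import Mathlib
import Groth.Agent.S7380
import Groth.Agent.R2.H87LimProperB

set_option autoImplicit false
universe u
open CategoryTheory AlgebraicGeometry
open Lim

namespace Groth.Agent.S2079

/-- Let `f : X → S` be proper with `S` quasi-compact and quasi-separated. Then `X` is the limit of a
cofiltered diagram of `S`-schemes which are proper and of finite presentation over `S`, with all
transition morphisms and all projections `X → X_i` closed immersions. -/
theorem result {X S : Scheme.{u}} (f : X ⟶ S) [IsProper f] [CompactSpace S]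
    [QuasiSeparatedSpace S] :
    ∃ (I : Type u) (_ : SmallCategory I) (_ : IsCofiltered I) (D : I ⥤ Over S) (c : Limits.Cone D)
      (_ : Limits.IsLimit c) (e : c.pt ≅ Over.mk f),
      (∀ (i j : I) (a : i ⟶ j), IsClosedImmersion (D.map a).left) ∧
      (∀ i, IsClosedImmersion (c.π.app i).left ∧ IsProper (D.obj i).hom ∧
        LocallyOfFinitePresentation (D.obj i).hom) := by
  classical
  have hXc : CompactSpace X := QuasiCompact.compactSpace_of_compactSpace f
  have hXq : QuasiSeparatedSpace X := quasiSeparatedSpace_of_quasiSeparated f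
  obtain ⟨I, pI, hdir, hne, D, c, hc, hD, hcl, ⟨e⟩⟩ := Groth.Agent.S7380.result f
  have hcof : IsCofiltered Iᵒᵖ := inferInstance
  have hprop : IsProper c.pt.hom := by
    have h : c.pt.hom = e.hom.left ≫ f := (Over.w e.hom).symm
    have : IsIso e.hom.left := inferInstanceAs (IsIso ((Over.forget S).map e.hom))
    rw [h]; infer_instance
  obtain ⟨i₂, h₂⟩ := Groth.Agent.R2.H87.LimProperB.eventually_isProper D c hc hcl
    (fun i => ⟨by have := (hD i).1; infer_instance, (hD i).2.2.2.1, (hD i).2.2.2.2⟩)
  refine ⟨Over i₂, inferInstance, inferInstance, Over.forget i₂ ⋙ D, c.whisker (Over.forget i₂),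
    (Functor.Initial.isLimitWhiskerEquiv (Over.forget i₂) c).symm hc, e, ?_, ?_⟩
  · intro k l a
    exact hcl _ _ _
  · intro k
    exact ⟨(h₂ k.left k.hom).2, (h₂ k.left k.hom).1, (hD k.left).1⟩

end Groth.Agent.S2079
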