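import Groth.Statements.S2088
import Groth.Agent.R2.H51GonflD

set_option autoImplicit false
set_option linter.style.haveILetI false
universe u
open CAlg

namespace Groth.Agent.S2088

open Groth.Agent.R2.H51.Gonfl IsLocalRing

/-- Let `(R, 𝔪, k)` be a local ring and `K/k` a field extension. Then there is a flat local homomorphism
of local rings `R → R'` with `𝔪R' = 𝔪_{R'}` whose residue field is isomorphic to `K` over `k`. -/
theorem result {R K : Type u} [CommRing R] [IsLocalRing R] [Field K]
    [Algebra (IsLocalRing.ResidueField R) K] :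
    ∃ (R' : Type u) (_ : CommRing R') (_ : IsLocalRing R') (_ : Algebra R R') (_ : IsLocalHom (algebraMap R R')),
      Module.Flat R R' ∧ (IsLocalRing.maximalIdeal R).map (algebraMap R R') = IsLocalRing.maximalIdeal R' ∧
      Nonempty (IsLocalRing.ResidueField R' ≃ₐ[IsLocalRing.ResidueField R] K) := by
  letI : Algebra R K :=
    ((algebraMap (ResidueField R) K).comp (algebraMap R (ResidueField R))).toAlgebra
  haveI : IsScalarTower R (ResidueField R) K := IsScalarTower.of_algebraMap_eq fun _ => rfl
  -- Step 1
  obtain ⟨R₁, i1, i2, i3, i4, hflat1, hmax1, ι, hι, halg⟩ := exists_step1 (R := R) (K := K)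
  letI : Algebra (ResidueField R₁) K := ι.toAlgebra
  letI : Algebra R₁ K :=
    ((algebraMap (ResidueField R₁) K).comp (algebraMap R₁ (ResidueField R₁))).toAlgebra
  haveI : IsScalarTower R₁ (ResidueField R₁) K := IsScalarTower.of_algebraMap_eq fun _ => rfl
  haveI : Algebra.IsAlgebraic (ResidueField R₁) K := halg
  -- Step 2
  obtain ⟨iK, hwf⟩ := exists_wellFoundedLT K
  obtain ⟨R', j1, j2, j3, j4, hflat2, hmax2, ⟨e⟩⟩ :=
    exists_of_wellOrdered (R := R₁) (K := K) (σ := K) id Function.surjective_id
  -- composition
  letI : Algebra R R' := ((algebraMap R₁ R').comp (algebraMap R R₁)).toAlgebra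
  haveI : IsScalarTower R R₁ R' := IsScalarTower.of_algebraMap_eq fun _ => rfl
  have hloc : IsLocalHom (algebraMap R R') := by
    show IsLocalHom ((algebraMap R₁ R').comp (algebraMap R R₁))
    exact RingHom.isLocalHom_comp _ _
  refine ⟨R', j1, j2, inferInstance, hloc, Module.Flat.trans R R₁ R', ?_, ⟨?_⟩⟩
  · rw [IsScalarTower.algebraMap_eq R R₁ R', ← Ideal.map_map, hmax1, hmax2]
  · haveI : IsScalarTower (ResidueField R) (ResidueField R₁) K :=
      IsScalarTower.of_algebraMap_eq fun x => (hι x).symm
    exact e.restrictScalars (ResidueField R)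

end Groth.Agent.S2088
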