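import Groth.Statements.S2094
import Groth.Agent.Lib.Helper26SymSmooth
import Groth.Agent.Lib.Helper10SymKaehler

set_option autoImplicit false
universe u
open CAlg

namespace Groth.Agent.S2094

open TensorProduct

/-- If `M` is a finite projective module then its symmetric algebra is smooth. -/
theorem smooth_of_finite_projective {A M : Type u} [CommRing A] [AddCommGroup M] [Module A M]
    [Module.Finite A M] [Module.Projective A M] : Algebra.Smooth A (SymmetricAlgebra A M) := by
  have hsym : IsSymmetricAlgebra (SymmetricAlgebra.ι A M) := SymmetricAlgebra.isSymmetricAlgebra_ι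
  obtain ⟨n, p, hp⟩ := Module.Finite.exists_fin' A M
  obtain ⟨i, hi⟩ := Module.projective_lifting_property p LinearMap.id hp
  exact
    { formallySmooth := Groth.Agent.Lib.Helper26.SymSmooth.formallySmooth hsym
      finitePresentation := Groth.Agent.Lib.Helper26.SymSmooth.finitePresentation hsym i p hi }

/-- If the symmetric algebra is smooth, the module is finite projective. -/
theorem finite_projective_of_smooth {A M : Type u} [CommRing A] [AddCommGroup M] [Module A M]
    [Algebra.Smooth A (SymmetricAlgebra A M)] : Module.Finite A M ∧ Module.Projective A M := by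
  -- the Kaehler differentials of the symmetric algebra
  let S := SymmetricAlgebra A M
  let e : (S ⊗[A] M) ≃ₗ[S] Ω[S⁄A] :=
    LinearEquiv.ofBijective _ (Groth.Agent.Lib.Helper10.kaehler_symmetricAlgebra_bijective A M)
  have hfin : Module.Finite S (S ⊗[A] M) := Module.Finite.equiv e.symm
  have hproj : Module.Projective S (S ⊗[A] M) := Module.Projective.of_equiv e.symm
  -- the augmentation
  let aug : S →ₐ[A] A := SymmetricAlgebra.lift (0 : M →ₗ[A] A)
  letI : Algebra S A := aug.toRingHom.toAlgebra
  haveI : IsScalarTower A S A := IsScalarTower.of_algebraMap_eq fun a => by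
    change a = aug (algebraMap A S a)
    rw [AlgHom.commutes]; rfl
  let e2 : A ⊗[S] (S ⊗[A] M) ≃ₗ[A] A ⊗[A] M :=
    TensorProduct.AlgebraTensorModule.cancelBaseChange A S A A M
  let e3 : A ⊗[S] (S ⊗[A] M) ≃ₗ[A] M := e2.trans (TensorProduct.lid A M)
  exact ⟨Module.Finite.equiv e3, Module.Projective.of_equiv e3⟩

/-- The symmetric algebra of an `A`-module is a smooth `A`-algebra exactly when the module is finite
projective. -/
theorem result {A M : Type u} [CommRing A] [AddCommGroup M] [Module A M] :
    Algebra.Smooth A (SymmetricAlgebra A M) ↔ Module.Finite A M ∧ Module.Projective A M := by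
  constructor
  · intro h
    exact finite_projective_of_smooth
  · rintro ⟨h1, h2⟩
    exact smooth_of_finite_projective

end Groth.Agent.S2094
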