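import Groth.Statements.S2106
import Groth.Agent.R2.H22FibCrit

set_option autoImplicit false
universe u
open CAlg

namespace Groth.Agent.S2106

open Groth.Agent.R2.H22.FibCrit IsLocalRing in
/-- Let `R → S → S'` be local homomorphisms of local rings with `S` and `S'` essentially of finite
presentation over `R`, and `M` a nonzero finitely presented `S'`-module which is flat over `R` and
such that `M/𝔪_R M` is flat over `S/𝔪_R S`. Then `S` is flat over `R` and `M` is flat over `S`. -/
theorem result {R S S' M : Type u} [CommRing R] [CommRing S] [CommRing S']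
    [IsLocalRing R] [IsLocalRing S] [IsLocalRing S'] [Algebra R S] [Algebra S S'] [Algebra R S'] [IsScalarTower R S S']
    [IsLocalHom (algebraMap R S)] [IsLocalHom (algebraMap S S')]
    (hS : CAlgX.IsEssFinitePresentation R S) (hS' : CAlgX.IsEssFinitePresentation R S')
    [AddCommGroup M] [Module S' M] [Module S M] [Module R M] [IsScalarTower S S' M] [IsScalarTower R S' M]
    [IsScalarTower R S M] [Module.FinitePresentation S' M] [Nontrivial M] [Module.Flat R M]
    (hfib : Module.Flat (S ⧸ (IsLocalRing.maximalIdeal R).map (algebraMap R S))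
      (M ⧸ (IsLocalRing.maximalIdeal R).map (algebraMap R S) • (⊤ : Submodule S M))) :
    Module.Flat R S ∧ Module.Flat S M := by
  classical
  have hS'S : CAlgX.IsEssFinitePresentation S S' := isEssFinitePresentation_tower hS hS'
  have hle : (maximalIdeal R).map (algebraMap R S) ≤ maximalIdeal S :=
    ((IsLocalRing.local_hom_TFAE (algebraMap R S)).out 0 2).mp ‹_›
  have hle' : (maximalIdeal S).map (algebraMap S S') ≤ maximalIdeal S' :=
    ((IsLocalRing.local_hom_TFAE (algebraMap S S')).out 0 2).mp ‹_›
  have hTor : Function.Injective ((maximalIdeal S).subtype.lTensor M) :=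
    lTensor_injective_of_le (maximalIdeal R) hfib (maximalIdeal S) hle
  have hflatS : Module.Flat S M :=
    flat_of_essFP_local hS'S (maximalIdeal S) (IsLocalRing.maximalIdeal_comap _) hTor
  have hne : (maximalIdeal S) • (⊤ : Submodule S M) ≠ ⊤ := by
    intro htop
    have h2 : (maximalIdeal S') • (⊤ : Submodule S' M) = ⊤ := by
      rw [eq_top_iff]
      intro m _
      have hm : m ∈ (maximalIdeal S) • (⊤ : Submodule S M) := by
        rw [htop]
        trivial
      have h3 := (mem_map_smul_top_iff' (B := S') (maximalIdeal S) m).mpr hm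
      exact Submodule.smul_mono_left hle' h3
    have h4 := Submodule.eq_bot_of_le_smul_of_le_jacobson_bot (maximalIdeal S')
      (⊤ : Submodule S' M) Module.Finite.fg_top (by rw [h2])
      (IsLocalRing.maximalIdeal_le_jacobson _)
    exact top_ne_bot h4
  have : Module.FaithfullyFlat S M :=
    ⟨fun m hm => by
      rw [IsLocalRing.eq_maximalIdeal hm]
      exact hne⟩
  exact ⟨flat_of_flat_of_faithfullyFlat (M := M), hflatS⟩

end Groth.Agent.S2106
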