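import Groth.Statements.S2147
import Mathlib
import Groth.Agent.S2079
import Groth.Agent.Lib.Helper22NA10
import Groth.Agent.R2.H87LimProperC

set_option autoImplicit false
universe u
open CategoryTheory AlgebraicGeometry
open Lim

namespace Groth.Agent.S2147

/-- Let `f : X → S` be proper with `S` quasi-compact and quasi-separated. Then `f` is a limit of proper
morphisms `f_i : X_i → S_i` with `S_i` of finite type over `ℤ`: there are cofiltered diagrams of
schemes `X_i`, `S_i` with affine transition morphisms, a natural transformation with proper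
components, and limit cones identified with `X` and `S` compatibly with `f`. -/
theorem result {X S : Scheme.{u}} (f : X ⟶ S) [IsProper f] [CompactSpace S]
    [QuasiSeparatedSpace S] :
    ∃ (I : Type u) (_ : SmallCategory I) (_ : IsCofiltered I) (DX DS : I ⥤ Scheme.{u}) (φ : DX ⟶ DS)
      (cX : Limits.Cone DX) (cS : Limits.Cone DS) (_ : Limits.IsLimit cX) (_ : Limits.IsLimit cS)
      (eX : cX.pt ≅ X) (eS : cS.pt ≅ S),
      (∀ (i j : I) (a : i ⟶ j), IsAffineHom (DX.map a) ∧ IsAffineHom (DS.map a)) ∧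
      (∀ i, IsProper (φ.app i) ∧ CompactSpace (DS.obj i) ∧
        LocallyOfFiniteType (Limits.IsTerminal.from specULiftZIsTerminal (DS.obj i))) ∧
      (∀ i, cX.π.app i ≫ φ.app i = eX.hom ≫ f ≫ eS.inv ≫ cS.π.app i) := by
  classical
  -- Step 1: `X` is a closed subscheme of a proper finitely presented `S`-scheme `X'`.
  obtain ⟨I₁, _, _, D₁, c₁, hc₁, e, -, hobj⟩ := Groth.Agent.S2079.result f
  obtain ⟨k₀⟩ := IsCofiltered.nonempty (C := I₁)
  obtain ⟨hcl, hprop, hfp⟩ := hobj k₀
  obtain ⟨p'S, hp'S⟩ : ∃ p'S : (D₁.obj k₀).left ⟶ S, p'S = (D₁.obj k₀).hom := ⟨_, rfl⟩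
  have : IsProper p'S := hp'S ▸ hprop
  have : LocallyOfFinitePresentation p'S := hp'S ▸ hfp
  have hiso : IsIso e.inv.left := inferInstanceAs (IsIso ((Over.forget S).map e.inv))
  obtain ⟨ι', hι'⟩ : ∃ ι' : X ⟶ (D₁.obj k₀).left, ι' = e.inv.left ≫ (c₁.π.app k₀).left := ⟨_, rfl⟩
  have hι'cl : IsClosedImmersion ι' := by
    rw [hι']
    infer_instance
  have hι'f : ι' ≫ p'S = f := by
    rw [hι', hp'S, Category.assoc, Over.w]
    exact Over.w e.inv
  -- Step 2: absolute Noetherian approximation of `S`.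
  obtain ⟨A, pA, DA, cA, hcA, eA, hA⟩ := Groth.Agent.Lib.Helper22.NA10.exists_goodSys S
  have := hA.dir
  have := hA.ne
  have haff : ∀ (i j : Aᵒᵖ) (a : i ⟶ j), IsAffineHom (DA.map a) := fun _ _ a => hA.aff a
  have hcpt := hA.cpt
  have hlft := hA.lft
  have hqs : ∀ x, QuasiSeparatedSpace (DA.obj x) := fun x =>
    Groth.Agent.Lib.Helper22.NA4.quasiSeparatedSpace_of_lft _
  -- Step 3: descend `X' → S` to a stage.
  obtain ⟨p', hp'⟩ : ∃ p' : (D₁.obj k₀).left ⟶ cA.pt, p' = p'S ≫ eA.inv := ⟨_, rfl⟩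
  have : IsProper p' := by rw [hp']; infer_instance
  have : LocallyOfFinitePresentation p' := by rw [hp']; infer_instance
  obtain ⟨j₁, X'₁, p₁, g₁, hp₁, h₁⟩ :=
    Groth.Agent.R2.H87.LimProperC.exists_proper_model DA cA hcA p'
  -- Step 4: the system of scheme-theoretic images.
  obtain ⟨DX, φ, cX, hcX, eX, hDXaff, hφ, hcomm⟩ :=
    Groth.Agent.R2.H87.LimProperC.exists_system DA cA hcA j₁ p₁ p' g₁ h₁ ι'
  refine ⟨Over j₁, inferInstance, inferInstance, DX, Over.forget j₁ ⋙ DA, φ, cX,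
    cA.whisker (Over.forget j₁), hcX,
    (Functor.Initial.isLimitWhiskerEquiv (Over.forget j₁) cA).symm hcA, eX, eA, ?_, ?_, ?_⟩
  · intro b b' u
    exact ⟨hDXaff b b' u, haff _ _ _⟩
  · intro b
    exact ⟨hφ b, hcpt _, hlft _⟩
  · intro b
    rw [hcomm b, hp', ← hι'f]
    simp only [Category.assoc]
    rfl

end Groth.Agent.S2147
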