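import Groth.Statements.S2167
-- import your own Groth.Agent.* helpers here
import Groth.Agent.R2.H10LCIConormal

set_option autoImplicit false
universe u
open LCI

namespace Groth.Agent.S2167

/-- Equivalence of (2) and (3), special case with R already a regular local ring: for a regular local
ring R and a proper ideal I, the ideal I is generated by a regular sequence if and only if the
conormal module I/I^2 can be generated by (dim R - dim R/I) elements, the inequality below being the
additive form of that count. -/
theorem result {R : Type u} [CommRing R] [IsRegularLocalRing R]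
    (I : Ideal R) (hI : I ≠ ⊤) :
    (∃ rs : List R, Ideal.ofList rs = I ∧ RingTheory.Sequence.IsRegular R rs) ↔
      (((⊤ : Submodule (R ⧸ I) I.Cotangent).spanFinrank : WithBot ℕ∞) + ringKrullDim (R ⧸ I)
        ≤ ringKrullDim R) := by
  have hIm : I ≤ IsLocalRing.maximalIdeal R := IsLocalRing.le_maximalIdeal hI
  constructor
  · rintro ⟨rs, rfl, hreg⟩
    have hmem : ∀ x ∈ rs, x ∈ IsLocalRing.maximalIdeal R := fun x hx =>
      hIm (Ideal.subset_span hx)
    have hdim := (Groth.Agent.R2.H10.LCIConormal.isWeaklyRegular_iff_dim rs hmem).mp
      hreg.toIsWeaklyRegular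
    have hle := Groth.Agent.R2.H10.LCIConormal.spanFinrank_cotangent_le rs
    rw [← hdim, add_comm]
    refine add_le_add le_rfl ?_
    exact_mod_cast hle
  · intro h
    obtain ⟨xs, hlen, rfl⟩ := Groth.Agent.R2.H10.LCIConormal.exists_list_ofList_eq I hI
    have hmem : ∀ x ∈ xs, x ∈ IsLocalRing.maximalIdeal R := fun x hx =>
      hIm (Ideal.subset_span hx)
    refine ⟨xs, rfl, ⟨?_, ?_⟩⟩
    · rw [Groth.Agent.R2.H10.LCIConormal.isWeaklyRegular_iff_dim xs hmem]
      apply le_antisymm
      · rw [add_comm, hlen]
        exact h
      · classical
        have h1 := ringKrullDim_le_ringKrullDim_quotient_add_card (R := R) xs.toFinset (by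
          intro y hy
          rw [IsLocalRing.ringJacobson_eq_maximalIdeal]
          exact hmem y (List.mem_toFinset.mp hy))
        have h2 : ((xs.toFinset : Finset R) : Set R) = {r | r ∈ xs} := by
          ext r
          simp
        rw [h2] at h1
        refine h1.trans (add_le_add le_rfl ?_)
        have h3 : xs.toFinset.card ≤ xs.length := List.toFinset_card_le xs
        exact_mod_cast h3
    · rw [Groth.Agent.R2.H10.LCIConormal.smul_top_eq]
      exact fun h => hI h.symm

end Groth.Agent.S2167
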