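import Groth.Statements.S2172
import Groth.Agent.R2.H39GraphLap

set_option autoImplicit false
open Finset
open Models

namespace Groth.Agent.S2172

/-- Let A be a symmetric integer n by n matrix with non-negative off-diagonal entries killing an integer
vector m with positive entries, such that no proper non-empty index set is orthogonal to its
complement. Write e for the number of index pairs i < j where A i j > 0, and let l be a prime
dividing none of the nonzero entries of A and none of the m i. Then the l-torsion subgroup of the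
cokernel of A on Z^n has at most l^(1 - n + e) elements, i.e. F_l-dimension at most 1 - n + e (the
exponent is written with truncated subtraction; e + 1 is never smaller than n here). -/
theorem result {n : ℕ} (A : Matrix (Fin n) (Fin n) ℤ)
    (m : Fin n → ℤ) (hsymm : A.IsSymm) (hA : ∀ i j, i ≠ j → 0 ≤ A i j) (hm : ∀ i, 0 < m i)
    (hAm : A.mulVec m = 0)
    (hconn : ∀ I : Finset (Fin n), I.Nonempty → I ≠ univ → ∃ i ∈ I, ∃ j ∉ I, A i j ≠ 0)
    (ℓ : ℕ) (hℓ : ℓ.Prime) (hℓA : ∀ i j, A i j ≠ 0 → ¬ ((ℓ : ℤ) ∣ A i j))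
    (hℓm : ∀ i, ¬ ((ℓ : ℤ) ∣ m i)) :
    Nat.card (Submodule.torsionBy ℤ ((Fin n → ℤ) ⧸ LinearMap.range (Matrix.mulVecLin A)) (ℓ : ℤ))
      ≤ ℓ ^ ((univ.filter fun p : Fin n × Fin n => p.1 < p.2 ∧ 0 < A p.1 p.2).card + 1 - n) := by
  classical
  have : Fact ℓ.Prime := ⟨hℓ⟩
  rcases Nat.eq_zero_or_pos n with rfl | hn
  · have hsub : Subsingleton (Submodule.torsionBy ℤ
        ((Fin 0 → ℤ) ⧸ LinearMap.range (Matrix.mulVecLin A)) (ℓ : ℤ)) := by
      refine ⟨fun a b => Subtype.ext ?_⟩
      obtain ⟨x, hx⟩ := Submodule.Quotient.mk_surjective _ a.1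
      obtain ⟨y, hy⟩ := Submodule.Quotient.mk_surjective _ b.1
      rw [← hx, ← hy, Subsingleton.elim x y]
    have h1 := (Finite.card_le_one_iff_subsingleton).mpr hsub
    exact h1.trans (Nat.one_le_pow _ _ hℓ.pos)
  · set Ab : Matrix (Fin n) (Fin n) (ZMod ℓ) := A.map (Int.castRingHom (ZMod ℓ)) with hAb
    set mb : Fin n → (ZMod ℓ) := fun i => ((m i : ℤ) : (ZMod ℓ)) with hmb
    have hcast0 : ∀ a : ℤ, ((a : ℤ) : (ZMod ℓ)) = 0 ↔ (ℓ : ℤ) ∣ a := fun a =>
      ZMod.intCast_zmod_eq_zero_iff_dvd a ℓ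
    have hsymmF : ∀ i j, Ab i j = Ab j i := fun i j => by
      simp only [hAb, Matrix.map_apply]; rw [hsymm.apply j i]
    have hmF : ∀ i, mb i ≠ 0 := fun i => by
      simp only [hmb]; rw [Ne, hcast0]; exact hℓm i
    have hred : ∀ v : Fin n → ℤ, Matrix.mulVec Ab (fun i => ((v i : ℤ) : (ZMod ℓ))) =
        fun i => (((Matrix.mulVec A v) i : ℤ) : (ZMod ℓ)) := by
      intro v; funext i
      exact (RingHom.map_mulVec (Int.castRingHom (ZMod ℓ)) A v i).symm
    have hAmF : Matrix.mulVec Ab mb = 0 := by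
      rw [hmb, hred, hAm]; funext i; simp
    set S : Finset (Fin n × Fin n) :=
      univ.filter (fun p : Fin n × Fin n => p.1 < p.2 ∧ 0 < A p.1 p.2) with hS
    have hentry : ∀ i j, Ab i j ≠ 0 ↔ A i j ≠ 0 := by
      intro i j
      simp only [hAb, Matrix.map_apply, Int.coe_castRingHom]
      constructor
      · intro h h0; rw [h0] at h; simp at h
      · intro h; rw [Ne, hcast0]; exact hℓA i j h
    have hS1 : ∀ p ∈ S, p.1 < p.2 ∧ Ab p.1 p.2 ≠ 0 := by
      intro p hp
      simp only [hS, mem_filter, mem_univ, true_and] at hp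
      exact ⟨hp.1, (hentry _ _).mpr (ne_of_gt hp.2)⟩
    have hS2 : ∀ i j, i < j → Ab i j ≠ 0 → (i, j) ∈ S := by
      intro i j hij h
      simp only [hS, mem_filter, mem_univ, true_and]
      exact ⟨hij, lt_of_le_of_ne (hA i j (ne_of_lt hij)) (Ne.symm ((hentry i j).mp h))⟩
    have hconnF : ∀ I : Finset (Fin n), I.Nonempty → I ≠ univ →
        ∃ i ∈ I, ∃ j ∉ I, Ab i j ≠ 0 := by
      intro I h1 h2
      obtain ⟨i, hi, j, hj, hij⟩ := hconn I h1 h2
      exact ⟨i, hi, j, hj, (hentry i j).mpr hij⟩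
    have hdim := Groth.Agent.R2.H39.GraphLap.finrank_ker_add_le Ab hsymmF S hS1 hS2 hconnF mb hmF
      hAmF hn
    have hdim2 := Groth.Agent.R2.H39.GraphLap.finrank_ker_inc_add_le Ab hsymmF S hS2 hconnF hn
    set K := LinearMap.ker Ab.mulVecLin with hK
    have hmK : mb ∈ K := by
      rw [hK, LinearMap.mem_ker, Matrix.mulVecLin_apply]; exact hAmF
    -- representatives
    have hex : ∀ t : Submodule.torsionBy ℤ ((Fin n → ℤ) ⧸ LinearMap.range (Matrix.mulVecLin A)) (ℓ : ℤ),
        ∃ x y : Fin n → ℤ, Submodule.Quotient.mk x = t.1 ∧ Matrix.mulVec A y = (ℓ : ℤ) • x := by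
      intro t
      obtain ⟨x, hx⟩ := Submodule.Quotient.mk_surjective _ t.1
      have ht := (Submodule.mem_torsionBy_iff _ _).mp t.2
      rw [← hx, ← Submodule.Quotient.mk_smul, Submodule.Quotient.mk_eq_zero] at ht
      obtain ⟨y, hy⟩ := ht
      exact ⟨x, y, hx, hy⟩
    choose xs ys hxs hys using hex
    have hredK : ∀ t, (fun i => ((ys t i : ℤ) : (ZMod ℓ))) ∈ K := by
      intro t
      rw [hK, LinearMap.mem_ker, Matrix.mulVecLin_apply, hred, hys]
      funext i
      simp only [Pi.smul_apply, smul_eq_mul, Pi.zero_apply]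
      rw [hcast0]
      exact Dvd.intro _ rfl
    let Φ : (Submodule.torsionBy ℤ ((Fin n → ℤ) ⧸ LinearMap.range (Matrix.mulVecLin A)) (ℓ : ℤ)) × (ZMod ℓ) → K :=
      fun tc => ⟨(fun i => ((ys tc.1 i : ℤ) : (ZMod ℓ))) + tc.2 • mb,
        K.add_mem (hredK tc.1) (K.smul_mem _ hmK)⟩
    have hΦ : Function.Injective Φ := by
      rintro ⟨t, c⟩ ⟨t', c'⟩ h
      have h0 : (fun i => ((ys t i : ℤ) : (ZMod ℓ))) + c • mb = (fun i => ((ys t' i : ℤ) : (ZMod ℓ))) + c' • mb :=
        congrArg Subtype.val h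
      obtain ⟨k, hk⟩ := ZMod.intCast_surjective (c' - c)
      have hz : ∀ i, ∃ z : ℤ, ys t i - ys t' i - k * m i = (ℓ : ℤ) * z := by
        intro i
        have hi := congrFun h0 i
        simp only [Pi.add_apply, Pi.smul_apply, smul_eq_mul, hmb] at hi
        have : (((ys t i - ys t' i - k * m i : ℤ)) : (ZMod ℓ)) = 0 := by
          push_cast
          rw [hk]
          linear_combination hi
        exact (hcast0 _).mp this
      choose z hz using hz
      have hy : ys t = ys t' + k • m + (ℓ : ℤ) • z := by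
        funext i
        simp only [Pi.add_apply, Pi.smul_apply, smul_eq_mul]
        linarith [hz i]
      have hAy : (ℓ : ℤ) • xs t = (ℓ : ℤ) • xs t' + (ℓ : ℤ) • (Matrix.mulVec A z) := by
        rw [← hys t, ← hys t', hy, Matrix.mulVec_add, Matrix.mulVec_add, Matrix.mulVec_smul,
          Matrix.mulVec_smul, hAm, smul_zero, add_zero]
      have hx : xs t = xs t' + Matrix.mulVec A z := by
        funext i
        have := congrFun hAy i
        simp only [Pi.add_apply, Pi.smul_apply, smul_eq_mul] at this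
        have hℓ0 : (ℓ : ℤ) ≠ 0 := by exact_mod_cast hℓ.ne_zero
        have h2 : (ℓ : ℤ) * xs t i = (ℓ : ℤ) * (xs t' i + (Matrix.mulVec A z) i) := by rw [this]; ring
        exact mul_left_cancel₀ hℓ0 h2
      have htt : t = t' := by
        apply Subtype.ext
        rw [← hxs t, ← hxs t', hx, Submodule.Quotient.mk_add]
        have : (Submodule.Quotient.mk (Matrix.mulVec A z) : (Fin n → ℤ) ⧸ LinearMap.range (Matrix.mulVecLin A)) = 0 :=
          (Submodule.Quotient.mk_eq_zero _).mpr ⟨z, rfl⟩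
        rw [this, add_zero]
      subst htt
      have hc : c = c' := by
        have hi := congrFun h0 ⟨0, hn⟩
        simp only [Pi.add_apply, Pi.smul_apply, smul_eq_mul] at hi
        have := add_left_cancel hi
        exact mul_right_cancel₀ (hmF _) this
      rw [hc]
    have hcard := Nat.card_le_card_of_injective Φ hΦ
    rw [Nat.card_prod, Nat.card_zmod, Module.natCard_eq_pow_finrank (K := (ZMod ℓ)) (V := K),
      Nat.card_zmod] at hcard
    have hpow : ℓ ^ Module.finrank (ZMod ℓ) K ≤ ℓ ^ (S.card + 1 - n) * ℓ := by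
      rw [← pow_succ]
      exact Nat.pow_le_pow_right hℓ.pos (by omega)
    exact Nat.le_of_mul_le_mul_right (hcard.trans hpow) hℓ.pos

end Groth.Agent.S2172
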