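import Groth.Statements.S2175
import Groth.Agent.R2.H16NumContr2

set_option autoImplicit false
open Finset
open Models Models.NumericalType

namespace Groth.Agent.S2175

/-- Let T be a numerical type on n + 1 indices whose last index is a (-1)-index. Then the contracted
data (same multiplicities, a i j - a i l a j l / a l l, the halved-or-not w i, and the adjusted g i,
l the last index) is again a numerical type on n indices, and any such contraction has the same
genus as T. -/
theorem result {n : ℕ} (T : Models.NumericalType (n + 1)) (h : T.IsMinusOne (Fin.last n)) :
    (∃ T' : Models.NumericalType n, T.IsContraction T') ∧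
      ∀ T' : Models.NumericalType n, T.IsContraction T' → T'.genus = T.genus :=
  ⟨⟨Groth.Agent.R2.H16.NumContr.contraction T h,
      Groth.Agent.R2.H16.NumContr.isContraction_contraction T h⟩,
    fun T' hT' => Groth.Agent.R2.H16.NumContr.genus_eq_of_isContraction T h T' hT'⟩

end Groth.Agent.S2175
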