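import Groth.Statements.S2180
import Groth.Agent.R2.H16NumContr

set_option autoImplicit false
open Finset
open Models Models.NumericalType

namespace Groth.Agent.S2180

/-- Let T be a numerical type on n + 1 indices whose last index is a (-1)-index and T' a contraction of
it. Then there is an injective homomorphism Pic(T) -> Pic(T') whose cokernel is annihilated by 2. -/
theorem result {n : ℕ} (T : Models.NumericalType (n + 1)) (h : T.IsMinusOne (Fin.last n))
    (T' : Models.NumericalType n) (hT' : T.IsContraction T') :
    ∃ f : T.Pic →+ T'.Pic, Function.Injective f ∧ ∀ y : T'.Pic, ∃ x : T.Pic, 2 • y = f x :=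
  ⟨(Groth.Agent.R2.H16.NumContr.picMap T h T' hT').toAddMonoidHom,
    Groth.Agent.R2.H16.NumContr.picMap_injective T h T' hT',
    fun y => Groth.Agent.R2.H16.NumContr.two_smul_mem T h T' hT' y⟩

end Groth.Agent.S2180
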