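import Groth.Statements.S2187
import Groth.Agent.R2.H77VascA

set_option autoImplicit false
universe u
open CategoryTheory
open LCI

namespace Groth.Agent.S2187

/-- Let R be a Noetherian local ring and I an ideal of finite projective dimension as an R-module. If F
is a direct summand of the conormal module I/I^2 which is isomorphic to R/I, then there is a
nonzerodivisor x in I whose class in I/I^2 generates F. -/
theorem result {R : Type u} [CommRing R]
    [IsNoetherianRing R] [IsLocalRing R] (I : Ideal R) (n : ℕ)
    (hpd : HasProjectiveDimensionLT (ModuleCat.of R I) n)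
    (F G : Submodule (R ⧸ I) I.Cotangent) (hFG : IsCompl F G) (e : F ≃ₗ[R ⧸ I] (R ⧸ I)) :
    ∃ (x : R) (hx : x ∈ I), x ∈ nonZeroDivisors R ∧
      Submodule.span (R ⧸ I) {I.toCotangent ⟨x, hx⟩} = F := by
  by_cases hI : I = ⊤
  · subst hI
    have hsub : Subsingleton (R ⧸ (⊤ : Ideal R)) := Ideal.Quotient.subsingleton_iff.mpr rfl
    have hsubM : Subsingleton (⊤ : Ideal R).Cotangent := Module.subsingleton (R ⧸ (⊤ : Ideal R)) _
    refine ⟨1, Submodule.mem_top, one_mem _, ?_⟩
    have : Subsingleton (Submodule (R ⧸ (⊤ : Ideal R)) (⊤ : Ideal R).Cotangent) :=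
      (Submodule.subsingleton_iff (R ⧸ (⊤ : Ideal R))).mpr hsubM
    exact Subsingleton.elim _ _
  · have hnt : Nontrivial (R ⧸ I) := Ideal.Quotient.nontrivial_iff.mpr hI
    have hF : F ≠ ⊥ := by
      intro h0
      have h1 : (e.symm 1 : F) = 0 := by
        apply Subtype.ext
        have := h0.le (e.symm 1).2
        rw [Submodule.mem_bot] at this
        exact this
      have h2 : (1 : R ⧸ I) = 0 := by
        rw [← e.apply_symm_apply 1, h1, map_zero]
      exact one_ne_zero h2
    obtain ⟨x, hx, hreg, hxF, hxm⟩ :=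
      Groth.Agent.R2.H77.VascA.exists_regular_mem_not_mem_smul I n hpd F hF
    refine ⟨x, hx, ?_, ?_⟩
    · rw [mem_nonZeroDivisors_iff_right]
      intro z hz
      apply hreg
      change x • z = x • 0
      rw [smul_zero, smul_eq_mul, mul_comm]
      exact hz
    · exact Groth.Agent.R2.H77.VascA.span_singleton_eq_of_equiv I hI F e _ hxF hxm

end Groth.Agent.S2187
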