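import Groth.Statements.S2209
import Groth.Agent.R2.H34ModelConn
import Groth.Agent.R2.H40SteinFact
import Groth.Agent.R2.H64SteinST0

set_option autoImplicit false
universe u
open CategoryTheory AlgebraicGeometry
open Models

namespace Groth.Agent.S2209

/-- Let R be a discrete valuation ring with fraction field K, C a smooth proper curve over K whose ring
of global functions is K (the map K -> H^0(C, O_C) is an isomorphism), and X a regular proper model
of C over R. Then the special fibre of X is connected. -/
theorem result (R : Type u) [CommRing R] [IsDomain R]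
    [IsDiscreteValuationRing R] (C X : Scheme.{u})
    (f : C ⟶ Spec (CommRingCat.of (FractionRing R))) (p : X ⟶ Spec (CommRingCat.of R))
    (hC : Curve.IsSmoothProperCurve (FractionRing R) C f) (hH0 : IsIso f.appTop)
    (hX : Models.IsRegularProperModel R X p C f) :
    ConnectedSpace ↥(Models.specialFibre R X p) := by
  obtain ⟨⟨hflat, -, -, g, hsq⟩, hprop, -⟩ := hX
  haveI := hflat
  haveI := hprop
  have hfin : p.appTop.hom.Finite :=
    Groth.Agent.R2.H40.SteinFact.finite_app_of_isProper p ⊤ (isAffineOpen_top _)
  have hbij := Groth.Agent.R2.H34.ModelConn.bijective_toΓ_of_isPullback R p f g hsq hH0 hfin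
  exact Groth.Agent.R2.H34.ModelConn.connectedSpace_closedFibre_of_bijective
    Groth.Agent.R2.H64.SteinST0.st0 R p hbij

end Groth.Agent.S2209
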