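import Groth.Statements.S2229
import Groth.Agent.S2216
import Mathlib

set_option autoImplicit false
universe u
open Disc

namespace Groth.Agent.S2229

section Helpers
open TensorProduct

variable {A B : Type u} [CommRing A] [CommRing B] [Algebra A B]

/-- Step 1: an invertible `B`-module `W` is, locally on `A`, generated by one element. -/
theorem exists_local_generator [Module.Finite A B] (W : Type u) [AddCommGroup W] [Module B W]
    [Module.Invertible B W] (m : Ideal A) [m.IsMaximal] :
    ∃ (l : W) (s : A), s ∉ m ∧ ∀ w : W, ∃ c : B, (algebraMap A B s) • w = c • l := by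
  classical
  set I : Ideal B := m.map (algebraMap A B) with hI
  letI : Field (A ⧸ m) := Ideal.Quotient.field m
  haveI : Module.Finite (A ⧸ m) (B ⧸ I) := Module.Finite.of_restrictScalars_finite A _ _
  haveI : IsArtinianRing (B ⧸ I) := IsArtinianRing.of_finite (A ⧸ m) (B ⧸ I)
  haveI : Module.Free (B ⧸ I) ((B ⧸ I) ⊗[B] W) := inferInstance
  obtain ⟨e⟩ := Module.Invertible.free_iff_linearEquiv.mp this
  -- every element of the base change is `1 ⊗ w`
  have hsurj : ∀ z : (B ⧸ I) ⊗[B] W, ∃ w : W, z = (1 : B ⧸ I) ⊗ₜ[B] w := by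
    intro z
    induction z using TensorProduct.induction_on with
    | zero => exact ⟨0, by simp⟩
    | tmul x w =>
      obtain ⟨x, rfl⟩ := Ideal.Quotient.mk_surjective x
      refine ⟨x • w, ?_⟩
      rw [← TensorProduct.smul_tmul]
      congr 1
      rw [Algebra.smul_def, mul_one]; rfl
    | add z₁ z₂ h₁ h₂ =>
      obtain ⟨w₁, rfl⟩ := h₁
      obtain ⟨w₂, rfl⟩ := h₂
      exact ⟨w₁ + w₂, by rw [TensorProduct.tmul_add]⟩
  obtain ⟨l, hl⟩ := hsurj (e.symm 1)
  -- `w - c l ∈ I • ⊤`
  have hmod : ∀ w : W, ∃ c : B, w - c • l ∈ (I • (⊤ : Submodule B W)) := by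
    intro w
    obtain ⟨c, hc⟩ := Ideal.Quotient.mk_surjective (e ((1 : B ⧸ I) ⊗ₜ[B] w))
    refine ⟨c, ?_⟩
    have h1 : (1 : B ⧸ I) ⊗ₜ[B] w = (1 : B ⧸ I) ⊗ₜ[B] (c • l) := by
      apply e.injective
      have : e ((1 : B ⧸ I) ⊗ₜ[B] (c • l)) = (Ideal.Quotient.mk I c) • e ((1 : B ⧸ I) ⊗ₜ[B] l) := by
        rw [← map_smul]
        congr 1
        rw [TensorProduct.smul_tmul', TensorProduct.tmul_smul, TensorProduct.smul_tmul']
        congr 1
      rw [this, ← hl, LinearEquiv.apply_symm_apply, smul_eq_mul, mul_one, hc]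
    have h2 := congrArg (TensorProduct.quotTensorEquivQuotSMul W I) h1
    rw [TensorProduct.quotTensorEquivQuotSMul_mk_one_tmul,
      TensorProduct.quotTensorEquivQuotSMul_mk_one_tmul, Submodule.Quotient.eq] at h2
    exact h2
  -- pass to `A`-modules
  letI : Module A W := Module.compHom W (algebraMap A B)
  haveI : IsScalarTower A B W := ⟨fun a b w => by
    show (a • b) • w = algebraMap A B a • (b • w)
    rw [Algebra.smul_def, mul_smul]⟩
  haveI : Module.Finite A W := Module.Finite.trans B W
  have hsub : ∀ r ∈ I, ∀ w : W, r • w ∈ (m • (⊤ : Submodule A W)) := by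
    intro r hr
    refine Submodule.span_induction (p := fun r _ => ∀ w : W, r • w ∈ (m • (⊤ : Submodule A W)))
      ?_ ?_ ?_ ?_ hr
    · rintro _ ⟨a, ha, rfl⟩ w
      have : algebraMap A B a • w = a • w := rfl
      rw [this]
      exact Submodule.smul_mem_smul ha Submodule.mem_top
    · intro w; simp
    · intro x y _ _ hx hy w
      rw [add_smul]; exact Submodule.add_mem _ (hx w) (hy w)
    · intro b x _ hx w
      rw [smul_eq_mul, mul_comm, mul_smul]
      exact hx (b • w)
  have hle : ∀ w ∈ (I • (⊤ : Submodule B W) : Submodule B W), w ∈ (m • (⊤ : Submodule A W)) := by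
    intro w hw
    refine Submodule.smul_induction_on (p := fun w => w ∈ (m • (⊤ : Submodule A W))) hw ?_ ?_
    · intro r hr n _; exact hsub r hr n
    · intro x y hx hy; exact Submodule.add_mem _ hx hy
  let N : Submodule A W := (Submodule.span B {l}).restrictScalars A
  have hNN : (⊤ : Submodule A W) ≤ N ⊔ m • (⊤ : Submodule A W) := by
    intro w _
    obtain ⟨c, hc⟩ := hmod w
    have : w = c • l + (w - c • l) := by abel
    rw [this]
    refine Submodule.add_mem_sup ?_ (hle _ hc)
    show c • l ∈ Submodule.span B {l}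
    exact Submodule.smul_mem _ _ (Submodule.mem_span_singleton_self l)
  obtain ⟨r, hr1, hr2⟩ := Submodule.exists_sub_one_mem_and_smul_le_of_fg_of_le_sup
    (N' := ⊤) (P := ⊤) (N := N) (I := m) Module.Finite.fg_top le_rfl hNN
  refine ⟨l, r, ?_, fun w => ?_⟩
  · intro hrm
    have : (1 : A) ∈ m := by
      have := m.sub_mem hrm hr1
      simpa using this
    exact (Ideal.IsMaximal.ne_top ‹_›) ((Ideal.eq_top_iff_one m).mpr this)
  · have : r • w ∈ N := hr2 (Submodule.smul_mem_pointwise_smul w r ⊤ Submodule.mem_top)
    obtain ⟨c, hc⟩ := Submodule.mem_span_singleton.mp this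
    exact ⟨c, hc.symm⟩

/-- Step 2: a local generator of `ω` gives a multiple of the discriminant in the ideal of norms. -/
theorem exists_mul_discr_mem {ι : Type} [Fintype ι] [DecidableEq ι] (b : Module.Basis ι A B)
    (l : Omega A B) (s : A)
    (hs : ∀ w : Omega A B, ∃ c : B, (algebraMap A B s) • w = c • l)
    (m : Ideal A) [m.IsPrime] (hsm : s ∉ m) :
    ∃ t : A, t ∉ m ∧
      t * Algebra.discr A b ∈ Ideal.span (Algebra.norm A '' Disc.differentSet A B) := by
  classical
  haveI : Module.Finite A B := Module.Finite.of_basis b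
  haveI : Module.Free A B := Module.Free.of_basis b
  choose cφ hcφ using hs
  set n := Fintype.card ι with hn
  let tr : Omega A B := ⟨Algebra.trace A B⟩
  set δ : B := cφ tr with hδdef
  have hδ : (algebraMap A B s) • tr = δ • l := hcφ tr
  have hδ' : ∀ y : B, s * Algebra.trace A B y = l.toLinearMap (δ * y) := by
    intro y
    have h := congrArg (fun w : Omega A B => w.toLinearMap y) hδ
    simp only [Omega.smul_toLinearMap_apply] at h
    rw [← h]
    show s * Algebra.trace A B y = Algebra.trace A B (algebraMap A B s * y)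
    rw [← Algebra.smul_def, map_smul, smul_eq_mul]
  set x : B := algebraMap A B s * δ with hxdef
  have hx : x ∈ Disc.differentSet A B := by
    intro φ
    refine ⟨algebraMap A B s * cφ ⟨φ⟩, fun y => ?_⟩
    have h1 := congrArg (fun w : Omega A B => w.toLinearMap (δ * y)) (hcφ ⟨φ⟩)
    simp only [Omega.smul_toLinearMap_apply] at h1
    have h2 := hδ' (cφ ⟨φ⟩ * y)
    have e1 : x * y = algebraMap A B s * (δ * y) := by rw [hxdef]; ring
    have e2 : algebraMap A B s * cφ ⟨φ⟩ * y = algebraMap A B s * (cφ ⟨φ⟩ * y) := by ring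
    rw [e1, h1, e2, ← Algebra.smul_def, map_smul, smul_eq_mul, h2]
    congr 1; ring
  have hNx : Algebra.norm A x = s ^ n * Algebra.norm A δ := by
    rw [hxdef, map_mul, Algebra.norm_algebraMap_of_basis b s]
  -- matrices
  let Λ : Matrix ι ι A := fun i j => l.toLinearMap (b i * b j)
  let L : Matrix ι ι A := Algebra.leftMulMatrix b δ
  let T : Matrix ι ι A := Algebra.traceMatrix A b
  let C : Matrix ι ι A := fun k j => b.repr (cφ ⟨b.coord j⟩) k
  have hT : s • T = L.transpose * Λ := by
    ext i j
    rw [Matrix.smul_apply, smul_eq_mul, Matrix.mul_apply]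
    show s * Algebra.traceMatrix A b i j = _
    rw [Algebra.traceMatrix_apply, Algebra.traceForm_apply, hδ' (b i * b j)]
    have : δ * (b i * b j) = ∑ k, (b.repr (δ * b i) k) • (b k * b j) := by
      rw [← mul_assoc]
      conv_lhs => rw [← b.sum_repr (δ * b i)]
      rw [Finset.sum_mul]
      refine Finset.sum_congr rfl fun k _ => ?_
      rw [smul_mul_assoc]
    rw [this, map_sum]
    refine Finset.sum_congr rfl fun k _ => ?_
    rw [map_smul, smul_eq_mul, Matrix.transpose_apply]
    show _ = Algebra.leftMulMatrix b δ k i * _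
    rw [Algebra.leftMulMatrix_eq_repr_mul]
  have hC : Λ.transpose * C = s • (1 : Matrix ι ι A) := by
    ext i j
    rw [Matrix.mul_apply, Matrix.smul_apply, smul_eq_mul]
    have h := congrArg (fun w : Omega A B => w.toLinearMap (b i)) (hcφ ⟨b.coord j⟩)
    simp only [Omega.smul_toLinearMap_apply] at h
    have h3 : b.coord j (algebraMap A B s * b i) = s * (1 : Matrix ι ι A) i j := by
      rw [← Algebra.smul_def, map_smul, smul_eq_mul, Module.Basis.coord_apply,
        Module.Basis.repr_self, Matrix.one_apply]
      congr 1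
      rw [Finsupp.single_apply]
    rw [← h3, h]
    have : cφ ⟨b.coord j⟩ * b i = ∑ k, (b.repr (cφ ⟨b.coord j⟩) k) • (b k * b i) := by
      conv_lhs => rw [← b.sum_repr (cφ ⟨b.coord j⟩)]
      rw [Finset.sum_mul]
      refine Finset.sum_congr rfl fun k _ => ?_
      rw [smul_mul_assoc]
    rw [this, map_sum]
    refine Finset.sum_congr rfl fun k _ => ?_
    rw [map_smul, smul_eq_mul, Matrix.transpose_apply, mul_comm]
  have hdetT : s ^ n * Algebra.discr A b = Algebra.norm A δ * Λ.det := by
    have := congrArg Matrix.det hT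
    rw [Matrix.det_smul, Matrix.det_mul, Matrix.det_transpose] at this
    rw [Algebra.discr_def, Algebra.norm_eq_matrix_det b δ]
    exact this
  have hdetC : Λ.det * C.det = s ^ n := by
    have := congrArg Matrix.det hC
    rw [Matrix.det_mul, Matrix.det_transpose, Matrix.det_smul, Matrix.det_one, mul_one] at this
    exact this
  refine ⟨s ^ (2 * n) * C.det, ?_, ?_⟩
  · intro hmem
    rcases Ideal.IsPrime.mem_or_mem ‹_› hmem with h | h
    · exact hsm (Ideal.IsPrime.mem_of_pow_mem ‹_› _ h)
    · have : s ^ n ∈ m := by rw [← hdetC]; exact Ideal.mul_mem_left _ _ h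
      exact hsm (Ideal.IsPrime.mem_of_pow_mem ‹_› _ this)
  · have hxJ : Algebra.norm A x ∈ Ideal.span (Algebra.norm A '' Disc.differentSet A B) :=
      Ideal.subset_span ⟨x, hx, rfl⟩
    have : s ^ (2 * n) * C.det * Algebra.discr A b = s ^ n * Algebra.norm A x := by
      rw [hNx]
      calc s ^ (2 * n) * C.det * Algebra.discr A b
          = s ^ n * C.det * (s ^ n * Algebra.discr A b) := by ring
        _ = s ^ n * C.det * (Algebra.norm A δ * Λ.det) := by rw [hdetT]
        _ = s ^ n * Algebra.norm A δ * (Λ.det * C.det) := by ring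
        _ = s ^ n * (s ^ n * Algebra.norm A δ) := by rw [hdetC]; ring
    rw [this]
    exact Ideal.mul_mem_left _ _ hxJ

end Helpers

/-- Part (2), special case: affine with B finite free over the Noetherian ring A (basis b) and omega =
Hom_A(B, A) an invertible B-module. Then the ideal of A generated by the norms of all elements of
the different of B over A equals the ideal generated by the discriminant of the basis b (the norm of
the ramification locus is the discriminant). -/
theorem result {A B : Type u} [CommRing A] [CommRing B]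
    [Algebra A B] [IsNoetherianRing A] {ι : Type} [Fintype ι] [DecidableEq ι]
    (b : Module.Basis ι A B) [Module.Invertible B (Disc.Omega A B)] :
    Ideal.span (Algebra.norm A '' Disc.differentSet A B) = Ideal.span {Algebra.discr A b} := by
  classical
  haveI : Module.Finite A B := Module.Finite.of_basis b
  apply le_antisymm
  · rw [Ideal.span_le]
    rintro _ ⟨x, hx, rfl⟩
    exact Groth.Agent.S2216.result b x hx
  · rw [Ideal.span_le, Set.singleton_subset_iff]
    set J : Ideal A := Ideal.span (Algebra.norm A '' Disc.differentSet A B) with hJ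
    -- the colon ideal `(J : discr)`
    let K : Ideal A :=
      { carrier := {t | t * Algebra.discr A b ∈ J}
        add_mem' := fun {x y} hx hy => by
          show (x + y) * _ ∈ J
          rw [add_mul]; exact J.add_mem hx hy
        zero_mem' := by show (0 : A) * _ ∈ J; rw [zero_mul]; exact J.zero_mem
        smul_mem' := fun c x hx => by
          show (c • x) * _ ∈ J
          rw [smul_eq_mul, mul_assoc]; exact J.mul_mem_left c hx }
    have hK : K = ⊤ := by
      by_contra hne
      obtain ⟨m, hm, hKm⟩ := Ideal.exists_le_maximal K hne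
      haveI := hm
      obtain ⟨l, s, hsm, hs⟩ := exists_local_generator (A := A) (B := B) (Disc.Omega A B) m
      obtain ⟨t, htm, ht⟩ := exists_mul_discr_mem b l s hs m hsm
      exact htm (hKm ht)
    have h1 : (1 : A) ∈ K := by rw [hK]; exact Submodule.mem_top
    have h2 : (1 : A) * Algebra.discr A b ∈ J := h1
    rwa [one_mul] at h2

end Groth.Agent.S2229
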