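import Groth.Statements.S2330
import Groth.Agent.R2.H91AmpleEmb2
import Groth.Agent.R2.H91PnAffine
import Groth.Agent.Lib.Helper23Restr2

set_option autoImplicit false
universe u
open CategoryTheory CategoryTheory.Limits AlgebraicGeometry
open EGA2

namespace Groth.Agent.S2330

open Groth.Agent.R2.H91.AmpleEmb Groth.Agent.R2.H91.PnAffine

/-- Let Y be affine, q : X → Y separated and of finite type, and L an invertible O_X-module. Then L is
ample if and only if some L^{⊗n} (n > 0) is very ample relative to q, in the sense that it is the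
pullback of O(1) along an immersion of X into some P^m_Y over Y; moreover, if L is ample this holds
for all n beyond some n₀. ('Very ample relative to q' in general means this with P(E) for a
quasi-coherent O_Y-module E in place of P^m_Y; for q of finite type over an affine base the two
agree, and the P^m_Y form is the one used here.) -/
theorem result {X Y : Scheme.{u}} [IsAffine Y] (q : X ⟶ Y) [IsSeparated q]
    [QuasiCompact q] [LocallyOfFiniteType q] (L : X.Modules) (hL : PicF.IsInvertible L) :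
    (CohB1.IsAmple L ↔ ∃ n : ℕ, 0 < n ∧ RelAmple.IsRelVeryAmplePn q (CohB1.tensorPow L n)) ∧
      (CohB1.IsAmple L → ∃ n₀ : ℕ, ∀ n, n₀ ≤ n → RelAmple.IsRelVeryAmplePn q (CohB1.tensorPow L n)) := by
  have key : CohB1.IsAmple L →
      ∃ n₀ : ℕ, ∀ n, n₀ ≤ n → RelAmple.IsRelVeryAmplePn q (CohB1.tensorPow L n) := by
    intro hamp
    obtain ⟨n₀, hn₀⟩ := exists_embedding_eventually Γ(Y, ⊤) (q ≫ Y.isoSpec.hom) L hamp
    refine ⟨n₀, fun n hn => ?_⟩
    obtain ⟨N, j, himm, hjf, ⟨τ⟩⟩ := hn₀ n hn
    exact isRelVeryAmplePn_of_projSpace Γ(Y, ⊤) Y.isoSpec q _ N j himm hjf τ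
  refine ⟨⟨fun hamp => ?_, ?_⟩, key⟩
  · obtain ⟨n₀, hn₀⟩ := key hamp
    exact ⟨n₀ + 1, Nat.succ_pos _, hn₀ _ (Nat.le_succ _)⟩
  · rintro ⟨n, hn, h⟩
    have : CompactSpace X := QuasiCompact.compactSpace_of_compactSpace q
    exact (Groth.Agent.Lib.Helper23.SecTw.isAmple_tensorPow_iff L hL n hn).2
      (isAmple_of_isRelVeryAmplePn Γ(Y, ⊤) Y.isoSpec q _ h)

end Groth.Agent.S2330
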