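import Groth.Statements.S2470
import Groth.Agent.R2.H77RegHomA

set_option autoImplicit false
universe u
open EGA41

namespace Groth.Agent.S2470

open IsLocalRing in
/-- Let A → B be a local homomorphism of Noetherian local rings with maximal ideals 𝔪, 𝔫 and residue
fields k, k', and let B₀ = B/𝔪B be the closed fibre. The following are equivalent: (a) B is regular
and the canonical map (𝔪/𝔪²) ⊗_k k' → 𝔫/𝔫² is injective — stated here through dimensions, as
rank_{k'} 𝔫/𝔫² = rank_k 𝔪/𝔪² + rank_{k'} of the cotangent space of B₀, which is equivalent since the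
cokernel of that map is the cotangent space of B₀; (c) B and B₀ are regular and B is flat over A;
(d) A and B₀ are regular and B is flat over A; (e) A and B₀ are regular and dim B = dim A + dim B₀.
(Condition (b) of the source, on regular systems of parameters, is not stated.) -/
theorem result {A B : Type u} [CommRing A] [IsLocalRing A] [IsNoetherianRing A] [CommRing B] [IsLocalRing B] [IsNoetherianRing B]
    [Algebra A B] [IsLocalHom (algebraMap A B)] [IsLocalRing (B ⧸ (maximalIdeal A).map (algebraMap A B))] :
    [IsRegularLocalRing B ∧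
       Module.finrank (ResidueField B) (CotangentSpace B) =
         Module.finrank (ResidueField A) (CotangentSpace A) +
           Module.finrank (ResidueField (B ⧸ (maximalIdeal A).map (algebraMap A B))) (CotangentSpace (B ⧸ (maximalIdeal A).map (algebraMap A B))),
     IsRegularLocalRing B ∧ IsRegularLocalRing (B ⧸ (maximalIdeal A).map (algebraMap A B)) ∧ Module.Flat A B,
     IsRegularLocalRing A ∧ IsRegularLocalRing (B ⧸ (maximalIdeal A).map (algebraMap A B)) ∧ Module.Flat A B,
     IsRegularLocalRing A ∧ IsRegularLocalRing (B ⧸ (maximalIdeal A).map (algebraMap A B)) ∧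
       ringKrullDim B = ringKrullDim A + ringKrullDim (B ⧸ (maximalIdeal A).map (algebraMap A B))].TFAE := by
  set J := (maximalIdeal A).map (algebraMap A B) with hJ
  -- dimensions as natural numbers
  obtain ⟨dA, hdA⟩ : ∃ n : ℕ, ringKrullDim A = n :=
    Groth.Agent.Lib.Helper5.exists_nat_ringKrullDim_eq A
  obtain ⟨dB, hdB⟩ : ∃ n : ℕ, ringKrullDim B = n :=
    Groth.Agent.Lib.Helper5.exists_nat_ringKrullDim_eq B
  have hNC : IsNoetherianRing (B ⧸ J) := inferInstance
  obtain ⟨dC, hdC⟩ : ∃ n : ℕ, ringKrullDim (B ⧸ J) = n :=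
    Groth.Agent.Lib.Helper5.exists_nat_ringKrullDim_eq (B ⧸ J)
  -- embedding dimensions
  have ha := IsLocalRing.spanFinrank_maximalIdeal_eq_finrank_cotangentSpace (R := A)
  have hb := IsLocalRing.spanFinrank_maximalIdeal_eq_finrank_cotangentSpace (R := B)
  have hc := IsLocalRing.spanFinrank_maximalIdeal_eq_finrank_cotangentSpace (R := B ⧸ J)
  rw [← ha, ← hb, ← hc]
  set a := (maximalIdeal A).spanFinrank
  set b := (maximalIdeal B).spanFinrank
  set c := (maximalIdeal (B ⧸ J)).spanFinrank
  -- general inequalities
  have hdAa : dA ≤ a := by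
    have := ringKrullDim_le_spanFinrank_maximalIdeal (R := A)
    rw [hdA] at this
    exact_mod_cast this
  have hdBb : dB ≤ b := by
    have := ringKrullDim_le_spanFinrank_maximalIdeal (R := B)
    rw [hdB] at this
    exact_mod_cast this
  have hdCc : dC ≤ c := by
    have := ringKrullDim_le_spanFinrank_maximalIdeal (R := B ⧸ J)
    rw [hdC] at this
    exact_mod_cast this
  have hbac : b ≤ a + c := Groth.Agent.R2.H77.RegHomA.spanFinrank_maximalIdeal_le_add
  have hdBAC : dB ≤ dA + dC := by
    have := Groth.Agent.R2.H77.RegHomA.ringKrullDim_le_add (A := A) (B := B)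
    rw [hdA, hdB, hdC] at this
    exact_mod_cast this
  have regA : IsRegularLocalRing A ↔ a = dA := by
    rw [isRegularLocalRing_iff, hdA]
    exact ⟨fun h => by exact_mod_cast h, fun h => by exact_mod_cast h⟩
  have regB : IsRegularLocalRing B ↔ b = dB := by
    rw [isRegularLocalRing_iff, hdB]
    exact ⟨fun h => by exact_mod_cast h, fun h => by exact_mod_cast h⟩
  have regC : IsRegularLocalRing (B ⧸ J) ↔ c = dC := by
    rw [isRegularLocalRing_iff, hdC]
    exact ⟨fun h => by exact_mod_cast h, fun h => by exact_mod_cast h⟩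
  have dimeq : ringKrullDim B = ringKrullDim A + ringKrullDim (B ⧸ J) ↔ dB = dA + dC := by
    rw [hdA, hdB, hdC]
    exact ⟨fun h => by exact_mod_cast h, fun h => by exact_mod_cast h⟩
  rw [regA, regB, regC, dimeq]
  tfae_have 1 → 2 := by
    rintro ⟨h1, h2⟩
    have hA : a = dA := by omega
    have hC : c = dC := by omega
    have hdim : dB = dA + dC := by omega
    refine ⟨h1, hC, ?_⟩
    have : IsRegularLocalRing A := regA.mpr hA
    have : IsRegularLocalRing B := regB.mpr h1
    have : LocCoh.IsCohenMacaulayLocalRing B :=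
      Groth.Agent.Lib.Helper5.isCohenMacaulayLocalRing_of_isRegularLocalRing B
    exact Groth.Agent.S2082.result (dimeq.mpr hdim)
  tfae_have 2 → 3 := by
    rintro ⟨h1, h2, h3⟩
    have : IsRegularLocalRing B := regB.mpr h1
    have : IsRegularLocalRing A := Groth.Agent.Lib.Helper28.isRegularLocalRing_of_flat_of_isLocalHom A B
    exact ⟨regA.mp this, h2, h3⟩
  tfae_have 3 → 4 := by
    rintro ⟨h1, h2, h3⟩
    refine ⟨h1, h2, ?_⟩
    have := Groth.Agent.Lib.Helper28.ringKrullDim_eq_add_of_flat (R := A) (S := B) J hJ
    rw [hdA, hdB, hdC] at this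
    have h' : dB = dC + dA := by exact_mod_cast this
    omega
  tfae_have 4 → 1 := by
    rintro ⟨h1, h2, h3⟩
    constructor <;> omega
  tfae_finish

end Groth.Agent.S2470
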