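import Groth.Statements.S2564
import Groth.Agent.R2.H69FlatIntDesc
import Groth.Agent.S0386
import Groth.Agent.Lib.Helper26FlatStage
import Groth.Agent.Lib.Helper2StalkFlat

set_option autoImplicit false
open CategoryTheory AlgebraicGeometry
universe u
open EGA43

namespace Groth.Agent.S2564

open CategoryTheory.Limits in
/-- Let A ⟶ A' be an injective ring homomorphism making A' integral over A, f : X ⟶ Spec A locally of
finite presentation, x a point of X, and X' = X ×_{Spec A} Spec A'. If X' ⟶ Spec A' is flat at every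
point of X' lying over x, then f is flat at x. -/
theorem result {A A' : Type u} [CommRing A] [CommRing A']
    [Algebra A A'] [Algebra.IsIntegral A A'] (hinj : Function.Injective (algebraMap A A'))
    {X : Scheme.{u}} (f : X ⟶ Spec (CommRingCat.of A)) [LocallyOfFinitePresentation f] (x : X)
    (h : ∀ x' : ↥(pullback f (Spec.map (CommRingCat.ofHom (algebraMap A A')))),
      (pullback.fst f _).base x' = x →
      ((pullback.snd f (Spec.map (CommRingCat.ofHom (algebraMap A A')))).stalkMap x').hom.Flat) :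
    (f.stalkMap x).hom.Flat := by
  set φ := CommRingCat.ofHom (algebraMap A A') with hφ
  set g := Spec.map φ with hg
  set g' := pullback.fst f g with hg'
  set f' := pullback.snd f g with hf'
  -- `g` is integral, hence so is its base change `g'`
  have hφint : φ.hom.IsIntegral := Algebra.IsIntegral.isIntegral
  have hgint : IsIntegralHom g := by
    rw [hg, IsIntegralHom.SpecMap_iff]
    exact hφint
  have hg'int : IsIntegralHom g' := inferInstance
  -- the flat locus of `f'` is open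
  have hopen : IsOpen {x' | (f'.stalkMap x').hom.Flat} := Groth.Agent.S0386.result f'
  have hclosed : IsClosed (g' '' {x' | ¬ (f'.stalkMap x').hom.Flat}) :=
    g'.isClosedMap _ hopen.isClosed_compl
  have hx : x ∈ (g' '' {x' | ¬ (f'.stalkMap x').hom.Flat})ᶜ := by
    rintro ⟨x', hx', rfl⟩
    exact hx' (h x' rfl)
  obtain ⟨_, ⟨U, hU : IsAffineOpen U, rfl⟩, hxU, hUW⟩ :=
    X.isBasis_affineOpens.exists_subset_of_mem_open hx hclosed.isOpen_compl
  -- the affine open `U' = g'⁻¹ U` of `X'`, on which `f'` is flat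
  have hU' : IsAffineOpen (g' ⁻¹ᵁ U) := hU.preimage g'
  have hflat' : ∀ x' : ↥(pullback f g), x' ∈ g' ⁻¹ᵁ U → (f'.stalkMap x').hom.Flat := by
    intro x' hx'
    by_contra hcon
    exact hUW hx' ⟨x', hcon, rfl⟩
  have htopA : IsAffineOpen (⊤ : (Spec (CommRingCat.of A)).Opens) := isAffineOpen_top _
  have htopA' : IsAffineOpen (⊤ : (Spec (CommRingCat.of A')).Opens) := isAffineOpen_top _
  have e1 : U ≤ f ⁻¹ᵁ ⊤ := fun _ _ => trivial
  have e2 : (⊤ : (Spec (CommRingCat.of A')).Opens) ≤ g ⁻¹ᵁ ⊤ := fun _ _ => trivial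
  have e3 : g' ⁻¹ᵁ U ≤ f' ⁻¹ᵁ ⊤ := fun _ _ => trivial
  have hfl' : (f'.appLE ⊤ (g' ⁻¹ᵁ U) e3).hom.Flat :=
    Groth.Agent.Lib.Helper2.StalkFlat.flat_appLE_of_flat_stalkMap f' hU' htopA' e3 hflat'
  -- the pushout square of rings
  have hUY : g' ⁻¹ᵁ U = g' ⁻¹ᵁ U ⊓ f' ⁻¹ᵁ ⊤ := by simp
  have hpo := (isIso_pushoutSection_iff (IsPullback.of_hasPullback f g) e2 e1 hUY).mp
    (isIso_pushoutSection_of_isAffineOpen (IsPullback.of_hasPullback f g) e2 e1 hUY htopA htopA' hU)
  have hT := (Groth.Agent.Lib.Helper26.FlatStage.flat_iff_of_isPushout hpo).mp hfl'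
  -- algebra structures
  let algRS : Algebra Γ(Spec (CommRingCat.of A), ⊤) Γ(X, U) := (f.appLE ⊤ U e1).hom.toAlgebra
  let algRT : Algebra Γ(Spec (CommRingCat.of A), ⊤) Γ(Spec (CommRingCat.of A'), ⊤) :=
    (g.appLE ⊤ ⊤ e2).hom.toAlgebra
  have hT' : Module.Flat Γ(Spec (CommRingCat.of A'), ⊤)
      (TensorProduct Γ(Spec (CommRingCat.of A), ⊤) Γ(Spec (CommRingCat.of A'), ⊤) Γ(X, U)) := hT
  have hfp : (f.appLE ⊤ U e1).hom.FinitePresentation :=
    HasRingHomProperty.appLE (P := @LocallyOfFinitePresentation) f inferInstance ⟨⊤, htopA⟩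
      ⟨U, hU⟩ e1
  have : Algebra.FinitePresentation Γ(Spec (CommRingCat.of A), ⊤) Γ(X, U) := hfp
  have happ : g.appLE ⊤ ⊤ e2 = (Scheme.ΓSpecIso _).hom ≫ φ ≫ (Scheme.ΓSpecIso _).inv := by
    have h1 : g.appLE ⊤ ⊤ e2 = g.appTop := Scheme.Hom.appLE_eq_app g
    rw [h1, hg, ← Scheme.ΓSpecIso_naturality_assoc, Iso.hom_inv_id, Category.comp_id]
  have hintg : (g.appLE ⊤ ⊤ e2).hom.IsIntegral := by
    rw [happ, CommRingCat.hom_comp, CommRingCat.hom_comp]
    refine RingHom.IsIntegral.trans _ _ ?_ (RingHom.IsIntegral.trans _ _ hφint ?_)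
    · exact RingHom.isIntegral_of_surjective _
        (ConcreteCategory.bijective_of_isIso (Scheme.ΓSpecIso _).hom).surjective
    · exact RingHom.isIntegral_of_surjective _
        (ConcreteCategory.bijective_of_isIso (Scheme.ΓSpecIso _).inv).surjective
  have : Algebra.IsIntegral Γ(Spec (CommRingCat.of A), ⊤) Γ(Spec (CommRingCat.of A'), ⊤) :=
    ⟨hintg⟩
  have hinjg : Function.Injective (algebraMap Γ(Spec (CommRingCat.of A), ⊤)
      Γ(Spec (CommRingCat.of A'), ⊤)) := by
    change Function.Injective (g.appLE ⊤ ⊤ e2).hom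
    rw [happ, CommRingCat.hom_comp, CommRingCat.hom_comp, RingHom.coe_comp, RingHom.coe_comp]
    exact ((ConcreteCategory.bijective_of_isIso (Scheme.ΓSpecIso _).inv).injective.comp
      hinj).comp (ConcreteCategory.bijective_of_isIso (Scheme.ΓSpecIso _).hom).injective
  have hflat : Module.Flat Γ(Spec (CommRingCat.of A), ⊤) Γ(X, U) :=
    Groth.Agent.R2.H69.FlatIntDesc.flat_of_flat_baseChange_integral_fp
      Γ(Spec (CommRingCat.of A), ⊤) Γ(Spec (CommRingCat.of A'), ⊤) hinjg Γ(X, U) Γ(X, U)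
  exact Groth.Agent.Lib.Helper2.StalkFlat.flat_stalkMap_of_flat_appLE f hU htopA e1 hflat x hxU

end Groth.Agent.S2564
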