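import Groth.Statements.S2576
import Groth.Agent.R2.H88FibConsAsm
import Groth.Agent.R2.H88FibConsT2
import Groth.Agent.R2.H88FibConsF12
import Groth.Agent.R2.H68FibConsGen
import Groth.Agent.R2.H68FibConsSepId
import Groth.Agent.R2.H69FibConsProp

set_option autoImplicit false
open CategoryTheory AlgebraicGeometry
universe u
open EGA43

namespace Groth.Agent.S2576

open CategoryTheory.Limits in
/-- Let g : Y ⟶ S and f : X ⟶ Y be such that X and Y are of finite presentation over S (locally of
finite presentation, quasi-compact and quasi-separated). For each point s of S let f_s be the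
induced morphism from the fibre of f ≫ g over s to the fibre of g over s. Then the set of s for
which f_s is a closed immersion is locally constructible in S. -/
theorem result {X Y S : Scheme.{u}} (f : X ⟶ Y) (g : Y ⟶ S)
    [LocallyOfFinitePresentation g] [QuasiCompact g] [QuasiSeparated g]
    [LocallyOfFinitePresentation (f ≫ g)] [QuasiCompact (f ≫ g)] [QuasiSeparated (f ≫ g)] :
    Topology.IsLocallyConstructible {s : S |
      IsClosedImmersion (pullback.lift (pullback.fst (f ≫ g) (S.fromSpecResidueField s) ≫ f) (pullback.snd (f ≫ g) (S.fromSpecResidueField s))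
          ((Category.assoc _ _ _).trans pullback.condition) :
        pullback (f ≫ g) (S.fromSpecResidueField s) ⟶ pullback g (S.fromSpecResidueField s))} := by
  exact Groth.Agent.R2.H88.FibConsAsm.s2576_of
    (Groth.Agent.R2.H69.FibConsProp.propDich
      (Groth.Agent.R2.H88.FibConsAsm.sepDich
      (Groth.Agent.R2.H88.FibConsT2.closedDich Groth.Agent.R2.H68.FibConsGen.genClosure)
      Groth.Agent.R2.H88.FibConsF12.rangeClosedIff Groth.Agent.R2.H68.FibConsSepId.sepId)
      (Groth.Agent.R2.H88.FibConsT2.closedDich Groth.Agent.R2.H68.FibConsGen.genClosure)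
      Groth.Agent.R2.H88.FibConsF12.rangeClosedIff) f g

end Groth.Agent.S2576
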