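import Groth.Statements.S2586
import Groth.Agent.R2.H22Slice
import Groth.Agent.Lib.Helper3FlatOpenFP

set_option autoImplicit false
set_option linter.style.haveILetI false
open TensorProduct
universe u
open EGA43

namespace Groth.Agent.S2586

section Elementwise

variable {B : Type*} [CommRing B] {X : Type*} [AddCommGroup X] [Module B X]

/-- membership in `I • ⊤` of a localized module, elementwise. -/
theorem mk_mem_smul_top_iff (S : Submonoid B) (I : Ideal B) (z : X) (s : S) :
    LocalizedModule.mk z s ∈ (I • ⊤ : Submodule B (LocalizedModule S X)) ↔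
      ∃ t ∈ S, t • z ∈ (I • ⊤ : Submodule B X) := by
  rw [← Submodule.localized₀_top S (LocalizedModule.mkLinearMap S X), ← Submodule.localized₀_smul,
    Submodule.mem_localized₀]
  constructor
  · rintro ⟨m, hm, s', h⟩
    rw [← IsLocalizedModule.mk_eq_mk', LocalizedModule.mk_eq] at h
    obtain ⟨u, hu⟩ := h
    refine ⟨u * s', S.mul_mem u.2 s'.2, ?_⟩
    have : (u * s' : B) • z = u • s' • z := by rw [mul_smul]; rfl
    rw [this, ← hu]
    exact Submodule.smul_mem _ _ (Submodule.smul_mem _ _ hm)
  · rintro ⟨t, ht, htz⟩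
    refine ⟨t • z, htz, ⟨t, ht⟩ * s, ?_⟩
    rw [← IsLocalizedModule.mk_eq_mk', LocalizedModule.mk_eq]
    refine ⟨1, ?_⟩
    simp only [one_smul, Submonoid.smul_def, mul_smul]
    rw [smul_comm]

/-- regularity on a quotient of a localized module, elementwise. -/
theorem isSMulRegular_localized_quot_iff (S : Submonoid B) (I : Ideal B) (r : B) :
    IsSMulRegular (LocalizedModule S X ⧸ (I • ⊤ : Submodule B (LocalizedModule S X))) r ↔
      ∀ z : X, (∃ t ∈ S, t • r • z ∈ (I • ⊤ : Submodule B X)) →
        ∃ t ∈ S, t • z ∈ (I • ⊤ : Submodule B X) := by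
  rw [isSMulRegular_quotient_iff_mem_of_smul_mem]
  constructor
  · intro h z hz
    have h1 := h (LocalizedModule.mk z 1) (by
      rw [LocalizedModule.smul'_mk, mk_mem_smul_top_iff]
      exact hz)
    exact (mk_mem_smul_top_iff S I z 1).mp h1
  · intro h x hx
    induction x using LocalizedModule.induction_on with
    | h z s =>
      rw [LocalizedModule.smul'_mk, mk_mem_smul_top_iff] at hx
      rw [mk_mem_smul_top_iff]
      exact h z hx

end Elementwise

section Tensor

variable {A B : Type u} [CommRing A] [CommRing B] [Algebra A B]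
  {M : Type u} [AddCommGroup M] [Module B M] [Module A M] [IsScalarTower A B M]
  (K : Type u) [AddCommGroup K] [Module A K]

theorem tmul_mem_smul_top (I : Ideal B) {n : M} (hn : n ∈ (I • ⊤ : Submodule B M)) (k : K) :
    n ⊗ₜ[A] k ∈ (I • ⊤ : Submodule B (M ⊗[A] K)) := by
  refine Submodule.smul_induction_on hn ?_ ?_
  · intro i hi m _
    rw [← TensorProduct.smul_tmul']
    exact Submodule.smul_mem_smul hi Submodule.mem_top
  · intro x y hx hy
    rw [TensorProduct.add_tmul]
    exact add_mem hx hy

/-- the kernel of `M ⊗ K → (M/IM) ⊗ K` is `I (M ⊗ K)`. -/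
theorem rTensor_mkQ_eq_zero_iff (I : Ideal B) (z : M ⊗[A] K) :
    AlgebraTensorModule.rTensor A K (Submodule.mkQ (I • ⊤ : Submodule B M)) z = 0 ↔
      z ∈ (I • ⊤ : Submodule B (M ⊗[A] K)) := by
  constructor
  · intro hz
    have hex := rTensor_exact K
      (LinearMap.exact_subtype_mkQ ((I • ⊤ : Submodule B M).restrictScalars A))
      (Submodule.mkQ_surjective _)
    obtain ⟨w, rfl⟩ := (hex z).mp hz
    clear hz
    induction w using TensorProduct.induction_on with
    | zero => simp
    | tmul n k =>
      rw [LinearMap.rTensor_tmul]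
      exact tmul_mem_smul_top K I n.2 k
    | add w₁ w₂ h₁ h₂ =>
      rw [map_add]
      exact add_mem h₁ h₂
  · intro hz
    refine Submodule.smul_induction_on hz ?_ ?_
    · intro i hi w _
      rw [map_smul]
      generalize AlgebraTensorModule.rTensor A K (Submodule.mkQ (I • ⊤ : Submodule B M)) w = w'
      induction w' using TensorProduct.induction_on with
      | zero => simp
      | tmul m k =>
        obtain ⟨m, rfl⟩ := Submodule.Quotient.mk_surjective _ m
        rw [TensorProduct.smul_tmul', ← Submodule.Quotient.mk_smul,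
          (Submodule.Quotient.mk_eq_zero _).mpr (Submodule.smul_mem_smul hi Submodule.mem_top),
          TensorProduct.zero_tmul]
      | add w₁ w₂ h₁ h₂ => rw [smul_add, h₁, h₂, add_zero]
    · intro x y hx hy
      rw [map_add, hx, hy, add_zero]

end Tensor

open Groth.Agent.R2.H22.Slice Groth.Agent.Lib.Helper3.FlatOpen Pointwise in
/-- Let A ⟶ B be a ring map with B finitely presented over A, M a finitely presented B-module, q a prime
of B with contraction p, and g₁, …, gₙ elements of q. Suppose the localization M_q is flat over A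
and the gᵢ form a regular sequence on the localization at q of the fibre module M ⊗_A κ(p). Then the
gᵢ form a regular sequence on M_q, and for every i the localization at q of M/(g₁, …, gᵢ)M is flat
over A. -/
theorem result {A B : Type u} [CommRing A] [CommRing B] [Algebra A B]
    [Algebra.FinitePresentation A B] (M : Type u) [AddCommGroup M] [Module B M] [Module A M] [IsScalarTower A B M]
    [Module.FinitePresentation B M] (q : Ideal B) [q.IsPrime] (g : List B) (hg : ∀ b ∈ g, b ∈ q)
    (hflat : Module.Flat A (LocalizedModule q.primeCompl M))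
    (hreg : RingTheory.Sequence.IsRegular
      (LocalizedModule q.primeCompl (M ⊗[A] (q.comap (algebraMap A B)).ResidueField)) g) :
    RingTheory.Sequence.IsRegular (LocalizedModule q.primeCompl M) g ∧
      ∀ i ≤ g.length, Module.Flat A
        (LocalizedModule q.primeCompl (M ⧸ (Ideal.span {b | b ∈ g.take i} • (⊤ : Submodule B M)))) := by
  classical
  set S := q.primeCompl with hS
  set 𝔭 : Ideal A := q.comap (algebraMap A B) with h𝔭
  haveI : 𝔭.IsPrime := Ideal.comap_isPrime _ _
  have hK : RingHom.ker (algebraMap A 𝔭.ResidueField) = q.comap (algebraMap A B) :=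
    Ideal.ker_algebraMap_residueField 𝔭
  have hfp : ∀ i, Module.FinitePresentation B
      (M ⧸ (Ideal.ofList (g.take i) • ⊤ : Submodule B M)) := by
    intro i
    refine Module.finitePresentation_of_surjective (Submodule.mkQ _) (Submodule.mkQ_surjective _) ?_
    rw [Submodule.ker_mkQ]
    exact Submodule.FG.smul (Submodule.fg_span (List.finite_toSet _)) Module.Finite.fg_top
  have hHF : ∀ i (hi : i < g.length),
      ∀ z' : (M ⧸ (Ideal.ofList (g.take i) • ⊤ : Submodule B M)) ⊗[A] 𝔭.ResidueField,
      g[i] • z' = 0 → ∃ t : B, t ∉ q ∧ t • z' = 0 := by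
    intro i hi z' hz'
    have h1 := (isSMulRegular_localized_quot_iff S (Ideal.ofList (g.take i)) g[i]).mp
      (hreg.regular_mod_prev i hi)
    obtain ⟨z, rfl⟩ : ∃ z, AlgebraTensorModule.rTensor A 𝔭.ResidueField
        (Submodule.mkQ (Ideal.ofList (g.take i) • ⊤ : Submodule B M)) z = z' :=
      LinearMap.rTensor_surjective _ (Submodule.mkQ_surjective
        ((Ideal.ofList (g.take i) • ⊤ : Submodule B M).restrictScalars A)) z'
    rw [← map_smul, rTensor_mkQ_eq_zero_iff] at hz'
    obtain ⟨t, ht, htz⟩ := h1 z ⟨1, S.one_mem, by rwa [one_smul]⟩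
    refine ⟨t, ht, ?_⟩
    rw [← map_smul, rTensor_mkQ_eq_zero_iff]
    exact htz
  have hfl : ∀ i, i ≤ g.length → Module.Flat A
      (LocalizedModule S (M ⧸ (Ideal.ofList (g.take i) • ⊤ : Submodule B M))) := by
    intro i
    induction i with
    | zero =>
      intro _
      have hbot : (Ideal.ofList (g.take 0) • ⊤ : Submodule B M) = ⊥ := by
        rw [List.take_zero, Ideal.ofList_nil, Submodule.bot_smul]
      exact flat_localizedModule_of_linearEquiv (Submodule.quotEquivOfEqBot _ hbot).symm _ hflat
    | succ i ih =>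
      intro hi
      have hi' : i < g.length := hi
      have htake : g.take (i + 1) = g.take i ++ [g[i]] := List.take_succ_eq_append_getElem hi'
      have hsup : (Ideal.ofList (g.take (i + 1)) • ⊤ : Submodule B M) =
          Ideal.ofList (g.take i) • ⊤ ⊔ g[i] • (⊤ : Submodule B M) := by
        rw [htake, Ideal.ofList_append, Ideal.ofList_singleton, Submodule.sup_smul,
          Submodule.ideal_span_singleton_smul]
      have hle : (Ideal.ofList (g.take i) • ⊤ : Submodule B M) ≤
          Ideal.ofList (g.take (i + 1)) • ⊤ := by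
        rw [hsup]; exact le_sup_left
      haveI := hfp i
      haveI := hfp (i + 1)
      refine slice_flat (M := M ⧸ (Ideal.ofList (g.take i) • ⊤ : Submodule B M)) q 𝔭.ResidueField
        hK g[i] (ih hi'.le) (hHF i hi') (Submodule.factor hle) ?_ ?_ ?_
      · intro c
        obtain ⟨m, rfl⟩ := Submodule.Quotient.mk_surjective _ c
        exact ⟨Submodule.Quotient.mk m, rfl⟩
      · intro c hc
        obtain ⟨m, rfl⟩ := Submodule.Quotient.mk_surjective _ c
        have h1 : m ∈ (Ideal.ofList (g.take (i + 1)) • ⊤ : Submodule B M) := by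
          rw [← Submodule.Quotient.mk_eq_zero]
          exact hc
        rw [hsup, Submodule.mem_sup] at h1
        obtain ⟨a, ha, b, hb, hab⟩ := h1
        obtain ⟨m', _, hm'⟩ := (Submodule.mem_smul_pointwise_iff_exists _ _ _).mp hb
        refine ⟨Submodule.Quotient.mk m', ?_⟩
        rw [← hab, Submodule.Quotient.mk_add, (Submodule.Quotient.mk_eq_zero _).mpr ha, zero_add,
          ← hm', Submodule.Quotient.mk_smul]
      · intro c
        obtain ⟨m, rfl⟩ := Submodule.Quotient.mk_surjective _ c
        rw [← Submodule.Quotient.mk_smul, Submodule.Quotient.mk_eq_zero, hsup]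
        exact Submodule.mem_sup_right (Submodule.smul_mem_pointwise_smul _ _ _ Submodule.mem_top)
  have hwr : RingTheory.Sequence.IsWeaklyRegular (LocalizedModule S M) g := by
    refine ⟨fun i hi => ?_⟩
    rw [isSMulRegular_localized_quot_iff]
    rintro m ⟨t, ht, htm⟩
    haveI := hfp i
    obtain ⟨t', ht', ht'm⟩ := slice_injective
      (M := M ⧸ (Ideal.ofList (g.take i) • ⊤ : Submodule B M)) q 𝔭.ResidueField hK g[i]
      (hfl i hi.le) (hHF i hi) (Submodule.Quotient.mk m) ⟨t, ht, by
        rw [← Submodule.Quotient.mk_smul, ← Submodule.Quotient.mk_smul,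
          Submodule.Quotient.mk_eq_zero]
        exact htm⟩
    refine ⟨t', ht', ?_⟩
    rwa [← Submodule.Quotient.mk_smul, Submodule.Quotient.mk_eq_zero] at ht'm
  have htop : (⊤ : Submodule B (LocalizedModule S M)) ≠ Ideal.ofList g • ⊤ := by
    intro heq
    apply hreg.top_ne_smul
    have hM : ∀ m : M, ∃ t ∈ S, t • m ∈ (Ideal.ofList g • ⊤ : Submodule B M) := by
      intro m
      rw [← mk_mem_smul_top_iff S _ m 1, ← heq]
      trivial
    have hX : ∀ z : M ⊗[A] 𝔭.ResidueField, ∃ t ∈ S,
        t • z ∈ (Ideal.ofList g • ⊤ : Submodule B (M ⊗[A] 𝔭.ResidueField)) := by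
      intro z
      induction z using TensorProduct.induction_on with
      | zero => exact ⟨1, S.one_mem, by simp⟩
      | tmul m k =>
        obtain ⟨t, ht, htm⟩ := hM m
        exact ⟨t, ht, by rw [TensorProduct.smul_tmul']; exact tmul_mem_smul_top _ _ htm k⟩
      | add z₁ z₂ h₁ h₂ =>
        obtain ⟨t₁, ht₁, h₁⟩ := h₁
        obtain ⟨t₂, ht₂, h₂⟩ := h₂
        refine ⟨t₁ * t₂, S.mul_mem ht₁ ht₂, ?_⟩
        rw [smul_add]
        refine add_mem ?_ ?_
        · rw [mul_comm, mul_smul]; exact Submodule.smul_mem _ _ h₁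
        · rw [mul_smul]; exact Submodule.smul_mem _ _ h₂
    symm
    rw [eq_top_iff]
    intro x _
    induction x using LocalizedModule.induction_on with
    | h z s => exact (mk_mem_smul_top_iff S _ z s).mpr (hX z)
  exact ⟨⟨hwr, htop⟩, fun i hi => hfl i hi⟩

end Groth.Agent.S2586
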