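import Groth.Statements.S2596
import Groth.Agent.R2.H43DvrProper2

set_option autoImplicit false
open CategoryTheory AlgebraicGeometry
universe u
open EGA43

namespace Groth.Agent.S2596

open CategoryTheory.Limits in
/-- Let Y be locally Noetherian, f : X ⟶ Y separated and of finite type, and y a point of Y. Suppose
that for every discrete valuation ring A with fraction field K and every morphism g : Spec A ⟶ Y
sending the closed point to y, every K-point σ of X ×_Y Spec A lying over the generic point Spec K ⟶
Spec A extends to a section of X ×_Y Spec A ⟶ Spec A. Then f is proper over some open neighbourhood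
of y. -/
theorem result {X Y : Scheme.{u}} [IsLocallyNoetherian Y]
    (f : X ⟶ Y) [IsSeparated f] [LocallyOfFiniteType f] [QuasiCompact f] (y : Y)
    (h : ∀ (A : Type u) [CommRing A] [IsDomain A] [IsDiscreteValuationRing A]
      (g : Spec (CommRingCat.of A) ⟶ Y), g.base (IsLocalRing.closedPoint A) = y →
      ∀ σ : Spec (CommRingCat.of (FractionRing A)) ⟶ pullback f g,
        σ ≫ pullback.snd f g = Spec.map (CommRingCat.ofHom (algebraMap A (FractionRing A))) →
        ∃ s : Spec (CommRingCat.of A) ⟶ pullback f g, s ≫ pullback.snd f g = 𝟙 _ ∧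
          Spec.map (CommRingCat.ofHom (algebraMap A (FractionRing A))) ≫ s = σ) :
    ∃ U : Y.Opens, y ∈ U ∧ IsProper (f ∣_ U) := by
  refine Groth.Agent.R2.H43.DvrProper.exists_isProper_nhd_of_arcLift f y ?_
  intro A K _ _ _ _ _ _ g τ hg hw
  let e : FractionRing A ≃ₐ[A] K := FractionRing.algEquiv A K
  have he1 : CommRingCat.ofHom (algebraMap A K) =
      CommRingCat.ofHom (algebraMap A (FractionRing A)) ≫
        CommRingCat.ofHom (e : FractionRing A →+* K) := by
    ext a
    exact (e.commutes a).symm
  have he2 : CommRingCat.ofHom (algebraMap A (FractionRing A)) =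
      CommRingCat.ofHom (algebraMap A K) ≫
        CommRingCat.ofHom (e.symm : K →+* FractionRing A) := by
    ext a
    exact (e.symm.commutes a).symm
  have he3 : CommRingCat.ofHom (e.symm : K →+* FractionRing A) ≫
      CommRingCat.ofHom (e : FractionRing A →+* K) = 𝟙 _ := by
    ext a
    exact e.apply_symm_apply a
  have hw₀ : (Spec.map (CommRingCat.ofHom (e.symm : K →+* FractionRing A)) ≫ τ) ≫ f =
      Spec.map (CommRingCat.ofHom (algebraMap A (FractionRing A))) ≫ g := by
    rw [Category.assoc, hw, ← Category.assoc, ← Spec.map_comp, ← he2]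
  obtain ⟨s, hs1, hs2⟩ := h A g hg (pullback.lift _ _ hw₀) (pullback.lift_snd _ _ _)
  refine ⟨s ≫ pullback.fst f g, ?_, ?_⟩
  · have h1 : Spec.map (CommRingCat.ofHom (algebraMap A (FractionRing A))) ≫ s ≫ pullback.fst f g =
        Spec.map (CommRingCat.ofHom (e.symm : K →+* FractionRing A)) ≫ τ := by
      rw [← Category.assoc, hs2, pullback.lift_fst]
    rw [he1, Spec.map_comp, Category.assoc, h1, ← Category.assoc, ← Spec.map_comp, he3,
      Spec.map_id, Category.id_comp]
  · rw [Category.assoc, pullback.condition, ← Category.assoc, hs1, Category.id_comp]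

end Groth.Agent.S2596
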