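import Groth.Statements.S2906
import Groth.Agent.S1134
import Groth.Agent.Lib.Helper3IrrTopB
import Groth.Agent.Lib.Helper12Descent

set_option autoImplicit false
open CategoryTheory CategoryTheory.Limits AlgebraicGeometry Opposite
universe u
open SGA1

namespace Groth.Agent.S2906

/-- Let g : S' ⟶ S be flat, surjective and quasi-compact. Then every descent datum relative to g whose
underlying scheme is etale, separated and quasi-compact over S' is isomorphic to the canonical
descent datum of a scheme etale, separated and quasi-compact over S. (Descent data relative to g are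
taken in functor-of-points form.) -/
lemma isQuasiAffine_of_slqf {X Y : Scheme.{u}} (f : X ⟶ Y) [IsAffine Y] [CompactSpace X]
    [IsSeparated f] [LocallyQuasiFinite f] [LocallyOfFiniteType f] : X.IsQuasiAffine := by
  have : QuasiCompact f := inferInstance
  have : IsAffineHom f.fromNormalization := inferInstance
  have : IsAffine f.normalization := isAffine_of_isAffineHom f.fromNormalization
  exact Scheme.IsQuasiAffine.of_isImmersion f.toNormalization

/-- a quasi-compact separated etale morphism is quasi-affine (Zariski's main theorem). -/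
lemma isQuasiAffine_of_etale {X Y : Scheme.{u}} (f : X ⟶ Y) [QuasiCompact f] [IsSeparated f]
    [Etale f] : Mor2.IsQuasiAffine f := by
  refine ⟨inferInstance, fun V hV => ?_⟩
  have : IsAffine (V : Scheme.{u}) := hV
  have : LocallyQuasiFinite f :=
    Groth.Agent.Lib.Helper3.IrrTop.locallyQuasiFinite_of_unramified f
  have : CompactSpace ((f ⁻¹ᵁ V : X.Opens) : Scheme.{u}) :=
    isCompact_iff_compactSpace.mp (f.isCompact_preimage hV.isCompact)
  exact isQuasiAffine_of_slqf (f ∣_ V)

theorem result {S' S : Scheme.{u}} (g : S' ⟶ S) [Flat g] [Surjective g] [QuasiCompact g]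
    (D : Desc.SchDD g) [QuasiCompact D.obj.hom] [IsSeparated D.obj.hom] [Etale D.obj.hom] :
    ∃ U : Over S, QuasiCompact U.hom ∧ IsSeparated U.hom ∧ Etale U.hom ∧ Nonempty ((Desc.toDD g).obj U ≅ D) := by
  obtain ⟨U, ⟨e⟩⟩ := Groth.Agent.S1134.result g D (isQuasiAffine_of_etale D.obj.hom)
  let ε : pullback g U.hom ⟶ D.obj.left := e.hom.hom.left
  have hiso : IsIso ε := ⟨e.inv.hom.left,
    congrArg (fun a => a.hom.left) e.hom_inv_id, congrArg (fun a => a.hom.left) e.inv_hom_id⟩
  have hfst : pullback.fst g U.hom = ε ≫ D.obj.hom := (Over.w e.hom.hom).symm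
  have sq : IsPullback (pullback.fst g U.hom) (pullback.snd g U.hom) g U.hom :=
    IsPullback.of_hasPullback g U.hom
  have hg : (@Surjective ⊓ @Flat ⊓ @QuasiCompact : MorphismProperty Scheme.{u}) g :=
    ⟨⟨inferInstance, inferInstance⟩, inferInstance⟩
  have h1 : QuasiCompact (pullback.fst g U.hom) := by rw [hfst]; infer_instance
  have h2 : IsSeparated (pullback.fst g U.hom) := by rw [hfst]; infer_instance
  have h3 : Etale (pullback.fst g U.hom) := by rw [hfst]; infer_instance
  refine ⟨U, ?_, ?_, ?_, ⟨e⟩⟩
  · exact (Groth.Agent.Lib.Helper12.descendsAlong_quasiCompact.{u}).of_isPullback sq hg h1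
  · exact (Groth.Agent.Lib.Helper12.descendsAlong_isSeparated.{u}).of_isPullback sq hg h2
  · exact MorphismProperty.DescendsAlong.of_isPullback (P := @Etale)
      (Q := (@Surjective ⊓ @Flat ⊓ @QuasiCompact : MorphismProperty Scheme.{u})) sq hg h3

end Groth.Agent.S2906
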