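import Groth.Statements.S2921
import Mathlib
import Groth.Agent.Lib.Helper5RLR
import Groth.Agent.Lib.Helper5IntDim
-- import your own Groth.Agent.* helpers here

set_option autoImplicit false
universe u
open IsLocalRing
open SGA1

namespace Groth.Agent.S2921

theorem ncard_range_fin_le {α : Type*} {k : ℕ} (g : Fin k → α) : (Set.range g).ncard ≤ k := by
  rw [← Set.image_univ]
  refine (Set.ncard_image_le (Set.finite_univ)).trans ?_
  simp [Set.ncard_univ]

section basics

variable (A : Type u) [CommRing A] {r : ℕ} (f : Fin r → A) (n : Fin r → ℕ)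

/-- the defining ideal -/
noncomputable abbrev kI : Ideal (MvPolynomial (Fin r) A) :=
  Ideal.span (Set.range fun i => (MvPolynomial.X i : MvPolynomial (Fin r) A) ^ n i - MvPolynomial.C (f i))

/-- the class of the `i`-th variable -/
noncomputable def xx (i : Fin r) : kummerAlg A f n :=
  Ideal.Quotient.mk (kI A f n) (MvPolynomial.X i)

theorem xx_pow (i : Fin r) : xx A f n i ^ n i = algebraMap A (kummerAlg A f n) (f i) := by
  unfold xx
  rw [← map_pow, ← sub_eq_zero]
  have : algebraMap A (kummerAlg A f n) (f i) =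
      Ideal.Quotient.mk (kI A f n) (MvPolynomial.C (f i)) := rfl
  rw [this, ← map_sub, Ideal.Quotient.eq_zero_iff_mem]
  exact Ideal.subset_span ⟨i, rfl⟩

/-- the universal property -/
noncomputable def lift {C : Type*} [CommRing C] [Algebra A C] (c : Fin r → C)
    (hc : ∀ i, c i ^ n i = algebraMap A C (f i)) : kummerAlg A f n →ₐ[A] C :=
  Ideal.Quotient.liftₐ (kI A f n) (MvPolynomial.aeval c) (by
    intro a ha
    have hle : kI A f n ≤ RingHom.ker (MvPolynomial.aeval c : MvPolynomial (Fin r) A →ₐ[A] C) := by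
      rw [Ideal.span_le]
      rintro _ ⟨i, rfl⟩
      rw [SetLike.mem_coe, RingHom.mem_ker]
      simp [hc i]
    exact RingHom.mem_ker.mp (hle ha))

@[simp] theorem lift_xx {C : Type*} [CommRing C] [Algebra A C] (c : Fin r → C)
    (hc : ∀ i, c i ^ n i = algebraMap A C (f i)) (i : Fin r) :
    lift A f n c hc (xx A f n i) = c i := by
  show (MvPolynomial.aeval c) (MvPolynomial.X i) = c i
  simp

theorem algHom_ext {C : Type*} [CommRing C] [Algebra A C] {g₁ g₂ : kummerAlg A f n →ₐ[A] C}
    (h : ∀ i, g₁ (xx A f n i) = g₂ (xx A f n i)) : g₁ = g₂ := by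
  apply Ideal.Quotient.algHom_ext
  apply MvPolynomial.algHom_ext
  intro i
  exact h i

theorem adjoin_xx : Algebra.adjoin A (Set.range (xx A f n)) = ⊤ := by
  have h1 : (Algebra.adjoin A (Set.range (MvPolynomial.X : Fin r → MvPolynomial (Fin r) A))).map
      (Ideal.Quotient.mkₐ A (kI A f n)) = ⊤ := by
    rw [MvPolynomial.adjoin_range_X, Algebra.map_top, AlgHom.range_eq_top]
    exact Ideal.Quotient.mkₐ_surjective A _
  rw [AlgHom.map_adjoin, ← Set.range_comp] at h1
  exact h1

theorem isIntegral_xx (hn : ∀ i, 1 ≤ n i) (i : Fin r) : IsIntegral A (xx A f n i) := by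
  refine ⟨Polynomial.X ^ n i - Polynomial.C (f i), ?_, ?_⟩
  · exact Polynomial.monic_X_pow_sub_C _ (by have := hn i; omega)
  · simp [xx_pow]

theorem isIntegral_kummer (hn : ∀ i, 1 ≤ n i) : Algebra.IsIntegral A (kummerAlg A f n) := by
  constructor
  intro z
  have hz : z ∈ Algebra.adjoin A (Set.range (xx A f n)) := by rw [adjoin_xx]; trivial
  refine IsIntegral.of_mem_of_fg _ ?_ z hz
  exact fg_adjoin_of_finite (Set.finite_range _) (by
    rintro _ ⟨i, rfl⟩
    exact isIntegral_xx A f n hn i)

end basics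

section loc

variable (A : Type u) [CommRing A] [IsLocalRing A] {r : ℕ} (f : Fin r → A) (n : Fin r → ℕ)

/-- the candidate maximal ideal `(𝔪, x₁, …, x_r)` -/
noncomputable def mm : Ideal (kummerAlg A f n) :=
  (maximalIdeal A).map (algebraMap A (kummerAlg A f n)) ⊔ Ideal.span (Set.range (xx A f n))

variable (hm : ∀ i, f i ∈ maximalIdeal A) (hn : ∀ i, 1 ≤ n i)

/-- augmentation to the residue field -/
noncomputable def eps : kummerAlg A f n →ₐ[A] ResidueField A :=
  lift A f n (fun _ => 0) (fun i => by
    rw [zero_pow (by have := hn i; omega)]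
    exact ((residue_eq_zero_iff _).mpr (hm i)).symm)

theorem mm_le_ker_eps : mm A f n ≤ RingHom.ker (eps A f n hm hn) := by
  unfold mm
  rw [sup_le_iff]
  constructor
  · rw [Ideal.map_le_iff_le_comap]
    intro a ha
    rw [Ideal.mem_comap, RingHom.mem_ker, AlgHom.commutes]
    exact (residue_eq_zero_iff _).mpr ha
  · rw [Ideal.span_le]
    rintro _ ⟨i, rfl⟩
    rw [SetLike.mem_coe, RingHom.mem_ker]
    exact lift_xx A f n _ _ i

include hm hn in
theorem mm_ne_top : mm A f n ≠ ⊤ := by
  intro h
  have h1 : (1 : kummerAlg A f n) ∈ RingHom.ker (eps A f n hm hn) :=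
    mm_le_ker_eps A f n hm hn (h ▸ Submodule.mem_top)
  rw [RingHom.mem_ker, map_one] at h1
  exact one_ne_zero h1

theorem exists_sub_mem_mm (x : kummerAlg A f n) :
    ∃ a : A, x - algebraMap A (kummerAlg A f n) a ∈ mm A f n := by
  have hx : x ∈ Algebra.adjoin A (Set.range (xx A f n)) := by rw [adjoin_xx]; trivial
  induction hx using Algebra.adjoin_induction with
  | mem x hx =>
    obtain ⟨i, rfl⟩ := hx
    refine ⟨0, ?_⟩
    rw [map_zero, sub_zero]
    exact Ideal.mem_sup_right (Ideal.subset_span ⟨i, rfl⟩)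
  | algebraMap a => exact ⟨a, by simp⟩
  | add x y _ _ hx hy =>
    obtain ⟨a, ha⟩ := hx
    obtain ⟨b, hb⟩ := hy
    refine ⟨a + b, ?_⟩
    have : x + y - algebraMap A (kummerAlg A f n) (a + b) =
        (x - algebraMap A _ a) + (y - algebraMap A _ b) := by rw [map_add]; ring
    rw [this]
    exact Ideal.add_mem _ ha hb
  | mul x y _ _ hx hy =>
    obtain ⟨a, ha⟩ := hx
    obtain ⟨b, hb⟩ := hy
    refine ⟨a * b, ?_⟩
    have : x * y - algebraMap A (kummerAlg A f n) (a * b) =
        (x - algebraMap A _ a) * y + algebraMap A _ a * (y - algebraMap A _ b) := by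
      rw [map_mul]; ring
    rw [this]
    exact Ideal.add_mem _ (Ideal.mul_mem_right _ _ ha) (Ideal.mul_mem_left _ _ hb)

include hm hn in
theorem mm_isMaximal : (mm A f n).IsMaximal := by
  rw [Ideal.isMaximal_iff]
  refine ⟨fun h1 => mm_ne_top A f n hm hn ((Ideal.eq_top_iff_one _).mpr h1), ?_⟩
  intro J x hJ hx hxJ
  obtain ⟨a, ha⟩ := exists_sub_mem_mm A f n x
  have hau : IsUnit a := by
    by_contra hna
    have ham : a ∈ maximalIdeal A := (mem_maximalIdeal a).mpr hna
    apply hx
    have h2 : algebraMap A (kummerAlg A f n) a ∈ mm A f n :=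
      Ideal.mem_sup_left (Ideal.mem_map_of_mem _ ham)
    have := Ideal.add_mem _ ha h2
    rwa [sub_add_cancel] at this
  have h3 : algebraMap A (kummerAlg A f n) a ∈ J := by
    have := Ideal.sub_mem J hxJ (hJ ha)
    rwa [sub_sub_cancel] at this
  exact (Ideal.eq_top_iff_one J).mp (Ideal.eq_top_of_isUnit_mem J h3 (hau.map _))

include hm hn in
theorem mm_le_of_isMaximal (N : Ideal (kummerAlg A f n)) [hN : N.IsMaximal] : mm A f n ≤ N := by
  have := isIntegral_kummer A f n hn
  have hc : (N.comap (algebraMap A (kummerAlg A f n))).IsMaximal :=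
    Ideal.isMaximal_comap_of_isIntegral_of_isMaximal N
  have hc' : N.comap (algebraMap A (kummerAlg A f n)) = maximalIdeal A := eq_maximalIdeal hc
  have h1 : (maximalIdeal A).map (algebraMap A (kummerAlg A f n)) ≤ N := by
    rw [Ideal.map_le_iff_le_comap, hc']
  unfold mm
  rw [sup_le_iff]
  refine ⟨h1, ?_⟩
  rw [Ideal.span_le]
  rintro _ ⟨i, rfl⟩
  have h2 : xx A f n i ^ n i ∈ N := by
    rw [xx_pow]
    exact h1 (Ideal.mem_map_of_mem _ (hm i))
  exact hN.isPrime.mem_of_pow_mem _ h2

include hm hn in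
theorem isLocalRing_kummer : IsLocalRing (kummerAlg A f n) := by
  apply IsLocalRing.of_unique_max_ideal
  refine ⟨mm A f n, mm_isMaximal A f n hm hn, ?_⟩
  intro N hN
  exact ((mm_isMaximal A f n hm hn).eq_of_le hN.ne_top (mm_le_of_isMaximal A f n hm hn N)).symm

end loc

section reg

open Groth.Agent.Lib

variable (A : Type u) [CommRing A] [IsRegularLocalRing A] {r : ℕ} (f : Fin r → A) (n : Fin r → ℕ)
  (hm : ∀ i, f i ∈ maximalIdeal A) (hn : ∀ i, 1 ≤ n i)

include hn in
theorem injective_algebraMap : Function.Injective (algebraMap A (kummerAlg A f n)) := by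
  have : IsDomain A := Helper5.isDomain_of_isRegularLocalRing A
  let K := AlgebraicClosure (FractionRing A)
  have hroot : ∀ i, ∃ z : K, z ^ n i = algebraMap A K (f i) := fun i =>
    IsAlgClosed.exists_pow_nat_eq _ (by have := hn i; omega)
  choose c hc using hroot
  let φ := lift A f n c hc
  have hinj : Function.Injective (algebraMap A K) := by
    rw [IsScalarTower.algebraMap_eq A (FractionRing A) K]
    exact (algebraMap (FractionRing A) K).injective.comp (IsFractionRing.injective A (FractionRing A))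
  intro a b hab
  apply hinj
  have h1 := congrArg φ hab
  rwa [AlgHom.commutes, AlgHom.commutes] at h1

include hn in
theorem ringKrullDim_kummer : ringKrullDim (kummerAlg A f n) = ringKrullDim A := by
  have := isIntegral_kummer A f n hn
  exact Helper5.ringKrullDim_eq_of_isIntegral_of_injective A (kummerAlg A f n)
    (injective_algebraMap A f n hn)

include hn in
theorem isRegularLocalRing_kummer
    (hf : LinearIndependent (ResidueField A) (fun i => (maximalIdeal A).toCotangent ⟨f i, hm i⟩)) :
    IsRegularLocalRing (kummerAlg A f n) := by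
  classical
  have hloc := isLocalRing_kummer A f n hm hn
  have hmax : maximalIdeal (kummerAlg A f n) = mm A f n :=
    (eq_maximalIdeal (mm_isMaximal A f n hm hn)).symm
  obtain ⟨s, z, hrs, hz⟩ := Helper5.exists_extension_span_eq_maximalIdeal
    (fun i => (⟨f i, hm i⟩ : maximalIdeal A)) hf
  have hmm : mm A f n = Ideal.span (Set.range (fun j => algebraMap A (kummerAlg A f n) (z j)) ∪
      Set.range (xx A f n)) := by
    unfold mm
    have hmap := congrArg (Ideal.map (algebraMap A (kummerAlg A f n))) hz.symm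
    rw [Ideal.span_union, hmap, Ideal.map_sup, Ideal.map_span, Ideal.map_span, ← Set.range_comp,
      ← Set.range_comp]
    apply le_antisymm
    · rw [sup_le_iff]
      refine ⟨sup_le le_sup_left ?_, le_sup_right⟩
      rw [Ideal.span_le]
      rintro _ ⟨i, rfl⟩
      show algebraMap A (kummerAlg A f n) (f i) ∈ _
      rw [← xx_pow]
      apply Ideal.mem_sup_right
      have h1 : n i = (n i - 1) + 1 := by have := hn i; omega
      rw [h1, pow_succ]
      exact Ideal.mul_mem_left _ _ (Ideal.subset_span ⟨i, rfl⟩)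
    · rw [sup_le_iff]
      exact ⟨le_sup_of_le_left le_sup_left, le_sup_right⟩
  apply IsRegularLocalRing.of_spanFinrank_maximalIdeal_le
  rw [hmax, hmm, ringKrullDim_kummer A f n hn, ← IsRegularLocalRing.spanFinrank_maximalIdeal, ← hrs]
  have hfin : (Set.range (fun j => algebraMap A (kummerAlg A f n) (z j)) ∪
      Set.range (xx A f n)).Finite := (Set.finite_range _).union (Set.finite_range _)
  have h1 := Submodule.spanFinrank_span_le_ncard_of_finite (R := kummerAlg A f n) hfin
  have h2 : (Set.range (fun j => algebraMap A (kummerAlg A f n) (z j)) ∪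
      Set.range (xx A f n)).ncard ≤ s + r := by
    refine (Set.ncard_union_le _ _).trans (add_le_add ?_ ?_)
    · exact ncard_range_fin_le _
    · exact ncard_range_fin_le _
  have h3 : (Ideal.span (Set.range (fun j => algebraMap A (kummerAlg A f n) (z j)) ∪
      Set.range (xx A f n))).spanFinrank ≤ r + s := by
    rw [add_comm]; exact h1.trans h2
  exact_mod_cast h3

end reg

section sqzero

variable {C : Type*} [CommRing C]

theorem add_pow_succ_of_mul_self_eq_zero (c e : C) (he : e * e = 0) (k : ℕ) :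
    (c + e) ^ (k + 1) = c ^ (k + 1) + ((k + 1 : ℕ) : C) * c ^ k * e := by
  induction k with
  | zero => simp
  | succ k ih =>
    rw [pow_succ, ih]
    push_cast
    linear_combination ((k + 1 : C) * c ^ k) * he

theorem mul_self_eq_zero_of_mem {I : Ideal C} (hI : I ^ 2 = ⊥) {e e' : C} (he : e ∈ I)
    (he' : e' ∈ I) : e * e' = 0 := by
  have : e * e' ∈ I ^ 2 := by
    rw [pow_two]; exact Ideal.mul_mem_mul he he'
  rwa [hI, Ideal.mem_bot] at this

/-- Newton step. -/
theorem exists_root_of_sq_zero {I : Ideal C} (hI : I ^ 2 = ⊥) (c t : C) (k : ℕ)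
    (hc : IsUnit c) (hk : IsUnit (((k + 1 : ℕ) : C))) (hct : c ^ (k + 1) - t ∈ I) :
    ∃ c' : C, c' - c ∈ I ∧ c' ^ (k + 1) = t := by
  obtain ⟨u, hu⟩ : IsUnit (((k + 1 : ℕ) : C) * c ^ k) := hk.mul (hc.pow k)
  set d := c ^ (k + 1) - t with hd
  have he : -(↑u⁻¹ * d) ∈ I := I.neg_mem (I.mul_mem_left _ hct)
  refine ⟨c + -(↑u⁻¹ * d), by simpa using he, ?_⟩
  rw [add_pow_succ_of_mul_self_eq_zero _ _ (mul_self_eq_zero_of_mem hI he he), ← hu]
  have h1 : (u : C) * ↑u⁻¹ = 1 := u.mul_inv
  linear_combination (-d) * h1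

theorem eq_of_pow_eq_of_sq_zero {I : Ideal C} (hI : I ^ 2 = ⊥) (a b : C) (k : ℕ)
    (hb : IsUnit b) (hk : IsUnit (((k + 1 : ℕ) : C))) (hab : a - b ∈ I)
    (hpow : a ^ (k + 1) = b ^ (k + 1)) : a = b := by
  obtain ⟨u, hu⟩ : IsUnit (((k + 1 : ℕ) : C) * b ^ k) := hk.mul (hb.pow k)
  have h1 := add_pow_succ_of_mul_self_eq_zero b (a - b) (mul_self_eq_zero_of_mem hI hab hab) k
  rw [add_sub_cancel, hpow, ← hu] at h1
  have h2 : (u : C) * (a - b) = 0 := by linear_combination -h1
  have h3 : a - b = 0 := by
    have := congrArg (fun z => (↑u⁻¹ : C) * z) h2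
    simpa [← mul_assoc] using this
  exact sub_eq_zero.mp h3

end sqzero

section etale

variable (A : Type u) [CommRing A] {r : ℕ} (f : Fin r → A) (n : Fin r → ℕ)

/-- the localized Kummer algebra -/
abbrev BF : Type u := Localization.Away (algebraMap A (kummerAlg A f n) (∏ i, f i))

/-- the class of `X i` in the localized algebra -/
noncomputable def yy (i : Fin r) : BF A f n := algebraMap (kummerAlg A f n) (BF A f n) (xx A f n i)

theorem yy_pow (i : Fin r) : yy A f n i ^ n i = algebraMap A (BF A f n) (f i) := by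
  unfold yy
  rw [← map_pow, xx_pow, ← IsScalarTower.algebraMap_apply]

theorem isUnit_algebraMap_of_algHom {D : Type*} [CommRing D] [Algebra A D] (g : BF A f n →ₐ[A] D)
    (i : Fin r) : IsUnit (algebraMap A D (f i)) := by
  have h1 : IsUnit (algebraMap A D (∏ i, f i)) := by
    have h2 : IsUnit (algebraMap (kummerAlg A f n) (BF A f n)
        (algebraMap A (kummerAlg A f n) (∏ i, f i))) :=
      IsLocalization.Away.algebraMap_isUnit _
    rw [← IsScalarTower.algebraMap_apply] at h2
    have h3 := h2.map g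
    rwa [AlgHom.commutes] at h3
  exact isUnit_of_dvd_unit (map_dvd _ (Finset.dvd_prod_of_mem f (Finset.mem_univ i))) h1

theorem algHom_ext_BF {D : Type*} [CommRing D] [Algebra A D] {g₁ g₂ : BF A f n →ₐ[A] D}
    (h : ∀ i, g₁ (yy A f n i) = g₂ (yy A f n i)) : g₁ = g₂ := by
  apply AlgHom.coe_ringHom_injective
  refine IsLocalization.ringHom_ext
    (Submonoid.powers (algebraMap A (kummerAlg A f n) (∏ i, f i))) ?_
  have h1 : g₁.comp (IsScalarTower.toAlgHom A (kummerAlg A f n) (BF A f n)) =
      g₂.comp (IsScalarTower.toAlgHom A (kummerAlg A f n) (BF A f n)) :=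
    algHom_ext A f n h
  refine RingHom.ext fun x => ?_
  exact DFunLike.congr_fun h1 x

variable (hn : ∀ i, 1 ≤ n i) (hu : ∀ i, IsUnit ((n i : ℕ) : A))

include hn hu in
theorem formallyEtale_BF : Algebra.FormallyEtale A (BF A f n) := by
  rw [Algebra.FormallyEtale.iff_comp_bijective]
  intro C _ _ I hI
  have hnC : ∀ i, IsUnit ((n i : ℕ) : C) := fun i => by
    have := (hu i).map (algebraMap A C)
    rwa [map_natCast] at this
  constructor
  · intro h₁ h₂ h12
    apply algHom_ext_BF
    intro i
    obtain ⟨k, hk⟩ : ∃ k, n i = k + 1 := ⟨n i - 1, by have := hn i; omega⟩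
    have hb : IsUnit (h₂ (yy A f n i)) := by
      have h3 : IsUnit (h₂ (yy A f n i) ^ n i) := by
        rw [← map_pow, yy_pow, AlgHom.commutes]
        exact isUnit_algebraMap_of_algHom A f n h₂ i
      exact (isUnit_pow_iff (by have := hn i; omega)).mp h3
    have hab : h₁ (yy A f n i) - h₂ (yy A f n i) ∈ I := by
      rw [← Ideal.Quotient.eq]
      exact DFunLike.congr_fun h12 (yy A f n i)
    have hpow : h₁ (yy A f n i) ^ (k + 1) = h₂ (yy A f n i) ^ (k + 1) := by
      rw [← hk, ← map_pow, ← map_pow, yy_pow, AlgHom.commutes, AlgHom.commutes]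
    exact eq_of_pow_eq_of_sq_zero hI _ _ k hb (hk ▸ hnC i) hab hpow
  · intro g
    have hnil : IsNilpotent I := ⟨2, hI⟩
    have hex : ∀ i, ∃ c' : C, Ideal.Quotient.mk I c' = g (yy A f n i) ∧
        c' ^ n i = algebraMap A C (f i) := by
      intro i
      obtain ⟨k, hk⟩ : ∃ k, n i = k + 1 := ⟨n i - 1, by have := hn i; omega⟩
      obtain ⟨c, hc⟩ := Ideal.Quotient.mk_surjective (g (yy A f n i))
      have hpow : Ideal.Quotient.mk I (c ^ (k + 1)) =
          Ideal.Quotient.mk I (algebraMap A C (f i)) := by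
        rw [map_pow, hc, ← hk, ← map_pow, yy_pow, AlgHom.commutes]
        rfl
      have hcu : IsUnit c := by
        rw [← IsNilpotent.isUnit_quotient_mk_iff hnil, hc]
        have h3 : IsUnit (g (yy A f n i) ^ n i) := by
          rw [← map_pow, yy_pow, AlgHom.commutes]
          exact isUnit_algebraMap_of_algHom A f n g i
        exact (isUnit_pow_iff (by have := hn i; omega)).mp h3
      obtain ⟨c', hc'1, hc'2⟩ := exists_root_of_sq_zero hI c (algebraMap A C (f i)) k hcu
        (hk ▸ hnC i) (Ideal.Quotient.eq.mp hpow)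
      refine ⟨c', ?_, hk ▸ hc'2⟩
      rw [← hc]
      exact Ideal.Quotient.eq.mpr hc'1
    choose c' hc'1 hc'2 using hex
    let h0 : kummerAlg A f n →ₐ[A] C := lift A f n c' hc'2
    have hunit : ∀ y : Submonoid.powers (algebraMap A (kummerAlg A f n) (∏ i, f i)),
        IsUnit (h0 y) := by
      rintro ⟨_, m, rfl⟩
      rw [map_pow]
      apply IsUnit.pow
      rw [AlgHom.commutes, ← IsNilpotent.isUnit_quotient_mk_iff hnil]
      have h2 : IsUnit (algebraMap (kummerAlg A f n) (BF A f n)
          (algebraMap A (kummerAlg A f n) (∏ i, f i))) :=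
        IsLocalization.Away.algebraMap_isUnit _
      rw [← IsScalarTower.algebraMap_apply] at h2
      have h3 := h2.map g
      rwa [AlgHom.commutes] at h3
    refine ⟨IsLocalization.liftAlgHom (S := BF A f n) hunit, ?_⟩
    apply algHom_ext_BF
    intro i
    show Ideal.Quotient.mk I (IsLocalization.liftAlgHom (S := BF A f n) hunit (yy A f n i)) = _
    unfold yy
    rw [IsLocalization.liftAlgHom_apply, IsLocalization.lift_eq]
    show Ideal.Quotient.mk I (h0 (xx A f n i)) = _
    rw [lift_xx, hc'1]
    rfl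

end etale

theorem result (A : Type u) [CommRing A] [IsRegularLocalRing A] (r : ℕ) (f : Fin r → A)
    (hm : ∀ i, f i ∈ maximalIdeal A)
    (hf : LinearIndependent (ResidueField A) (fun i => (maximalIdeal A).toCotangent ⟨f i, hm i⟩))
    (n : Fin r → ℕ) (hn : ∀ i, 1 ≤ n i) :
    IsRegularLocalRing (SGA1.kummerAlg A f n) ∧
    ((∀ i, IsUnit ((n i : ℕ) : ResidueField A)) →
      letI := (Localization.awayMap (algebraMap A (SGA1.kummerAlg A f n)) (∏ i, f i)).toAlgebra
      Algebra.Etale (Localization.Away (∏ i, f i)) (Localization.Away (algebraMap A (SGA1.kummerAlg A f n) (∏ i, f i)))) := by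
  refine ⟨isRegularLocalRing_kummer A f n hm hn hf, fun hu => ?_⟩
  have huA : ∀ i, IsUnit ((n i : ℕ) : A) := fun i => by
    rw [← IsLocalRing.residue_ne_zero_iff_isUnit, map_natCast]
    exact (hu i).ne_zero
  let _ := (Localization.awayMap (algebraMap A (SGA1.kummerAlg A f n)) (∏ i, f i)).toAlgebra
  have hst : IsScalarTower A (Localization.Away (∏ i, f i)) (BF A f n) := by
    apply IsScalarTower.of_algebraMap_eq
    intro a
    show _ = Localization.awayMap _ _ (algebraMap A _ a)
    simp only [Localization.awayMap, IsLocalization.Away.map, IsLocalization.map_eq]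
    exact IsScalarTower.algebraMap_apply A (kummerAlg A f n) (BF A f n) a
  have h1 := formallyEtale_BF A f n hn huA
  have h2 : Algebra.FormallyEtale (Localization.Away (∏ i, f i)) (BF A f n) :=
    Algebra.FormallyEtale.of_restrictScalars (R := A)
  have h3 : Algebra.FinitePresentation A (kummerAlg A f n) :=
    Algebra.FinitePresentation.quotient (Submodule.fg_span (Set.finite_range _))
  have h4 : Algebra.FinitePresentation (kummerAlg A f n) (BF A f n) :=
    IsLocalization.Away.finitePresentation (algebraMap A (kummerAlg A f n) (∏ i, f i))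
  have h5 : Algebra.FinitePresentation A (BF A f n) :=
    Algebra.FinitePresentation.trans A (kummerAlg A f n) (BF A f n)
  have h6 : Algebra.FinitePresentation A (Localization.Away (∏ i, f i)) :=
    IsLocalization.Away.finitePresentation (∏ i, f i)
  have h7 := Algebra.FinitePresentation.of_restrict_scalars_finitePresentation A
    (Localization.Away (∏ i, f i)) (BF A f n)
  exact ⟨h2, h7⟩

end Groth.Agent.S2921
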