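import Groth.Statements.S2933
import Groth.Agent.Lib.Helper28Hartshorne

set_option autoImplicit false
universe u
open LocCoh

namespace Groth.Agent.S2933

/-- Let A be a Noetherian ring with connected spectrum and d ≥ 1 an integer such that every prime p with
dim A_p ≥ d has depth A_p ≥ 2. Then for any two minimal primes p', p'' of A there is a finite
sequence of minimal primes starting at p' and ending at p'' such that any two consecutive members
are both contained in some prime of height at most d − 1 (Spec A is connected in codimension d − 1). -/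
theorem result (A : Type u) [CommRing A] [IsNoetherianRing A] [ConnectedSpace (PrimeSpectrum A)] (d : ℕ) (hd : 1 ≤ d) (h : ∀ p : PrimeSpectrum A, (d : ℕ∞) ≤ p.asIdeal.height → (2 : ℕ∞) ≤ LocCoh.depth (Localization.AtPrime p.asIdeal) (Localization.AtPrime p.asIdeal)) (p' p'' : PrimeSpectrum A) (hp' : p'.asIdeal ∈ minimalPrimes A) (hp'' : p''.asIdeal ∈ minimalPrimes A) : ∃ l : List (PrimeSpectrum A), l.head? = some p' ∧ l.getLast? = some p'' ∧ (∀ p ∈ l, p.asIdeal ∈ minimalPrimes A) ∧ List.IsChain (fun p q => ∃ r : PrimeSpectrum A, p ≤ r ∧ q ≤ r ∧ r.asIdeal.height ≤ (d - 1 : ℕ)) l := by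
  classical
  -- the adjacency relation on minimal primes
  set Rel' : PrimeSpectrum A → PrimeSpectrum A → Prop := fun p q =>
    p.asIdeal ∈ minimalPrimes A ∧ q.asIdeal ∈ minimalPrimes A ∧
      ∃ r : PrimeSpectrum A, p ≤ r ∧ q ≤ r ∧ r.asIdeal.height ≤ (d - 1 : ℕ) with hRel'
  suffices hreach : Relation.ReflTransGen Rel' p' p'' by
    obtain ⟨l, hl1, hl2⟩ := List.exists_isChain_cons_of_relationReflTransGen hreach
    refine ⟨p' :: l, rfl, ?_, ?_, ?_⟩
    · rw [List.getLast?_eq_getLast_of_ne_nil (List.cons_ne_nil _ _), hl2]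
    · exact List.IsChain.induction (fun p => p.asIdeal ∈ minimalPrimes A) (p' :: l) hl1
        (fun x y hxy _ => hxy.2.1) (fun _ => hp')
    · exact List.IsChain.imp (fun a b hab => hab.2.2) hl1
  by_contra hnot
  have hfin : (minimalPrimes A).Finite := minimalPrimes.finite_of_isNoetherianRing A
  set Reach : Ideal A → Prop := fun P =>
    ∃ hP : P.IsPrime, Relation.ReflTransGen Rel' p' ⟨P, hP⟩ with hReach
  set F1 : Finset (Ideal A) := hfin.toFinset.filter Reach with hF1
  set F2 : Finset (Ideal A) := hfin.toFinset.filter (fun P => ¬ Reach P) with hF2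
  have hF : ∀ P, P ∈ minimalPrimes A → P ∈ F1 ∨ P ∈ F2 := by
    intro P hP
    by_cases hr : Reach P
    · exact Or.inl (Finset.mem_filter.mpr ⟨hfin.mem_toFinset.mpr hP, hr⟩)
    · exact Or.inr (Finset.mem_filter.mpr ⟨hfin.mem_toFinset.mpr hP, hr⟩)
  have hF1min : ∀ P ∈ F1, P ∈ minimalPrimes A := fun P hP =>
    hfin.mem_toFinset.mp (Finset.mem_filter.mp hP).1
  have hF2min : ∀ P ∈ F2, P ∈ minimalPrimes A := fun P hP =>
    hfin.mem_toFinset.mp (Finset.mem_filter.mp hP).1
  have hFdisj : ∀ P, P ∈ F1 → P ∈ F2 → False := fun P h1 h2 =>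
    (Finset.mem_filter.mp h2).2 (Finset.mem_filter.mp h1).2
  have hp'F1 : p'.asIdeal ∈ F1 :=
    Finset.mem_filter.mpr ⟨hfin.mem_toFinset.mpr hp', p'.2, Relation.ReflTransGen.refl⟩
  have hp''F2 : p''.asIdeal ∈ F2 := by
    refine Finset.mem_filter.mpr ⟨hfin.mem_toFinset.mpr hp'', ?_⟩
    rintro ⟨_, hr⟩
    exact hnot hr
  set I : Ideal A := F1.inf id with hI
  set J : Ideal A := F2.inf id with hJ
  -- connectedness gives a prime containing `I + J`
  have hcover : (Set.univ : Set (PrimeSpectrum A)) ⊆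
      PrimeSpectrum.zeroLocus (I : Set A) ∪ PrimeSpectrum.zeroLocus (J : Set A) := by
    intro Q _
    obtain ⟨P, hPmin, hPQ⟩ := Ideal.exists_minimalPrimes_le (I := ⊥) (J := Q.asIdeal) bot_le
    rcases hF P hPmin with h1 | h2
    · left
      rw [PrimeSpectrum.mem_zeroLocus]
      exact (Finset.inf_le (f := id) h1 : I ≤ P).trans hPQ
    · right
      rw [PrimeSpectrum.mem_zeroLocus]
      exact (Finset.inf_le (f := id) h2 : J ≤ P).trans hPQ
  have hconn : IsPreconnected (Set.univ : Set (PrimeSpectrum A)) := isPreconnected_univ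
  obtain ⟨Q, -, hQI, hQJ⟩ := isPreconnected_closed_iff.mp hconn _ _
    (PrimeSpectrum.isClosed_zeroLocus _) (PrimeSpectrum.isClosed_zeroLocus _) hcover
    ⟨p', trivial, by
      rw [PrimeSpectrum.mem_zeroLocus]
      exact (Finset.inf_le (f := id) hp'F1 : I ≤ p'.asIdeal)⟩
    ⟨p'', trivial, by
      rw [PrimeSpectrum.mem_zeroLocus]
      exact (Finset.inf_le (f := id) hp''F2 : J ≤ p''.asIdeal)⟩
  rw [PrimeSpectrum.mem_zeroLocus] at hQI hQJ
  have hIJQ : I ⊔ J ≤ Q.asIdeal := sup_le hQI hQJ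
  obtain ⟨q, hqmin, -⟩ := Ideal.exists_minimalPrimes_le hIJQ
  have hqprime : q.IsPrime := hqmin.1.1
  have hdepth := Groth.Agent.Lib.Helper28.not_two_le_depth_of_mem_minimalPrimes_sup_inf F1 F2 hF
    hF1min hF2min hFdisj q hqmin
  have hht : q.height ≤ (d - 1 : ℕ) := by
    by_contra hlt
    rw [not_le] at hlt
    apply hdepth
    apply h ⟨q, hqprime⟩
    have h1 := Order.add_one_le_of_lt hlt
    have h2 : ((d - 1 : ℕ) : ℕ∞) + 1 = (d : ℕ∞) := by
      have : d - 1 + 1 = d := Nat.sub_add_cancel hd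
      exact_mod_cast this
    rw [h2] at h1
    exact h1
  obtain ⟨p1, hp1F1, hp1q⟩ := (Ideal.IsPrime.inf_le' hqprime).mp (le_sup_left.trans hqmin.1.2 : I ≤ q)
  obtain ⟨p2, hp2F2, hp2q⟩ := (Ideal.IsPrime.inf_le' hqprime).mp (le_sup_right.trans hqmin.1.2 : J ≤ q)
  obtain ⟨-, hp1prime, hreach1⟩ := Finset.mem_filter.mp hp1F1
  have hp2min := hF2min p2 hp2F2
  have hp2prime : p2.IsPrime := hp2min.1.1
  apply (Finset.mem_filter.mp hp2F2).2
  refine ⟨hp2prime, Relation.ReflTransGen.tail hreach1 ?_⟩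
  exact ⟨hF1min p1 hp1F1, hp2min, ⟨q, hqprime⟩, hp1q, hp2q, hht⟩

end Groth.Agent.S2933
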