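import Groth.Statements.S2964
import Mathlib
-- import your own Groth.Agent.* helpers here

set_option autoImplicit false
universe u
open scoped TensorProduct
open SGA3t2b

namespace Groth.Agent.S2964

section Aux

variable {A : Type u} [CommRing A]

/-- If `1 ⊗ x = 0` in `κ(P) ⊗ M` then some `s ∉ P` carries `x` into `P M`. -/
theorem exists_smul_mem_of_tmul_eq_zero (P : Ideal A) [P.IsPrime] {M : Type u} [AddCommGroup M]
    [Module A M] (x : M) (h : (1 : P.ResidueField) ⊗ₜ[A] x = 0) :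
    ∃ s : A, s ∉ P ∧ s • x ∈ P • (⊤ : Submodule A M) := by
  classical
  let K := P.ResidueField
  let Ab := A ⧸ P
  let Mb := M ⧸ (P • (⊤ : Submodule A M))
  -- the comparison map
  let β : K →ₗ[A] M →ₗ[A] K ⊗[Ab] Mb :=
    LinearMap.mk₂ A (fun c m => c ⊗ₜ[Ab] (Submodule.Quotient.mk m : Mb))
      (fun c₁ c₂ m => TensorProduct.add_tmul _ _ _)
      (fun a c m => by rw [TensorProduct.smul_tmul'])
      (fun c m₁ m₂ => by rw [Submodule.Quotient.mk_add, TensorProduct.tmul_add])
      (fun a c m => by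
        rw [Submodule.Quotient.mk_smul, TensorProduct.smul_tmul', ← algebraMap_smul Ab a
          (Submodule.Quotient.mk m : Mb), TensorProduct.tmul_smul, TensorProduct.smul_tmul',
          algebraMap_smul])
  let φ : K ⊗[A] M →ₗ[A] K ⊗[Ab] Mb := TensorProduct.lift β
  have h1 : (1 : K) ⊗ₜ[Ab] (Submodule.Quotient.mk x : Mb) = 0 := by
    have := congrArg φ h
    simpa [φ, β] using this
  have : IsLocalizedModule (nonZeroDivisors Ab) (TensorProduct.mk Ab K Mb 1) :=
    (isLocalizedModule_iff_isBaseChange (nonZeroDivisors Ab) K _).mpr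
      (TensorProduct.isBaseChange Ab Mb K)
  have h2 : (TensorProduct.mk Ab K Mb 1) (Submodule.Quotient.mk x : Mb) = 0 := h1
  rw [IsLocalizedModule.eq_zero_iff (nonZeroDivisors Ab)] at h2
  obtain ⟨⟨s', hs'⟩, hs⟩ := h2
  obtain ⟨s, rfl⟩ := Ideal.Quotient.mk_surjective s'
  refine ⟨s, ?_, ?_⟩
  · intro hsP
    have : (Ideal.Quotient.mk P s) = 0 := Ideal.Quotient.eq_zero_iff_mem.mpr hsP
    exact (nonZeroDivisors.ne_zero hs') this
  · have h3 : (Ideal.Quotient.mk P s) • (Submodule.Quotient.mk x : Mb) = 0 := hs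
    have h4 : (Submodule.Quotient.mk (s • x) : Mb) = 0 := by
      rw [Submodule.Quotient.mk_smul]
      exact h3
    exact (Submodule.Quotient.mk_eq_zero _).mp h4

/-- Every element of `κ(P) ⊗ M` is a pure tensor. -/
theorem exists_eq_tmul (P : Ideal A) [P.IsPrime] {M : Type u} [AddCommGroup M]
    [Module A M] (y : P.ResidueField ⊗[A] M) : ∃ (c : P.ResidueField) (x : M), y = c ⊗ₜ[A] x := by
  classical
  induction y using TensorProduct.induction_on with
  | zero => exact ⟨0, 0, by simp⟩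
  | tmul c x => exact ⟨c, x, rfl⟩
  | add y₁ y₂ h₁ h₂ =>
    obtain ⟨c₁, x₁, rfl⟩ := h₁
    obtain ⟨c₂, x₂, rfl⟩ := h₂
    obtain ⟨a₁', s₁', hs₁, rfl⟩ := IsFractionRing.div_surjective (A ⧸ P) c₁
    obtain ⟨a₂', s₂', hs₂, rfl⟩ := IsFractionRing.div_surjective (A ⧸ P) c₂
    obtain ⟨a₁, rfl⟩ := Ideal.Quotient.mk_surjective a₁'
    obtain ⟨a₂, rfl⟩ := Ideal.Quotient.mk_surjective a₂'
    obtain ⟨s₁, rfl⟩ := Ideal.Quotient.mk_surjective s₁'
    obtain ⟨s₂, rfl⟩ := Ideal.Quotient.mk_surjective s₂'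
    simp only [Ideal.algebraMap_quotient_residueField_mk]
    have hn₁ : algebraMap A P.ResidueField s₁ ≠ 0 := by
      rw [← Ideal.algebraMap_quotient_residueField_mk]
      exact map_ne_zero_of_mem_nonZeroDivisors _
        P.injective_algebraMap_quotient_residueField hs₁
    have hn₂ : algebraMap A P.ResidueField s₂ ≠ 0 := by
      rw [← Ideal.algebraMap_quotient_residueField_mk]
      exact map_ne_zero_of_mem_nonZeroDivisors _
        P.injective_algebraMap_quotient_residueField hs₂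
    set d : P.ResidueField := (algebraMap A P.ResidueField s₁ * algebraMap A P.ResidueField s₂)⁻¹
    refine ⟨d, (a₁ * s₂) • x₁ + (a₂ * s₁) • x₂, ?_⟩
    have e₁ : algebraMap A P.ResidueField a₁ / algebraMap A P.ResidueField s₁ = (a₁ * s₂) • d := by
      rw [Algebra.smul_def, map_mul]
      simp only [d]
      field_simp
    have e₂ : algebraMap A P.ResidueField a₂ / algebraMap A P.ResidueField s₂ = (a₂ * s₁) • d := by
      rw [Algebra.smul_def, map_mul]
      simp only [d]
      field_simp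
    rw [e₁, e₂, TensorProduct.tmul_add, TensorProduct.tmul_smul, TensorProduct.tmul_smul,
      TensorProduct.smul_tmul', TensorProduct.smul_tmul']

end Aux

section LCS

variable (A : Type u) [CommRing A] (L : Type u) [LieRing L] [LieAlgebra A L]

/-- The bracket as a bilinear map. -/
def brk : L →ₗ[A] L →ₗ[A] L := (LieModule.toEnd A L L : L →ₗ[A] Module.End A L)

@[simp] theorem brk_apply (x y : L) : brk A L x y = ⁅x, y⁆ := rfl

/-- The lower central series, as submodules. -/
def C (k : ℕ) : Submodule A L := LieSubmodule.toSubmodule (LieModule.lowerCentralSeries A L L k)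

theorem C_zero : C A L 0 = ⊤ := by
  simp [C]

theorem C_succ (k : ℕ) : C A L (k + 1) = Submodule.map₂ (brk A L) ⊤ (C A L k) := by
  unfold C
  rw [LieModule.lowerCentralSeries_succ, LieSubmodule.lieIdeal_oper_eq_linear_span',
    Submodule.map₂_eq_span_image2]
  congr 1

theorem C_fg [Module.Finite A L] (k : ℕ) : (C A L k).FG := by
  induction k with
  | zero => rw [C_zero]; exact Module.Finite.fg_top
  | succ k ih => rw [C_succ]; exact Submodule.FG.map₂ _ Module.Finite.fg_top ih

variable {A L}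

theorem map₂_brk_smul_le (I : Ideal A) (N : Submodule A L) :
    Submodule.map₂ (brk A L) ⊤ (I • N) ≤ I • Submodule.map₂ (brk A L) ⊤ N := by
  rw [Submodule.map₂_le]
  intro x _ n hn
  refine Submodule.smul_induction_on hn ?_ ?_
  · intro a ha n hn
    rw [map_smul]
    exact Submodule.smul_mem_smul ha (Submodule.apply_mem_map₂ _ trivial hn)
  · intro n₁ n₂ h₁ h₂
    rw [map_add]
    exact Submodule.add_mem _ h₁ h₂

theorem C_add_le (I : Ideal A) (k : ℕ) (h : C A L k ≤ I • (⊤ : Submodule A L)) (l : ℕ) :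
    C A L (k + l) ≤ I • C A L l := by
  induction l with
  | zero => rwa [C_zero, Nat.add_zero]
  | succ l ih =>
    rw [← Nat.add_assoc, C_succ, C_succ]
    exact (Submodule.map₂_le_map₂_right ih).trans (map₂_brk_smul_le I _)

/-- The set of ideals `I` such that some term of the lower central series lies in `I L`. -/
def T (A : Type u) [CommRing A] (L : Type u) [LieRing L] [LieAlgebra A L] : Set (Ideal A) :=
  {I | ∃ k, C A L k ≤ I • (⊤ : Submodule A L)}

theorem T_mono {I J : Ideal A} (h : I ≤ J) (hI : I ∈ T A L) : J ∈ T A L := by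
  obtain ⟨k, hk⟩ := hI
  exact ⟨k, hk.trans (Submodule.smul_mono_left h)⟩

theorem T_mul {I J : Ideal A} (hI : I ∈ T A L) (hJ : J ∈ T A L) : I * J ∈ T A L := by
  obtain ⟨k, hk⟩ := hI
  obtain ⟨l, hl⟩ := hJ
  refine ⟨k + l, (C_add_le I k hk l).trans ?_⟩
  rw [Submodule.mul_smul]
  exact Submodule.smul_mono le_rfl hl

theorem top_mem_T : (⊤ : Ideal A) ∈ T A L := ⟨0, by simp⟩

theorem sSup_notMem_T [Module.Finite A L] (c : Set (Ideal A)) (hc : IsChain (· ≤ ·) c)
    (hne : c.Nonempty) (hcT : ∀ I ∈ c, I ∉ T A L) : sSup c ∉ T A L := by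
  rintro ⟨k, hk⟩
  have h1 : (sSup c) • (⊤ : Submodule A L) =
      sSup ((fun I : Ideal A => I • (⊤ : Submodule A L)) '' c) := by
    rw [sSup_eq_iSup', Submodule.iSup_smul, sSup_image']
  rw [h1] at hk
  have hcomp := (Submodule.fg_iff_compact _).mp (C_fg A L k)
  rw [CompleteLattice.isCompactElement_iff_le_of_directed_sSup_le] at hcomp
  have hdir : DirectedOn (· ≤ ·) ((fun I : Ideal A => I • (⊤ : Submodule A L)) '' c) := by
    rw [directedOn_image]
    exact hc.directedOn.mono (fun _ _ h => Submodule.smul_mono_left h)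
  obtain ⟨x, ⟨I, hI, rfl⟩, hx⟩ := hcomp _ (hne.image _) hdir hk
  exact hcT I hI ⟨k, hx⟩

/-- If `⊥ ∉ T` there is a prime ideal maximal among the ideals not in `T`. -/
theorem exists_prime_maximal [Module.Finite A L] (h : (⊥ : Ideal A) ∉ T A L) :
    ∃ P : Ideal A, P.IsPrime ∧ P ∉ T A L ∧ ∀ Q : Ideal A, P < Q → Q ∈ T A L := by
  obtain ⟨P, -, hP⟩ := zorn_le_nonempty₀ (T A L)ᶜ
    (fun c hc hchain y hy => ⟨sSup c, sSup_notMem_T c hchain ⟨y, hy⟩ (fun I hI => hc hI),
      fun z hz => le_sSup hz⟩) ⊥ h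
  have hPT : P ∉ T A L := hP.prop
  have hmax : ∀ Q : Ideal A, P < Q → Q ∈ T A L := by
    intro Q hPQ
    by_contra hQ
    exact absurd (hP.le_of_ge hQ hPQ.le) (not_le_of_gt hPQ)
  refine ⟨P, ⟨?_, ?_⟩, hPT, hmax⟩
  · rintro rfl
    exact hPT top_mem_T
  · intro a b hab
    by_contra hcon
    rw [not_or] at hcon
    obtain ⟨ha, hb⟩ := hcon
    have hQa : P ⊔ Ideal.span {a} ∈ T A L := hmax _ (by
      refine lt_of_le_of_ne le_sup_left (fun heq => ha ?_)
      rw [heq]
      exact Ideal.mem_sup_right (Ideal.mem_span_singleton_self a))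
    have hQb : P ⊔ Ideal.span {b} ∈ T A L := hmax _ (by
      refine lt_of_le_of_ne le_sup_left (fun heq => hb ?_)
      rw [heq]
      exact Ideal.mem_sup_right (Ideal.mem_span_singleton_self b))
    refine hPT (T_mono ?_ (T_mul hQa hQb))
    rw [Ideal.mul_le]
    intro r hr s hs
    obtain ⟨p₁, hp₁, r', hr', rfl⟩ := Submodule.mem_sup.mp hr
    obtain ⟨p₂, hp₂, s', hs', rfl⟩ := Submodule.mem_sup.mp hs
    obtain ⟨x, rfl⟩ := Ideal.mem_span_singleton'.mp hr'
    obtain ⟨y, rfl⟩ := Ideal.mem_span_singleton'.mp hs'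
    have : (p₁ + x * a) * (p₂ + y * b) = p₁ * (p₂ + y * b) + (x * a) * p₂ + (x * y) * (a * b) := by
      ring
    rw [this]
    exact P.add_mem (P.add_mem (P.mul_mem_right _ hp₁) (P.mul_mem_left _ hp₂))
      (P.mul_mem_left _ hab)

end LCS

section Main

variable {A : Type u} [CommRing A] {L : Type u} [LieRing L] [LieAlgebra A L]

theorem exists_smul_le (P : Ideal A) [P.IsPrime] (N : Submodule A L) (hN : N.FG)
    (h0 : ∀ x ∈ N, (1 : P.ResidueField) ⊗ₜ[A] x = 0) :
    ∃ s : A, s ∉ P ∧ ∀ x ∈ N, s • x ∈ P • (⊤ : Submodule A L) := by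
  induction N, hN using Submodule.fg_induction with
  | singleton x =>
    obtain ⟨s, hs, hsx⟩ := exists_smul_mem_of_tmul_eq_zero P x
      (h0 x (Submodule.mem_span_singleton_self x))
    refine ⟨s, hs, fun y hy => ?_⟩
    obtain ⟨a, rfl⟩ := Submodule.mem_span_singleton.mp hy
    rw [smul_comm]
    exact Submodule.smul_mem _ _ hsx
  | sup N₁ N₂ _ _ ih₁ ih₂ =>
    obtain ⟨s₁, hs₁, h₁⟩ := ih₁ (fun x hx => h0 x (Submodule.mem_sup_left hx))
    obtain ⟨s₂, hs₂, h₂⟩ := ih₂ (fun x hx => h0 x (Submodule.mem_sup_right hx))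
    refine ⟨s₁ * s₂, fun hmem => ?_, fun y hy => ?_⟩
    · rcases Ideal.IsPrime.mem_or_mem inferInstance hmem with h | h
      · exact hs₁ h
      · exact hs₂ h
    · obtain ⟨y₁, hy₁, y₂, hy₂, rfl⟩ := Submodule.mem_sup.mp hy
      rw [smul_add]
      refine Submodule.add_mem _ ?_ ?_
      · rw [mul_comm, mul_smul]
        exact Submodule.smul_mem _ _ (h₁ y₁ hy₁)
      · rw [mul_smul]
        exact Submodule.smul_mem _ _ (h₂ y₂ hy₂)

theorem part1 [Module.Finite A L]
    (h : ∀ p : PrimeSpectrum A, LieRing.IsNilpotent (p.asIdeal.ResidueField ⊗[A] L)) :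
    LieRing.IsNilpotent L := by
  by_contra hL
  have hbot : (⊥ : Ideal A) ∉ T A L := by
    rintro ⟨k, hk⟩
    apply hL
    rw [Submodule.bot_smul, le_bot_iff] at hk
    exact (LieModule.isNilpotent_iff A L L).mpr ⟨k, (LieSubmodule.toSubmodule_eq_bot _).mp hk⟩
  obtain ⟨P, hPprime, hPT, hmax⟩ := exists_prime_maximal hbot
  have := hPprime
  have hfib : LieModule.IsNilpotent (P.ResidueField ⊗[A] L) (P.ResidueField ⊗[A] L) :=
    h ⟨P, hPprime⟩
  obtain ⟨k, hk⟩ := (LieModule.isNilpotent_iff P.ResidueField _ _).mp hfib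
  rw [LieSubmodule.lowerCentralSeries_tensor_eq_baseChange] at hk
  have hx0 : ∀ x ∈ C A L k, (1 : P.ResidueField) ⊗ₜ[A] x = 0 := by
    intro x hx
    have hmem : (1 : P.ResidueField) ⊗ₜ[A] x ∈
        (LieModule.lowerCentralSeries A L L k).baseChange P.ResidueField :=
      LieSubmodule.tmul_mem_baseChange_of_mem 1 hx
    rw [hk] at hmem
    simpa using hmem
  obtain ⟨s, hsP, hs⟩ := exists_smul_le P (C A L k) (C_fg A L k) hx0
  have hlt : P < P ⊔ Ideal.span {s} := by
    refine lt_of_le_of_ne le_sup_left (fun heq => hsP ?_)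
    rw [heq]
    exact Ideal.mem_sup_right (Ideal.mem_span_singleton_self s)
  obtain ⟨l, hl⟩ := hmax _ hlt
  apply hPT
  refine ⟨l + k, (C_add_le _ l hl k).trans ?_⟩
  rw [Submodule.sup_smul]
  refine sup_le (Submodule.smul_mono le_rfl le_top) ?_
  rw [Submodule.smul_le]
  intro r hr n hn
  obtain ⟨a, rfl⟩ := Ideal.mem_span_singleton'.mp hr
  rw [mul_smul]
  exact Submodule.smul_mem _ _ (hs n hn)

theorem part2 [Module.Finite A L] (h : ∀ x : L, IsNilpotent (LieAlgebra.ad A L x)) :
    LieRing.IsNilpotent L := by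
  apply part1 (A := A)
  intro p
  set K := p.asIdeal.ResidueField
  rw [LieAlgebra.isNilpotent_iff_forall (R := K)]
  intro y
  obtain ⟨c, x, rfl⟩ := exists_eq_tmul p.asIdeal y
  have e1 : c ⊗ₜ[A] x = c • ((1 : K) ⊗ₜ[A] x) := by
    rw [TensorProduct.smul_tmul', smul_eq_mul, mul_one]
  have e2 : LieAlgebra.ad K (K ⊗[A] L) ((1 : K) ⊗ₜ[A] x) =
      Module.End.baseChangeHom A K L (LieAlgebra.ad A L x) :=
    LieModule.toEnd_baseChange A K L L x
  rw [e1, map_smul, e2]
  exact ((h x).map (Module.End.baseChangeHom A K L)).smul c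

end Main

/-- (i) ⇒ (iii): let d be a Lie algebra over a commutative ring A which is finitely presented as an
A-module. If for every prime p of A the fibre Lie algebra κ(p) ⊗_A d is nilpotent, then d is
nilpotent (its lower central series vanishes, i.e. there is N with ad(x_1) ⋯ ad(x_N) = 0 for all
x_i); and the same conclusion holds if ad(x) is nilpotent for every x in d. -/
theorem result {A : Type u} [CommRing A] {L : Type u} [LieRing L] [LieAlgebra A L]
    [Module.FinitePresentation A L] :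
    ((∀ p : PrimeSpectrum A, LieRing.IsNilpotent (p.asIdeal.ResidueField ⊗[A] L)) → LieRing.IsNilpotent L) ∧
    ((∀ x : L, IsNilpotent (LieAlgebra.ad A L x)) → LieRing.IsNilpotent L) := by
  exact ⟨part1, part2⟩

end Groth.Agent.S2964
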