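import Groth.Statements.S4100
import Groth.Agent.R2.H24HomogSep

set_option autoImplicit false
universe u
open CategoryTheory MonoidalCategory CartesianMonoidalCategory MonObj GrpObj AlgebraicGeometry CategoryTheory.Limits
open SGA3

namespace Groth.Agent.S4100

/-- Let G be an S-group scheme locally of finite presentation and universally open over S with connected
fibres, acting on an S-scheme X locally of finite presentation over S in such a way that the
morphism G ×_S X → X ×_S X, (g, x) ↦ (g·x, x), is surjective. Then X is separated over S. -/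
theorem result (S : Scheme.{u}) (G X : Over S) [GrpObj G]
    [LocallyOfFinitePresentation G.hom] [UniversallyOpen G.hom]
    (hconn : ∀ s : S, _root_.IsConnected (G.hom.base ⁻¹' {s}))
    [LocallyOfFinitePresentation X.hom] (a : AlgGrp.Action G X)
    (hΦ : Surjective (lift a.act (snd G X)).left) : IsSeparated X.hom := by
  open Groth.Agent.R2.H24.HomogSep in
  apply isSeparated_of_isClosed_range
  rw [← closure_subset_iff_isClosed]
  intro z hz
  obtain ⟨U, hU, hxU, -⟩ := exists_isAffineOpen_mem_and_subset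
    (x := (fst X X).left z) (U := (⊤ : X.left.Opens)) trivial
  have hUaff : IsAffine (U : Scheme.{u}) := hU
  have hsep : IsSeparated (U.ι ≫ X.hom) := inferInstance
  have hirrG : GeometricallyIrreducible G.hom :=
    geometricallyIrreducible_of_connected_fibres G hconn
  have hπ : GeometricallyIrreducible (snd G (X ⊗ X)).left :=
    inferInstanceAs (GeometricallyIrreducible (pullback.snd G.hom (X ⊗ X).hom))
  have hπo : IsOpenMap (snd G (X ⊗ X)).left := by
    have : UniversallyOpen (snd G (X ⊗ X)).left :=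
      inferInstanceAs (UniversallyOpen (pullback.snd G.hom (X ⊗ X).hom))
    exact (snd G (X ⊗ X)).left.isOpenMap
  have hF : IsIrreducible ((snd G (X ⊗ X)).left ⁻¹' {z}) :=
    Scheme.Hom.isIrreducible_preimage _ hπo isIrreducible_singleton
  -- the point `(e, z)`
  have hA : ((snd G (X ⊗ X)).left ⁻¹' {z} ∩
      (tw a (𝟙 G)⁻¹ ≫ fst X X).left ⁻¹' (U : Set X.left)).Nonempty := by
    refine ⟨(lift (1 : X ⊗ X ⟶ G) (𝟙 (X ⊗ X))).left z, ?_, ?_⟩
    · change (lift (1 : X ⊗ X ⟶ G) (𝟙 (X ⊗ X)) ≫ snd G (X ⊗ X)).left z = z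
      rw [lift_snd]; rfl
    · change (lift (1 : X ⊗ X ⟶ G) (𝟙 (X ⊗ X)) ≫ tw a (𝟙 G)⁻¹ ≫ fst X X).left z ∈ U
      have h1 : lift (1 : X ⊗ X ⟶ G) (𝟙 (X ⊗ X)) ≫ tw a (𝟙 G)⁻¹ ≫ fst X X = fst X X := by
        have hp : 𝟙 (X ⊗ X) = lift (fst X X) (snd X X) := lift_fst_snd.symm
        rw [hp, ← Category.assoc, lift_tw, lift_fst, GrpObj.comp_inv, Category.comp_id, inv_one,
          AlgGrp.Action.lift_one_act]
      rw [h1]; exact hxU
  -- a point `(h⁻¹, h x', x')` over `z`
  obtain ⟨w, hw⟩ := hΦ.surj z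
  have hB : ((snd G (X ⊗ X)).left ⁻¹' {z} ∩
      (tw a (𝟙 G)⁻¹ ≫ snd X X).left ⁻¹' (U : Set X.left)).Nonempty := by
    refine ⟨(lift (fst G X)⁻¹ (lift a.act (snd G X))).left w, ?_, ?_⟩
    · change (lift (fst G X)⁻¹ (lift a.act (snd G X)) ≫ snd G (X ⊗ X)).left w = z
      rw [lift_snd]; exact hw
    · change (lift (fst G X)⁻¹ (lift a.act (snd G X)) ≫ tw a (𝟙 G)⁻¹ ≫ snd X X).left w ∈ U
      have h1 : lift (fst G X)⁻¹ (lift a.act (snd G X)) ≫ tw a (𝟙 G)⁻¹ ≫ snd X X =
          lift a.act (snd G X) ≫ fst X X := by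
        rw [← Category.assoc, lift_tw, lift_snd, GrpObj.comp_inv, Category.comp_id, _root_.inv_inv,
          lift_fst_snd, Category.id_comp, lift_fst]
      rw [h1, Over.comp_left, Scheme.Hom.comp_apply, hw]; exact hxU
  obtain ⟨q, hqF, hqA, hqB⟩ := hF.isPreirreducible _ _
    (U.isOpen.preimage (tw a (𝟙 G)⁻¹ ≫ fst X X).left.continuous)
    (U.isOpen.preimage (tw a (𝟙 G)⁻¹ ≫ snd X X).left.continuous) hA hB
  have hqz : (snd G (X ⊗ X)).left q = z := hqF
  have := mem_range_diag a (𝟙 G) U q hqA hqB (by rw [hqz]; exact hz)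
  rwa [hqz] at this

end Groth.Agent.S4100
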