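import Groth.Statements.S5324
import Mathlib
import Groth.Agent.R2.H24NeutralSet

set_option autoImplicit false
universe u
open CategoryTheory CategoryTheory.Limits MonoidalCategory CartesianMonoidalCategory MonObj GrpObj AlgebraicGeometry
open SGA3

namespace Groth.Agent.S5324

open Groth.Agent.R2.H24.NeutralSet Groth.Agent.R2.H24.BcGrp


/-- Let G be an S-group scheme whose fibres G_s are locally of finite type over κ(s) and connected. Then
G is quasi-compact over S. -/
theorem result (S : Scheme.{u}) (G : Over S) [GrpObj G]
    (hG : ∀ s : S, LocallyOfFiniteType (G.hom.fiberToSpecResidueField s))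
    (hconn : ∀ s : S, _root_.IsConnected (G.hom.base ⁻¹' {s})) : QuasiCompact G.hom := by
  rw [quasiCompact_iff_forall_isAffineOpen]
  intro V hV
  haveI : IsAffine (V : Scheme.{u}) := hV
  haveI : QuasiSeparatedSpace (V : Scheme.{u}) := inferInstance
  obtain ⟨U, hUc, hUV, hU⟩ := exists_isCompact_opens_supset G V (V : Set S) hV.isCompact
    (subset_refl _)
  have heq : (G.hom ⁻¹ᵁ V : Set G.left) = (U : Set G.left) := by
    apply le_antisymm
    · intro x hx
      refine hU ⟨?_, hx⟩
      exact fibre_subset_neutralSet G (G.hom x) (hconn (G.hom x)).isPreconnected rfl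
    · exact hUV
  rw [heq]
  exact hUc

end Groth.Agent.S5324
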