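import Groth.Statements.S3025
import Groth.Prelude.Def_NonAbH2
import Groth.Agent.S4100
import Groth.Agent.S5324

set_option autoImplicit false
universe u
open CategoryTheory MonoidalCategory CartesianMonoidalCategory MonObj GrpObj AlgebraicGeometry TensorProduct
open SGA3

namespace Groth.Agent.S3025

/-- Let S be a scheme and G a group scheme over S which is locally of finite presentation and
universally open over S and whose fibres are connected. Then G is separated and quasi-compact (hence
of finite presentation) over S. -/
theorem result (S : Scheme.{u}) (G : Over S) [GrpObj G]
    [LocallyOfFinitePresentation G.hom] [UniversallyOpen G.hom]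
    (hconn : ∀ s : S, _root_.IsConnected (G.hom.base ⁻¹' {s})) :
    IsSeparated G.hom ∧ QuasiCompact G.hom := by
  refine ⟨?_, ?_⟩
  · have hiso : IsIso (lift (NonAbH1.trivialAction G).act (snd G G)) :=
      NonAbH1.isPseudoTorsorSch_trivialAction G
    have hiso' : IsIso (lift (NonAbH1.trivialAction G).act (snd G G)).left :=
      inferInstanceAs (IsIso ((Over.forget S).map (lift (NonAbH1.trivialAction G).act (snd G G))))
    exact Groth.Agent.S4100.result S G G hconn (NonAbH1.trivialAction G) inferInstance
  · refine Groth.Agent.S5324.result S G (fun s => ?_) hconn
    have : LocallyOfFiniteType (Limits.pullback.snd G.hom (S.fromSpecResidueField s)) := inferInstance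
    exact this

end Groth.Agent.S3025
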