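import Groth.Statements.S3031
import Groth.Agent.Lib.Helper25IdCompScheme

set_option autoImplicit false
universe u
open CategoryTheory MonoidalCategory CartesianMonoidalCategory MonObj GrpObj AlgebraicGeometry TensorProduct
open SGA3

namespace Groth.Agent.S3031

/-- With X connected and possessing a rational point over the identity, a case of 'geometrically
connected with e ∈ f(X)': let G be a group scheme over a field k, X a connected, geometrically
reduced k-scheme, x a k-point of X and f : X → G a k-morphism with f(x) the identity. Then the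
smallest closed subgroup scheme of G through which f factors is connected. -/
theorem result (k : Type u) [Field k] (G X : Over (Spec (CommRingCat.of k))) [GrpObj G]
    [GeometricallyReduced X.hom] [ConnectedSpace X.left] (x : 𝟙_ (Over (Spec (CommRingCat.of k))) ⟶ X) (f : X ⟶ G)
    (hx : x ≫ f = η[G])
    (Γ : Over (Spec (CommRingCat.of k))) [GrpObj Γ] (i : Γ ⟶ G) [IsMonHom i] [IsClosedImmersion i.left]
    (hf : ∃ f' : X ⟶ Γ, f' ≫ i = f)
    (hmin : ∀ (Γ' : Over (Spec (CommRingCat.of k))) (_ : GrpObj Γ') (i' : Γ' ⟶ G), IsMonHom i' → IsClosedImmersion i'.left →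
        (∃ f'' : X ⟶ Γ', f'' ≫ i' = f) → ∃ j : Γ ⟶ Γ', j ≫ i' = i) :
    ConnectedSpace Γ.left := by
  open Groth.Agent.Lib.Helper25.IdComp Groth.Agent.Lib.Helper25.IdComp0 in
  obtain ⟨f', hf'⟩ := hf
  have hmono : Mono i := by
    have : Mono i.left := inferInstance
    exact Over.mono_of_mono_left i
  -- `f'` lands in the connected component of the identity of `Γ`
  have hpt : Nonempty ↥(𝟙_ (Over (Spec (CommRingCat.of k)))).left :=
    inferInstanceAs (Nonempty ↥(Spec (CommRingCat.of k)))
  obtain ⟨pt⟩ := hpt
  have hxe : f'.left (x.left pt) = ePt Γ := by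
    have h1 : x ≫ f' = η[Γ] := by
      have : (x ≫ f') ≫ i = η[Γ] ≫ i := by
        rw [Category.assoc, hf', hx, IsMonHom.one_hom]
      exact (cancel_mono i).mp this
    have h2 : f'.left (x.left pt) = (x ≫ f').left pt := rfl
    rw [h2, h1, ePt]
    congr 1
    exact Subsingleton.elim (α := Spec (CommRingCat.of k)) _ _
  have hrange : Set.range f'.left ⊆ connectedComponent (ePt Γ) := by
    have hpre : _root_.IsPreconnected (Set.range f'.left) := by
      rw [← Set.image_univ]
      exact (PreconnectedSpace.isPreconnected_univ).image _ f'.left.continuous.continuousOn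
    exact hpre.subset_connectedComponent ⟨x.left pt, hxe⟩
  obtain ⟨f₀, hf₀⟩ := exists_lift_G0_over Γ f' hrange
  obtain ⟨hgrp, hmon⟩ := exists_grpObj_G0 Γ
  have hmon' : IsMonHom (G0incl Γ ≫ i) := inferInstance
  have hcl : IsClosedImmersion (G0incl Γ ≫ i).left := by
    rw [Over.comp_left]
    have : IsClosedImmersion (G0incl Γ).left := inferInstanceAs (IsClosedImmersion (G0ι Γ))
    infer_instance
  obtain ⟨j, hj⟩ := hmin (G0 Γ) hgrp (G0incl Γ ≫ i) hmon' hcl
    ⟨f₀, by rw [← Category.assoc, hf₀, hf']⟩
  have hsplit : j ≫ G0incl Γ = 𝟙 Γ := by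
    have : (j ≫ G0incl Γ) ≫ i = 𝟙 Γ ≫ i := by rw [Category.assoc, hj, Category.id_comp]
    exact (cancel_mono i).mp this
  have huniv : (Set.univ : Set Γ.left) = connectedComponent (ePt Γ) := by
    apply le_antisymm _ (Set.subset_univ _)
    intro g _
    rw [← range_G0incl_left]
    refine ⟨j.left g, ?_⟩
    have : (j ≫ G0incl Γ).left g = g := by rw [hsplit]; rfl
    exact this
  have hconn : _root_.IsConnected (Set.univ : Set Γ.left) := by
    rw [huniv]; exact isConnected_connectedComponent
  exact connectedSpace_iff_univ.mpr hconn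

end Groth.Agent.S3031
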