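import Groth.Statements.S3038
import Groth.Agent.R2.H24UnivOpenGrp

set_option autoImplicit false
universe u
open CategoryTheory MonoidalCategory CartesianMonoidalCategory MonObj GrpObj AlgebraicGeometry TensorProduct
open SGA3

namespace Groth.Agent.S3038

/-- (ii) ⇒ (i): let A be a local artinian ring and u : G → H a homomorphism between group schemes
locally of finite type over A. If the underlying map of u is open, then u is universally open. -/
theorem result (A : Type u) [CommRing A] [IsArtinianRing A] [IsLocalRing A]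
    (G H : Over (Spec (CommRingCat.of A))) [GrpObj G] [GrpObj H] [LocallyOfFiniteType G.hom] [LocallyOfFiniteType H.hom]
    (u : G ⟶ H) [IsMonHom u] (hu : IsOpenMap u.left.base) : UniversallyOpen u.left := by
  classical
  haveI hulft : LocallyOfFiniteType u.left := by
    have : LocallyOfFiniteType (u.left ≫ H.hom) := by
      rw [Over.w]; infer_instance
    exact locallyOfFiniteType_of_comp u.left H.hom
  haveI : IsLocallyNoetherian H.left := LocallyOfFiniteType.isLocallyNoetherian H.hom
  let pt : (𝟙_ (Over (Spec (CommRingCat.of A)))).left :=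
    (IsLocalRing.closedPoint A : Spec (CommRingCat.of A))
  obtain ⟨g₁, hg₁⟩ := Groth.Agent.R2.H24.UnivOpenGrp.exists_hasUOAt u.left hu.isOpen_range
    ((η[G] : 𝟙_ (Over (Spec (CommRingCat.of A))) ⟶ G).left pt)
  haveI : UniversallyOpen G.hom := Groth.Agent.R2.H24.UnivOpenGrp.univOpen_of_artinianLocal A G.hom
  have hall : ∀ g : G.left, Groth.Agent.R2.H24.PLoci.HasPAt @UniversallyOpen u.left g := by
    intro g
    have hS : G.hom g₁ = G.hom g :=
      Groth.Agent.Lib.Helper11Homog.spec_subsingleton_of_artinian_local A _ _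
    obtain ⟨z₀, hz1, hz2⟩ := Scheme.Pullback.exists_preimage_pullback g₁ g hS
    let σ : G ⊗ G ⟶ G ⊗ G := lift (fst G G) ((fst G G)⁻¹ * snd G G)
    have hfst : (fst G G).left (σ.left z₀) = g₁ := by
      rw [← Scheme.Hom.comp_apply, ← Over.comp_left, lift_fst]
      exact hz1
    have h := Groth.Agent.R2.H24.UnivOpenGrp.hasUOAt_mul G H u (𝟙 G) (σ.left z₀)
      (by rw [hfst]; exact hg₁)
    have hval : (fst G G * (snd G G ≫ 𝟙 G)).left (σ.left z₀) = g := by
      rw [← Scheme.Hom.comp_apply, ← Over.comp_left, Category.comp_id, MonObj.comp_mul, lift_fst,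
        lift_snd, mul_inv_cancel_left]
      exact hz2
    rw [hval] at h
    exact h
  choose W hW hWP using fun g => (hall g).exists_opens
  refine IsZariskiLocalAtSource.of_iSup_eq_top W ?_ hWP
  rw [eq_top_iff]
  intro g _
  exact TopologicalSpace.Opens.mem_iSup.mpr ⟨g, hW g⟩

end Groth.Agent.S3038
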