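import Groth.Statements.S3129
import Groth.Agent.R2.H13GaussJacobi

set_option autoImplicit false
open BigOperators
open SGA4h

namespace Groth.Agent.S3129

/-- Let F be a finite field with q elements, N ≥ 1, χ₀, …, χ_N multiplicative characters of F with
values in a domain, not all trivial and with product 1, and Ψ a nontrivial additive character of F.
Put τ(χ, Ψ) = −Σ_{x ∈ F} Ψ(x) χ⁻¹(x) and J(χ) = (−1)^{N−1} Σ χ₁⁻¹(x₁) ⋯ χ_N⁻¹(x_N), the sum over x₁,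
…, x_N ∈ F^* with x₁ + ⋯ + x_N = −1. Then q · J(χ) = τ(χ₀, Ψ) ⋯ τ(χ_N, Ψ). -/
theorem result (F : Type) [Field F] [Fintype F] [DecidableEq F] (R : Type) [CommRing R] [IsDomain R]
    (N : ℕ) (hN : 1 ≤ N) (χ : Fin (N + 1) → MulChar F R) (hprod : ∏ i, χ i = 1) (hnt : ∃ i, χ i ≠ 1)
    (Ψ : AddChar F R) (hΨ : Ψ ≠ 1) :
    (Fintype.card F : R) * ((-1) ^ (N - 1) *
        ∑ x ∈ (Finset.univ : Finset (Fin N → Fˣ)).filter (fun x => ∑ i, ((x i : Fˣ) : F) = -1),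
          ∏ i : Fin N, (χ i.succ)⁻¹ ((x i : Fˣ) : F)) =
      ∏ i : Fin (N + 1), (-(∑ y : F, Ψ y * (χ i)⁻¹ y)) := by
  have hprod' : ∏ i, (χ i)⁻¹ = 1 := by
    rw [Finset.prod_inv_distrib, hprod, inv_one]
  have hnt' : ∃ i, (χ i)⁻¹ ≠ 1 := by
    obtain ⟨i, hi⟩ := hnt
    exact ⟨i, fun h => hi (inv_eq_one.1 h)⟩
  have key := Groth.Agent.R2.H13.GaussJacobi.main N hN (fun i => (χ i)⁻¹) hprod' hnt' Ψ hΨ
  have hg : ∀ i : Fin (N + 1), (∑ y : F, Ψ y * (χ i)⁻¹ y) = gaussSum (χ i)⁻¹ Ψ := by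
    intro i
    rw [gaussSum]
    exact Finset.sum_congr rfl (fun y _ => mul_comm _ _)
  simp_rw [hg]
  exact key

end Groth.Agent.S3129
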