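import Groth.Statements.S3246
import Groth.Agent.R2.H14KummerTors

set_option autoImplicit false
universe u
open CategoryTheory AlgebraicGeometry
open Dix

namespace Groth.Agent.S3246

open Groth.Agent.R2.H14.Kummer in
/-- Let X be a scheme, ℓ a prime and n an integer with cd_ℓ(X) ≤ n (étale cohomology of ℓ-primary
torsion sheaves vanishes above degree n). Then the ℓ-primary torsion of H^i(X_ét, G_m) is zero for i
> n + 1; if moreover ℓ is invertible on X, it is zero for i > n. -/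
theorem result (X : Scheme.{u}) (ℓ : ℕ) (hℓ : ℓ.Prime) (n : ℕ) (hcd : Dix.CohDimLEAt X ℓ n) : (∀ i : ℕ, n + 1 < i → ∀ ξ : EtCoh.H X (EtCoh.Gm X) i, (∃ k : ℕ, ℓ ^ k • ξ = 0) → ξ = 0) ∧ (Dix.InvertibleOn X ℓ → ∀ i : ℕ, n < i → ∀ ξ : EtCoh.H X (EtCoh.Gm X) i, (∃ k : ℕ, ℓ ^ k • ξ = 0) → ξ = 0) := by
  constructor
  · intro i hi ξ ⟨k, hk⟩
    obtain ⟨j, rfl⟩ : ∃ j, i = j + 1 := ⟨i - 1, by omega⟩
    have hS1 := kummerSC1_shortExact X (ℓ ^ k)
    have hS2 := kummerSC2_shortExact X (ℓ ^ k)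
    have hμ : Subsingleton (EtCoh.H X (EtCoh.mu X (ℓ ^ k)) (j + 1)) :=
      hcd _ (isPrimaryTorsion_mu X ℓ k) (j + 1) (by omega)
    have hQ : Subsingleton (EtCoh.H X (Limits.cokernel (EtCoh.powMap X (ℓ ^ k))) j) :=
      hcd _ (isPrimaryTorsion_coker X ℓ k) j (by omega)
    have hpow : (ξ.comp (Abelian.Ext.mk₀ (EtCoh.powMap X (ℓ ^ k))) (add_zero (j + 1))) = 0 := by
      rw [← Sheaf.H.map_apply, H_map_powMap]
      exact hk
    -- ζ := image of ξ in H(im)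
    have hζ : (ξ.comp (Abelian.Ext.mk₀ (kummerSC1 X (ℓ ^ k)).g) (add_zero (j + 1))) = 0 := by
      have h1 : (ξ.comp (Abelian.Ext.mk₀ (kummerSC1 X (ℓ ^ k)).g) (add_zero (j + 1))).comp
          (Abelian.Ext.mk₀ (kummerSC2 X (ℓ ^ k)).f) (add_zero (j + 1)) = 0 := by
        have h2 : (ξ.comp (Abelian.Ext.mk₀ (Abelian.factorThruImage (EtCoh.powMap X (ℓ ^ k))))
            (add_zero (j + 1))).comp
            (Abelian.Ext.mk₀ (Abelian.image.ι (EtCoh.powMap X (ℓ ^ k)))) (add_zero (j + 1)) =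
            ξ.comp (Abelian.Ext.mk₀ (Abelian.factorThruImage (EtCoh.powMap X (ℓ ^ k)) ≫
              Abelian.image.ι (EtCoh.powMap X (ℓ ^ k)))) (add_zero (j + 1)) := by
          rw [Abelian.Ext.comp_assoc_of_third_deg_zero, Abelian.Ext.mk₀_comp_mk₀]
        rw [Abelian.image.fac] at h2
        exact h2.trans hpow
      obtain ⟨x₃, hx₃⟩ := Abelian.Ext.covariant_sequence_exact₁ _ hS2 _ h1 rfl
      have : x₃ = 0 := @Subsingleton.elim _ hQ _ _
      rw [← hx₃, this, Abelian.Ext.zero_comp]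
      rfl
    obtain ⟨x₁, hx₁⟩ := Abelian.Ext.covariant_sequence_exact₂ _ hS1 ξ hζ
    have : x₁ = 0 := @Subsingleton.elim _ hμ _ _
    rw [← hx₁, this, Abelian.Ext.zero_comp]
    rfl
  · intro hinv i hi ξ ⟨k, hk⟩
    have hS := kummerSC_shortExact X (ℓ ^ k) (pow_pos hℓ.pos k) (invertibleOn_pow hinv k)
    have hμ : Subsingleton (EtCoh.H X (EtCoh.mu X (ℓ ^ k)) i) :=
      hcd _ (isPrimaryTorsion_mu X ℓ k) i hi
    have hpow : (ξ.comp (Abelian.Ext.mk₀ (EtCoh.powMap X (ℓ ^ k))) (add_zero i)) = 0 := by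
      rw [← Sheaf.H.map_apply, H_map_powMap]
      exact hk
    obtain ⟨x₁, hx₁⟩ := Abelian.Ext.covariant_sequence_exact₂ _ hS ξ hpow
    have : x₁ = 0 := @Subsingleton.elim _ hμ _ _
    rw [← hx₁, this, Abelian.Ext.zero_comp]
    rfl

end Groth.Agent.S3246
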