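import Groth.Statements.S3428
import Groth.Agent.R2.H69FibSetApprox
import Groth.Agent.R2.H68FibSetBC
import Groth.Agent.R2.H68FibConsGen

set_option autoImplicit false
open CategoryTheory AlgebraicGeometry
universe u
open EGA43

namespace Groth.Agent.S3428

/-- Let f : X ⟶ S be of finite presentation (locally of finite presentation, quasi-compact,
quasi-separated) and Z a locally constructible subset of X. Then the set of points s of S such that
Z ∩ f⁻¹(s) is closed in the fibre f⁻¹(s) (with the topology induced from X), the set of s such that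
it is open in the fibre, and the set of s such that it is locally closed in the fibre, are locally
constructible in S. -/
theorem result {X S : Scheme.{u}} (f : X ⟶ S)
    [LocallyOfFinitePresentation f] [QuasiCompact f] [QuasiSeparated f] (Z : Set X)
    (hZ : Topology.IsLocallyConstructible Z) :
    Topology.IsLocallyConstructible {s : S | IsClosed (Subtype.val ⁻¹' Z : Set ↥(f.base ⁻¹' {s}))} ∧
      Topology.IsLocallyConstructible {s : S | IsOpen (Subtype.val ⁻¹' Z : Set ↥(f.base ⁻¹' {s}))} ∧
      Topology.IsLocallyConstructible {s : S | IsLocallyClosed (Subtype.val ⁻¹' Z : Set ↥(f.base ⁻¹' {s}))} := by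
  have hcl : ∀ W : Set X, Topology.IsLocallyConstructible W → Topology.IsLocallyConstructible
      {s : S | IsClosed (Subtype.val ⁻¹' W : Set ↥(f.base ⁻¹' {s}))} := fun W hW =>
    Groth.Agent.R2.H69.FibSetApprox.isLocallyConstructible_fibLocus
      Groth.Agent.R2.H68.FibSetBC.fibreOpenSurj
      Groth.Agent.R2.H69.FibSetTop.isOpenSurjInvariant_pClosed
      (fun g _ _ _ _ Z Z' hZ hZ' => by
        rw [Groth.Agent.R2.H69.FibSetTop.fibLocus_pClosed]
        exact Groth.Agent.R2.H88.FibConsT2.closedDich Groth.Agent.R2.H68.FibConsGen.genClosure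
          g Z hZ)
      f W W hW hW
  refine ⟨hcl Z hZ, ?_, ?_⟩
  · have h := hcl Zᶜ (Groth.Agent.Lib.Helper5.isLocallyConstructible_compl hZ)
    have heq : {s : S | IsOpen (Subtype.val ⁻¹' Z : Set ↥(f.base ⁻¹' {s}))} =
        {s : S | IsClosed (Subtype.val ⁻¹' Zᶜ : Set ↥(f.base ⁻¹' {s}))} := by
      ext s
      simp only [Set.mem_setOf_eq, Set.preimage_compl, isClosed_compl_iff]
    rw [heq]
    exact h
  · exact Groth.Agent.R2.H69.FibSetApprox.isLocallyConstructible_fibLocus
      Groth.Agent.R2.H68.FibSetBC.fibreOpenSurj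
      Groth.Agent.R2.H69.FibSetTop.isOpenSurjInvariant_pLC
      (fun g _ _ _ _ Z Z' hZ _ =>
        Groth.Agent.R2.H69.FibSetTop.lcDich Groth.Agent.R2.H68.FibConsGen.genClosure g Z Z' hZ)
      f Z Z hZ hZ

end Groth.Agent.S3428
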