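import Groth.Statements.S3434
import Groth.Agent.R2.H43DvrProper3

set_option autoImplicit false
open CategoryTheory AlgebraicGeometry
universe u
open EGA43

namespace Groth.Agent.S3434

/-- Let Y be an integral locally Noetherian scheme, X an integral scheme, f : X ⟶ Y separated, dominant
and of finite type, and y a point of Y; write K for the function field of X (the local ring at its
generic point ξ), into which O_{Y,y} maps through O_{Y,f ξ}. Then f is proper over some open
neighbourhood of y if and only if every discrete valuation ring of K which dominates (the image of)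
O_{Y,y} dominates (the image of) O_{X,x} for some point x of X; such an x lies over y. -/
theorem result {X Y : Scheme.{u}} [IsIntegral X] [IsIntegral Y] [IsLocallyNoetherian Y]
    (f : X ⟶ Y) [IsSeparated f] [IsDominant f] [LocallyOfFiniteType f] [QuasiCompact f] (y : Y)
    (hξ : f.base (genericPoint X) ⤳ y) :
    (∃ U : Y.Opens, y ∈ U ∧ IsProper (f ∣_ U)) ↔
      ∀ A : ValuationSubring X.functionField, IsDiscreteValuationRing A →
        (∀ r : Y.presheaf.stalk y, A.valuation ((Y.presheaf.stalkSpecializes hξ ≫ f.stalkMap (genericPoint X)) r) ≤ 1) →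
        (∀ r ∈ IsLocalRing.maximalIdeal (Y.presheaf.stalk y),
            A.valuation ((Y.presheaf.stalkSpecializes hξ ≫ f.stalkMap (genericPoint X)) r) < 1) →
        ∃ x : X, f.base x = y ∧
          (∀ r : X.presheaf.stalk x, A.valuation (X.presheaf.stalkSpecializes (genericPoint_specializes x) r) ≤ 1) ∧
          (∀ r ∈ IsLocalRing.maximalIdeal (X.presheaf.stalk x),
            A.valuation (X.presheaf.stalkSpecializes (genericPoint_specializes x) r) < 1) := by
  classical
  let c : Spec (.of X.functionField) ⟶ X := X.fromSpecStalk (genericPoint X)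
  have hcf : Spec.map (Y.presheaf.stalkSpecializes hξ ≫ f.stalkMap (genericPoint X)) ≫
      Y.fromSpecStalk y = c ≫ f := by
    rw [Spec.map_comp, Category.assoc, Scheme.SpecMap_stalkSpecializes_fromSpecStalk,
      Scheme.SpecMap_stalkMap_fromSpecStalk]
  have hcx : ∀ x : X, Spec.map (X.presheaf.stalkSpecializes (genericPoint_specializes x)) ≫
      X.fromSpecStalk x = c := fun x => Scheme.SpecMap_stalkSpecializes_fromSpecStalk _
  have hcc : c (IsLocalRing.closedPoint X.functionField) = genericPoint X :=
    Scheme.fromSpecStalk_closedPoint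
  constructor
  · rintro ⟨U, hyU, hU⟩ A hA h1 h2
    have := hU
    have := hA
    obtain ⟨g, hg, hgw⟩ := Groth.Agent.R2.H43.DvrProper.exists_arc_of_valuation y A _ h1 h2
    rw [hcf] at hgw
    obtain ⟨l, hl1, hl2⟩ := Groth.Agent.R2.H43.DvrProper.exists_lift_of_restrict f U
      (K := X.functionField) c g (hg ▸ hyU) hgw.symm
    refine ⟨l (IsLocalRing.closedPoint A), ?_, ?_⟩
    · rw [← Scheme.Hom.comp_apply, hl2, hg]
    · exact Groth.Agent.R2.H43.DvrProper.valuation_of_factor (l (IsLocalRing.closedPoint A)) A _ l rfl
        ((hcx _).trans hl1.symm)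
  · intro H
    have : IsDominant c := by
      constructor
      have h1 : genericPoint X ∈ Set.range c := ⟨_, hcc⟩
      have h2 : Dense ({genericPoint X} : Set X) := by
        rw [dense_iff_closure_eq]
        exact (genericPoint_spec X).def
      exact h2.mono (Set.singleton_subset_iff.2 h1)
    refine Groth.Agent.R2.H43.DvrProper.exists_isProper_nhd_of_genArcLift f y c ?_ ?_ ?_
    · intro Z t q hq hw
      have := hq
      have h1 : (Scheme.stalkClosedPointTo (t ≫ q)).hom.EssFiniteType := by
        rw [hw, Scheme.stalkClosedPointTo_comp]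
        refine RingHom.EssFiniteType.comp (LocallyOfFiniteType.stalkMap f _) ?_
        have h3 : Scheme.stalkClosedPointTo c = _ := Scheme.stalkClosedPointTo_fromSpecStalk _
        rw [h3]
        exact (RingHom.FiniteType.of_surjective _
          (ConcreteCategory.bijective_of_isIso _).2).essFiniteType
      rw [Scheme.stalkClosedPointTo_comp] at h1
      exact RingHom.EssFiniteType.of_comp _ h1
    · rw [hcc]
      exact hξ
    · intro V hV g hg hw
      obtain ⟨h1, h2⟩ := Groth.Agent.R2.H43.DvrProper.valuation_of_factor y V
        (Y.presheaf.stalkSpecializes hξ ≫ f.stalkMap (genericPoint X)) g hg (hcf.trans hw)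
      obtain ⟨x, hx, h3, h4⟩ := H V hV h1 h2
      obtain ⟨l, hl, hlw⟩ := Groth.Agent.R2.H43.DvrProper.exists_arc_of_valuation x V _ h3 h4
      rw [hcx] at hlw
      refine ⟨l, hlw, ?_⟩
      apply Groth.Agent.R2.H43.DvrProper.arc_ext (K := X.functionField)
      · rw [← Category.assoc]
        exact (congrArg (· ≫ f) hlw).trans hw
      · rw [Scheme.Hom.comp_apply, hl]
        exact hx.trans hg.symm

end Groth.Agent.S3434
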