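import Groth.Statements.S3460
import Mathlib

set_option autoImplicit false
open CategoryTheory AlgebraicGeometry
universe u
open EGA43

namespace Groth.Agent.S3460

/-- Let Y be locally Noetherian and f : X ⟶ Y of finite type. Then there exist a scheme Z, a proper
morphism g : X ⟶ Z and an immersion h : Z ⟶ Y with f = g ≫ h if and only if f is proper at every
point of f(X), i.e. every point of f(X) has an open neighbourhood U in Y over which the restriction
of f is proper. -/
theorem result {X Y : Scheme.{u}} [IsLocallyNoetherian Y]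
    (f : X ⟶ Y) [LocallyOfFiniteType f] [QuasiCompact f] :
    (∃ (Z : Scheme.{u}) (g : X ⟶ Z) (h : Z ⟶ Y), IsProper g ∧ IsImmersion h ∧ g ≫ h = f) ↔
      ∀ x : X, ∃ U : Y.Opens, f.base x ∈ U ∧ IsProper (f ∣_ U) := by
  constructor
  · rintro ⟨Z, g, h, hg, hh, rfl⟩ x
    refine ⟨h.coborderRange, ?_, ?_⟩
    · have hx : (g ≫ h).base x = (h.liftCoborder ≫ h.coborderRange.ι).base (g.base x) := by
        rw [h.liftCoborder_ι]; rfl
      rw [hx]
      exact (h.liftCoborder.base (g.base x)).2
    · have htop : (g ≫ h) ⁻¹ᵁ h.coborderRange = ⊤ := by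
        ext x
        simp only [TopologicalSpace.Opens.coe_top, Set.mem_univ, iff_true]
        change (g ≫ h).base x ∈ h.coborderRange
        have hx : (g ≫ h).base x = (h.liftCoborder ≫ h.coborderRange.ι).base (g.base x) := by
          rw [h.liftCoborder_ι]; rfl
        rw [hx]
        exact (h.liftCoborder.base (g.base x)).2
      have hiso : IsIso ((g ≫ h) ⁻¹ᵁ h.coborderRange).ι := by
        rw [htop]; exact inferInstanceAs (IsIso (Scheme.topIso _).hom)
      have heq : (g ≫ h) ∣_ h.coborderRange =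
          ((g ≫ h) ⁻¹ᵁ h.coborderRange).ι ≫ g ≫ h.liftCoborder := by
        rw [← cancel_mono h.coborderRange.ι]
        simp only [Category.assoc, h.liftCoborder_ι]
        exact morphismRestrict_ι _ _
      rw [heq]
      infer_instance
  · intro H
    choose U hxU hU using H
    have hrange : Set.range f.base ⊆ ((⨆ x, U x : Y.Opens) : Set Y) := by
      rintro y ⟨x, rfl⟩
      simp only [TopologicalSpace.Opens.coe_iSup, Set.mem_iUnion, SetLike.mem_coe]
      exact ⟨x, hxU x⟩
    have hrange' : Set.range f.base ⊆ Set.range (⨆ x, U x : Y.Opens).ι.base := by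
      simpa using hrange
    refine ⟨(⨆ x, U x : Y.Opens), IsOpenImmersion.lift (⨆ x, U x : Y.Opens).ι f hrange',
      (⨆ x, U x : Y.Opens).ι, ?_, inferInstance, IsOpenImmersion.lift_fac _ _ _⟩
    rw [IsZariskiLocalAtTarget.iff_of_iSup_eq_top (P := @IsProper)
      (U := fun x : X => (⨆ x, U x : Y.Opens).ι ⁻¹ᵁ U x)]
    · intro x
      have heq : IsOpenImmersion.lift (⨆ x, U x : Y.Opens).ι f hrange' ⁻¹ᵁ
          (⨆ x, U x : Y.Opens).ι ⁻¹ᵁ U x = f ⁻¹ᵁ U x := by
        change (IsOpenImmersion.lift (⨆ x, U x : Y.Opens).ι f hrange' ≫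
          (⨆ x, U x : Y.Opens).ι) ⁻¹ᵁ U x = _
        rw [IsOpenImmersion.lift_fac]
      let e : Arrow.mk (IsOpenImmersion.lift (⨆ x, U x : Y.Opens).ι f hrange' ∣_
          (⨆ x, U x : Y.Opens).ι ⁻¹ᵁ U x) ≅ Arrow.mk (f ∣_ U x) :=
        Arrow.isoMk (X.isoOfEq heq) (Scheme.Opens.isoOfLE (le_iSup U x)) <| by
          simp [← CategoryTheory.cancel_mono (U x).ι]
      rw [MorphismProperty.arrow_mk_iso_iff @IsProper e]
      exact hU x
    · apply (⨆ x, U x : Y.Opens).ι.image_injective
      dsimp
      rw [Scheme.Hom.image_iSup, Scheme.Hom.image_top_eq_opensRange, Scheme.Opens.opensRange_ι]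
      simp [Scheme.Hom.image_preimage_eq_opensRange_inf, le_iSup U]

end Groth.Agent.S3460
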