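import Groth.Statements.S3473
import Groth.Agent.R2.H15SetStalk
import Groth.Agent.R2.H15MinusOne
-- import your own Groth.Agent.* helpers here

set_option autoImplicit false
universe u
open CategoryTheory CategoryTheory.Limits AlgebraicGeometry Opposite
open EtAcyc

namespace Groth.Agent.S3473

/-- Let g : X → Y be a morphism of schemes. If g is surjective then g is (-1)-acyclic (for every etale V
→ Y and every sheaf of sets F on V, F → g'_* g'^* F is a monomorphism, g' the projection X ×_Y V →
V); conversely, if g is quasi-compact, quasi-separated and (-1)-acyclic then g is surjective. -/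
theorem result {X Y : Scheme.{u}} (g : X ⟶ Y) :
    (Function.Surjective g.base → EtAcyc.IsMinusOneAcyclic g) ∧
      (∀ [QuasiCompact g] [QuasiSeparated g], EtAcyc.IsMinusOneAcyclic g → Function.Surjective g.base) := by
  refine ⟨fun hg V F => ?_, fun hm => ?_⟩
  · -- the projection is surjective
    have hsurj : Function.Surjective (EtAcyc.prj g V).base := by
      intro v
      obtain ⟨x, hx⟩ := hg (V.hom.base v)
      obtain ⟨z, hz, -⟩ := Scheme.Pullback.exists_preimage_pullback (f := V.hom) (g := g) v x hx.symm
      exact ⟨z, hz⟩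
    exact Groth.Agent.R2.H15.SetStalk.mono_unit_of_surjective (EtAcyc.prj g V) hsurj F
  · by_contra hns
    obtain ⟨y, hy⟩ : ∃ y : Y, y ∉ Set.range g.base := by
      by_contra hcon
      apply hns
      intro y
      by_contra hy
      exact hcon ⟨y, hy⟩
    obtain ⟨U, W, -, hyU, hyW, hUW⟩ := Groth.Agent.R2.H15.MinusOne.exists_opens_separating g y hy
    let V : Y.Etale := Scheme.Etale.mk U.ι
    have hk : Set.range (EtAcyc.prj g V).base ⊆ ((U.ι ⁻¹ᵁ W : U.toScheme.Opens) : Set U.toScheme) := by
      rintro _ ⟨p, rfl⟩
      have e1 : U.ι.base ((pullback.fst U.ι g).base p) = g.base ((pullback.snd U.ι g).base p) := by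
        rw [← Scheme.Hom.comp_apply, ← Scheme.Hom.comp_apply, pullback.condition]
      have h1 : g.base ((pullback.snd U.ι g).base p) ∈ U := by
        rw [← e1]
        exact ((pullback.fst U.ι g).base p).2
      have h2 := hUW _ h1
      rw [← e1] at h2
      exact h2
    obtain ⟨S, hS⟩ := Groth.Agent.R2.H15.MinusOne.not_mono_unit_of_range_subset
      (EtAcyc.prj g V) (U.ι ⁻¹ᵁ W) hk ⟨y, hyU⟩ hyW
    exact hS (hm V S)

end Groth.Agent.S3473
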