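import Groth.Statements.S3513
import Groth.Agent.R2.H15AcycComp

set_option autoImplicit false
universe u
open CategoryTheory CategoryTheory.Limits AlgebraicGeometry Opposite
open EtAcyc

namespace Groth.Agent.S3513

open Groth.Agent.R2.H15.AcycComp

/-- the factorisation of the projection of `g ≫ h` through the projections of `g` and `h`. -/
lemma prj_comp_eq {X Y Z : Scheme.{u}} (g : X ⟶ Y) (h : Y ⟶ Z) (V : Z.Etale) :
    EtAcyc.prj (g ≫ h) V =
      (pullbackLeftPullbackSndIso V.hom h g).inv ≫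
        (EtAcyc.prj g ((EtCoh.bc h).obj V) ≫ EtAcyc.prj h V) :=
  (pullbackLeftPullbackSndIso_inv_fst V.hom h g).symm

lemma compN_prj_comp_iff {X Y Z : Scheme.{u}} (g : X ⟶ Y) (h : Y ⟶ Z) (L : Set ℕ) (n : ℕ)
    (hg : EtAcyc.IsAcyclicN g L n) (V : Z.Etale) :
    EtAcyc.CompN (EtAcyc.prj (g ≫ h) V) L n ↔ EtAcyc.CompN (EtAcyc.prj h V) L n :=
  (compN_congr (prj_comp_eq g h V) L n).trans
    ((compN_iso_comp_iff _ _ L n).trans
      (compN_comp_iff _ _ L n (hg ((EtCoh.bc h).obj V))))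

lemma isIso_unit_congr {X Y : Scheme.{u}} {k k' : X ⟶ Y} (e : k = k') (F : EtDesc.Sh Y) :
    IsIso ((EtDesc.adjSh k).unit.app F) ↔ IsIso ((EtDesc.adjSh k').unit.app F) := by
  subst e
  exact Iff.rfl

lemma isIso_unit_prj_comp_iff {X Y Z : Scheme.{u}} (g : X ⟶ Y) (h : Y ⟶ Z)
    (hg : EtAcyc.IsZeroAcyclic g) (V : Z.Etale) (F : EtDesc.Sh V.left) :
    IsIso ((EtDesc.adjSh (EtAcyc.prj (g ≫ h) V)).unit.app F) ↔
      IsIso ((EtDesc.adjSh (EtAcyc.prj h V)).unit.app F) :=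
  (isIso_unit_congr (prj_comp_eq g h V) F).trans
    ((isIso_unit_comp_iff _ _ F (isIso_unit_of_isIso _ _)).trans
      (isIso_unit_comp_iff _ _ F (hg ((EtCoh.bc h).obj V) _)))

/-- Last assertion, abelian and sets cases: let g : X → Y and h : Y → Z be morphisms of schemes, L a set
of primes and n a natural number. If g is n-acyclic for L, then h is n-acyclic for L if and only if
g ≫ h is; if g is 0-acyclic, then h is 0-acyclic if and only if g ≫ h is. -/
theorem result {X Y Z : Scheme.{u}} (g : X ⟶ Y) (h : Y ⟶ Z) (L : Set ℕ) (n : ℕ) :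
    (EtAcyc.IsAcyclicN g L n → (EtAcyc.IsAcyclicN h L n ↔ EtAcyc.IsAcyclicN (g ≫ h) L n)) ∧
      (EtAcyc.IsZeroAcyclic g → (EtAcyc.IsZeroAcyclic h ↔ EtAcyc.IsZeroAcyclic (g ≫ h))) := by
  refine ⟨fun hg => ?_, fun hg => ?_⟩
  · exact ⟨fun H V => (compN_prj_comp_iff g h L n hg V).2 (H V),
      fun H V => (compN_prj_comp_iff g h L n hg V).1 (H V)⟩
  · exact ⟨fun H V F => (isIso_unit_prj_comp_iff g h hg V F).2 (H V F),
      fun H V F => (isIso_unit_prj_comp_iff g h hg V F).1 (H V F)⟩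

end Groth.Agent.S3513
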