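import Groth.Statements.S3514
import Groth.Agent.S3513
import Groth.Agent.R2.H15LocAcyc
-- import your own Groth.Agent.* helpers here

set_option autoImplicit false
universe u
open CategoryTheory CategoryTheory.Limits AlgebraicGeometry Opposite
open EtAcyc

namespace Groth.Agent.S3514

/-- Let g : X → Y and h : Y → Z be morphisms of schemes with g surjective, L a set of primes and n a
natural number. If g is locally n-acyclic for L, then h is locally n-acyclic for L if and only if g
≫ h is; if g is locally 0-acyclic, then h is locally 0-acyclic if and only if g ≫ h is. -/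
theorem result {X Y Z : Scheme.{u}} (g : X ⟶ Y) (h : Y ⟶ Z)
    (hg : Function.Surjective g.base) (L : Set ℕ) (n : ℕ) :
    (EtAcyc.IsLocAcyclicN g L n → (EtAcyc.IsLocAcyclicN h L n ↔ EtAcyc.IsLocAcyclicN (g ≫ h) L n)) ∧
      (EtAcyc.IsLocZeroAcyclic g → (EtAcyc.IsLocZeroAcyclic h ↔ EtAcyc.IsLocZeroAcyclic (g ≫ h))) := by
  refine ⟨fun Hg => ⟨fun Hh => ?_, fun Hgh => ?_⟩, fun Hg => ⟨fun Hh => ?_, fun Hgh => ?_⟩⟩
  · exact Groth.Agent.R2.H15.LocAcyc.onStrictLocalizations_comp g h
      (fun _ _ k => EtAcyc.IsAcyclicN k L n)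
      (fun _ _ _ a b pa pb => ((Groth.Agent.S3513.result a b L n).1 pa).1 pb) Hg Hh
  · exact Groth.Agent.R2.H15.LocAcyc.onStrictLocalizations_of_comp g h hg
      (fun _ _ k => EtAcyc.IsAcyclicN k L n)
      (fun _ _ _ a b pa pab => ((Groth.Agent.S3513.result a b L n).1 pa).2 pab) Hg Hgh
  · exact Groth.Agent.R2.H15.LocAcyc.onStrictLocalizations_comp g h
      (fun _ _ k => EtAcyc.IsZeroAcyclic k)
      (fun _ _ _ a b pa pb => ((Groth.Agent.S3513.result a b ∅ 0).2 pa).1 pb) Hg Hh
  · exact Groth.Agent.R2.H15.LocAcyc.onStrictLocalizations_of_comp g h hg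
      (fun _ _ k => EtAcyc.IsZeroAcyclic k)
      (fun _ _ _ a b pa pab => ((Groth.Agent.S3513.result a b ∅ 0).2 pa).2 pab) Hg Hgh

end Groth.Agent.S3514
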