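import Groth.Statements.S3567
import Mathlib

set_option autoImplicit false
universe u
open CategoryTheory CategoryTheory.Limits AlgebraicGeometry
open EGA2

namespace Groth.Agent.S3567

open TopologicalSpace Opposite

theorem key {U V : Scheme.{u}} (h : U ⟶ V) [IsIso h.c] (hs : Function.Surjective h.base)
    (W : Scheme.{u}) (vb : (V : TopCat) ⟶ (W : TopCat))
    (uc : W.presheaf ⟶ (h.base ≫ vb) _* U.presheaf)
    (hloc : ∀ x, IsLocalHom
      ((⟨h.base ≫ vb, uc⟩ : U.toPresheafedSpace.Hom W.toPresheafedSpace).stalkMap x).hom) :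
    ∃ v : V ⟶ W, h ≫ v = ⟨⟨⟨h.base ≫ vb, uc⟩, hloc⟩⟩ := by
  let X : vb _* V.presheaf ⟶ vb _* (h.base _* U.presheaf) :=
    (TopCat.Presheaf.pushforward _ vb).map h.c
  have hX : IsIso X := Functor.map_isIso (TopCat.Presheaf.pushforward _ vb) h.c
  let Xi : vb _* (h.base _* U.presheaf) ⟶ vb _* V.presheaf := inv X
  have hXi : Xi ≫ X = 𝟙 _ := IsIso.inv_hom_id X
  let uc' : W.presheaf ⟶ vb _* (h.base _* U.presheaf) := uc
  let vc : W.presheaf ⟶ vb _* V.presheaf := uc' ≫ Xi
  let v' : V.toPresheafedSpace.Hom W.toPresheafedSpace := ⟨vb, vc⟩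
  have hcomp : (h.toLRSHom'.toHom.toPshHom ≫ v'.toPshHom) =
      (⟨h.base ≫ vb, uc⟩ : U.toPresheafedSpace.Hom W.toPresheafedSpace) := by
    refine PresheafedSpace.hext _ _ rfl (heq_of_eq ?_)
    show (uc' ≫ Xi) ≫ X = uc'
    rw [Category.assoc, hXi, Category.comp_id]
  have hlocv : ∀ y, IsLocalHom (v'.stalkMap y).hom := by
    intro y
    obtain ⟨x, rfl⟩ := hs y
    have h1 := PresheafedSpace.stalkMap.comp h.toLRSHom'.toHom.toPshHom v'.toPshHom x
    have h2 := hloc x
    rw [← hcomp, h1] at h2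
    have h3 : IsLocalHom ((h.toLRSHom'.toHom.stalkMap x).hom.comp (v'.stalkMap (h.base x)).hom) := h2
    exact isLocalHom_of_comp _ (h.toLRSHom'.toHom.stalkMap x).hom
  refine ⟨⟨⟨v', hlocv⟩⟩, ?_⟩
  apply Scheme.Hom.ext'
  apply LocallyRingedSpace.Hom.ext'
  exact hcomp

theorem key2 {U V : Scheme.{u}} (h : U ⟶ V) [IsIso h.c] (hs : Function.Surjective h.base)
    (W : Scheme.{u}) (u : U ⟶ W) (vb : (V : TopCat) ⟶ (W : TopCat)) (hb : u.base = h.base ≫ vb) :
    ∃ v : V ⟶ W, h ≫ v = u := by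
  obtain ⟨⟨⟨ub, uc⟩, hloc⟩⟩ := u
  change ub = h.base ≫ vb at hb
  subst hb
  exact key h hs W vb uc hloc

theorem epi_aux {U V : Scheme.{u}} (h : U ⟶ V) [IsIso h.c] (hs : Function.Surjective h.base)
    (W : Scheme.{u}) (v₁ v₂ : V ⟶ W) (hv : h ≫ v₁ = h ≫ v₂) : v₁ = v₂ := by
  have hepi : Epi h.base := (TopCat.epi_iff_surjective _).2 hs
  have hbase : v₁.base = v₂.base := by
    rw [← cancel_epi h.base]
    exact congrArg (fun f => f.base) hv
  obtain ⟨⟨⟨b₁, c₁⟩, p₁⟩⟩ := v₁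
  obtain ⟨⟨⟨b₂, c₂⟩, p₂⟩⟩ := v₂
  change b₁ = b₂ at hbase
  subst hbase
  have hc : c₁ = c₂ := by
    let X : b₁ _* V.presheaf ⟶ b₁ _* (h.base _* U.presheaf) :=
      (TopCat.Presheaf.pushforward _ b₁).map h.c
    have hX : IsIso X := Functor.map_isIso (TopCat.Presheaf.pushforward _ b₁) h.c
    have h2 : (⟨h.base ≫ b₁, c₁ ≫ X⟩ : U.toPresheafedSpace.Hom W.toPresheafedSpace) =
        ⟨h.base ≫ b₁, c₂ ≫ X⟩ := congrArg (fun f : U ⟶ W => f.toLRSHom'.toHom) hv
    injection h2 with _ h3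
    exact (cancel_mono X).1 h3
  subst hc
  rfl

/-- Let h : U → V be a surjective morphism of schemes such that the map of sheaves of rings O_V → h_*O_U
is an isomorphism and the underlying space of V carries the quotient topology of that of U. Then for
every scheme W, composition with h is a bijection from the morphisms V → W onto the morphisms U → W
whose underlying map is constant on each fibre of h. -/
theorem result {U V : Scheme.{u}} (h : U ⟶ V) [Surjective h]
    [IsIso h.c] (hq : Topology.IsQuotientMap h.base) (W : Scheme.{u}) :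
    (∀ v₁ v₂ : V ⟶ W, h ≫ v₁ = h ≫ v₂ → v₁ = v₂) ∧
      ∀ u : U ⟶ W, (∀ x y : U, h.base x = h.base y → u.base x = u.base y) → ∃ v : V ⟶ W, h ≫ v = u := by
  have hs : Function.Surjective h.base := h.surjective
  refine ⟨fun v₁ v₂ hv => epi_aux h hs W v₁ v₂ hv, fun u hconst => ?_⟩
  let vbC : C(V, W) := hq.lift (f := h.base.hom) u.base.hom (fun a b hab => hconst a b hab)
  refine key2 h hs W u (TopCat.ofHom vbC) ?_
  ext x
  have := congrArg (fun g : C(U, W) => g x)
    (Topology.IsQuotientMap.lift_comp (f := h.base.hom) hq u.base.hom (fun a b hab => hconst a b hab))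
  exact this.symm

end Groth.Agent.S3567
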