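import Groth.Statements.S3713
import Groth.Agent.R2.H16EtaleChart

set_option autoImplicit false
universe u
open SGA1

namespace Groth.Agent.S3713

open AlgebraicGeometry CategoryTheory CategoryTheory.Limits
open Groth.Agent.R2.H16.EtaleChart

set_option backward.isDefEq.respectTransparency.types false in
/-- Around a point of the smooth locus lying on a section, there are affine opens `U ∋ y`,
`V ∋ i y` with `i(U) ⊆ V ⊆ f⁻¹ U` on which `f` is standard smooth. -/
theorem exists_affine_standardSmooth {X Y : Scheme.{u}} (f : X ⟶ Y)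
    [LocallyOfFinitePresentation f] (i : Y ⟶ X) (hi : i ≫ f = 𝟙 Y) (y : Y)
    (H : i.base y ∈ f.smoothLocus) :
    ∃ (U : Y.Opens) (V : X.Opens) (_ : IsAffineOpen U) (_ : IsAffineOpen V) (_ : y ∈ U)
      (_ : U ≤ i ⁻¹ᵁ V) (hVU : V ≤ f ⁻¹ᵁ U), (f.appLE U V hVU).hom.IsStandardSmooth := by
  have hfi : ∀ z : Y, f.base (i.base z) = z := fun z => by
    rw [← Scheme.Hom.comp_apply, hi]; rfl
  obtain ⟨U₀, hU₀, V₀, hV₀, hVU₀, hxV₀, Hsm⟩ := exists_smooth_of_formallySmooth_stalk f _ H
  rw [RingHom.smooth_iff_locally_isStandardSmooth,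
    RingHom.locally_iff_isLocalization RingHom.isStandardSmooth_respectsIso] at Hsm
  obtain ⟨s, hs, hfs⟩ := Hsm
  have hs' := iSup_basicOpen_of_span_eq_top _ _ hs
  have hx1 : i.base y ∈ (⨆ r ∈ s, X.basicOpen r) := hs'.symm ▸ hxV₀
  obtain ⟨r, hr, hxr⟩ : ∃ r ∈ s, i.base y ∈ X.basicOpen r := by simpa using hx1
  -- now `(U₀, V₂ := D(r))` is standard smooth
  have hV₂ : IsAffineOpen (X.basicOpen r) := hV₀.basicOpen r
  have e₂ : X.basicOpen r ≤ f ⁻¹ᵁ U₀ := (X.basicOpen_le r).trans hVU₀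
  have hstd : (f.appLE U₀ (X.basicOpen r) e₂).hom.IsStandardSmooth := by
    rw [← f.appLE_map hVU₀ (homOfLE (X.basicOpen_le r)).op]
    have : IsLocalization.Away r Γ(X, X.basicOpen r) := hV₀.isLocalization_basicOpen r
    exact hfs r hr _
  -- shrink the base
  have hyU₀ : y ∈ U₀ := by
    have := hVU₀ hxV₀
    rwa [Scheme.Hom.mem_preimage, hfi] at this
  obtain ⟨g, hg, hyg⟩ := hU₀.exists_basicOpen_le (V := i ⁻¹ᵁ X.basicOpen r) ⟨y, hxr⟩ hyU₀
  refine ⟨Y.basicOpen g, X.basicOpen (f.appLE U₀ (X.basicOpen r) e₂ g), hU₀.basicOpen g,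
    hV₂.basicOpen _, hyg, ?_, by simp [Scheme.Hom.appLE], ?_⟩
  · intro z hz
    have hz1 : i.base z ∈ X.basicOpen r := hg hz
    have : X.basicOpen (f.appLE U₀ (X.basicOpen r) e₂ g) =
        X.basicOpen r ⊓ f ⁻¹ᵁ Y.basicOpen g := by
      simp [Scheme.Hom.appLE, ← Scheme.preimage_basicOpen]
    rw [Scheme.Hom.mem_preimage, this]
    refine ⟨hz1, ?_⟩
    change f.base (i.base z) ∈ Y.basicOpen g
    rw [hfi]
    exact hz
  · rw [hU₀.appLE_eq_away_map f hV₂ e₂ g]
    have := hU₀.isLocalization_basicOpen g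
    have := hV₂.isLocalization_basicOpen (f.appLE U₀ (X.basicOpen r) e₂ g)
    exact RingHom.isStandardSmooth_localizationPreserves.away _ _ _ _ hstd

open AlgebraicGeometry CategoryTheory CategoryTheory.Limits in
/-- Let Y be locally Noetherian, f : X -> Y locally of finite type, i a section of f and y a point of Y.
Then X is smooth over Y at i(y) (i(y) lies in the smooth locus of f) if and only if there are an
open neighbourhood U of y, an open V of X with i(U) ⊆ V ⊆ f^{-1}(U), and finitely many sections of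
O_X over V, all vanishing along i(U), which define an etale U-morphism from V to an affine space
over U (so that this etale chart carries the section to the zero section). -/
theorem result {X Y : Scheme.{u}} [IsLocallyNoetherian Y] (f : X ⟶ Y)
    [LocallyOfFiniteType f] [LocallyOfFinitePresentation f] (i : Y ⟶ X) (hi : i ≫ f = 𝟙 Y) (y : Y) :
    i.base y ∈ f.smoothLocus ↔
      ∃ (U : Y.Opens) (V : X.Opens) (_ : y ∈ U) (hUV : U ≤ i ⁻¹ᵁ V) (hVU : V ≤ f ⁻¹ᵁ U) (m : ℕ)
        (v : ULift.{u} (Fin m) → Γ(V, ⊤)),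
        Etale (AffineSpace.homOfVector (f.resLE U V hVU) v) ∧ ∀ j, (i.resLE V U hUV).appTop (v j) = 0 := by
  constructor
  · intro H
    obtain ⟨U, V, hU, hV, hyU, hUV, hVU, hstd⟩ := exists_affine_standardSmooth f i hi y H
    have : IsAffine U := hU
    have : IsAffine V := hV
    have hstd' : (f.resLE U V hVU).appTop.hom.IsStandardSmooth :=
      (RingHom.isStandardSmooth_respectsIso.arrow_mk_iso_iff (arrowResLEAppIso f U V hVU)).mpr hstd
    have hσ : ((i.resLE V U hUV).appTop.hom).comp (f.resLE U V hVU).appTop.hom = RingHom.id _ := by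
      rw [← CommRingCat.hom_comp, ← Scheme.Hom.comp_appTop, Scheme.Hom.resLE_comp_resLE]
      have h5 : ∀ (k : Y ⟶ Y) (hk : k = 𝟙 Y) (e : U ≤ k ⁻¹ᵁ U), k.resLE U U e = 𝟙 _ := by
        intro k hk e
        subst hk
        exact (Scheme.Hom.resLE_id e).trans (Scheme.homOfLE_rfl _ _)
      rw [h5 _ hi]
      rfl
    obtain ⟨m, v, hv0, hvE⟩ := exists_etale_chart _ hstd' _ hσ
    exact ⟨U, V, hyU, hUV, hVU, m, v, etale_homOfVector_of_isAffine _ v hvE, hv0⟩
  · rintro ⟨U, V, hyU, hUV, hVU, m, v, hE, -⟩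
    have hsm : Smooth (f.resLE U V hVU) := by
      rw [← AffineSpace.homOfVector_over (f.resLE U V hVU) v]
      infer_instance
    have h2 : Smooth (V.ι ≫ f) := by
      rw [← Scheme.Hom.resLE_comp_ι f hVU]
      infer_instance
    have h3 := (V.ι ≫ f).smoothLocus_eq_top
    rw [← Scheme.Hom.preimage_smoothLocus_eq] at h3
    have hx : i.base y ∈ V := hUV hyU
    have h4 : (⟨i.base y, hx⟩ : V) ∈ V.ι ⁻¹ᵁ f.smoothLocus := by rw [h3]; trivial
    exact h4

end Groth.Agent.S3713
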