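import Groth.Statements.S3720
import Groth.Agent.R2.H71GalKummer
import Groth.Agent.R2.H71GalScheme

set_option autoImplicit false
open CategoryTheory CategoryTheory.Limits AlgebraicGeometry
universe u
open SGA1t

namespace Groth.Agent.S3720

/-- Kummer theory over a local ring: let A be a local ring, n ≥ 1 an integer invertible in A, and
suppose A contains a primitive n-th root of unity (so that the group μ_n(A) of n-th roots of unity
in A is cyclic of order n). Then every principal μ_n(A)-cover P of Spec A is isomorphic over Spec A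
to a Kummer cover Spec A[T]/(Tⁿ − a) for some unit a of A, compatibly with the actions: the given
action of a root of unity ζ on P corresponds to the automorphism of A[T]/(Tⁿ − a) induced by T ↦ ζT. -/
theorem result (A : Type u) [CommRing A] [IsLocalRing A] (n : ℕ) (hn1 : 1 ≤ n)
    (hn : IsUnit ((n : ℕ) : A)) (ζ₀ : A) (hζ₀ : IsPrimitiveRoot ζ₀ n)
    (P : FEt.Cat (Spec (CommRingCat.of A))) (ρ : ↥(rootsOfUnity n A) →* Aut P)
    (hP : SGA1t.IsPrincipal ↥(rootsOfUnity n A) P ρ) :
    ∃ (a : Aˣ) (e : P.left ≅ Spec (CommRingCat.of (SGA1t.kummer A (fun _ : Unit => (a : A)) (fun _ => n)))),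
      e.hom ≫ Spec.map (CommRingCat.ofHom (algebraMap A (SGA1t.kummer A (fun _ : Unit => (a : A)) (fun _ => n)))) = P.hom ∧
      ∀ ζ : ↥(rootsOfUnity n A), (ρ ζ).hom.left ≫ e.hom =
        e.hom ≫ Spec.map (CommRingCat.ofHom (SGA1t.kummerTwist A (fun _ : Unit => (a : A)) (fun _ => n) (fun _ => ζ))) := by
  classical
  obtain ⟨B, i1, i2, i3, i4, i5, e, σ, he, hσ, hT, hmul, h1⟩ :=
    Groth.Agent.R2.H71GalScheme.translate P ρ hP
  have : Finite ↥(rootsOfUnity n A) := Groth.Agent.R2.H71GalKummer.finite_G n hT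
  letI : Fintype ↥(rootsOfUnity n A) := Fintype.ofFinite _
  have hcard : n ≤ Fintype.card ↥(rootsOfUnity n A) := by
    have : NeZero n := ⟨by omega⟩
    let z : ↥(rootsOfUnity n A) := hζ₀.toRootsOfUnity
    have hz : IsPrimitiveRoot z n := by
      rw [← IsPrimitiveRoot.coe_submonoidClass_iff, ← IsPrimitiveRoot.coe_units_iff]
      exact hζ₀
    exact le_of_eq_of_le hz.eq_orderOf orderOf_le_card_univ
  obtain ⟨a, θ, hθ⟩ := Groth.Agent.R2.H71GalKummer.exists_kummer n hn hT hmul h1 hcard
  let eθ : Spec (CommRingCat.of B) ≅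
      Spec (CommRingCat.of (SGA1t.kummer A (fun _ : Unit => (a : A)) (fun _ => n))) :=
    { hom := Spec.map (CommRingCat.ofHom θ.toAlgHom.toRingHom)
      inv := Spec.map (CommRingCat.ofHom θ.symm.toAlgHom.toRingHom)
      hom_inv_id := by
        rw [← Spec.map_comp, ← Spec.map_id]
        congr 1
        exact CommRingCat.hom_ext (RingHom.ext fun x => θ.apply_symm_apply x)
      inv_hom_id := by
        rw [← Spec.map_comp, ← Spec.map_id]
        congr 1
        exact CommRingCat.hom_ext (RingHom.ext fun x => θ.symm_apply_apply x) }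
  refine ⟨a, e ≪≫ eθ, ?_, ?_⟩
  · rw [Iso.trans_hom, Category.assoc, ← he]
    congr 1
    show Spec.map (CommRingCat.ofHom θ.toAlgHom.toRingHom) ≫ _ = _
    rw [← Spec.map_comp]
    congr 1
    exact CommRingCat.hom_ext (RingHom.ext fun x => θ.commutes x)
  · intro ζ
    rw [Iso.trans_hom, ← Category.assoc, hσ, Category.assoc, Category.assoc]
    congr 1
    show Spec.map _ ≫ Spec.map (CommRingCat.ofHom θ.toAlgHom.toRingHom) =
      Spec.map (CommRingCat.ofHom θ.toAlgHom.toRingHom) ≫ _
    rw [← Spec.map_comp, ← Spec.map_comp]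
    congr 1
    exact CommRingCat.hom_ext (RingHom.ext fun x => (hθ ζ x).symm)

end Groth.Agent.S3720
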