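import Groth.Statements.S3721
import Groth.Agent.R2.H71GalAS
import Groth.Agent.R2.H71GalScheme

set_option autoImplicit false
open CategoryTheory CategoryTheory.Limits AlgebraicGeometry
universe u
open SGA1t

namespace Groth.Agent.S3721

/-- Let p be a prime and A a commutative ring of characteristic p. Then every principal ℤ/p-cover P of
Spec A (a finite étale cover with an action of ℤ/p making it a torsor) is isomorphic over Spec A to
an Artin–Schreier cover Spec A[T]/(T^p − T − a) for some a ∈ A, compatibly with the actions: under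
the isomorphism the given action of j ∈ ℤ/p on P corresponds to the automorphism of the
Artin–Schreier cover induced by T ↦ T + j. The published statement is for any base S of
characteristic p on which Frobenius fixes no nonzero element of H¹(S, O_S); it is stated here for S
= Spec A affine. -/
theorem result (A : Type u) [CommRing A] (p : ℕ) [Fact p.Prime] [CharP A p]
    (P : FEt.Cat (Spec (CommRingCat.of A))) (ρ : Multiplicative (ZMod p) →* Aut P)
    (hP : SGA1t.IsPrincipal (Multiplicative (ZMod p)) P ρ) :
    ∃ (a : A) (e : P.left ≅ Spec (CommRingCat.of (SGA1t.artinSchreier A p a))),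
      e.hom ≫ Spec.map (CommRingCat.ofHom (algebraMap A (SGA1t.artinSchreier A p a))) = P.hom ∧
      ∀ j : ZMod p, (ρ (Multiplicative.ofAdd j)).hom.left ≫ e.hom =
        e.hom ≫ Spec.map (CommRingCat.ofHom (SGA1t.artinSchreierShift A p a j)) := by
  obtain ⟨B, i1, i2, i3, i4, i5, e, σ, he, hσ, hT, hmul, h1⟩ :=
    Groth.Agent.R2.H71GalScheme.translate P ρ hP
  obtain ⟨a, θ, hθ⟩ := Groth.Agent.R2.H71GalAS.exists_AS p hT hmul h1
  let eθ : Spec (CommRingCat.of B) ≅ Spec (CommRingCat.of (SGA1t.artinSchreier A p a)) :=
    { hom := Spec.map (CommRingCat.ofHom θ.toAlgHom.toRingHom)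
      inv := Spec.map (CommRingCat.ofHom θ.symm.toAlgHom.toRingHom)
      hom_inv_id := by
        rw [← Spec.map_comp, ← Spec.map_id]
        congr 1
        ext x
        exact θ.apply_symm_apply x
      inv_hom_id := by
        rw [← Spec.map_comp, ← Spec.map_id]
        congr 1
        exact CommRingCat.hom_ext (RingHom.ext fun x => θ.symm_apply_apply x) }
  refine ⟨a, e ≪≫ eθ, ?_, ?_⟩
  · rw [Iso.trans_hom, Category.assoc, ← he]
    congr 1
    show Spec.map (CommRingCat.ofHom θ.toAlgHom.toRingHom) ≫ _ = _
    rw [← Spec.map_comp]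
    congr 1
    ext x
    exact θ.commutes x
  · intro j
    rw [Iso.trans_hom, ← Category.assoc, hσ, Category.assoc, Category.assoc]
    congr 1
    show Spec.map _ ≫ Spec.map (CommRingCat.ofHom θ.toAlgHom.toRingHom) =
      Spec.map (CommRingCat.ofHom θ.toAlgHom.toRingHom) ≫ _
    rw [← Spec.map_comp, ← Spec.map_comp]
    congr 1
    exact CommRingCat.hom_ext (RingHom.ext fun x => (hθ j x).symm)

end Groth.Agent.S3721
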