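import Groth.Statements.S3781
import Groth.Agent.R2.H17Det

set_option autoImplicit false
universe v u
open CategoryTheory CategoryTheory.Limits AlgebraicGeometry
attribute [local instance] HasDerivedCategory.standard
open KRR

namespace Groth.Agent.S3781

section Helpers

open PowerSeries LambdaRing Finset Groth.Agent.Lib.Helper4 Groth.Agent.R2.H17.Det

variable {K : Type v} [CommRing K] [LambdaOps K] (P : PosStructure K)

/-- the property of being congruent mod `F²` to `u - 1` for a line element `u`. -/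
def T (x : K) : Prop := ∃ u : K, P.IsLine u ∧ x - (u - 1) ∈ gammaFiltration P 2

theorem aug_line_sub_one {u : K} (hu : P.IsLine u) : P.aug (u - 1) = 0 := by
  rw [map_sub, hu.2, map_one, sub_self]

theorem line_mul_mem {u v : K} (hu : P.IsLine u) (hv : P.IsLine v) :
    (u - 1) * (v - 1) ∈ gammaFiltration P 2 :=
  mul_mem_gammaFiltration P 1 1 _ _ (mem_gammaFiltration_one P _ (aug_line_sub_one P hu))
    (mem_gammaFiltration_one P _ (aug_line_sub_one P hv))

theorem T_zero : T P 0 := ⟨1, isLine_one P, by simp⟩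

theorem T_of_mem {x : K} (hx : x ∈ gammaFiltration P 2) : T P x :=
  ⟨1, isLine_one P, by simpa using hx⟩

theorem T_add {x y : K} (hx : T P x) (hy : T P y) : T P (x + y) := by
  obtain ⟨u, hu, hxu⟩ := hx
  obtain ⟨v, hv, hyv⟩ := hy
  refine ⟨u * v, isLine_mul P hu hv, ?_⟩
  have e : x + y - (u * v - 1) = (x - (u - 1)) + (y - (v - 1)) - (u - 1) * (v - 1) := by ring
  rw [e]
  exact AddSubgroup.sub_mem _ (AddSubgroup.add_mem _ hxu hyv) (line_mul_mem P hu hv)

theorem T_neg (hLinv : ∀ w : K, P.IsLine w → ∃ w' : K, P.IsLine w' ∧ w * w' = 1) {x : K} (hx : T P x) :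
    T P (-x) := by
  obtain ⟨u, hu, hxu⟩ := hx
  obtain ⟨u', hu', huu'⟩ := hLinv u hu
  refine ⟨u', hu', ?_⟩
  have e : -x - (u' - 1) = -(x - (u - 1)) + (u - 1) * (u' - 1) := by
    have : (u - 1) * (u' - 1) = u * u' - u - u' + 1 := by ring
    rw [this, huu']; ring
  rw [e]
  exact AddSubgroup.add_mem _ (AddSubgroup.neg_mem _ hxu) (line_mul_mem P hu hu')

/-- `Σ_{k ≤ m} γ^k(e - m) = λ^m(e)`. -/
theorem sum_gamma_sub_natCast (h1 : ∀ k : ℕ, 2 ≤ k → LambdaOps.lam k (1 : K) = 0)
    (e : K) (m : ℕ) (he : ∀ i, m < i → LambdaOps.lam i e = 0) :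
    ∑ k ∈ range (m + 1), gamma k (e - (m : K)) = LambdaOps.lam m e := by
  have h := congrArg (Polynomial.eval 1) (rev_gammaSeries_sub_natCast h1 e m he)
  rw [rev, Polynomial.eval_finsetSum, Polynomial.eval_finsetSum] at h
  simp only [Polynomial.eval_mul, Polynomial.eval_C, Polynomial.eval_pow, Polynomial.eval_X, one_pow,
    mul_one, coeff_gammaSeries, Polynomial.eval_sub, Polynomial.eval_one, sub_self] at h
  rw [h, Finset.sum_eq_single m]
  · simp
  · intro i hi hne
    rw [mem_range] at hi
    rw [zero_pow (by omega), mul_zero]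
  · intro hm
    exact absurd (mem_range.2 (Nat.lt_succ_self m)) hm

theorem T_pos_sub (hK : HasSplitting K P)
    (hdet : ∀ e : K, e ∈ P.pos → LambdaOps.lam (P.aug e).toNat e ∈ P.pos)
    (e : K) (he : e ∈ P.pos) : T P (e - ((P.aug e).toNat : K)) := by
  set m := (P.aug e).toNat with hm
  have hpos := P.aug_pos e he
  have hline : P.IsLine (LambdaOps.lam m e) := by
    refine ⟨hdet e he, ?_⟩
    rw [aug_lam_eq_choose hK e he, ← hm, Nat.choose_self]; rfl
  refine ⟨LambdaOps.lam m e, hline, ?_⟩
  have haug : P.aug (e - (m : K)) = 0 := by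
    rw [map_sub, map_natCast, hm, Int.toNat_of_nonneg hpos.le, sub_self]
  have hsum := sum_gamma_sub_natCast (lam_one_eq_zero P) e m (lam_eq_zero_of_pos P e he)
  have hm1 : 1 ≤ m := by omega
  obtain ⟨n, hn⟩ : ∃ n, m = n + 1 := ⟨m - 1, by omega⟩
  rw [hn, Finset.sum_range_succ', Finset.sum_range_succ'] at hsum
  rw [gamma_zero', ← hn] at hsum
  simp only [zero_add] at hsum
  rw [gamma_one] at hsum
  have e2 : e - (m : K) - (LambdaOps.lam m e - 1) =
      -∑ k ∈ range n, gamma (k + 1 + 1) (e - (m : K)) := by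
    rw [← hsum]; ring
  rw [e2]
  apply AddSubgroup.neg_mem
  apply AddSubgroup.sum_mem
  intro k _
  exact gammaFiltration_anti P (by omega : 2 ≤ k + 1 + 1) (gamma_mem_gammaFiltration P _ _ haug)

theorem T_of_aug_zero (hK : HasSplitting K P)
    (hLinv : ∀ w : K, P.IsLine w → ∃ w' : K, P.IsLine w' ∧ w * w' = 1)
    (hdet : ∀ e : K, e ∈ P.pos → LambdaOps.lam (P.aug e).toNat e ∈ P.pos)
    (z : K) (hz : P.aug z = 0) : T P z := by
  obtain ⟨e, f, he, hf, rfl⟩ := P.exists_sub z
  rw [map_sub, sub_eq_zero] at hz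
  have h1 := T_pos_sub P hK hdet e he
  have h2 := T_neg P hLinv (T_pos_sub P hK hdet f hf)
  have h3 := T_add P h1 h2
  have e3 : e - ((P.aug e).toNat : K) + -(f - ((P.aug f).toNat : K)) = e - f := by
    rw [hz]; ring
  rwa [e3] at h3

/-- a product of `γ`'s of total weight one is one of the arguments. -/
theorem prod_weight_one (l : List (ℕ × K)) (hl : (l.map Prod.fst).sum = 1) :
    ∃ p ∈ l, (l.map fun p => gamma p.1 p.2).prod = p.2 := by
  induction l with
  | nil => simp at hl
  | cons q l ih =>
    simp only [List.map_cons, List.sum_cons] at hl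
    rcases Nat.eq_zero_or_pos q.1 with h0 | hpos
    · rw [h0, zero_add] at hl
      obtain ⟨p, hp, hprod⟩ := ih hl
      refine ⟨p, List.mem_cons_of_mem _ hp, ?_⟩
      simp only [List.map_cons, List.prod_cons]
      rw [h0, gamma_zero', one_mul, hprod]
    · have hq : q.1 = 1 := by omega
      have hl0 : (l.map Prod.fst).sum = 0 := by omega
      have hall : ∀ p ∈ l, p.1 = 0 := by
        intro p hp
        have := List.sum_eq_zero_iff.mp hl0 p.1 (List.mem_map.2 ⟨p, hp, rfl⟩)
        exact this
      have hprod1 : (l.map fun p => gamma p.1 p.2).prod = 1 := by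
        apply List.prod_eq_one
        intro x hx
        obtain ⟨p, hp, rfl⟩ := List.mem_map.1 hx
        rw [hall p hp, gamma_zero']
      refine ⟨q, List.mem_cons_self, ?_⟩
      simp only [List.map_cons, List.prod_cons]
      rw [hprod1, mul_one, hq, gamma_one]

theorem T_of_mem_one (hK : HasSplitting K P)
    (hLinv : ∀ w : K, P.IsLine w → ∃ w' : K, P.IsLine w' ∧ w * w' = 1)
    (hdet : ∀ e : K, e ∈ P.pos → LambdaOps.lam (P.aug e).toNat e ∈ P.pos)
    (x : K) (hx : x ∈ gammaFiltration P 1) : T P x := by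
  rw [gammaFiltration_of_ne_zero P one_ne_zero] at hx
  induction hx using AddSubgroup.closure_induction with
  | mem y hy =>
    obtain ⟨l, hl, hn, rfl⟩ := hy
    rcases Nat.lt_or_ge (l.map Prod.fst).sum 2 with h | h
    · have h1 : (l.map Prod.fst).sum = 1 := by omega
      obtain ⟨p, hp, hprod⟩ := prod_weight_one l h1
      rw [hprod]
      exact T_of_aug_zero P hK hLinv hdet p.2 (hl p hp)
    · apply T_of_mem
      apply gammaGen_subset_gammaFiltration
      exact ⟨l, hl, h, rfl⟩
  | zero => exact T_zero P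
  | add a b _ _ ha hb => exact T_add P ha hb
  | neg a _ ha => exact T_neg P hLinv ha

end Helpers

/-- Let K be a λ-ring with positive structure having the splitting property, L its group of line
elements and F^n the γ-filtration. Assume moreover that the inverse of a line element is a line
element and that for a positive e with ε(e) = r the element det e = λ^r(e) is positive (hence a line
element); these are part of the published setting but are not implied by the axioms used here, so
they are hypotheses. Then u ↦ u − 1 induces an isomorphism L ≅ Gr^1 K = F^1/F^2: every x ∈ F^1 is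
congruent modulo F^2 to u − 1 for some line element u, and line elements u, v with u − v ∈ F^2 are
equal. -/
theorem result (K : Type v) [CommRing K] [LambdaRing.LambdaOps K] (P : LambdaRing.PosStructure K) (hK : LambdaRing.HasSplitting K P)
    (hLinv : ∀ w : K, P.IsLine w → ∃ w' : K, P.IsLine w' ∧ w * w' = 1)
    (hdet : ∀ e : K, e ∈ P.pos → LambdaRing.LambdaOps.lam (P.aug e).toNat e ∈ P.pos) :
    (∀ x : K, x ∈ LambdaRing.gammaFiltration P 1 → ∃ u : K, P.IsLine u ∧ x - (u - 1) ∈ LambdaRing.gammaFiltration P 2) ∧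
    ∀ u v : K, P.IsLine u → P.IsLine v → u - v ∈ LambdaRing.gammaFiltration P 2 → u = v := by
  refine ⟨fun x hx => T_of_mem_one P hK hLinv hdet x hx, fun u v hu hv h => ?_⟩
  exact Groth.Agent.R2.H17.Det.line_eq_of_sub_mem hK hu hv h

end Groth.Agent.S3781
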