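import Groth.Statements.S3782
import Groth.Agent.R2.H39ElemExt
import Groth.Agent.Lib.Helper4LambdaSigma

set_option autoImplicit false
universe v u
open CategoryTheory CategoryTheory.Limits AlgebraicGeometry
attribute [local instance] HasDerivedCategory.standard
open KRR

namespace Groth.Agent.S3782

/-- Let K be a λ-ring with positive structure having the splitting property, e positive with ε(e) = r +
1, and K_e = K[T]/(p_e) with generator ℓ, equipped with a λ-structure extending that of K with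
λ^i(ℓ) = 0 for i ≥ 2 and a positive structure making K ⟶ K_e an extension with ℓ a line element and
again having the splitting property. Then for every k ≥ 0 the γ-filtration of K_e is F^k K_e =
Σ_{i=0}^{r} F^{k-i}K · (ℓ - 1)^i (F^j K = K for j ≤ 0). In particular F^k K_e ∩ K = F^k K. -/
theorem result (K : Type v) [CommRing K] [LambdaRing.LambdaOps K] (P : LambdaRing.PosStructure K) (hK : LambdaRing.HasSplitting K P) (e : K) (he : e ∈ P.pos) (r : ℕ) (hr : P.aug e = r + 1)
    (inst : LambdaRing.LambdaOps (AdjoinRoot (KRR.extPoly P e))) (Pe : @LambdaRing.PosStructure _ _ inst)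
    (hext : @LambdaRing.IsExtension K _ _ _ _ inst P Pe (AdjoinRoot.of (KRR.extPoly P e)))
    (hroot : ∀ i : ℕ, 2 ≤ i → @LambdaRing.LambdaOps.lam _ _ inst i (AdjoinRoot.root (KRR.extPoly P e)) = 0)
    (hline : @LambdaRing.PosStructure.IsLine _ _ inst Pe (AdjoinRoot.root (KRR.extPoly P e)))
    (hsplit : @LambdaRing.HasSplitting _ _ inst Pe) (k : ℕ) :
    @LambdaRing.gammaFiltration _ _ inst Pe k =
      ⨆ i ∈ Finset.range (r + 1), AddSubgroup.map
        ((AddMonoidHom.mulRight ((AdjoinRoot.root (KRR.extPoly P e) - 1) ^ i)).comp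
          (AdjoinRoot.of (KRR.extPoly P e)).toAddMonoidHom)
        (LambdaRing.gammaFiltration P (k - i)) := by
  letI := inst
  have hm : (P.aug e).toNat = r + 1 := by rw [hr]; rfl
  set m := r + 1 with hmdef
  set ι := AdjoinRoot.of (KRR.extPoly P e) with hι
  set ℓ := AdjoinRoot.root (KRR.extPoly P e) with hℓ
  -- the relation
  have he' : ∀ i, m < i → LambdaRing.LambdaOps.lam i e = 0 := by
    intro i hi
    exact Groth.Agent.Lib.Helper4.lam_eq_zero_of_pos P e he i (by omega)
  have h0 := Groth.Agent.Lib.Helper4.rev_gammaSeries_sub_natCast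
    (Groth.Agent.Lib.Helper4.lam_one_eq_zero P) e m he'
  have h1 := congrArg (Polynomial.eval₂ ι (1 - ℓ)) h0
  rw [Groth.Agent.Lib.Helper4.rev, Polynomial.eval₂_finsetSum, Polynomial.eval₂_finsetSum] at h1
  have hL : ∀ i ∈ Finset.range (m + 1), Polynomial.eval₂ ι (1 - ℓ)
      (Polynomial.C (PowerSeries.coeff i (Groth.Agent.Lib.Helper4.gammaSeries (e - (m : K)))) *
        Polynomial.X ^ (m - i)) =
      ι (LambdaRing.gamma i (e - (m : K))) * ((-1) ^ (m - i) * (ℓ - 1) ^ (m - i)) := by
    intro i _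
    rw [Polynomial.eval₂_mul, Polynomial.eval₂_C, Polynomial.eval₂_X_pow,
      Groth.Agent.Lib.Helper4.coeff_gammaSeries, ← mul_pow]
    congr 2
    ring
  have hR : ∀ i ∈ Finset.range (m + 1), Polynomial.eval₂ ι (1 - ℓ)
      (Polynomial.C (LambdaRing.LambdaOps.lam i e) * (Polynomial.X - 1) ^ (m - i)) =
      (-1) ^ m * (algebraMap K (AdjoinRoot (KRR.extPoly P e)) ((-1 : K) ^ i * LambdaRing.LambdaOps.lam i e) *
        ℓ ^ (m - i)) := by
    intro i hi
    rw [Finset.mem_range] at hi
    rw [Polynomial.eval₂_mul, Polynomial.eval₂_C, Polynomial.eval₂_pow, Polynomial.eval₂_sub,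
      Polynomial.eval₂_X, Polynomial.eval₂_one, AdjoinRoot.algebraMap_eq, map_mul, map_pow, map_neg,
      map_one]
    have e1 : (1 - ℓ - 1 : AdjoinRoot (KRR.extPoly P e)) = -ℓ := by ring
    have e2 : (-1 : AdjoinRoot (KRR.extPoly P e)) ^ m = (-1) ^ (m - i) * (-1) ^ i := by
      rw [← pow_add]; congr 1; omega
    have e3 : ((-1 : AdjoinRoot (KRR.extPoly P e)) ^ i) * (-1) ^ i = 1 := by
      rw [← mul_pow]; simp
    rw [e1, neg_pow ℓ, e2]
    linear_combination (-(ι (LambdaRing.LambdaOps.lam i e)) * (-1) ^ (m - i) * ℓ ^ (m - i)) * e3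
  rw [Finset.sum_congr rfl hL, Finset.sum_congr rfl hR, ← Finset.mul_sum] at h1
  have hrel0 := Groth.Agent.Lib.Helper4.extPoly_root_rel P e
  rw [hm] at hrel0
  rw [hrel0, mul_zero] at h1
  -- normalise signs
  have h2 : ∑ i ∈ Finset.range (m + 1), (-1 : AdjoinRoot (KRR.extPoly P e)) ^ i *
      (ι (LambdaRing.gamma i (e - (m : K))) * (ℓ - 1) ^ (m - i)) = 0 := by
    have : ∑ i ∈ Finset.range (m + 1), (-1 : AdjoinRoot (KRR.extPoly P e)) ^ i *
        (ι (LambdaRing.gamma i (e - (m : K))) * (ℓ - 1) ^ (m - i)) =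
        (-1) ^ m * ∑ i ∈ Finset.range (m + 1), ι (LambdaRing.gamma i (e - (m : K))) *
          ((-1) ^ (m - i) * (ℓ - 1) ^ (m - i)) := by
      rw [Finset.mul_sum]
      apply Finset.sum_congr rfl
      intro i hi
      rw [Finset.mem_range] at hi
      have e2 : (-1 : AdjoinRoot (KRR.extPoly P e)) ^ m = (-1) ^ (m - i) * (-1) ^ i := by
        rw [← pow_add]; congr 1; omega
      have e3 : ((-1 : AdjoinRoot (KRR.extPoly P e)) ^ (m - i)) * (-1) ^ (m - i) = 1 := by
        rw [← mul_pow]; simp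
      rw [e2]
      linear_combination (-((-1 : AdjoinRoot (KRR.extPoly P e)) ^ i) *
        ι (LambdaRing.gamma i (e - (m : K))) * (ℓ - 1) ^ (m - i)) * e3
    rw [this, h1, mul_zero]
  rw [Finset.sum_range_succ'] at h2
  -- the data for the abstract theorem
  let c : ℕ → K := fun t => -((-1) ^ t * LambdaRing.gamma t (e - (m : K)))
  have haug0 : P.aug (e - (m : K)) = 0 := by
    rw [map_sub, map_natCast, hr, hmdef]; push_cast; ring
  have hc : ∀ t, c t ∈ LambdaRing.gammaFiltration P t := by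
    intro t
    apply AddSubgroup.neg_mem
    apply Groth.Agent.Lib.Helper4.mul_mem_gammaFiltration_left
    exact Groth.Agent.Lib.Helper4.gamma_mem_gammaFiltration P t _ haug0
  have hrel : (ℓ - 1) ^ (r + 1) = ∑ t ∈ Finset.range (r + 1), ι (c (t + 1)) * (ℓ - 1) ^ (r - t) := by
    have h3 : (ℓ - 1) ^ m = -∑ t ∈ Finset.range m, (-1 : AdjoinRoot (KRR.extPoly P e)) ^ (t + 1) *
        (ι (LambdaRing.gamma (t + 1) (e - (m : K))) * (ℓ - 1) ^ (m - (t + 1))) := by
      have h4 : (-1 : AdjoinRoot (KRR.extPoly P e)) ^ 0 *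
          (ι (LambdaRing.gamma 0 (e - (m : K))) * (ℓ - 1) ^ (m - 0)) = (ℓ - 1) ^ m := by
        rw [Groth.Agent.Lib.Helper4.gamma_zero', map_one, pow_zero, one_mul, one_mul, Nat.sub_zero]
      rw [h4] at h2
      exact eq_neg_of_add_eq_zero_right h2
    rw [← hmdef, h3, ← Finset.sum_neg_distrib]
    apply Finset.sum_congr rfl
    intro t _
    have : m - (t + 1) = r - t := by omega
    rw [this]
    simp only [c, map_neg, map_mul, map_pow, map_one]
    ring
  have hgen : ∀ z : AdjoinRoot (KRR.extPoly P e),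
      z ∈ AddSubgroup.closure {w : AdjoinRoot (KRR.extPoly P e) | ∃ (a : K) (n : ℕ), w = ι a * (ℓ - 1 + 1) ^ n} := by
    intro z
    obtain ⟨p, rfl⟩ := AdjoinRoot.mk_surjective z
    induction p using Polynomial.induction_on' with
    | add p q hp hq => rw [map_add]; exact AddSubgroup.add_mem _ hp hq
    | monomial n a =>
      apply AddSubgroup.subset_closure
      refine ⟨a, n, ?_⟩
      rw [← Polynomial.C_mul_X_pow_eq_monomial, map_mul, map_pow, AdjoinRoot.mk_C, AdjoinRoot.mk_X,
        sub_add_cancel]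
  have hroot' : ∀ j : ℕ, 2 ≤ j → LambdaRing.LambdaOps.lam j (ℓ - 1 + 1) = 0 := by
    intro j hj
    rw [sub_add_cancel]
    exact hroot j hj
  have hy : Pe.aug (ℓ - 1) = 0 := by
    rw [map_sub, map_one, hline.2, sub_self]
  rw [Groth.Agent.R2.H39.ElemExt.gammaFiltration_eq P Pe ι (ℓ - 1) r c hc hrel hgen hsplit hext hroot' hy k,
    Groth.Agent.R2.H39.ElemExt.A_eq_iSup]

end Groth.Agent.S3782
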