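import Groth.Statements.S4875
import Groth.Agent.R2.H22SchDomBC
import Groth.Agent.R2.H22SepFlat
import Groth.Agent.R2.H22SepBasis

set_option autoImplicit false
set_option linter.style.haveILetI false
universe u
open CategoryTheory AlgebraicGeometry
open EGA43

namespace Groth.Agent.S4875

open Groth.Agent.R2.H22.SepCore Groth.Agent.R2.H22.SchDom Groth.Agent.R2.H22.SchDomBC
  Groth.Agent.R2.H22.SepFlat Groth.Agent.R2.H22.SepBasis TopologicalSpace TensorProduct

/-- Let (f_i : Z_i ⟶ X) be a schematically dominant family of morphisms and g : X' ⟶ X a flat morphism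
locally of finite presentation. Then the family of base changes f'_i : Z_i ×_X X' ⟶ X' is
schematically dominant. (No quasi-compactness of the f_i and no finiteness of the family is
assumed.) -/
theorem result {X X' : Scheme.{u}} {ι : Type u} (Z : ι → Scheme.{u})
    (f : ∀ i, Z i ⟶ X) (g : X' ⟶ X) [Flat g] [LocallyOfFinitePresentation g]
    (h : (∀ (V : (X).Opens) (t : Γ(X, V)), (∀ i, (f i).app V t = 0) → t = 0)) :
    (∀ (V : (X').Opens) (t : Γ(X', V)), (∀ i, (Limits.pullback.snd (f i) g).app V t = 0) → t = 0) := by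
  have hdom : SchDom f := h
  refine schDom_of_basis (fun i => Limits.pullback.snd (f i) g) _ (isBasis_affine_over g) ?_
  rintro ⟨V', hV', V, hV, hle⟩ t ht
  letI := (g.appLE V V' hle).hom.toAlgebra
  haveI : Module.Flat Γ(X, V) Γ(X', V') :=
    HasRingHomProperty.appLE (P := @Flat) g inferInstance ⟨V, hV⟩ ⟨V', hV'⟩ hle
  haveI : Algebra.FinitePresentation Γ(X, V) Γ(X', V') :=
    HasRingHomProperty.appLE (P := @LocallyOfFinitePresentation) g inferInstance ⟨V, hV⟩
      ⟨V', hV'⟩ hle
  have key := eq_zero_of_flat_finitePresentation (A := Γ(X, V)) (B := Γ(X', V'))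
    (fun j : AffOver f V => Algebra.linearMap Γ(X, V) (Nsec f V j)) (sepMaps_of_schDom f hdom hV)
    (t ⊗ₜ[Γ(X, V)] (1 : Γ(X, V))) ?_
  · have := congrArg (TensorProduct.rid Γ(X, V) Γ(X', V')) key
    simpa using this
  · rintro ⟨i, W, hW, hleW⟩
    rw [LinearMap.lTensor_tmul, Algebra.linearMap_apply, map_one]
    have H : IsPullback (Limits.pullback.fst (f i) g) (Limits.pullback.snd (f i) g) (f i) g :=
      IsPullback.of_hasPullback _ _
    refine tmul_eq_zero_of_isPushout (isPushout_appLE H hle hleW hV hV' hW) t ?_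
    have h0 := ht i
    have := congrArg ((Limits.pullback (f i) g).presheaf.map (homOfLE (inf_le_right :
      (Limits.pullback.fst (f i) g) ⁻¹ᵁ W ⊓ (Limits.pullback.snd (f i) g) ⁻¹ᵁ V' ≤
        (Limits.pullback.snd (f i) g) ⁻¹ᵁ V')).op) h0
    rw [map_zero] at this
    exact this

end Groth.Agent.S4875
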