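import Groth.Statements.S3843
import Groth.Agent.S4875

set_option autoImplicit false
universe u
open CategoryTheory CategoryTheory.Limits AlgebraicGeometry TopologicalSpace

namespace Groth.Agent.S3843

/-- A section vanishing on an open vanishes on any smaller open. -/
theorem res_eq_zero_of_le {X : Scheme.{u}} {U₁ U₂ W : X.Opens} (h12 : U₁ ≤ U₂) (h2 : U₂ ≤ W)
    (t : Γ(X, W)) (ht : X.presheaf.map (homOfLE h2).op t = 0) :
    X.presheaf.map (homOfLE (h12.trans h2)).op t = 0 := by
  have h : X.presheaf.map (homOfLE (h12.trans h2)).op =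
      X.presheaf.map (homOfLE h2).op ≫ X.presheaf.map (homOfLE h12).op := by
    rw [← Functor.map_comp, ← op_comp, homOfLE_comp]
  rw [h, CommRingCat.comp_apply, ht, map_zero]

/-- For the open subset U = X; the general case is the same statement over the open subscheme U: let f :
X' → X be flat and locally of finite presentation. Then for every schematically dense open subset V
of X, the preimage f⁻¹(V) is schematically dense in X'. -/
theorem result {X X' : Scheme.{u}} (f : X' ⟶ X) [Flat f]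
    [LocallyOfFinitePresentation f] (V : X.Opens) (hV : CInt.IsSchematicallyDense V) :
    CInt.IsSchematicallyDense (f ⁻¹ᵁ V) := by
  -- the one-member family `V.ι` is schematically dominant
  have h1 : ∀ (W : X.Opens) (t : Γ(X, W)),
      (∀ _ : PUnit.{u + 1}, (V.ι).app W t = 0) → t = 0 := by
    intro W t ht
    have h0 := ht ⟨⟩
    rw [Scheme.Opens.ι_app] at h0
    apply hV W
    rw [map_zero]
    have hle : W ⊓ V ≤ V.ι ''ᵁ V.ι ⁻¹ᵁ W := by
      rw [Scheme.Hom.image_preimage_eq_opensRange_inf, Scheme.Opens.opensRange_ι]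
      exact le_of_eq (inf_comm _ _)
    exact res_eq_zero_of_le hle _ t h0
  have h2 := Groth.Agent.S4875.result (fun _ : PUnit.{u + 1} => V.toScheme) (fun _ => V.ι) f h1
  intro W'
  rw [injective_iff_map_eq_zero]
  intro t ht
  apply h2 W' t
  intro _
  -- `pullback.snd V.ι f` is an open immersion with range `f⁻¹V`
  have hrange : Set.range (pullback.snd V.ι f).base = Set.range (f ⁻¹ᵁ V).ι.base := by
    rw [Scheme.Pullback.range_snd, Scheme.Opens.range_ι, Scheme.Opens.range_ι]
    rfl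
  let e := IsOpenImmersion.isoOfRangeEq (pullback.snd V.ι f) (f ⁻¹ᵁ V).ι hrange
  have he : pullback.snd V.ι f = e.hom ≫ (f ⁻¹ᵁ V).ι :=
    (IsOpenImmersion.isoOfRangeEq_hom_fac _ _ hrange).symm
  have h3 : (f ⁻¹ᵁ V).ι.app W' t = 0 := by
    rw [Scheme.Opens.ι_app]
    have hle : (f ⁻¹ᵁ V).ι ''ᵁ (f ⁻¹ᵁ V).ι ⁻¹ᵁ W' ≤ W' ⊓ f ⁻¹ᵁ V := by
      rw [Scheme.Hom.image_preimage_eq_opensRange_inf, Scheme.Opens.opensRange_ι]
      exact le_of_eq (inf_comm _ _)
    exact res_eq_zero_of_le hle _ t ht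
  have h4 : (e.hom ≫ (f ⁻¹ᵁ V).ι).app W' t = 0 := by
    show (e.hom.app ((f ⁻¹ᵁ V).ι ⁻¹ᵁ W')) ((f ⁻¹ᵁ V).ι.app W' t) = 0
    rw [h3, map_zero]
  rw [Scheme.Hom.congr_app he W', CommRingCat.comp_apply, h4, map_zero]

end Groth.Agent.S3843
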