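import Groth.Statements.S3835
import Groth.Agent.S3843
import Groth.Agent.S2879

set_option autoImplicit false
universe u
open CategoryTheory CategoryTheory.Limits AlgebraicGeometry
open Rat20

namespace Groth.Agent.S3835

namespace Aux

set_option backward.isDefEq.respectTransparency false in
/-- Core: descent of the extension along `f₀ : V'' ⟶ V = f(V'')` (flat, lfp, surjective,
quasi-compact), by the fpqc descent of extensions S2879 and the flat-lfp pullback of schematic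
density S3843. -/
theorem core {X X' Y S : Scheme.{u}} (pX : X ⟶ S) (pY : Y ⟶ S)
    [IsSeparated pY] (U : X.Opens) (hU : CInt.IsSchematicallyDense U) (h : (U : Scheme.{u}) ⟶ Y)
    (hh : h ≫ pY = U.ι ≫ pX) (f : X' ⟶ X) [Flat f] [LocallyOfFinitePresentation f]
    (V' : X'.Opens) (v' : (V' : Scheme.{u}) ⟶ Y) (hv'S : v' ≫ pY = V'.ι ≫ f ≫ pX)
    (hv' : X'.homOfLE (inf_le_right : f ⁻¹ᵁ U ⊓ V' ≤ V') ≫ v' =
      X'.homOfLE (inf_le_left : f ⁻¹ᵁ U ⊓ V' ≤ f ⁻¹ᵁ U) ≫ (f ∣_ U) ≫ h)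
    (V'' : X'.Opens) (hle : V'' ≤ V') (V : X.Opens) (hVsub : ∀ y ∈ V'', f y ∈ V)
    (hVsurj : ∀ x ∈ V, ∃ y ∈ V'', f y = x)
    [CompactSpace ↥V''] [QuasiSeparatedSpace ↥V] :
    ∃ v : (V : Scheme.{u}) ⟶ Y, v ≫ pY = V.ι ≫ pX ∧
      X.homOfLE (inf_le_right : U ⊓ V ≤ V) ≫ v = X.homOfLE (inf_le_left : U ⊓ V ≤ U) ≫ h := by
  have hrange : Set.range (V''.ι ≫ f) ⊆ Set.range V.ι := by
    rintro _ ⟨y, rfl⟩
    rw [Scheme.Opens.range_ι]
    exact hVsub y.1 y.2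
  let f₀ : (V'' : Scheme.{u}) ⟶ (V : Scheme.{u}) := IsOpenImmersion.lift V.ι (V''.ι ≫ f) hrange
  have hf₀ : f₀ ≫ V.ι = V''.ι ≫ f := IsOpenImmersion.lift_fac _ _ _
  have hflat : Flat f₀ := MorphismProperty.of_postcomp (W := @Flat) (W' := @IsOpenImmersion)
    f₀ V.ι inferInstance (by rw [hf₀]; infer_instance)
  have hlfp : LocallyOfFinitePresentation f₀ :=
    MorphismProperty.of_postcomp (W := @LocallyOfFinitePresentation) (W' := @IsOpenImmersion)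
      f₀ V.ι inferInstance (by rw [hf₀]; infer_instance)
  have key : ∀ z : ↥(V'' : Scheme.{u}), V.ι (f₀ z) = f (V''.ι z) := fun z => by
    rw [← Scheme.Hom.comp_apply, ← Scheme.Hom.comp_apply, hf₀]
  have hsurj : Surjective f₀ := ⟨fun v => by
    obtain ⟨y, hy, hyv⟩ := hVsurj v.1 v.2
    refine ⟨⟨y, hy⟩, ?_⟩
    apply V.ι.isOpenEmbedding.injective
    exact (key _).trans hyv⟩
  have hc1 : CompactSpace ↥(V'' : Scheme.{u}) := ‹CompactSpace ↥V''›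
  have hc2 : QuasiSeparatedSpace ↥(V : Scheme.{u}) := ‹QuasiSeparatedSpace ↥V›
  have hqc : QuasiCompact f₀ := inferInstance
  -- density
  have hUV : CInt.IsSchematicallyDense (V.ι ⁻¹ᵁ U) := Groth.Agent.S3843.result V.ι U hU
  have hUV' : CInt.IsSchematicallyDense (f₀ ⁻¹ᵁ (V.ι ⁻¹ᵁ U)) :=
    Groth.Agent.S3843.result f₀ _ hUV
  have hUV'' : CInt.IsSchematicallyDense (pullback.fst f₀ f₀ ⁻¹ᵁ (f₀ ⁻¹ᵁ (V.ι ⁻¹ᵁ U))) :=
    Groth.Agent.S3843.result (pullback.fst f₀ f₀) _ hUV'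
  -- the data for S2879
  have hg : ((V.ι ∣_ U) ≫ h) ≫ pY = (V.ι ⁻¹ᵁ U).ι ≫ (V.ι ≫ pX) := by
    rw [Category.assoc, hh, ← Category.assoc, morphismRestrict_ι, Category.assoc]
  have hg'S : (X'.homOfLE hle ≫ v') ≫ pY = f₀ ≫ (V.ι ≫ pX) := by
    rw [Category.assoc, hv'S, ← Category.assoc f₀, hf₀, Scheme.homOfLE_ι_assoc, Category.assoc]
  have hg' : (f₀ ⁻¹ᵁ (V.ι ⁻¹ᵁ U)).ι ≫ (X'.homOfLE hle ≫ v') =
      (f₀ ∣_ (V.ι ⁻¹ᵁ U)) ≫ ((V.ι ∣_ U) ≫ h) := by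
    have hTr : Set.range ((f₀ ⁻¹ᵁ (V.ι ⁻¹ᵁ U)).ι ≫ V''.ι) ⊆ Set.range (f ⁻¹ᵁ U ⊓ V').ι := by
      rintro _ ⟨z, rfl⟩
      rw [Scheme.Opens.range_ι]
      refine ⟨?_, hle z.1.2⟩
      show f (V''.ι z.1) ∈ U
      have h1 : V.ι (f₀ z.1) ∈ U := z.2
      rw [key] at h1
      exact h1
    let t := IsOpenImmersion.lift (f ⁻¹ᵁ U ⊓ V').ι ((f₀ ⁻¹ᵁ (V.ι ⁻¹ᵁ U)).ι ≫ V''.ι) hTr
    have ht : t ≫ (f ⁻¹ᵁ U ⊓ V').ι = (f₀ ⁻¹ᵁ (V.ι ⁻¹ᵁ U)).ι ≫ V''.ι :=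
      IsOpenImmersion.lift_fac _ _ _
    have e1 : (f₀ ⁻¹ᵁ (V.ι ⁻¹ᵁ U)).ι ≫ X'.homOfLE hle = t ≫ X'.homOfLE inf_le_right := by
      rw [← cancel_mono V'.ι, Category.assoc, Category.assoc, Scheme.homOfLE_ι, Scheme.homOfLE_ι, ht]
    have e2 : t ≫ X'.homOfLE inf_le_left ≫ (f ∣_ U) = (f₀ ∣_ (V.ι ⁻¹ᵁ U)) ≫ (V.ι ∣_ U) := by
      rw [← cancel_mono U.ι]
      simp only [Category.assoc]
      rw [morphismRestrict_ι, Scheme.homOfLE_ι_assoc, reassoc_of% ht, morphismRestrict_ι,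
        morphismRestrict_ι_assoc, hf₀]
    rw [← Category.assoc, e1, Category.assoc, hv', ← Category.assoc, ← Category.assoc,
      Category.assoc t, e2, Category.assoc]
  obtain ⟨v, hv1, hv2⟩ := Groth.Agent.S2879.result (V.ι ≫ pX) pY f₀ (V.ι ⁻¹ᵁ U) hUV''
    ((V.ι ∣_ U) ≫ h) hg (X'.homOfLE hle ≫ v') hg'S hg'
  refine ⟨v, hv2, ?_⟩
  have hEr : Set.range (X.homOfLE (inf_le_right : U ⊓ V ≤ V)) ⊆ Set.range (V.ι ⁻¹ᵁ U).ι := by
    rintro _ ⟨z, rfl⟩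
    rw [Scheme.Opens.range_ι]
    show V.ι (X.homOfLE (inf_le_right : U ⊓ V ≤ V) z) ∈ U
    rw [← Scheme.Hom.comp_apply, Scheme.homOfLE_ι]
    exact z.2.1
  let e := IsOpenImmersion.lift (V.ι ⁻¹ᵁ U).ι (X.homOfLE (inf_le_right : U ⊓ V ≤ V)) hEr
  have he : e ≫ (V.ι ⁻¹ᵁ U).ι = X.homOfLE (inf_le_right : U ⊓ V ≤ V) :=
    IsOpenImmersion.lift_fac _ _ _
  have he2 : e ≫ (V.ι ∣_ U) = X.homOfLE (inf_le_left : U ⊓ V ≤ U) := by
    rw [← cancel_mono U.ι, Category.assoc, morphismRestrict_ι, reassoc_of% he,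
      Scheme.homOfLE_ι, Scheme.homOfLE_ι]
  rw [← he, Category.assoc, hv1, ← Category.assoc, he2]

end Aux

/-- Let Y be separated over S, X an S-scheme with a schematically dense open subscheme U, h : U → Y an
S-morphism (a representative of a pseudo-morphism from X to Y over S), and f : X' → X a flat
morphism locally of finite presentation, X' being regarded as an S-scheme through f. Let x' be a
point of X' with image x = f(x'). If there is an S-morphism from an open neighbourhood V' of x' to Y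
agreeing with h ∘ f on f⁻¹(U) ∩ V' (the pulled-back pseudo-morphism is defined at x'), then there is
an S-morphism from an open neighbourhood V of x to Y agreeing with h on U ∩ V (the pseudo-morphism
is defined at x). -/
theorem result {X X' Y S : Scheme.{u}} (pX : X ⟶ S) (pY : Y ⟶ S)
    [IsSeparated pY] (U : X.Opens) (hU : CInt.IsSchematicallyDense U) (h : (U : Scheme.{u}) ⟶ Y)
    (hh : h ≫ pY = U.ι ≫ pX) (f : X' ⟶ X) [Flat f] [LocallyOfFinitePresentation f] (x' : ↥X')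
    (V' : X'.Opens) (hx' : x' ∈ V') (v' : (V' : Scheme.{u}) ⟶ Y) (hv'S : v' ≫ pY = V'.ι ≫ f ≫ pX)
    (hv' : X'.homOfLE (inf_le_right : f ⁻¹ᵁ U ⊓ V' ≤ V') ≫ v' =
      X'.homOfLE (inf_le_left : f ⁻¹ᵁ U ⊓ V' ≤ f ⁻¹ᵁ U) ≫ (f ∣_ U) ≫ h) :
    ∃ (V : X.Opens) (v : (V : Scheme.{u}) ⟶ Y), f x' ∈ V ∧ v ≫ pY = V.ι ≫ pX ∧
      X.homOfLE (inf_le_right : U ⊓ V ≤ V) ≫ v = X.homOfLE (inf_le_left : U ⊓ V ≤ U) ≫ h := by
  obtain ⟨A, hA, hxA, -⟩ := TopologicalSpace.Opens.isBasis_iff_nbhd.mp X.isBasis_affineOpens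
    (TopologicalSpace.Opens.mem_top (f x'))
  have hA' : IsAffineOpen A := hA
  have hx'' : x' ∈ V' ⊓ f ⁻¹ᵁ A := ⟨hx', hxA⟩
  obtain ⟨V'', hV'', hxV'', hV''le⟩ :=
    TopologicalSpace.Opens.isBasis_iff_nbhd.mp X'.isBasis_affineOpens hx''
  have hV''a : IsAffineOpen V'' := hV''
  let V : X.Opens := ⟨f '' (V'' : Set ↥X'), f.isOpenMap _ V''.isOpen⟩
  have hVA : V ≤ A := by
    rintro _ ⟨y, hy, rfl⟩
    exact (hV''le hy).2
  have : CompactSpace ↥V'' := isCompact_iff_compactSpace.mp hV''a.isCompact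
  have : IsAffine (A : Scheme.{u}) := hA'
  have : QuasiSeparatedSpace ↥V :=
    QuasiSeparatedSpace.of_isOpenEmbedding (X.homOfLE hVA).isOpenEmbedding
  obtain ⟨v, hv1, hv2⟩ := Aux.core pX pY U hU h hh f V' v' hv'S hv' V''
    (hV''le.trans inf_le_left) V (fun y hy => ⟨y, hy, rfl⟩) (fun x hx => hx)
  exact ⟨V, v, ⟨x', hxV'', rfl⟩, hv1, hv2⟩

end Groth.Agent.S3835
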