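import Groth.Statements.S3858
import Groth.Agent.R2.H17Adic

set_option autoImplicit false
universe u
open FCompl

namespace Groth.Agent.S3858

open AlgebraicGeometry CategoryTheory CategoryTheory.Limits in
theorem aux {𝔛 𝔖 𝔖' : FSch.Sys.{u}} (f : 𝔛 ⟶ 𝔖) (g : 𝔖' ⟶ 𝔖)
    (h𝔖' : 𝔖'.IsLocNoethFormal) (hf : FSch.IsAdicHom f) [LocallyOfFiniteType ((f : FSch.Hom 𝔛 𝔖).app 0)] :
    (FSch.pullbackSys f g).IsLocNoethFormal ∧ FSch.IsAdicHom (FSch.pullbackSnd f g) ∧
      LocallyOfFiniteType ((FSch.pullbackSnd f g : FSch.Hom _ _).app 0) := by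
  have hadic : FSch.IsAdicHom (FSch.pullbackSnd f g) := by
    intro n
    have A := (IsPullback.of_hasPullback ((f : FSch.Hom 𝔛 𝔖).app n) ((g : FSch.Hom 𝔖' 𝔖).app n)).flip
    have B := (hf n).flip
    have C := (IsPullback.of_hasPullback ((f : FSch.Hom 𝔛 𝔖).app (n + 1))
      ((g : FSch.Hom 𝔖' 𝔖).app (n + 1))).flip
    have AB := A.paste_vert B
    have e1 : pullback.fst ((f : FSch.Hom 𝔛 𝔖).app n) ((g : FSch.Hom 𝔖' 𝔖).app n) ≫ 𝔛.ι n =
        (FSch.pullbackSys f g).ι n ≫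
          pullback.fst ((f : FSch.Hom 𝔛 𝔖).app (n + 1)) ((g : FSch.Hom 𝔖' 𝔖).app (n + 1)) :=
      (pullback.lift_fst _ _ _).symm
    have e2 : (g : FSch.Hom 𝔖' 𝔖).app n ≫ 𝔖.ι n = 𝔖'.ι n ≫ (g : FSch.Hom 𝔖' 𝔖).app (n + 1) :=
      (g : FSch.Hom 𝔖' 𝔖).comm n
    rw [e1, e2] at AB
    refine (IsPullback.of_bot AB ?_ C).flip
    exact (pullback.lift_snd _ _ _).symm
  have hft : LocallyOfFiniteType ((FSch.pullbackSnd f g : FSch.Hom _ _).app 0) :=
    inferInstanceAs (LocallyOfFiniteType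
      (pullback.snd ((f : FSch.Hom 𝔛 𝔖).app 0) ((g : FSch.Hom 𝔖' 𝔖).app 0)))
  refine ⟨?_, hadic, hft⟩
  have h0 : IsLocallyNoetherian (𝔖'.X 0) := h𝔖'.2.2 0
  have h1 : IsLocallyNoetherian (pullback ((f : FSch.Hom 𝔛 𝔖).app 0) ((g : FSch.Hom 𝔖' 𝔖).app 0)) :=
    LocallyOfFiniteType.isLocallyNoetherian
      (pullback.snd ((f : FSch.Hom 𝔛 𝔖).app 0) ((g : FSch.Hom 𝔖' 𝔖).app 0))
  have : IsLocallyNoetherian ((FSch.pullbackSys f g).X 0) := h1
  exact Groth.Agent.R2.H17.Adic.isLocNoethFormal_of_isAdicHom _ h𝔖' hadic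


open AlgebraicGeometry in
/-- Formal schemes are presented as systems of thickenings (X_n)_n and fibre products of systems are
taken levelwise. Let X → S be an adic morphism of systems (every square X_n → X_(n+1), S_n → S_(n+1)
is cartesian) whose level-0 morphism X_0 → S_0 is locally of finite type, and S' → S a morphism from
a locally Noetherian adic formal system S'. Then the levelwise fibre product (X_n ×_(S_n) S'_n)_n is
a locally Noetherian adic formal system, its projection to S' is adic, and the level-0 projection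
X_0 ×_(S_0) S'_0 → S'_0 is locally of finite type. The published statement concerns the fibre
product of formal schemes, which the levelwise fibre product presents because X is adic over S, and
also assumes X and S locally Noetherian, which is not assumed here. -/
theorem result {𝔛 𝔖 𝔖' : FSch.Sys.{u}} (f : 𝔛 ⟶ 𝔖) (g : 𝔖' ⟶ 𝔖)
    (h𝔖' : 𝔖'.IsLocNoethFormal) (hf : FSch.IsAdicHom f) [LocallyOfFiniteType ((f : FSch.Hom 𝔛 𝔖).app 0)] :
    (FSch.pullbackSys f g).IsLocNoethFormal ∧ FSch.IsAdicHom (FSch.pullbackSnd f g) ∧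
      LocallyOfFiniteType ((FSch.pullbackSnd f g : FSch.Hom _ _).app 0) := by
  exact aux f g h𝔖' hf

end Groth.Agent.S3858
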