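import Groth.Statements.S3863
-- import your own Groth.Agent.* helpers here
import Groth.Agent.S3866
import Groth.Agent.R2.H17ComplSpec
import Groth.Agent.R2.H17LimMod

set_option autoImplicit false
universe u
open FCompl

namespace Groth.Agent.S3863

open AlgebraicGeometry in
open CategoryTheory in
/-- The formal spectrum of A is presented as the system of closed subschemes of Spec A cut out by the
powers of J, and for an A-module M the system of modules M^Δ is the family of pullbacks of the sheaf
M̃ associated to M to these subschemes, with its canonical transition isomorphisms. Let A be a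
Noetherian ring, complete and separated for the J-adic topology, and M, N finite A-modules. Then u ↦
u^Δ is a bijection from Hom_A(M, N) onto the set of morphisms of systems of modules M^Δ → N^Δ. -/
theorem result (A : Type u) [CommRing A] [IsNoetherianRing A]
    (J : Ideal A) [IsAdicComplete J A] (M N : ModuleCat.{u} A) [Module.Finite A M] [Module.Finite A N] :
    Function.Bijective (fun u : M ⟶ N ↦
      FSch.complModMap (FSch.idealSpec A J) ((tilde.functor (CommRingCat.of A)).map u)) := by
  open Groth.Agent.R2.H17.ComplHom Groth.Agent.R2.H17.ComplSpec Groth.Agent.R2.H17.LimMod in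
  have : IsAdicComplete J N := Groth.Agent.S3866.result A J N
  constructor
  · intro u v huv
    have huv' : FSch.complModMap (FSch.idealSpec A J) ((tilde.functor (CommRingCat.of A)).map u) =
      FSch.complModMap (FSch.idealSpec A J) ((tilde.functor (CommRingCat.of A)).map v) := huv
    have key : ∀ n, u ≫ pN (𝓘 := FSch.idealSpec A J) (tilde.adjunction (R := CommRingCat.of A)) N n =
        v ≫ pN (𝓘 := FSch.idealSpec A J) (tilde.adjunction (R := CommRingCat.of A)) N n := by
      intro n
      rw [← αφ_complModMap, ← αφ_complModMap, huv']
    ext m
    rw [← sub_eq_zero]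
    apply IsHausdorff.haus' (I := J) (u.hom m - v.hom m)
    intro n
    rw [SModEq.zero]
    have h1 : u.hom m - v.hom m ∈ J ^ (n + 1) • (⊤ : Submodule A N) := by
      rw [← pN_eq_zero_iff A J N n, map_sub, sub_eq_zero]
      exact congrArg (fun f => f.hom m) (key n)
    exact Submodule.smul_mono_left (Ideal.pow_le_pow_right (Nat.le_succ n)) h1
  · intro φ
    obtain ⟨u, hu⟩ := exists_lift_of_compat J
      (fun n => (pN (𝓘 := FSch.idealSpec A J) (tilde.adjunction (R := CommRingCat.of A)) N n).hom)
      (fun n => pN_surjective A J N n)
      (fun n => by
        ext m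
        rw [LinearMap.mem_ker]
        exact pN_eq_zero_iff A J N n m)
      (fun n => (rSys (moduleSpecΓFunctor (R := CommRingCat.of A))
        (FSch.complMod (FSch.idealSpec A J) ((tilde.functor (CommRingCat.of A)).obj N)) n).hom)
      (fun n => by
        rw [← ModuleCat.hom_comp, pN_rSys])
      (fun n => (αφ (tilde.adjunction (R := CommRingCat.of A)) φ n).hom)
      (fun n => by
        rw [← ModuleCat.hom_comp, αφ_rSys])
    refine ⟨ModuleCat.ofHom u, ?_⟩
    apply hom_ext_of_αφ (tilde.adjunction (R := CommRingCat.of A))
    intro n
    rw [αφ_complModMap]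
    ext m
    exact congrArg (fun f => f m) (hu n)

end Groth.Agent.S3863
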