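import Groth.Statements.S3868
import Groth.Prelude.Def_FSch5
import Groth.Agent.R2.H17Thick
import Groth.Agent.R2.H17LimAlg
import Groth.Agent.Lib.Helper22ThickAffine
import Groth.Agent.Lib.Helper19ComplNoeth2

set_option autoImplicit false
universe u
open FCompl

namespace Groth.Agent.S3868

section Glue

open AlgebraicGeometry CategoryTheory CategoryTheory.Limits
open Groth.Agent.R2.H17

/-- Build an isomorphism of systems from levelwise isomorphisms. -/
def isoMk {𝔛 𝔜 : FSch.Sys.{u}} (e : ∀ n, 𝔛.X n ≅ 𝔜.X n)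
    (h : ∀ n, (e n).hom ≫ 𝔜.ι n = 𝔛.ι n ≫ (e (n + 1)).hom) : 𝔛 ≅ 𝔜 where
  hom := ⟨fun n => (e n).hom, h⟩
  inv := ⟨fun n => (e n).inv, fun n => by
    rw [Iso.inv_comp_eq, ← Category.assoc, h n, Category.assoc, Iso.hom_inv_id, Category.comp_id]⟩
  hom_inv_id := FSch.Hom.ext (funext fun n => (e n).hom_inv_id)
  inv_hom_id := FSch.Hom.ext (funext fun n => (e n).inv_hom_id)

variable (𝔛 : FSch.Sys.{u})

theorem isAffine_level (hF : 𝔛.IsFormal) [IsAffine (𝔛.X 0)] (n : ℕ) : IsAffine (𝔛.X n) := by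
  have := Thick.isClosedImmersion_toX 𝔛 hF n
  exact Groth.Agent.Lib.Helper22.ThickAffine.isAffine_of_thickening (𝔛.toX n) (𝔛.toX_surjective hF n)

/-- the rings of global sections -/
abbrev Γs (n : ℕ) : Type u := Γ(𝔛.X n, ⊤)

/-- transition maps on global sections -/
noncomputable def tr (n : ℕ) : Γs 𝔛 (n + 1) →+* Γs 𝔛 n := (𝔛.ι n).appTop.hom

theorem toZero_tr (n : ℕ) : LimAlg.toZero (tr 𝔛) n = (𝔛.toX n).appTop.hom := by
  induction n with
  | zero => simp [LimAlg.toZero, FSch.Sys.toX]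
  | succ n ih =>
    rw [LimAlg.toZero_succ, ih]
    simp only [FSch.Sys.toX, tr, Scheme.Hom.comp_appTop, CommRingCat.hom_comp]

section Level

variable (hs : ∀ n, Function.Surjective (tr 𝔛 n))
  (hk : ∀ n, RingHom.ker (tr 𝔛 n) = RingHom.ker (LimAlg.toZero (tr 𝔛) (n + 1)) ^ (n + 1))
  (hfg : (LimAlg.J' (tr 𝔛) 1).FG) (haff : ∀ n, IsAffine (𝔛.X n))

theorem isIso_specσ (n : ℕ) : IsIso (Spec.map (CommRingCat.ofHom (LimAlg.σ (tr 𝔛) hs hk hfg n))) := by
  have : IsIso (CommRingCat.ofHom (LimAlg.σ (tr 𝔛) hs hk hfg n)) :=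
    (ConcreteCategory.isIso_iff_bijective _).mpr (LimAlg.σ_bijective (tr 𝔛) hs hk hfg n)
  infer_instance

/-- the levelwise isomorphisms -/
noncomputable def eLevel (n : ℕ) : 𝔛.X n ≅
    Spec (CommRingCat.of (LimAlg.lim (tr 𝔛) ⧸ (RingHom.ker (LimAlg.π (tr 𝔛) 0)) ^ (n + 1))) :=
  haveI := haff n
  (𝔛.X n).isoSpec ≪≫
    @asIso _ _ _ _ (Spec.map (CommRingCat.ofHom (LimAlg.σ (tr 𝔛) hs hk hfg n))) (isIso_specσ 𝔛 hs hk hfg n)

theorem eLevel_comm (n : ℕ) :
    (eLevel 𝔛 hs hk hfg haff n).hom ≫ Spec.map (CommRingCat.ofHom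
      (Ideal.Quotient.factor (Ideal.pow_le_pow_right (Nat.le_succ (n + 1))))) =
      𝔛.ι n ≫ (eLevel 𝔛 hs hk hfg haff (n + 1)).hom := by
  have := haff n
  have := haff (n + 1)
  simp only [eLevel, Iso.trans_hom, asIso_hom, Category.assoc]
  rw [← Scheme.isoSpec_hom_naturality_assoc, ← Spec.map_comp, ← Spec.map_comp]
  congr 2
  rw [← CommRingCat.ofHom_comp]
  have := LimAlg.σ_factor (tr 𝔛) hs hk hfg n
  rw [this]
  rfl

end Level

variable (hF : 𝔛.IsFormal) (hA : 𝔛.IsAdic) [IsAffine (𝔛.X 0)]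

include hF in
theorem tr_surjective (n : ℕ) : Function.Surjective (tr 𝔛 n) := by
  have := Thick.isClosedImmersion_ι 𝔛 hF n
  have := isAffine_level 𝔛 hF (n + 1)
  exact (𝔛.ι n).app_surjective ⊤ (isAffineOpen_top _)

include hF hA in
theorem ker_tr (n : ℕ) :
    RingHom.ker (tr 𝔛 n) = RingHom.ker (LimAlg.toZero (tr 𝔛) (n + 1)) ^ (n + 1) := by
  rw [toZero_tr]
  have := Thick.isClosedImmersion_ι 𝔛 hF n
  have := Thick.isClosedImmersion_toX 𝔛 hF (n + 1)
  have := isAffine_level 𝔛 hF (n + 1)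
  have h := congrArg (fun I => I.ideal ⟨⊤, isAffineOpen_top _⟩) (hA n)
  simp only [Thick.ideal_pow_apply, Scheme.Hom.ker_apply] at h
  exact h


include hF hA in
theorem main [IsLocallyNoetherian (𝔛.X 0)] (hft : FSch.IdealFT (𝔛.ι 0).ker) :
    ∃ (A : Type u) (_ : CommRing A) (J : Ideal A),
      IsNoetherianRing A ∧ IsAdicComplete J A ∧ Nonempty (𝔛 ≅ FSch.spf A J) := by
  have hs := tr_surjective 𝔛 hF
  have hk := ker_tr 𝔛 hF hA
  have haff := isAffine_level 𝔛 hF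
  have hfg : (LimAlg.J' (tr 𝔛) 1).FG := by
    have := Thick.isClosedImmersion_ι 𝔛 hF 0
    have h := hft ⟨⊤, isAffineOpen_top _⟩
    rw [Scheme.Hom.ker_apply] at h
    have e : LimAlg.J' (tr 𝔛) 1 = RingHom.ker ((𝔛.ι 0).app ⊤).hom := by
      change RingHom.ker ((RingHom.id _).comp (tr 𝔛 0)) = _
      rw [RingHom.id_comp]
      rfl
    rw [e]; exact h
  have hcomp := LimAlg.isAdicComplete (tr 𝔛) hs hk hfg
  have hN1 : IsNoetherianRing (Γs 𝔛 1) := by
    have := Thick.isLocallyNoetherian_level 𝔛 hF hA hft 1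
    exact IsLocallyNoetherian.component_noetherian ⟨⊤, isAffineOpen_top _⟩
  have hN2 : IsNoetherianRing (LimAlg.lim (tr 𝔛) ⧸ (RingHom.ker (LimAlg.π (tr 𝔛) 0)) ^ 2) :=
    isNoetherianRing_of_ringEquiv (Γs 𝔛 1)
      (RingEquiv.ofBijective (LimAlg.σ (tr 𝔛) hs hk hfg 1) (LimAlg.σ_bijective (tr 𝔛) hs hk hfg 1)).symm
  refine ⟨LimAlg.lim (tr 𝔛), inferInstance, RingHom.ker (LimAlg.π (tr 𝔛) 0), ?_, hcomp, ⟨?_⟩⟩
  · exact Groth.Agent.Lib.Helper19.isNoetherianRing_of_isAdicComplete_of_quotient_sq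
      (LimAlg.lim (tr 𝔛)) (RingHom.ker (LimAlg.π (tr 𝔛) 0))
  · exact isoMk (𝔜 := FSch.spf _ _) (fun n => eLevel 𝔛 hs hk hfg haff n)
      (fun n => eLevel_comm 𝔛 hs hk hfg haff n)

end Glue

open AlgebraicGeometry in
open CategoryTheory in
/-- (Systems of thickenings.) Let (X_n) be a system of schemes whose transition maps are surjective
closed immersions, with the kernel ideal of X_n -> X_(n+1) the (n+1)-st power of that of X_0 ->
X_(n+1), X_0 affine and locally Noetherian, and the kernel ideal of X_0 -> X_1 of finite type. Then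
the system is isomorphic to the formal spectrum Spec(A/J) -> Spec(A/J^2) -> ... of some Noetherian
ring A complete and separated for the J-adic topology, J an ideal of A. -/
theorem result (𝔛 : FSch.Sys.{u}) (hF : 𝔛.IsFormal) (hA : 𝔛.IsAdic)
    [IsAffine (𝔛.X 0)] [IsLocallyNoetherian (𝔛.X 0)] (hft : FSch.IdealFT (𝔛.ι 0).ker) :
    ∃ (A : Type u) (_ : CommRing A) (J : Ideal A),
      IsNoetherianRing A ∧ IsAdicComplete J A ∧ Nonempty (𝔛 ≅ FSch.spf A J) := by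
  exact main 𝔛 hF hA hft

end Groth.Agent.S3868
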