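import Groth.Statements.S3871
import Groth.Agent.S3869
import Groth.Agent.Lib.Helper19ComplFlatMap
import Groth.Agent.R2.H17FlatUnion

set_option autoImplicit false
set_option linter.style.haveILetI false
universe u
open FCompl

namespace Groth.Agent.S3871

section Helpers

variable (A : Type u) [CommRing A] (J : Ideal A) (𝔭 : Ideal A) [𝔭.IsPrime]

theorem awayToAtPrime_flat (f : A) (hf : f ∉ 𝔭) : (FSch.awayToAtPrime A 𝔭 f hf).Flat := by
  letI : Algebra (Localization.Away f) (Localization.AtPrime 𝔭) := (FSch.awayToAtPrime A 𝔭 f hf).toAlgebra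
  haveI : IsScalarTower A (Localization.Away f) (Localization.AtPrime 𝔭) :=
    IsScalarTower.of_algebraMap_eq (fun a => by
      rw [RingHom.algebraMap_toAlgebra]
      simp [FSch.awayToAtPrime])
  have hle : Submonoid.powers f ≤ 𝔭.primeCompl := Submonoid.powers_le.mpr hf
  haveI := IsLocalization.isLocalization_of_submonoid_le (Localization.Away f) (Localization.AtPrime 𝔭)
    (Submonoid.powers f) 𝔭.primeCompl hle
  exact IsLocalization.flat (Localization.AtPrime 𝔭)
    (𝔭.primeCompl.map (algebraMap A (Localization.Away f)))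

theorem map_awayToAtPrime_eq (f : A) (hf : f ∉ 𝔭) :
    (J.map (algebraMap A (Localization.Away f))).map (FSch.awayToAtPrime A 𝔭 f hf) =
      J.map (algebraMap A (Localization.AtPrime 𝔭)) := by
  rw [Ideal.map_map]
  congr 1
  ext a
  simp [FSch.awayToAtPrime]

theorem cAwayToAtPrime_flat [IsNoetherianRing A] (f : A) (hf : f ∉ 𝔭) :
    (FSch.cAwayToAtPrime A J 𝔭 f hf).Flat := by
  haveI : IsNoetherianRing (Localization.Away f) :=
    IsLocalization.isNoetherianRing (Submonoid.powers f) _ inferInstance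
  haveI : IsNoetherianRing (Localization.AtPrime 𝔭) :=
    IsLocalization.isNoetherianRing 𝔭.primeCompl _ inferInstance
  exact Groth.Agent.Lib.Helper19.complMap_flat _ _ (FSch.awayToAtPrime A 𝔭 f hf)
    (awayToAtPrime_flat A 𝔭 f hf) (map_awayToAtPrime_eq A J 𝔭 f hf)

theorem flat_stalkSubring [IsNoetherianRing A] :
    Module.Flat (FSch.stalkSubring A J 𝔭) (FSch.cAtPrime A J 𝔭) := by
  haveI : Nonempty {f : A // f ∉ 𝔭} :=
    ⟨⟨1, fun h => (Ideal.IsPrime.ne_top ‹_›) ((Ideal.eq_top_iff_one _).mpr h)⟩⟩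
  exact Groth.Agent.R2.H17.FlatUnion.flat_iSup_range
    (fun f : {f : A // f ∉ 𝔭} => FSch.cAwayToAtPrime A J 𝔭 f.1 f.2)
    (Groth.Agent.S3869.directed_ranges A J 𝔭) (fun f => cAwayToAtPrime_flat A J 𝔭 f.1 f.2)

end Helpers

/-- Let A be a ring, J an ideal of A and 𝔭 a prime ideal of A, S = A ∖ 𝔭. Write A{S⁻¹} for the
completion of A_𝔭 for the J-adic topology, A_{f} for the completion of A_f for the J-adic topology,
and A_{S} for the subring of A{S⁻¹} which is the union of the images of the A_{f}, f ∉ 𝔭. If A is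
Noetherian and J ⊆ 𝔭, then A{S⁻¹} is a faithfully flat module over A_{S}. -/
theorem result (A : Type u) [CommRing A] [IsNoetherianRing A]
    (J : Ideal A) (𝔭 : Ideal A) [𝔭.IsPrime] (hJ : J ≤ 𝔭) :
    Module.FaithfullyFlat (FSch.stalkSubring A J 𝔭) (FSch.cAtPrime A J 𝔭) := by
  obtain ⟨h1, h2⟩ := Groth.Agent.S3869.result A J 𝔭 hJ
  haveI := h1
  haveI := Groth.Agent.S3869.isLocalRing_cAtPrime A J 𝔭 hJ
  haveI := flat_stalkSubring A J 𝔭
  haveI : IsLocalHom (algebraMap (FSch.stalkSubring A J 𝔭) (FSch.cAtPrime A J 𝔭)) := h2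
  exact Module.FaithfullyFlat.of_flat_of_isLocalHom

end Groth.Agent.S3871
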