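import Groth.Statements.S3872
import Groth.Agent.S3869

set_option autoImplicit false
universe u
open FCompl

namespace Groth.Agent.S3872

section Helpers

open Groth.Agent.S3869

theorem complMap_algebraMap {S T : Type u} [CommRing S] [CommRing T] (I : Ideal S) (K : Ideal T)
    (g : S →+* T) (h : I.map g ≤ K) (t : S) :
    FSch.complMap I K g h (algebraMap S (AdicCompletion I S) t) =
      algebraMap T (AdicCompletion K T) (g t) := by
  apply AdicCompletion.ext_evalₐ
  intro n
  rw [evalₐ_complMap]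
  simp only [AlgHom.commutes]
  rfl

variable (A : Type u) [CommRing A] (J : Ideal A) (𝔭 : Ideal A) [𝔭.IsPrime]

/-- the image of `A_𝔭` in the completion lies in the stalk subring -/
theorem algebraMap_mem_stalkSubring (r : Localization.AtPrime 𝔭) :
    algebraMap (Localization.AtPrime 𝔭) (FSch.cAtPrime A J 𝔭) r ∈ FSch.stalkSubring A J 𝔭 := by
  obtain ⟨a, s, rfl⟩ := IsLocalization.exists_mk'_eq 𝔭.primeCompl r
  rw [mem_stalkSubring_iff]
  refine ⟨s.1, s.2, algebraMap (Localization.Away s.1) (FSch.cAway A J s.1)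
    (IsLocalization.mk' (Localization.Away s.1) a ⟨s.1, Submonoid.mem_powers s.1⟩), ?_⟩
  unfold FSch.cAwayToAtPrime
  rw [complMap_algebraMap]
  congr 1
  unfold FSch.awayToAtPrime
  rw [IsLocalization.Away.lift, IsLocalization.lift_mk'_spec]
  simp

/-- every element of the completion is congruent to an element of `A_𝔭` modulo the maximal ideal -/
theorem exists_sub_mem_maximalIdeal (hJ : J ≤ 𝔭) [IsLocalRing (FSch.cAtPrime A J 𝔭)]
    (x : FSch.cAtPrime A J 𝔭) :
    ∃ r : Localization.AtPrime 𝔭, x - algebraMap (Localization.AtPrime 𝔭) (FSch.cAtPrime A J 𝔭) r ∈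
      IsLocalRing.maximalIdeal (FSch.cAtPrime A J 𝔭) := by
  set Jp := J.map (algebraMap A (Localization.AtPrime 𝔭)) with hJp
  have hne : Jp ^ 1 ≠ ⊤ := by
    rw [pow_one]
    intro h
    have := Jp_le A J 𝔭 hJ
    rw [← hJp, h, top_le_iff] at this
    exact (IsLocalRing.maximalIdeal.isMaximal _).ne_top this
  have : Nontrivial (Localization.AtPrime 𝔭 ⧸ Jp ^ 1) := Ideal.Quotient.nontrivial_iff.mpr hne
  obtain ⟨r, hr⟩ := Ideal.Quotient.mk_surjective (AdicCompletion.evalₐ Jp 1 x)
  refine ⟨r, ?_⟩
  rw [IsLocalRing.mem_maximalIdeal, mem_nonunits_iff]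
  intro hu
  have h1 : AdicCompletion.evalₐ Jp 1 (x - algebraMap (Localization.AtPrime 𝔭) (FSch.cAtPrime A J 𝔭) r) = 0 := by
    rw [map_sub, AlgHom.commutes, ← hr]
    exact sub_self _
  have h2 := hu.map (AdicCompletion.evalₐ Jp 1)
  rw [h1] at h2
  exact not_isUnit_zero h2

end Helpers


/-- For a ring A, an ideal J and a prime ideal 𝔭 with J ⊆ 𝔭, let A{S⁻¹}, S = A ∖ 𝔭, be the completion of
A_𝔭 for the topology defined by the extension of J, and A_{S} the subring of A{S⁻¹} generated by the
images of the completed localizations A_{f}, f ∉ 𝔭 (the stalk ring of Spf(A) at 𝔭). Given that A_{S}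
and A{S⁻¹} are local rings and that the inclusion A_{S} → A{S⁻¹} and the canonical map A_𝔭 → A{S⁻¹}
are local homomorphisms (all four are carried here as instance hypotheses; the two about A_{S} are
stated separately), both maps induce bijections on residue fields; so the residue field of A_{S} is
the residue field κ(𝔭) of A_𝔭. -/
theorem result (A : Type u) [CommRing A] (J : Ideal A) (𝔭 : Ideal A)
    [𝔭.IsPrime] (hJ : J ≤ 𝔭) [IsLocalRing (FSch.stalkSubring A J 𝔭)] [IsLocalRing (FSch.cAtPrime A J 𝔭)]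
    [IsLocalHom (FSch.stalkSubring A J 𝔭).subtype]
    [IsLocalHom (algebraMap (Localization.AtPrime 𝔭) (FSch.cAtPrime A J 𝔭))] :
    Function.Bijective (IsLocalRing.ResidueField.map (FSch.stalkSubring A J 𝔭).subtype) ∧
      Function.Bijective
        (IsLocalRing.ResidueField.map (algebraMap (Localization.AtPrime 𝔭) (FSch.cAtPrime A J 𝔭))) := by
  constructor
  · refine ⟨RingHom.injective _, ?_⟩
    intro y
    obtain ⟨x, rfl⟩ := IsLocalRing.residue_surjective y
    obtain ⟨r, hr⟩ := exists_sub_mem_maximalIdeal A J 𝔭 hJ x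
    refine ⟨IsLocalRing.residue _ ⟨_, algebraMap_mem_stalkSubring A J 𝔭 r⟩, ?_⟩
    rw [IsLocalRing.ResidueField.map_residue]
    symm
    rw [← sub_eq_zero, ← map_sub, IsLocalRing.residue_eq_zero_iff]
    exact hr
  · refine ⟨RingHom.injective _, ?_⟩
    intro y
    obtain ⟨x, rfl⟩ := IsLocalRing.residue_surjective y
    obtain ⟨r, hr⟩ := exists_sub_mem_maximalIdeal A J 𝔭 hJ x
    refine ⟨IsLocalRing.residue _ r, ?_⟩
    rw [IsLocalRing.ResidueField.map_residue]
    symm
    rw [← sub_eq_zero, ← map_sub, IsLocalRing.residue_eq_zero_iff]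
    exact hr

end Groth.Agent.S3872
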