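import Groth.Statements.S3874
import Mathlib

set_option autoImplicit false
universe u
open FCompl

namespace Groth.Agent.S3874

section Helpers

open AdicCompletion

theorem ker_evalₐ {R : Type u} [CommRing R] (I : Ideal R) (hI : I.FG) (n : ℕ) :
    RingHom.ker (AdicCompletion.evalₐ I n).toRingHom =
      (I.map (algebraMap R (AdicCompletion I R))) ^ n := by
  ext x
  trans x ∈ (AdicCompletion.eval I R n).ker
  · have eq : I ^ n * ⊤ = I ^ n := by simp
    have : Function.Injective (Ideal.Quotient.factor ((le_of_eq eq))) := by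
      simpa [RingHom.injective_iff_ker_eq_bot, Ideal.Quotient.factor_ker]
        using Ideal.map_mk_eq_bot_of_le (le_of_eq eq.symm)
    simpa [← factor_eval_eq_evalₐ] using map_eq_zero_iff _ this
  · rw [← pow_smul_top_eq_ker_eval hI, ← Ideal.map_pow, Ideal.smul_top_eq_map]
    simp

variable (A : Type u) [CommRing A] (J : Ideal A) (f : A) (n : ℕ)

instance isLocAway :
    IsLocalization.Away (Ideal.Quotient.mk (J ^ (n + 1)) f)
      (Localization.Away f ⧸ (J ^ (n + 1)).map (algebraMap A (Localization.Away f))) := by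
  have h : IsLocalization (Algebra.algebraMapSubmonoid (A ⧸ J ^ (n + 1)) (Submonoid.powers f))
      (Localization.Away f ⧸ (J ^ (n + 1)).map (algebraMap A (Localization.Away f))) := inferInstance
  have e : Algebra.algebraMapSubmonoid (A ⧸ J ^ (n + 1)) (Submonoid.powers f) =
      Submonoid.powers (Ideal.Quotient.mk (J ^ (n + 1)) f) := by
    unfold Algebra.algebraMapSubmonoid
    rw [Submonoid.map_powers]
    rfl
  rw [e] at h
  exact h

/-- first iso -/
noncomputable def e1 : Localization.Away (Ideal.Quotient.mk (J ^ (n + 1)) f) ≃ₐ[A ⧸ J ^ (n + 1)]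
    (Localization.Away f ⧸ (J ^ (n + 1)).map (algebraMap A (Localization.Away f))) :=
  IsLocalization.algEquiv (Submonoid.powers (Ideal.Quotient.mk (J ^ (n + 1)) f)) _ _


end Helpers

section Helpers2

open AdicCompletion
variable (A : Type u) [CommRing A] [IsNoetherianRing A] (J : Ideal A) (f : A) (n : ℕ)

/-- second iso -/
noncomputable def e2 :
    (Localization.Away f ⧸ (J ^ (n + 1)).map (algebraMap A (Localization.Away f))) ≃+*
    (Localization.Away f ⧸ (J.map (algebraMap A (Localization.Away f))) ^ (n + 1)) :=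
  Ideal.quotEquivOfEq (Ideal.map_pow _ _ _)

theorem map_eq :
    (J.map (algebraMap A (FSch.cAway A J f))) ^ (n + 1) =
      RingHom.ker (AdicCompletion.evalₐ (J.map (algebraMap A (Localization.Away f))) (n + 1)).toRingHom := by
  rw [ker_evalₐ _ (IsNoetherian.noetherian _)]
  congr 1
  rw [Ideal.map_map]
  rfl

/-- third iso -/
noncomputable def e3 :
    (FSch.cAway A J f ⧸ (J.map (algebraMap A (FSch.cAway A J f))) ^ (n + 1)) ≃+*
    (Localization.Away f ⧸ (J.map (algebraMap A (Localization.Away f))) ^ (n + 1)) :=
  (Ideal.quotEquivOfEq (map_eq A J f n)).trans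
    (RingHom.quotientKerEquivOfSurjective
      (f := (AdicCompletion.evalₐ (J.map (algebraMap A (Localization.Away f))) (n + 1)).toRingHom)
      (AdicCompletion.surjective_evalₐ _ _))

theorem e3_mk (r : Localization.Away f) :
    e3 A J f n (Ideal.Quotient.mk _ (algebraMap (Localization.Away f) (FSch.cAway A J f) r)) =
      Ideal.Quotient.mk _ r := by
  unfold e3
  simp only [RingEquiv.trans_apply, Ideal.quotEquivOfEq_mk]
  rw [RingHom.quotientKerEquivOfSurjective_apply_mk]
  simp

theorem main :
    ∃ e : Localization.Away (Ideal.Quotient.mk (J ^ (n + 1)) f) ≃+*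
        FSch.cAway A J f ⧸ (J.map (algebraMap A (FSch.cAway A J f))) ^ (n + 1),
      ∀ a : A, e (algebraMap (A ⧸ J ^ (n + 1)) _ (Ideal.Quotient.mk (J ^ (n + 1)) a)) =
        Ideal.Quotient.mk _ (algebraMap A (FSch.cAway A J f) a) := by
  refine ⟨((e1 A J f n).toRingEquiv.trans (e2 A J f n)).trans (e3 A J f n).symm, ?_⟩
  intro a
  simp only [RingEquiv.trans_apply]
  rw [RingEquiv.symm_apply_eq]
  have h1 : algebraMap A (FSch.cAway A J f) a =
      algebraMap (Localization.Away f) (FSch.cAway A J f) (algebraMap A (Localization.Away f) a) := rfl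
  rw [h1, e3_mk]
  have h2 : (e1 A J f n).toRingEquiv (algebraMap (A ⧸ J ^ (n + 1)) _ (Ideal.Quotient.mk (J ^ (n + 1)) a)) =
      algebraMap (A ⧸ J ^ (n + 1)) _ (Ideal.Quotient.mk (J ^ (n + 1)) a) :=
    (e1 A J f n).commutes _
  rw [h2]
  unfold e2
  rfl


end Helpers2


/-- Let A be a Noetherian ring, J an ideal, f ∈ A and n ≥ 0, and let A_{f} be the completion of the
localization A_f for the topology defined by the extension of J. There is a ring isomorphism from
the localization of A/J^(n+1) away from the class of f onto A_{f} modulo the (n+1)-st power of the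
extension of J to A_{f}, compatible with the canonical maps from A (and hence unique). In terms of
formal spectra: the open D(f) of Spf(A) is Spf(A_{f}), and at level n its ring is the ring
(A/J^(n+1))_f of the open D(f) of Spec(A/J^(n+1)). -/
theorem result (A : Type u) [CommRing A] [IsNoetherianRing A] (J : Ideal A)
    (f : A) (n : ℕ) :
    ∃ e : Localization.Away (Ideal.Quotient.mk (J ^ (n + 1)) f) ≃+*
        FSch.cAway A J f ⧸ (J.map (algebraMap A (FSch.cAway A J f))) ^ (n + 1),
      ∀ a : A, e (algebraMap (A ⧸ J ^ (n + 1)) _ (Ideal.Quotient.mk (J ^ (n + 1)) a)) =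
        Ideal.Quotient.mk _ (algebraMap A (FSch.cAway A J f) a) := by
  exact main A J f n

end Groth.Agent.S3874
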