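import Groth.Statements.S3875
import Groth.Agent.R2.H17FSchBase

set_option autoImplicit false
universe u
open FCompl

namespace Groth.Agent.S3875

open AlgebraicGeometry CategoryTheory CategoryTheory.Limits Groth.Agent.R2.H17.FSchBase in
theorem level {X Y S : Scheme.{u}} (g : X ⟶ S) (h : Y ⟶ S)
    (𝓡 : X.IdealSheafData) (𝓙 : S.IdealSheafData) (n : ℕ)
    (H1 : 𝓡 ^ (n + 1) ≤ ((𝓡.comap (pullback.fst g h)) ^ (n + 1)).map (pullback.fst g h))
    (H2 : (𝓙.comap h) ^ (n + 1) ≤ ((𝓡.comap (pullback.fst g h)) ^ (n + 1)).map (pullback.snd g h))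
    (H3 : 𝓙 ^ (n + 1) ≤ (𝓡 ^ (n + 1)).map g)
    (H4 : 𝓙 ^ (n + 1) ≤ ((𝓙.comap h) ^ (n + 1)).map h) :
    IsPullback
      (Scheme.IdealSheafData.subschemeMap ((𝓡.comap (pullback.fst g h)) ^ (n + 1)) (𝓡 ^ (n + 1))
        (pullback.fst g h) H1)
      (Scheme.IdealSheafData.subschemeMap ((𝓡.comap (pullback.fst g h)) ^ (n + 1)) ((𝓙.comap h) ^ (n + 1))
        (pullback.snd g h) H2)
      (Scheme.IdealSheafData.subschemeMap (𝓡 ^ (n + 1)) (𝓙 ^ (n + 1)) g H3)
      (Scheme.IdealSheafData.subschemeMap ((𝓙.comap h) ^ (n + 1)) (𝓙 ^ (n + 1)) h H4) := by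
  have A := isPullback_subschemeMap_pow (pullback.fst g h) 𝓡 n H1
  have B := isPullback_subschemeMap_pow h 𝓙 n H4
  have big : IsPullback
      (((𝓡.comap (pullback.fst g h)) ^ (n + 1)).subschemeι ≫ pullback.snd g h)
      (Scheme.IdealSheafData.subschemeMap ((𝓡.comap (pullback.fst g h)) ^ (n + 1)) (𝓡 ^ (n + 1))
        (pullback.fst g h) H1)
      h ((𝓡 ^ (n + 1)).subschemeι ≫ g) :=
    A.paste_horiz (IsPullback.of_hasPullback g h).flip
  have e1 : ((𝓡.comap (pullback.fst g h)) ^ (n + 1)).subschemeι ≫ pullback.snd g h =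
      Scheme.IdealSheafData.subschemeMap ((𝓡.comap (pullback.fst g h)) ^ (n + 1)) ((𝓙.comap h) ^ (n + 1))
        (pullback.snd g h) H2 ≫ ((𝓙.comap h) ^ (n + 1)).subschemeι :=
    (Scheme.IdealSheafData.subschemeMap_subschemeι _ _ _ _).symm
  have e2 : (𝓡 ^ (n + 1)).subschemeι ≫ g =
      Scheme.IdealSheafData.subschemeMap (𝓡 ^ (n + 1)) (𝓙 ^ (n + 1)) g H3 ≫ (𝓙 ^ (n + 1)).subschemeι :=
    (Scheme.IdealSheafData.subschemeMap_subschemeι _ _ _ _).symm
  rw [e1, e2] at big
  refine (IsPullback.of_right big ?_ B).flip
  rw [← cancel_mono (𝓙 ^ (n + 1)).subschemeι]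
  simp only [Category.assoc, Scheme.IdealSheafData.subschemeMap_subschemeι,
    Scheme.IdealSheafData.subschemeMap_subschemeι_assoc, pullback.condition]


open AlgebraicGeometry in
open CategoryTheory in
open CategoryTheory.Limits in
/-- Let g : X → S and h : Y → S be morphisms of schemes, R an ideal sheaf on X and J an ideal sheaf on
S, and consider the completions of S along J, of X along R, of Y along the inverse image of J under
h, and of X x_S Y along the inverse image of R under the first projection (completions presented by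
the subschemes of the powers of these ideal sheaves); this is the case where the closed subset of Y
is the full preimage of that of S. The four compatibility hypotheses between the powers of the ideal
sheaves (for g, for h, and for the two projections of X x_S Y): for each n, the inverse image of the
(n+1)-st power of the target ideal sheaf is contained in the (n+1)-st power of the source ideal
sheaf. These are hypotheses, carried as data for the completed morphisms; the published statement
assumes the schemes locally Noetherian, which this identity does not need. Then the square of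
completed morphisms from the completion of X x_S Y along the preimage of the closed subset of X, to
the completions of X and of Y, over the completion of S, is cartesian in the category of systems. -/
theorem result {X Y S : Scheme.{u}} (g : X ⟶ S) (h : Y ⟶ S)
    (𝓡 : X.IdealSheafData) (𝓙 : S.IdealSheafData)
    (hg : FSch.PowCompat g 𝓡 𝓙) (hh : FSch.PowCompat h (𝓙.comap h) 𝓙)
    (hp : FSch.PowCompat (pullback.fst g h) (𝓡.comap (pullback.fst g h)) 𝓡)
    (hq : FSch.PowCompat (pullback.snd g h) (𝓡.comap (pullback.fst g h)) (𝓙.comap h)) :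
    IsPullback (FSch.completionMap (pullback.fst g h) (𝓡.comap (pullback.fst g h)) 𝓡 hp)
      (FSch.completionMap (pullback.snd g h) (𝓡.comap (pullback.fst g h)) (𝓙.comap h) hq)
      (FSch.completionMap g 𝓡 𝓙 hg) (FSch.completionMap h (𝓙.comap h) 𝓙 hh) := by
  apply Groth.Agent.R2.H17.FSchBase.isPullback_of_levelwise
  intro n
  exact level g h 𝓡 𝓙 n (Scheme.IdealSheafData.le_map_iff_comap_le.mpr (hp n))
    (Scheme.IdealSheafData.le_map_iff_comap_le.mpr (hq n))
    (Scheme.IdealSheafData.le_map_iff_comap_le.mpr (hg n))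
    (Scheme.IdealSheafData.le_map_iff_comap_le.mpr (hh n))

end Groth.Agent.S3875
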