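import Groth.Statements.S3896
import Groth.Agent.R2.H13ClosedPushSet

set_option autoImplicit false
open CategoryTheory CategoryTheory.Limits AlgebraicGeometry Opposite
universe u
open EtDesc

namespace Groth.Agent.S3896

open Groth.Agent.R2.H13.ClosedPush

section Helpers

variable {X : Scheme.{u}}

/-- the lifted representable presheaf -/
abbrev P (U : X.Etale) : X.Etaleᵒᵖ ⥤ Type (u + 1) := yoneda.obj U ⋙ uliftFunctor.{u + 1, u}

lemma subsingleton_hom_ofOpen (W : X.Etale) (U : X.Opens) :
    Subsingleton (W ⟶ EtDesc.ofOpen U) := by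
  refine ⟨fun a b => ?_⟩
  apply MorphismProperty.Over.Hom.ext
  have ha : a.left ≫ U.ι = W.hom := MorphismProperty.Over.w a
  have hb : b.left ≫ U.ι = W.hom := MorphismProperty.Over.w b
  exact (cancel_mono U.ι).mp (ha.trans hb.symm)

lemma range_subset_of_hom (W : X.Etale) (U : X.Opens) (a : W ⟶ EtDesc.ofOpen U) :
    Set.range (W.hom : W.left ⟶ X).base ⊆ (U : Set X) := by
  rintro _ ⟨w, rfl⟩
  have ha : a.left ≫ U.ι = W.hom := MorphismProperty.Over.w a
  rw [← ha]
  exact (a.left.base w).2

set_option backward.isDefEq.respectTransparency.types false in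
lemma exists_hom_of_range_subset (W : X.Etale) (U : X.Opens)
    (h : Set.range (W.hom : W.left ⟶ X).base ⊆ (U : Set X)) :
    Nonempty (W ⟶ EtDesc.ofOpen U) := by
  have h' : Set.range (W.hom : W.left ⟶ X).base ⊆ Set.range U.ι.base := by
    rw [Scheme.Opens.range_ι]
    exact h
  let l : W.left ⟶ (U : Scheme.{u}) := IsOpenImmersion.lift U.ι (W.hom : W.left ⟶ X) h'
  have hl : l ≫ U.ι = W.hom := IsOpenImmersion.lift_fac _ _ _
  exact ⟨MorphismProperty.Over.homMk l hl trivial⟩

set_option backward.isDefEq.respectTransparency.types false in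
/-- sections of the sheaf attached to an open are unique -/
lemma subsingleton_sections (U : X.Opens) (W : X.Etale) :
    Subsingleton ((EtDesc.repSh (EtDesc.ofOpen U)).obj.obj (op W)) := by
  refine ⟨fun s t => ?_⟩
  have hs : Presheaf.imageSieve
      (CategoryTheory.toSheafify X.smallEtaleTopology (P (EtDesc.ofOpen U))) s ∈
      X.smallEtaleTopology W := Presheaf.imageSieve_mem X.smallEtaleTopology
        (CategoryTheory.toSheafify X.smallEtaleTopology (P (EtDesc.ofOpen U))) (U := op W) s
  have ht : Presheaf.imageSieve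
      (CategoryTheory.toSheafify X.smallEtaleTopology (P (EtDesc.ofOpen U))) t ∈
      X.smallEtaleTopology W := Presheaf.imageSieve_mem X.smallEtaleTopology
        (CategoryTheory.toSheafify X.smallEtaleTopology (P (EtDesc.ofOpen U))) (U := op W) t
  have hst := X.smallEtaleTopology.intersection_covering hs ht
  have hsep : Presieve.IsSeparated X.smallEtaleTopology (EtDesc.repSh (EtDesc.ofOpen U)).obj :=
    ((isSheaf_iff_isSheaf_of_type _ _).mp (EtDesc.repSh (EtDesc.ofOpen U)).2).isSeparated
  apply (hsep _ hst).ext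
  rintro T g ⟨⟨a, ha⟩, ⟨b, hb⟩⟩
  refine ha.symm.trans (Eq.trans ?_ hb)
  have hab : a = b := by
    have := subsingleton_hom_ofOpen T U
    exact ULift.ext _ _ (Subsingleton.elim _ _)
  rw [hab]

end Helpers

/-- Let X be a scheme. Sending a Zariski open U of X to the etale sheaf of sets attached to the open
immersion U -> X gives an isomorphism of ordered sets from the opens of X onto the subobjects of the
final object of the etale topos of X: (a) each such sheaf is a subobject of the final sheaf; (b) U ≤
V if and only if there is a morphism between the attached sheaves; (c) every subobject of the final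
sheaf is isomorphic to the sheaf attached to some open. -/
theorem result (X : Scheme.{u}) :
    (∀ U : X.Opens, Mono (terminal.from (EtDesc.repSh (EtDesc.ofOpen U)))) ∧
    (∀ U V : X.Opens, U ≤ V ↔ Nonempty (EtDesc.repSh (EtDesc.ofOpen U) ⟶ EtDesc.repSh (EtDesc.ofOpen V))) ∧
    (∀ F : EtDesc.Sh X, Mono (terminal.from F) → ∃ U : X.Opens, Nonempty (F ≅ EtDesc.repSh (EtDesc.ofOpen U))) := by
  refine ⟨?_, ?_, ?_⟩
  · -- (a)
    intro U
    refine ⟨fun {Z} a b _ => ?_⟩
    apply Sheaf.hom_ext
    ext W z
    exact (subsingleton_sections U W.unop).elim _ _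
  · -- (b)
    intro U V
    constructor
    · intro hUV
      have h1 : Set.range ((EtDesc.ofOpen U).hom : (EtDesc.ofOpen U).left ⟶ X).base ⊆ (V : Set X) := by
        rintro _ ⟨w, rfl⟩
        exact hUV w.2
      obtain ⟨m⟩ := exists_hom_of_range_subset (EtDesc.ofOpen U) V h1
      exact ⟨(presheafToSheaf X.smallEtaleTopology (Type (u + 1))).map
        (Functor.whiskerRight (yoneda.map m) uliftFunctor.{u + 1, u})⟩
    · rintro ⟨φ⟩ x hx
      obtain ⟨T, g, ⟨a, -⟩, t, ht⟩ := exists_of_mem_smallEtaleTopology _
        (Presheaf.imageSieve_mem X.smallEtaleTopology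
          (CategoryTheory.toSheafify X.smallEtaleTopology (P (EtDesc.ofOpen V)))
          (U := op (EtDesc.ofOpen U))
          (φ.hom.app (op (EtDesc.ofOpen U))
            ((CategoryTheory.toSheafify X.smallEtaleTopology (P (EtDesc.ofOpen U))).app
              (op (EtDesc.ofOpen U)) ⟨𝟙 _⟩)))
        (⟨x, hx⟩ : U)
      have h2 := range_subset_of_hom T V a.down
      have hg : g.left ≫ U.ι = T.hom := MorphismProperty.Over.w g
      have h3 : (T.hom : T.left ⟶ X).base t = x := by
        rw [← hg]
        change U.ι.base (g.left.base t) = x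
        rw [ht]
        rfl
      exact h3 ▸ h2 ⟨t, rfl⟩
  · -- (c)
    intro F hF
    have hsub : ∀ W : X.Etale, Subsingleton (F.obj.obj (op W)) := by
      intro W
      have h1 : Mono (terminal.from F).hom := (Sheaf.Hom.mono_iff_presheaf_mono _ _ _).mp hF
      have h2 : Mono ((terminal.from F).hom.app (op W)) :=
        (NatTrans.mono_iff_mono_app _).mp h1 (op W)
      have h3 : Function.Injective ((terminal.from F).hom.app (op W)) :=
        (mono_iff_injective _).mp h2
      obtain ⟨hT⟩ := (isTerminal_sheaf_iff X.smallEtaleTopology (⊤_ EtDesc.Sh X)).mp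
        ⟨terminalIsTerminal⟩ W
      have : Subsingleton ((⊤_ EtDesc.Sh X).obj.obj (op W)) :=
        ⟨fun a b => congrArg (fun f => f PUnit.unit)
          (hT.hom_ext (TypeCat.ofHom fun (_ : PUnit.{u + 2}) => a) (TypeCat.ofHom fun _ => b))⟩
      exact h3.subsingleton
    let Uset : Set X := {x | ∃ W : X.Etale, Nonempty (F.obj.obj (op W)) ∧
      x ∈ Set.range (W.hom : W.left ⟶ X).base}
    have hopen : IsOpen Uset := by
      rw [isOpen_iff_forall_mem_open]
      rintro x ⟨W, hW, hx⟩
      exact ⟨Set.range (W.hom : W.left ⟶ X).base, fun y hy => ⟨W, hW, hy⟩,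
        (W.hom : W.left ⟶ X).isOpenMap.isOpen_range, hx⟩
    let U : X.Opens := ⟨Uset, hopen⟩
    refine ⟨U, ?_⟩
    have hfac : ∀ W : X.Etale, Nonempty (F.obj.obj (op W)) → Nonempty (W ⟶ EtDesc.ofOpen U) :=
      fun W hW => exists_hom_of_range_subset W U (fun y hy => ⟨W, hW, hy⟩)
    have hne : Nonempty (F.obj.obj (op (EtDesc.ofOpen U))) := by
      let S : Sieve (EtDesc.ofOpen U) :=
        { arrows := fun T _ => Nonempty (F.obj.obj (op T))
          downward_closed := fun {T T'} _ hs h => hs.elim fun s => ⟨F.obj.map h.op s⟩ }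
      have hS : S ∈ X.smallEtaleTopology (EtDesc.ofOpen U) := by
        apply mem_smallEtaleTopology_of_forall
        rintro ⟨x, W, hW, w, hw⟩
        obtain ⟨m⟩ := hfac W hW
        refine ⟨W, m, hW, w, ?_⟩
        apply U.ι.isOpenEmbedding.injective
        have hm : m.left ≫ U.ι = W.hom := MorphismProperty.Over.w m
        change (m.left ≫ U.ι).base w = x
        rw [hm]
        exact hw
      have hsheaf : Presieve.IsSheafFor F.obj S.arrows :=
        ((isSheaf_iff_isSheaf_of_type _ _).mp F.2) S hS
      let fam : Presieve.FamilyOfElements F.obj S.arrows := fun T g hg => Classical.choice hg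
      have hcomp : fam.Compatible := fun _ _ _ _ _ _ _ _ _ _ => (hsub _).elim _ _
      obtain ⟨s, -, -⟩ := hsheaf fam hcomp
      exact ⟨s⟩
    obtain ⟨s₀⟩ := hne
    let β : P (EtDesc.ofOpen U) ⟶ F.obj :=
      { app := fun T => TypeCat.ofHom fun m => F.obj.map m.down.op s₀
        naturality := by
          intro T T' g
          ext z
          exact (hsub _).elim _ _ }
    let b : EtDesc.repSh (EtDesc.ofOpen U) ⟶ F :=
      ((sheafificationAdjunction X.smallEtaleTopology (Type (u + 1))).homEquiv _ F).symm β
    let α : F.obj ⟶ (EtDesc.repSh (EtDesc.ofOpen U)).obj :=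
      { app := fun T => TypeCat.ofHom fun s =>
          (CategoryTheory.toSheafify X.smallEtaleTopology (P (EtDesc.ofOpen U))).app T
            ⟨Classical.choice (hfac T.unop ⟨s⟩)⟩
        naturality := by
          intro T T' g
          ext z
          exact (subsingleton_sections U _).elim _ _ }
    let a : F ⟶ EtDesc.repSh (EtDesc.ofOpen U) := ⟨α⟩
    refine ⟨⟨a, b, ?_, ?_⟩⟩
    · apply Sheaf.hom_ext
      ext W z
      exact (hsub _).elim _ _
    · apply Sheaf.hom_ext
      ext W z
      exact (subsingleton_sections U _).elim _ _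

end Groth.Agent.S3896
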