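import Groth.Statements.S4086
import Mathlib
import Groth.Agent.R2.H53GrpdASM7

set_option autoImplicit false
universe u
open CategoryTheory MonoidalCategory CartesianMonoidalCategory MonObj GrpObj AlgebraicGeometry CategoryTheory.Limits
open GrpQ

namespace Groth.Agent.S4086

/-- Let (U, R, s, t, c) be a groupoid scheme over S with s finite locally free and every set t(s⁻¹(x))
contained in an affine open of U, and assume that j = (t, s) : R → U ×_S U is a monomorphism. Then
for every coequalizer p : U → Y of (t, s) in schemes, the square formed by t, s, p, p is cartesian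
(R ≅ U ×_Y U) and p is finite locally free. (The source adds that Y is then the quotient sheaf for
the fppf topology and that its formation commutes with base change on Y.) -/
theorem result (S : Scheme.{u}) (G : Grpd.GroupoidScheme S)
    (ha : Mor2.IsFinLocFree G.s)
    (hb : ∀ x : G.U, ∃ V : G.U.Opens, IsAffineOpen V ∧ G.t.base '' (G.s.base ⁻¹' {x}) ⊆ (V : Set G.U))
    [Mono G.j] (Y : Scheme.{u}) (p : G.U ⟶ Y) (w : G.t ≫ p = G.s ≫ p) (hc : IsColimit (Cofork.ofπ p w)) :
    IsPullback G.t G.s p p ∧ Mor2.IsFinLocFree p := by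
  obtain ⟨hf, hfl, hfp⟩ := ha
  have hcov := Groth.Agent.R2.H53.GrpdASM.hcov_of_orbits G hb
  have w₀ := Groth.Agent.R2.H53.GrpdASM.t_p G hcov
  have hc₀ := Groth.Agent.R2.H53.GrpdASM.isColimit_p G hcov Groth.Agent.R2.H53.GrpdASM.acStmt w₀
  let e := hc₀.coconePointUniqueUpToIso hc
  have hpe : Groth.Agent.R2.H53.GrpdASM.p G hcov ≫ e.hom = p :=
    hc₀.comp_coconePointUniqueUpToIso_hom hc WalkingParallelPair.one
  have hpb := Groth.Agent.R2.H53.GrpdASM.isPullback_p G hcov w₀
  refine ⟨hpb.of_iso (Iso.refl _) (Iso.refl _) (Iso.refl _) e (by simp) (by simp)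
    (by simpa using hpe) (by simpa using hpe), ?_, ?_, ?_⟩
  · rw [← hpe]
    exact (MorphismProperty.cancel_right_of_respectsIso @IsFinite _ e.hom).mpr
      (Groth.Agent.R2.H53.GrpdASM.isFinite_p G hcov)
  · rw [← hpe]
    exact (MorphismProperty.cancel_right_of_respectsIso @Flat _ e.hom).mpr
      (Groth.Agent.R2.H53.GrpdASM.flat_p G hcov)
  · rw [← hpe]
    exact (MorphismProperty.cancel_right_of_respectsIso @LocallyOfFinitePresentation _ e.hom).mpr
      (Groth.Agent.R2.H53.GrpdASM.lfp_p G hcov)

end Groth.Agent.S4086
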