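import Groth.Statements.S4114
import Groth.Agent.R2.H90GrpHopf
import Groth.Agent.Lib.Helper25FinHopf

set_option linter.style.haveILetI false

set_option autoImplicit false
universe u
open CategoryTheory MonoidalCategory CartesianMonoidalCategory MonObj GrpObj AlgebraicGeometry CategoryTheory.Limits
open SGA3

namespace Groth.Agent.S4114

open Groth.Agent.R2.H90.GrpHopf

theorem id_pow_bc_eq_one {S : Scheme.{u}} (G : Over S) [GrpObj G]
    [IsFinite G.hom] [Flat G.hom] [LocallyOfFinitePresentation G.hom]
    (r : ℕ) (hr : ∀ s : S, Scheme.Hom.finrank G.hom s = r) {R : CommRingCat.{u}}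
    [_root_.IsReduced R] (j : Spec R ⟶ S) :
    (𝟙 (Red.bc j G) : Red.bc j G ⟶ Red.bc j G) ^ r = 1 := by
  haveI : IsFinite (Red.bc j G).hom := inferInstanceAs (IsFinite (pullback.snd G.hom j))
  haveI : Flat (Red.bc j G).hom := inferInstanceAs (Flat (pullback.snd G.hom j))
  haveI : LocallyOfFinitePresentation (Red.bc j G).hom :=
    inferInstanceAs (LocallyOfFinitePresentation (pullback.snd G.hom j))
  haveI : IsAffine (Red.bc j G).left := isAffine_of_isAffineHom (Red.bc j G).hom
  apply id_pow_eq_one_of_convPow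
  haveI := finite (Red.bc j G)
  haveI := projective (Red.bc j G)
  refine Groth.Agent.Lib.Helper25.FinHopf.convPow_id_of_rankAtStalk (R₀ := R)
    (A := (XΓ (Red.bc j G)).unop) r (fun p => ?_)
  rw [rankAtStalk_eq]
  have := Scheme.Hom.finrank_pullback_snd G.hom j p
  rw [hr] at this
  exact this
theorem id_pow_bc_eq_one_of_isOpenImmersion {S : Scheme.{u}} [IsReduced S] (G : Over S) [GrpObj G]
    [IsFinite G.hom] [Flat G.hom] [LocallyOfFinitePresentation G.hom]
    (r : ℕ) (hr : ∀ s : S, Scheme.Hom.finrank G.hom s = r) {R : CommRingCat.{u}}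
    (j : Spec R ⟶ S) (hj : IsOpenImmersion j) :
    (𝟙 (Red.bc j G) : Red.bc j G ⟶ Red.bc j G) ^ r = 1 := by
  haveI : IsReduced (Spec R) := isReduced_of_isOpenImmersion j
  haveI : _root_.IsReduced R := (affine_isReduced_iff R).mp inferInstance
  exact id_pow_bc_eq_one G r hr j

/-- Let S be a reduced scheme and G an S-group scheme which is finite locally free of constant rank n
over S. Then the n-th power morphism of G is the trivial endomorphism (g ↦ gⁿ factors through the
unit section). -/
theorem result (S : Scheme.{u}) [IsReduced S] (G : Over S) [GrpObj G] (n : ℕ)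
    (hG : Mor2.IsFinLocFreeOfDeg n G.hom) : (𝟙 G : G ⟶ G) ^ n = 1 := by
  obtain ⟨⟨h1, h2, h3⟩, hr⟩ := hG
  haveI := h1
  haveI := h2
  haveI := h3
  exact id_pow_eq_one_of_openCover G S.affineCover n
    (fun i => id_pow_bc_eq_one_of_isOpenImmersion G n hr _ (S.affineCover.map_prop i))

end Groth.Agent.S4114
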