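import Groth.Statements.S4202
import Groth.Agent.R2.H20AnProperB

set_option autoImplicit false
open CategoryTheory AlgebraicGeometry Topology TopologicalSpace
open An

namespace Groth.Agent.S4202

/-- Let f : X → Y be quasi-compact with X, Y locally of finite type over ℂ and f a ℂ-morphism. Then f is
proper if and only if the induced map X(ℂ) → Y(ℂ) is proper as a map of topological spaces
(universally closed) and separated (the notion of proper morphism of analytic spaces). -/
theorem result (X Y : Scheme.{0}) [X.Over An.SC] [LocallyOfFiniteType (X ↘ An.SC)]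
    [Y.Over An.SC] [LocallyOfFiniteType (Y ↘ An.SC)] (f : X ⟶ Y) [f.IsOver An.SC] [QuasiCompact f] :
    IsProper f ↔ IsProperMap (An.Pts.map f) ∧ IsSeparatedMap (An.Pts.map f) := by
  constructor
  · intro h
    exact ⟨Groth.Agent.R2.H20.AnProper.isProperMap_map_of_isProper f,
      (Groth.Agent.Lib.Helper6.isSeparated_iff_pts f).1 inferInstance⟩
  · rintro ⟨hp, hs⟩
    have : IsSeparated f := (Groth.Agent.Lib.Helper6.isSeparated_iff_pts f).2 hs
    exact Groth.Agent.R2.H20.AnProper.isProper_of_isProperMap_map f hp

end Groth.Agent.S4202
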