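import Groth.Statements.S4205
import Groth.Agent.R2.H20AnProperB

set_option autoImplicit false
open CategoryTheory AlgebraicGeometry Topology TopologicalSpace
open An

namespace Groth.Agent.S4205

/-- Let X be a scheme of finite type over ℂ (locally of finite type and quasi-compact over ℂ, carried as
two instance hypotheses). Then X is proper over ℂ if and only if X(ℂ) with the complex topology is
compact and Hausdorff. -/
theorem result (X : Scheme.{0}) [X.Over An.SC] [LocallyOfFiniteType (X ↘ An.SC)] [QuasiCompact (X ↘ An.SC)] :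
    IsProper (X ↘ An.SC) ↔ CompactSpace (An.Pts X) ∧ T2Space (An.Pts X) := by
  let _ : An.SC.Over An.SC := ⟨𝟙 An.SC⟩
  have hover : (X ↘ An.SC).IsOver An.SC := ⟨Category.comp_id _⟩
  have hlft : LocallyOfFiniteType (An.SC ↘ An.SC) := by
    change LocallyOfFiniteType (𝟙 An.SC)
    infer_instance
  let y₀ : An.Pts An.SC := ⟨𝟙 An.SC, Category.comp_id _⟩
  have hsub : Subsingleton (An.Pts An.SC) := Groth.Agent.Lib.Helper6.subsingleton_pts_SC
  have hconst : An.Pts.map (X ↘ An.SC) = fun _ => y₀ := by
    funext x
    exact Subsingleton.elim _ _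
  constructor
  · intro h
    refine ⟨?_, Groth.Agent.Lib.Helper6.isSeparated_iff_t2Space.1 inferInstance⟩
    have hp := Groth.Agent.R2.H20.AnProper.isProperMap_map_of_isProper (X ↘ An.SC)
    rw [hconst] at hp
    exact (isProperMap_const_iff y₀).1 hp
  · rintro ⟨hc, ht⟩
    have hsep : IsSeparated (X ↘ An.SC) := Groth.Agent.Lib.Helper6.isSeparated_iff_t2Space.2 ht
    have hp : IsProperMap (An.Pts.map (X ↘ An.SC)) := by
      rw [hconst]
      exact (isProperMap_const_iff y₀).2 hc
    exact Groth.Agent.R2.H20.AnProper.isProper_of_isProperMap_map (X ↘ An.SC) hp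

end Groth.Agent.S4205
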