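import Groth.Statements.S4208
import Groth.Agent.R2.H20AnEps

set_option autoImplicit false
open CategoryTheory AlgebraicGeometry Topology TopologicalSpace
open An

namespace Groth.Agent.S4208

/-- For X locally of finite type over ℂ, the functor U ↦ U(ℂ) from etale X-schemes to spaces over X(ℂ)
is faithful, and it is full towards etale X-schemes V that are separated over X: every continuous
map U(ℂ) → V(ℂ) over X(ℂ) is induced by a unique X-morphism U → V. Finite etale X-schemes are
separated over X, so this contains the full faithfulness of the passage from finite etale covers of
X to finite covering spaces of X(ℂ). The statement assumes that every etale morphism of schemes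
locally of finite type over ℂ induces a local homeomorphism on ℂ-points (this holds and is stated
separately). (The published statement asserts fullness for all etale X-schemes V; its published
proof treats affine, hence separated, V, and fullness is stated here for targets separated over X
only.) -/
theorem result (X : Scheme.{0}) [X.Over An.SC] [LocallyOfFiniteType (X ↘ An.SC)]
    [Fact An.EtaleLH] :
    (∀ (U V : X.Etale) [IsSeparated (V.left ↘ X)],
        Function.Surjective ((An.eps X).map : (U ⟶ V) → ((An.eps X).obj U ⟶ (An.eps X).obj V))) ∧
      (An.eps X).Faithful := by
  refine ⟨?_, ⟨?_⟩⟩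
  · intro U V _ φ
    obtain ⟨g, hg, hgφ⟩ := Groth.Agent.R2.H20.AnEps.exists_lift_of_continuous
      (U.left ↘ X) (V.left ↘ X) φ.toFun φ.continuous φ.over
    refine ⟨MorphismProperty.Over.homMk g hg trivial, ?_⟩
    apply An.Cl.hom_ext
    funext s
    exact Subtype.ext (hgφ s)
  · intro U V g g' h
    apply MorphismProperty.Over.Hom.ext
    have hcomp : g.left ≫ V.hom = g'.left ≫ V.hom := by
      rw [Over.w g.hom, Over.w g'.hom]
    apply Groth.Agent.R2.H20.AnEps.eq_of_forall_pts_comp_eq V.hom g.left g'.left hcomp
    intro s
    have h1 := congrArg (fun ψ => (ψ.toFun s).1) h
    exact h1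

end Groth.Agent.S4208
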