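import Groth.Statements.S4329
import Groth.Agent.R2.H10DerComp
import Groth.Agent.R2.H38EtPull

set_option autoImplicit false
universe u
open CategoryTheory CategoryTheory.Limits AlgebraicGeometry Opposite
attribute [local instance] HasDerivedCategory.standard
open EtSix

namespace Groth.Agent.S4329

/-- Composition of derived direct images: for the small etale sites of schemes and abelian sheaves: let
f : X -> Y and g : Y -> Z be morphisms of schemes and assume the unbounded derived direct images
Rf_*, Rg_* and R(g ∘ f)_* exist (they do; the existence is recorded as instance hypotheses). Then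
the canonical morphism R(g ∘ f)_* -> Rg_* ∘ Rf_* of functors D(X_et) -> D(Z_et), induced by (g ∘
f)_* ≅ g_* ∘ f_* through the universal property of R(g ∘ f)_* as a right derived functor, is an
isomorphism. -/
theorem result {X Y Z : Scheme.{u}} (f : X ⟶ Y) (g : Y ⟶ Z)
    [DCoh.HasRpushEt X f] [DCoh.HasRpushEt Y g] [DCoh.HasRpushEt X (f ≫ g)] :
    IsIso (EtSix.compMap f g) := by
  classical
  let W := HomotopyCategory.quasiIso (EtCoh.Ab X) (ComplexShape.up ℤ)
  -- units
  let uf := (DCoh.pushEtKh X f).totalRightDerivedUnit DerivedCategory.Qh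
    (HomotopyCategory.quasiIso (EtCoh.Ab X) (ComplexShape.up ℤ))
  let ug := (DCoh.pushEtKh Y g).totalRightDerivedUnit DerivedCategory.Qh
    (HomotopyCategory.quasiIso (EtCoh.Ab Y) (ComplexShape.up ℤ))
  let ufg := (DCoh.pushEtKh X (f ≫ g)).totalRightDerivedUnit DerivedCategory.Qh
    (HomotopyCategory.quasiIso (EtCoh.Ab X) (ComplexShape.up ℤ))
  haveI : PreservesFiniteLimits (EtCoh.pull f) :=
    Groth.Agent.R2.H38.EtPull.pull_preservesFiniteLimits f
  haveI : (EtCoh.pull f).Additive := (EtCoh.pullPushAdj f).left_adjoint_additive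
  haveI : PreservesColimits (EtCoh.pull f) := (EtCoh.pullPushAdj f).leftAdjoint_preservesColimits
  haveI : (EtCoh.pull f).PreservesHomology := inferInstance
  have key : ∀ (I : CochainComplex (EtCoh.Ab X) ℤ) [I.IsKInjective],
      IsIso ((EtSix.compMap f g).app (DerivedCategory.Qh.obj
        ((HomotopyCategory.quotient (EtCoh.Ab X) (ComplexShape.up ℤ)).obj I))) := by
    intro I hI
    haveI i1 : IsIso (ufg.app ((HomotopyCategory.quotient (EtCoh.Ab X) (ComplexShape.up ℤ)).obj I)) :=
      Groth.Agent.R2.H10.DerComp.isIso_unitK_app.{u + 1} (EtCoh.push (f ≫ g))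
        (DCoh.RpushEt X (f ≫ g)) ufg I
    haveI i2 : IsIso (uf.app ((HomotopyCategory.quotient (EtCoh.Ab X) (ComplexShape.up ℤ)).obj I)) :=
      Groth.Agent.R2.H10.DerComp.isIso_unitK_app.{u + 1} (EtCoh.push f)
        (DCoh.RpushEt X f) uf I
    haveI hfI : CochainComplex.IsKInjective
        (((EtCoh.push f).mapHomologicalComplex (ComplexShape.up ℤ)).obj I) :=
      Groth.Agent.Lib.Helper16.KInjAdj.isKInjective_map (EtCoh.pullPushAdj f) I
    haveI i3 : IsIso (ug.app ((HomotopyCategory.quotient (EtCoh.Ab Y) (ComplexShape.up ℤ)).obj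
        (((EtCoh.push f).mapHomologicalComplex (ComplexShape.up ℤ)).obj I))) :=
      Groth.Agent.R2.H10.DerComp.isIso_unitK_app.{u + 1} (EtCoh.push g)
        (DCoh.RpushEt Y g) ug _
    have fac : ufg.app ((HomotopyCategory.quotient (EtCoh.Ab X) (ComplexShape.up ℤ)).obj I) ≫
        (EtSix.compMap f g).app (DerivedCategory.Qh.obj
          ((HomotopyCategory.quotient (EtCoh.Ab X) (ComplexShape.up ℤ)).obj I)) =
        (EtSix.compUnit f g).app ((HomotopyCategory.quotient (EtCoh.Ab X) (ComplexShape.up ℤ)).obj I) :=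
      Functor.rightDerived_fac_app (DCoh.RpushEt X (f ≫ g)) ufg
        (HomotopyCategory.quasiIso (EtCoh.Ab X) (ComplexShape.up ℤ))
        (DCoh.RpushEt X f ⋙ DCoh.RpushEt Y g) (EtSix.compUnit f g) _
    haveI i3' : IsIso (ug.app (((EtCoh.push f).mapHomotopyCategory (ComplexShape.up ℤ)).obj
        ((HomotopyCategory.quotient (EtCoh.Ab X) (ComplexShape.up ℤ)).obj I))) := i3
    haveI i5 : IsIso (NatTrans.mapHomotopyCategory (EtCoh.pushComp g f).inv (ComplexShape.up ℤ)) :=
      ⟨NatTrans.mapHomotopyCategory (EtCoh.pushComp g f).hom (ComplexShape.up ℤ), by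
        rw [← NatTrans.mapHomotopyCategory_comp, Iso.inv_hom_id, NatTrans.mapHomotopyCategory_id], by
        rw [← NatTrans.mapHomotopyCategory_comp, Iso.hom_inv_id, NatTrans.mapHomotopyCategory_id]⟩
    haveI i4 : IsIso ((EtSix.compUnit f g).app
        ((HomotopyCategory.quotient (EtCoh.Ab X) (ComplexShape.up ℤ)).obj I)) := by
      dsimp only [EtSix.compUnit]
      simp only [NatTrans.comp_app, Functor.whiskerRight_app, Functor.whiskerLeft_app,
        Functor.associator_hom_app, Functor.associator_inv_app, Category.id_comp, Category.comp_id]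
      infer_instance
    have e : (EtSix.compMap f g).app (DerivedCategory.Qh.obj
          ((HomotopyCategory.quotient (EtCoh.Ab X) (ComplexShape.up ℤ)).obj I)) =
        inv (ufg.app ((HomotopyCategory.quotient (EtCoh.Ab X) (ComplexShape.up ℤ)).obj I)) ≫
        (EtSix.compUnit f g).app ((HomotopyCategory.quotient (EtCoh.Ab X) (ComplexShape.up ℤ)).obj I) := by
      rw [IsIso.eq_inv_comp]; exact fac
    rw [e]
    infer_instance
  haveI : ∀ K, IsIso ((EtSix.compMap f g).app K) := by
    intro K
    obtain ⟨I, hI, ⟨e⟩⟩ := Groth.Agent.R2.H10.DerComp.exists_kInjective_iso.{u + 1} K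
    haveI := key I
    have nat := (EtSix.compMap f g).naturality e.hom
    have : (EtSix.compMap f g).app K = (DCoh.RpushEt X (f ≫ g)).map e.hom ≫
        (EtSix.compMap f g).app _ ≫ (DCoh.RpushEt X f ⋙ DCoh.RpushEt Y g).map e.inv := by
      rw [← Category.assoc, nat, Category.assoc, ← CategoryTheory.Functor.map_comp, e.hom_inv_id,
        CategoryTheory.Functor.map_id, Category.comp_id]
    rw [this]
    infer_instance
  exact NatIso.isIso_of_isIso_app _

end Groth.Agent.S4329
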