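import Groth.Statements.S4420
import Groth.Agent.R2.H91PnAmpleBase
import Groth.Agent.R2.H92RelProjChart
import Groth.Agent.R2.LeadRelProjQP

set_option autoImplicit false
universe u
open CategoryTheory CategoryTheory.Limits AlgebraicGeometry
open EGA2

namespace Groth.Agent.S4420

/-- Let Y be a quasi-compact separated scheme possessing an ample invertible O_Y-module and f : X → Y a
morphism. Then f is projective if and only if there are r ≥ 0 and a closed immersion of X into
projective r-space over Y compatible with the projections (f is H-projective). -/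
theorem result {X Y : Scheme.{u}} [CompactSpace Y] [Y.IsSeparated]
    (hY : ∃ M : Y.Modules, CohB1.IsAmple M) (f : X ⟶ Y) :
    RelProj.IsProjective f ↔ RelProj.IsHProjective f := by
  constructor
  · intro hf
    have hp : IsProper f := Groth.Agent.R2.H74.RelProjR4.r4 f hf
    obtain ⟨-, -, L, hL⟩ := Groth.Agent.R2.Lead.RelProjQP.isQuasiProjective_of_isProjective f hf
    have h1 := (Groth.Agent.R2.H91.PnAmpleBase.isProper_ample_iff_relAmple hY f).mpr ⟨hp, L, hL⟩
    exact (Groth.Agent.R2.H91.PnAmpleBase.closedImmersion_iff hY f).mpr h1
  · exact Groth.Agent.R2.H92.RelProjChart.r1 f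

end Groth.Agent.S4420
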