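import Groth.Statements.S4452
import Groth.Agent.R2.H21PolyAlg
import Groth.Agent.R2.H21AffVB
import Groth.Agent.S8258
import Groth.Agent.S12137
import Groth.Agent.Lib.Helper13PolyProj
import Groth.Agent.Lib.Helper13GrPoly
import Groth.Agent.Lib.Helper10QAffRelSpec

set_option autoImplicit false
universe u
open CategoryTheory CategoryTheory.Limits AlgebraicGeometry
open EGA2

namespace Groth.Agent.S4452

/-- Every finite morphism f : X ⟶ Y is projective (here: X is Y-isomorphic to the homogeneous spectrum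
of a quasi-coherent graded O_Y-algebra generated by its degree-one part, that part being of finite
type — the form of projectivity equivalent to X being a closed subscheme of a projective bundle P(E)
with E quasi-coherent of finite type). -/
theorem result {X Y : Scheme.{u}} (f : X ⟶ Y) [IsFinite f] : RelProj.IsProjective f := by
  classical
  let 𝒜 : RelSpec.QCAlg Y := RelSpec.QCAlg.directImage f
  let Sh : RelProj.QCGrAlg Y := Groth.Agent.R2.H21.PolyAlg.polyGr 𝒜 Unit
  let ι : 𝒜 ⟶ Sh.toQCAlg := Groth.Agent.R2.H21.PolyAlg.polyι 𝒜 Unit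
  let z : Sh.presheaf.obj (Opposite.op ⊤) := Groth.Agent.R2.H21.PolyAlg.polyX 𝒜 Unit ()
  have hι : ∀ (U : Y.Opens) (hU : IsAffineOpen U) (a : 𝒜.presheaf.obj (Opposite.op U)),
      (ι.hom.app (Opposite.op U)).hom a ∈ Sh.deg U hU 0 :=
    fun U hU a => Groth.Agent.R2.H21.PolyAlg.polyι_mem_deg_zero 𝒜 Unit U hU a
  have hz : ∀ (U : Y.Opens) (hU : IsAffineOpen U),
      (Sh.presheaf.map (homOfLE le_top).op).hom z ∈ Sh.deg U hU 1 :=
    fun U hU => Groth.Agent.R2.H21.PolyAlg.polyX_res_mem_deg_one 𝒜 Unit () U hU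
  have hpoly : ∀ (U : Y.Opens) (hU : IsAffineOpen U),
      Function.Bijective (Polynomial.eval₂RingHom (ι.hom.app (Opposite.op U)).hom
        ((Sh.presheaf.map (homOfLE le_top).op).hom z)) :=
    fun U hU => Groth.Agent.R2.H21.PolyAlg.eval₂RingHom_bijective 𝒜 Unit U hU
  obtain ⟨P, p, chart, hP⟩ := Groth.Agent.S8258.result Sh
  -- the identifications `θ`
  have hν : ∀ (U : Y.Opens) (hU : IsAffineOpen U),
      Function.Bijective (fun b : 𝒜.presheaf.obj (Opposite.op U) =>
        HomogeneousLocalization.fromZeroRingHom (Sh.deg U hU)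
          (Submonoid.powers ((Sh.presheaf.map (homOfLE le_top).op).hom z))
          (Groth.Agent.Helper13GrPoly.ιZero (Sh.deg U hU) (ι.hom.app (Opposite.op U)).hom (hι U hU) b)) :=
    fun U hU =>
      (Groth.Agent.Helper13GrPoly.fromZeroRingHom_bijective (Sh.deg U hU) (ι.hom.app (Opposite.op U)).hom
        (hι U hU) _ (hz U hU) (hpoly U hU)).comp
      (Groth.Agent.Helper13GrPoly.ιZero_bijective (Sh.deg U hU) (ι.hom.app (Opposite.op U)).hom
        (hι U hU) _ (hz U hU) (hpoly U hU))
  let νhom : ∀ (U : Y.Opens) (hU : IsAffineOpen U), 𝒜.presheaf.obj (Opposite.op U) →+*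
      HomogeneousLocalization.Away (Sh.deg U hU) ((Sh.presheaf.map (homOfLE le_top).op).hom z) :=
    fun U hU => (HomogeneousLocalization.fromZeroRingHom (Sh.deg U hU)
      (Submonoid.powers ((Sh.presheaf.map (homOfLE le_top).op).hom z))).comp
        (Groth.Agent.Helper13GrPoly.ιZero (Sh.deg U hU) (ι.hom.app (Opposite.op U)).hom (hι U hU))
  let νe : ∀ (U : Y.Opens) (hU : IsAffineOpen U), 𝒜.presheaf.obj (Opposite.op U) ≃+*
      HomogeneousLocalization.Away (Sh.deg U hU) ((Sh.presheaf.map (homOfLE le_top).op).hom z) :=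
    fun U hU => RingEquiv.ofBijective (νhom U hU) (hν U hU)
  let θ : ∀ (U : Y.Opens) (hU : IsAffineOpen U),
      CommRingCat.of (HomogeneousLocalization.Away (Sh.deg U hU)
        ((Sh.presheaf.map (homOfLE le_top).op).hom z)) ⟶ 𝒜.presheaf.obj (Opposite.op U) :=
    fun U hU => CommRingCat.ofHom (νe U hU).symm.toRingHom
  have hθ : ∀ (U : Y.Opens) (hU : IsAffineOpen U)
      (q : HomogeneousLocalization.Away (Sh.deg U hU) ((Sh.presheaf.map (homOfLE le_top).op).hom z))
      (k : ℕ) (a : 𝒜.presheaf.obj (Opposite.op U)),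
        q.val = Localization.mk ((ι.hom.app (Opposite.op U)).hom a *
            (Sh.presheaf.map (homOfLE le_top).op).hom z ^ k)
          ⟨(Sh.presheaf.map (homOfLE le_top).op).hom z ^ k,
            pow_mem (Submonoid.mem_powers ((Sh.presheaf.map (homOfLE le_top).op).hom z)) k⟩ →
        (θ U hU).hom q = a := by
    intro U hU q k a hq
    change (νe U hU).symm q = a
    rw [RingEquiv.symm_apply_eq]
    apply HomogeneousLocalization.val_injective
    rw [hq]
    change _ = Localization.mk ((ι.hom.app (Opposite.op U)).hom a) 1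
    rw [Localization.mk_eq_mk_iff, Localization.r_iff_exists]
    exact ⟨1, by simp [mul_comm]⟩
  obtain ⟨⟨i, hi, -⟩, hall⟩ :=
    Groth.Agent.S12137.result 𝒜 Sh ι hι z hz hpoly p chart hP θ hθ
  obtain ⟨hiso, hip⟩ := hall i hi
  have hcan : IsIso (Groth.Agent.Lib.Helper10.QAffRelSpec.can f) :=
    Groth.Agent.R2.H21.AffVB.isIso_can f
  have hfin : ∀ (U : Y.Opens), IsAffineOpen U → (𝒜.str.app (Opposite.op U)).hom.Finite :=
    fun U hU => IsFinite.finite_app f U hU
  refine ⟨Sh, P, p, chart, asIso (Groth.Agent.Lib.Helper10.QAffRelSpec.can f) ≪≫ asIso i,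
    Groth.Agent.R2.H21.PolyAlg.isGenDegOne_polyGr 𝒜 Unit,
    Groth.Agent.R2.H21.PolyAlg.isFTDeg_one_polyGr 𝒜 Unit hfin, hP, ?_⟩
  change (Groth.Agent.Lib.Helper10.QAffRelSpec.can f ≫ i) ≫ p = f
  rw [Category.assoc, hip]
  exact Groth.Agent.Lib.Helper10.QAffRelSpec.can_π f

end Groth.Agent.S4452
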