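import Groth.Statements.S4457
import Groth.Agent.S11918
import Groth.Agent.S8347
import Groth.Agent.S8355
import Groth.Agent.S0030
import Groth.Agent.S0484
import Groth.Agent.Lib.Helper23ModAbBridge
import Groth.Agent.Lib.Helper23PushAcyclic
import Groth.Agent.Lib.Helper23AffOpen2
import Groth.Agent.Lib.Helper16ClosedEmb
-- import your own Groth.Agent.* helpers here

set_option autoImplicit false
universe u
open Coherent

namespace Groth.Agent.S4457

open AlgebraicGeometry CategoryTheory in
/-- Let f : X → Y be a separated quasi-compact morphism, g : Y → Z an affine morphism and F a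
quasi-coherent O_X-module. Then for every p ≥ 0, R^p (g ∘ f)_* F is isomorphic to g_*(R^p f_* F)
(higher direct images and direct image of the underlying abelian sheaves). The source shows that the
canonical comparison map is an isomorphism; only the existence of an isomorphism is asserted here. -/
theorem result {X Y Z : Scheme.{u}} (f : X ⟶ Y) (g : Y ⟶ Z)
    [IsSeparated f] [QuasiCompact f] [IsAffineHom g] (F : X.Modules) [Coh.IsQCoh F] (p : ℕ) :
    Nonempty ((Coh.RpushAb (f ≫ g) p).obj (Coh.toAb F) ≅
      (Coh.pushAb g).obj ((Coh.RpushAb f p).obj (Coh.toAb F))) := by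
  classical
  have := Groth.Agent.S0484.result (Opens.grothendieckTopology X) X.ringCatSheaf
  have : EnoughInjectives X.Modules :=
    inferInstanceAs (EnoughInjectives (SheafOfModules.{u} X.ringCatSheaf))
  have : HasInjectiveResolutions X.Modules := inferInstance
  let T := Coh.pushAb f
  let S := Coh.pushAb g
  let A := Coh.toAb F
  have : Limits.PreservesFiniteLimits S :=
    Groth.Agent.Lib.Helper16.ClosedEmb.push_preservesFiniteLimits g.base
  have : T.PreservesInjectiveObjects :=
    Groth.Agent.Lib.Helper16.ClosedEmb.push_preservesInjectiveObjects f.base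
  have hT : ∀ Q : Sheaf (Opens.grothendieckTopology X) AddCommGrpCat.{u}, Injective Q →
      ∀ q : ℕ, 0 < q → Limits.IsZero ((S.rightDerived q).obj (T.obj Q)) := by
    intro Q hQ q hq
    obtain ⟨k, rfl⟩ := Nat.exists_eq_succ_of_ne_zero hq.ne'
    have : Injective (T.obj Q) := T.injective_obj Q
    exact Functor.isZero_rightDerived_obj_injective_succ _ k _
  obtain ⟨E, a, hfin, -, hpq⟩ := Groth.Agent.S11918.result T S hT A
  -- the `E₂`-page is concentrated in the column `p = 0`
  have hvan : ∀ p q : ℤ, p ≠ 0 → Limits.IsZero ((E.page 2 le_rfl).X (p, q)) := by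
    intro p q hp
    obtain ⟨e⟩ := hpq p q
    refine Limits.IsZero.of_iso ?_ e
    split_ifs with h
    · obtain ⟨k, hk⟩ : ∃ k : ℕ, p.toNat = k + 1 := by
        refine Nat.exists_eq_succ_of_ne_zero ?_
        have := h.1
        omega
      rw [hk]
      obtain ⟨b⟩ := Groth.Agent.Lib.Helper23.ModAbBridge.nonempty_toAb_Rpush_iso f F q.toNat
      have : Coh.IsQCoh ((Coh.Rpush f q.toNat).obj F) := Groth.Agent.S0030.result f F q.toNat
      have hz : Limits.IsZero ((Coh.RpushAb g (k + 1)).obj
          (Coh.toAb ((Coh.Rpush f q.toNat).obj F))) := by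
        open Groth.Agent.Lib.Helper23.AffVanish in
        refine isZero_Rpush_of_basis g.base Z.affineOpens Z.isBasis_affineOpens
          (ab' ((Coh.Rpush f q.toNat).obj F)) ?_ k
        intro V hV j
        exact subsingleton_HE_of_isAffineOpen (IsAffineOpen.preimage hV g) _ j
      exact Limits.IsZero.of_iso hz ((Coh.RpushAb g (k + 1)).mapIso b.symm)
    · exact Limits.isZero_zero _
  -- collapse of the spectral sequence
  let n : ℤ := (p : ℤ)
  have hdeg : ∀ m q' : ℤ, q' ≠ (fun m : ℤ => m) m →
      Limits.IsZero ((E.page 2 le_rfl).X (m - q', q')) := by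
    intro m q' hq'
    exact hvan _ _ (fun h0 => hq' (by simp only at h0 ⊢; omega))
  have hdisc : (a.filObj n).IsDiscrete := (hfin n).2
  have hexh : a.IsExhaustive n := by
    obtain ⟨c, hc⟩ := (hfin n).1
    refine ⟨fun x _ => le_top, fun b hb => ?_⟩
    have h1 := hb ⟨c, rfl⟩
    rw [hc] at h1
    exact h1
  have hst : SpSeq.StationaryAt E (n - (fun m : ℤ => m) n, (fun m : ℤ => m) n) 2 := by
    refine ⟨le_rfl, fun r' h₀ hr' => ⟨?_, ?_⟩⟩
    · have hz2 : Limits.IsZero ((E.page 2 le_rfl).X
          (((n - n, n) : ℤ × ℤ) - (r', 1 - r'))) :=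
        hvan (n - n - r') (n - (1 - r')) (by omega)
      exact ((Groth.Agent.S8355.result E 2 le_rfl _ hz2).1 r' hr').eq_of_src _ _
    · have hz2 : Limits.IsZero ((E.page 2 le_rfl).X
          (((n - n, n) : ℤ × ℤ) + (r', 1 - r'))) :=
        hvan (n - n + r') (n + (1 - r')) (by omega)
      exact ((Groth.Agent.S8355.result E 2 le_rfl _ hz2).1 r' hr').eq_of_tgt _ _
  obtain ⟨e₁⟩ := Groth.Agent.S8347.result E a 2 le_rfl (fun m : ℤ => m) hdeg n hdisc hexh hst
  obtain ⟨e₂⟩ := hpq (n - n) n
  have hn0 : (0 : ℤ) ≤ n := Int.natCast_nonneg p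
  refine ⟨eqToIso ?_ ≪≫ e₁ ≪≫ e₂ ≪≫ eqToIso ?_ ≪≫ (Functor.rightDerivedZeroIsoSelf S).app
    ((T.rightDerived p).obj A)⟩
  · simp only [n, Int.natCast_nonneg, ↓reduceIte, Int.toNat_natCast]
    rfl
  · simp [n]

end Groth.Agent.S4457
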