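import Groth.Statements.S4458
import Mathlib
import Groth.Agent.R2.H12Dev3C
import Groth.Agent.S0786
-- import your own Groth.Agent.* helpers here

set_option autoImplicit false
universe u
open Coherent

namespace Groth.Agent.S4458

open AlgebraicGeometry CategoryTheory CategoryTheory.Limits TopologicalSpace in
/-- the support only depends on the isomorphism class (helper28's argument) -/
theorem support_subset_of_iso {X : Scheme.{u}} {M N : X.Modules} (e : M ≅ N) :
    CohB1.support M ⊆ CohB1.support N := by
  intro x hx
  simp only [CohB1.support, Set.mem_ofPred_eq] at hx ⊢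
  intro hsub
  apply hx
  have e2 := (Scheme.Modules.toPresheaf X ⋙ TopCat.Presheaf.stalkFunctor Ab.{u} x).mapIso e
  exact @Equiv.subsingleton _ _ (e2.addCommGroupIsoToAddEquiv.toEquiv) hsub

open AlgebraicGeometry CategoryTheory CategoryTheory.Limits TopologicalSpace in
/-- the support of a pushforward along a closed immersion, pointwise on the image -/
theorem mem_support_of_mem_support_push {X Z : Scheme.{u}} (i : Z ⟶ X) [IsClosedImmersion i] (G₀ : Z.Modules) (z : Z)
    (h : i z ∈ CohB1.support ((Scheme.Modules.pushforward i).obj G₀)) : z ∈ CohB1.support G₀ := by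
  simp only [CohB1.support, Set.mem_ofPred_eq] at h ⊢
  intro hsub
  apply h
  have h2 : IsIso (TopCat.Presheaf.stalkPushforward Ab i.base G₀.presheaf z) :=
    TopCat.Presheaf.stalkPushforward.stalkPushforward_iso_of_isInducing _ i.isEmbedding.isInducing _ _
  have hb := ConcreteCategory.bijective_of_isIso
    (TopCat.Presheaf.stalkPushforward Ab i.base G₀.presheaf z)
  exact @Equiv.subsingleton _ _ (Equiv.ofBijective _ hb) hsub

open AlgebraicGeometry CategoryTheory CategoryTheory.Limits in
/-- Let X be a Noetherian scheme and K' a class of O_X-modules, closed under isomorphism, containing 0,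
such that in every short exact sequence of coherent modules with two terms in K' the third is in K',
and such that every coherent direct summand of a coherent module in K' is in K'. Let X' be a closed
subset such that for every irreducible closed subset Z ⊆ X' with generic point y there is a coherent
module G in K' supported in Z, annihilated by the ideal sheaf of the reduced closed subscheme Z,
whose stalk at y is nonzero. Then every coherent O_X-module with support contained in X' belongs to
K'. (The published statement asks of G only that it lie in K' and have nonzero stalk at y, remarking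
that this amounts to G having support Z; that is not sufficient: on the spectrum of the ring
k[e]/(e^2) of dual numbers over a field the free coherent modules form such a class K', containing
the structure sheaf and not the residue field. This row asks G to be supported in Z and annihilated
by the ideal sheaf of Z, which is what the published proof uses, through the stalk of G at y being a
vector space over the residue field of y.) -/
theorem result (X : Scheme.{u}) [IsNoetherian X]
    (K' : ObjectProperty X.Modules) [K'.IsClosedUnderIsomorphisms]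
    (h0 : ∀ M : X.Modules, IsZero M → K' M)
    (hex : ∀ S : ShortComplex X.Modules, S.ShortExact → Coh.IsCoh S.X₁ → Coh.IsCoh S.X₂ → Coh.IsCoh S.X₃ →
      (K' S.X₁ → K' S.X₂ → K' S.X₃) ∧ (K' S.X₁ → K' S.X₃ → K' S.X₂) ∧ (K' S.X₂ → K' S.X₃ → K' S.X₁))
    (hsum : ∀ (M N : X.Modules) (i : N ⟶ M) (r : M ⟶ N), i ≫ r = 𝟙 N → Coh.IsCoh M → Coh.IsCoh N →
      K' M → K' N)
    (X' : Set X) (hX' : IsClosed X')
    (hgen : ∀ (Z : Set X) (hZ : IsClosed Z), IsIrreducible Z → Z ⊆ X' → ∀ y : X, closure {y} = Z →
      ∃ G : X.Modules, Coh.IsCoh G ∧ K' G ∧ CohB1.support G ⊆ Z ∧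
        ClSub.KilledByIdeal (Scheme.IdealSheafData.vanishingIdeal ⟨Z, hZ⟩) G ∧ y ∈ CohB1.support G)
    (F : X.Modules) (hF : Coh.IsCoh F) (hsupp : CohB1.support F ⊆ X') : K' F := by
  have hFW : Groth.Agent.R2.H12.Dev.VanOn F ⟨X'ᶜ, hX'.isOpen_compl⟩ := fun W' hW' s =>
    Groth.Agent.Lib.Helper23.Support.eq_zero_of_disjoint_support F W'
      (fun x hx hxs => hW' hx (hsupp hxs)) s
  refine Groth.Agent.R2.H12.Dev.strong_devissage_core (fun M => K' M)
    (fun M N ⟨e⟩ h => K'.prop_of_iso e h)
    (fun S hS h1 h2 h3 => ⟨(hex S hS h1 h2 h3).2.1, (hex S hS h1 h2 h3).1, (hex S hS h1 h2 h3).2.2⟩)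
    h0 hsum ⟨X'ᶜ, hX'.isOpen_compl⟩ ?_ F hF hFW
  intro Z i _ _ hiW
  have hcl : IsClosed (Set.range i) := i.isClosedEmbedding.isClosed_range
  have hirr : IsIrreducible (Set.range i) := by
    rw [← Set.image_univ]
    exact (IrreducibleSpace.isIrreducible_univ Z).image _ i.continuous.continuousOn
  have hsub : Set.range i ⊆ X' := by
    rintro _ ⟨z, rfl⟩
    by_contra h
    have hz : z ∈ i ⁻¹ᵁ (⟨X'ᶜ, hX'.isOpen_compl⟩ : X.Opens) := h
    rw [hiW] at hz
    exact absurd hz (by simp)
  have hy : closure {i (genericPoint Z)} = Set.range i := by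
    have h1 : closure ({genericPoint Z} : Set Z) = Set.univ := (genericPoint_spec Z).def
    rw [← Set.image_singleton, i.isClosedEmbedding.closure_image_eq, h1, Set.image_univ]
  obtain ⟨G, hG, hKG, -, hkill, hyG⟩ := hgen (Set.range i) hcl hirr hsub (i (genericPoint Z)) hy
  have hle : i.ker ≤ Scheme.IdealSheafData.vanishingIdeal ⟨Set.range i, hcl⟩ :=
    Scheme.IdealSheafData.le_support_iff_le_vanishingIdeal.1 (Scheme.Hom.range_subset_ker_support i)
  have hk : ClSub.KilledByIdeal i.ker G := fun U a ha m => hkill U a (hle U ha) m
  obtain ⟨G₀, hG₀, ⟨e⟩⟩ := Groth.Agent.S0786.result i G hG hk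
  refine ⟨G₀, hG₀, ?_, K'.prop_of_iso e.symm hKG⟩
  exact mem_support_of_mem_support_push i G₀ _ (support_subset_of_iso e.symm hyG)

end Groth.Agent.S4458
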