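import Groth.Statements.S4465
import Groth.Agent.S0796
import Groth.Agent.R2.H21PropVan
import Groth.Agent.R2.H64FFGrFin
import Groth.Agent.Lib.Helper23Acyclic
import Groth.Agent.Lib.Helper23QCohExt

set_option autoImplicit false
set_option linter.style.haveILetI false
universe u
open Coherent

namespace Groth.Agent.S4465

open AlgebraicGeometry CategoryTheory CategoryTheory.Limits in
/-- Let Y be a Noetherian scheme, f : X → Y a morphism of finite type, L an invertible O_X-module ample
relative to f and F → G → H a sequence of coherent O_X-modules which is exact at G, such that the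
supports of F and of H are proper over Y. Then there is N such that for every n ≥ N the induced
sequence f_*(F(n)) → f_*(G(n)) → f_*(H(n)) of O_Y-modules is exact, where M(n) = M ⊗ L^{⊗ n}. -/
theorem result {X Y : Scheme.{u}} (f : X ⟶ Y)
    [IsNoetherian Y] [LocallyOfFiniteType f] [QuasiCompact f] (L : X.Modules) (hL : PicF.IsInvertible L)
    (hamp : RelAmple.IsRelAmple f L) (C : ShortComplex X.Modules) (hC : C.Exact)
    (h1 : Coh.IsCoh C.X₁) (h2 : Coh.IsCoh C.X₂) (h3 : Coh.IsCoh C.X₃)
    (hs1 : ClSub.IsProperOver f (CohB1.support C.X₁)) (hs3 : ClSub.IsProperOver f (CohB1.support C.X₃)) :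
    ∃ N : ℕ, ∀ n : ℕ, N ≤ n →
      (C.map (DCoh.tensorRightMod (CohB1.tensorPow L n) ⋙ Coh.push f)).Exact := by
  classical
  haveI : IsLocallyNoetherian X := LocallyOfFiniteType.isLocallyNoetherian f
  -- the kernel of `G ⟶ H` and the factorisation of `F ⟶ G` through it
  let K : X.Modules := kernel C.g
  let ι : K ⟶ C.X₂ := kernel.ι C.g
  let û : C.X₁ ⟶ K := kernel.lift C.g C.f C.zero
  haveI hû : Epi û := (ShortComplex.exact_iff_epi_kernel_lift C).1 hC
  have hK : Coh.IsCoh K := Groth.Agent.R2.H64.FFGrFin.isCoh_kernel h2 h3 C.g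
  let S₁ : ShortComplex X.Modules := ShortComplex.mk (kernel.ι û) û (kernel.condition û)
  have hS₁ : S₁.ShortExact :=
    { exact := ShortComplex.exact_kernel û
      mono_f := inferInstanceAs (Mono (kernel.ι û))
      epi_g := hû }
  have hNcoh : Coh.IsCoh (kernel û) := Groth.Agent.R2.H64.FFGrFin.isCoh_kernel h1 hK û
  have hNs : ClSub.IsProperOver f (CohB1.support (kernel û)) :=
    ((Groth.Agent.S0796.result f S₁ hS₁ hNcoh h1 hK).1 hs1).1
  obtain ⟨n₀, hn₀⟩ := Groth.Agent.R2.H21.PropVan.exists_isZero_RpushAb_twist f L hL hamp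
    (kernel û) hNcoh hNs
  refine ⟨n₀, fun n hn => ?_⟩
  have hLn : PicF.IsInvertible (CohB1.tensorPow L n) :=
    Groth.Agent.Lib.Helper23.SecTw.isInvertible_tensorPow hL n
  -- the functors
  let Φ : X.Modules ⥤ X.Modules := DCoh.tensorRightMod (CohB1.tensorPow L n)
  haveI hΦlim : PreservesFiniteLimits Φ :=
    Groth.Agent.R2.H79.TwistCalc.preservesFiniteLimits_tensorRightF (CohB1.tensorPow L n) hLn
  haveI hΦcolim : PreservesFiniteColimits Φ :=
    inferInstanceAs (PreservesFiniteColimits
      (Groth.Agent.R2.H79.TwistCalc.tensorRightF (CohB1.tensorPow L n)))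
  haveI hΦadd : Φ.Additive :=
    inferInstanceAs (Groth.Agent.R2.H79.TwistCalc.tensorRightF (CohB1.tensorPow L n)).Additive
  haveI hPlim : PreservesFiniteLimits (Coh.push f) := by
    haveI : PreservesLimitsOfSize.{0, 0} (Coh.push f) :=
      (Scheme.Modules.pullbackPushforwardAdjunction f).rightAdjoint_preservesLimits
    exact PreservesLimitsOfSize.preservesFiniteLimits _
  haveI hPadd : (Coh.push f).Additive :=
    (Scheme.Modules.pullbackPushforwardAdjunction f).right_adjoint_additive
  -- `f_* (F(n)) ⟶ f_* (K(n))` is an epimorphism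
  have hS₁' : (S₁.map Φ).ShortExact := hS₁.map_of_exact Φ
  have hepi : Epi ((Coh.push f).map (Φ.map û)) := by
    -- pass to abelian sheaves
    open Groth.Agent.Lib.Helper23.QCohLocal in
    let T : ShortComplex (Sheaf (Opens.grothendieckTopology X) AddCommGrpCat.{u}) :=
      (S₁.map Φ).map (toAbF X)
    open Groth.Agent.Lib.Helper23.QCohLocal in
    have hT : T.ShortExact := shortExact_toAbF _ hS₁'
    haveI : PreservesFiniteLimits (Coh.pushAb f) :=
      Groth.Agent.Lib.Helper16.ClosedEmb.push_preservesFiniteLimits f.base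
    letI : HasDerivedCategory.{u + 1} (Sheaf (Opens.grothendieckTopology X) AddCommGrpCat.{u}) :=
      HasDerivedCategory.standard _
    letI : HasDerivedCategory.{u + 1} (Sheaf (Opens.grothendieckTopology Y) AddCommGrpCat.{u}) :=
      HasDerivedCategory.standard _
    have hac := (Groth.Agent.Lib.Helper23Acyclic.acyclic_iff (Coh.pushAb f) T.X₁).2
      (fun q hq => hn₀ n hn q hq)
    have h1 : Epi ((Coh.pushAb f).map T.g) :=
      Groth.Agent.Lib.Helper23Acyclic.epi_of_acyclic (Coh.pushAb f) T hT hac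
    open Groth.Agent.Lib.Helper23.QCohLocal in
    have h2 : Epi ((toAbF Y).map ((Coh.push f).map (Φ.map û))) := h1
    open Groth.Agent.Lib.Helper23.QCohLocal in
    have hF : (toAbF Y).Faithful :=
      inferInstanceAs (SheafOfModules.toSheaf Y.ringCatSheaf).Faithful
    open Groth.Agent.Lib.Helper23.QCohLocal in
    have : (toAbF Y).ReflectsEpimorphisms := Functor.reflectsEpimorphisms_of_faithful _
    open Groth.Agent.Lib.Helper23.QCohLocal in
    exact (toAbF Y).epi_of_epi_map h2
  -- exactness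
  let Ψ : X.Modules ⥤ Y.Modules := Φ ⋙ Coh.push f
  haveI : PreservesFiniteLimits Ψ := comp_preservesFiniteLimits Φ (Coh.push f)
  haveI : Ψ.Additive := inferInstanceAs (Φ ⋙ Coh.push f).Additive
  let S₂ : ShortComplex X.Modules := ShortComplex.mk ι C.g (kernel.condition C.g)
  have hS₂ : S₂.Exact := ShortComplex.exact_kernel C.g
  have hS₂' : (S₂.map Ψ).Exact :=
    hS₂.map_of_mono_of_preservesKernel Ψ (inferInstanceAs (Mono (kernel.ι C.g))) inferInstance
  let φ : C.map Ψ ⟶ S₂.map Ψ :=
    { τ₁ := Ψ.map û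
      τ₂ := 𝟙 _
      τ₃ := 𝟙 _
      comm₁₂ := by
        change Ψ.map û ≫ Ψ.map ι = Ψ.map C.f ≫ 𝟙 _
        rw [Category.comp_id, ← Functor.map_comp]
        exact congrArg _ (kernel.lift_ι C.g C.f C.zero)
      comm₂₃ := by
        change 𝟙 _ ≫ Ψ.map C.g = Ψ.map C.g ≫ 𝟙 _
        rw [Category.id_comp, Category.comp_id] }
  haveI : Epi φ.τ₁ := hepi
  haveI : IsIso φ.τ₂ := inferInstanceAs (IsIso (𝟙 _))
  haveI : Mono φ.τ₃ := inferInstanceAs (Mono (𝟙 _))
  exact (ShortComplex.exact_iff_of_epi_of_isIso_of_mono φ).2 hS₂'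

end Groth.Agent.S4465
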