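import Groth.Statements.S4472
import Groth.Agent.S2348
import Groth.Agent.R2.H57BlowConn
import Groth.Agent.R2.H40SteinUni
import Groth.Agent.R2.H64SteinST0
import Groth.Agent.Lib.Helper6UniA

set_option autoImplicit false
universe u
open Coherent

namespace Groth.Agent.S4472

open AlgebraicGeometry CategoryTheory in
/-- Let A be a unibranch Noetherian local domain (a local domain whose integral closure is a local ring)
with maximal ideal m, let 𝔞 be an ideal of definition of A (𝔞 ⊆ m and m^p ⊆ 𝔞 for some p), and let b
: X → Spec A be a blowing up of Spec A in the ideal sheaf defined by 𝔞. Then the fibre of b over the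
closed point is preconnected. Its underlying space is that of Proj of the associated graded ring ⊕
𝔞^i/𝔞^(i+1), so this says that Proj is connected (possibly empty). -/
theorem result (A : Type u) [CommRing A] [IsDomain A]
    [IsNoetherianRing A] [IsLocalRing A] (hA : CAlg2.IsUnibranch A) (𝔞 : Ideal A)
    (hle : 𝔞 ≤ IsLocalRing.maximalIdeal A)
    (hpow : ∃ p : ℕ, IsLocalRing.maximalIdeal A ^ p ≤ 𝔞) {X : Scheme.{u}}
    (b : X ⟶ Spec (CommRingCat.of A))
    (hb : BlowUp.IsBlowUp b
      (Scheme.IdealSheafData.ofIdealTop (𝔞.map (Scheme.ΓSpecIso (CommRingCat.of A)).inv.hom))) :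
    PreconnectedSpace ↥(b.fiber (IsLocalRing.closedPoint A)) := by
  classical
  by_cases h0 : 𝔞 = ⊥
  · -- the blow-up in the zero ideal is empty
    subst h0
    have hbot : Scheme.IdealSheafData.ofIdealTop
        ((⊥ : Ideal A).map (Scheme.ΓSpecIso (CommRingCat.of A)).inv.hom) = ⊥ := by
      rw [Ideal.map_bot]
      exact Scheme.IdealSheafData.ext_of_isAffine (by simp)
    rw [hbot] at hb
    have hE := hb.1
    rw [Scheme.IdealSheafData.comap_bot] at hE
    haveI := Groth.Agent.R2.H57.BlowConn.isEmpty_of_isEffCartierIdeal_bot hE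
    haveI : IsEmpty ↥(b.fiber (IsLocalRing.closedPoint A)) :=
      ⟨fun z => IsEmpty.false ((b.fiberι (IsLocalRing.closedPoint A)).base z)⟩
    exact ⟨Set.subsingleton_of_subsingleton.isPreconnected⟩
  · -- main case
    have hne : Scheme.IdealSheafData.ofIdealTop
        (𝔞.map (Scheme.ΓSpecIso (CommRingCat.of A)).inv.hom) ≠ ⊥ := by
      intro h
      apply h0
      have h1 := congrArg (fun J : (Spec (CommRingCat.of A)).IdealSheafData =>
        J.ideal ⟨⊤, isAffineOpen_top _⟩) h
      simp only [Scheme.IdealSheafData.ofIdealTop_ideal] at h1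
      have h2 : 𝔞.map (Scheme.ΓSpecIso (CommRingCat.of A)).inv.hom = ⊥ := by
        simpa using h1
      have hinj : Function.Injective (Scheme.ΓSpecIso (CommRingCat.of A)).inv.hom :=
        (ConcreteCategory.bijective_of_isIso (Scheme.ΓSpecIso (CommRingCat.of A)).inv).1
      exact (Ideal.map_eq_bot_iff_of_injective hinj).mp h2
    haveI : IsProper b := Groth.Agent.R2.H57.BlowConn.isProper_of_isBlowUp 𝔞
      (IsNoetherian.noetherian 𝔞) b hb
    obtain ⟨hint, hgen, hbij⟩ := Groth.Agent.S2348.result _ hne b hb
    haveI := hint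
    have hdom : b.base (genericPoint X) ⤳ genericPoint (Spec (CommRingCat.of A)) :=
      specializes_of_eq hgen
    have hsurj := Groth.Agent.R2.H57.BlowConn.stalkToFunctionField_surjective b hgen hbij hdom
    have hy : CAlg2.IsUnibranch
        ((Spec (CommRingCat.of A)).presheaf.stalk (IsLocalRing.closedPoint A)) :=
      Groth.Agent.Lib.Helper6.Uni.isUnibranch_of_ringEquiv
        (stalkClosedPointIso (CommRingCat.of A)).commRingCatIsoToRingEquiv.symm hA
    have hconn := Groth.Agent.R2.H40.SteinUni.connectedSpace_fiber_of_isUnibranch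
      Groth.Agent.R2.H64.SteinST0.st0 b hdom
      (fun x _ => ⟨0, by
        obtain ⟨w, hw⟩ := hsurj x
        exact ⟨w, by rw [hw]; simp⟩⟩)
      (IsLocalRing.closedPoint A) hy
    exact hconn.toPreconnectedSpace

end Groth.Agent.S4472
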