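import Groth.Statements.S4474
import Groth.Agent.S2325
import Groth.Agent.R2.H55AmpleRel
import Groth.Agent.Lib.Helper23CounitEpi
import Groth.Agent.Lib.Helper23RestrTensor
import Groth.Agent.Lib.Helper22NA9

set_option autoImplicit false
universe u
open Coherent

namespace Groth.Agent.S4474

open AlgebraicGeometry CategoryTheory in
/-- Let Y be a Noetherian scheme, f : X → Y a proper morphism, L an invertible O_X-module which is ample
relative to f, and F a coherent O_X-module. Then there is an integer N such that for every n ≥ N the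
canonical morphism f^* f_* (F(n)) → F(n), the counit of the adjunction between f^* and f_*, is an
epimorphism, where F(n) = F ⊗ L^{⊗ n}. -/
theorem result {X Y : Scheme.{u}} (f : X ⟶ Y) [IsNoetherian Y] [IsProper f]
    (L : X.Modules) (hL : PicF.IsInvertible L) (hamp : RelAmple.IsRelAmple f L) (F : X.Modules)
    (hF : Coh.IsCoh F) :
    ∃ N : ℕ, ∀ n : ℕ, N ≤ n →
      Epi ((Scheme.Modules.pullbackPushforwardAdjunction f).counit.app
        (CohB1.tensorMod F (CohB1.tensorPow L n))) := by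
  classical
  obtain ⟨m, W, hW, hcov⟩ :=
    Groth.Agent.Lib.Helper22.NA9.exists_fin_affine_cover (⊤ : Y.Opens) isCompact_univ
  have h : ∀ k : Fin m, ∃ n₀ : ℕ, ∀ n, n₀ ≤ n → Curv2.IsGloballyGenerated
      (CohB1.tensorMod (F.restrict (f ⁻¹ᵁ W k).ι)
        (CohB1.tensorPow (L.restrict (f ⁻¹ᵁ W k).ι) n)) := fun k => by
    have hLk : CohB1.IsAmple (L.restrict (f ⁻¹ᵁ W k).ι) := hamp.2 ⟨W k, hW k⟩
    haveI : CompactSpace ((f ⁻¹ᵁ W k : X.Opens) : Scheme.{u}) := hLk.2.1
    haveI : IsAffine ((W k : Y.Opens) : Scheme.{u}) := hW k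
    haveI : ((f ⁻¹ᵁ W k : X.Opens) : Scheme.{u}).IsSeparated :=
      (HasAffineProperty.iff_of_isAffine (P := @IsSeparated) (f := f ∣_ W k)).mp inferInstance
    exact Groth.Agent.S2325.result _ (L.restrict (f ⁻¹ᵁ W k).ι) hLk (F.restrict (f ⁻¹ᵁ W k).ι)
      (Groth.Agent.R2.H55.AmpleRel.isCoh_restrict _ F hF)
  choose n₀ hn₀ using h
  refine ⟨Finset.univ.sup n₀, fun n hn => ?_⟩
  refine Groth.Agent.Lib.Helper23.CounitEpi.epi_counit_of_isGloballyGenerated f _ (fun x => ?_)
  have hx : f x ∈ (⨆ k, W k : Y.Opens) := by rw [hcov]; trivial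
  obtain ⟨k, hk⟩ := TopologicalSpace.Opens.mem_iSup.1 hx
  refine ⟨W k, hk, ?_⟩
  obtain ⟨iso⟩ := Groth.Agent.Lib.Helper23.RestrTensor.nonempty_restrict_twist_iso F L hL
    (f ⁻¹ᵁ W k) n
  exact Groth.Agent.Lib.Helper23.RestrTensor.isGloballyGenerated_of_iso iso.symm
    (hn₀ k n (le_trans (Finset.le_sup (Finset.mem_univ k)) hn))

end Groth.Agent.S4474
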