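import Groth.Statements.S4476
import Groth.Agent.R2.H21ProjUnit
import Groth.Agent.R2.H21NearLift
import Groth.Agent.R2.H21FibreMono
set_option backward.isDefEq.respectTransparency.types false
set_option linter.style.haveILetI false

set_option autoImplicit false
universe u
attribute [local instance] HasDerivedCategory.standard
open Coherent

namespace Groth.Agent.S4476

open AlgebraicGeometry CategoryTheory Groth.Agent.R2.H21.HomDual Groth.Agent.R2.H21.DualPull
  Groth.Agent.R2.H21.ProjUnit Groth.Agent.R2.H21.NearLift Groth.Agent.R2.H21.FibreMono in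
/-- a finite locally free module on the source of a flat morphism is flat over the base -/
theorem isFlatOver_of_isFinLocFree {X S : Scheme.{u}} (f : X ⟶ S) [Flat f] (G : X.Modules)
    (hG : FlatMod.IsFinLocFree G) : FlatMod.IsFlatOver f G := by
  intro x
  have h1 : Module.Flat (X.presheaf.stalk x) (G.presheaf.stalk x) := isFlat_of_isFinLocFree G hG x
  have h2 : (f.stalkMap x).hom.Flat := Flat.stalkMap f x
  letI : Algebra (S.presheaf.stalk (f.base x)) (X.presheaf.stalk x) := (f.stalkMap x).hom.toAlgebra
  letI := FlatMod.moduleStalkOver f G x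
  haveI : IsScalarTower (S.presheaf.stalk (f.base x)) (X.presheaf.stalk x) (G.presheaf.stalk x) :=
    ⟨fun r s m => by
      change ((f.stalkMap x).hom r * s) • m = (f.stalkMap x).hom r • (s • m); rw [mul_smul]⟩
  haveI : Module.Flat (S.presheaf.stalk (f.base x)) (X.presheaf.stalk x) := h2
  exact Module.Flat.trans (S.presheaf.stalk (f.base x)) (X.presheaf.stalk x) (G.presheaf.stalk x)

open AlgebraicGeometry CategoryTheory Groth.Agent.R2.H21.HomDual Groth.Agent.R2.H21.DualPull
  Groth.Agent.R2.H21.ProjUnit Groth.Agent.R2.H21.NearLift Groth.Agent.R2.H21.FibreMono in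
/-- Over a local base. Let A be a Noetherian local ring with closed point y, X a scheme proper and flat
over Spec A, F and G finite locally free O_X-modules and F_y, G_y their restrictions (module
pullbacks) to the closed fibre X_y. Assume that the internal Hom functor Hom(F_y, −) exists as the
right adjoint of F_y ⊗ − and that H^1(X_y, Hom(F_y, G_y)) = 0. Then every morphism u₀ : F_y → G_y is
the restriction to X_y of a morphism u : F → G; moreover for every such u, if u₀ is a monomorphism
(resp. an epimorphism) then u is a monomorphism (resp. an epimorphism). (Over a general locally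
Noetherian base the published statements give u on the inverse image of a neighbourhood of y; over
the spectrum of a local ring that neighbourhood is the whole base.) -/
theorem result (A : Type u) [CommRing A] [IsNoetherianRing A]
    [IsLocalRing A] (X : Scheme.{u}) [X.Over (Spec (CommRingCat.of A))]
    [IsProper (X ↘ Spec (CommRingCat.of A))] [Flat (X ↘ Spec (CommRingCat.of A))]
    (F G : X.Modules) (hF : FlatMod.IsFinLocFree F) (hG : FlatMod.IsFinLocFree G)
    [DCoh.HasSheafHom (CohIII.fiberMod (X ↘ Spec (CommRingCat.of A)) F (IsLocalRing.closedPoint A))]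
    (h1 : Subsingleton (Coh.HH ((X ↘ Spec (CommRingCat.of A)).fiber (IsLocalRing.closedPoint A))
      ((DCoh.sheafHom (CohIII.fiberMod (X ↘ Spec (CommRingCat.of A)) F (IsLocalRing.closedPoint A))).obj
        (CohIII.fiberMod (X ↘ Spec (CommRingCat.of A)) G (IsLocalRing.closedPoint A))) 1))
    (u₀ : CohIII.fiberMod (X ↘ Spec (CommRingCat.of A)) F (IsLocalRing.closedPoint A) ⟶
      CohIII.fiberMod (X ↘ Spec (CommRingCat.of A)) G (IsLocalRing.closedPoint A)) :
    (∃ u : F ⟶ G,
      (Scheme.Modules.pullback ((X ↘ Spec (CommRingCat.of A)).fiberι (IsLocalRing.closedPoint A))).map u = u₀) ∧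
    ∀ u : F ⟶ G,
      (Scheme.Modules.pullback ((X ↘ Spec (CommRingCat.of A)).fiberι (IsLocalRing.closedPoint A))).map u = u₀ →
        (Mono u₀ → Mono u) ∧ (Epi u₀ → Epi u) := by
  have hD := isFinLocFree_dualMod F hF
  have hGcoh : Coh.IsCoh G := isCoh_of_isFinLocFree G hG
  have hFcoh : Coh.IsCoh F := isCoh_of_isFinLocFree F hF
  have hNcoh : Coh.IsCoh ((tRX (dualMod F)).obj G) := isCoh_tensor G (dualMod F) hGcoh hD
  have hGfl : FlatMod.IsFlatOver (X ↘ Spec (CommRingCat.of A)) G :=
    isFlatOver_of_isFinLocFree _ G hG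
  have hNfl : FlatMod.IsFlatOver (X ↘ Spec (CommRingCat.of A)) ((tRX (dualMod F)).obj G) :=
    isFlatOver_tensor _ G (dualMod F) hGfl hD
  have hvan : Subsingleton (CohIII.fiberH (X ↘ Spec (CommRingCat.of A)) ((tRX (dualMod F)).obj G)
      (IsLocalRing.closedPoint A) 1) :=
    (Groth.Agent.R2.H16.CbcFIGlob.HHcongr
      (pullTensorDualIso ((X ↘ Spec (CommRingCat.of A)).fiberι (IsLocalRing.closedPoint A)) F G hF)
      1).injective.subsingleton
  have hsurj := surjective_unit_closedFibre A ((tRX (dualMod F)).obj G) hNcoh hNfl hvan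
  refine ⟨exists_pullback_map_eq _ F G hF hsurj u₀, fun u hu => ⟨fun hm => ?_, fun he => ?_⟩⟩
  · subst hu
    haveI := hm
    exact mono_of_mono_closedFibre (X ↘ Spec (CommRingCat.of A)) hFcoh hGcoh hGfl u
  · subst hu
    haveI := he
    haveI : F.IsQuasicoherent := hFcoh.1
    haveI : G.IsQuasicoherent := hGcoh.1
    exact epi_of_epi_closedFibre (X ↘ Spec (CommRingCat.of A))
      (X ↘ Spec (CommRingCat.of A)).isClosedMap hGcoh.2 u

end Groth.Agent.S4476
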