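import Groth.Statements.S4484
import Groth.Agent.R2.H40SteinMax
import Groth.Agent.R2.H40SteinUni
import Groth.Agent.R2.H64SteinST0
import Groth.Agent.R2.H57MaxSep

set_option autoImplicit false
universe u
open Coherent

namespace Groth.Agent.S4484

open AlgebraicGeometry CategoryTheory in
/-- Let X and Y be locally Noetherian integral schemes and f : X → Y a proper dominant morphism; regard
the function field R(X) as an extension of R(Y) through f. Suppose that the algebraic closure of
R(Y) in R(X) has finite separable degree n over R(Y). Then for every point y of Y whose local ring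
is unibranch, the fibre X_y has finitely many, and at most n, connected components. -/
theorem result {X Y : Scheme.{u}} [IsIntegral X]
    [IsIntegral Y] [IsLocallyNoetherian X] [IsLocallyNoetherian Y] (f : X ⟶ Y) [IsProper f]
    (hdom : f.base (genericPoint X) ⤳ genericPoint Y) [Algebra Y.functionField X.functionField]
    (halg : algebraMap Y.functionField X.functionField = CohIII.stalkToFunctionField f (genericPoint Y) hdom)
    (n : ℕ) (hn0 : 0 < n)
    (hn : Field.finSepDegree Y.functionField ↥(algebraicClosure Y.functionField X.functionField) = n)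
    (y : Y) (hy : CAlg2.IsUnibranch (Y.presheaf.stalk y)) :
    Finite (_root_.ConnectedComponents ↥(f.fiber y)) ∧
      Nat.card (_root_.ConnectedComponents ↥(f.fiber y)) ≤ n := by
  classical
  have hgen : f.base (genericPoint X) ⤳ y := hdom.trans (genericPoint_specializes y)
  have h1 := Groth.Agent.R2.H40.SteinMax.card_connectedComponents_fiber_le
    Groth.Agent.R2.H64.SteinST0.st0 f y hgen
  letI algAL : Algebra (Y.presheaf.stalk y) X.functionField :=
    (CohIII.stalkToFunctionField f y hgen).toAlgebra
  haveI : IsScalarTower (Y.presheaf.stalk y) Y.functionField X.functionField :=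
    IsScalarTower.of_algebraMap_eq fun a => by
      rw [halg]
      exact congrFun (congrArg DFunLike.coe
        (Groth.Agent.R2.H40.SteinUni.stalkToFunctionField_eq_comp f hdom y hgen)) a
  have hloc : IsLocalRing (integralClosure (Y.presheaf.stalk y) Y.functionField) :=
    Groth.Agent.R2.H40.SteinUni.isLocalRing_integralClosure_of_isUnibranch _ _ hy
  obtain ⟨hfin, hcard⟩ := Groth.Agent.R2.H57.MaxSep.card_maximalSpectrum_le_finSepDegree
    (Y.presheaf.stalk y) Y.functionField X.functionField hloc n hn0 hn
  -- transport along the identification of the subring with the subalgebra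
  let e : ↥(CohIII.integralClosureStalk f y hgen) ≃+*
      ↥(integralClosure (Y.presheaf.stalk y) X.functionField) :=
    { toFun := fun x => ⟨x.1, x.2⟩
      invFun := fun x => ⟨x.1, x.2⟩
      left_inv := fun _ => rfl
      right_inv := fun _ => rfl
      map_mul' := fun _ _ => rfl
      map_add' := fun _ _ => rfl }
  let E : MaximalSpectrum ↥(CohIII.integralClosureStalk f y hgen) ≃
      MaximalSpectrum ↥(integralClosure (Y.presheaf.stalk y) X.functionField) :=
    { toFun := fun m => ⟨m.asIdeal.comap e.symm.toRingHom,
        haveI := m.isMaximal; Ideal.comap_isMaximal_of_equiv e.symm⟩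
      invFun := fun m => ⟨m.asIdeal.comap e.toRingHom,
        haveI := m.isMaximal; Ideal.comap_isMaximal_of_equiv e⟩
      left_inv := fun m => by
        apply MaximalSpectrum.ext
        change Ideal.comap e.toRingHom (Ideal.comap e.symm.toRingHom m.asIdeal) = m.asIdeal
        ext x
        rw [Ideal.mem_comap, Ideal.mem_comap]
        change e.symm (e x) ∈ _ ↔ _
        rw [RingEquiv.symm_apply_apply]
      right_inv := fun m => by
        apply MaximalSpectrum.ext
        change Ideal.comap e.symm.toRingHom (Ideal.comap e.toRingHom m.asIdeal) = m.asIdeal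
        ext x
        rw [Ideal.mem_comap, Ideal.mem_comap]
        change e (e.symm x) ∈ _ ↔ _
        rw [RingEquiv.apply_symm_apply] }
  have h2 : Cardinal.mk (_root_.ConnectedComponents ↥(f.fiber y)) ≤
      Cardinal.mk (MaximalSpectrum ↥(integralClosure (Y.presheaf.stalk y) X.functionField)) :=
    h1.trans (Cardinal.mk_congr E).le
  have h3 : Cardinal.mk (MaximalSpectrum ↥(integralClosure (Y.presheaf.stalk y) X.functionField)) <
      Cardinal.aleph0 := Cardinal.lt_aleph0_iff_finite.mpr hfin
  have h4 : Finite (_root_.ConnectedComponents ↥(f.fiber y)) :=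
    Cardinal.lt_aleph0_iff_finite.mp (h2.trans_lt h3)
  refine ⟨h4, ?_⟩
  exact (Cardinal.toNat_le_toNat h2 h3).trans hcard

end Groth.Agent.S4484
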