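import Groth.Statements.S4487
import Groth.Agent.S4486
import Groth.Agent.S4485
import Groth.Agent.S2440
import Groth.Agent.Lib.Helper13FlatCx
import Mathlib

set_option autoImplicit false
universe u
open FlatCx

namespace Groth.Agent.S4487

section Topo
variable {A : Type u} [CommRing A]

/-- the map `Spec (A/𝔭)_f → Spec A` -/
noncomputable abbrev psi (𝔭 : Ideal A) (f : A)
    (y : PrimeSpectrum (Localization.Away (Ideal.Quotient.mk 𝔭 f))) : PrimeSpectrum A :=
  PrimeSpectrum.comap (algebraMap A (A ⧸ 𝔭))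
    (PrimeSpectrum.comap (algebraMap (A ⧸ 𝔭) (Localization.Away (Ideal.Quotient.mk 𝔭 f))) y)

theorem psi_isInducing (𝔭 : Ideal A) (f : A) : Topology.IsInducing (psi 𝔭 f) := by
  have h1 : Topology.IsInducing (PrimeSpectrum.comap (algebraMap A (A ⧸ 𝔭))) :=
    PrimeSpectrum.comap_isInducing_of_surjective _ _ Ideal.Quotient.mk_surjective
  have h2 : Topology.IsInducing (PrimeSpectrum.comap
      (algebraMap (A ⧸ 𝔭) (Localization.Away (Ideal.Quotient.mk 𝔭 f)))) :=
    PrimeSpectrum.localization_comap_isInducing _ (Submonoid.powers (Ideal.Quotient.mk 𝔭 f))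
  exact h1.comp h2

theorem mem_range_psi (𝔭 : Ideal A) (f : A) (x : PrimeSpectrum A) (h1 : 𝔭 ≤ x.asIdeal)
    (h2 : f ∉ x.asIdeal) : ∃ y, psi 𝔭 f y = x := by
  have hx : x ∈ Set.range (PrimeSpectrum.comap (algebraMap A (A ⧸ 𝔭))) := by
    rw [range_comap_of_surjective _ (algebraMap A (A ⧸ 𝔭)) Ideal.Quotient.mk_surjective]
    rw [PrimeSpectrum.mem_zeroLocus]
    intro a ha
    apply h1
    have : (Ideal.Quotient.mk 𝔭) a = 0 := ha
    exact Ideal.Quotient.eq_zero_iff_mem.mp this
  obtain ⟨x', rfl⟩ := hx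
  have hx' : x' ∈ Set.range (PrimeSpectrum.comap
      (algebraMap (A ⧸ 𝔭) (Localization.Away (Ideal.Quotient.mk 𝔭 f)))) := by
    rw [PrimeSpectrum.localization_away_comap_range _ (Ideal.Quotient.mk 𝔭 f)]
    exact h2
  obtain ⟨y, rfl⟩ := hx'
  exact ⟨y, rfl⟩

/-- existence of an element in all other minimal primes but not in `𝔭` -/
theorem exists_g [IsNoetherianRing A] (𝔭 : Ideal A) (h𝔭 : 𝔭 ∈ minimalPrimes A) :
    ∃ g : A, g ∉ 𝔭 ∧ ∀ 𝔮 ∈ minimalPrimes A, g ∉ 𝔮 → 𝔮 = 𝔭 := by
  classical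
  have hfin : (minimalPrimes A).Finite := minimalPrimes.finite_of_isNoetherianRing A
  have hprime : 𝔭.IsPrime := h𝔭.1.1
  let s : Finset (Ideal A) := hfin.toFinset.erase 𝔭
  by_contra hcon
  push Not at hcon
  have hle : s.inf id ≤ 𝔭 := by
    intro g hg
    by_contra hg𝔭
    obtain ⟨𝔮, h𝔮, hg𝔮, hne⟩ := hcon g hg𝔭
    have : 𝔮 ∈ s := by
      simp only [s, Finset.mem_erase, Set.Finite.mem_toFinset]
      exact ⟨hne, h𝔮⟩
    have h3 : s.inf id ≤ 𝔮 := Finset.inf_le (f := id) this
    exact hg𝔮 (h3 hg)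
  obtain ⟨𝔮, h𝔮s, h𝔮le⟩ := (Ideal.IsPrime.inf_le' hprime).mp hle
  simp only [s, Finset.mem_erase, Set.Finite.mem_toFinset] at h𝔮s
  have h4 : 𝔭 ≤ 𝔮 := h𝔭.2 ⟨h𝔮s.2.1.1, bot_le⟩ h𝔮le
  exact h𝔮s.1 (le_antisymm h𝔮le h4)

end Topo

section Helpers
open CategoryTheory CategoryTheory.Limits MonoidalCategory TensorProduct Groth.Agent.Lib.Helper3

variable {A : Type u} [CommRing A]

/-- `T_n(F) ≅ H_n(P) ⊗ F` for flat `F`. -/
theorem finite_T_of_flat (P : ChainComplex (ModuleCat.{u} A) ℤ) (n : ℤ)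
    (hfg : Module.Finite A (CohIII.T P n (ModuleCat.of A A)))
    (F : ModuleCat.{u} A) [Module.Flat A F] [Module.Finite A F] :
    Module.Finite A (CohIII.T P n F) := by
  have h1 : Module.Finite A (P.homology n) := Module.Finite.equiv (TUnitIso P n).toLinearEquiv
  let e : CohIII.T P n F ≅ (tensorRight F).obj (P.homology n) :=
    ShortComplex.mapHomologyIso (P.sc n) (tensorRight F)
  have h2 : Module.Finite A ((tensorRight F).obj (P.homology n) : ModuleCat.{u} A) :=
    inferInstanceAs (Module.Finite A ((P.homology n) ⊗[A] F))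
  exact Module.Finite.equiv e.symm.toLinearEquiv

theorem finite_of_exact {X Y Z : Type u} [AddCommGroup X] [Module A X] [AddCommGroup Y]
    [Module A Y] [AddCommGroup Z] [Module A Z] (g : X →ₗ[A] Y) (d : Y →ₗ[A] Z)
    (h : Function.Exact g d) [Module.Finite A X] [IsNoetherian A Z] : Module.Finite A Y := by
  have h1 : Module.Finite A (LinearMap.ker d) := by
    rw [LinearMap.exact_iff.mp h]
    exact Module.Finite.range g
  have h2 : Module.Finite A (Y ⧸ LinearMap.ker d) :=
    Module.Finite.equiv d.quotKerEquivRange.symm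
  exact Module.Finite.of_submodule_quotient (LinearMap.ker d)

/-- the short exact sequence `ker f → F → M` for a surjection `f` -/
noncomputable def kerSC {F M : Type u} [AddCommGroup F] [Module A F] [AddCommGroup M] [Module A M]
    (f : F →ₗ[A] M) : ShortComplex (ModuleCat.{u} A) :=
  ShortComplex.mk (ModuleCat.ofHom (LinearMap.ker f).subtype) (ModuleCat.ofHom f) (by
    ext x
    exact x.2)

theorem kerSC_shortExact {F M : Type u} [AddCommGroup F] [Module A F] [AddCommGroup M] [Module A M]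
    (f : F →ₗ[A] M) (hf : Function.Surjective f) : (kerSC f).ShortExact := by
  have : Mono (kerSC f).f := (ModuleCat.mono_iff_injective _).mpr (Submodule.subtype_injective _)
  have : Epi (kerSC f).g := (ModuleCat.epi_iff_surjective _).mpr hf
  refine ShortComplex.ShortExact.mk ?_
  rw [ShortComplex.ShortExact.moduleCat_exact_iff_function_exact]
  exact LinearMap.exact_subtype_ker_map f

theorem finite_T_aux [IsNoetherianRing A] (P : ChainComplex (ModuleCat.{u} A) ℤ)
    (hP : ∀ i, Module.Flat A (P.X i)) (i₀ : ℤ) (hb : ∀ i < i₀, IsZero (P.X i))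
    (hfg : ∀ n : ℤ, Module.Finite A (CohIII.T P n (ModuleCat.of A A))) :
    ∀ k : ℕ, ∀ n : ℤ, n < i₀ + k → ∀ (M : ModuleCat.{u} A), Module.Finite A M →
      Module.Finite A (CohIII.T P n M) := by
  intro k
  induction k with
  | zero =>
    intro n hn M hM
    have hz : IsZero (P.X n) := hb n (by simpa using hn)
    have hz' : IsZero (P.opcycles n) := IsZero.of_epi (P.pOpcycles n) hz
    have : Subsingleton (P.opcycles n) := ModuleCat.subsingleton_of_isZero hz'
    have h : Module.Finite A (P.opcycles n ⊗ M : ModuleCat.{u} A) :=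
      inferInstanceAs (Module.Finite A ((P.opcycles n) ⊗[A] M))
    exact Module.Finite.of_injective (jT P n M).hom
      ((ModuleCat.mono_iff_injective _).mp inferInstance)
  | succ k ih =>
    intro n hn M hM
    by_cases hlt : n < i₀ + k
    · exact ih n hlt M hM
    · obtain ⟨r, f, hf⟩ := Module.Finite.exists_fin' A M
      have hS := kerSC_shortExact f hf
      have hT := tensorSC_shortExact P hP (kerSC f) hS
      have hex := hT.homology_exact₃ n (n - 1) (by simp)
      rw [ShortComplex.ShortExact.moduleCat_exact_iff_function_exact] at hex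
      -- the three modules
      have hF : Module.Finite A (CohIII.T P n (ModuleCat.of A (Fin r → A))) :=
        finite_T_of_flat P n (hfg n) (ModuleCat.of A (Fin r → A))
      have hK : Module.Finite A (CohIII.T P (n - 1) (ModuleCat.of A (LinearMap.ker f))) :=
        ih (n - 1) (by push_cast at hn; omega) _ (by
          show Module.Finite A (LinearMap.ker f)
          infer_instance)
      have hNoeth : IsNoetherian A (CohIII.T P (n - 1) (ModuleCat.of A (LinearMap.ker f))) :=
        isNoetherian_of_isNoetherianRing_of_finite A _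
      exact @finite_of_exact A _ _ _ _ _ _ _ _ _ _ _ _ hex hF hNoeth

theorem finite_T [IsNoetherianRing A] (P : ChainComplex (ModuleCat.{u} A) ℤ)
    (hP : ∀ i, Module.Flat A (P.X i)) (i₀ : ℤ) (hb : ∀ i < i₀, IsZero (P.X i))
    (hfg : ∀ n : ℤ, Module.Finite A (CohIII.T P n (ModuleCat.of A A))) (n : ℤ)
    (M : ModuleCat.{u} A) (hM : Module.Finite A M) : Module.Finite A (CohIII.T P n M) :=
  finite_T_aux P hP i₀ hb hfg (n - i₀ + 1).toNat n (by omega) M hM

theorem finite_of_finite_restrictScalars {B : Type u} [CommRing B] [Algebra A B]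
    (M : ModuleCat.{u} B)
    (h : Module.Finite A ((ModuleCat.restrictScalars (algebraMap A B)).obj M)) :
    Module.Finite B M := by
  letI : Module A M := Module.compHom M (algebraMap A B)
  haveI : IsScalarTower A B M := ⟨fun a b m => by
    show (a • b) • m = algebraMap A B a • (b • m)
    rw [Algebra.smul_def, mul_smul]⟩
  haveI : Module.Finite A M := h
  exact Module.Finite.of_restrictScalars_finite A B M

/-- Step 1: the domain case applied to `A ⧸ 𝔭`. -/
theorem step1 [IsNoetherianRing A] (P : ChainComplex (ModuleCat.{u} A) ℤ)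
    (hP : ∀ i, Module.Flat A (P.X i)) (i₀ : ℤ) (hb : ∀ i < i₀, IsZero (P.X i))
    (hfg : ∀ n : ℤ, Module.Finite A (CohIII.T P n (ModuleCat.of A A))) (N : ℤ)
    (𝔭 : Ideal A) [𝔭.IsPrime] :
    ∃ f : A, f ∉ 𝔭 ∧ ∀ p ≤ N, IsLocallyConstant
      (fun y : PrimeSpectrum (Localization.Away (Ideal.Quotient.mk 𝔭 f)) =>
        CohIII.dRank P p (PrimeSpectrum.comap (algebraMap A (A ⧸ 𝔭))
          (PrimeSpectrum.comap (algebraMap (A ⧸ 𝔭) (Localization.Away (Ideal.Quotient.mk 𝔭 f))) y))) := by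
  let B := A ⧸ 𝔭
  let K := CohIII.bcCx (algebraMap A B) P
  have hK : ∀ i, Module.Flat B (K.X i) := flat_bcCx_X B P hP
  have hbK : ∀ i < i₀, IsZero (K.X i) := fun i hi =>
    (ModuleCat.extendScalars (algebraMap A B)).map_isZero (hb i hi)
  have hfinK : ∀ n : ℤ, Module.Finite B (K.homology n) := by
    intro n
    obtain ⟨e⟩ := Groth.Agent.Helper13FlatCx.nonempty_restrict_homology_iso A B P n
    have h1 : Module.Finite A (CohIII.T P n (ModuleCat.of A B)) :=
      finite_T P hP i₀ hb hfg n _ (by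
        show Module.Finite A (A ⧸ 𝔭)
        infer_instance)
    have h2 : Module.Finite A ((ModuleCat.restrictScalars (algebraMap A B)).obj (K.homology n)) :=
      Module.Finite.equiv e.symm.toLinearEquiv
    exact finite_of_finite_restrictScalars _ h2
  have hfpK : ∀ n : ℤ, Module.FinitePresentation B (CohIII.T K n (ModuleCat.of B B)) := by
    intro n
    have := hfinK n
    have : Module.Finite B (CohIII.T K n (ModuleCat.of B B)) :=
      Module.Finite.equiv (TUnitIso K n).symm.toLinearEquiv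
    exact Module.finitePresentation_of_finite B _
  obtain ⟨f', hf'0, hf'⟩ := Groth.Agent.S4486.result K hK i₀ hbK hfpK N
  obtain ⟨f, rfl⟩ := Ideal.Quotient.mk_surjective f'
  refine ⟨f, fun hf => hf'0 (Ideal.Quotient.eq_zero_iff_mem.mpr hf), ?_⟩
  intro p hp
  let B' := Localization.Away (Ideal.Quotient.mk 𝔭 f)
  let K' := CohIII.bcCx (algebraMap B B') K
  have hK' : ∀ i, Module.Flat B' (K'.X i) := flat_bcCx_X B' K hK
  have hB'noeth : IsNoetherianRing B' :=
    IsLocalization.isNoetherianRing (Submonoid.powers (Ideal.Quotient.mk 𝔭 f)) B' inferInstance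
  have hfp' : Module.FinitePresentation B' (CohIII.T K' p (ModuleCat.of B' B')) := by
    obtain ⟨e⟩ := Groth.Agent.S4486.nonempty_bcHomologyEquiv_of_flat B' K p
    have := hfinK p
    have h1 : Module.Finite B' (K'.homology p) := Module.Finite.equiv e.symm
    have : Module.Finite B' (CohIII.T K' p (ModuleCat.of B' B')) :=
      Module.Finite.equiv (TUnitIso K' p).symm.toLinearEquiv
    exact Module.finitePresentation_of_finite B' _
  have hlc := Groth.Agent.S4485.result K' hK' p (hf' p hp) hfp'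
  have heq : ∀ y : PrimeSpectrum B', CohIII.dRank P p (PrimeSpectrum.comap (algebraMap A B)
      (PrimeSpectrum.comap (algebraMap B B') y)) = CohIII.dRank K' p y := by
    intro y
    rw [Groth.Agent.S2440.result K hK p y, Groth.Agent.S2440.result P hP p]
  have hfun : (fun y : PrimeSpectrum B' => CohIII.dRank P p (PrimeSpectrum.comap (algebraMap A B)
      (PrimeSpectrum.comap (algebraMap B B') y))) = CohIII.dRank K' p := funext heq
  rw [hfun]
  exact hlc


/-- Step 2: around a minimal prime. -/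
theorem step2 [IsNoetherianRing A] (P : ChainComplex (ModuleCat.{u} A) ℤ)
    (hP : ∀ i, Module.Flat A (P.X i)) (i₀ : ℤ) (hb : ∀ i < i₀, IsZero (P.X i))
    (hfg : ∀ n : ℤ, Module.Finite A (CohIII.T P n (ModuleCat.of A A))) (N : ℤ)
    (𝔭 : Ideal A) (h𝔭 : 𝔭 ∈ minimalPrimes A) :
    ∃ h : A, h ∉ 𝔭 ∧ ∀ p ≤ N, ∀ x : PrimeSpectrum A, h ∉ x.asIdeal →
      ∃ W : Set (PrimeSpectrum A), IsOpen W ∧ x ∈ W ∧
        ∀ x' ∈ W, h ∉ x'.asIdeal → CohIII.dRank P p x' = CohIII.dRank P p x := by
  haveI hprime : 𝔭.IsPrime := h𝔭.1.1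
  obtain ⟨f, hf𝔭, hf⟩ := step1 P hP i₀ hb hfg N 𝔭
  obtain ⟨g, hg𝔭, hg⟩ := exists_g 𝔭 h𝔭
  refine ⟨f * g, fun hmem => (hprime.mem_or_mem hmem).elim hf𝔭 hg𝔭, ?_⟩
  -- points of `D(fg)` lie in the range of `psi`
  have hrange : ∀ x : PrimeSpectrum A, f * g ∉ x.asIdeal → ∃ y, psi 𝔭 f y = x := by
    intro x hx
    have hfx : f ∉ x.asIdeal := fun h => hx (x.asIdeal.mul_mem_right g h)
    have hgx : g ∉ x.asIdeal := fun h => hx (x.asIdeal.mul_mem_left f h)
    obtain ⟨𝔮, h𝔮, h𝔮x⟩ := Ideal.exists_minimalPrimes_le (I := (⊥ : Ideal A)) (J := x.asIdeal) bot_le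
    have h𝔮𝔭 : 𝔮 = 𝔭 := hg 𝔮 h𝔮 (fun h => hgx (h𝔮x h))
    exact mem_range_psi 𝔭 f x (h𝔮𝔭 ▸ h𝔮x) hfx
  intro p hp x hx
  obtain ⟨y, rfl⟩ := hrange x hx
  obtain ⟨V', hV'open, hyV', hV'⟩ := (IsLocallyConstant.iff_exists_open _).mp (hf p hp) y
  obtain ⟨W, hWopen, hW⟩ := (psi_isInducing 𝔭 f).isOpen_iff.mp hV'open
  refine ⟨W, hWopen, ?_, ?_⟩
  · have : y ∈ psi 𝔭 f ⁻¹' W := hW ▸ hyV'
    exact this
  · intro x' hx'W hx'
    obtain ⟨y', rfl⟩ := hrange x' hx'
    have : y' ∈ V' := by
      rw [← hW]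
      exact hx'W
    exact hV' y' this

end Helpers

open CategoryTheory CategoryTheory.Limits in
/-- The case of the homological functor T_p(M) = H_p(P ⊗_A M) of a chain complex P of flat modules over
a commutative ring A. Let A be Noetherian and suppose P_i = 0 for i < i₀ and that every T_n(A) is a
finitely generated A-module. Then for every integer N there is a dense open subset U of Spec A such
that, for every p ≤ N, the function x ↦ dim_{k(x)} H_p(P ⊗_A k(x)) is locally constant on U. (The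
published statement says constant on U; over the product of two fields, with P the projective module
supported on one factor placed in degree 0, the only dense open set is the whole two-point spectrum
and the ranks there are 1 and 0, so locally constant on U is what holds; the argument produces U as
a disjoint union of opens, one dense in each irreducible component, on each of which the functions
are constant.) -/
theorem result {A : Type u} [CommRing A] [IsNoetherianRing A]
    (P : ChainComplex (ModuleCat.{u} A) ℤ) (hP : ∀ i, Module.Flat A (P.X i)) (i₀ : ℤ)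
    (hb : ∀ i < i₀, IsZero (P.X i))
    (hfg : ∀ n : ℤ, Module.Finite A (CohIII.T P n (ModuleCat.of A A))) (N : ℤ) :
    ∃ U : Set (PrimeSpectrum A), IsOpen U ∧ Dense U ∧
      ∀ p ≤ N, IsLocallyConstant (fun x : U => CohIII.dRank P p x) := by
  choose h hh𝔭 hh using fun 𝔭 : minimalPrimes A => step2 P hP i₀ hb hfg N 𝔭.1 𝔭.2
  refine ⟨⋃ 𝔭 : minimalPrimes A, (PrimeSpectrum.basicOpen (h 𝔭) : Set (PrimeSpectrum A)),
    isOpen_iUnion fun 𝔭 => (PrimeSpectrum.basicOpen (h 𝔭)).isOpen, ?_, ?_⟩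
  · rw [dense_iff_inter_open]
    rintro O hO ⟨x, hxO⟩
    obtain ⟨𝔮, h𝔮, h𝔮x⟩ := Ideal.exists_minimalPrimes_le (I := (⊥ : Ideal A)) (J := x.asIdeal) bot_le
    haveI : 𝔮.IsPrime := h𝔮.1.1
    let q : PrimeSpectrum A := ⟨𝔮, inferInstance⟩
    have hspec : q ⤳ x := (PrimeSpectrum.le_iff_specializes q x).mp h𝔮x
    refine ⟨q, hspec.mem_open hO hxO, ?_⟩
    rw [Set.mem_iUnion]
    exact ⟨⟨𝔮, h𝔮⟩, hh𝔭 ⟨𝔮, h𝔮⟩⟩
  · intro p hp
    rw [IsLocallyConstant.iff_exists_open]
    rintro ⟨x, hxU⟩
    rw [Set.mem_iUnion] at hxU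
    obtain ⟨𝔭, hx𝔭⟩ := hxU
    obtain ⟨W, hWopen, hxW, hW⟩ := hh 𝔭 p hp x hx𝔭
    refine ⟨Subtype.val ⁻¹' (W ∩ (PrimeSpectrum.basicOpen (h 𝔭) : Set (PrimeSpectrum A))),
      (hWopen.inter (PrimeSpectrum.basicOpen (h 𝔭)).isOpen).preimage continuous_subtype_val,
      ⟨hxW, hx𝔭⟩, ?_⟩
    rintro ⟨x', hx'U⟩ ⟨hx'W, hx'h⟩
    exact hW x' hx'W hx'h

end Groth.Agent.S4487
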