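import Groth.Statements.S4499
import Groth.Agent.Lib.Helper13TorBal
import Mathlib

set_option autoImplicit false
universe u
attribute [local instance] HasDerivedCategory.standard
open FlatCx

namespace Groth.Agent.S4499

section Helpers
open CategoryTheory CategoryTheory.Limits MonoidalCategory Groth.Agent.Helper13Tor

variable {A : Type u} [CommRing A]

/-- kernels of conjugate linear maps are isomorphic -/
theorem nonempty_ker_equiv {X Y X' Y' : Type u} [AddCommGroup X] [Module A X] [AddCommGroup Y]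
    [Module A Y] [AddCommGroup X'] [Module A X'] [AddCommGroup Y'] [Module A Y']
    (f : X →ₗ[A] Y) (f' : X' →ₗ[A] Y') (e₁ : X ≃ₗ[A] X') (e₂ : Y ≃ₗ[A] Y')
    (h : ∀ x, e₂ (f x) = f' (e₁ x)) : Nonempty (LinearMap.ker f ≃ₗ[A] LinearMap.ker f') := by
  have hc : (LinearMap.ker f').comap e₁.toLinearMap = LinearMap.ker f := by
    ext x
    simp only [Submodule.mem_comap, LinearMap.mem_ker, LinearEquiv.coe_coe]
    rw [← h x]
    exact e₂.map_eq_zero_iff
  exact ⟨(LinearEquiv.ofEq _ _ hc.symm).trans (e₁.ofSubmodule' (LinearMap.ker f'))⟩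

/-- For `0 → X₁ → X₂ → X₃ → 0` exact with `X₂` flat, `Tor_1(X₃, N) ≅ ker (X₁ ⊗ N → X₂ ⊗ N)`. -/
theorem nonempty_ker_rTensor_equiv_tor_one (N : ModuleCat.{u} A)
    (S : ShortComplex (ModuleCat.{u} A)) (hS : S.ShortExact) [Module.Flat A S.X₂] :
    Nonempty (LinearMap.ker (LinearMap.rTensor N S.f.hom) ≃ₗ[A]
      ((Tor (ModuleCat.{u} A) 1).obj S.X₃).obj N) := by
  obtain ⟨δ, w₁, w₂, hex₁, hex₂⟩ := exists_δ S hS N 0
  have hz : IsZero (((Tor (ModuleCat.{u} A) 1).obj S.X₂).obj N) :=
    isZero_tor_of_flat N S.X₂ 1 (by omega)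
  have hmono : Mono δ := hex₁.mono_g (hz.eq_of_src _ _)
  have hinj : Function.Injective δ.hom := (ModuleCat.mono_iff_injective _).mp hmono
  rw [ShortComplex.ShortExact.moduleCat_exact_iff_function_exact] at hex₂
  have hrange : LinearMap.range δ.hom =
      LinearMap.ker (((Tor (ModuleCat.{u} A) 0).map S.f).app N).hom :=
    (LinearMap.exact_iff.mp hex₂).symm
  -- `Tor_1 ≃ range δ = ker (Tor_0 f)`
  let e₀ : ((Tor (ModuleCat.{u} A) 1).obj S.X₃).obj N ≃ₗ[A]
      LinearMap.ker (((Tor (ModuleCat.{u} A) 0).map S.f).app N).hom :=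
    (LinearEquiv.ofInjective δ.hom hinj).trans (LinearEquiv.ofEq _ _ hrange)
  -- compare `Tor_0` with the tensor product
  let i₁ := (torLZeroIso N).app S.X₁
  let i₂ := (torLZeroIso N).app S.X₂
  have hnat : (torL N 0).map S.f ≫ i₂.hom = i₁.hom ≫ (tensorRight N).map S.f :=
    (torLZeroIso N).hom.naturality S.f
  obtain ⟨e⟩ := nonempty_ker_equiv (((Tor (ModuleCat.{u} A) 0).map S.f).app N).hom
    (LinearMap.rTensor N S.f.hom) i₁.toLinearEquiv i₂.toLinearEquiv (by
      intro x
      have := congrArg (fun φ => φ.hom x) hnat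
      exact this)
  exact ⟨e.symm.trans e₀.symm⟩

/-- For `0 → X₁ → X₂ → X₃ → 0` exact with `X₂` flat, `Tor_{n+2}(X₃, N) ≅ Tor_{n+1}(X₁, N)`. -/
theorem nonempty_tor_succ_iso (N : ModuleCat.{u} A)
    (S : ShortComplex (ModuleCat.{u} A)) (hS : S.ShortExact) [Module.Flat A S.X₂] (n : ℕ) :
    Nonempty (((Tor (ModuleCat.{u} A) (n + 2)).obj S.X₃).obj N ≅
      ((Tor (ModuleCat.{u} A) (n + 1)).obj S.X₁).obj N) := by
  obtain ⟨δ, w₁, w₂, hex₁, hex₂⟩ := exists_δ S hS N (n + 1)
  have hz₂ : IsZero (((Tor (ModuleCat.{u} A) (n + 1 + 1)).obj S.X₂).obj N) :=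
    isZero_tor_of_flat N S.X₂ _ (by omega)
  have hz₁ : IsZero (((Tor (ModuleCat.{u} A) (n + 1)).obj S.X₂).obj N) :=
    isZero_tor_of_flat N S.X₂ _ (by omega)
  have hmono : Mono δ := hex₁.mono_g (hz₂.eq_of_src _ _)
  have hepi : Epi δ := hex₂.epi_f (hz₁.eq_of_tgt _ _)
  have : IsIso δ := isIso_of_mono_of_epi δ
  exact ⟨asIso δ⟩


section LinAlg
variable {P₁ P₀ N : Type u} [AddCommGroup P₁] [Module A P₁] [AddCommGroup P₀] [Module A P₀]
  [AddCommGroup N] [Module A N]

theorem rTensor_factor (d : P₁ →ₗ[A] P₀) :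
    d.rTensor N = ((LinearMap.range d).subtype.rTensor N).comp (d.rangeRestrict.rTensor N) := by
  rw [← LinearMap.rTensor_comp]
  congr 1

theorem range_le_ker (d : P₁ →ₗ[A] P₀) :
    LinearMap.range ((LinearMap.ker d).subtype.rTensor N) ≤ LinearMap.ker (d.rTensor N) := by
  rintro _ ⟨x, rfl⟩
  rw [LinearMap.mem_ker, ← LinearMap.comp_apply, ← LinearMap.rTensor_comp]
  have : d.comp (LinearMap.ker d).subtype = 0 := by
    ext x
    exact x.2
  rw [this, LinearMap.rTensor_zero, LinearMap.zero_apply]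

theorem nonempty_quot_equiv_aux {X Y Z W : Type u} [AddCommGroup X] [Module A X] [AddCommGroup Y]
    [Module A Y] [AddCommGroup Z] [Module A Z] [AddCommGroup W] [Module A W]
    (α : W →ₗ[A] X) (π : X →ₗ[A] Y) (j : Y →ₗ[A] Z) (D : X →ₗ[A] Z) (hfac : D = j.comp π)
    (hex : Function.Exact α π) (hsurj : Function.Surjective π) :
    Nonempty ((↥(LinearMap.ker D) ⧸
        Submodule.comap (LinearMap.ker D).subtype (LinearMap.range α)) ≃ₗ[A] LinearMap.ker j) := by
  subst hfac
  let φ : LinearMap.ker (j.comp π) →ₗ[A] LinearMap.ker j :=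
    π.restrict (fun x hx => hx)
  have hφsurj : Function.Surjective φ := by
    rintro ⟨y, hy⟩
    obtain ⟨x, rfl⟩ := hsurj y
    exact ⟨⟨x, hy⟩, rfl⟩
  have hker : Submodule.comap (LinearMap.ker (j.comp π)).subtype (LinearMap.range α) =
      LinearMap.ker φ := by
    ext x
    rw [Submodule.mem_comap, LinearMap.mem_ker, Subtype.ext_iff]
    show x.1 ∈ LinearMap.range α ↔ π x.1 = 0
    rw [← LinearMap.mem_ker, LinearMap.exact_iff.mp hex]
  exact ⟨(Submodule.quotEquivOfEq _ _ hker).trans (φ.quotKerEquivOfSurjective hφsurj)⟩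

theorem nonempty_quot_equiv (d : P₁ →ₗ[A] P₀) :
    Nonempty ((↥(LinearMap.ker (d.rTensor N)) ⧸
        Submodule.comap (LinearMap.ker (d.rTensor N)).subtype
          (LinearMap.range ((LinearMap.ker d).subtype.rTensor N))) ≃ₗ[A]
      LinearMap.ker ((LinearMap.range d).subtype.rTensor N)) := by
  have hex0 : Function.Exact (LinearMap.ker d).subtype d.rangeRestrict := by
    rw [LinearMap.exact_iff, LinearMap.ker_rangeRestrict, Submodule.range_subtype]
  have hsurj0 : Function.Surjective d.rangeRestrict := LinearMap.surjective_rangeRestrict d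
  exact nonempty_quot_equiv_aux ((LinearMap.ker d).subtype.rTensor N) (d.rangeRestrict.rTensor N)
    ((LinearMap.range d).subtype.rTensor N) (d.rTensor N) (rTensor_factor d)
    (rTensor_exact N hex0 hsurj0) (LinearMap.rTensor_surjective N hsurj0)

end LinAlg

section Cat
variable {P₁ P₀ : Type u} [AddCommGroup P₁] [Module A P₁] [AddCommGroup P₀] [Module A P₀]

/-- `0 → ker d → P₁ → im d → 0` -/
noncomputable def S₁ (d : P₁ →ₗ[A] P₀) : ShortComplex (ModuleCat.{u} A) :=
  ShortComplex.mk (ModuleCat.ofHom (LinearMap.ker d).subtype) (ModuleCat.ofHom d.rangeRestrict) (by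
    ext x
    exact x.2)

/-- `0 → im d → P₀ → coker d → 0` -/
noncomputable def S₂ (d : P₁ →ₗ[A] P₀) : ShortComplex (ModuleCat.{u} A) :=
  ShortComplex.mk (ModuleCat.ofHom (LinearMap.range d).subtype)
    (ModuleCat.ofHom (LinearMap.range d).mkQ) (by
    ext x
    exact (Submodule.Quotient.mk_eq_zero _).mpr x.2)

theorem S₁_shortExact (d : P₁ →ₗ[A] P₀) : (S₁ d).ShortExact := by
  have : Mono (S₁ d).f := (ModuleCat.mono_iff_injective _).mpr (Submodule.subtype_injective _)
  have : Epi (S₁ d).g := (ModuleCat.epi_iff_surjective _).mpr (LinearMap.surjective_rangeRestrict d)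
  refine ShortComplex.ShortExact.mk ?_
  rw [ShortComplex.ShortExact.moduleCat_exact_iff_function_exact]
  show Function.Exact (LinearMap.ker d).subtype d.rangeRestrict
  rw [LinearMap.exact_iff, LinearMap.ker_rangeRestrict, Submodule.range_subtype]

theorem S₂_shortExact (d : P₁ →ₗ[A] P₀) : (S₂ d).ShortExact := by
  have : Mono (S₂ d).f := (ModuleCat.mono_iff_injective _).mpr (Submodule.subtype_injective _)
  have : Epi (S₂ d).g := (ModuleCat.epi_iff_surjective _).mpr (Submodule.mkQ_surjective _)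
  refine ShortComplex.ShortExact.mk ?_
  rw [ShortComplex.ShortExact.moduleCat_exact_iff_function_exact]
  exact LinearMap.exact_subtype_mkQ (LinearMap.range d)

end Cat

end Helpers

/-- Let A be a Noetherian local ring with residue field k, and d : P₁ → P₀ an A-linear map between flat
A-modules, viewed as a two-term chain complex, so that H₁ = Ker d, H₀ = Coker d and H₁ of the
complex tensored with k is Ker(d ⊗ 1_k). Let α : (Ker d) ⊗_A k → P₁ ⊗_A k be the map induced by the
inclusion Ker d → P₁; its image lies in Ker(d ⊗ 1_k). Then there is an exact sequence 0 →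
Tor₂^A(Coker d, k) → (Ker d) ⊗_A k → Ker(d ⊗ 1_k) → Tor₁^A(Coker d, k) → 0 with middle map α, stated
here as: Ker α is isomorphic to Tor₂^A(Coker d, k), and the quotient of Ker(d ⊗ 1_k) by the image of
α is isomorphic to Tor₁^A(Coker d, k) (existence of A-linear isomorphisms only; Tor is Mathlib's,
left derived in the second variable). (In the published statement the cokernel is printed without
its prime, as the module of 0-cycles; the proof is about the cokernel of d.) -/
theorem result {A : Type u} [CommRing A] [IsNoetherianRing A]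
    [IsLocalRing A] {P₁ P₀ : Type u} [AddCommGroup P₁] [Module A P₁] [AddCommGroup P₀] [Module A P₀]
    [Module.Flat A P₁] [Module.Flat A P₀] (d : P₁ →ₗ[A] P₀) :
    Nonempty (LinearMap.ker ((LinearMap.ker d).subtype.rTensor (IsLocalRing.ResidueField A)) ≃ₗ[A]
        DRing.Tor A 2 (P₀ ⧸ LinearMap.range d) (IsLocalRing.ResidueField A)) ∧
      LinearMap.range ((LinearMap.ker d).subtype.rTensor (IsLocalRing.ResidueField A)) ≤
        LinearMap.ker (d.rTensor (IsLocalRing.ResidueField A)) ∧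
      Nonempty ((↥(LinearMap.ker (d.rTensor (IsLocalRing.ResidueField A))) ⧸
          Submodule.comap (LinearMap.ker (d.rTensor (IsLocalRing.ResidueField A))).subtype
            (LinearMap.range ((LinearMap.ker d).subtype.rTensor (IsLocalRing.ResidueField A)))) ≃ₗ[A]
        DRing.Tor A 1 (P₀ ⧸ LinearMap.range d) (IsLocalRing.ResidueField A)) := by
  let N : ModuleCat.{u} A := ModuleCat.of A (IsLocalRing.ResidueField A)
  haveI : Module.Flat A (S₁ d).X₂ := inferInstanceAs (Module.Flat A P₁)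
  haveI : Module.Flat A (S₂ d).X₂ := inferInstanceAs (Module.Flat A P₀)
  obtain ⟨e₁⟩ := nonempty_ker_rTensor_equiv_tor_one N (S₁ d) (S₁_shortExact d)
  obtain ⟨e₂⟩ := nonempty_ker_rTensor_equiv_tor_one N (S₂ d) (S₂_shortExact d)
  obtain ⟨i⟩ := nonempty_tor_succ_iso N (S₂ d) (S₂_shortExact d) 0
  obtain ⟨e₃⟩ := nonempty_quot_equiv (N := IsLocalRing.ResidueField A) d
  refine ⟨⟨e₁.trans i.symm.toLinearEquiv⟩, range_le_ker d, ⟨e₃.trans e₂⟩⟩

end Groth.Agent.S4499
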