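import Groth.Statements.S4500
import Groth.Agent.R2.H21HomDual2
import Groth.Agent.R2.H21Corep
import Groth.Agent.R2.H11CbcGamma
import Groth.Agent.S0002
set_option backward.isDefEq.respectTransparency.types false
set_option linter.style.haveILetI false

set_option autoImplicit false
universe u
attribute [local instance] HasDerivedCategory.standard
open Coherent

namespace Groth.Agent.S4500

open AlgebraicGeometry CategoryTheory CategoryTheory.Limits Opposite in
/-- The global form over an affine base. Let A be a Noetherian ring, X a proper A-scheme with structure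
morphism f, F a coherent O_X-module flat over Spec A, and G an O_X-module admitting a presentation
E₁ → E₀ → G → 0 with E₀, E₁ finite locally free O_X-modules. Then there are a finitely generated
A-module N and an isomorphism of functors of the A-module M between Hom_{O_X}(G, f^*(M~) ⊗ F) and
Hom_A(N, M) (as abelian-group-valued functors). (N is then unique up to unique isomorphism.) -/
theorem result (A : Type u) [CommRing A] [IsNoetherianRing A]
    (X : Scheme.{u}) [X.Over (Spec (CommRingCat.of A))] [IsProper (X ↘ Spec (CommRingCat.of A))]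
    (F : X.Modules) (hF : Coh.IsCoh F) (hfl : FlatMod.IsFlatOver (X ↘ Spec (CommRingCat.of A)) F)
    (G E₀ E₁ : X.Modules) (h₀ : FlatMod.IsFinLocFree E₀) (h₁ : FlatMod.IsFinLocFree E₁)
    (v : E₁ ⟶ E₀) (π : E₀ ⟶ G) [Epi π] (w : v ≫ π = 0) (hex : (ShortComplex.mk v π w).Exact) :
    ∃ N : ModuleCat.{u} A, Module.Finite A N ∧
      Nonempty (CohIII.tensorAFunctor A F ⋙ preadditiveCoyoneda.obj (op G) ≅
        (linearCoyoneda A (ModuleCat.{u} A)).obj (op N) ⋙ forget₂ (ModuleCat.{u} A) AddCommGrpCat.{u}) := by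
  have key : ∀ (E : X.Modules) (_ : FlatMod.IsFinLocFree E), ∃ Q : ModuleCat.{u} A, Module.Finite A Q ∧
      Nonempty (Groth.Agent.R2.H21.Corep.K (CohIII.tensorAFunctor A F) E ≅
        Groth.Agent.R2.H21.Corep.L Q) := by
    intro E hE
    have hD := Groth.Agent.R2.H21.HomDual.isFinLocFree_dualMod E hE
    have hcoh := Groth.Agent.R2.H21.HomDual.isCoh_tensor F _ hF hD
    have hflat := Groth.Agent.R2.H21.HomDual.isFlatOver_tensor (X ↘ Spec (CommRingCat.of A)) F _ hfl hD
    obtain ⟨Q, hQ, ⟨e⟩⟩ := Groth.Agent.R2.H11.CbcGamma.s2436_of A _ hcoh hflat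
      (fun n => Groth.Agent.S0002.result A X _ hcoh n)
    refine ⟨Q, hQ, ⟨?_⟩⟩
    exact Functor.isoWhiskerLeft (CohIII.tensorAFunctor A F)
        (Groth.Agent.R2.H21.HomDual.homDualIso A E hE) ≪≫
      (Functor.associator _ _ _).symm ≪≫
      Functor.isoWhiskerRight (Groth.Agent.R2.H21.HomDual.tensorAFunctorTensorIso A F _)
        (Groth.Agent.R2.H21.HomDual.ΓAb A) ≪≫
      (Functor.associator _ _ _).symm ≪≫
      Functor.isoWhiskerRight e (forget₂ (ModuleCat.{u} A) AddCommGrpCat.{u})
  obtain ⟨Q₀, hQ₀, ⟨α₀⟩⟩ := key E₀ h₀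
  obtain ⟨Q₁, -, ⟨α₁⟩⟩ := key E₁ h₁
  obtain ⟨N, p, hp, ⟨e⟩⟩ := Groth.Agent.R2.H21.Corep.exists_corep_of_exact v π w hex α₀ α₁
  refine ⟨N, ?_, ⟨e⟩⟩
  haveI := hQ₀
  exact Module.Finite.of_surjective p.hom ((ModuleCat.epi_iff_surjective p).1 hp)

end Groth.Agent.S4500
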