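import Groth.Statements.S4633
import Groth.Agent.R2.H69QuasiFlatTop
import Groth.Agent.Lib.Helper2QuasiFlat2

set_option autoImplicit false
open CategoryTheory AlgebraicGeometry
universe u
open FDesc

namespace Groth.Agent.S4633

open CategoryTheory.Limits in
/-- Let f : X → Y be a morphism such that every irreducible component of X dominates an irreducible
component of Y (the closure of its image under f is an irreducible component of Y), and let g : Y' →
Y be quasi-flat (for instance flat). Then every irreducible component of X ×_Y Y' dominates an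
irreducible component of Y'. -/
theorem result {X Y Y' : Scheme.{u}} (f : X ⟶ Y) (g : Y' ⟶ Y)
    (hf : ∀ Z ∈ irreducibleComponents ↥X, closure (⇑f '' Z) ∈ irreducibleComponents ↥Y)
    (hg : FDesc.IsQuasiFlat g) (Z' : Set ↥(pullback f g)) (hZ' : Z' ∈ irreducibleComponents ↥(pullback f g)) :
    closure (⇑(pullback.snd f g) '' Z') ∈ irreducibleComponents ↥Y' := by
  classical
  open Groth.Agent.R2.H69.QuasiFlatTop in
  -- the generic point of `Z'` is a maximal point of the fibre product
  obtain ⟨z', hz', hmax⟩ := exists_isGenericPoint_of_mem_irreducibleComponents hZ'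
  -- the first projection is quasi-flat, hence generalizing
  have hp : FDesc.IsQuasiFlat (pullback.fst f g) :=
    Groth.Agent.Lib.Helper2.QuasiFlat.isQuasiFlat_of_isPullback
      (IsPullback.of_hasPullback f g).flip hg
  have hpgen : GeneralizingMap (pullback.fst f g) :=
    Groth.Agent.Lib.Helper2.QuasiFlat.generalizingMap_of_isQuasiFlat _ hp
  -- `x = p z'` is a maximal point of `X`
  have hxmax : ∀ x₁ : X, x₁ ⤳ pullback.fst f g z' → x₁ = pullback.fst f g z' := by
    intro x₁ hx₁
    obtain ⟨z₁, hz₁, rfl⟩ := hpgen hx₁
    rw [hmax z₁ hz₁]
  have hxc : closure {pullback.fst f g z'} ∈ irreducibleComponents ↥X :=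
    Groth.Agent.R2.H69.QuasiFlatTop.closure_singleton_mem_irreducibleComponents hxmax
  -- `y = f x` is a maximal point of `Y`
  have hyc : closure {f (pullback.fst f g z')} ∈ irreducibleComponents ↥Y := by
    have h1 := hf _ hxc
    have h2 : closure (⇑f '' closure {pullback.fst f g z'}) =
        closure {f (pullback.fst f g z')} := by
      rw [closure_image_closure f.continuous, Set.image_singleton]
    rwa [h2] at h1
  have hcond : f (pullback.fst f g z') = g (pullback.snd f g z') := by
    rw [← Scheme.Hom.comp_apply, pullback.condition, Scheme.Hom.comp_apply]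
  -- `y' = q z'` is a maximal point of `Y'`
  have hy'max : ∀ y'' : Y', y'' ⤳ pullback.snd f g z' → y'' = pullback.snd f g z' := by
    intro y'' hsp
    have h1 : g y'' ⤳ f (pullback.fst f g z') := by
      rw [hcond]
      exact hsp.map g.continuous
    have h2 : g y'' = g (pullback.snd f g z') := by
      rw [← hcond]
      exact Groth.Agent.R2.H69.QuasiFlatTop.eq_of_specializes_of_closure_mem hyc h1
    obtain ⟨z'', hz'', rfl⟩ :=
      Groth.Agent.R2.H69.QuasiFlatTop.exists_generization_snd f g z' y'' hsp h2
    rw [hmax z'' hz'']
  have hfin : closure (⇑(pullback.snd f g) '' Z') = closure {pullback.snd f g z'} := by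
    rw [← hz'.def, closure_image_closure (pullback.snd f g).continuous, Set.image_singleton]
  rw [hfin]
  exact Groth.Agent.R2.H69.QuasiFlatTop.closure_singleton_mem_irreducibleComponents hy'max

end Groth.Agent.S4633
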