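import Groth.Statements.S4648
import Groth.Agent.S4586
import Groth.Agent.S2493
import Groth.Agent.S2495
import Groth.Agent.Lib.Helper5Closure

set_option autoImplicit false
open CategoryTheory AlgebraicGeometry
universe u
open FDesc

namespace Groth.Agent.S4648

/-- Let f : X → Y be a quasi-flat, surjective and quasi-compact morphism and Z a subset of Y. Then Z is
a locally closed pro-constructible subset of Y if and only if f⁻¹(Z) is a locally closed
pro-constructible subset of X. -/
theorem result {X Y : Scheme.{u}} (f : X ⟶ Y)
    (hf : FDesc.IsQuasiFlat f) [Surjective f] [QuasiCompact f] (Z : Set ↥Y) :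
    (IsLocallyClosed Z ∧ ProCons.IsProConstructible Z) ↔
      (IsLocallyClosed (⇑f ⁻¹' Z) ∧ ProCons.IsProConstructible (⇑f ⁻¹' Z)) := by
  have hproc := (Groth.Agent.S4586.result f (Or.inl inferInstance) Z).2.1
  constructor
  · rintro ⟨h1, h2⟩
    exact ⟨h1.preimage f.continuous, hproc.mp h2⟩
  · rintro ⟨h1, h2⟩
    have hZ : ProCons.IsProConstructible Z := hproc.mpr h2
    refine ⟨?_, hZ⟩
    have hgen : GeneralizingMap f.base := Groth.Agent.S2493.result f hf
    have hquot : Topology.IsQuotientMap f.base := Groth.Agent.S2495.result f hf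
    -- the preimage of the closure is the closure of the preimage
    have hcl : (⇑f ⁻¹' closure Z : Set X) = closure (⇑f ⁻¹' Z) := by
      apply Set.Subset.antisymm
      · intro x hx
        obtain ⟨z, hzZ, hzx⟩ := Groth.Agent.Lib.Helper5.exists_specializes_of_mem_closure Y Z hZ
          (f x) hx
        obtain ⟨x', hx', hfx'⟩ := hgen hzx
        have h3 : x' ∈ (⇑f ⁻¹' Z : Set X) := by
          show f.base x' ∈ Z
          rw [hfx']
          exact hzZ
        exact closure_mono (Set.singleton_subset_iff.2 h3) (specializes_iff_mem_closure.1 hx')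
      · exact f.continuous.closure_preimage_subset _
    rw [isLocallyClosed_iff_isOpen_coborder, coborder, isOpen_compl_iff,
      ← hquot.isClosed_preimage]
    have h4 : (f.base ⁻¹' (closure Z \ Z) : Set X) = closure (⇑f ⁻¹' Z) \ (⇑f ⁻¹' Z) := by
      rw [← hcl]
      rfl
    rw [h4]
    have h5 := h1
    rw [isLocallyClosed_iff_isOpen_coborder, coborder, isOpen_compl_iff] at h5
    exact h5

end Groth.Agent.S4648
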