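import Groth.Statements.S4681
import Groth.Agent.Lib.Helper5LocalFlat
-- import your own Groth.Agent.* helpers here

set_option autoImplicit false
set_option linter.style.haveILetI false
open CategoryTheory AlgebraicGeometry
universe u
open FDesc

namespace Groth.Agent.S4681

/-- Algebraic core: `A → B → C` ring maps, `M` a `C`-module, seen as `B`- and `A`-module by
restriction of scalars. -/
theorem alg_trans {A B C M : Type u} [CommRing A] [CommRing B] [CommRing C] [AddCommGroup M]
    [Module C M] (φ : A →+* B) (ψ : B →+* C)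
    (h1 : @Module.Flat B M _ _ (Module.compHom M ψ)) (h2 : φ.Flat) :
    @Module.Flat A M _ _ (Module.compHom M (ψ.comp φ)) := by
  letI := φ.toAlgebra
  letI : Module B M := Module.compHom M ψ
  letI : Module A M := Module.compHom M (ψ.comp φ)
  haveI : IsScalarTower A B M := ⟨fun a b m => by
    change ψ (φ a * b) • m = ψ (φ a) • (ψ b • m)
    rw [map_mul, mul_smul]⟩
  haveI : Module.Flat A B := h2
  exact Module.Flat.trans A B M

theorem alg_descent {A B C M : Type u} [CommRing A] [CommRing B] [CommRing C] [AddCommGroup M]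
    [Module C M] (φ : A →+* B) (ψ : B →+* C) [IsLocalRing B]
    (h1 : @Module.Flat B M _ _ (Module.compHom M ψ))
    (hne : letI : Module B M := Module.compHom M ψ
      IsLocalRing.maximalIdeal B • (⊤ : Submodule B M) ≠ ⊤)
    (h2 : @Module.Flat A M _ _ (Module.compHom M (ψ.comp φ))) : φ.Flat := by
  letI := φ.toAlgebra
  letI : Module B M := Module.compHom M ψ
  letI : Module A M := Module.compHom M (ψ.comp φ)
  haveI : IsScalarTower A B M := ⟨fun a b m => by
    change ψ (φ a * b) • m = ψ (φ a) • (ψ b • m)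
    rw [map_mul, mul_smul]⟩
  haveI : Module.Flat B M := h1
  haveI : Module.FaithfullyFlat B M := ⟨by
    intro m hm
    rw [IsLocalRing.eq_maximalIdeal hm]
    exact hne⟩
  haveI : Module.Flat A M := h2
  exact Groth.Agent.Lib.Helper5.flat_of_faithfullyFlat_of_flat (R := A) (S := B) M

theorem alg_smul_top {A B C M : Type u} [CommRing A] [CommRing B] [CommRing C] [AddCommGroup M]
    [Module C M] (φ : A →+* B) (ψ : B →+* C) (χ : A →+* C) (hχ : χ = ψ.comp φ)
    [IsLocalRing A] [IsLocalRing B] [IsLocalHom φ] (m : M)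
    (hm : letI : Module A M := Module.compHom M χ
      m ∈ IsLocalRing.maximalIdeal A • (⊤ : Submodule A M)) :
    letI : Module B M := Module.compHom M ψ
    m ∈ IsLocalRing.maximalIdeal B • (⊤ : Submodule B M) := by
  subst hχ
  letI : Module A M := Module.compHom M (ψ.comp φ)
  letI : Module B M := Module.compHom M ψ
  change m ∈ IsLocalRing.maximalIdeal A • (⊤ : Submodule A M) at hm
  change m ∈ IsLocalRing.maximalIdeal B • (⊤ : Submodule B M)
  refine Submodule.smul_induction_on hm (fun a ha n _ => ?_) (fun x y hx hy => Submodule.add_mem _ hx hy)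
  have h1 : a • n = (φ a) • n := rfl
  rw [h1]
  refine Submodule.smul_mem_smul ?_ Submodule.mem_top
  rw [IsLocalRing.mem_maximalIdeal, mem_nonunits_iff] at ha ⊢
  exact fun hu => ha (isUnit_of_map_unit φ a hu)

/-- Let f : X → Y and g : Y → Z be morphisms of schemes and F a quasi-coherent O_X-module which is
faithfully flat relative to Y: flat over Y, and for every point y of Y there is a point x over y
with F_x ⊗ κ(y) ≠ 0. Then g is flat and surjective (faithfully flat) if and only if F is faithfully
flat relative to Z for the morphism f followed by g: flat over Z, and for every point z of Z there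
is a point x of X over z with F_x ⊗ κ(z) ≠ 0. -/
theorem result {X Y Z : Scheme.{u}} (f : X ⟶ Y) (g : Y ⟶ Z)
    (F : X.Modules) (hF : Coh.IsQCoh F) (hFfl : FlatMod.IsFlatOver f F)
    (hFff : (∀ y : ↥Y, ∃ x : ↥X, f x = y ∧
      letI := FlatMod.moduleStalkOver f F x
      IsLocalRing.maximalIdeal (Y.presheaf.stalk (f x)) • (⊤ : Submodule (Y.presheaf.stalk (f x)) (F.presheaf.stalk x)) ≠ ⊤)) :
    (Flat g ∧ Surjective g) ↔
      (FlatMod.IsFlatOver (f ≫ g) F ∧
        (∀ z : ↥Z, ∃ x : ↥X, (f ≫ g) x = z ∧
      letI := FlatMod.moduleStalkOver (f ≫ g) F x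
      IsLocalRing.maximalIdeal (Z.presheaf.stalk ((f ≫ g) x)) • (⊤ : Submodule (Z.presheaf.stalk ((f ≫ g) x)) (F.presheaf.stalk x)) ≠ ⊤)) := by
  have hcomp : ∀ x : X, ((f ≫ g).stalkMap x).hom =
      (f.stalkMap x).hom.comp (g.stalkMap (f x)).hom := by
    intro x
    rw [Scheme.Hom.stalkMap_comp]
    rfl
  constructor
  · rintro ⟨hg, hs⟩
    refine ⟨fun x => ?_, fun z => ?_⟩
    · have h1 := hFfl x
      have h2 : (g.stalkMap (f x)).hom.Flat := (Flat.iff_flat_stalkMap g).mp hg (f x)
      have h3 := alg_trans (M := F.presheaf.stalk x) (g.stalkMap (f x)).hom (f.stalkMap x).hom h1 h2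
      unfold FlatMod.IsFlatOverAt FlatMod.moduleStalkOver
      rw [hcomp x]
      exact h3
    · obtain ⟨y, rfl⟩ := hs.surj z
      obtain ⟨x, rfl, hx⟩ := hFff y
      refine ⟨x, rfl, ?_⟩
      intro htop
      apply hx
      rw [eq_top_iff] at htop ⊢
      intro m hm
      have hm' := htop hm
      exact alg_smul_top (M := F.presheaf.stalk x) (g.stalkMap (f x)).hom (f.stalkMap x).hom
        ((f ≫ g).stalkMap x).hom (hcomp x) m hm'
  · rintro ⟨hfl, hs⟩
    refine ⟨(Flat.iff_flat_stalkMap g).mpr fun y => ?_, ⟨fun z => ?_⟩⟩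
    · obtain ⟨x, rfl, hx⟩ := hFff y
      have h2 := hfl x
      unfold FlatMod.IsFlatOverAt FlatMod.moduleStalkOver at h2
      rw [hcomp x] at h2
      exact alg_descent (M := F.presheaf.stalk x) (g.stalkMap (f x)).hom (f.stalkMap x).hom
        (hFfl x) hx h2
    · obtain ⟨x, rfl, _⟩ := hs z
      exact ⟨f x, rfl⟩

end Groth.Agent.S4681
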