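import Groth.Statements.S4682
import Groth.Agent.Lib.Helper6BcRed2
import Groth.Agent.Lib.Helper10RedInd

set_option autoImplicit false
set_option linter.style.haveILetI false
universe u
open CategoryTheory AlgebraicGeometry
open FBase

namespace Groth.Agent.S4682

open Limits Scheme.IdealSheafData TopologicalSpace in
/-- separable base change of a reduced scheme over a field is reduced. -/
theorem isReduced_pullback_of_separable {K' K : Type u} [Field K'] [Field K] [Algebra K' K]
    [GeometricallyReduced (Spec.map (CommRingCat.ofHom (algebraMap K' K)))]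
    {Z : Scheme.{u}} [IsReduced Z] (s : Z ⟶ Spec (CommRingCat.of K')) :
    IsReduced (pullback s (Spec.map (CommRingCat.ofHom (algebraMap K' K)))) := by
  haveI : Algebra.IsGeometricallyReduced K' K :=
    Groth.Agent.Lib.Helper6.BcRed.isGeometricallyReduced_of_geometricallyReduced_specMap K' K
  letI : Z.Over (Spec (CommRingCat.of K')) := ⟨s⟩
  exact Groth.Agent.Lib.Helper6.BcRed.isReduced_bc_of_separable K' Z K

open Limits Scheme.IdealSheafData TopologicalSpace in
/-- Let Y be a scheme over a field K', let K be an extension field of K' which is separable over K'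
(Spec K → Spec K' is geometrically reduced), let g : Y ⊗_{K'} K → Y be the projection and T a closed
subset of Y ⊗_{K'} K. Then T is defined over K' as a closed subset, that is T = g⁻¹(T') for some
closed subset T' of Y, if and only if the reduced closed subscheme of Y ⊗_{K'} K with support T is
defined over K', that is, there is a quasi-coherent ideal sheaf of O_Y whose inverse image in Y
⊗_{K'} K is the vanishing ideal sheaf of T. -/
theorem result {K' K : Type u} [Field K'] [Field K] [Algebra K' K]
    {Y : Scheme.{u}} (fY : Y ⟶ Spec (CommRingCat.of K'))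
    [GeometricallyReduced (Spec.map (CommRingCat.ofHom (algebraMap K' K)))]
    (T : TopologicalSpace.Closeds ↥(FBase.bc fY K)) :
    (∃ T' : TopologicalSpace.Closeds ↥Y, (T : Set ↥(FBase.bc fY K)) = ⇑(FBase.bcπ fY K) ⁻¹' (T' : Set ↥Y)) ↔
      ∃ J : Y.IdealSheafData, J.comap (FBase.bcπ fY K) = Scheme.IdealSheafData.vanishingIdeal T := by
  constructor
  · rintro ⟨T', hT'⟩
    refine ⟨vanishingIdeal T', ?_⟩
    set J := vanishingIdeal T' with hJ
    set q := Spec.map (CommRingCat.ofHom (algebraMap K' K)) with hq
    haveI : IsReduced J.subscheme := Groth.Agent.Lib.Helper10.RedInd.isReduced_subscheme_vanishingIdeal T'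
    -- the pullback of the closed subscheme is reduced
    have hred : IsReduced (pullback (FBase.bcπ fY K) J.subschemeι) := by
      haveI h1 : IsReduced (pullback (J.subschemeι ≫ fY) q) :=
        isReduced_pullback_of_separable (J.subschemeι ≫ fY)
      let e : pullback J.subschemeι (pullback.fst fY q) ≅ pullback (J.subschemeι ≫ fY) q :=
        pullbackRightPullbackFstIso fY q J.subschemeι
      haveI h2 : IsReduced (pullback J.subschemeι (pullback.fst fY q)) :=
        isReduced_of_isOpenImmersion e.hom
      show IsReduced (pullback (pullback.fst fY q) J.subschemeι)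
      let e' : pullback (pullback.fst fY q) J.subschemeι ≅ pullback J.subschemeι (pullback.fst fY q) :=
        pullbackSymmetry (pullback.fst fY q) J.subschemeι
      exact isReduced_of_isOpenImmersion e'.hom
    rw [comap, Groth.Agent.Lib.Helper10.RedInd.ker_eq_vanishingIdeal_of_isReduced]
    congr 1
    apply TopologicalSpace.Closeds.ext
    rw [TopologicalSpace.Closeds.coe_closure, Scheme.Pullback.range_fst, range_subschemeι, hT']
    have : ((vanishingIdeal T').support : Set Y) = T' := by
      rw [hJ.symm]; simp [J]
    rw [hJ, this]
    exact (T'.isClosed.preimage (FBase.bcπ fY K).continuous).closure_eq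
  · rintro ⟨J, hJ⟩
    refine ⟨J.support, ?_⟩
    have h1 : ((J.comap (FBase.bcπ fY K)).support : Set _) = (FBase.bcπ fY K) ⁻¹' (J.support : Set Y) := by
      rw [support_comap]; rfl
    rw [← h1, hJ]
    simp

end Groth.Agent.S4682
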