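import Groth.Statements.S4732
import Mathlib


set_option autoImplicit false
universe u
open EGA4

namespace Groth.Agent.S4732

open AlgebraicGeometry CategoryTheory in
/-- Let k be a field, X a scheme locally of finite type over k and x a point of X. Then there are an
open neighbourhood U of x, a k-scheme Y all of whose local rings are regular, and an immersion U → Y
compatible with the structure morphisms to Spec k. -/
theorem result (k : Type u) [Field k] {X : Scheme.{u}}
    (f : X ⟶ Spec (CommRingCat.of k)) [LocallyOfFiniteType f] (x : X) :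
    ∃ (U : X.Opens) (_ : x ∈ U) (Y : Scheme.{u}) (g : Y ⟶ Spec (CommRingCat.of k)) (i : (U : Scheme.{u}) ⟶ Y),
      IsImmersion i ∧ i ≫ g = U.ι ≫ f ∧ ∀ y : Y, IsRegularLocalRing (Y.presheaf.stalk y) := by
  obtain ⟨_, ⟨U₀, hU, rfl⟩, hxU, -⟩ :=
    X.isBasis_affineOpens.exists_subset_of_mem_open (Set.mem_univ x) isOpen_univ
  let U : X.Opens := U₀
  have : IsAffine (U : Scheme.{u}) := hU
  let g₀ : (U : Scheme.{u}) ⟶ Spec (CommRingCat.of k) := U.ι ≫ f
  have hft : LocallyOfFiniteType g₀ := inferInstance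
  have hft' : g₀.appTop.hom.FiniteType :=
    (HasRingHomProperty.iff_of_isAffine (P := @LocallyOfFiniteType)).mp hft
  let ψ : CommRingCat.of k ⟶ Γ((U : Scheme.{u}), ⊤) :=
    (Scheme.ΓSpecIso (CommRingCat.of k)).inv ≫ g₀.appTop
  have hψ : ψ.hom.FiniteType := by
    have h1 : (Scheme.ΓSpecIso (CommRingCat.of k)).inv.hom.FiniteType :=
      RingHom.FiniteType.of_surjective _
        (ConcreteCategory.bijective_of_isIso (Scheme.ΓSpecIso (CommRingCat.of k)).inv).2
    exact hft'.comp h1
  let _ : Algebra k Γ((U : Scheme.{u}), ⊤) := ψ.hom.toAlgebra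
  have hfin : Algebra.FiniteType k Γ((U : Scheme.{u}), ⊤) := hψ
  obtain ⟨n, π, hπ⟩ := Algebra.FiniteType.iff_quotient_mvPolynomial''.mp hfin
  let P : CommRingCat.{u} := CommRingCat.of (MvPolynomial (Fin n) k)
  let πc : P ⟶ Γ((U : Scheme.{u}), ⊤) := CommRingCat.ofHom π.toRingHom
  let c : CommRingCat.of k ⟶ P := CommRingCat.ofHom (algebraMap k (MvPolynomial (Fin n) k))
  have hcπ : c ≫ πc = ψ := by
    ext a
    exact π.commutes a
  have : IsClosedImmersion (Spec.map πc) := IsClosedImmersion.spec_of_surjective πc hπ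
  refine ⟨U, hxU, Spec P, Spec.map c, (U : Scheme.{u}).isoSpec.hom ≫ Spec.map πc,
    inferInstance, ?_, ?_⟩
  · rw [Category.assoc, ← Spec.map_comp, hcπ]
    show (U : Scheme.{u}).isoSpec.hom ≫
      Spec.map ((Scheme.ΓSpecIso (CommRingCat.of k)).inv ≫ g₀.appTop) = g₀
    rw [Spec.map_comp, Scheme.isoSpec_hom_naturality_assoc, Scheme.isoSpec_Spec_hom,
      ← Spec.map_comp, Iso.inv_hom_id, Spec.map_id, Category.comp_id]
  · intro y
    have : IsDedekindDomain k := inferInstance
    have : IsRegularRing k := inferInstance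
    have : IsRegularRing (MvPolynomial (Fin n) k) :=
      MvPolynomial.isRegularRing_of_isRegularRing k
    exact IsRegularLocalRing.of_ringEquiv
      (Spec.stalkIso P y).commRingCatIsoToRingEquiv.symm

end Groth.Agent.S4732
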