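import Groth.Statements.S4872
import Mathlib

set_option autoImplicit false
universe u
open CategoryTheory AlgebraicGeometry
open EGA43

namespace Groth.Agent.S4872

/-- Conditions b), c), d) (schematically dominant families): let p : X ⟶ S be a morphism and (f_i : Z_i
⟶ X) a family of morphisms. The following are equivalent: b) for every open V of X, a section of O_X
over V whose images in all the Γ(f_i⁻¹(V), O_{Z_i}) are zero is zero; c) for every open U of X, a
closed immersion j : Y ⟶ U through which each restriction f_i⁻¹(U) ⟶ U factors is an isomorphism; d)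
for every separated S-scheme X', every open U of X and every pair of S-morphisms u, v : U ⟶ X'
having the same composite with each f_i⁻¹(U) ⟶ U, one has u = v. -/
theorem result {X S : Scheme.{u}} (p : X ⟶ S) {ι : Type u} (Z : ι → Scheme.{u})
    (f : ∀ i, Z i ⟶ X) :
    [(∀ (V : (X).Opens) (t : Γ(X, V)), (∀ i, (f i).app V t = 0) → t = 0),
      ∀ (U : X.Opens) (Y : Scheme.{u}) (j : Y ⟶ (U : Scheme.{u})), IsClosedImmersion j →
        (∀ i, ∃ g : ((f i) ⁻¹ᵁ U : Scheme.{u}) ⟶ Y, g ≫ j = (f i) ∣_ U) → IsIso j,
      ∀ (X' : Scheme.{u}) (q : X' ⟶ S), IsSeparated q → ∀ (U : X.Opens) (u v : (U : Scheme.{u}) ⟶ X'),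
        u ≫ q = U.ι ≫ p → v ≫ q = U.ι ≫ p → (∀ i, ((f i) ∣_ U) ≫ u = ((f i) ∣_ U) ≫ v) → u = v].TFAE := by
  tfae_have 1 → 2 := by
    intro hb U Y j hj hg
    rw [IsClosedImmersion.isIso_iff_ker_eq_bot]
    ext W : 2
    rw [Scheme.Hom.ker_apply, Scheme.IdealSheafData.ideal_bot, Pi.bot_apply, eq_bot_iff]
    intro t ht
    rw [RingHom.mem_ker] at ht
    rw [Ideal.mem_bot]
    -- transport `t` to a section of `X`
    have key : ∀ i, (f i).app (U.ι ''ᵁ W.1) t = 0 := by
      intro i
      obtain ⟨g, hg⟩ := hg i
      have h0 : (g ≫ j).app W.1 t = 0 := by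
        change (g.app (j ⁻¹ᵁ W.1)).hom ((j.app W.1).hom t) = 0
        rw [ht, map_zero]
      have h1 : ((f i) ∣_ U).app W.1 t = 0 := by
        have e1 := ConcreteCategory.congr_hom (Scheme.Hom.congr_app hg.symm W.1) t
        refine e1.trans ?_
        change ((↑(f i ⁻¹ᵁ U) : Scheme.{u}).presheaf.map _).hom (((g ≫ j).app W.1).hom t) = 0
        rw [show ((g ≫ j).app W.1).hom t = 0 from h0, map_zero]
      have h2 := (ConcreteCategory.congr_hom (morphismRestrict_app (f i) U W.1) t).symm.trans h1
      have hinj := (ConcreteCategory.bijective_of_isIso ((Z i).presheaf.map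
          (eqToHom (image_morphismRestrict_preimage (f i) U W.1)).op)).1
      apply hinj
      rw [map_zero]
      exact h2
    exact hb (U.ι ''ᵁ W.1) t key
  tfae_have 2 → 3 := by
    intro hc X' q hq U u v hu hv huv
    let X'' : Over S := Over.mk q
    let UU : Over S := Over.mk (U.ι ≫ p)
    let u' : UU ⟶ X'' := Over.homMk u hu
    let v' : UU ⟶ X'' := Over.homMk v hv
    have : IsSeparated X''.hom := hq
    have hcl : IsClosedImmersion (Limits.equalizer.ι u' v').left := inferInstance
    have hiso : IsIso (Limits.equalizer.ι u' v').left := by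
      refine hc U _ _ hcl fun i => ?_
      let Zi : Over S := Over.mk (((f i) ∣_ U) ≫ U.ι ≫ p)
      let fi : Zi ⟶ UU := Over.homMk ((f i) ∣_ U) rfl
      have hfi : fi ≫ u' = fi ≫ v' := by
        ext
        exact huv i
      refine ⟨(Limits.equalizer.lift fi hfi).left, ?_⟩
      rw [← Over.comp_left, Limits.equalizer.lift_ι]
      rfl
    have hcond := congrArg (fun m => m.left) (Limits.equalizer.condition u' v')
    simp only [Over.comp_left] at hcond
    exact (cancel_epi (Limits.equalizer.ι u' v').left).mp hcond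
  tfae_have 3 → 1 := by
    intro hd V t ht
    let t' : Γ((V : Scheme.{u}), ⊤) := V.topIso.inv t
    let q : AffineSpace PUnit.{u+1} S ⟶ S := AffineSpace PUnit.{u+1} S ↘ S
    let a : (V : Scheme.{u}) ⟶ AffineSpace PUnit.{u+1} S :=
      AffineSpace.homOfVector (V.ι ≫ p) (fun _ => t')
    let b : (V : Scheme.{u}) ⟶ AffineSpace PUnit.{u+1} S :=
      AffineSpace.homOfVector (V.ι ≫ p) (fun _ => 0)
    have hab : a = b := by
      refine hd _ q inferInstance V a b (AffineSpace.homOfVector_over _ _)
        (AffineSpace.homOfVector_over _ _) fun i => ?_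
      rw [AffineSpace.comp_homOfVector, AffineSpace.comp_homOfVector]
      congr 1
      funext _
      simp only [Function.comp_apply, map_zero]
      have e1 := ConcreteCategory.congr_hom (morphismRestrict_appTop (f i) V) t'
      refine e1.trans ?_
      have h2 : (f i).app (V.ι ''ᵁ ⊤) t' = 0 := by
        change (f i).app (V.ι ''ᵁ ⊤) ((X.presheaf.map (eqToHom V.ι_image_top).op) t) = 0
        have := (f i).naturality (eqToHom V.ι_image_top).op
        have h3 := ConcreteCategory.congr_hom this t
        change ((f i).app (V.ι ''ᵁ ⊤)).hom ((X.presheaf.map (eqToHom V.ι_image_top).op).hom t) =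
          ((Z i).presheaf.map _).hom (((f i).app V).hom t) at h3
        rw [h3]
        rw [show ((f i).app V).hom t = 0 from ht i, map_zero]
      change ((Z i).presheaf.map _).hom (((f i).app (V.ι ''ᵁ ⊤)).hom t') = 0
      rw [show ((f i).app (V.ι ''ᵁ ⊤)).hom t' = 0 from h2, map_zero]
    have h1 : a.appTop (AffineSpace.coord S PUnit.unit) = b.appTop (AffineSpace.coord S PUnit.unit) := by
      rw [hab]
    rw [AffineSpace.homOfVector_appTop_coord, AffineSpace.homOfVector_appTop_coord] at h1
    have hinj := (ConcreteCategory.bijective_of_isIso V.topIso.inv).1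
    exact hinj (by rw [map_zero]; exact h1)
  tfae_finish

end Groth.Agent.S4872
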