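import Groth.Statements.S4876
import Groth.Agent.R2.H22FibSchDom

set_option autoImplicit false
set_option linter.style.haveILetI false
universe u
open CategoryTheory AlgebraicGeometry
open EGA43

namespace Groth.Agent.S4876

open Groth.Agent.R2.H22.SchDom Groth.Agent.R2.H22.SchDomProd Groth.Agent.R2.H22.FibSchDom Limits

theorem fiberMap_eq_bcMap {X S : Scheme.{u}} (p : X ⟶ S) {ι : Type u} {Z : ι → Scheme.{u}}
    (f : ∀ i, Z i ⟶ X) (s : S) (i : ι) :
    MoreMor.fiberMap (f i) p s = bcMap p (S.fromSpecResidueField s) f i := by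
  apply pullback.hom_ext
  · rw [MoreMor.fiberMap, pullback.lift_fst]
    exact (bcMap_fst p (S.fromSpecResidueField s) f i).symm
  · rw [MoreMor.fiberMap, pullback.lift_snd]
    exact (bcMap_snd p (S.fromSpecResidueField s) f i).symm

theorem app_eq_zero_congr {X Y : Scheme.{u}} {φ ψ : X ⟶ Y} (e : φ = ψ) (V : Y.Opens) (t : Γ(Y, V)) :
    φ.app V t = 0 ↔ ψ.app V t = 0 := by
  subst e; rfl

/-- Let p : X ⟶ S be a morphism with X locally Noetherian and (f_i : Z_i ⟶ X) a family of morphisms with
every Z_i flat over S. Then the family (f_i) is universally schematically dominant relative to S,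
i.e. for every base change S' ⟶ S the family Z_i ×_S S' ⟶ X ×_S S' is schematically dominant, if and
only if for every point s of S the family of fibres (Z_i)_s ⟶ X_s is schematically dominant.
(Schematically dominant: a section of the structure sheaf over an open whose pullback along every
member vanishes is zero.) -/
theorem result {X S : Scheme.{u}} [IsLocallyNoetherian X]
    (p : X ⟶ S) {ι : Type u} (Z : ι → Scheme.{u}) (f : ∀ i, Z i ⟶ X) [∀ i, Flat (f i ≫ p)] :
    (∀ (S' : Scheme.{u}) (g : S' ⟶ S),
      (∀ (V : (Limits.pullback p g).Opens) (t : Γ(Limits.pullback p g, V)), (∀ i, (Limits.pullback.map (f i ≫ p) g p g (f i) (𝟙 S') (𝟙 S) (Category.comp_id _) ((Category.comp_id _).trans (Category.id_comp _).symm)).app V t = 0) → t = 0)) ↔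
    ∀ s : S, (∀ (V : (p.fiber s).Opens) (t : Γ(p.fiber s, V)), (∀ i, (MoreMor.fiberMap (f i) p s).app V t = 0) → t = 0) := by
  constructor
  · intro h s V t ht
    refine h _ (S.fromSpecResidueField s) V t fun i => ?_
    exact (app_eq_zero_congr (fiberMap_eq_bcMap p f s i) V t).1 (ht i)
  · intro h S' g
    refine schDom_baseChange_of_fibres f p (fun s V t ht => h s V t fun i => ?_) g
    exact (app_eq_zero_congr (fiberMap_eq_bcMap p f s i) V t).2 (ht i)

end Groth.Agent.S4876
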