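import Groth.Statements.S4877
import Groth.Agent.R2.H22SchDomProd

set_option autoImplicit false
set_option linter.style.haveILetI false
universe u
open CategoryTheory AlgebraicGeometry
open EGA43

namespace Groth.Agent.S4877

open Groth.Agent.R2.H22.SepCore Groth.Agent.R2.H22.SchDom Groth.Agent.R2.H22.SchDomProd
  Groth.Agent.R2.H22.SepProd Groth.Agent.R2.H22.SepLim TopologicalSpace TensorProduct Limits

/-- Let k be a field, X a k-scheme, (f_i : Z_i ⟶ X) a schematically dominant family of morphisms and S'
an arbitrary k-scheme. Then the family of base changes Z_i ×_k S' ⟶ X ×_k S' is schematically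
dominant. (Schematically dominant: a section of the structure sheaf over an open whose pullback
along every member vanishes is zero.) -/
theorem result {k : Type u} [Field k] {X S' : Scheme.{u}}
    (p : X ⟶ Spec (CommRingCat.of k)) (q : S' ⟶ Spec (CommRingCat.of k))
    {ι : Type u} (Z : ι → Scheme.{u}) (f : ∀ i, Z i ⟶ X)
    (h : (∀ (V : (X).Opens) (t : Γ(X, V)), (∀ i, (f i).app V t = 0) → t = 0)) :
    (∀ (V : (Limits.pullback p q).Opens) (t : Γ(Limits.pullback p q, V)), (∀ i, (Limits.pullback.map (f i ≫ p) q p q (f i) (𝟙 S') (𝟙 _) (Category.comp_id _) ((Category.comp_id _).trans (Category.id_comp _).symm)).app V t = 0) → t = 0) := by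
  have hdom : SchDom f := h
  refine schDom_of_basis (fun i => bcMap p q f i)
    (fun j : {j : Piece p q // j.U ∈ ({⊤} : Set (Spec (CommRingCat.of k)).Opens)} => j.1.D)
    (isBasis_pieces_of_cover p q {⊤} (fun s => ⟨⊤, rfl, isAffineOpen_top _, trivial⟩)) ?_
  rintro ⟨j, hj⟩ t ht
  have hjU : j.U = ⊤ := hj
  refine schDomOn_piece f j ?_ t ht
  have hfield : IsField Γ(Spec (CommRingCat.of k), j.U) := by
    rw [hjU]
    exact MulEquiv.isField (Field.toIsField k)
      (Scheme.ΓSpecIso (CommRingCat.of k)).commRingCatIsoToRingEquiv.toMulEquiv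
  unfold PieceSepSD
  letI := (p.appLE j.U j.V j.hVU).hom.toAlgebra
  letI := (q.appLE j.U j.U' j.hU'U).hom.toAlgebra
  letI := hfield.toField
  exact sepMaps_baseChange_field Γ(S', j.U')
    (fun k' : AffOver f j.V => Algebra.linearMap Γ(X, j.V) (Nsec f j.V k'))
    (sepMaps_of_schDom f hdom j.hV)

end Groth.Agent.S4877
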