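import Groth.Statements.S4905
import Groth.Agent.S4877
import Groth.Agent.Lib.Helper10RedInd

set_option autoImplicit false
set_option linter.style.haveILetI false
universe u
open CategoryTheory AlgebraicGeometry
open EGA43

namespace Groth.Agent.S4905

open Limits Scheme.IdealSheafData TopologicalSpace

/-- a geometrically reduced (at all points) `k`-scheme is reduced. -/
theorem isReduced_of_isGeomReducedAt {k : Type u} [Field k] {Z : Scheme.{u}}
    (s : Z ⟶ Spec (CommRingCat.of k)) (h : ∀ z : Z, FBase.IsGeomReducedAt s z) : IsReduced Z := by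
  haveI h1 : IsReduced (FBase.bc s k) := by
    haveI : ∀ y : FBase.bc s k, _root_.IsReduced ((FBase.bc s k).presheaf.stalk y) :=
      fun y => h _ k y rfl
    exact isReduced_of_isReduced_stalk _
  have hid : Spec.map (CommRingCat.ofHom (algebraMap k k)) = 𝟙 _ := by
    rw [Algebra.algebraMap_self]
    exact Spec.map_id _
  haveI : IsIso (Spec.map (CommRingCat.ofHom (algebraMap k k))) := by
    rw [hid]; infer_instance
  haveI : IsIso (pullback.fst s (Spec.map (CommRingCat.ofHom (algebraMap k k)))) :=
    pullback_fst_iso_of_right_iso _ _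
  let e : pullback s (Spec.map (CommRingCat.ofHom (algebraMap k k))) ≅ Z :=
    asIso (pullback.fst s (Spec.map (CommRingCat.ofHom (algebraMap k k))))
  haveI h2 : IsReduced (pullback s (Spec.map (CommRingCat.ofHom (algebraMap k k)))) := h1
  exact isReduced_of_isOpenImmersion e.inv

/-- the base change to any field extension of a geometrically reduced (at all points) `k`-scheme is reduced. -/
theorem isReduced_bc_of_isGeomReducedAt {k : Type u} [Field k] {Z : Scheme.{u}}
    (s : Z ⟶ Spec (CommRingCat.of k)) (h : ∀ z : Z, FBase.IsGeomReducedAt s z)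
    (k' : Type u) [Field k'] [Algebra k k'] :
    IsReduced (pullback s (Spec.map (CommRingCat.ofHom (algebraMap k k')))) := by
  haveI : ∀ y : FBase.bc s k', _root_.IsReduced ((FBase.bc s k').presheaf.stalk y) :=
    fun y => h _ k' y rfl
  exact (isReduced_of_isReduced_stalk (FBase.bc s k'))

/-- a family of morphisms into a reduced scheme with dense union of images is schematically dominant. -/
theorem schDom_of_dense {Y : Scheme.{u}} [IsReduced Y] {ι : Type u} (Z : ι → Scheme.{u})
    (h : ∀ i, Z i ⟶ Y) (hd : Dense (⋃ i, Set.range (h i)))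
    (V : Y.Opens) (t : Γ(Y, V)) (ht : ∀ i, (h i).app V t = 0) : t = 0 := by
  rw [← basicOpen_eq_bot_iff]
  by_contra hne
  have hne' : ((Y.basicOpen t : Y.Opens) : Set Y).Nonempty := by
    rw [Set.nonempty_iff_ne_empty]
    intro h0
    exact hne (Opens.ext h0)
  obtain ⟨y, hy1, hy2⟩ := hd.inter_open_nonempty _ (Y.basicOpen t).isOpen hne'
  obtain ⟨i, z, rfl⟩ := Set.mem_iUnion.1 hy2
  have hz : z ∈ (h i) ⁻¹ᵁ (Y.basicOpen t) := hy1
  rw [Scheme.preimage_basicOpen, ht i, Scheme.basicOpen_zero] at hz
  exact hz

/-- a scheme receiving a schematically dominant family from reduced schemes is reduced. -/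
theorem isReduced_of_schDom {Y : Scheme.{u}} {ι : Type u} (Z : ι → Scheme.{u}) [∀ i, IsReduced (Z i)]
    (h : ∀ i, Z i ⟶ Y)
    (hsd : ∀ (V : Y.Opens) (t : Γ(Y, V)), (∀ i, (h i).app V t = 0) → t = 0) : IsReduced Y := by
  refine ⟨fun V => ⟨fun t ht => ?_⟩⟩
  obtain ⟨n, hn⟩ := ht
  refine hsd V t (fun i => ?_)
  have : IsNilpotent ((h i).app V t) := ⟨n, by rw [← map_pow, hn, map_zero]⟩
  exact this.eq_zero

open CategoryTheory.Limits in
/-- Let k be a field, X a k-scheme, (f_i : Z_i ⟶ X) a family of k-morphisms with every Z_i geometrically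
reduced over k, and Y the reduced closed subscheme of X whose underlying space is the closure of ⋃
f_i(Z_i), i.e. the closed subscheme defined by the vanishing ideal sheaf of that closed set. Let k'
be a field extension of k, X' = X ⊗_k k' and f'_i : Z_i ⊗_k k' ⟶ X' the base changes. Then the
reduced closed subscheme of X' on the closure of ⋃ f'_i(Z_i ⊗_k k') is Y ⊗_k k': the vanishing ideal
sheaf of that closure equals the pullback (comap) along X' ⟶ X of the vanishing ideal sheaf defining
Y. (The published statement also concludes that Y is geometrically reduced over k; this row states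
only the equality of Y' with Y ⊗_k k'.) -/
theorem result {k : Type u} [Field k] {X : Scheme.{u}}
    (p : X ⟶ Spec (CommRingCat.of k)) {ι : Type u} (Z : ι → Scheme.{u}) (f : ∀ i, Z i ⟶ X)
    (hred : ∀ (i : ι) (z : Z i), FBase.IsGeomReducedAt (f i ≫ p) z)
    (k' : Type u) [Field k'] [Algebra k k'] :
    letI q : Spec (CommRingCat.of k') ⟶ Spec (CommRingCat.of k) := Spec.map (CommRingCat.ofHom (algebraMap k k'))
    letI f' : ∀ i, pullback (f i ≫ p) q ⟶ pullback p q :=
      fun i => pullback.map (f i ≫ p) q p q (f i) (𝟙 _) (𝟙 _) (Category.comp_id _) ((Category.comp_id _).trans (Category.id_comp _).symm)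
    Scheme.IdealSheafData.vanishingIdeal (TopologicalSpace.Closeds.closure (⋃ i, Set.range (f' i))) =
      (Scheme.IdealSheafData.vanishingIdeal (TopologicalSpace.Closeds.closure (⋃ i, Set.range (f i)))).comap
        (pullback.fst p q) := by
  set q : Spec (CommRingCat.of k') ⟶ Spec (CommRingCat.of k) :=
    Spec.map (CommRingCat.ofHom (algebraMap k k')) with hq
  set C : Closeds X := Closeds.closure (⋃ i, Set.range (f i)) with hC
  set I := vanishingIdeal C with hI
  set g : pullback p q ⟶ X := pullback.fst p q with hg
  haveI hZred : ∀ i, IsReduced (Z i) := fun i => isReduced_of_isGeomReducedAt (f i ≫ p) (hred i)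
  haveI hZ'red : ∀ i, IsReduced (pullback (f i ≫ p) q) :=
    fun i => isReduced_bc_of_isGeomReducedAt (f i ≫ p) (hred i) k'
  haveI hYred : IsReduced I.subscheme :=
    Groth.Agent.Lib.Helper10.RedInd.isReduced_subscheme_vanishingIdeal C
  -- factor `f i` through `Y`
  have hker : ∀ i, I.subschemeι.ker ≤ (f i).ker := by
    intro i
    rw [ker_subschemeι, Groth.Agent.Lib.Helper10.RedInd.ker_eq_vanishingIdeal_of_isReduced (f i)]
    refine vanishingIdeal_antimono ?_
    show closure (Set.range (f i)) ⊆ closure (⋃ i, Set.range (f i))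
    exact closure_mono (Set.subset_iUnion (fun i => Set.range (f i)) i)
  let h : ∀ i, Z i ⟶ I.subscheme := fun i => IsClosedImmersion.lift I.subschemeι (f i) (hker i)
  have hfac : ∀ i, h i ≫ I.subschemeι = f i := fun i => IsClosedImmersion.lift_fac _ _ _
  -- the family `h` is schematically dominant
  have hrange : Set.range I.subschemeι = (C : Set X) := by
    rw [range_subschemeι]; simp [I]
  have hdense : Dense (⋃ i, Set.range (h i)) := by
    have hemb : Topology.IsEmbedding I.subschemeι := I.subschemeι.isEmbedding
    rw [hemb.isInducing.dense_iff]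
    intro y
    have himg : I.subschemeι '' (⋃ i, Set.range (h i)) = ⋃ i, Set.range (f i) := by
      rw [Set.image_iUnion]
      refine Set.iUnion_congr fun i => ?_
      rw [← Set.range_comp, ← hfac i]
      rfl
    rw [himg]
    have : I.subschemeι y ∈ Set.range I.subschemeι := ⟨y, rfl⟩
    rw [hrange] at this
    exact this
  have hsd := schDom_of_dense Z h hdense
  -- base change of the schematically dominant family
  have hsd' := Groth.Agent.S4877.result (I.subschemeι ≫ p) q Z h hsd
  have hcomp : ∀ i, h i ≫ I.subschemeι ≫ p = f i ≫ p := fun i => by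
    rw [← Category.assoc, hfac]
  haveI hZ''red : ∀ i, IsReduced (pullback (h i ≫ I.subschemeι ≫ p) q) := fun i => by
    rw [hcomp i]; exact hZ'red i
  haveI hY'red : IsReduced (pullback (I.subschemeι ≫ p) q) :=
    isReduced_of_schDom (fun i => pullback (h i ≫ I.subschemeι ≫ p) q) _ hsd'
  -- the pullback of the closed subscheme `Y` along `g` is reduced
  have hred' : IsReduced (pullback g I.subschemeι) := by
    let e : pullback I.subschemeι (pullback.fst p q) ≅ pullback (I.subschemeι ≫ p) q :=
      pullbackRightPullbackFstIso p q I.subschemeι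
    haveI h2 : IsReduced (pullback I.subschemeι (pullback.fst p q)) :=
      isReduced_of_isOpenImmersion e.hom
    show IsReduced (pullback (pullback.fst p q) I.subschemeι)
    let e' : pullback (pullback.fst p q) I.subschemeι ≅ pullback I.subschemeι (pullback.fst p q) :=
      pullbackSymmetry (pullback.fst p q) I.subschemeι
    exact isReduced_of_isOpenImmersion e'.hom
  rw [comap, Groth.Agent.Lib.Helper10.RedInd.ker_eq_vanishingIdeal_of_isReduced]
  congr 1
  apply TopologicalSpace.Closeds.ext
  rw [TopologicalSpace.Closeds.coe_closure, TopologicalSpace.Closeds.coe_closure,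
    Scheme.Pullback.range_fst, hrange]
  -- the images of the base changes
  have hrng : ∀ i, Set.range (pullback.map (f i ≫ p) q p q (f i) (𝟙 _) (𝟙 _) (Category.comp_id _)
      ((Category.comp_id _).trans (Category.id_comp _).symm)) = g ⁻¹' Set.range (f i) := by
    intro i
    set fi' := pullback.map (f i ≫ p) q p q (f i) (𝟙 _) (𝟙 _) (Category.comp_id _)
      ((Category.comp_id _).trans (Category.id_comp _).symm) with hfi'
    have w1 : fi' ≫ pullback.fst p q = pullback.fst (f i ≫ p) q ≫ f i := pullback.lift_fst _ _ _
    have w2 : fi' ≫ pullback.snd p q = pullback.snd (f i ≫ p) q := by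
      rw [hfi', pullback.map, pullback.lift_snd, Category.comp_id]
    have hsq : IsPullback fi' (pullback.fst (f i ≫ p) q) g (f i) := by
      refine IsPullback.of_right ?_ w1 (IsPullback.of_hasPullback p q).flip
      rw [w2]
      exact (IsPullback.of_hasPullback (f i ≫ p) q).flip
    have e1 : fi' = hsq.isoPullback.hom ≫ pullback.fst g (f i) := (hsq.isoPullback_hom_fst).symm
    have hsurj : Function.Surjective hsq.isoPullback.hom :=
      hsq.isoPullback.hom.homeomorph.surjective
    rw [e1, Scheme.Hom.comp_base, TopCat.coe_comp, Set.range_comp,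
      Set.range_eq_univ.2 hsurj, Set.image_univ, Scheme.Pullback.range_fst]
  simp_rw [hrng]
  rw [← Set.preimage_iUnion]
  have hopen : IsOpenMap g := (pullback.fst p q).isOpenMap
  rw [← hopen.preimage_closure_eq_closure_preimage g.continuous]
  have hCc : closure (⋃ i, Set.range (f i)) = (C : Set X) := rfl
  rw [hCc]
  exact ((C.isClosed.preimage g.continuous).closure_eq).symm

end Groth.Agent.S4905
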