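import Groth.Statements.S4908
import Groth.Agent.R2.H22SepPull
import Groth.Agent.R2.H22SepDescent

set_option autoImplicit false
set_option linter.style.haveILetI false
universe u
open CategoryTheory AlgebraicGeometry
open EGA43

namespace Groth.Agent.S4908

open Groth.Agent.R2.H22.SepCore Groth.Agent.R2.H22.SepSheaf Groth.Agent.R2.H22.SepPull
  Groth.Agent.R2.H22.SepDescent Groth.Agent.Lib.Helper20.Thickening
  Groth.Agent.Lib.Helper20.PullbackAff TopologicalSpace TensorProduct

/-- Case Z_λ = X: let X be a scheme, u_i : F ⟶ G_i a family of homomorphisms of quasi-coherent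
O_X-modules and g : X' ⟶ X a faithfully flat morphism. If the family (g^*u_i : g^*F ⟶ g^*G_i) is
separating — a section of g^*F over an open subset killed by every g^*u_i is zero — then the family
(u_i) is separating. (The published statement allows homomorphisms into direct images (f_λ)_*G_λ
along morphisms f_λ : Z_λ ⟶ X; this row is the case Z_λ = X, to which the general case reduces.) -/
theorem result {X X' : Scheme.{u}} (F : X.Modules) [Coh.IsQCoh F] {ι : Type u}
    (G : ι → X.Modules) [∀ i, Coh.IsQCoh (G i)] (u : ∀ i, F ⟶ G i) (g : X' ⟶ X) [Flat g] [Surjective g]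
    (h : (∀ (V : (X').Opens) (t : ↑(((Scheme.Modules.pullback g).obj F).presheaf.obj (Opposite.op V))), (∀ i, (Scheme.Modules.Hom.mapPresheaf ((Scheme.Modules.pullback g).map (u i))).app (Opposite.op V) t = 0) → t = 0)) :
    (∀ (V : (X).Opens) (t : ↑((F).presheaf.obj (Opposite.op V))), (∀ i, (Scheme.Modules.Hom.mapPresheaf (u i)).app (Opposite.op V) t = 0) → t = 0) := by
  have hP : ∀ V' : X'.Opens, PullSepOn g (V' := V') u := fun V' t ht => h V' t ht
  refine sep_of_basis u (fun V : X.affineOpens => V.1)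
    (by rw [Subtype.range_coe]; exact X.isBasis_affineOpens) ?_
  rintro ⟨V, hV'⟩ t ht
  have hV : IsAffineOpen V := hV'
  apply (ΓUEquiv hV F).injective
  rw [map_zero]
  apply eq_zero_of_tmul_eq_zero (A := Γ(X, V))
  intro p hp
  haveI := hp.isPrime
  let P : PrimeSpectrum Γ(X, V) := ⟨p, hp.isPrime⟩
  have hxV : hV.fromSpec P ∈ V := by
    have : hV.fromSpec P ∈ Set.range hV.fromSpec := ⟨P, rfl⟩
    rw [hV.range_fromSpec] at this
    exact this
  obtain ⟨x', hx'⟩ := g.surjective (hV.fromSpec P)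
  obtain ⟨V', hV', hx'V', hle⟩ := exists_isAffineOpen_mem_and_subset (x := x') (U := g ⁻¹ᵁ V)
    (by show g x' ∈ V; rw [hx']; exact hxV)
  letI := (g.appLE V V' hle).hom.toAlgebra
  have hflat : Module.Flat Γ(X, V) Γ(X', V') :=
    HasRingHomProperty.appLE (P := @Flat) g inferInstance ⟨V, hV⟩ ⟨V', hV'⟩ hle
  refine ⟨Γ(X', V'), inferInstance, inferInstance, hflat,
    ⟨(hV'.primeIdealOf ⟨x', hx'V'⟩).asIdeal, inferInstance, ?_⟩, ?_⟩
  · have h1 := IsAffineOpen.comap_primeIdealOf_appLE V hV V' hV' hle hx'V'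
    have h2 : hV.primeIdealOf ⟨g x', hle hx'V'⟩ = P := by
      apply hV.fromSpec.isOpenEmbedding.injective
      rw [hV.fromSpec_primeIdealOf]
      exact hx'
    rw [h2] at h1
    exact congrArg PrimeSpectrum.asIdeal h1
  · refine (pullSepOn_iff_tensorInj g hV hV' hle u).1 (hP V') ((1 : Γ(X', V')) ⊗ₜ ΓUEquiv hV F t) ?_
    intro i
    change (1 : Γ(X', V')) ⊗ₜ[Γ(X, V)] (((ΓUF hV).map (u i)).hom (ΓUEquiv hV F t)) = 0
    rw [← ΓUEquiv_app, ht i, map_zero, tmul_zero]

end Groth.Agent.S4908
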