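import Groth.Statements.S4909
import Groth.Agent.R2.H22SepPull
import Groth.Agent.R2.H22SepFlat

set_option autoImplicit false
set_option linter.style.haveILetI false
universe u
open CategoryTheory AlgebraicGeometry
open EGA43

namespace Groth.Agent.S4909

open Groth.Agent.R2.H22.SepCore Groth.Agent.R2.H22.SepSheaf Groth.Agent.R2.H22.SepPull
  Groth.Agent.R2.H22.SepFlat Groth.Agent.Lib.Helper20.Thickening TopologicalSpace

/-- affine opens of `X'` lying over an affine open of `X` form a basis. -/
theorem isBasis_affine_over {X X' : Scheme.{u}} (g : X' ⟶ X) :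
    Opens.IsBasis (Set.range (fun U : {V' : X'.Opens // IsAffineOpen V' ∧
      ∃ V : X.Opens, IsAffineOpen V ∧ V' ≤ g ⁻¹ᵁ V} => U.1)) := by
  rw [Opens.isBasis_iff_nbhd]
  intro W x hxW
  obtain ⟨V, hV, hxV, -⟩ := exists_isAffineOpen_mem_and_subset (x := g x) (U := ⊤) trivial
  obtain ⟨V', hV', hxV', hle⟩ := exists_isAffineOpen_mem_and_subset (x := x) (U := W ⊓ g ⁻¹ᵁ V)
    ⟨hxW, hxV⟩
  exact ⟨V', ⟨⟨V', hV', V, hV, hle.trans inf_le_right⟩, rfl⟩, hxV', hle.trans inf_le_left⟩

/-- Case Z_λ = X: let X be a scheme, u_i : F ⟶ G_i a separating family of homomorphisms of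
quasi-coherent O_X-modules (a section of F over an open subset killed by every u_i is zero) and g :
X' ⟶ X a flat morphism locally of finite presentation. Then the family (g^*u_i : g^*F ⟶ g^*G_i) is
separating. (The published statement allows homomorphisms into direct images (f_λ)_*G_λ; this row is
the case Z_λ = X, to which the general case reduces.) -/
theorem result {X X' : Scheme.{u}} (F : X.Modules) [Coh.IsQCoh F] {ι : Type u}
    (G : ι → X.Modules) [∀ i, Coh.IsQCoh (G i)] (u : ∀ i, F ⟶ G i) (g : X' ⟶ X) [Flat g] [LocallyOfFinitePresentation g]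
    (h : (∀ (V : (X).Opens) (t : ↑((F).presheaf.obj (Opposite.op V))), (∀ i, (Scheme.Modules.Hom.mapPresheaf (u i)).app (Opposite.op V) t = 0) → t = 0)) :
    (∀ (V : (X').Opens) (t : ↑(((Scheme.Modules.pullback g).obj F).presheaf.obj (Opposite.op V))), (∀ i, (Scheme.Modules.Hom.mapPresheaf ((Scheme.Modules.pullback g).map (u i))).app (Opposite.op V) t = 0) → t = 0) := by
  have hu : Sep u := h
  refine sep_of_basis (fun i => (Scheme.Modules.pullback g).map (u i)) _ (isBasis_affine_over g) ?_
  rintro ⟨V', hV', V, hV, hle⟩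
  refine (pullSepOn_iff_tensorInj g hV hV' hle u).2 ?_
  intro x hx
  letI := (g.appLE V V' hle).hom.toAlgebra
  haveI : Module.Flat Γ(X, V) Γ(X', V') :=
    HasRingHomProperty.appLE (P := @Flat) g inferInstance ⟨V, hV⟩ ⟨V', hV'⟩ hle
  haveI : Algebra.FinitePresentation Γ(X, V) Γ(X', V') :=
    HasRingHomProperty.appLE (P := @LocallyOfFinitePresentation) g inferInstance ⟨V, hV⟩
      ⟨V', hV'⟩ hle
  have key := eq_zero_of_flat_finitePresentation (A := Γ(X, V)) (B := Γ(X', V'))
    (fun i => ((ΓUF hV).map (u i)).hom) (sepMaps_ΓUF u hu hV)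
  exact key x hx

end Groth.Agent.S4909
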