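import Groth.Statements.S4911
import Groth.Agent.R2.H22SepProd

set_option autoImplicit false
set_option linter.style.haveILetI false
universe u
open CategoryTheory AlgebraicGeometry
open EGA43

namespace Groth.Agent.S4911

open Groth.Agent.R2.H22.SepCore Groth.Agent.R2.H22.SepSheaf Groth.Agent.R2.H22.SepPull
  Groth.Agent.R2.H22.SepProd Groth.Agent.R2.H22.SepLim Groth.Agent.Lib.Helper20.Thickening
  TopologicalSpace TensorProduct Limits

/-- Case Z_λ = X: let k be a field, X a k-scheme, u_i : F ⟶ G_i a separating family of homomorphisms of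
quasi-coherent O_X-modules (a section of F over an open subset killed by every u_i is zero) and S'
an arbitrary k-scheme. Then the family pulled back to X ×_k S' is separating. (The published
statement allows homomorphisms into direct images (f_λ)_*G_λ; this row is the case Z_λ = X.) -/
theorem result {k : Type u} [Field k] {X S' : Scheme.{u}}
    (p : X ⟶ Spec (CommRingCat.of k)) (q : S' ⟶ Spec (CommRingCat.of k))
    (F : X.Modules) [Coh.IsQCoh F] {ι : Type u} (G : ι → X.Modules) [∀ i, Coh.IsQCoh (G i)] (u : ∀ i, F ⟶ G i)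
    (h : (∀ (V : (X).Opens) (t : ↑((F).presheaf.obj (Opposite.op V))), (∀ i, (Scheme.Modules.Hom.mapPresheaf (u i)).app (Opposite.op V) t = 0) → t = 0)) :
    (∀ (V : (pullback p q).Opens) (t : ↑(((Scheme.Modules.pullback (pullback.fst p q)).obj F).presheaf.obj (Opposite.op V))), (∀ i, (Scheme.Modules.Hom.mapPresheaf ((Scheme.Modules.pullback (pullback.fst p q)).map (u i))).app (Opposite.op V) t = 0) → t = 0) := by
  have hu : Sep u := h
  refine sep_of_basis (fun i => (Scheme.Modules.pullback (pullback.fst p q)).map (u i))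
    (fun j : {j : Piece p q // j.U ∈ ({⊤} : Set (Spec (CommRingCat.of k)).Opens)} => j.1.D)
    (isBasis_pieces_of_cover p q {⊤} (fun s => ⟨⊤, rfl, isAffineOpen_top _, trivial⟩)) ?_
  rintro ⟨j, hj⟩
  have hjU : j.U = ⊤ := hj
  refine pullSepOn_piece u j ?_
  have hfield : IsField Γ(Spec (CommRingCat.of k), j.U) := by
    rw [hjU]
    exact MulEquiv.isField (Field.toIsField k)
      (Scheme.ΓSpecIso (CommRingCat.of k)).commRingCatIsoToRingEquiv.toMulEquiv
  unfold PieceSep
  letI := (p.appLE j.U j.V j.hVU).hom.toAlgebra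
  letI := (q.appLE j.U j.U' j.hU'U).hom.toAlgebra
  letI := hfield.toField
  exact sepMaps_baseChange_field Γ(S', j.U') (fun i => ((ΓUF j.hV).map (u i)).hom)
    (sepMaps_ΓUF u hu j.hV)

end Groth.Agent.S4911
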