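import Groth.Statements.S4912
import Groth.Agent.R2.H22SepPull
import Groth.Agent.R2.H22SepArt
import Groth.Agent.R2.H22SepBasis

set_option autoImplicit false
set_option linter.style.haveILetI false
universe u
open CategoryTheory AlgebraicGeometry
open EGA43

namespace Groth.Agent.S4912

open Groth.Agent.R2.H22.SepCore Groth.Agent.R2.H22.SepSheaf Groth.Agent.R2.H22.SepPull
  Groth.Agent.R2.H22.SepArt Groth.Agent.R2.H22.SepBasis Groth.Agent.Lib.Helper20.Thickening
  TopologicalSpace

/-- Case Z_λ = X: let X be an Artinian scheme (Noetherian of dimension ≤ 0), u_i : F ⟶ G_i a separating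
family of homomorphisms of quasi-coherent O_X-modules (a section of F over an open subset killed by
every u_i is zero) and g : X' ⟶ X a flat morphism; for instance X the spectrum of a field and g
arbitrary. Then the family (g^*u_i) on X' is separating. (The published statement allows
homomorphisms into direct images (f_λ)_*G_λ; this row is the case Z_λ = X, to which the general case
reduces.) -/
theorem result {X X' : Scheme.{u}} [IsNoetherian X]
    (hX : topologicalKrullDim X ≤ 0) (F : X.Modules) [Coh.IsQCoh F] {ι : Type u}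
    (G : ι → X.Modules) [∀ i, Coh.IsQCoh (G i)] (u : ∀ i, F ⟶ G i) (g : X' ⟶ X) [Flat g]
    (h : (∀ (V : (X).Opens) (t : ↑((F).presheaf.obj (Opposite.op V))), (∀ i, (Scheme.Modules.Hom.mapPresheaf (u i)).app (Opposite.op V) t = 0) → t = 0)) :
    (∀ (V : (X').Opens) (t : ↑(((Scheme.Modules.pullback g).obj F).presheaf.obj (Opposite.op V))), (∀ i, (Scheme.Modules.Hom.mapPresheaf ((Scheme.Modules.pullback g).map (u i))).app (Opposite.op V) t = 0) → t = 0) := by
  haveI : IsLocallyArtinian X := .of_topologicalKrullDim_le_zero hX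
  have hu : Sep u := h
  refine sep_of_basis (fun i => (Scheme.Modules.pullback g).map (u i)) _ (isBasis_affine_over g) ?_
  rintro ⟨V', hV', V, hV, hle⟩
  refine (pullSepOn_iff_tensorInj g hV hV' hle u).2 ?_
  intro x hx
  letI := (g.appLE V V' hle).hom.toAlgebra
  haveI : Module.Flat Γ(X, V) Γ(X', V') :=
    HasRingHomProperty.appLE (P := @Flat) g inferInstance ⟨V, hV⟩ ⟨V', hV'⟩ hle
  haveI : IsArtinianRing Γ(X, V) := IsLocallyArtinian.isArtinianRing_presheaf_obj ⟨V, hV⟩
  have key := eq_zero_of_artinian (A := Γ(X, V)) (B := Γ(X', V'))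
    (fun i => ((ΓUF hV).map (u i)).hom) (sepMaps_ΓUF u hu hV)
  exact key x hx

end Groth.Agent.S4912
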