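import Groth.Statements.S4993
import Groth.Agent.R2.H19SmoothRank

set_option autoImplicit false
universe u
open CategoryTheory CategoryTheory.Limits AlgebraicGeometry TopologicalSpace
open Unram17

namespace Groth.Agent.S4993

/-- Let f : Y ⟶ S and h : X ⟶ S be smooth and let g : X ⟶ Y satisfy g ≫ f = h. Then g is an open
immersion if and only if g is a monomorphism and, for every point x of X, the local dimension at
g(x) of the fibre of f through g(x) equals the local dimension at x of the fibre of h through x. -/
theorem result {X Y S : Scheme.{u}} (f : Y ⟶ S) (h : X ⟶ S)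
    [Smooth f] [Smooth h] (g : X ⟶ Y) (w : g ≫ f = h) :
    IsOpenImmersion g ↔ Mono g ∧ ∀ x : ↥X, FlatMor.fibreDimAt f (g.base x) = FlatMor.fibreDimAt h x := by
  subst w
  constructor
  · intro hg
    refine ⟨inferInstance, fun x => ?_⟩
    have h1 := Groth.Agent.Lib.Helper3.SmDim.fibreDimAt_comp_of_smooth g f x
    have h2 := Groth.Agent.Lib.Helper3.SmDim.fibreDimAt_eq_of_smoothOfRelativeDimension 0 g x
    rw [h1, h2]
    simp
  · rintro ⟨hm, hdim⟩
    haveI := hm
    exact Groth.Agent.R2.H19.SmoothRank.isOpenImmersion_of_mono_of_fibreDimAt_eq f g hdim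

end Groth.Agent.S4993
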