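import Groth.Statements.S5114
import Groth.Agent.R2.H68HensCover

set_option autoImplicit false
universe u
open SGA1

namespace Groth.Agent.S5114

open AlgebraicGeometry CategoryTheory CategoryTheory.Limits in
/-- Let A be a complete Noetherian local ring, S = Spec A, and g : S' ⟶ S a surjective morphism of
finite type whose fibre over the closed point s is finite. If every point of S' specialises to some
point of the fibre over s (equivalently: the disjoint union of the spectra of the local rings of S'
at the points over s maps onto S'), then g is universally submersive. (The published statement
asserts an equivalence and does not mention surjectivity of g; the converse fails: for A a complete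
discrete valuation ring with fraction field K, S' = S ⊔ Spec K ⟶ S has a section, hence is
universally submersive, while the isolated point Spec K specialises to no point over s. This row
states the implication the published proof establishes, with the surjectivity it uses.) -/
theorem result (A : Type u) [CommRing A]
    [IsNoetherianRing A] [IsLocalRing A] [IsAdicComplete (IsLocalRing.maximalIdeal A) A]
    {S' : Scheme.{u}} (g : S' ⟶ Spec (CommRingCat.of A)) [LocallyOfFiniteType g] [QuasiCompact g]
    [Surjective g]
    (hfin : (g.base ⁻¹' {IsLocalRing.closedPoint A}).Finite)
    (hsp : ∀ t : S', ∃ s' : S', g.base s' = IsLocalRing.closedPoint A ∧ t ⤳ s') :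
    SGA1.UnivSubmersive g := by
  open AlgebraicGeometry in
  have : HenselianLocalRing A :=
    { is_henselian := fun f hf a₀ h₁ h₂ =>
        HenselianRing.is_henselian (I := IsLocalRing.maximalIdeal A) f hf a₀ h₁ (h₂.map _) }
  have : UniversallyClosed g := by
    apply Groth.Agent.R2.H68.HensCover.universallyClosed_of_openCover
    intro t
    obtain ⟨s', hs', hts'⟩ := hsp t
    have hqf : g.QuasiFiniteAt s' := by
      rw [Scheme.Hom.quasiFiniteAt_iff_isOpen_singleton_asFiber]
      have : Finite (g.fiber (g s')) := by
        have hs'' : g s' = IsLocalRing.closedPoint A := hs'
        rw [hs'']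
        have := hfin.to_subtype
        exact Finite.of_equiv _ (g.fiberHomeo (IsLocalRing.closedPoint A)).symm.toEquiv
      exact isOpen_discrete _
    obtain ⟨T, τ, hτ, hfinτ, hmem⟩ :=
      Groth.Agent.R2.H68.HensCover.exists_open_finite A g s' hs' hqf
    exact ⟨T, τ, hτ, inferInstance, hts'.mem_open τ.isOpenEmbedding.isOpen_range hmem⟩
  exact Groth.Agent.Lib.Helper12.Submersive.us_of_universallyClosed g

end Groth.Agent.S5114
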