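import Groth.Statements.S5196
import Groth.Agent.R2.H93FlatLocalDelta
import Groth.Agent.R2.H93TrdegFibre
-- import your own Groth.Agent.* helpers here

set_option autoImplicit false
universe u
open CategoryTheory CategoryTheory.Limits AlgebraicGeometry Opposite
open EtDepth

namespace Groth.Agent.S5196

open Groth.Agent.R2.H93.FlatLocalDelta Groth.Agent.R2.H93.TrdegFibre

theorem trdeg_congr_point {X S : Scheme.{u}} (f : X ⟶ S) {x₁ x₂ : X} (e : x₁ = x₂) :
    @Algebra.trdeg ↑(S.residueField (f.base x₁)) ↑(X.residueField x₁) _ _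
        (f.residueFieldMap x₁).hom.toAlgebra =
    @Algebra.trdeg ↑(S.residueField (f.base x₂)) ↑(X.residueField x₂) _ _
        (f.residueFieldMap x₂).hom.toAlgebra := by
  subst e; rfl

/-- Let A → A' be a faithfully flat homomorphism of Noetherian local rings whose fibre over the closed
point of Spec A is the single closed point of Spec A' (the only prime of A' over m_A is m_{A'}), f :
X → Spec A a morphism locally of finite type, X' = X ×_A A' with projections h : X' → X and f' : X'
→ Spec A'. For a point x' of X' put x = h(x'), s = f(x), s' = f'(x'). Then trdeg(κ(x')/κ(s')) ≤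
trdeg(κ(x)/κ(s)) and dim A'/p_{s'} ≤ dim A/p_s, so that δ(x') ≤ δ(x) for δ(x) = trdeg(κ(x)/κ(s)) +
dim cl(s), with equality exactly when both inequalities are equalities; and for every point x of X
there is a point x' of X' over x for which both are equalities. -/
theorem result (A A' : Type u) [CommRing A] [CommRing A'] [IsLocalRing A] [IsLocalRing A'] [IsNoetherianRing A] [IsNoetherianRing A'] [Algebra A A'] [Module.FaithfullyFlat A A'] (hfib : ∀ q : Ideal A', ∀ _ : q.IsPrime, q.comap (algebraMap A A') = IsLocalRing.maximalIdeal A → q = IsLocalRing.maximalIdeal A') (X : Scheme.{u}) (f : X ⟶ (Spec (CommRingCat.of A))) [LocallyOfFiniteType f] : (∀ x' : ↥(pullback f (Spec.map (CommRingCat.ofHom (algebraMap A A')))), @Algebra.trdeg ↑((Spec (CommRingCat.of A')).residueField ((pullback.snd f (Spec.map (CommRingCat.ofHom (algebraMap A A')))).base x')) ↑((pullback f (Spec.map (CommRingCat.ofHom (algebraMap A A')))).residueField x') _ _ ((pullback.snd f (Spec.map (CommRingCat.ofHom (algebraMap A A')))).residueFieldMap x').hom.toAlgebra ≤ @Algebra.trdeg ↑((Spec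 (CommRingCat.of A)).residueField (f.base ((pullback.fst f (Spec.map (CommRingCat.ofHom (algebraMap A A')))).base x'))) ↑(X.residueField ((pullback.fst f (Spec.map (CommRingCat.ofHom (algebraMap A A')))).base x')) _ _ (f.residueFieldMap ((pullback.fst f (Spec.map (CommRingCat.ofHom (algebraMap A A')))).base x')).hom.toAlgebra ∧ ringKrullDim (A' ⧸ ((pullback.snd f (Spec.map (CommRingCat.ofHom (algebraMap A A')))).base x').asIdeal) ≤ ringKrullDim (A ⧸ (f.base ((pullback.fst f (Spec.map (CommRingCat.ofHom (algebraMap A A')))).base x')).asIdeal)) ∧ (∀ x : X, ∃ x' : ↥(pullback f (Spec.map (CommRingCat.ofHom (algebraMap A A')))), (pullback.fst f (Spec.map (CommRingCat.ofHom (algebraMap A A')))).base x' = x ∧ @Algebra.trdeg ↑((Spec (CommRingCat.of A')).residueField ((pullback.snd f (Spec.map (CommRingCat.ofHom (algebraMap A A')))).base x')) ↑((pullback f (Spec.map (CommRingCat.ofHom (algebraMap A A')))).residueField x') _ _ ((pullback.snd f (Spec.map (CommRingCat.ofHom (algebraMap A A')))).residueFieldMap x').hom.toAlgebra = @Algebra.trdeg ↑((Spec (CommRingCat.of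 A)).residueField (f.base ((pullback.fst f (Spec.map (CommRingCat.ofHom (algebraMap A A')))).base x'))) ↑(X.residueField ((pullback.fst f (Spec.map (CommRingCat.ofHom (algebraMap A A')))).base x')) _ _ (f.residueFieldMap ((pullback.fst f (Spec.map (CommRingCat.ofHom (algebraMap A A')))).base x')).hom.toAlgebra ∧ ringKrullDim (A' ⧸ ((pullback.snd f (Spec.map (CommRingCat.ofHom (algebraMap A A')))).base x').asIdeal) = ringKrullDim (A ⧸ (f.base ((pullback.fst f (Spec.map (CommRingCat.ofHom (algebraMap A A')))).base x')).asIdeal)) := by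
  set g := Spec.map (CommRingCat.ofHom (algebraMap A A')) with hg
  -- the image of a point of `Spec A'` in `Spec A`
  have hgbase : ∀ y : ↥(Spec (CommRingCat.of A')),
      (g.base y).asIdeal = y.asIdeal.comap (algebraMap A A') := fun y => rfl
  have hcondpt : ∀ x' : ↥(pullback f g),
      f.base ((pullback.fst f g).base x') = g.base ((pullback.snd f g).base x') := by
    intro x'
    have := congr($(pullback.condition (f := f) (g := g)).base x')
    exact this
  refine ⟨fun x' => ⟨trdeg_snd_le f g x', ?_⟩, fun x => ?_⟩
  · rw [hcondpt x', hgbase]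
    have : ((pullback.snd f g).base x').asIdeal.IsPrime := ((pullback.snd f g).base x').2
    exact ringKrullDim_quotient_le_of_comap hfib ((pullback.snd f g).base x').asIdeal
  · have hp : (f.base x).asIdeal.IsPrime := (f.base x).2
    obtain ⟨Q, hQ, hQp, hdim⟩ :=
      exists_prime_comap_eq_ringKrullDim_quotient_eq hfib (f.base x).asIdeal
    let y : ↥(Spec (CommRingCat.of A')) := ⟨Q, hQ⟩
    have hxy : f.base x = g.base y := by
      apply PrimeSpectrum.ext
      rw [hgbase]
      exact hQp.symm
    obtain ⟨t, h1, h2, h3⟩ := exists_point_trdeg_ge f g x y hxy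
    refine ⟨t, h1, le_antisymm (trdeg_snd_le f g t) ?_, ?_⟩
    · rw [trdeg_congr_point f h1]
      exact h3
    · rw [h1, h2]
      exact hdim

end Groth.Agent.S5196
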