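import Groth.Statements.S5232
import Groth.Agent.R2.H53RepDesc
import Groth.Agent.S7482
import Groth.Agent.R2.H44FppfLocal

set_option autoImplicit false
open CategoryTheory CategoryTheory.Limits AlgebraicGeometry
universe u
open GrpQ

namespace Groth.Agent.S5232

open Groth.Agent.R2.H53.RepDesc

/-- affine morphisms are ind-quasi-affine. -/
lemma isIndQuasiAffineHom_of_isAffineHom {X Y : Scheme.{u}} (g : X ⟶ Y) [IsAffineHom g] :
    MoreMor.IsIndQuasiAffineHom g := by
  intro V hV W hW
  have : IsAffine (g ⁻¹ᵁ V : Scheme.{u}) := hV.preimage g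
  have : CompactSpace ↥(W : Scheme.{u}) := isCompact_iff_compactSpace.mp hW
  exact Scheme.IsQuasiAffine.of_isImmersion W.ι

/-- On the big fppf site of a scheme `S`, in the case where the local representing objects are affine
over the cover (so that the canonical descent datum is effective): if `Z` is an fppf sheaf over `S`
and, for an fppf cover `S' ⟶ S`, the sheaf `Z ×_S S'` is represented over `S'` by a scheme affine
over `S'`, then `Z` is represented by a scheme affine over `S`. -/
theorem result {S S' : Scheme.{u}} (f : S' ⟶ S)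
    [Flat f] [Surjective f] [LocallyOfFinitePresentation f]
    (Z : QuotSh.Sh Scheme.fppfPrecoverage S)
    (T' : Over S) (a : T' ⟶ Over.mk f) [IsAffineHom a.left]
    (φ : QuotSh.rep Scheme.fppfPrecoverage T' ≅ Z ⨯ QuotSh.rep Scheme.fppfPrecoverage (Over.mk f))
    (hφ : φ.hom ≫ prod.snd = QuotSh.repMap Scheme.fppfPrecoverage a) :
    ∃ T : Over S, IsAffineHom T.hom ∧ Nonempty (QuotSh.rep Scheme.fppfPrecoverage T ≅ Z) := by
  have ha : IsAffineHom a.left := ‹_›
  have hf : Presieve.ofArrows (fun _ : PUnit.{u + 1} => S') (fun _ => f) ∈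
      Scheme.fpqcPrecoverage S := by
    rw [Presieve.ofArrows_pUnit]
    exact Scheme.fppfPrecoverage_le_fpqcPrecoverage _ f.singleton_mem_fppfPrecoverage
  have hD : ∀ i, MoreMor.IsIndQuasiAffineHom ((dd φ hφ).obj i).hom := by
    intro i
    change MoreMor.IsIndQuasiAffineHom a.left
    exact isIndQuasiAffineHom_of_isAffineHom a.left
  obtain ⟨U, ⟨ψ⟩⟩ := Groth.Agent.S7482.result _ hf (dd φ hφ) hD
  refine ⟨U, ?_, nonempty_iso_of_effective φ hφ U ψ⟩
  -- affineness descends
  have he : (ψ.hom.hom PUnit.unit).left ≫ a.left = pullback.fst f U.hom :=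
    Over.w (ψ.hom.hom PUnit.unit)
  have hiso : IsIso (ψ.hom.hom PUnit.unit).left := by
    refine ⟨(ψ.inv.hom PUnit.unit).left, ?_, ?_⟩
    · exact congrArg (fun m => (Desc.SchDDFam.Hom.hom m PUnit.unit).left) ψ.hom_inv_id
    · exact congrArg (fun m => (Desc.SchDDFam.Hom.hom m PUnit.unit).left) ψ.inv_hom_id
  have haff : IsAffineHom (pullback.fst f U.hom) := by
    rw [← he]
    have : IsAffineHom (ψ.hom.hom PUnit.unit).left := inferInstance
    exact MorphismProperty.comp_mem _ _ _ this ha
  have := Groth.Agent.Lib.Helper12.descendsAlong_isAffineHom.{u}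
  exact MorphismProperty.of_pullback_fst_of_descendsAlong (P := @IsAffineHom)
    (Q := @Surjective ⊓ @Flat ⊓ @LocallyOfFinitePresentation) (f := f) (g := U.hom)
    ⟨⟨inferInstance, inferInstance⟩, inferInstance⟩ haff

end Groth.Agent.S5232
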