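import Groth.Statements.S5238
import Groth.Agent.S1375

set_option autoImplicit false
open CategoryTheory AlgebraicGeometry
universe w u
open GrpQ

namespace Groth.Agent.S5238

/-- flat, locally of finite presentation and locally quasi-finite -/
abbrev PQ : MorphismProperty Scheme.{u} :=
  (@Flat ⊓ @LocallyOfFinitePresentation) ⊓ @LocallyQuasiFinite

instance : PQ.{u}.IsMultiplicative where
  id_mem _ := ⟨⟨inferInstance, inferInstance⟩, inferInstance⟩
  comp_mem f g hf hg :=
    ⟨⟨MorphismProperty.comp_mem _ f g hf.1.1 hg.1.1, MorphismProperty.comp_mem _ f g hf.1.2 hg.1.2⟩,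
      MorphismProperty.comp_mem _ f g hf.2 hg.2⟩

/-- Every fppf covering is refined by a quasi-compact covering by flat, locally finitely presented,
locally quasi-finite morphisms (existence of quasi-finite flat quasi-sections). -/
theorem fppfTopology_le : Scheme.fppfTopology.{u} ≤ Scheme.propQCTopology PQ.{u} := by
  rw [Precoverage.toGrothendieck_le_iff_le_toPrecoverage]
  intro X R hR
  rw [GrothendieckTopology.mem_toPrecoverage_iff]
  have hR' : R ∈ Scheme.precoverage (@Flat ⊓ @LocallyOfFinitePresentation) X := hR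
  obtain ⟨hsurj, hprop⟩ := hR'
  rw [Scheme.jointlySurjectivePrecoverage,
    Presieve.mem_comap_jointlySurjectivePrecoverage_iff] at hsurj
  have key : ∀ x : X, ∃ (Z : Scheme.{u}) (h : Z ⟶ X), Sieve.generate R h ∧ PQ h ∧
      x ∈ Set.range ⇑h := by
    intro x
    obtain ⟨Y, g, hg, hx⟩ := hsurj x
    have hPg : (@Flat ⊓ @LocallyOfFinitePresentation) g := hprop hg
    have : Flat g := hPg.1
    have : LocallyOfFinitePresentation g := hPg.2
    obtain ⟨Z, j, h1, h2, h3, h4⟩ := Groth.Agent.S1375.exists_slice_at g x hx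
    exact ⟨Z, j ≫ g, ⟨Y, j, g, hg, rfl⟩, ⟨⟨h1, h2⟩, h3⟩, h4⟩
  choose Z h hgen hPQ hx using key
  let 𝒰 : X.Cover (Scheme.precoverage PQ.{u}) :=
    Scheme.Cover.mkOfCovers X Z h (fun x => by
      obtain ⟨y, hy⟩ := hx x
      exact ⟨x, y, hy⟩) hPQ
  have hqc : QuasiCompactCover 𝒰.toPreZeroHypercover := by
    refine .of_isOpenMap fun i => ?_
    have : Flat (𝒰.f i) := (hPQ i).1.1
    have : LocallyOfFinitePresentation (𝒰.f i) := (hPQ i).1.2
    exact (𝒰.f i).isOpenMap
  have hmem := Scheme.Cover.mem_propQCTopology (P := PQ.{u}) 𝒰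
  refine GrothendieckTopology.superset_covering _ ?_ hmem
  rw [Sieve.ofArrows, Sieve.generate_le_iff]
  rintro W g ⟨i⟩
  exact hgen i

theorem result (F : Scheme.{u}ᵒᵖ ⥤ Type w) :
    Presheaf.IsSheaf Scheme.fppfTopology F ↔
      Presheaf.IsSheaf Scheme.zariskiTopology F ∧
        ∀ (T S : Scheme.{u}) [IsAffine T] [IsAffine S] (f : T ⟶ S)
          [Flat f] [Surjective f] [LocallyOfFinitePresentation f] [LocallyQuasiFinite f],
          Presieve.IsSheafFor F (Presieve.singleton f) := by
  rw [isSheaf_iff_isSheaf_of_type, isSheaf_iff_isSheaf_of_type]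
  constructor
  · intro hF
    refine ⟨Presieve.isSheaf_of_le _
      (Precoverage.toGrothendieck_mono Scheme.zariskiPrecoverage_le_fppfPrecoverage) hF, ?_⟩
    intro T S _ _ f _ _ _ _
    rw [Presieve.isSheafFor_iff_generate]
    exact hF _ (Precoverage.generate_mem_toGrothendieck (R := Presieve.singleton f)
      f.singleton_mem_fppfPrecoverage)
  · rintro ⟨hzar, hff⟩
    refine Presieve.isSheaf_of_le _ fppfTopology_le ?_
    rw [isSheaf_type_propQCTopology_iff]
    refine ⟨hzar, fun {R S} f hf hs => ?_⟩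
    have : Flat (Spec.map f) := hf.1.1
    have : LocallyOfFinitePresentation (Spec.map f) := hf.1.2
    have : LocallyQuasiFinite (Spec.map f) := hf.2
    exact hff _ _ (Spec.map f)

end Groth.Agent.S5238
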