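import Groth.Statements.S5254
import Groth.Agent.R2.H23ClosedSub

set_option autoImplicit false
universe u
open TensorProduct SGA3b
open SGA3b

namespace Groth.Agent.S5254

/-- Over a local base, where an open neighbourhood of the closed point is the whole base: Let R be a
local ring with maximal ideal 𝔪, H = Spec A an R-group of multiplicative type and of finite type,
and K = Spec (A/J) a closed subgroup scheme of H (J a Hopf ideal) with A/J of finite presentation
over R. If the closed fibre of K is the unit group, i.e. J + 𝔪A = Ker ε + 𝔪A with ε the counit, then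
K is the unit group: J = Ker ε. (Affine group schemes over an affine base are taken in Hopf-algebra
form; base change is the tensor product; a homomorphism of groups Spec A ⟶ Spec C is a bialgebra map
C → A.) -/
theorem result (R : Type u) [CommRing R] [IsLocalRing R]
    (A : Type u) [CommRing A] [HopfAlgebra R A] (hft : Algebra.FiniteType R A) (hH : IsMultType R A)
    (J : Ideal A) [J.IsHopfIdeal R] (hK : Algebra.FinitePresentation R (A ⧸ J))
    (hs : J ⊔ Ideal.map (algebraMap R A) (IsLocalRing.maximalIdeal R) =
      RingHom.ker (Bialgebra.counitAlgHom R A) ⊔ Ideal.map (algebraMap R A) (IsLocalRing.maximalIdeal R)) :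
    J = RingHom.ker (Bialgebra.counitAlgHom R A) := by
  haveI := hK
  have hs' : ∀ b : A ⧸ J, Groth.Agent.R2.H23.ClosedSub.augP (Bialgebra.counitAlgHom R (A ⧸ J)) b ∈
      (IsLocalRing.maximalIdeal R) • (⊤ : Submodule R (A ⧸ J)) := by
    intro b
    obtain ⟨a, rfl⟩ := Ideal.Quotient.mk_surjective b
    have h1 : a - algebraMap R A (Coalgebra.counit (R := R) a) ∈
        RingHom.ker (Bialgebra.counitAlgHom R A) :=
      Groth.Agent.R2.H23.TorsHopf.counit_sub_mem a
    have h2 : a - algebraMap R A (Coalgebra.counit (R := R) a) ∈
        J ⊔ Ideal.map (algebraMap R A) (IsLocalRing.maximalIdeal R) := by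
      rw [hs]
      exact Ideal.mem_sup_left h1
    obtain ⟨j, hj, z, hz, hjz⟩ := Submodule.mem_sup.mp h2
    have h3 : Groth.Agent.R2.H23.ClosedSub.augP (Bialgebra.counitAlgHom R (A ⧸ J))
        (Ideal.Quotient.mk J a) = (Ideal.Quotient.mkₐ R J).toLinearMap z := by
      rw [Groth.Agent.R2.H23.ClosedSub.augP_apply]
      change Ideal.Quotient.mk J a - algebraMap R (A ⧸ J) (Coalgebra.counit (R := R) a) =
        Ideal.Quotient.mk J z
      have h4 : Ideal.Quotient.mk J (a - algebraMap R A (Coalgebra.counit (R := R) a)) =
          Ideal.Quotient.mk J z := by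
        rw [← hjz, map_add, Ideal.Quotient.eq_zero_iff_mem.mpr hj, zero_add]
      rw [map_sub] at h4
      exact h4
    rw [h3]
    apply Groth.Agent.Lib.Helper25.map_mem_smul_top
    rw [Ideal.smul_top_eq_map]
    exact hz
  have hker := Groth.Agent.R2.H23.ClosedSub.trivial_of_isMultType hft hH
    (Bialgebra.Quotient.mkBialgHom J) Ideal.Quotient.mk_surjective hs'
  apply le_antisymm
  · intro x hx
    rw [RingHom.mem_ker]
    exact Submodule.IsCoideal.counit_eq_zero (I := J.restrictScalars R) hx
  · intro x hx
    have h1 : Ideal.Quotient.mk J x ∈ RingHom.ker (Bialgebra.counitAlgHom R (A ⧸ J)) := by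
      rw [RingHom.mem_ker] at hx ⊢
      exact hx
    rw [hker, Ideal.mem_bot] at h1
    exact Ideal.Quotient.eq_zero_iff_mem.mp h1

end Groth.Agent.S5254
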