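import Groth.Statements.S5263
import Groth.Agent.R2.H63HomMT
import Groth.Agent.R2.H63HomFinGrp
import Groth.Agent.R2.H63MultFin

set_option autoImplicit false
open CategoryTheory MonoidalCategory CartesianMonoidalCategory MonObj GrpObj AlgebraicGeometry
universe u
open SGA3x

namespace Groth.Agent.S5263

/-- Let G and H be S-groups of multiplicative type which are finite over S. Then the functor of group
homomorphisms from G to H is representable by an S-scheme which is finite and etale over S (with its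
universal family of homomorphisms). -/
theorem result {S : Scheme.{u}} (G H : Over S) [GrpObj G] [GrpObj H]
    (hG : SGA3x.IsMultTypeFT G) [IsFinite G.hom] (hH : SGA3x.IsMultTypeFT H) [IsFinite H.hom] :
    ∃ (A : Over S) (υ : G ⊗ A ⟶ H), AutFam.RepresentsHom G H A υ ∧ IsFinite A.hom ∧ Etale A.hom := by
  haveI : IsAffineHom H.hom := inferInstance
  obtain ⟨A, υ, hA, haff, -, hfp⟩ := Groth.Agent.R2.H63.HomFin.exists_repHom G H
    (Groth.Agent.R2.H63.MultProj.isFinLocFree_of_isMultTypeFT G hG)
  have hHlfp : LocallyOfFinitePresentation H.hom :=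
    (Groth.Agent.R2.H63.MultProj.isFinLocFree_of_isMultTypeFT H hH).2.2
  have hAfp : LocallyOfFinitePresentation A.hom := hfp hHlfp
  have hG' : ∃ (S' : Scheme.{u}) (f : S' ⟶ S), Flat f ∧ Surjective f ∧
      (∀ V : S.Opens, IsAffineOpen V → ∃ W : S'.Opens, IsCompact (W : Set S') ∧
        f.base '' (W : Set S') = (V : Set S)) ∧
      ∀ s' : S', ∃ U : S'.Opens, s' ∈ U ∧ ∃ (M : Type) (_ : AddCommGroup M),
        Nonempty (Grp.mk (Red.bc (U.ι ≫ f) G) ≅ Grp.mk (Red.DS (U : Scheme.{u}) M)) := by
    obtain ⟨S', f, hflat, hsurj, hqc, hloc⟩ := hG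
    refine ⟨S', f, hflat, hsurj, hqc, fun s' => ?_⟩
    obtain ⟨U, hU, M, iM, -, hiso⟩ := hloc s'
    exact ⟨U, hU, M, iM, hiso⟩
  obtain ⟨het, huc⟩ :=
    Groth.Agent.R2.H63.HomFam.etale_and_universallyClosed_of_representsHom G H hG' hH A υ hA
  have hUC : UniversallyClosed A.hom := huc inferInstance
  have hint : IsIntegralHom A.hom := IsIntegralHom.iff_universallyClosed_and_isAffineHom.2 ⟨hUC, haff⟩
  have hfin : IsFinite A.hom :=
    (IsFinite.iff_isIntegralHom_and_locallyOfFiniteType A.hom).2 ⟨hint, inferInstance⟩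
  exact ⟨A, υ, hA, hfin, het⟩

end Groth.Agent.S5263
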