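import Groth.Statements.S5290
import Groth.Agent.R2.H37SubGlobal

set_option autoImplicit false
open CategoryTheory MonoidalCategory CartesianMonoidalCategory MonObj GrpObj AlgebraicGeometry
universe u
open SGA3x

namespace Groth.Agent.S5290

/-- Let S = Spec R be affine, J a nilpotent ideal of R and S₀ = Spec (R/J); let G be an arbitrary
S-group and i : H ⟶ G, i' : H' ⟶ G two sub-group-schemes (homomorphisms which are immersions) of
multiplicative type (fpqc-locally on S isomorphic, as groups, to diagonalisable groups D(M), M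
allowed to vary and taken in Type 0), with H central in G (every point of G commutes with every
point of H). If H ×_S S₀ and H' ×_S S₀ coincide as subgroups of G ×_S S₀, then H = H' as subgroups
of G: there is an isomorphism H ≅ H' compatible with i and i'. -/
theorem result {R : Type u} [CommRing R] (J : Ideal R) (hJ : IsNilpotent J)
    (G H H' : Over (Spec (CommRingCat.of R))) [GrpObj G] [GrpObj H] [GrpObj H']
    (hH : TwC.Locally (Spec (CommRingCat.of R)) TwC.Topology.fpqc (fun S' f => ∃ (M : Type) (_ : AddCommGroup M), Nonempty (Grp.mk (Red.bc f H) ≅ Grp.mk (Red.DS S' M))))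
    (hH' : TwC.Locally (Spec (CommRingCat.of R)) TwC.Topology.fpqc (fun S' f => ∃ (M : Type) (_ : AddCommGroup M), Nonempty (Grp.mk (Red.bc f H') ≅ Grp.mk (Red.DS S' M))))
    (i : H ⟶ G) [IsMonHom i] [IsImmersion i.left] (i' : H' ⟶ G) [IsMonHom i'] [IsImmersion i'.left]
    (hc : ∀ (X : Over (Spec (CommRingCat.of R))) (g : X ⟶ G) (h : X ⟶ H), g * (h ≫ i) = (h ≫ i) * g)
    (h0 : ∃ ψ : Red.bc (Spec.map (CommRingCat.ofHom (Ideal.Quotient.mk J))) H ≅ Red.bc (Spec.map (CommRingCat.ofHom (Ideal.Quotient.mk J))) H',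
      ψ.hom ≫ (Over.pullback (Spec.map (CommRingCat.ofHom (Ideal.Quotient.mk J)))).map i' = (Over.pullback (Spec.map (CommRingCat.ofHom (Ideal.Quotient.mk J)))).map i) :
    ∃ φ : H ≅ H', φ.hom ≫ i' = i := by
  obtain ⟨ψ, hψ⟩ := h0
  have hci : IsClosedImmersion (Spec.map (CommRingCat.ofHom (Ideal.Quotient.mk J))) :=
    IsClosedImmersion.spec_of_surjective _ Ideal.Quotient.mk_surjective
  -- points over `S₀`-schemes
  have hP₀ : ∀ (Y : Over (Spec (CommRingCat.of R)))
      (_ : Y ⟶ Over.mk (Spec.map (CommRingCat.ofHom (Ideal.Quotient.mk J)))) (h : Y ⟶ H),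
      ∃ h' : Y ⟶ H', h' ≫ i' = h ≫ i :=
    Groth.Agent.R2.H37.SubGlobal.exists_lift_of_pullback_eq _ i i' ψ.hom hψ
  have hψ' : ψ.inv ≫ (Over.pullback (Spec.map (CommRingCat.ofHom (Ideal.Quotient.mk J)))).map i =
      (Over.pullback (Spec.map (CommRingCat.ofHom (Ideal.Quotient.mk J)))).map i' := by
    rw [← hψ, Iso.inv_hom_id_assoc]
  have hP₀' : ∀ (Y : Over (Spec (CommRingCat.of R)))
      (_ : Y ⟶ Over.mk (Spec.map (CommRingCat.ofHom (Ideal.Quotient.mk J)))) (h' : Y ⟶ H'),
      ∃ h : Y ⟶ H, h ≫ i = h' ≫ i' :=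
    Groth.Agent.R2.H37.SubGlobal.exists_lift_of_pullback_eq _ i' i ψ.inv hψ'
  -- `H'` is central as well (rigidity for the conjugation action)
  have hc' : ∀ (X : Over (Spec (CommRingCat.of R))) (g : X ⟶ G) (h' : X ⟶ H'),
      g * (h' ≫ i') = (h' ≫ i') * g := by
    let Φ : H' ⊗ G ⟶ G := (fst H' G ≫ i') * snd H' G * (fst H' G ≫ i')⁻¹
    have hΦl : ∀ (T : Over (Spec (CommRingCat.of R))) (h' : T ⟶ H') (g : T ⟶ G),
        lift h' g ≫ Φ = (h' ≫ i') * g * (h' ≫ i')⁻¹ := by
      intro T h' g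
      change lift h' g ≫ ((fst H' G ≫ i') * snd H' G * (fst H' G ≫ i')⁻¹) = _
      rw [MonObj.comp_mul, MonObj.comp_mul, GrpObj.comp_inv, ← Category.assoc, lift_fst, lift_snd]
    have key := Groth.Agent.R2.H37.Rigid.trivial_of_trivial_mod
      (Spec.map (CommRingCat.ofHom (Ideal.Quotient.mk J)))
      (Groth.Agent.R2.H37.SubLocal.hnil_spec J hJ) H' G hH' Φ ?_ ?_
    · intro X g h'
      have := key X h' g
      rw [hΦl] at this
      exact (mul_inv_eq_iff_eq_mul.mp this).symm
    · intro T g₁ g₂ x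
      rw [hΦl, hΦl, hΦl, MonObj.mul_comp]
      group
    · intro Y p h' g
      rw [hΦl]
      obtain ⟨h, hh⟩ := hP₀' Y p h'
      rw [← hh]
      exact mul_inv_eq_iff_eq_mul.mpr (hc Y g h).symm
  have hmi : Mono i.left := inferInstance
  have hmi' : Mono i'.left := inferInstance
  obtain ⟨a, ha⟩ := Groth.Agent.R2.H37.SubGlobal.exists_hom J hJ hH hH' i i' hc hP₀
  obtain ⟨b, hb⟩ := Groth.Agent.R2.H37.SubGlobal.exists_hom J hJ hH' hH i' i hc' hP₀'
  have hMi : Mono i := Over.mono_of_mono_left i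
  have hMi' : Mono i' := Over.mono_of_mono_left i'
  refine ⟨⟨a, b, ?_, ?_⟩, ha⟩
  · apply (cancel_mono i).mp
    rw [Category.assoc, hb, ha, Category.id_comp]
  · apply (cancel_mono i').mp
    rw [Category.assoc, ha, hb, Category.id_comp]

end Groth.Agent.S5290
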