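import Groth.Statements.S5310
import Groth.Agent.R2.H24PLociGrp

set_option autoImplicit false
universe u
open CategoryTheory CategoryTheory.Limits MonoidalCategory CartesianMonoidalCategory MonObj GrpObj AlgebraicGeometry
open SGA3

namespace Groth.Agent.S5310

open Groth.Agent.R2.H24.PLoci Groth.Agent.R2.H24.PLociGrp Groth.Agent.R2.H24 Groth.Agent.R2.H24.HomogSep in
/-- Let u : G → H be a homomorphism of S-group schemes, with G or H flat over S and G or H locally of
finite presentation over S. Let P be one of the properties 'flat and locally of finite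
presentation', 'smooth', 'etale', and let V be the largest open subscheme of G on which the
restriction of u has P. Then the image U of V in S is open and V is an open subgroup scheme of G
over U: V contains the unit point of every fibre of G that it meets, V is stable under the inversion
of G, and the product of a point of G ×_S G whose two projections lie in V lies in V. -/
theorem result (S : Scheme.{u}) (G H : Over S) [GrpObj G] [GrpObj H]
    (u : G ⟶ H) [IsMonHom u]
    (hfl : Flat G.hom ∨ Flat H.hom) (hfp : LocallyOfFinitePresentation G.hom ∨ LocallyOfFinitePresentation H.hom)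
    (P : MorphismProperty Scheme.{u})
    (hP : (∀ (X Y : Scheme.{u}) (f : X ⟶ Y), P f ↔ (Flat f ∧ LocallyOfFinitePresentation f)) ∨
      (∀ (X Y : Scheme.{u}) (f : X ⟶ Y), P f ↔ Smooth f) ∨ (∀ (X Y : Scheme.{u}) (f : X ⟶ Y), P f ↔ Etale f))
    (V : G.left.Opens) (hV : P (V.ι ≫ u.left)) (hmax : ∀ W : G.left.Opens, P (W.ι ≫ u.left) → W ≤ V) :
    IsOpen (G.hom.base '' (V : Set G.left)) ∧
    (∀ g ∈ V, ∀ p : ↥(𝟙_ (Over S)).left, (𝟙_ (Over S)).hom.base p = G.hom.base g → η[G].left.base p ∈ V) ∧
    (∀ g ∈ V, ι[G].left.base g ∈ V) ∧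
    (∀ z : ↥(G ⊗ G).left, (fst G G).left.base z ∈ V → (snd G G).left.base z ∈ V → μ[G].left.base z ∈ V) := by
  classical
  -- `P` is one of three concrete properties
  have hPall : P.IsStableUnderBaseChange ∧ P.RespectsIso ∧ Desc P ∧ P ≤ FL.{u} := by
    rcases hP with h | h | h
    · have hPe : P = FL.{u} := by
        ext X Y f; exact h X Y f
      subst hPe
      exact ⟨inferInstance, inferInstance, desc_FL, le_rfl⟩
    · have hPe : P = @Smooth.{u} := by
        ext X Y f; exact h X Y f
      subst hPe
      exact ⟨inferInstance, inferInstance, desc_smooth,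
        fun X Y f hf => ⟨inferInstance, inferInstance⟩⟩
    · have hPe : P = @Etale.{u} := by
        ext X Y f; exact h X Y f
      subst hPe
      exact ⟨inferInstance, inferInstance, desc_etale,
        fun X Y f hf => ⟨inferInstance, inferInstance⟩⟩
  obtain ⟨hbc, hiso, hdesc, hle⟩ := hPall
  obtain ⟨hVfl', hVfp'⟩ := hle _ hV
  have hVfl' : Flat (V.ι ≫ u.left) := hVfl'
  have hVfp' : LocallyOfFinitePresentation (V.ι ≫ u.left) := hVfp'
  have hVfl : Flat (V.ι ≫ G.hom) := by
    rcases hfl with h | h
    · infer_instance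
    · rw [← Over.w u, ← Category.assoc]; infer_instance
  have hVfp : LocallyOfFinitePresentation (V.ι ≫ G.hom) := by
    rcases hfp with h | h
    · infer_instance
    · rw [← Over.w u, ← Category.assoc]; infer_instance
  let Vo : Over S := Over.mk (V.ι ≫ G.hom)
  let j : Vo ⟶ G := Over.homMk V.ι rfl
  haveI : Flat Vo.hom := hVfl
  haveI : LocallyOfFinitePresentation Vo.hom := hVfp
  have hmem : ∀ x : G.left, x ∈ V ↔ HasPAt P u.left x := fun x =>
    ⟨fun hx => hasPAt_of_opens V hx hV, fun h => by
      obtain ⟨W, hxW, hW⟩ := h.exists_opens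
      exact hmax W hW hxW⟩
  have h3 : ∀ g ∈ V, ι[G].left.base g ∈ V := fun g hg =>
    (hmem _).mpr (hasPAt_inv G H u g ((hmem g).mp hg))
  have h4 : ∀ z : ↥(G ⊗ G).left, (fst G G).left.base z ∈ V → (snd G G).left.base z ∈ V →
      μ[G].left.base z ∈ V := by
    intro z hz1 hz2
    have hpb := MaxOpen.isPullback_whiskerLeft G j
    obtain ⟨z', hz'1, hz'2⟩ := exists_of_isPullback hpb z
      (⟨(snd G G).left z, hz2⟩ : V) rfl
    have hfst : (fst G Vo).left z' = (fst G G).left z := by
      rw [← hz'1, ← Scheme.Hom.comp_apply, ← Over.comp_left, whiskerLeft_fst]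
    have key := hasPAt_mul G H u hdesc j z' (by rw [hfst]; exact (hmem _).mp hz1)
    have hpt : (fst G Vo * (snd G Vo ≫ j)).left z' = μ[G].left z := by
      rw [← hz'1, ← Scheme.Hom.comp_apply, ← Over.comp_left]
      congr 2
    rw [hpt] at key
    exact (hmem _).mpr key
  refine ⟨?_, ?_, h3, h4⟩
  · have hrange : G.hom.base '' (V : Set G.left) = Set.range (V.ι ≫ G.hom) := by
      ext s
      constructor
      · rintro ⟨g, hg, rfl⟩
        exact ⟨⟨g, hg⟩, rfl⟩
      · rintro ⟨g, rfl⟩
        exact ⟨g.1, g.2, rfl⟩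
    rw [hrange]
    haveI : UniversallyOpen (V.ι ≫ G.hom) := UniversallyOpen.of_flat _
    exact (V.ι ≫ G.hom).isOpenMap.isOpen_range
  · intro g hg p hp
    have hz1 : (fst G G).left.base ((lift (𝟙 G) ι[G]).left g) ∈ V := by
      change (lift (𝟙 G) ι[G] ≫ fst G G).left g ∈ V
      rw [lift_fst]; exact hg
    have hz2 : (snd G G).left.base ((lift (𝟙 G) ι[G]).left g) ∈ V := by
      change (lift (𝟙 G) ι[G] ≫ snd G G).left g ∈ V
      rw [lift_snd]; exact h3 g hg
    have hμ := h4 _ hz1 hz2
    have h5 : μ[G].left.base ((lift (𝟙 G) ι[G]).left g) = η[G].left.base ((toUnit G).left g) := by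
      change (lift (𝟙 G) ι[G] ≫ μ[G]).left g = (toUnit G ≫ η[G]).left g
      have e := GrpObj.lift_comp_inv_right (𝟙 G)
      rw [Category.id_comp] at e
      rw [e]
    rw [h5] at hμ
    have h6 : (toUnit G).left g = p := by
      have e1 : (𝟙_ (Over S)).hom.base ((toUnit G).left g) = G.hom.base g := by
        change ((toUnit G).left ≫ (𝟙_ (Over S)).hom) g = _
        rw [Over.w]
      have e2 : ∀ a b : ↥(𝟙_ (Over S)).left, (𝟙_ (Over S)).hom.base a = (𝟙_ (Over S)).hom.base b →
          a = b := fun a b hab => hab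
      exact e2 _ _ (e1.trans hp.symm)
    rw [h6] at hμ
    exact hμ

end Groth.Agent.S5310
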