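import Groth.Statements.S5311
import Groth.Agent.R2.H24MaxOpen

set_option autoImplicit false
universe u
open CategoryTheory CategoryTheory.Limits MonoidalCategory CartesianMonoidalCategory MonObj GrpObj AlgebraicGeometry
open SGA3

namespace Groth.Agent.S5311

/-- Let u : G → H be a homomorphism of S-group schemes with G or H universally open over S, and let V be
the largest open subscheme of G on which the restriction of u is universally open. Then the image U
of V in S is open and V is an open subgroup scheme of G over U: V contains the unit point of every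
fibre of G that it meets, V is stable under the inversion of G, and the product of a point of G ×_S
G whose two projections lie in V lies in V. -/
theorem result (S : Scheme.{u}) (G H : Over S) [GrpObj G] [GrpObj H]
    (u : G ⟶ H) [IsMonHom u] (hG : UniversallyOpen G.hom ∨ UniversallyOpen H.hom)
    (V : G.left.Opens) (hV : UniversallyOpen (V.ι ≫ u.left))
    (hmax : ∀ W : G.left.Opens, UniversallyOpen (W.ι ≫ u.left) → W ≤ V) :
    IsOpen (G.hom.base '' (V : Set G.left)) ∧
    (∀ g ∈ V, ∀ p : ↥(𝟙_ (Over S)).left, (𝟙_ (Over S)).hom.base p = G.hom.base g → η[G].left.base p ∈ V) ∧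
    (∀ g ∈ V, ι[G].left.base g ∈ V) ∧
    (∀ z : ↥(G ⊗ G).left, (fst G G).left.base z ∈ V → (snd G G).left.base z ∈ V → μ[G].left.base z ∈ V) := by
  classical
  -- `V → S` is universally open
  have hVS : UniversallyOpen (V.ι ≫ G.hom) := by
    rcases hG with h | h
    · infer_instance
    · have e : V.ι ≫ G.hom = (V.ι ≫ u.left) ≫ H.hom := by rw [Category.assoc, Over.w]
      rw [e]
      infer_instance
  -- inverse
  have hinv : ∀ g ∈ V, ι[G].left.base g ∈ V := by
    have hW : ι[G].left ⁻¹ᵁ V ≤ V := by
      apply hmax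
      have e : ι[G] ≫ u ≫ ι[H] = u := by
        rw [← Category.assoc, GrpObj.inv_hom, Category.assoc, GrpObj.inv_comp_inv, Category.comp_id]
      have e' : (ι[G].left ⁻¹ᵁ V).ι ≫ u.left =
          (ι[G].left ∣_ V) ≫ (V.ι ≫ u.left) ≫ ι[H].left := by
        rw [← Category.assoc, ← Category.assoc, morphismRestrict_ι, Category.assoc, Category.assoc,
          ← Over.comp_left, ← Over.comp_left, e]
      rw [e']
      haveI : IsIso ι[H].left := inferInstanceAs (IsIso ((Over.forget S).map ι[H]))
      haveI : IsIso ι[G].left := inferInstanceAs (IsIso ((Over.forget S).map ι[G]))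
      haveI : UniversallyOpen (ι[G].left ∣_ V) :=
        IsZariskiLocalAtTarget.restrict (P := @UniversallyOpen)
          (inferInstance : UniversallyOpen ι[G].left) V
      infer_instance
    intro g hg
    apply hW
    show ι[G].left (ι[G].left g) ∈ V
    rw [← Scheme.Hom.comp_apply, ← Over.comp_left, GrpObj.inv_comp_inv]
    exact hg
  -- product
  have hmul : ∀ z : ↥(G ⊗ G).left, (fst G G).left.base z ∈ V → (snd G G).left.base z ∈ V →
      μ[G].left.base z ∈ V := by
    intro z h1 h2
    let Vo : Over S := Over.mk (V.ι ≫ G.hom)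
    let c : Vo ⟶ G := Over.homMk V.ι rfl
    haveI : UniversallyOpen Vo.hom := hVS
    haveI : UniversallyOpen (c ≫ u).left := hV
    have hmu := Groth.Agent.R2.H24.MaxOpen.universallyOpen_mulOf_comp c u
    haveI : UniversallyOpen (c ≫ 𝟙 G).left := by
      rw [Category.comp_id]
      exact (inferInstance : UniversallyOpen V.ι)
    have hm := Groth.Agent.R2.H24.MaxOpen.universallyOpen_mulOf_comp c (𝟙 G)
    rw [Category.comp_id] at hm
    let N : G.left.Opens := ⟨Set.range (Groth.Agent.R2.H24.MaxOpen.mulOf c).left,
      (Groth.Agent.R2.H24.MaxOpen.mulOf c).left.isOpenMap.isOpen_range⟩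
    have hN : N ≤ V := by
      apply hmax
      have hr : Set.range (Groth.Agent.R2.H24.MaxOpen.mulOf c).left ⊆ Set.range N.ι := by
        rw [Scheme.Opens.range_ι]
        exact subset_rfl
      let m' := IsOpenImmersion.lift N.ι (Groth.Agent.R2.H24.MaxOpen.mulOf c).left hr
      have hfac : m' ≫ N.ι = (Groth.Agent.R2.H24.MaxOpen.mulOf c).left :=
        IsOpenImmersion.lift_fac _ _ _
      haveI : Surjective m' := ⟨fun y => by
        obtain ⟨x, hx⟩ := y.2
        refine ⟨x, ?_⟩
        apply N.ι.injective
        rw [← Scheme.Hom.comp_apply, hfac]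
        exact hx⟩
      haveI : UniversallyOpen (m' ≫ N.ι ≫ u.left) := by
        rw [← Category.assoc, hfac, ← Over.comp_left]
        exact hmu
      exact Groth.Agent.R2.H24.MaxOpen.universallyOpen_of_comp_surjective m' (N.ι ≫ u.left)
    apply hN
    have hz : z ∈ Set.range (c ⊗ₘ c).left := by
      rw [Over.tensorHom_left, Scheme.Pullback.range_map]
      refine ⟨?_, ?_⟩
      · show (fst G G).left z ∈ Set.range V.ι
        rw [Scheme.Opens.range_ι]
        exact h1
      · show (snd G G).left z ∈ Set.range V.ι
        rw [Scheme.Opens.range_ι]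
        exact h2
    obtain ⟨z', rfl⟩ := hz
    refine ⟨z', ?_⟩
    rw [Groth.Agent.R2.H24.MaxOpen.mulOf_eq, Over.comp_left, Scheme.Hom.comp_apply]
  refine ⟨?_, ?_, hinv, hmul⟩
  · have e : G.hom.base '' (V : Set G.left) = Set.range (V.ι ≫ G.hom) := by
      ext s
      constructor
      · rintro ⟨g, hg, rfl⟩
        exact ⟨⟨g, hg⟩, rfl⟩
      · rintro ⟨g, rfl⟩
        exact ⟨g.1, g.2, rfl⟩
    rw [e]
    exact (V.ι ≫ G.hom).isOpenMap.isOpen_range
  · intro g hg p hp
    have h2 := hinv g hg
    have h3 := hmul ((lift (𝟙 G) ι[G]).left g) (by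
      show (fst G G).left ((lift (𝟙 G) ι[G]).left g) ∈ V
      rw [← Scheme.Hom.comp_apply, ← Over.comp_left, lift_fst]
      exact hg) (by
      show (snd G G).left ((lift (𝟙 G) ι[G]).left g) ∈ V
      rw [← Scheme.Hom.comp_apply, ← Over.comp_left, lift_snd]
      exact h2)
    have h4 : μ[G].left.base ((lift (𝟙 G) ι[G]).left g) = η[G].left.base p := by
      show μ[G].left ((lift (𝟙 G) ι[G]).left g) = η[G].left p
      rw [← Scheme.Hom.comp_apply, ← Over.comp_left, GrpObj.right_inv, Over.comp_left,
        Scheme.Hom.comp_apply]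
      congr 1
      exact hp.symm
    rw [← h4]
    exact h3

end Groth.Agent.S5311
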