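import Groth.Statements.S5313
import Mathlib
import Groth.Agent.R2.H24GrpHomLoci

set_option autoImplicit false
universe u
open CategoryTheory CategoryTheory.Limits MonoidalCategory CartesianMonoidalCategory MonObj GrpObj AlgebraicGeometry
open SGA3

namespace Groth.Agent.S5313

open Groth.Agent.Lib.Helper3.GrpFibDim Groth.Agent.Lib.Helper3.GrpHomQF
  Groth.Agent.Lib.Helper20.FlatDesc Groth.Agent.Lib.Helper20.EtLocal
  Groth.Agent.Lib.Helper5.FibMorLoci Groth.Agent.R2.H24.GrpHomLoci

/-- Let u : G → H be a homomorphism of S-group schemes, with G flat and locally of finite presentation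
over S and H locally of finite type over S. Then the set U of points s of S such that the fibre u_s
: G_s → H_s over κ(s) is smooth is open in S, and the set of points of G at which u is smooth (u is
smooth on some open neighbourhood) is the inverse image of U in G. (The published statement assumes
the finiteness and flatness conditions only at the points of the unit sections for the openness of
U; this row assumes them on all of G and H, the case in which the second assertion is stated.) -/
theorem result (S : Scheme.{u}) (G H : Over S) [GrpObj G] [GrpObj H] (u : G ⟶ H) [IsMonHom u]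
    [Flat G.hom] [LocallyOfFinitePresentation G.hom] [LocallyOfFiniteType H.hom] :
    IsOpen {s : S | Smooth ((Over.pullback (S.fromSpecResidueField s)).map u).left} ∧
    {x : G.left | ∃ W : G.left.Opens, x ∈ W ∧ Smooth (W.ι ≫ u.left)} = G.hom.base ⁻¹' {s : S | Smooth ((Over.pullback (S.fromSpecResidueField s)).map u).left} := by
  haveI : LocallyOfFinitePresentation u.left :=
    Groth.Agent.Lib.Helper6.locallyOfFinitePresentation_of_comp (g := H.hom) inferInstance
      (by rw [Over.w u]; infer_instance)
  have hU : {s : S | Smooth ((Over.pullback (S.fromSpecResidueField s)).map u).left} =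
      (unitSec G) ⁻¹' (u.left.smoothLocus : Set G.left) := by
    ext s
    exact smooth_fibre_iff G H u s
  refine ⟨?_, ?_⟩
  · rw [hU]
    exact u.left.smoothLocus.2.preimage (unitSec G).continuous
  · rw [hU]
    ext x
    simp only [Set.mem_setOf_eq, Set.mem_preimage]
    rw [← mem_smoothLocus_iff_exists_nbhd]
    exact smooth_hom_iff_unitSec G H u x

end Groth.Agent.S5313
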