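import Groth.Statements.S5317
import Mathlib
import Groth.Agent.R2.H24GrpHomLoci

set_option autoImplicit false
universe u
open CategoryTheory CategoryTheory.Limits MonoidalCategory CartesianMonoidalCategory MonObj GrpObj AlgebraicGeometry
open SGA3

namespace Groth.Agent.S5317

open Groth.Agent.Lib.Helper3.GrpFibDim Groth.Agent.Lib.Helper3.GrpHomQF
  Groth.Agent.Lib.Helper20.FlatDesc Groth.Agent.Lib.Helper20.EtLocal
  Groth.Agent.Lib.Helper5.FibMorLoci Groth.Agent.R2.H24.GrpHomLoci


/-- Let u : G → H be a homomorphism of S-group schemes which is universally injective (for instance a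
monomorphism), with G flat and locally of finite presentation over S and H locally of finite type
over S. Then the set U of points s of S such that u_s : G_s → H_s is an open immersion is open in S,
and the restriction of u over every open of S contained in U is an open immersion. -/
theorem result (S : Scheme.{u}) (G H : Over S) [GrpObj G] [GrpObj H]
    (u : G ⟶ H) [IsMonHom u] [UniversallyInjective u.left]
    [Flat G.hom] [LocallyOfFinitePresentation G.hom] [LocallyOfFiniteType H.hom] :
    IsOpen {s : S | IsOpenImmersion ((Over.pullback (S.fromSpecResidueField s)).map u).left} ∧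
    ∀ W : S.Opens, (W : Set S) ⊆ {s : S | IsOpenImmersion ((Over.pullback (S.fromSpecResidueField s)).map u).left} → IsOpenImmersion ((G.hom ⁻¹ᵁ W).ι ≫ u.left) := by
  haveI : LocallyOfFinitePresentation u.left :=
    Groth.Agent.Lib.Helper6.locallyOfFinitePresentation_of_comp (g := H.hom) inferInstance
      (by rw [Over.w u]; infer_instance)
  have hui : ∀ s : S, UniversallyInjective ((Over.pullback (S.fromSpecResidueField s)).map u).left :=
    fun s => MorphismProperty.of_isPullback (P := @UniversallyInjective)
      (isPullback_overPullback_map G H u (S.fromSpecResidueField s)) ‹_›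
  have hiff : ∀ s : S, IsOpenImmersion ((Over.pullback (S.fromSpecResidueField s)).map u).left ↔
      ((u.left.stalkMap (unitSec G s)).hom.FormallySmooth ∧
        (u.left.stalkMap (unitSec G s)).hom.FormallyUnramified) := by
    intro s
    rw [← etale_fibre_iff G H u s]
    constructor
    · intro h
      infer_instance
    · intro h
      haveI := hui s
      exact isOpenImmersion_of_etale_of_universallyInjective _
  have hU : {s : S | IsOpenImmersion ((Over.pullback (S.fromSpecResidueField s)).map u).left} =
      (unitSec G) ⁻¹' ((u.left.smoothLocus : Set G.left) ∩ (unramLocus u.left : Set G.left)) := by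
    ext s
    exact hiff s
  refine ⟨?_, ?_⟩
  · rw [hU]
    exact (u.left.smoothLocus.2.inter (unramLocus u.left).2).preimage (unitSec G).continuous
  · intro W hW
    haveI : UniversallyInjective ((G.hom ⁻¹ᵁ W).ι ≫ u.left) :=
      MorphismProperty.comp_mem _ _ _ inferInstance ‹_›
    haveI : Etale ((G.hom ⁻¹ᵁ W).ι ≫ u.left) := by
      rw [etale_iff_forall_stalkMap]
      intro z
      have hz : G.hom z.1 ∈ W := z.2
      have h1 := (hiff (G.hom z.1)).mp (hW hz)
      exact ⟨(stalkMap_ι_comp_iff RingHom.FormallySmooth.respectsIso u.left _ z).mpr
          ((smooth_hom_iff_unitSec G H u z.1).mpr h1.1),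
        (stalkMap_ι_comp_iff RingHom.FormallyUnramified.respectsIso u.left _ z).mpr
          ((unram_hom_iff_unitSec G H u z.1).mpr h1.2)⟩
    exact isOpenImmersion_of_etale_of_universallyInjective _

end Groth.Agent.S5317
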