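import Groth.Statements.S5318
import Groth.Agent.R2.H24UnitSec

set_option autoImplicit false
set_option linter.style.haveILetI false
universe u
open CategoryTheory CategoryTheory.Limits MonoidalCategory CartesianMonoidalCategory MonObj GrpObj AlgebraicGeometry
open SGA3

namespace Groth.Agent.S5318

open Groth.Agent.R2.H24.UnitSec

/-- (ii) ⟺ (iii) and, for G locally of finite presentation over S, (ii) ⟺ (iv): let G be an S-group
scheme. The unit section of G is an open immersion if and only if G is locally of finite
presentation over S on some open containing the unit section and every fibre G_s is unramified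
(formally unramified and locally of finite presentation) over κ(s). If G is locally of finite
presentation over S, the unit section is an open immersion if and only if G is unramified over S. -/
theorem result (S : Scheme.{u}) (G : Over S) [GrpObj G] :
    (IsOpenImmersion η[G].left ↔
      ((∃ W : G.left.Opens, (∀ p : ↥(𝟙_ (Over S)).left, η[G].left.base p ∈ W) ∧ LocallyOfFinitePresentation (W.ι ≫ G.hom)) ∧
        ∀ s : S, FormallyUnramified (G.hom.fiberToSpecResidueField s) ∧ LocallyOfFinitePresentation (G.hom.fiberToSpecResidueField s))) ∧
    (LocallyOfFinitePresentation G.hom → (IsOpenImmersion η[G].left ↔ FormallyUnramified G.hom)) := by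
  refine ⟨⟨fun hη => ?_, fun ⟨⟨W, hW, hWfp⟩, hfib⟩ => ?_⟩, fun hfp => ⟨fun hη => ?_, fun hunr => ?_⟩⟩
  · haveI := hη
    haveI hunr : FormallyUnramified G.hom := formallyUnramified_of_unit G
    refine ⟨⟨η[G].left.opensRange, fun p => ⟨p, rfl⟩, ?_⟩, fun s => ⟨?_, lfp_fibre_of_unit G s⟩⟩
    · have h1 : η[G].left.opensRange.ι ≫ G.hom = η[G].left.isoOpensRange.inv := by
        rw [← Scheme.Hom.isoOpensRange_inv_comp, Category.assoc, Over.w η[G]]
        exact Category.comp_id _
      rw [h1]
      infer_instance
    · exact MorphismProperty.pullback_snd (P := @FormallyUnramified) _ _ hunr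
  · haveI := hWfp
    haveI : FormallyUnramified (W.ι ≫ G.hom) :=
      formallyUnramified_of_fibres G.hom W (fun s => (hfib s).1)
    have hr : Set.range η[G].left ⊆ Set.range W.ι := by
      rintro _ ⟨p, rfl⟩
      rw [Scheme.Opens.range_ι]
      exact hW p
    let ε : S ⟶ (W : Scheme.{u}) := IsOpenImmersion.lift W.ι η[G].left hr
    have hε : ε ≫ W.ι = η[G].left := IsOpenImmersion.lift_fac _ _ _
    haveI : IsOpenImmersion ε := by
      refine isOpenImmersion_of_section ε (W.ι ≫ G.hom) ?_
      rw [← Category.assoc, hε, Over.w η[G]]
      rfl
    rw [← hε]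
    infer_instance
  · haveI := hη
    exact formallyUnramified_of_unit G
  · haveI := hfp
    haveI := hunr
    exact isOpenImmersion_of_section η[G].left G.hom (by rw [Over.w η[G]]; rfl)

end Groth.Agent.S5318
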