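import Groth.Statements.S5320
import Mathlib
import Groth.Agent.R2.H24GrpHomLoci

set_option autoImplicit false
universe u
open CategoryTheory CategoryTheory.Limits MonoidalCategory CartesianMonoidalCategory MonObj GrpObj AlgebraicGeometry
open SGA3

namespace Groth.Agent.S5320

open Groth.Agent.Lib.Helper3.GrpFibDim Groth.Agent.Lib.Helper3.GrpHomQF
  Groth.Agent.Lib.Helper20.FlatDesc Groth.Agent.Lib.Helper20.EtLocal
  Groth.Agent.Lib.Helper5.FibMorLoci Groth.Agent.R2.H24.GrpHomLoci

/-- a section of a morphism whose diagonal is an open immersion is an open immersion. -/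
theorem isOpenImmersion_of_section {X Y : Scheme.{u}} (f : X ⟶ Y) (σ : Y ⟶ X) (h : σ ≫ f = 𝟙 Y)
    [IsOpenImmersion (pullback.diagonal f)] : IsOpenImmersion σ := by
  have hle : (@IsOpenImmersion).diagonal ≤ (@IsOpenImmersion).diagonal := le_rfl
  have hP : (@IsOpenImmersion).HasOfPostcompProperty (@IsOpenImmersion).diagonal :=
    MorphismProperty.hasOfPostcompProperty_iff_le_diagonal.mpr hle
  refine hP.of_postcomp σ f ‹_› ?_
  rw [h]
  infer_instance

/-- the stalk map of `f` at a point of an open-immersion section is formally unramified. -/
theorem formallyUnramified_stalkMap_of_section {X Y : Scheme.{u}} (f : X ⟶ Y) (σ : Y ⟶ X)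
    (h : σ ≫ f = 𝟙 Y) [IsOpenImmersion σ] (y : Y) :
    (f.stalkMap (σ y)).hom.FormallyUnramified := by
  rw [← stalkMap_comp_iff_left RingHom.FormallyUnramified.respectsIso σ f y,
    stalkMap_congr_iff (Q := fun φ => RingHom.FormallyUnramified φ) h y]
  exact FormallyUnramified.stalkMap (𝟙 Y) y


/-- Let u : G → H be a homomorphism of S-group schemes which is locally of finite presentation, with
every fibre G_s locally of finite type over κ(s), and let i : K → G be the kernel of u (the square
i, u, unit of H is cartesian, K with the group structure making i a homomorphism). The following are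
equivalent: u is unramified (formally unramified); every fibre u_s : G_s → H_s is unramified; K is
unramified over S; the unit section of K is an open immersion. -/
theorem result (S : Scheme.{u}) (G H : Over S) [GrpObj G] [GrpObj H] (u : G ⟶ H) [IsMonHom u]
    [LocallyOfFinitePresentation u.left] (hG : ∀ s : S, LocallyOfFiniteType (G.hom.fiberToSpecResidueField s)) (K : Over S) [GrpObj K] (i : K ⟶ G) [IsMonHom i] (hK : AlgGrp.IsKernel i u) :
    (FormallyUnramified u.left ↔ ∀ s : S, FormallyUnramified ((Over.pullback (S.fromSpecResidueField s)).map u).left) ∧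
    (FormallyUnramified u.left ↔ FormallyUnramified K.hom) ∧
    (FormallyUnramified u.left ↔ IsOpenImmersion η[K].left) := by
  haveI : LocallyOfFiniteType u.left := inferInstance
  have hpb : IsPullback i.left K.hom u.left (η[H] : 𝟙_ (Over S) ⟶ H).left := by
    have := IsPullback.map (Over.forget S) hK
    simpa using this
  haveI : LocallyOfFiniteType K.hom := MorphismProperty.of_isPullback hpb ‹_›
  -- characterisation through the unit section
  have h0 : FormallyUnramified u.left ↔ ∀ s : S,
      (u.left.stalkMap (unitSec G s)).hom.FormallyUnramified := by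
    rw [formallyUnramified_iff_forall_stalkMap]
    constructor
    · intro h s
      exact h _
    · intro h x
      rw [unram_hom_iff_unitSec G H u x]
      exact h _
  have he : ∀ s : S, i.left (unitSec K s) = unitSec G s := by
    intro s
    show (η[K].left ≫ i.left) s = η[G].left s
    rw [← Over.comp_left, IsMonHom.one_hom]
  have hKs : ∀ s : S, (K.hom.stalkMap (unitSec K s)).hom.FormallyUnramified ↔
      (u.left.stalkMap (unitSec G s)).hom.FormallyUnramified := by
    intro s
    rw [formallyUnramified_stalkMap_iff_of_isPullback hpb (unitSec K s), he s]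
  have h1 : FormallyUnramified u.left ↔ ∀ s : S,
      FormallyUnramified ((Over.pullback (S.fromSpecResidueField s)).map u).left := by
    rw [h0]
    exact forall_congr' fun s => (formallyUnramified_fibre_iff G H u s).symm
  have h2 : FormallyUnramified u.left ↔ FormallyUnramified K.hom := by
    constructor
    · intro h
      exact MorphismProperty.of_isPullback hpb h
    · intro h
      rw [h0]
      intro s
      exact (hKs s).mp (FormallyUnramified.stalkMap K.hom _)
  refine ⟨h1, h2, ?_⟩
  have hsec : η[K].left ≫ K.hom = 𝟙 S := unitSec_hom K
  constructor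
  · intro h
    haveI : FormallyUnramified K.hom := h2.mp h
    exact isOpenImmersion_of_section K.hom η[K].left hsec
  · intro h
    rw [h0]
    intro s
    exact (hKs s).mp (formallyUnramified_stalkMap_of_section K.hom η[K].left hsec s)

end Groth.Agent.S5320
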