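import Groth.Statements.S5327
import Mathlib
import Groth.Agent.R2.H24NeutralSet
import Groth.Agent.Lib.Helper3GrpHomQF

set_option autoImplicit false
universe u
open CategoryTheory CategoryTheory.Limits MonoidalCategory CartesianMonoidalCategory MonObj GrpObj AlgebraicGeometry
open SGA3

namespace Groth.Agent.S5327

open Groth.Agent.R2.H24.NeutralSet Groth.Agent.R2.H24.BcGrp Groth.Agent.Lib.Helper25.IdComp
  Groth.Agent.Lib.Helper25.TopGrp
open scoped Obj

section
variable {S : Scheme.{u}} (G H : Over S) [GrpObj G] [GrpObj H] (i : H ⟶ G) [IsMonHom i]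
  [IsOpenImmersion i.left]

lemma hom_unit_eq (s : S) : i.left (unit H s) = unit G s := by
  show (η[H].left ≫ i.left) s = η[G].left s
  rw [← Over.comp_left, IsMonHom.one_hom]

/-- the neutral component of the fibre `G_s` lies in the open subgroup. -/
lemma fibre_component_subset_range (s : S) :
    fibι G s '' connectedComponent (ePt (fib G s)) ⊆ Set.range i.left := by
  let t := S.fromSpecResidueField s
  let is : fib H s ⟶ fib G s := (Over.pullback t).map i
  haveI : IsMonHom is := inferInstanceAs (IsMonHom ((Over.pullback t).map i))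
  have hpb := Groth.Agent.Lib.Helper3.GrpHomQF.isPullback_overPullback_map H G i t
  haveI : IsOpenImmersion is.left := MorphismProperty.of_isPullback (P := @IsOpenImmersion) hpb ‹_›
  have hopen : IsOpen (Set.range is.left) := is.left.isOpenEmbedding.isOpen_range
  have hclosed : IsClosed (Set.range is.left) :=
    isClosed_range_of_isLocallyClosed is hopen.isLocallyClosed
  have he : ePt (fib G s) ∈ Set.range is.left := by
    refine ⟨ePt (fib H s), ?_⟩
    show (η[fib H s].left ≫ is.left) _ = η[fib G s].left _
    rw [← Over.comp_left, IsMonHom.one_hom]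
  have hsub := (IsClopen.connectedComponent_subset ⟨hclosed, hopen⟩ he)
  rintro _ ⟨x', hx', rfl⟩
  obtain ⟨y', rfl⟩ := hsub hx'
  refine ⟨fibι H s y', ?_⟩
  have := Groth.Agent.R2.H24.BcGrp.map_left_proj t i
  rw [← Scheme.Hom.comp_apply, ← Scheme.Hom.comp_apply]
  exact congrArg (fun φ => φ y') this.symm

end


/-- Let G be an S-group scheme whose fibres are locally of finite type over κ(s), and let i : H → G be a
homomorphism of S-group schemes which is an open immersion (an open subgroup scheme). Then the union
G⁰ of the neutral components of the fibres of G is contained in the image of i, and G⁰ is the image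
under i of the union H⁰ of the neutral components of the fibres of H. -/
theorem result (S : Scheme.{u}) (G H : Over S) [GrpObj G] [GrpObj H]
    (hG : ∀ s : S, LocallyOfFiniteType (G.hom.fiberToSpecResidueField s)) (i : H ⟶ G) [IsMonHom i]
    [IsOpenImmersion i.left] :
    SGA3x.neutralSet G ⊆ Set.range i.left.base ∧ i.left.base '' SGA3x.neutralSet H = SGA3x.neutralSet G := by
  have h1 : SGA3x.neutralSet G ⊆ Set.range i.left := by
    intro x hx
    rw [mem_neutralSet_iff, connectedComponentIn_fibre] at hx
    exact fibre_component_subset_range G H i _ hx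
  refine ⟨h1, ?_⟩
  have hw : ∀ y : H.left, G.hom (i.left y) = H.hom y := fun y => by
    rw [← Scheme.Hom.comp_apply, Over.w i]
  apply le_antisymm
  · rintro _ ⟨y, hy, rfl⟩
    rw [mem_neutralSet_iff] at hy ⊢
    rw [hw y]
    have h2 := i.left.continuous.image_connectedComponentIn_subset
      (s := H.hom ⁻¹' {H.hom y}) (a := unit H (H.hom y)) (hom_unit H _)
    have h3 : i.left '' (H.hom ⁻¹' {H.hom y}) ⊆ G.hom ⁻¹' {H.hom y} := by
      rintro _ ⟨z, hz, rfl⟩
      show G.hom (i.left z) = H.hom y
      rw [hw z]
      exact hz
    have h4 := connectedComponentIn_mono (i.left (unit H (H.hom y))) h3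
    have h5 := h4 (h2 ⟨y, hy, rfl⟩)
    rw [hom_unit_eq G H i] at h5
    exact h5
  · intro x hx
    obtain ⟨y, rfl⟩ := h1 hx
    refine ⟨y, ?_, rfl⟩
    rw [mem_neutralSet_iff] at hx ⊢
    rw [hw y] at hx
    set s := H.hom y with hs
    set C := connectedComponentIn (G.hom ⁻¹' {s}) (unit G s) with hC
    have hCsub : C ⊆ Set.range i.left := by
      intro z hz
      apply h1
      rw [mem_neutralSet_iff]
      have hzs : G.hom z = s := connectedComponentIn_subset (G.hom ⁻¹' {s}) (unit G s) hz
      rw [hzs]
      exact hz
    have hpre : _root_.IsPreconnected (i.left ⁻¹' C) :=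
      isPreconnected_connectedComponentIn.preimage_of_isOpenMap i.left.isOpenEmbedding.injective
        i.left.isOpenEmbedding.isOpenMap hCsub
    have hunit : unit H s ∈ i.left ⁻¹' C := by
      show i.left (unit H s) ∈ C
      rw [hom_unit_eq G H i]
      exact mem_connectedComponentIn (hom_unit G s)
    have hsubF : i.left ⁻¹' C ⊆ H.hom ⁻¹' {s} := by
      intro z hz
      have : G.hom (i.left z) = s := connectedComponentIn_subset (G.hom ⁻¹' {s}) (unit G s) hz
      rw [hw z] at this
      exact this
    exact hpre.subset_connectedComponentIn hunit hsubF hx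

end Groth.Agent.S5327
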