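import Groth.Statements.S5328
import Groth.Agent.R2.H24FlatNeutral

set_option autoImplicit false
universe u
open CategoryTheory CategoryTheory.Limits MonoidalCategory CartesianMonoidalCategory MonObj GrpObj AlgebraicGeometry
open SGA3

namespace Groth.Agent.S5328

/-- Let u : G → H be a homomorphism between S-group schemes locally of finite presentation over S, and
let G⁰, H⁰ be the unions of the neutral components of the fibres. If u is flat then u(G⁰) = H⁰.
Conversely, if G is flat over S, the fibres H_s are reduced and u(G⁰) = H⁰, then u is flat. -/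
theorem result (S : Scheme.{u}) (G H : Over S) [GrpObj G] [GrpObj H]
    [LocallyOfFinitePresentation G.hom] [LocallyOfFinitePresentation H.hom] (u : G ⟶ H) [IsMonHom u] :
    (Flat u.left → u.left.base '' SGA3x.neutralSet G = SGA3x.neutralSet H) ∧
    (Flat G.hom → (∀ s : S, IsReduced (H.hom.fiber s)) → u.left.base '' SGA3x.neutralSet G = SGA3x.neutralSet H →
      Flat u.left) := by
  have hw : u.left ≫ H.hom = G.hom := Over.w u
  haveI : LocallyOfFinitePresentation (u.left ≫ H.hom) := by rw [hw]; infer_instance
  haveI : LocallyOfFinitePresentation u.left :=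
    Groth.Agent.Lib.Helper6.locallyOfFinitePresentation_of_comp (g := H.hom) inferInstance
      inferInstance
  refine ⟨fun hfl => ?_, fun hG hred himg => ?_⟩
  · haveI := hfl
    exact Groth.Agent.R2.H24.FlatNeutral.image_neutralSet_eq_of_flat G H u
  · haveI := hG
    apply Groth.Agent.R2.H24.FlatNeutral.flat_of_neutralSet_subset_range G H u hred
    rw [← himg]
    rintro _ ⟨x, -, rfl⟩
    exact ⟨x, rfl⟩

end Groth.Agent.S5328
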