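import Groth.Statements.S5339
import Groth.Agent.R2.H24LftGrp
import Groth.Agent.R2.H24AtPoint
import Groth.Agent.Lib.Helper11Homog

set_option autoImplicit false
set_option linter.style.haveILetI false
universe u
open CategoryTheory CategoryTheory.Limits MonoidalCategory CartesianMonoidalCategory MonObj GrpObj AlgebraicGeometry
open SGA3

namespace Groth.Agent.S5339

open Groth.Agent.R2.H24.LftGrp Groth.Agent.R2.H24.AtPoint Groth.Agent.Lib.Helper11Homog
  Groth.Agent.Lib.Helper25.TopGrp

/-- Let A be a local artinian ring and G a flat A-group scheme (not assumed locally of finite type). If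
G is locally quasi-finite and locally of finite type (resp. unramified, resp. smooth, resp. etale)
over A on some nonempty open subscheme, then G is locally quasi-finite and locally of finite type
(resp. unramified, resp. smooth, resp. etale) over A. -/
theorem result (A : Type u) [CommRing A] [IsArtinianRing A] [IsLocalRing A] (G : Over (Spec (CommRingCat.of A))) [GrpObj G] [Flat G.hom]
    (W : G.left.Opens) (hW : (W : Set G.left).Nonempty) :
    (LocallyQuasiFinite (W.ι ≫ G.hom) → LocallyOfFiniteType (W.ι ≫ G.hom) → LocallyQuasiFinite G.hom ∧ LocallyOfFiniteType G.hom) ∧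
    (FormallyUnramified (W.ι ≫ G.hom) → LocallyOfFinitePresentation (W.ι ≫ G.hom) →
      FormallyUnramified G.hom ∧ LocallyOfFinitePresentation G.hom) ∧
    (Smooth (W.ι ≫ G.hom) → Smooth G.hom) ∧ (Etale (W.ι ≫ G.hom) → Etale G.hom) := by
  have hS : ∀ s t : Spec (CommRingCat.of A), s = t := spec_subsingleton_of_artinian_local A
  have hlft : LocallyOfFiniteType (W.ι ≫ G.hom) → LocallyOfFiniteType G.hom := fun h =>
    haveI := h
    locallyOfFiniteType_of_open hS G W hW
  have hlfp : LocallyOfFiniteType G.hom → LocallyOfFinitePresentation G.hom := fun h => by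
    haveI := h
    infer_instance
  refine ⟨fun hq hf => ?_, fun hu hp => ?_, fun hs => ?_, fun he => ?_⟩
  · have h1 := hlft hf
    refine ⟨?_, h1⟩
    haveI : LocallyOfFiniteType (toUnit G).left := h1
    exact lqf_of_open G (𝟙_ _) (toUnit G) hS W hW hq
  · have h1 := hlft inferInstance
    have h2 := hlfp h1
    refine ⟨?_, h2⟩
    haveI : LocallyOfFiniteType (toUnit G).left := h1
    exact unram_of_open G (𝟙_ _) (toUnit G) hS W hW hu
  · have h1 := hlft inferInstance
    haveI := hlfp h1
    exact smooth_of_open G (𝟙_ _) (toUnit G) hS W hW hs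
  · have h1 := hlft inferInstance
    haveI := hlfp h1
    exact etale_of_open G (𝟙_ _) (toUnit G) hS W hW he

end Groth.Agent.S5339
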