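import Groth.Statements.S5340
import Groth.Agent.R2.H24LftGrp
import Groth.Agent.R2.H24NilpLft
import Groth.Agent.Lib.Helper11Homog

set_option autoImplicit false
set_option linter.style.haveILetI false
universe u
open CategoryTheory CategoryTheory.Limits MonoidalCategory CartesianMonoidalCategory MonObj GrpObj AlgebraicGeometry
open SGA3

namespace Groth.Agent.S5340

open Groth.Agent.R2.H24.LftGrp Groth.Agent.R2.H24.NilpLft Groth.Agent.Lib.Helper11Homog
  Groth.Agent.Lib.Helper25.TopGrp

/-- Let A be a local artinian ring and G an A-group scheme. If some nonempty open subscheme of G is of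
finite type over A, then G is locally of finite type over A. -/
theorem result (A : Type u) [CommRing A] [IsArtinianRing A] [IsLocalRing A] (G : Over (Spec (CommRingCat.of A))) [GrpObj G]
    (W : G.left.Opens) (hW : (W : Set G.left).Nonempty) [LocallyOfFiniteType (W.ι ≫ G.hom)] [QuasiCompact (W.ι ≫ G.hom)] :
    LocallyOfFiniteType G.hom := by
  have hS : ∀ s t : Spec (CommRingCat.of A), s = t := spec_subsingleton_of_artinian_local A
  let k := IsLocalRing.ResidueField A
  let r : Spec (CommRingCat.of k) ⟶ Spec (CommRingCat.of A) :=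
    Spec.map (CommRingCat.ofHom (algebraMap A k))
  let Gk : Over (Spec (CommRingCat.of k)) := Red.bc r G
  have hSk : ∀ s t : Spec (CommRingCat.of k), s = t := fun s t => Subsingleton.elim _ _
  haveI : Flat Gk.hom := inferInstance
  let π : Gk.left ⟶ G.left := pullback.fst G.hom r
  let Wk : Gk.left.Opens := π ⁻¹ᵁ W
  have hWk : (Wk : Set Gk.left).Nonempty := by
    obtain ⟨w₀, hw₀⟩ := hW
    obtain ⟨pt⟩ : Nonempty (Spec (CommRingCat.of k)) := inferInstance
    obtain ⟨z, hz, -⟩ := Scheme.Pullback.exists_preimage_pullback (f := G.hom) (g := r)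
      w₀ pt (hS _ _)
    exact ⟨z, show π z ∈ W from hz ▸ hw₀⟩
  haveI : LocallyOfFiniteType (Wk.ι ≫ Gk.hom) := by
    have h1 : IsPullback (π ∣_ W) Wk.ι W.ι π := isPullback_morphismRestrict π W
    have h2 : IsPullback π (pullback.snd G.hom r) G.hom r := IsPullback.of_hasPullback G.hom r
    have h3 := h1.paste_vert h2
    exact MorphismProperty.of_isPullback (P := @LocallyOfFiniteType) h3 inferInstance
  have hk : LocallyOfFiniteType Gk.hom :=
    locallyOfFiniteType_of_open (A := CommRingCat.of k) hSk Gk Wk hWk
  have hnil : IsNilpotent (IsLocalRing.maximalIdeal A) := by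
    rw [← IsLocalRing.jacobson_eq_maximalIdeal (⊥ : Ideal A) bot_ne_top]
    exact IsArtinianRing.isNilpotent_jacobson_bot
  haveI : LocallyOfFiniteType (pullback.fst (Spec.map (CommRingCat.ofHom
      (algebraMap A (A ⧸ IsLocalRing.maximalIdeal A)))) G.hom) := by
    have h4 : LocallyOfFiniteType (pullback.snd G.hom r) := hk
    have h5 : pullback.fst r G.hom = (pullbackSymmetry r G.hom).hom ≫ pullback.snd G.hom r := by
      simp
    show LocallyOfFiniteType (pullback.fst r G.hom)
    rw [h5]
    infer_instance
  exact locallyOfFiniteType_of_nilpotent (IsLocalRing.maximalIdeal A) hnil G.hom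

end Groth.Agent.S5340
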