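import Groth.Statements.S5344
import Groth.Agent.R2.H24NeutralGrp
import Groth.Agent.R2.H24LocConn
import Groth.Agent.Lib.Helper11Homog

set_option autoImplicit false
universe u
open CategoryTheory CategoryTheory.Limits MonoidalCategory CartesianMonoidalCategory MonObj GrpObj AlgebraicGeometry
open SGA3

namespace Groth.Agent.S5344

/-- Let A be a local artinian ring and G an A-group scheme locally of finite type, and let G⁰ be the
connected component of the unit point. Then G⁰ is open in G; it is stable under the group law: for
every A-scheme T and all points g, h : T → G whose images lie in G⁰, the image of g h⁻¹ lies in G⁰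
(so G⁰ carries an open subgroup scheme, the neutral component); and it is normal: for every A-scheme
T, every point g : T → G and every point n : T → G whose image lies in G⁰, the image of g n g⁻¹ lies
in G⁰. -/
theorem result (A : Type u) [CommRing A] [IsArtinianRing A] [IsLocalRing A] (G : Over (Spec (CommRingCat.of A))) [GrpObj G] [LocallyOfFiniteType G.hom]
    (pt : ↥(𝟙_ (Over (Spec (CommRingCat.of A)))).left) :
    IsOpen (connectedComponent (η[G].left.base pt)) ∧
    (∀ (T : Over (Spec (CommRingCat.of A))) (g h : T ⟶ G), Set.range g.left.base ⊆ connectedComponent (η[G].left.base pt) →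
      Set.range h.left.base ⊆ connectedComponent (η[G].left.base pt) →
      Set.range (g * h⁻¹).left.base ⊆ connectedComponent (η[G].left.base pt)) ∧
    ∀ (T : Over (Spec (CommRingCat.of A))) (g n : T ⟶ G), Set.range n.left.base ⊆ connectedComponent (η[G].left.base pt) →
      Set.range (g * n * g⁻¹).left.base ⊆ connectedComponent (η[G].left.base pt) := by
  have hS := Groth.Agent.Lib.Helper11Homog.spec_subsingleton_of_artinian_local A
  have hN : SGA3x.neutralSet G = connectedComponent (η[G].left.base pt) := by
    ext x
    rw [Groth.Agent.R2.H24.NeutralGrp.mem_neutralSet_iff]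
    have h1 : (G.hom ⁻¹' {G.hom x} : Set G.left) = Set.univ := by
      ext y
      simp only [Set.mem_preimage, Set.mem_singleton_iff, Set.mem_univ, iff_true]
      exact hS _ _
    have h2 : G.hom x = pt := hS _ _
    rw [h1, connectedComponentIn_univ, h2]
  refine ⟨?_, ?_, ?_⟩
  · haveI : IsLocallyNoetherian G.left := LocallyOfFiniteType.isLocallyNoetherian G.hom
    haveI := Groth.Agent.R2.H24.LocConn.locallyConnectedSpace_of_isLocallyNoetherian G.left
    exact isOpen_connectedComponent
  · intro T g h hg hh
    rw [← hN] at hg hh ⊢
    rintro _ ⟨t, rfl⟩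
    exact Groth.Agent.R2.H24.NeutralGrp.mul_left_mem_neutralSet G g h⁻¹ t (hg ⟨t, rfl⟩)
      (Groth.Agent.R2.H24.NeutralGrp.inv_left_mem_neutralSet G h t (hh ⟨t, rfl⟩))
  · intro T g n hn
    rw [← hN] at hn ⊢
    rintro _ ⟨t, rfl⟩
    exact Groth.Agent.R2.H24.NeutralGrp.conj_left_mem_neutralSet G g n t (hn ⟨t, rfl⟩)

end Groth.Agent.S5344
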