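import Groth.Statements.S5348
import Groth.Agent.R2.H24Homog

set_option autoImplicit false
universe u
open CategoryTheory CategoryTheory.Limits MonoidalCategory CartesianMonoidalCategory MonObj GrpObj AlgebraicGeometry
open SGA3

namespace Groth.Agent.S5348

/-- Let G be a group scheme over a field k (not assumed of finite type) acting on a k-scheme X so that
the morphism G ×_k X → X ×_k X, (g, x) ↦ (gx, x), is surjective. (i) For every field extension K of
k, every point of X ⊗_k K lies in exactly one irreducible component of X ⊗_k K. (iv) If x is a
k-rational point of X and C the irreducible component of X containing x, then for every field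
extension K of k the inverse image of C in X ⊗_k K is irreducible. -/
theorem result (k : Type u) [Field k] (G X : Over (Spec (CommRingCat.of k))) [GrpObj G] (a : AlgGrp.Action G X) (hΦ : Surjective (lift a.act (snd G X)).left) :
    (∀ (K : Type u) [Field K] [Algebra k K] (z : ↥(pullback X.hom (Spec.map (CommRingCat.ofHom (algebraMap k K))))),
      ∃! C, C ∈ irreducibleComponents ↥(pullback X.hom (Spec.map (CommRingCat.ofHom (algebraMap k K)))) ∧ z ∈ C) ∧
    (∀ (x : 𝟙_ (Over (Spec (CommRingCat.of k))) ⟶ X) (pt : ↥(𝟙_ (Over (Spec (CommRingCat.of k)))).left) (C : Set X.left),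
      C ∈ irreducibleComponents ↥X.left → x.left.base pt ∈ C →
      ∀ (K : Type u) [Field K] [Algebra k K],
        IsIrreducible ((pullback.fst X.hom (Spec.map (CommRingCat.ofHom (algebraMap k K)))).base ⁻¹' C)) := by
  refine ⟨fun K _ _ z => ?_, fun x pt C hC hxC K _ _ => ?_⟩
  · have hΦK := Groth.Agent.R2.H24.Homog.surjective_bc
      (Spec.map (CommRingCat.ofHom (algebraMap k K))) a hΦ
    refine ⟨irreducibleComponent z,
      ⟨irreducibleComponent_mem_irreducibleComponents z, mem_irreducibleComponent⟩, ?_⟩
    rintro C ⟨hC, hz⟩
    exact Groth.Agent.R2.H24.Homog.irreducibleComponent_unique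
      (a := a.bc (Spec.map (CommRingCat.ofHom (algebraMap k K)))) hΦK hC
      (irreducibleComponent_mem_irreducibleComponents z) hz mem_irreducibleComponent
  · have h1 : C = irreducibleComponent (x.left pt) :=
      Groth.Agent.R2.H24.Homog.irreducibleComponent_unique hΦ hC
        (irreducibleComponent_mem_irreducibleComponents _) hxC mem_irreducibleComponent
    rw [h1, Groth.Agent.R2.H24.Homog.irreducibleComponent_eq_orb hΦ]
    exact Groth.Agent.R2.H24.Homog.isIrreducible_preimage_orb x pt _

end Groth.Agent.S5348
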