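import Groth.Statements.S5366
import Groth.Agent.R2.H24SeriesWords

set_option autoImplicit false
universe u
open CategoryTheory CategoryTheory.Limits MonoidalCategory CartesianMonoidalCategory MonObj GrpObj AlgebraicGeometry
open SGA3

namespace Groth.Agent.S5366

/-- (i) ⟺ (iii): let G be a smooth group scheme of finite type over a field k, Ω an algebraically closed
extension field of k and n a natural number. Then G is solvable of class n (the n-th term of the
derived series of the group G(T) is trivial for every k-scheme T) if and only if the n-th term of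
the derived series of the group of Ω-points G(Ω) is trivial; and G is nilpotent of class n (the n-th
term of the lower central series of G(T) is trivial for every T) if and only if the n-th term of the
lower central series of G(Ω) is trivial. -/
theorem result (k : Type u) [Field k] (G : Over (Spec (CommRingCat.of k))) [GrpObj G]
    [Smooth G.hom] [QuasiCompact G.hom] (Ω : Type u) [Field Ω] [Algebra k Ω] [IsAlgClosed Ω] (n : ℕ) :
    ((∀ T : Over (Spec (CommRingCat.of k)), derivedSeries (T ⟶ G) n = ⊥) ↔ derivedSeries ((Over.mk (Spec.map (CommRingCat.ofHom (algebraMap k Ω))) : Over (Spec (CommRingCat.of k))) ⟶ G) n = ⊥) ∧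
    ((∀ T : Over (Spec (CommRingCat.of k)), Subgroup.lowerCentralSeries (⊤ : Subgroup (T ⟶ G)) n = ⊥) ↔ Subgroup.lowerCentralSeries (⊤ : Subgroup (((Over.mk (Spec.map (CommRingCat.ofHom (algebraMap k Ω))) : Over (Spec (CommRingCat.of k))) ⟶ G))) n = ⊥) := by
  classical
  haveI hsep : IsSeparated G.hom := Groth.Agent.Lib.Helper8.isSeparated_of_discrete G
  -- a word which is trivial on `Ω`-points is trivial
  have key : ∀ (W : Groth.Agent.R2.H24.SeriesWords.WordData G), Smooth W.P.hom →
      (∀ p : (Over.mk (Spec.map (CommRingCat.ofHom (algebraMap k Ω))) :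
        Over (Spec (CommRingCat.of k))) ⟶ W.P, p ≫ W.c = 1) → W.c = 1 := by
    intro W hW h
    refine Groth.Agent.Lib.Helper11SepPts.ext_of_points k Ω W.c 1 (fun p => ?_)
    rw [h p]
    exact (MonObj.comp_one p).symm
  refine ⟨⟨fun h => h _, fun h T => ?_⟩, ⟨fun h => h _, fun h T => ?_⟩⟩
  · have hW : (Groth.Agent.R2.H24.SeriesWords.derivedW G n).c = 1 := by
      refine key _ (Groth.Agent.R2.H24.SeriesWords.smooth_derivedW G n) (fun p => ?_)
      have hp := Groth.Agent.R2.H24.SeriesWords.vals_subset_derivedSeries G _ n ⟨p, rfl⟩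
      rw [h] at hp
      exact (Subgroup.mem_bot).mp hp
    rw [eq_bot_iff]
    exact (Groth.Agent.R2.H24.SeriesWords.derivedSeries_le G T n).trans
      (Groth.Agent.R2.H24.SeriesWords.normalClosure_vals_eq_bot G _ hW T).le
  · have hW : (Groth.Agent.R2.H24.SeriesWords.lcsW G n).c = 1 := by
      refine key _ (Groth.Agent.R2.H24.SeriesWords.smooth_lcsW G n) (fun p => ?_)
      have hp := Groth.Agent.R2.H24.SeriesWords.vals_subset_lcs G _ n ⟨p, rfl⟩
      rw [h] at hp
      exact (Subgroup.mem_bot).mp hp
    rw [eq_bot_iff]
    exact (Groth.Agent.R2.H24.SeriesWords.lcs_le G T n).trans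
      (Groth.Agent.R2.H24.SeriesWords.normalClosure_vals_eq_bot G _ hW T).le

end Groth.Agent.S5366
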