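import Groth.Statements.S5371
import Mathlib
import Groth.Agent.S5370
import Groth.Agent.Lib.Helper12Descent
import Groth.Agent.Lib.Helper12Torsor
import Groth.Agent.Lib.Helper1Thickening
import Groth.Agent.R2.H44FppfSrc2
import Groth.Agent.R2.H44QuotLim

set_option autoImplicit false
set_option linter.style.haveILetI false
universe u
open CategoryTheory CategoryTheory.Limits MonoidalCategory CartesianMonoidalCategory MonObj GrpObj AlgebraicGeometry
open SGA3

namespace Groth.Agent.S5371

open Groth.Agent.Lib.Helper12 Groth.Agent.S5370 Groth.Agent.R2.H44.FppfSrc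

/-- Let u : G' → G be a monomorphism of S-group schemes and p : G → G'' a morphism of S-schemes which is
covering for the fpqc topology (some Z → G'' which is flat, surjective, with every affine open of
G'' the image of a quasi-compact open of Z, factors through p) and such that the square (g, h) ↦
g·u(h), first projection G ×_S G' → G, p, p is cartesian, so that G'' represents the fpqc quotient
sheaf G/G'. (xii) G' is flat and locally of finite presentation over S if and only if p is
surjective, flat and locally of finite presentation; in that case, if G is locally of finite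
presentation (resp. locally of finite type, of finite type, smooth, etale, unramified, locally
quasi-finite) over S, so is G''. (xiii) If G' is flat and of finite presentation over S then p is of
finite presentation, and G is of finite presentation over S if and only if G'' is. -/
theorem result (S : Scheme.{u}) (G G' G'' : Over S) [GrpObj G] [GrpObj G']
    (u : G' ⟶ G) [IsMonHom u] [Mono u] (p : G ⟶ G'')
    (hcov : (∃ (Z : Scheme.{u}) (q : Z ⟶ G''.left) (r : Z ⟶ G.left), r ≫ p.left = q ∧ Surjective q ∧ Flat q ∧
        ∀ V : G''.left.Opens, IsAffineOpen V → ∃ W : Z.Opens, IsCompact (W : Set Z) ∧ q.base '' (W : Set Z) = (V : Set G''.left)))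
    (hsq : IsPullback ((G ◁ u) ≫ μ[G]) (fst G G') p p) :
    ((Flat G'.hom ∧ LocallyOfFinitePresentation G'.hom) ↔
      (Surjective p.left ∧ Flat p.left ∧ LocallyOfFinitePresentation p.left)) ∧
    (Flat p.left → LocallyOfFinitePresentation p.left →
      (LocallyOfFinitePresentation G.hom → LocallyOfFinitePresentation G''.hom) ∧
      (LocallyOfFiniteType G.hom → LocallyOfFiniteType G''.hom) ∧
      (LocallyOfFiniteType G.hom → QuasiCompact G.hom → QuasiCompact G''.hom) ∧
      (Smooth G.hom → Smooth G''.hom) ∧ (Etale G.hom → Etale G''.hom) ∧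
      (FormallyUnramified G.hom → LocallyOfFinitePresentation G.hom → FormallyUnramified G''.hom) ∧
      (LocallyQuasiFinite G.hom → LocallyOfFiniteType G.hom → LocallyQuasiFinite G''.hom)) ∧
    (Flat G'.hom → LocallyOfFinitePresentation G'.hom → QuasiCompact G'.hom → QuasiSeparated G'.hom →
      QuasiCompact p.left ∧ QuasiSeparated p.left ∧ LocallyOfFinitePresentation p.left ∧
      ((LocallyOfFinitePresentation G.hom ∧ QuasiCompact G.hom ∧ QuasiSeparated G.hom) ↔
        (LocallyOfFinitePresentation G''.hom ∧ QuasiCompact G''.hom ∧ QuasiSeparated G''.hom))) := by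
  obtain ⟨Z, q, r, hrq, hqs, hqf, hqc⟩ := hcov
  have hq := singleton_mem_fpqcPrecoverage q hqc
  have hsq' := hsq.map (Over.forget S)
  have hps : Surjective p.left := ⟨fun y => by
    obtain ⟨z, hz⟩ := hqs.surj y
    exact ⟨r z, by rw [← Scheme.Hom.comp_apply, hrq, hz]⟩⟩
  have hw : p.left ≫ G''.hom = G.hom := Over.w p
  -- descent of a property from `G' → S` to `p`
  have key : ∀ (P : MorphismProperty Scheme.{u}) [IsZariskiLocalAtTarget P] [P.IsStableUnderBaseChange],
      P.DescendsAlong (@Surjective ⊓ @Flat ⊓ @QuasiCompact : MorphismProperty Scheme.{u}) →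
        P G'.hom → P p.left := by
    intro P _ _ hP hG'
    have hfst : P (fst G G').left := by
      change P (pullback.fst G.hom G'.hom)
      exact P.pullback_fst _ _ hG'
    exact of_fpqc_factor (P := P) hP p.left q r hrq hq hsq' hfst
  -- base change from `p` to `G' → S`
  have key' : ∀ (P : MorphismProperty Scheme.{u}) [P.RespectsIso] [P.IsStableUnderBaseChange],
      P p.left → P G'.hom := by
    intro P _ _ hp
    exact hom_of_fst (P := P) G G' (P.of_isPullback hsq' hp)
  refine ⟨⟨fun h => ⟨hps, key @Flat descendsAlong_flat h.1,
    key @LocallyOfFinitePresentation inferInstance h.2⟩,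
    fun h => ⟨key' @Flat h.2.1, key' @LocallyOfFinitePresentation h.2.2⟩⟩, ?_, ?_⟩
  · intro hpf hplfp
    refine ⟨?_, ?_, ?_, ?_, ?_, ?_, ?_⟩
    · intro hG
      haveI : LocallyOfFinitePresentation (p.left ≫ G''.hom) := by rw [hw]; exact hG
      exact locallyOfFinitePresentation_of_fppf_cover_source p.left G''.hom
    · intro hG
      haveI : LocallyOfFiniteType (p.left ≫ G''.hom) := by rw [hw]; exact hG
      exact locallyOfFiniteType_of_fppf_cover_source p.left G''.hom
    · intro _ hG
      haveI : QuasiCompact (p.left ≫ G''.hom) := by rw [hw]; exact hG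
      exact Groth.Agent.R2.H44.GrpLim.quasiCompact_of_comp_surjective p.left G''.hom
    · intro hG
      haveI : Smooth (p.left ≫ G''.hom) := by rw [hw]; exact hG
      exact smooth_of_fppf_cover_source p.left G''.hom
    · intro hG
      haveI : Etale (p.left ≫ G''.hom) := by rw [hw]; exact hG
      exact etale_of_fppf_cover_source p.left G''.hom
    · intro hG _
      haveI : FormallyUnramified (p.left ≫ G''.hom) := by rw [hw]; exact hG
      exact formallyUnramified_of_fppf_cover_source p.left G''.hom
    · intro hG _
      haveI : LocallyQuasiFinite (p.left ≫ G''.hom) := by rw [hw]; exact hG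
      exact locallyQuasiFinite_of_fppf_cover_source p.left G''.hom
  · intro hfl hlfp hqc' hqs'
    haveI hp1 : QuasiCompact p.left := key @QuasiCompact descendsAlong_quasiCompact hqc'
    haveI hp2 : QuasiSeparated p.left := key @QuasiSeparated descendsAlong_quasiSeparated hqs'
    haveI hp3 : LocallyOfFinitePresentation p.left := key @LocallyOfFinitePresentation inferInstance hlfp
    haveI hp4 : Flat p.left := key @Flat descendsAlong_flat hfl
    refine ⟨hp1, hp2, hp3, ⟨?_, ?_⟩⟩
    · rintro ⟨h1, h2, h3⟩
      haveI : LocallyOfFinitePresentation (p.left ≫ G''.hom) := by rw [hw]; exact h1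
      haveI : QuasiCompact (p.left ≫ G''.hom) := by rw [hw]; exact h2
      haveI : QuasiSeparated (p.left ≫ G''.hom) := by rw [hw]; exact h3
      exact ⟨locallyOfFinitePresentation_of_fppf_cover_source p.left G''.hom,
        Groth.Agent.R2.H44.GrpLim.quasiCompact_of_comp_surjective p.left G''.hom,
        Groth.Agent.Lib.Helper1.quasiSeparated_of_comp_surjective p.left G''.hom⟩
    · rintro ⟨h1, h2, h3⟩
      rw [← hw]
      exact ⟨inferInstance, inferInstance, inferInstance⟩

end Groth.Agent.S5371
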