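import Groth.Statements.S5397
import Groth.Agent.R2.H24HomogSepFib

set_option autoImplicit false
universe u
open CategoryTheory CategoryTheory.Limits MonoidalCategory CartesianMonoidalCategory MonObj GrpObj AlgebraicGeometry
open SGA3

namespace Groth.Agent.S5397

/-- Let G be an S-group scheme locally of finite presentation over S and universally open over S on some
open containing the unit section, acting on an S-scheme X so that G ×_S X → X ×_S X, (g, x) ↦ (gx,
x), is surjective, and suppose every fibre X_s is a quasi-separated and connected space. Then X is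
separated over S; and if there is an open subscheme V of X, quasi-compact over S, meeting every
nonempty fibre X_s, then X is quasi-compact over S. (The published statement concludes that X is
quasi-compact over S without the open V; for a local scheme S whose punctured spectrum is not
quasi-compact, the trivial group acting on the disjoint union of the closed point and the punctured
spectrum satisfies every hypothesis and is not quasi-compact over S, so the open V is required
here.) -/
theorem result (S : Scheme.{u}) (G X : Over S) [GrpObj G]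
    [LocallyOfFinitePresentation G.hom]
    (hGo : ∃ W : G.left.Opens, (∀ p : ↥(𝟙_ (Over S)).left, η[G].left.base p ∈ W) ∧ UniversallyOpen (W.ι ≫ G.hom))
    (a : AlgGrp.Action G X) (hΦ : Surjective (lift a.act (snd G X)).left)
    (hqs : ∀ s : S, QuasiSeparatedSpace ↥(X.hom.base ⁻¹' {s}))
    (hconn : ∀ s : S, _root_.IsPreconnected (X.hom.base ⁻¹' {s})) :
    IsSeparated X.hom ∧
    ((∃ V : X.left.Opens, QuasiCompact (V.ι ≫ X.hom) ∧
        ∀ s : S, (X.hom.base ⁻¹' {s}).Nonempty → ((V : Set X.left) ∩ X.hom.base ⁻¹' {s}).Nonempty) →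
      QuasiCompact X.hom) := by
  open Groth.Agent.R2.H24.HomogSep Groth.Agent.R2.H24.HomogSepFib in
  obtain ⟨W, hW1, hWo⟩ := hGo
  have key : ∀ (x y : X.left), X.hom x = X.hom y → ∃ w₀ : (G ⊗ X).left, a.act.left w₀ = y ∧
      (fst G X).left w₀ ∈ SGA3x.neutralSet G ∧ (snd G X).left w₀ = x := fun x y hxy =>
    exists_of_connected_fibre a (X.hom y) hΦ (hqs _) (hconn _) x y hxy rfl
  refine ⟨?_, ?_⟩
  · apply isSeparated_of_forall_mem_orb a W hW1 hWo
    intro s
    by_cases hne : (X.hom ⁻¹' {s}).Nonempty
    · obtain ⟨x₀, hx₀⟩ := hne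
      obtain ⟨U, hU, hxU, -⟩ := exists_isAffineOpen_mem_and_subset
        (x := x₀) (U := (⊤ : X.left.Opens)) trivial
      have hUaff : IsAffine (U : Scheme.{u}) := hU
      refine ⟨U, inferInstance, fun y hy => ?_⟩
      have hx₀' : X.hom x₀ = s := hx₀
      obtain ⟨w₀, h1, h2, h3⟩ := key x₀ y (hx₀'.trans hy.symm)
      exact ⟨w₀, h1, h2, by rw [h3]; exact hxU⟩
    · have hbot : IsAffine ((⊥ : X.left.Opens) : Scheme.{u}) := isAffineOpen_bot X.left
      exact ⟨⊥, inferInstance, fun y hy => (hne ⟨y, hy⟩).elim⟩
  · rintro ⟨V, hVqc, hV⟩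
    rw [quasiCompact_iff_forall_isAffineOpen]
    intro O hO
    haveI : IsAffine (O : Scheme.{u}) := hO
    haveI : QuasiSeparatedSpace (O : Scheme.{u}) := inferInstance
    obtain ⟨UG, hUGc, hUGO, hUG⟩ := Groth.Agent.R2.H24.NeutralSet.exists_isCompact_opens_supset
      G O (O : Set S) hO.isCompact (subset_refl _)
    let VO : X.left.Opens := V ⊓ X.hom ⁻¹ᵁ O
    have hVOc : IsCompact (VO : Set X.left) := by
      have h1 : IsCompact ((V.ι ≫ X.hom) ⁻¹ᵁ O : Set V) :=
        (quasiCompact_iff_forall_isAffineOpen.mp hVqc) O hO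
      have h2 := h1.image V.ι.continuous
      have h3 : V.ι '' ((V.ι ≫ X.hom) ⁻¹ᵁ O : Set V) = (VO : Set X.left) := by
        ext y
        constructor
        · rintro ⟨v, hv, rfl⟩
          exact ⟨v.2, hv⟩
        · rintro ⟨hy1, hy2⟩
          exact ⟨⟨y, hy1⟩, hy2, rfl⟩
      rwa [h3] at h2
    have hVOO : (VO : Set X.left) ⊆ X.hom ⁻¹' O := fun y hy => hy.2
    have hA := isCompact_fst_preimage_inter_snd_preimage (Y := G) (Z := X) O UG VO hUGO hVOO
      hUGc hVOc
    have himg := hA.image a.act.left.continuous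
    have heq : (X.hom ⁻¹ᵁ O : Set X.left) = a.act.left ''
        ((fst G X).left ⁻¹' (UG : Set G.left) ∩ (snd G X).left ⁻¹' (VO : Set X.left)) := by
      apply le_antisymm
      · intro y hy
        have hyO : X.hom y ∈ O := hy
        obtain ⟨v, hvV, hvs⟩ := hV (X.hom y) ⟨y, rfl⟩
        have hvs' : X.hom v = X.hom y := hvs
        obtain ⟨w₀, h1, h2, h3⟩ := key v y hvs'
        have hGw : G.hom ((fst G X).left w₀) = X.hom y := by
          rw [← Scheme.Hom.comp_apply, Over.w (fst G X), ← Over.w (snd G X),
            Scheme.Hom.comp_apply, h3, hvs']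
        refine ⟨w₀, ⟨hUG ⟨h2, ?_⟩, ?_⟩, h1⟩
        · show G.hom ((fst G X).left w₀) ∈ O
          rw [hGw]; exact hyO
        · show (snd G X).left w₀ ∈ VO
          rw [h3]
          exact ⟨hvV, by show X.hom v ∈ O; rw [hvs']; exact hyO⟩
      · rintro _ ⟨w, ⟨hw1, -⟩, rfl⟩
        show X.hom (a.act.left w) ∈ O
        have : X.hom (a.act.left w) = G.hom ((fst G X).left w) := by
          rw [← Scheme.Hom.comp_apply, Over.w a.act, ← Over.w (fst G X), Scheme.Hom.comp_apply]
        rw [this]
        exact hUGO hw1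
    rw [heq]
    exact himg

end Groth.Agent.S5397
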