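import Groth.Statements.S5434
-- import your own Groth.Agent.* helpers here
import Groth.Agent.Lib.Helper13AffMor
import Mathlib

set_option autoImplicit false
universe u
open CategoryTheory MonoidalCategory CartesianMonoidalCategory MonObj GrpObj AlgebraicGeometry CategoryTheory.Limits
open SGA3x

namespace Groth.Agent.S5434

section Helpers

open TopologicalSpace Groth.Agent

lemma res_inf_eq {A : Scheme.{u}} (U : A.Opens) (hU : CInt.IsSchematicallyDense U) (V : A.Opens)
    {R : CommRingCat.{u}} (φ ψ : R ⟶ Γ(A, V))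
    (h : φ ≫ A.presheaf.map (homOfLE (inf_le_left : V ⊓ U ≤ V)).op =
      ψ ≫ A.presheaf.map (homOfLE (inf_le_left : V ⊓ U ≤ V)).op) : φ = ψ := by
  ext r
  apply hU V
  exact congr($h r)

lemma ext_of_dense_of_pointwise {A B : Scheme.{u}} (U : A.Opens)
    (hU : CInt.IsSchematicallyDense U)
    (f g : A ⟶ B) (h : U.ι ≫ f = U.ι ≫ g) (hpt : ∀ a : A, f a = g a) : f = g := by
  have hW : ∀ a : A, ∃ W : B.Opens, IsAffineOpen W ∧ f a ∈ W := fun a => by
    obtain ⟨_, ⟨W, hW, rfl⟩, hxW, -⟩ :=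
      B.isBasis_affineOpens.exists_subset_of_mem_open (Set.mem_univ (f a)) isOpen_univ
    exact ⟨W, hW, hxW⟩
  choose W hWaff hfW using hW
  let V : A → A.Opens := fun a => f ⁻¹ᵁ W a ⊓ g ⁻¹ᵁ W a
  have hcov : IsOpenCover V := by
    rw [IsOpenCover, eq_top_iff]
    intro a _
    refine Opens.mem_iSup.2 ⟨a, hfW a, ?_⟩
    change g a ∈ W a
    rw [← hpt]
    exact hfW a
  refine Scheme.Cover.hom_ext (A.openCoverOfIsOpenCover V hcov) _ _ fun a => ?_
  change (V a).ι ≫ f = (V a).ι ≫ g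
  have hle : V a ≤ f ⁻¹ᵁ W a := inf_le_left
  have hle' : V a ≤ g ⁻¹ᵁ W a := inf_le_right
  refine Helper13AffMor.ι_comp_eq_of_appLE_eq (hWaff a) f g hle hle' ?_
  apply res_inf_eq U hU (V a)
  rw [Scheme.Hom.appLE_map, Scheme.Hom.appLE_map]
  have h2 : (V a ⊓ U).ι ≫ f = (V a ⊓ U).ι ≫ g := by
    rw [← A.homOfLE_ι (inf_le_right : V a ⊓ U ≤ U), Category.assoc, Category.assoc, h]
  exact Helper13AffMor.appLE_of_ι_comp_eq (hWaff a) f
    (g.appLE (W a) (V a ⊓ U) (inf_le_left.trans hle'))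
    (by rw [h2]; exact Helper13AffMor.ι_comp_eq_toAff (hWaff a) g _)

lemma ext_of_dense_of_isSeparated {A B T : Scheme.{u}} (U : A.Opens)
    (hU : CInt.IsSchematicallyDense U)
    (f g : A ⟶ B) (p : B ⟶ T) [IsSeparated p] (hp : f ≫ p = g ≫ p)
    (h : U.ι ≫ f = U.ι ≫ g) : f = g := by
  let X' : Over T := Over.mk (f ≫ p)
  let Y' : Over T := Over.mk p
  let U' : Over T := Over.mk (U.ι ≫ f ≫ p)
  let f' : X' ⟶ Y' := Over.homMk f
  let g' : X' ⟶ Y' := Over.homMk g hp.symm
  let ι' : U' ⟶ X' := Over.homMk U.ι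
  have : IsSeparated Y'.hom := ‹_›
  have hι : ι' ≫ f' = ι' ≫ g' := by ext1; exact h
  have hl : (equalizer.lift ι' hι).left ≫ (equalizer.ι f' g').left = U.ι := by
    rw [← Over.comp_left, equalizer.lift_ι]
    rfl
  have hiso : IsIso (equalizer.ι f' g').left := by
    rw [IsClosedImmersion.isIso_iff_ker_eq_bot, eq_bot_iff, Scheme.IdealSheafData.le_def]
    intro W
    rw [Scheme.Hom.ker_apply, Scheme.IdealSheafData.ideal_bot]
    intro s hs
    have hs' : ((equalizer.ι f' g').left.app W.1).hom s = 0 := hs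
    have h1 : (U.ι.app W.1).hom s = 0 := by
      rw [Scheme.Hom.congr_app hl.symm W.1, Scheme.Hom.comp_app]
      change (CommRingCat.Hom.hom _) ((CommRingCat.Hom.hom
        (Scheme.Hom.app (equalizer.lift ι' hι).left _))
          ((CommRingCat.Hom.hom (Scheme.Hom.app (equalizer.ι f' g').left W.1)) s)) = 0
      rw [hs', map_zero, map_zero]
    have h2 : W.1 ⊓ U ≤ U.ι ''ᵁ U.ι ⁻¹ᵁ W.1 := by
      rintro x ⟨hxW, hxU⟩
      exact ⟨⟨x, hxU⟩, hxW, rfl⟩
    have h0 : U.ι ''ᵁ U.ι ⁻¹ᵁ W.1 ≤ W.1 := by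
      rintro _ ⟨x, hx, rfl⟩
      exact hx
    have h1' : (A.presheaf.map (homOfLE h0).op).hom s = 0 := h1
    have key : A.presheaf.map (homOfLE (inf_le_left : W.1 ⊓ U ≤ W.1)).op =
        A.presheaf.map (homOfLE h0).op ≫ A.presheaf.map (homOfLE h2).op := by
      rw [← Functor.map_comp]
      rfl
    have h3 : (A.presheaf.map (homOfLE (inf_le_left : W.1 ⊓ U ≤ W.1)).op).hom s = 0 := by
      rw [key]
      simp only [CommRingCat.hom_comp, RingHom.comp_apply, h1', map_zero]
    have := hU W.1 (a₁ := s) (a₂ := 0) (by rw [map_zero]; exact h3)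
    rw [this]
    exact Ideal.zero_mem _
  rw [← cancel_epi (equalizer.ι f' g').left]
  exact congr($(equalizer.condition f' g').left)

lemma fibre_eq {S T : Scheme.{u}} (X Y : Over S) (φ : T ⟶ S) (U : X.left.Opens)
    (hdense : CInt.IsSchematicallyDense ((pullback.fst X.hom φ) ⁻¹ᵁ U))
    [IsSeparated (pullback.snd Y.hom φ)]
    (f g : X ⟶ Y) (h : U.ι ≫ f.left = U.ι ≫ g.left) :
    pullback.fst X.hom φ ≫ f.left = pullback.fst X.hom φ ≫ g.left := by
  let fs : pullback X.hom φ ⟶ pullback Y.hom φ :=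
    pullback.map X.hom φ Y.hom φ f.left (𝟙 _) (𝟙 _) (by simp) (by simp)
  let gs : pullback X.hom φ ⟶ pullback Y.hom φ :=
    pullback.map X.hom φ Y.hom φ g.left (𝟙 _) (𝟙 _) (by simp) (by simp)
  have h1 : fs ≫ pullback.fst Y.hom φ = pullback.fst X.hom φ ≫ f.left :=
    pullback.lift_fst _ _ _
  have h2 : gs ≫ pullback.fst Y.hom φ = pullback.fst X.hom φ ≫ g.left :=
    pullback.lift_fst _ _ _
  have h3 : fs ≫ pullback.snd Y.hom φ = pullback.snd X.hom φ :=
    (pullback.lift_snd _ _ _).trans (Category.comp_id _)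
  have h4 : gs ≫ pullback.snd Y.hom φ = pullback.snd X.hom φ :=
    (pullback.lift_snd _ _ _).trans (Category.comp_id _)
  have hagree : ((pullback.fst X.hom φ) ⁻¹ᵁ U).ι ≫ fs = ((pullback.fst X.hom φ) ⁻¹ᵁ U).ι ≫ gs := by
    apply pullback.hom_ext
    · rw [Category.assoc, Category.assoc, h1, h2, ← morphismRestrict_ι_assoc,
        ← morphismRestrict_ι_assoc, h]
    · rw [Category.assoc, Category.assoc, h3, h4]
  have hfg : fs = gs :=
    ext_of_dense_of_isSeparated _ hdense fs gs (pullback.snd Y.hom φ) (by rw [h3, h4]) hagree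
  rw [← h1, ← h2, hfg]

lemma pointwise_eq (S : Scheme.{u}) (X Y : Over S) (U : X.left.Opens)
    (hU : (∀ (S' : Scheme.{u}) (g : S' ⟶ S),
      CInt.IsSchematicallyDense ((pullback.fst X.hom g) ⁻¹ᵁ U)))
    (hY : ∀ s : S, IsSeparated (pullback.snd Y.hom (S.fromSpecResidueField s)))
    (f g : X ⟶ Y) (h : U.ι ≫ f.left = U.ι ≫ g.left) (a : X.left) : f.left a = g.left a := by
  have hsep := hY (X.hom a)
  have key := fibre_eq X Y (S.fromSpecResidueField (X.hom a)) U (hU _ _) f g h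
  obtain ⟨a', ha', -⟩ := Scheme.Pullback.exists_preimage_pullback (f := X.hom)
    (g := S.fromSpecResidueField (X.hom a)) a
    (default : Spec (S.residueField (X.hom a))) (by
      rw [Scheme.fromSpecResidueField_apply])
  rw [← ha', ← Scheme.Hom.comp_apply, ← Scheme.Hom.comp_apply, key]

end Helpers


/-- Let X be an S-scheme and U an open subscheme of X which is schematically dense in X relative to S:
for every S′ → S the preimage of U in X ×_S S′ is schematically dense (restriction of functions to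
it is injective on every open). Let Y be an S-scheme whose fibres Y_s are separated (over κ(s)). If
two S-morphisms f, g : X → Y agree on U, then f = g. -/
theorem result (S : Scheme.{u}) (X Y : Over S) (U : X.left.Opens) (hU : (∀ (S' : Scheme.{u}) (g : S' ⟶ S), CInt.IsSchematicallyDense ((pullback.fst X.hom g) ⁻¹ᵁ U)))
    (hY : ∀ s : S, IsSeparated (pullback.snd Y.hom (S.fromSpecResidueField s)))
    (f g : X ⟶ Y) (h : U.ι ≫ f.left = U.ι ≫ g.left) : f = g := by
  have hpt := pointwise_eq S X Y U hU hY f g h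
  ext1
  have hiso : IsIso (pullback.fst X.hom (𝟙 S)) := inferInstance
  rw [← cancel_epi (pullback.fst X.hom (𝟙 S))]
  refine ext_of_dense_of_pointwise _ (hU S (𝟙 S)) _ _ ?_ (fun a => ?_)
  · rw [← morphismRestrict_ι_assoc, ← morphismRestrict_ι_assoc, h]
  · rw [Scheme.Hom.comp_apply, Scheme.Hom.comp_apply]
    exact hpt _

end Groth.Agent.S5434
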