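import Groth.Statements.S5435
-- import your own Groth.Agent.* helpers here
import Mathlib

set_option autoImplicit false
universe u
open CategoryTheory MonoidalCategory CartesianMonoidalCategory MonObj GrpObj AlgebraicGeometry CategoryTheory.Limits
open SGA3x

namespace Groth.Agent.S5435

section Helpers

open TopologicalSpace

/-- schematically dense opens are topologically dense -/
lemma dense_of_schematicallyDense {A : Scheme.{u}} (U : A.Opens)
    (hU : CInt.IsSchematicallyDense U) : Dense (U : Set A) := by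
  rw [dense_iff_inter_open]
  intro V hV hne
  by_contra hcon
  rw [Set.not_nonempty_iff_eq_empty] at hcon
  let V' : A.Opens := ⟨V, hV⟩
  have hbot : V' ⊓ U = ⊥ := by
    ext x
    simp only [Opens.coe_inf, Opens.coe_bot]
    exact Set.ext_iff.mp hcon x
  have hsub : Subsingleton Γ(A, V' ⊓ U) := by
    rw [hbot]; infer_instance
  have h10 : (1 : Γ(A, V')) = 0 := hU V' (Subsingleton.elim _ _)
  have h1 : A.basicOpen (1 : Γ(A, V')) = V' := Scheme.basicOpen_of_isUnit _ isUnit_one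
  rw [h10, Scheme.basicOpen_zero] at h1
  obtain ⟨x, hx⟩ := hne
  have : x ∈ (⊥ : A.Opens) := by rw [h1]; exact hx
  exact this

variable {S : Scheme.{u}}

/-- the division map `(x, u) ↦ u⁻¹ x` -/
noncomputable def dv (G : Over S) [GrpObj G] : G ⊗ G ⟶ G := (snd G G)⁻¹ * fst G G

lemma agree_of_range {G H : Over S} (U : G.left.Opens) (f g : G ⟶ H)
    (h : U.ι ≫ f.left = U.ι ≫ g.left) {T : Over S} (a : T ⟶ G)
    (ha : Set.range a.left ⊆ (U : Set G.left)) : a ≫ f = a ≫ g := by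
  have hr : Set.range a.left ⊆ Set.range U.ι := by
    rw [Scheme.Opens.range_ι]; exact ha
  have hl : IsOpenImmersion.lift U.ι a.left hr ≫ U.ι = a.left := IsOpenImmersion.lift_fac _ _ _
  ext1
  rw [Over.comp_left, Over.comp_left, ← hl, Category.assoc, Category.assoc, h]

lemma agree_on_W {G H : Over S} [GrpObj G] [GrpObj H] (U : G.left.Opens)
    (f g : G ⟶ H) [IsMonHom f] [IsMonHom g] (h : U.ι ≫ f.left = U.ι ≫ g.left)
    (W : (G ⊗ G).left.Opens) (hW1 : W ≤ (snd G G).left ⁻¹ᵁ U) (hW2 : W ≤ (dv G).left ⁻¹ᵁ U) :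
    W.ι ≫ (fst G G).left ≫ f.left = W.ι ≫ (fst G G).left ≫ g.left := by
  let WW : Over S := Over.mk (W.ι ≫ (G ⊗ G).hom)
  let w : WW ⟶ G ⊗ G := Over.homMk W.ι
  have hu : (w ≫ snd G G) ≫ f = (w ≫ snd G G) ≫ g := by
    apply agree_of_range U f g h
    rintro _ ⟨z, rfl⟩
    exact hW1 z.2
  have hv : (w ≫ dv G) ≫ f = (w ≫ dv G) ≫ g := by
    apply agree_of_range U f g h
    rintro _ ⟨z, rfl⟩
    exact hW2 z.2
  have hx : w ≫ fst G G = (w ≫ snd G G) * (w ≫ dv G) := by
    rw [dv, MonObj.comp_mul, GrpObj.comp_inv]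
    group
  have key : (w ≫ fst G G) ≫ f = (w ≫ fst G G) ≫ g := by
    rw [hx, MonObj.mul_comp, MonObj.mul_comp, hu, hv]
  have := congrArg (fun m => m.left) key
  simpa [w] using this

lemma exists_point_W {G : Over S} [GrpObj G] (U : G.left.Opens)
    (hU : ∀ (S' : Scheme.{u}) (g : S' ⟶ S),
      CInt.IsSchematicallyDense ((pullback.fst G.hom g) ⁻¹ᵁ U))
    (x₀ : G.left) :
    ∃ p : (G ⊗ G).left, (snd G G).left p ∈ U ∧ (dv G).left p ∈ U ∧ (fst G G).left p = x₀ := by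
  let t : Spec (G.left.residueField x₀) ⟶ G.left := G.left.fromSpecResidueField x₀
  let pr : pullback G.hom (t ≫ G.hom) ⟶ G.left := pullback.fst G.hom (t ≫ G.hom)
  let q : pullback G.hom (t ≫ G.hom) ⟶ Spec (G.left.residueField x₀) :=
    pullback.snd G.hom (t ≫ G.hom)
  have hcond : pr ≫ G.hom = q ≫ t ≫ G.hom := pullback.condition
  let GTO : Over S := Over.mk (pr ≫ G.hom)
  let prO : GTO ⟶ G := Over.homMk pr
  let xO : GTO ⟶ G := Over.homMk (q ≫ t) (by simp [GTO, hcond])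
  let φ₁ : GTO ⟶ G := prO⁻¹ * xO
  let φ₂ : GTO ⟶ G := xO * prO⁻¹
  have hφ₁ : φ₁.left ≫ G.hom = q ≫ t ≫ G.hom := by rw [Over.w φ₁]; exact hcond
  have hφ₂ : φ₂.left ≫ G.hom = q ≫ t ≫ G.hom := by rw [Over.w φ₂]; exact hcond
  let Φ : pullback G.hom (t ≫ G.hom) ⟶ pullback G.hom (t ≫ G.hom) :=
    pullback.lift φ₁.left q hφ₁
  let Φ' : pullback G.hom (t ≫ G.hom) ⟶ pullback G.hom (t ≫ G.hom) :=
    pullback.lift φ₂.left q hφ₂
  have hΦpr : Φ ≫ pr = φ₁.left := pullback.lift_fst _ _ _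
  have hΦq : Φ ≫ q = q := pullback.lift_snd _ _ _
  have hΦ'pr : Φ' ≫ pr = φ₂.left := pullback.lift_fst _ _ _
  have hΦ'q : Φ' ≫ q = q := pullback.lift_snd _ _ _
  let ΦO : GTO ⟶ GTO := Over.homMk Φ (by
    change Φ ≫ pr ≫ G.hom = pr ≫ G.hom
    rw [reassoc_of% hΦpr, Over.w φ₁]
    rfl)
  let ΦO' : GTO ⟶ GTO := Over.homMk Φ' (by
    change Φ' ≫ pr ≫ G.hom = pr ≫ G.hom
    rw [reassoc_of% hΦ'pr, Over.w φ₂]
    rfl)
  have e1 : ΦO ≫ prO = φ₁ := by ext1; exact hΦpr
  have e2 : ΦO ≫ xO = xO := by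
    ext1
    change Φ ≫ q ≫ t = q ≫ t
    rw [reassoc_of% hΦq]
  have e3 : ΦO' ≫ prO = φ₂ := by ext1; exact hΦ'pr
  have e4 : ΦO' ≫ xO = xO := by
    ext1
    change Φ' ≫ q ≫ t = q ≫ t
    rw [reassoc_of% hΦ'q]
  have c1 : ΦO ≫ φ₂ = prO := by
    change ΦO ≫ (xO * prO⁻¹) = prO
    rw [MonObj.comp_mul, GrpObj.comp_inv, e1, e2]
    change xO * (prO⁻¹ * xO)⁻¹ = prO
    group
  have c2 : ΦO' ≫ φ₁ = prO := by
    change ΦO' ≫ (prO⁻¹ * xO) = prO
    rw [MonObj.comp_mul, GrpObj.comp_inv, e3, e4]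
    change (xO * prO⁻¹)⁻¹ * xO = prO
    group
  have hinv1 : Φ ≫ Φ' = 𝟙 _ := by
    apply pullback.hom_ext
    · change (Φ ≫ Φ') ≫ pr = 𝟙 _ ≫ pr
      rw [Category.assoc, hΦ'pr, Category.id_comp]
      exact congrArg (fun m => m.left) c1
    · change (Φ ≫ Φ') ≫ q = 𝟙 _ ≫ q
      rw [Category.assoc, hΦ'q, hΦq, Category.id_comp]
  have hinv2 : Φ' ≫ Φ = 𝟙 _ := by
    apply pullback.hom_ext
    · change (Φ' ≫ Φ) ≫ pr = 𝟙 _ ≫ pr
      rw [Category.assoc, hΦpr, Category.id_comp]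
      exact congrArg (fun m => m.left) c2
    · change (Φ' ≫ Φ) ≫ q = 𝟙 _ ≫ q
      rw [Category.assoc, hΦq, hΦ'q, Category.id_comp]
  have hΦiso : IsIso Φ := ⟨Φ', hinv1, hinv2⟩
  -- density
  let D : (pullback G.hom (t ≫ G.hom)).Opens := pr ⁻¹ᵁ U
  let D' : (pullback G.hom (t ≫ G.hom)).Opens := Φ ⁻¹ᵁ D
  have hD : Dense (D : Set ↥(pullback G.hom (t ≫ G.hom))) :=
    dense_of_schematicallyDense _ (hU _ (t ≫ G.hom))
  have hD' : Dense (D' : Set ↥(pullback G.hom (t ≫ G.hom))) :=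
    hD.preimage Φ.homeomorph.isOpenMap
  have hDD : Dense ((D : Set ↥(pullback G.hom (t ≫ G.hom))) ∩
      (D' : Set ↥(pullback G.hom (t ≫ G.hom)))) :=
    hD.inter_of_isOpen_left hD' D.2
  obtain ⟨z₀, -, -⟩ := Scheme.Pullback.exists_preimage_pullback (f := G.hom) (g := t ≫ G.hom) x₀
    (default : Spec (G.left.residueField x₀)) (by
      rw [Scheme.Hom.comp_apply, Scheme.fromSpecResidueField_apply])
  have hne : Nonempty ↥(pullback G.hom (t ≫ G.hom)) := ⟨z₀⟩
  obtain ⟨z, hz1, hz2⟩ := hDD.nonempty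
  -- the point
  let jO : GTO ⟶ G ⊗ G := lift xO prO
  have j1 : jO ≫ fst G G = xO := lift_fst _ _
  have j2 : jO ≫ snd G G = prO := lift_snd _ _
  have j3 : jO ≫ dv G = ΦO ≫ prO := by
    rw [dv, MonObj.comp_mul, GrpObj.comp_inv, j1, j2, e1]
  refine ⟨jO.left z, ?_, ?_, ?_⟩
  · rw [← Scheme.Hom.comp_apply, ← Over.comp_left, j2]
    exact hz1
  · rw [← Scheme.Hom.comp_apply, ← Over.comp_left, j3]
    exact hz2
  · rw [← Scheme.Hom.comp_apply, ← Over.comp_left, j1]
    change (q ≫ t) z = x₀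
    rw [Scheme.Hom.comp_apply, Scheme.fromSpecResidueField_apply]

end Helpers


/-- Let G be an S-group scheme, flat and locally of finite presentation over S, U an open subscheme of G
schematically dense in G relative to S (after every base change), and H an S-group scheme. Then a
homomorphism G → H is determined by its restriction to U: two homomorphisms f, g : G → H with the
same restriction to U are equal. (No separatedness of H is needed. The published statement allows H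
to be any sheaf of groups for the fppf topology; this row takes H a group scheme.) -/
theorem result (S : Scheme.{u}) (G H : Over S) [GrpObj G] [GrpObj H] [Flat G.hom] [LocallyOfFinitePresentation G.hom]
    (U : G.left.Opens) (hU : (∀ (S' : Scheme.{u}) (g : S' ⟶ S), CInt.IsSchematicallyDense ((pullback.fst G.hom g) ⁻¹ᵁ U)))
    (f g : G ⟶ H) [IsMonHom f] [IsMonHom g] (h : U.ι ≫ f.left = U.ι ≫ g.left) : f = g := by
  let W : (G ⊗ G).left.Opens := (snd G G).left ⁻¹ᵁ U ⊓ (dv G).left ⁻¹ᵁ U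
  have hagree := agree_on_W U f g h W inf_le_left inf_le_right
  have hflat : Flat (W.ι ≫ (fst G G).left) := by
    have : Flat (fst G G).left := by
      rw [Over.fst_left]
      infer_instance
    infer_instance
  have hsurj : Surjective (W.ι ≫ (fst G G).left) := by
    refine ⟨fun x₀ => ?_⟩
    obtain ⟨p, hp1, hp2, hp3⟩ := exists_point_W U hU x₀
    refine ⟨⟨p, hp1, hp2⟩, ?_⟩
    rw [Scheme.Hom.comp_apply]
    exact hp3
  have hepi : Epi (W.ι ≫ (fst G G).left) := Flat.epi_of_flat_of_surjective _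
  ext1
  rw [← cancel_epi (W.ι ≫ (fst G G).left), Category.assoc, Category.assoc]
  exact hagree

end Groth.Agent.S5435
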