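import Groth.Statements.S5592
import Groth.Agent.R2.H13EtPoints

set_option autoImplicit false
open CategoryTheory CategoryTheory.Limits AlgebraicGeometry Opposite
universe u
open EtDesc

namespace Groth.Agent.S5592

/-- `f_*` followed by global sections is global sections (sheaves of sets). -/
noncomputable def pushSectionsIso {X Y : Scheme.{u}} (f : X ⟶ Y) :
    EtDesc.pushSh f ⋙ (sheafSections Y.smallEtaleTopology (Type (u + 1))).obj (op (EtCoh.top Y)) ≅
      (sheafSections X.smallEtaleTopology (Type (u + 1))).obj (op (EtCoh.top X)) :=
  NatIso.ofComponents (fun F => F.obj.mapIso (EtCore.bcTopIso f).op.symm) (fun {F G} φ => by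
    simp only [Functor.comp_map, Functor.mapIso_hom, Iso.symm_hom]
    exact (φ.hom.naturality _).symm)

/-- Let k' be a separably closed extension field of a separably closed field k and u : Spec k' -> Spec k
the canonical morphism. Then the inverse image functor u^* from etale sheaves of sets on Spec k to
etale sheaves of sets on Spec k' is an equivalence of categories. -/
theorem result (k k' : Type u) [Field k] [IsSepClosed k]
    [Field k'] [IsSepClosed k'] [Algebra k k'] :
    (EtDesc.pullSh (Spec.map (CommRingCat.ofHom (algebraMap k k')))).IsEquivalence := by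
  have h1 := Groth.Agent.R2.H13.EtPoints.sections_isEquivalence_of_sepClosed k
  have h2 := Groth.Agent.R2.H13.EtPoints.sections_isEquivalence_of_sepClosed k'
  have h3 : (EtDesc.pushSh (Spec.map (CommRingCat.ofHom (algebraMap k k'))) ⋙
      (sheafSections (Spec (CommRingCat.of k)).smallEtaleTopology (Type (u + 1))).obj
        (op (EtCoh.top (Spec (CommRingCat.of k))))).IsEquivalence :=
    Functor.isEquivalence_of_iso
      (pushSectionsIso (Spec.map (CommRingCat.ofHom (algebraMap k k')))).symm
  have h4 : (EtDesc.pushSh (Spec.map (CommRingCat.ofHom (algebraMap k k')))).IsEquivalence :=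
    Functor.isEquivalence_of_comp_right _
      ((sheafSections (Spec (CommRingCat.of k)).smallEtaleTopology (Type (u + 1))).obj
        (op (EtCoh.top (Spec (CommRingCat.of k)))))
  exact (EtDesc.adjSh (Spec.map (CommRingCat.ofHom (algebraMap k k')))).isEquivalence_left_of_isEquivalence_right

end Groth.Agent.S5592
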