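import Groth.Statements.S5625
import Groth.Agent.Lib.Helper23QCohLocal
import Groth.Agent.Lib.Helper20PullbackAff

set_option autoImplicit false
set_option linter.style.haveILetI false
universe u
open CategoryTheory AlgebraicGeometry
open QCohCat

namespace Groth.Agent.S5625

section aux

variable {X Y : Scheme.{u}} (f : X ⟶ Y)

/-- pullback of quasi-coherent modules, as a functor between the full subcategories -/
noncomputable def pullQC : QCohCat.QCoh Y ⥤ QCohCat.QCoh X :=
  (QCohCat.isQCoh X).lift ((QCohCat.isQCoh Y).ι ⋙ Scheme.Modules.pullback f) (fun N => by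
    haveI : (N.obj).IsQuasicoherent := N.property
    exact (inferInstance : ((Scheme.Modules.pullback f).obj N.obj).IsQuasicoherent))

/-- pushforward of quasi-coherent modules along a qcqs morphism -/
noncomputable def pushQC [QuasiCompact f] [QuasiSeparated f] : QCohCat.QCoh X ⥤ QCohCat.QCoh Y :=
  (QCohCat.isQCoh Y).lift ((QCohCat.isQCoh X).ι ⋙ Scheme.Modules.pushforward f) (fun M => by
    haveI : (M.obj).IsQuasicoherent := M.property
    exact Groth.Agent.Lib.Helper23.QCohLocal.isQuasicoherent_pushforward f M.obj)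

/-- the restricted adjunction -/
noncomputable def adjQC [QuasiCompact f] [QuasiSeparated f] : pullQC f ⊣ pushQC f :=
  (Scheme.Modules.pullbackPushforwardAdjunction f).restrictFullyFaithful
    (QCohCat.isQCoh Y).fullyFaithfulι (QCohCat.isQCoh X).fullyFaithfulι
    (Iso.refl _) (Iso.refl _)

end aux

/-- Let f : X ⟶ Y be a morphism of quasi-compact quasi-separated schemes and Q_X, Q_Y coherators (right
adjoints of the inclusions QCoh ⥤ Mod) on X and Y. Then Q_Y ∘ f_* and f_* ∘ Q_X agree: the two
composite functors Mod(O_X) ⥤ Mod(O_Y) are naturally isomorphic (existence of a natural isomorphism;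
the source's isomorphism is the canonical one between two right adjoints of the same functor). -/
theorem result {X Y : Scheme.{u}} [CompactSpace X] [QuasiSeparatedSpace X]
    [CompactSpace Y] [QuasiSeparatedSpace Y] (f : X ⟶ Y)
    (QX : X.Modules ⥤ QCohCat.QCoh X) (adjX : (QCohCat.isQCoh X).ι ⊣ QX)
    (QY : Y.Modules ⥤ QCohCat.QCoh Y) (adjY : (QCohCat.isQCoh Y).ι ⊣ QY) :
    Nonempty ((QX ⋙ (QCohCat.isQCoh X).ι ⋙ Scheme.Modules.pushforward f) ≅
      (Scheme.Modules.pushforward f ⋙ QY ⋙ (QCohCat.isQCoh Y).ι)) := by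
  -- both `pushforward f ⋙ QY` and `QX ⋙ pushQC f` are right adjoint to `ι_Y ⋙ pullback f`
  have a1 : (QCohCat.isQCoh Y).ι ⋙ Scheme.Modules.pullback f ⊣ Scheme.Modules.pushforward f ⋙ QY :=
    adjY.comp (Scheme.Modules.pullbackPushforwardAdjunction f)
  have a2 : pullQC f ⋙ (QCohCat.isQCoh X).ι ⊣ QX ⋙ pushQC f := (adjQC f).comp adjX
  have a2' : (QCohCat.isQCoh Y).ι ⋙ Scheme.Modules.pullback f ⊣ QX ⋙ pushQC f := a2
  let e : Scheme.Modules.pushforward f ⋙ QY ≅ QX ⋙ pushQC f := a1.rightAdjointUniq a2'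
  exact ⟨(Functor.isoWhiskerRight e (QCohCat.isQCoh Y).ι).symm⟩

end Groth.Agent.S5625
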