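import Groth.Statements.S5720
import Groth.Agent.R2.H14AzSplitNear

set_option autoImplicit false
universe u v
open TensorProduct
open Dix

namespace Groth.Agent.S5720

open Groth.Agent.R2.H14.AzSplitNear Groth.Agent.R2.H14.AzSplitGlobal Groth.Agent.R2.H14.AzMaxEtale
  Groth.Agent.Lib.LeadAzumaya in
/-- `E ⊗[S] (S ⊗[R] A) ≃ₐ[E] E ⊗[R] A` for a possibly noncommutative `A`. -/
noncomputable def cancelBaseChangeAlg (R S E : Type*) [CommRing R] [CommRing S] [CommRing E]
    [Algebra R S] [Algebra R E] [Algebra S E] [IsScalarTower R S E] (A : Type*) [Ring A]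
    [Algebra R A] : E ⊗[S] (S ⊗[R] A) ≃ₐ[E] E ⊗[R] A :=
  AlgEquiv.symm <| AlgEquiv.ofLinearEquiv
    (TensorProduct.AlgebraTensorModule.cancelBaseChange R S E E A).symm
    (by simp [Algebra.TensorProduct.one_def]) <|
      LinearMap.map_mul_of_map_mul_tmul (fun _ _ _ _ ↦ by simp)

/-- (ii) ⇒ (iii), over an affine base X = Spec R. Let A be an Azumaya algebra over the commutative ring
R and p a prime ideal of R. Then there exist f ∈ R with f ∉ p, a finite étale and faithfully flat
R_f-algebra R' (a finite étale surjective cover of the neighbourhood D(f) of p) and an integer r ≥ 1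
such that R' ⊗_R A is isomorphic as an R'-algebra to the matrix algebra M_r(R'). (Existence of the
isomorphism only.) -/
theorem result (R : Type u) [CommRing R] (A : Type u) [Ring A] [Algebra R A] [IsAzumaya R A] (p : Ideal R) [p.IsPrime] : ∃ f : R, f ∉ p ∧ ∃ (R' : Type u) (_ : CommRing R') (_ : Algebra R R') (_ : Algebra (Localization.Away f) R') (_ : IsScalarTower R (Localization.Away f) R'), Module.Finite (Localization.Away f) R' ∧ Algebra.Etale (Localization.Away f) R' ∧ Module.FaithfullyFlat (Localization.Away f) R' ∧ ∃ r : ℕ, 1 ≤ r ∧ Nonempty ((R' ⊗[R] A) ≃ₐ[R'] Matrix (Fin r) (Fin r) R') := by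
  open Groth.Agent.R2.H14.AzSplitNear Groth.Agent.R2.H14.AzSplitGlobal
    Groth.Agent.R2.H14.AzMaxEtale Groth.Agent.Lib.LeadAzumaya in
  obtain ⟨f, hfp, r, hr, P, hmonic, hdeg, hsep, ξ, hξ, v, hv⟩ := exists_near_data R A p
  have hnt : Nontrivial (Localization.Away f) := by
    by_contra hn
    rw [not_nontrivial_iff_subsingleton] at hn
    have : P = 0 := Subsingleton.elim _ _
    rw [this, Polynomial.natDegree_zero] at hdeg
    omega
  have hfin : Module.Finite (Localization.Away f) (AdjoinRoot P) := hmonic.finite_adjoinRoot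
  have hfree : Module.Free (Localization.Away f) (AdjoinRoot P) := hmonic.free_adjoinRoot
  have hrk : Module.finrank (Localization.Away f) (AdjoinRoot P) = r := by
    rw [(AdjoinRoot.powerBasis' hmonic).finrank, AdjoinRoot.powerBasis'_dim, hdeg]
  have hntE : Nontrivial (AdjoinRoot P) := by
    apply Module.nontrivial_of_finrank_pos (R := Localization.Away f)
    rw [hrk]
    exact hr
  have hAz : IsAzumaya (Localization.Away f) (Localization.Away f ⊗[R] A) :=
    isAzumaya_baseChange (Localization.Away f) A
  obtain ⟨e⟩ := exists_algEquiv_matrix_of_basis (Localization.Away f)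
    (Localization.Away f ⊗[R] A) r P hmonic hdeg ξ hξ v hr hv
  refine ⟨f, hfp, AdjoinRoot P, inferInstance, inferInstance, inferInstance, inferInstance,
    hfin, etale_adjoinRoot P hmonic hsep, inferInstance, r, hr,
    ⟨(cancelBaseChangeAlg R (Localization.Away f) (AdjoinRoot P) A).symm.trans e⟩⟩

end Groth.Agent.S5720
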