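import Groth.Statements.S5721
import Groth.Agent.R2.H91PEAmple
import Groth.Agent.S4417

set_option autoImplicit false
universe u
open CategoryTheory CategoryTheory.Limits AlgebraicGeometry TopologicalSpace Opposite
open scoped HomogeneousIdeal
open EGA2

namespace Groth.Agent.S5721

/-- Let f : X → Y be a quasi-compact morphism and L an invertible O_X-module. If L is very ample
relative to f (there are a quasi-coherent O_Y-module E and a Y-immersion i : X → P(E) into its
projective bundle with L isomorphic to i^*O_{P(E)}(1)), then L is ample relative to f. -/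
theorem result {X Y : Scheme.{u}} (f : X ⟶ Y) [QuasiCompact f] (L : X.Modules)
    (hL : PicF.IsInvertible L) (h : RelProj.IsRelVeryAmple f L) : RelAmple.IsRelAmple f L := by
  obtain ⟨E, hE, 𝒮, j, hj, P, p, chart, hP, O1, lam, hO1, i, himm, hip, ⟨e⟩⟩ := h
  have h1 := Groth.Agent.R2.H91.PEAmple.isRelAmple_pullback_of_isEmbedding f E hE 𝒮 j hj P p chart hP O1
    lam hO1 i hip i.isEmbedding
  exact Groth.Agent.S4417.isRelAmple_of_iso f e.symm h1

end Groth.Agent.S5721
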