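import Groth.Statements.S5742
import Groth.Agent.S2301
import Groth.Agent.R2.H35ThickFree
import Groth.Agent.R2.H35ComapPow

set_option autoImplicit false
universe u
open Coherent

namespace Groth.Agent.S5742

open AlgebraicGeometry CategoryTheory CategoryTheory.Limits in
/-- Let A be a Noetherian ring separated and complete for the I-adic topology, X proper over Spec A and
Y locally of finite type over Spec A; write X_n = X ×_A Spec(A/I^(n+1)). Two A-morphisms φ, ψ : X →
Y whose restrictions to X_n coincide for every n are equal. (The published statement takes Y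
separated and of finite type over A, which the surjectivity half needs; injectivity uses neither
separatedness nor quasi-compactness of Y. Together with the existence of an A-morphism inducing any
compatible system of morphisms X_n → Y_n, this is the bijectivity of f ↦ f̂ from A-morphisms X → Y
to morphisms of the completions.) -/
theorem result (A : Type u) [CommRing A] [IsNoetherianRing A]
    (I : Ideal A) [IsAdicComplete I A] {X Y : Scheme.{u}} (f : X ⟶ Spec (CommRingCat.of A))
    (h : Y ⟶ Spec (CommRingCat.of A)) [IsProper f] [LocallyOfFiniteType h] (φ ψ : X ⟶ Y)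
    (hφ : φ ≫ h = f) (hψ : ψ ≫ h = f)
    (e : ∀ n : ℕ, CohB1.thickι f I n ≫ φ = CohB1.thickι f I n ≫ ψ) : φ = ψ := by
  have : IsLocallyNoetherian X := LocallyOfFiniteType.isLocallyNoetherian f
  have : IsLocallyNoetherian Y := LocallyOfFiniteType.isLocallyNoetherian h
  letI : X.Over (Spec (CommRingCat.of A)) := ⟨f⟩
  letI : Y.Over (Spec (CommRingCat.of A)) := ⟨h⟩
  haveI : φ.IsOver (Spec (CommRingCat.of A)) := ⟨hφ⟩
  haveI : ψ.IsOver (Spec (CommRingCat.of A)) := ⟨hψ⟩
  haveI : LocallyOfFiniteType (Y ↘ Spec (CommRingCat.of A)) := ‹LocallyOfFiniteType h›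
  have key : ∀ n : ℕ, ((FSch.idealSpec A I).comap f ^ (n + 1)).subschemeι ≫ φ =
      ((FSch.idealSpec A I).comap f ^ (n + 1)).subschemeι ≫ ψ := by
    intro n
    obtain ⟨k, hk⟩ := Groth.Agent.R2.H35.ComapPow.exists_fac_thickι I f n
    rw [← hk, Category.assoc, e n, Category.assoc]
  obtain ⟨U, hU, hUeq⟩ := Groth.Agent.S2301.result (Spec (CommRingCat.of A)) X Y φ ψ
    ((FSch.idealSpec A I).comap f) key
  have hall : ∀ x : X, x ∈ U :=
    Groth.Agent.R2.H35.ThickFree.forall_of_proper_adicComplete A I X f (fun x => x ∈ U) U.isOpen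
      (fun x hx => hU hx)
  have hUtop : U = ⊤ := by
    ext x
    exact ⟨fun _ => trivial, fun _ => hall x⟩
  subst hUtop
  have h1 := congrArg (fun t => X.topIso.inv ≫ t) hUeq
  simpa using h1

end Groth.Agent.S5742
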