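import Groth.Statements.S5744
import Groth.Agent.Lib.Helper23QCohSum
import Mathlib

set_option autoImplicit false
universe u
open Coherent

namespace Groth.Agent.S5744

open CategoryTheory CategoryTheory.Limits AlgebraicGeometry in
/-- a finite product of quasi-coherent modules is quasi-coherent. -/
theorem isQuasicoherent_piObj {X : Scheme.{u}} {J : Type u} [Finite J] (A : J → X.Modules)
    (hA : ∀ j, (A j).IsQuasicoherent) : (∏ᶜ A).IsQuasicoherent := by
  obtain ⟨n, ⟨e⟩⟩ := Finite.exists_equiv_fin J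
  have : HasFiniteBiproducts X.Modules := Abelian.hasFiniteBiproducts
  have h1 : (⨁ (A ∘ e.symm)).IsQuasicoherent :=
    Groth.Agent.Lib.Helper23.QCohLocal.isQuasicoherent_biproduct (A ∘ e.symm) (fun k => hA _)
  let i1 : ⨁ (A ∘ e.symm) ≅ ∏ᶜ (A ∘ e.symm) := biproduct.isoProduct _
  let i2 : ∏ᶜ (A ∘ e.symm) ≅ ∏ᶜ A := Pi.reindex e.symm A
  obtain ⟨⟨q⟩⟩ := h1
  exact (SheafOfModules.QuasicoherentData.ofIsIso.{u, u, u, u} (i1 ≪≫ i2).hom q).isQuasicoherent

open CategoryTheory CategoryTheory.Limits AlgebraicGeometry in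
theorem isAffineHom_ι {X : Scheme.{u}} [X.IsSeparated] (W : X.Opens) (hW : IsAffineOpen W) :
    IsAffineHom W.ι := by
  have : IsAffine W.toScheme := hW
  have : IsAffineHom (W.ι ≫ terminal.from X) := inferInstance
  exact IsAffineHom.of_comp W.ι (terminal.from X)

open CategoryTheory CategoryTheory.Limits AlgebraicGeometry in
theorem isAffineOpen_pi {X : Scheme.{u}} [X.IsSeparated] {ι : Type u} (𝒰 : ι → X.Opens)
    (h𝒰 : ∀ i, IsAffineOpen (𝒰 i)) (p : ℕ) (i : Fin (p + 1) → ι) :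
    IsAffineOpen (∏ᶜ (𝒰 ∘ i)) := by
  have h := IsAffineOpen.iInf (U := 𝒰 ∘ i) (fun k => h𝒰 (i k))
  have e : (∏ᶜ (𝒰 ∘ i)) = ⨅ k, (𝒰 ∘ i) k := by
    apply le_antisymm
    · exact le_iInf fun k => (Pi.π (𝒰 ∘ i) k).le
    · exact (Pi.lift (fun k => homOfLE (iInf_le (𝒰 ∘ i) k))).le
  rw [e]; exact h

open AlgebraicGeometry CategoryTheory in
/-- For the Čech complex of sheaves indexed by all ordered tuples with products as terms; over a finite
index type these terms are finite direct sums. Let X be a separated scheme, (U_i)_{i ∈ ι} a finite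
family of affine opens covering X, and F a quasi-coherent O_X-module. Then for every p the degree-p
term of the Čech complex of sheaves 𝔠(𝒰, F), the product over ordered (p+1)-tuples of the direct
images (j_{i_0…i_p})_*(F|_{U_{i_0…i_p}}), is a quasi-coherent O_X-module. -/
theorem result {X : Scheme.{u}} [X.IsSeparated] {ι : Type u}
    [Finite ι] (𝒰 : ι → X.Opens) (h𝒰 : ∀ i, IsAffineOpen (𝒰 i)) (hcov : ⨆ i, 𝒰 i = ⊤)
    (F : X.Modules) [Coh.IsQCoh F] (p : ℕ) :
    Coh.IsQCoh (((CechOX.cechSh 𝒰).obj F).X p) := by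
  have hF : F.IsQuasicoherent := ‹Coh.IsQCoh F›
  show SheafOfModules.IsQuasicoherent
    (∏ᶜ fun x : (Fin (p + 1) → ι) => (CechOX.pushRestr (∏ᶜ (𝒰 ∘ x))).obj F)
  refine isQuasicoherent_piObj _ fun x => ?_
  have hW : IsAffineOpen (∏ᶜ (𝒰 ∘ x)) := isAffineOpen_pi 𝒰 h𝒰 p x
  have : IsAffineHom (∏ᶜ (𝒰 ∘ x)).ι := isAffineHom_ι _ hW
  exact Groth.Agent.Lib.Helper23.QCohLocal.isQuasicoherent_pushforward (∏ᶜ (𝒰 ∘ x)).ι
    ((Scheme.Modules.restrictFunctor (∏ᶜ (𝒰 ∘ x)).ι).obj F)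

end Groth.Agent.S5744
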