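import Groth.Statements.S5854
import Groth.Agent.R2.H26ZClosFlat
import Groth.Agent.Lib.Helper20FpqcFT
import Groth.Agent.Lib.Helper20FormalPull
import Groth.Agent.Lib.Helper23FinTypeLocal
import Groth.Agent.Lib.Helper2PullbackSec4

set_option autoImplicit false
universe u
open ZClos

namespace Groth.Agent.S5854

open CategoryTheory CategoryTheory.Limits AlgebraicGeometry in
/-- Let f : X' → X be a flat morphism of locally Noetherian schemes, Z a subset of X stable under
specialization, Z' = f⁻¹(Z) and F a quasi-coherent O_X-module. If H⁰_{X/Z}(F) is coherent then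
H⁰_{X'/Z'}(f^* F) is coherent; the converse holds when f is moreover surjective (faithfully flat)
and quasi-compact. -/
theorem result {X X' : Scheme.{u}} [IsLocallyNoetherian X] [IsLocallyNoetherian X'] (f : X' ⟶ X) [Flat f]
    (Z : Set X) (hZ : StableUnderSpecialization Z) (F : X.Modules) (hF : Coh.IsQCoh F) :
    (Coh.IsCoh ((ZClos.H0 Z).obj F) →
      Coh.IsCoh ((ZClos.H0 (f.base ⁻¹' Z)).obj ((Scheme.Modules.pullback f).obj F))) ∧
    (Surjective f → QuasiCompact f →
      Coh.IsCoh ((ZClos.H0 (f.base ⁻¹' Z)).obj ((Scheme.Modules.pullback f).obj F)) →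
        Coh.IsCoh ((ZClos.H0 Z).obj F)) := by
  have : F.IsQuasicoherent := hF
  have hQ : ((ZClos.H0 Z).obj F).IsQuasicoherent :=
    Groth.Agent.Lib.Helper20.ZClosLib.isQuasicoherent_H0 Z F
  have hF' : ((Scheme.Modules.pullback f).obj F).IsQuasicoherent :=
    Groth.Agent.Lib.Helper2.PullbackSec.isQuasicoherent_pullback f F
  have hQ' : ((ZClos.H0 (f.base ⁻¹' Z)).obj ((Scheme.Modules.pullback f).obj F)).IsQuasicoherent :=
    Groth.Agent.Lib.Helper20.ZClosLib.isQuasicoherent_H0 _ _
  obtain ⟨e⟩ := Groth.Agent.R2.H26.ZClosFlat.nonempty_iso f Z F hZ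
  refine ⟨fun h => ⟨hQ', ?_⟩, fun hs hq h => ⟨hQ, ?_⟩⟩
  · have : SheafOfModules.IsFiniteType (R := X.ringCatSheaf) ((ZClos.H0 Z).obj F) := h.2
    have : SheafOfModules.IsFiniteType (R := X'.ringCatSheaf)
        ((Scheme.Modules.pullback f).obj ((ZClos.H0 Z).obj F)) :=
      Groth.Agent.Lib.Helper20.FormalPull.isFiniteType_pullback f _
    exact Groth.Agent.Lib.Helper23.FinType.isFiniteType_of_iso e
  · have := hs
    have := hq
    have : SheafOfModules.IsFiniteType (R := X'.ringCatSheaf)
        ((ZClos.H0 (f.base ⁻¹' Z)).obj ((Scheme.Modules.pullback f).obj F)) := h.2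
    have h2 : SheafOfModules.IsFiniteType (R := X'.ringCatSheaf)
        ((Scheme.Modules.pullback f).obj ((ZClos.H0 Z).obj F)) :=
      Groth.Agent.Lib.Helper23.FinType.isFiniteType_of_iso e.symm
    exact Groth.Agent.Lib.Helper20.FpqcFT.isFiniteType_of_pullback f _ h2

end Groth.Agent.S5854
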