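import Groth.Statements.S5864
import Groth.Agent.R2.H26RadBir

set_option autoImplicit false
universe u
open RadPt

namespace Groth.Agent.S5864

open Groth.Agent.R2.H26.RadBir

open CategoryTheory AlgebraicGeometry in
/-- Let f : X → Y be a morphism of schemes whose induced morphism of reduced schemes is birational (f
maps the maximal points of X bijectively onto those of Y, with one-point fibres and trivial residue
field extensions over the maximal points of Y), g : Y' → Y a flat morphism and f' : X ×_Y Y' → Y'
the base change (any cartesian square). Then the morphism of reduced schemes induced by f' is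
birational in the same sense. -/
theorem result {X Y X' Y' : Scheme.{u}} {f : X ⟶ Y} {g : Y' ⟶ Y} [Flat g] {f' : X' ⟶ Y'} {g' : X' ⟶ X}
    (sq : IsPullback g' f' f g) (hf : RadPt.IsBirational f) : RadPt.IsBirational f' := by
  have hcomm : ∀ z : X', f (g' z) = g (f' z) := fun z => by
    change (g' ≫ f) z = (f' ≫ g) z; rw [sq.w]
  have hg'flat : Flat g' := MorphismProperty.of_isPullback sq.flip ‹Flat g›
  -- the fibre of `f'` over a generic point of `Y'`
  have fibre : ∀ y' ∈ genericPoints Y', (∀ x₁ x₂ : X', f' x₁ = y' → f' x₂ = y' → x₁ = x₂) ∧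
      ∀ x' : X', f' x' = y' → Function.Bijective (f'.residueFieldMap x').hom := by
    intro y' hy'
    have hy : g y' ∈ genericPoints Y := mem_genericPoints_of_flat g hy'
    refine ⟨fun x₁ x₂ h₁ h₂ => ?_, fun x' hx' => ?_⟩
    · have e1 : f (g' x₁) = g y' := by rw [hcomm, h₁]
      have e2 : f (g' x₂) = g y' := by rw [hcomm, h₂]
      apply eq_of_isPullback sq x₁ x₂ ((hf.2 _ hy).1 _ _ e1 e2) (h₁.trans h₂.symm)
      exact (hf.2 _ hy).2 _ e2
    · apply bijective_residueFieldMap_of_isPullback sq x'
      exact (hf.2 _ hy).2 _ (by rw [hcomm, hx'])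
  have mapsTo : Set.MapsTo f' (genericPoints X') (genericPoints Y') := by
    intro x' hx'
    have hx : g' x' ∈ genericPoints X := mem_genericPoints_of_flat g' hx'
    have hy : f (g' x') ∈ genericPoints Y := hf.1.mapsTo hx
    apply mem_genericPoints_of_forall_specializes
    intro z' hz'
    have hgz : g z' = f (g' x') := by
      have : g z' ⤳ g (f' x') := hz'.map g.continuous
      rw [← hcomm] at this
      exact eq_of_specializes_of_mem_genericPoints hy this
    obtain ⟨w, hw1, hw2⟩ :=
      Scheme.exists_preimage_of_isPullback sq (g' x') z' hgz.symm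
    have hbij := (hf.2 _ hy).2 (g' x') rfl
    have hspec : w ⤳ x' :=
      specializes_of_isPullback sq w x' hw1 (by rw [hw2]; exact hz') hbij
    have : w = x' := eq_of_specializes_of_mem_genericPoints hx' hspec
    rw [← hw2, this]
  refine ⟨⟨mapsTo, ?_, ?_⟩, fibre⟩
  · intro x₁ hx₁ x₂ hx₂ h
    exact (fibre _ (mapsTo hx₂)).1 x₁ x₂ h rfl
  · intro y' hy'
    have hy : g y' ∈ genericPoints Y := mem_genericPoints_of_flat g hy'
    obtain ⟨x, hx, hxy⟩ := hf.1.surjOn hy
    obtain ⟨x', hx'1, hx'2⟩ := Scheme.exists_preimage_of_isPullback sq x y' hxy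
    refine ⟨x', ?_, hx'2⟩
    apply mem_genericPoints_of_forall_specializes
    intro w hw
    have h0 : f' w ⤳ f' x' := hw.map f'.continuous
    rw [hx'2] at h0
    have h1 := eq_of_specializes_of_mem_genericPoints hy' h0
    exact (fibre y' hy').1 w x' h1 hx'2

end Groth.Agent.S5864
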