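import Groth.Statements.S5909
import Groth.Agent.R2.H22SepPull
import Groth.Agent.S4909

set_option autoImplicit false
set_option linter.style.haveILetI false
universe u
open CategoryTheory AlgebraicGeometry
open EGA43

namespace Groth.Agent.S5909

open Groth.Agent.R2.H22.SepCore Groth.Agent.R2.H22.SepSheaf Groth.Agent.R2.H22.SepPull
  Groth.Agent.Lib.Helper20.Thickening TopologicalSpace TensorProduct

/-- A finite separating family stays jointly injective after a flat base change. -/
theorem eq_zero_of_flat_finite {A : Type u} [CommRing A] {M : Type u} [AddCommGroup M]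
    [Module A M] {ι : Type u} [Finite ι] {N : ι → Type u} [∀ i, AddCommGroup (N i)]
    [∀ i, Module A (N i)] {B : Type u} [CommRing B] [Algebra A B] [Module.Flat A B]
    (u : ∀ i, M →ₗ[A] N i) (hu : ∀ m : M, (∀ i, u i m = 0) → m = 0) (x : B ⊗[A] M)
    (hx : ∀ i, (u i).lTensor B x = 0) : x = 0 := by
  classical
  cases nonempty_fintype ι
  let U : M →ₗ[A] (∀ i, N i) := LinearMap.pi u
  have hU : Function.Injective U := by
    rw [injective_iff_map_eq_zero]
    intro m hm
    exact hu m (fun i => congrFun hm i)
  have hUB : Function.Injective (U.lTensor B) :=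
    Module.Flat.lTensor_preserves_injective_linearMap U hU
  apply hUB
  rw [map_zero]
  apply (TensorProduct.piRight A A B N).injective
  rw [map_zero]
  funext i
  have : ∀ t : B ⊗[A] (∀ i, N i), TensorProduct.piRight A A B N t i =
      (LinearMap.proj i : (∀ i, N i) →ₗ[A] N i).lTensor B t := by
    intro t
    induction t using TensorProduct.induction_on with
    | zero => simp
    | tmul b n => simp
    | add a b ha hb => simp only [map_add, Pi.add_apply, ha, hb]
  rw [this, ← LinearMap.comp_apply, ← LinearMap.lTensor_comp]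
  have h2 : (LinearMap.proj i : (∀ i, N i) →ₗ[A] N i) ∘ₗ U = u i := by
    ext m
    rfl
  rw [h2, hx i]
  rfl


/-- Case Z_λ = X: let X be a scheme, (u_i : F ⟶ G_i) a finite family (finite index set) of homomorphisms
of quasi-coherent O_X-modules which is separating (a section of F over an open subset killed by
every u_i is zero), and g : X' ⟶ X a flat morphism. Then the family (g^*u_i : g^*F ⟶ g^*G_i) is
separating. (The published statement allows a finite family of homomorphisms into direct images
(f_λ)_*G_λ along quasi-compact morphisms f_λ; this row is the case Z_λ = X, to which the general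
case reduces.) -/
theorem result {X X' : Scheme.{u}} (F : X.Modules) [Coh.IsQCoh F] {ι : Type u} [Finite ι]
    (G : ι → X.Modules) [∀ i, Coh.IsQCoh (G i)] (u : ∀ i, F ⟶ G i) (g : X' ⟶ X) [Flat g]
    (h : ∀ (V : (X).Opens) (t : ↑((F).presheaf.obj (Opposite.op V))), (∀ i, (Scheme.Modules.Hom.mapPresheaf (u i)).app (Opposite.op V) t = 0) → t = 0) :
    ∀ (V : (X').Opens) (t : ↑(((Scheme.Modules.pullback g).obj F).presheaf.obj (Opposite.op V))), (∀ i, (Scheme.Modules.Hom.mapPresheaf ((Scheme.Modules.pullback g).map (u i))).app (Opposite.op V) t = 0) → t = 0 := by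
  have hu : Sep u := h
  refine sep_of_basis (fun i => (Scheme.Modules.pullback g).map (u i)) _
    (Groth.Agent.S4909.isBasis_affine_over g) ?_
  rintro ⟨V', hV', V, hV, hle⟩
  refine (pullSepOn_iff_tensorInj g hV hV' hle u).2 ?_
  intro x hx
  letI := (g.appLE V V' hle).hom.toAlgebra
  haveI : Module.Flat Γ(X, V) Γ(X', V') :=
    HasRingHomProperty.appLE (P := @Flat) g inferInstance ⟨V, hV⟩ ⟨V', hV'⟩ hle
  have hsep := sepMaps_ΓUF u hu hV
  have hinj : ∀ m : ((ΓUF hV).obj F), (∀ i, ((ΓUF hV).map (u i)).hom m = 0) → m = 0 := by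
    intro m hm
    obtain ⟨n, hn⟩ := hsep 1 m (fun i => ⟨0, by rw [pow_zero, one_smul]; exact hm i⟩)
    rwa [one_pow, one_smul] at hn
  exact eq_zero_of_flat_finite (A := Γ(X, V)) (B := Γ(X', V'))
    (fun i => ((ΓUF hV).map (u i)).hom) hinj x hx

end Groth.Agent.S5909
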