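import Mathlib
import Groth.Statements.S5965

set_option autoImplicit false
universe u
open CategoryTheory CategoryTheory.Limits AlgebraicGeometry TopologicalSpace Opposite
open Nrm16

namespace Groth.Agent.S5965

/-- A morphism locally of finite type admitting a surjective section is finite: it is a universal
homeomorphism, hence proper with singleton fibres, and Zariski's main theorem applies. -/
theorem isFinite_of_surjective_section {Z Y : Scheme.{u}} (h : Z ⟶ Y) [LocallyOfFiniteType h]
    (s : Y ⟶ Z) [Surjective s] (hs : s ≫ h = 𝟙 Y) : IsFinite h := by
  -- universally closed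
  have : UniversallyClosed (s ≫ h) := by rw [hs]; infer_instance
  have : UniversallyClosed h := UniversallyClosed.of_comp_surjective s h
  -- universally injective
  have hinj : UniversallyInjective h := by
    constructor
    intro Z' Y' i₁ i₂ h' hpb
    let s' : Y' ⟶ Z' := hpb.lift (𝟙 Y') (i₂ ≫ s) (by simp [hs])
    have hs'1 : s' ≫ h' = 𝟙 Y' := hpb.lift_fst _ _ _
    have hs'2 : s' ≫ i₁ = i₂ ≫ s := hpb.lift_snd _ _ _
    have hpb' : IsPullback s' i₂ i₁ s := by
      refine IsPullback.of_right ?_ hs'2 hpb
      rw [hs'1, hs]
      exact IsPullback.of_id_fst
    have : Surjective s' := MorphismProperty.of_isPullback (P := @Surjective) hpb'.flip ‹_›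
    have hleft : ∀ y, h' (s' y) = y := fun y => by
      rw [← Scheme.Hom.comp_apply, hs'1]; rfl
    intro a b hab
    obtain ⟨a', rfl⟩ := s'.surjective a
    obtain ⟨b', rfl⟩ := s'.surjective b
    rw [hleft, hleft] at hab
    rw [hab]
  -- separated
  have : IsSeparated h := by
    refine ⟨IsClosedImmersion.of_isPreimmersion _ ?_⟩
    have := ((UniversallyInjective.iff_diagonal h).1 hinj).surj
    rw [Set.range_eq_univ.2 this]
    exact isClosed_univ
  have : IsProper h := {}
  have : LocallyQuasiFinite h := by
    rw [locallyQuasiFinite_iff_isDiscrete_preimage_singleton]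
    intro y
    refine Set.Subsingleton.isDiscrete ?_
    intro a ha b hb
    exact h.injective (ha.trans hb.symm)
  exact IsFinite.of_isProper_of_locallyQuasiFinite h

/-- Let g : X ⟶ Y be a morphism locally of finite type with a section f : Y ⟶ X which is a closed
immersion. Then for every n the n-th infinitesimal neighbourhood of Y in X, mapped to Y through its
inclusion into X followed by g, is finite over Y. (The published statement allows any section f and
says that the structure sheaf of the neighbourhood is a quasi-coherent O_Y-algebra which is an
O_Y-module of finite type; this row assumes f a closed immersion and states the conclusion as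
finiteness of the morphism to Y.) -/
theorem result {X Y : Scheme.{u}} (g : X ⟶ Y) [LocallyOfFiniteType g] (f : Y ⟶ X)
    [IsClosedImmersion f] (hf : f ≫ g = 𝟙 Y) (n : ℕ) :
    IsFinite (PrinPart.infNbhdι f n ≫ g) := by
  have : IsClosedImmersion (PrinPart.infNbhdι f n) := by
    unfold PrinPart.infNbhdι; infer_instance
  have : Surjective (PrinPart.toInfNbhd f n) := ⟨PrinPart.toInfNbhd_surjective f n⟩
  exact isFinite_of_surjective_section _ (PrinPart.toInfNbhd f n)
    (by rw [PrinPart.toInfNbhd_ι_assoc, hf])

end Groth.Agent.S5965
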