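import Groth.Statements.S5995
import Groth.Agent.R2.H27RatSec
import Groth.Agent.Lib.Helper20FinHom
-- import your own Groth.Agent.* helpers here

set_option autoImplicit false
universe u
open CategoryTheory AlgebraicGeometry
open Unram

namespace Groth.Agent.S5995

/-- Let Y be a reduced scheme whose irreducible components form a locally finite family and all of whose
local rings are geometrically unibranch, f : X ⟶ Y a separated, locally of finite type, formally
unramified morphism, and u : U ⟶ X a section of f over a dense open U of Y which cannot be extended: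
whenever v is a section of f over an open V agreeing with u on U ∩ V, V is contained in U (so U is
the domain of definition of the rational section defined by u). Then the image u(U) is an open and
closed subset of X. -/
theorem result {X Y : Scheme.{u}} [IsReduced Y]
    (hcomp : LocallyFinite (fun Z : ↥(irreducibleComponents ↥Y) => (Z : Set ↥Y)))
    (f : X ⟶ Y) [IsSeparated f] [LocallyOfFiniteType f] [FormallyUnramified f]
    (U : Y.Opens) (hU : Dense (U : Set ↥Y)) (u : (U : Scheme.{u}) ⟶ X) (hu : u ≫ f = U.ι)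
    (hY : ∀ y : Y, CAlg2.IsGeomUnibranch (Y.presheaf.stalk y))
    (hmax : ∀ (V : Y.Opens) (v : (V : Scheme.{u}) ⟶ X), v ≫ f = V.ι →
      Y.homOfLE (inf_le_left : U ⊓ V ≤ U) ≫ u = Y.homOfLE (inf_le_right : U ⊓ V ≤ V) ≫ v → V ≤ U) :
    IsOpen (Set.range u) ∧ IsClosed (Set.range u) := by
  classical
  let X₁ : X.Opens := f ⁻¹ᵁ U
  have hrange : Set.range u ⊆ Set.range X₁.ι := by
    rintro _ ⟨p, rfl⟩
    rw [Scheme.Opens.range_ι]
    show f (u p) ∈ U
    rw [← Scheme.Hom.comp_apply, hu]
    exact p.2
  let u₁ : (U : Scheme.{u}) ⟶ X₁ := IsOpenImmersion.lift X₁.ι u hrange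
  have hu₁ι : u₁ ≫ X₁.ι = u := IsOpenImmersion.lift_fac _ _ _
  have hu₁ : u₁ ≫ (f ∣_ U) = 𝟙 _ := by
    rw [← cancel_mono U.ι, Category.assoc, morphismRestrict_ι, ← Category.assoc, hu₁ι, hu,
      Category.id_comp]
  have : FormallyUnramified (f ∣_ U) := IsZariskiLocalAtTarget.restrict ‹FormallyUnramified f› U
  have : LocallyOfFiniteType (f ∣_ U) := IsZariskiLocalAtTarget.restrict ‹LocallyOfFiniteType f› U
  have : IsSeparated (f ∣_ U) := IsZariskiLocalAtTarget.restrict ‹IsSeparated f› U
  have : IsOpenImmersion u₁ :=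
    Groth.Agent.Lib.Helper20.FinHom.isOpenImmersion_of_section (f ∣_ U) u₁ hu₁
  have : IsClosedImmersion u₁ :=
    Groth.Agent.Lib.Helper20.FinHom.isClosedImmersion_of_section (f ∣_ U) u₁ hu₁
  have hru : Set.range u = X₁.ι '' Set.range u₁ := by
    rw [← hu₁ι, Scheme.Hom.comp_base, TopCat.coe_comp, Set.range_comp]
  constructor
  · rw [hru]
    exact X₁.ι.isOpenEmbedding.isOpenMap _ u₁.isOpenEmbedding.isOpen_range
  · rw [← closure_subset_iff_isClosed]
    intro x hx
    obtain ⟨V, v, hyV, hv, hag⟩ :=
      Groth.Agent.R2.H27.RatSec.exists_section_nhd hcomp f U hU u hu x (hY (f x)) hx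
    have hxU : f x ∈ U := hmax V v hv hag hyV
    let x₁ : (X₁ : Scheme.{u}) := ⟨x, hxU⟩
    have h1 : x₁ ∈ closure (Set.range u₁) := by
      rw [X₁.ι.isOpenEmbedding.isInducing.closure_eq_preimage_closure_image, ← hru]
      exact hx
    rw [u₁.isClosedEmbedding.isClosed_range.closure_eq] at h1
    rw [hru]
    exact ⟨x₁, h1, rfl⟩

end Groth.Agent.S5995
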