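import Groth.Statements.S5996
import Groth.Agent.R2.H27RatSec
-- import your own Groth.Agent.* helpers here

set_option autoImplicit false
universe u
open CategoryTheory AlgebraicGeometry
open Unram

namespace Groth.Agent.S5996

/-- Let Y be a reduced scheme whose irreducible components form a locally finite family, f : X ⟶ Y a
separated, locally of finite type, formally unramified morphism such that f(T) is closed in Y for
every closed irreducible subset T of X, and u : U ⟶ X a section of f over a dense open U of Y. Then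
for every point y of Y whose local ring is geometrically unibranch there are an open V ∋ y and a
section v : V ⟶ X of f agreeing with u on U ∩ V: the rational section defined by u is defined at
every geometrically unibranch point. -/
theorem result {X Y : Scheme.{u}} [IsReduced Y]
    (hcomp : LocallyFinite (fun Z : ↥(irreducibleComponents ↥Y) => (Z : Set ↥Y)))
    (f : X ⟶ Y) [IsSeparated f] [LocallyOfFiniteType f] [FormallyUnramified f]
    (U : Y.Opens) (hU : Dense (U : Set ↥Y)) (u : (U : Scheme.{u}) ⟶ X) (hu : u ≫ f = U.ι)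
    (hcl : ∀ T : Set ↥X, IsClosed T → IsIrreducible T → IsClosed (f '' T))
    (y : Y) (hy : CAlg2.IsGeomUnibranch (Y.presheaf.stalk y)) :
    ∃ (V : Y.Opens) (v : (V : Scheme.{u}) ⟶ X), y ∈ V ∧ v ≫ f = V.ι ∧
      Y.homOfLE (inf_le_left : U ⊓ V ≤ U) ≫ u = Y.homOfLE (inf_le_right : U ⊓ V ≤ V) ≫ v := by
  -- the generic point of an irreducible component through `y`
  obtain ⟨ξ, hξ, hξy⟩ := Groth.Agent.Lib.Helper4.VarDim.exists_generic_specializes y
  have h0 : ∀ ζ : Y, ζ ⤳ ξ → ξ ⤳ ζ := fun ζ hζ => by
    rw [Groth.Agent.Lib.Helper4.VarDim.eq_of_specializes_generic ξ ζ hξ hζ]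
  obtain ⟨O, hOo, hξO, hOsub⟩ :=
    Groth.Agent.R2.H27.RatSecTop.exists_open_subset_closure_of_locallyFinite hcomp ξ ξ h0
  have hξU : ξ ∈ U := by
    obtain ⟨p, hpO, hpU⟩ := hU.inter_open_nonempty O hOo ⟨_, hξO⟩
    exact (specializes_iff_mem_closure.mpr (hOsub hpO)).mem_open U.isOpen hpU
  let ξU : (U : Scheme.{u}) := ⟨ξ, hξU⟩
  have hfξ : f (u ξU) = ξ := by
    rw [← Scheme.Hom.comp_apply, hu]; rfl
  -- the closure of `u ξ` meets the fibre over `y`
  have hT : IsClosed (f '' closure {u ξU}) :=
    hcl _ isClosed_closure isIrreducible_singleton.closure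
  have hy' : y ∈ f '' closure {u ξU} := by
    have h1 : ξ ∈ f '' closure {u ξU} := ⟨u ξU, subset_closure rfl, hfξ⟩
    exact hξy.mem_closed hT h1
  obtain ⟨t, ht, hty⟩ := hy'
  have htcl : t ∈ closure (Set.range u) :=
    closure_mono (Set.singleton_subset_iff.mpr (Set.mem_range_self ξU)) ht
  have hty' : f t = y := hty
  subst hty'
  exact Groth.Agent.R2.H27.RatSec.exists_section_nhd hcomp f U hU u hu t hy htcl

end Groth.Agent.S5996
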