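import Groth.Statements.S6009
import Groth.Agent.R2.H27TorsorSeq
import Groth.Agent.R2.H55Kummer

set_option autoImplicit false
universe u
open CategoryTheory AlgebraicGeometry MonoidalCategory CartesianMonoidalCategory MonObj GrpObj
open SGA1

namespace Groth.Agent.S6009

/-- Exactness of the cohomology sequence at H^1(S, G'): let u : G' → G and v : G → G'' be homomorphisms
of affine commutative S-groups forming a sequence 1 → G' → G → G'' → 1 which is exact for the fpqc
topology, and let Q be a principal homogeneous bundle under G' (fpqc torsor). Then the bundle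
deduced from Q by extension of the structure group along u is trivial, in the sense that Q admits a
u-equivariant S-morphism to G acting on itself by left translation, if and only if Q is the boundary
of some section f of G'' over S: there is a morphism i : Q → G making Q the inverse image of f under
v, with G' acting through right translation by inverses. -/
theorem result {S : Scheme.{u}}
    {G G' G'' : Over S} [GrpObj G] [GrpObj G'] [GrpObj G'']
    [IsCommMonObj G] [IsCommMonObj G'] [IsCommMonObj G'']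
    [IsAffineHom G.hom] [IsAffineHom G'.hom] [IsAffineHom G''.hom]
    (u : G' ⟶ G) (v : G ⟶ G'') (hex : NonAbH1.IsExactSeq Scheme.fpqcPrecoverage u v)
    (Q : NonAbH1.TorsorSch G' Scheme.fpqcPrecoverage) :
    NonAbH1.IsPushforwardAlongSch u Q.act (NonAbH1.trivialAction G) ↔
      ∃ (f : 𝟙_ (Over S) ⟶ G'') (i : Q.X ⟶ G), NonAbH1.IsPullbackTorsor u v f i Q.act := by
  obtain ⟨hu, hv, huv, hsq, hvloc⟩ := hex
  obtain ⟨hps, hloc⟩ := Q.isTorsor
  have := hu
  have := hv
  constructor
  · rintro ⟨j, hj⟩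
    -- point form of equivariance of `j`
    have hjpt : ∀ (T : Over S) (g' : T ⟶ G') (p : T ⟶ Q.X),
        lift g' p ≫ Q.act.act ≫ j = (g' ≫ u) * (p ≫ j) := by
      intro T g' p
      change _ = lift (fst G' Q.X ≫ u) (snd G' Q.X ≫ j) ≫ μ[G] at hj
      rw [hj, Hom.mul_def, ← Category.assoc]
      congr 1
      apply CartesianMonoidalCategory.hom_ext <;> simp
    -- `i` is the pointwise inverse of `j`
    have hipt : ∀ (T : Over S) (g' : T ⟶ G') (p : T ⟶ Q.X),
        lift g' p ≫ Q.act.act ≫ j⁻¹ = (p ≫ j⁻¹) * (g' ≫ u)⁻¹ := by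
      intro T g' p
      rw [← Category.assoc, comp_inv, Category.assoc, hjpt, comp_inv, _root_.mul_inv_rev]
    -- `i ≫ v` is constant on points
    have hconst : ∀ (T : Over S) (p₁ p₂ : T ⟶ Q.X), p₁ ≫ j⁻¹ ≫ v = p₂ ≫ j⁻¹ ≫ v := by
      intro T p₁ p₂
      obtain ⟨g', hg'⟩ := Groth.Agent.R2.H27.TorsorSeq.exists_translate Q.act hps p₁ p₂
      rw [← hg', Category.assoc, ← Category.assoc Q.act.act, ← Category.assoc (lift g' p₂),
        hipt, mul_comp, inv_comp, Category.assoc g' u v, huv, comp_one, inv_one, _root_.mul_one, Category.assoc]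
    -- glue the section `f`
    obtain ⟨f, hf⟩ := Groth.Agent.R2.H27.TorsorSeq.exists_glue_over hloc
      (T := 𝟙_ (Over S)) (Z := G'')
      (fun W _ z => ∃ s : W ⟶ Q.X, z = s ≫ j⁻¹ ≫ v)
      (by
        rintro W w z₁ z₂ ⟨s₁, rfl⟩ ⟨s₂, rfl⟩
        exact hconst W s₁ s₂)
      (by
        rintro W W' b w z ⟨s, rfl⟩
        exact ⟨b ≫ s, by rw [Category.assoc]⟩)
      (by
        intro W w s
        exact ⟨_, s, rfl⟩)
    have hfi : j⁻¹ ≫ v = toUnit Q.X ≫ f := by
      obtain ⟨s, hs⟩ := hf (toUnit Q.X) (𝟙 Q.X)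
      rw [hs]
      simpa using hconst _ (𝟙 _) s
    refine ⟨f, j⁻¹, hu, hv, ?_, hipt⟩
    -- uniqueness of points with given image
    have huniq : ∀ (T : Over S) (c c' : T ⟶ Q.X), c ≫ j⁻¹ = c' ≫ j⁻¹ → c = c' := by
      intro T c c' e
      obtain ⟨g', hg'⟩ := Groth.Agent.R2.H27.TorsorSeq.exists_translate Q.act hps c' c
      have h1 : c' ≫ j⁻¹ = (c ≫ j⁻¹) * (g' ≫ u)⁻¹ := by
        rw [← hg', Category.assoc, hipt]
      rw [← e] at h1
      have h2 : g' ≫ u = (1 : T ⟶ G') ≫ u := by
        rw [one_comp]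
        have := left_eq_mul.1 h1
        exact inv_eq_one.1 this
      have h3 := Groth.Agent.R2.H27.TorsorSeq.cancel_of_isPullback u v hsq _ _ h2
      rw [← hg', h3, Groth.Agent.Lib.Helper12.act_one]
    refine Groth.Agent.R2.H55.Kummer.isPullback_of_points _ _ _ _ hfi ?_
    intro T a b hab
    have hb : b = toUnit T := toUnit_unique _ _
    subst hb
    -- local existence, glued
    obtain ⟨c, hc⟩ := Groth.Agent.R2.H27.TorsorSeq.exists_glue_over hloc (T := T) (Z := Q.X)
      (fun W w z => z ≫ j⁻¹ = w ≫ a)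
      (by
        intro W w z₁ z₂ h₁ h₂
        exact huniq W z₁ z₂ (h₁.trans h₂.symm))
      (by
        intro W W' b w z h
        rw [Category.assoc, h, Category.assoc])
      (by
        intro W w xs
        have e1 : (xs ≫ j⁻¹) ≫ v = (w ≫ a) ≫ v := by
          rw [Category.assoc, hfi, Category.assoc, hab, ← Category.assoc, ← Category.assoc]
          congr 1
          exact toUnit_unique _ _
        obtain ⟨g', hg'⟩ := Groth.Agent.R2.H27.TorsorSeq.exists_of_isPullback u v hsq _ _ e1
        refine ⟨lift g'⁻¹ xs ≫ Q.act.act, ?_⟩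
        rw [Category.assoc, hipt, inv_comp, _root_.inv_inv, hg'])
    have hca : c ≫ j⁻¹ = a := by
      refine Groth.Agent.R2.H27.TorsorSeq.hom_ext_of_sections hloc _ _ ?_
      intro W w s
      rw [← Category.assoc, hc w s]
    refine ⟨c, ⟨hca, toUnit_unique _ _⟩, ?_⟩
    intro c' h1 _
    exact huniq T c' c (h1.trans hca.symm)
  · rintro ⟨f, i, -, -, -, hact⟩
    refine ⟨i⁻¹, ?_⟩
    change _ = lift (fst G' Q.X ≫ u) (snd G' Q.X ≫ i⁻¹) ≫ μ[G]
    have h1 := hact _ (fst G' Q.X) (snd G' Q.X)
    rw [lift_fst_snd, Category.id_comp] at h1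
    rw [comp_inv, h1, _root_.mul_inv_rev, _root_.inv_inv, ← Hom.mul_def, comp_inv]

end Groth.Agent.S6009
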