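import Groth.Statements.S6010
import Groth.Agent.R2.H27TorsorSeq
import Groth.Agent.R2.H51ActPts
import Groth.Agent.Lib.Helper12BundleMap

set_option autoImplicit false
universe u
open CategoryTheory AlgebraicGeometry MonoidalCategory CartesianMonoidalCategory MonObj GrpObj
open SGA1

namespace Groth.Agent.S6010

/-- Exactness of the cohomology sequence at H^1(S, G): let u : G' → G and v : G → G'' be homomorphisms
of affine commutative S-groups forming a sequence 1 → G' → G → G'' → 1 which is exact for the fpqc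
topology, and let P be a principal homogeneous bundle under G (fpqc torsor). Then the bundle deduced
from P by extension of the structure group along v is trivial, in the sense that P admits a
v-equivariant S-morphism to G'' acting on itself by left translation, if and only if P comes from
G': there is a principal homogeneous bundle Q under G' with a u-equivariant S-morphism Q → P. -/
theorem result {S : Scheme.{u}}
    {G G' G'' : Over S} [GrpObj G] [GrpObj G'] [GrpObj G'']
    [IsCommMonObj G] [IsCommMonObj G'] [IsCommMonObj G'']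
    [IsAffineHom G.hom] [IsAffineHom G'.hom] [IsAffineHom G''.hom]
    (u : G' ⟶ G) (v : G ⟶ G'') (hex : NonAbH1.IsExactSeq Scheme.fpqcPrecoverage u v)
    (P : NonAbH1.TorsorSch G Scheme.fpqcPrecoverage) :
    NonAbH1.IsPushforwardAlongSch v P.act (NonAbH1.trivialAction G'') ↔
      ∃ Q : NonAbH1.TorsorSch G' Scheme.fpqcPrecoverage, NonAbH1.IsPushforwardAlongSch u Q.act P.act := by
  obtain ⟨hu, hv, huv, hsq, hvloc⟩ := hex
  obtain ⟨hps, hloc⟩ := P.isTorsor
  have := hu
  have := hv
  constructor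
  · rintro ⟨c, hc⟩
    -- point form of equivariance of `c`
    have hcpt : ∀ (T : Over S) (g : T ⟶ G) (p : T ⟶ P.X),
        lift g p ≫ P.act.act ≫ c = (g ≫ v) * (p ≫ c) := by
      intro T g p
      change _ = lift (fst G P.X ≫ v) (snd G P.X ≫ c) ≫ μ[G''] at hc
      rw [hc, Hom.mul_def, ← Category.assoc]
      congr 1
      apply CartesianMonoidalCategory.hom_ext <;> simp
    -- the fibre of `c` over the unit section
    let QX : Over S := Limits.pullback c η[G'']
    let jQ : QX ⟶ P.X := Limits.pullback.fst c η[G'']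
    have hjQ : jQ ≫ c = 1 := by
      rw [Limits.pullback.condition, Hom.one_def]
      congr 1
      exact toUnit_unique _ _
    have hlift : ∀ (T : Over S) (p : T ⟶ P.X), p ≫ c = 1 → ∃ q : T ⟶ QX, q ≫ jQ = p := by
      intro T p hp
      exact ⟨Limits.pullback.lift p (toUnit T) (by rw [hp, Hom.one_def]),
        Limits.pullback.lift_fst _ _ _⟩
    have hmono : ∀ (T : Over S) (q₁ q₂ : T ⟶ QX), q₁ ≫ jQ = q₂ ≫ jQ → q₁ = q₂ := by
      intro T q₁ q₂ e
      exact Limits.pullback.hom_ext e (toUnit_unique _ _)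
    -- the action of `G'`
    have hact1 : (lift (fst G' QX ≫ u) (snd G' QX ≫ jQ) ≫ P.act.act) ≫ c = 1 := by
      rw [Category.assoc, hcpt, Category.assoc, Category.assoc, huv, hjQ, comp_one, comp_one,
        _root_.mul_one]
    let actQ : G' ⊗ QX ⟶ QX :=
      Limits.pullback.lift (lift (fst G' QX ≫ u) (snd G' QX ≫ jQ) ≫ P.act.act) (toUnit _)
        (by rw [hact1, Hom.one_def])
    have hactQ : actQ ≫ jQ = lift (fst G' QX ≫ u) (snd G' QX ≫ jQ) ≫ P.act.act :=
      Limits.pullback.lift_fst _ _ _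
    have hactQpt : ∀ (T : Over S) (g' : T ⟶ G') (q : T ⟶ QX),
        (lift g' q ≫ actQ) ≫ jQ = lift (g' ≫ u) (q ≫ jQ) ≫ P.act.act := by
      intro T g' q
      rw [Category.assoc, hactQ, ← Category.assoc]
      congr 1
      apply CartesianMonoidalCategory.hom_ext <;> simp
    let aQ : AlgGrp.Action G' QX := Groth.Agent.R2.H51.ActPts.ofPoints actQ
      (by
        intro T x
        apply hmono
        rw [hactQpt, one_comp, Groth.Agent.Lib.Helper12.act_one])
      (by
        intro T g h x
        apply hmono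
        rw [hactQpt, hactQpt, hactQpt, mul_comp, Groth.Agent.Lib.Helper12.act_mul])
    have haQ : aQ.act = actQ := rfl
    -- pseudo-torsor
    have hpsQ : NonAbH1.IsPseudoTorsorSch aQ := by
      change IsIso (lift aQ.act (snd G' QX))
      rw [haQ]
      apply isIso_of_yoneda_map_bijective
      intro T
      constructor
      · intro x₁ x₂ e
        have e' : x₁ ≫ lift actQ (snd G' QX) = x₂ ≫ lift actQ (snd G' QX) := e
        have e2 : x₁ ≫ snd G' QX = x₂ ≫ snd G' QX := by
          simpa using congrArg (· ≫ snd QX QX) e'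
        have e1 : x₁ ≫ actQ = x₂ ≫ actQ := by
          simpa using congrArg (· ≫ fst QX QX) e'
        have hx : ∀ x : T ⟶ G' ⊗ QX, x = lift (x ≫ fst G' QX) (x ≫ snd G' QX) := by
          intro x
          apply CartesianMonoidalCategory.hom_ext <;> simp
        have e3 : (x₁ ≫ actQ) ≫ jQ = (x₂ ≫ actQ) ≫ jQ := by rw [e1]
        rw [hx x₁, hx x₂, hactQpt, hactQpt, ← e2] at e3
        have e4 := Groth.Agent.R2.H27.TorsorSeq.translate_unique P.act hps _ _ _ e3
        have e5 := Groth.Agent.R2.H27.TorsorSeq.cancel_of_isPullback u v hsq _ _ e4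
        rw [hx x₁, hx x₂, e5, e2]
      · intro y
        obtain ⟨g, hg⟩ := Groth.Agent.R2.H27.TorsorSeq.exists_translate P.act hps
          ((y ≫ fst QX QX) ≫ jQ) ((y ≫ snd QX QX) ≫ jQ)
        have hgv : (1 : T ⟶ G) ≫ v = g ≫ v := by
          have h1 : (lift g ((y ≫ snd QX QX) ≫ jQ) ≫ P.act.act) ≫ c =
              ((y ≫ fst QX QX) ≫ jQ) ≫ c := by rw [hg]
          rw [Category.assoc, hcpt, Category.assoc _ jQ c, Category.assoc _ jQ c, hjQ, comp_one,
            comp_one, _root_.mul_one] at h1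
          rw [one_comp, h1]
        obtain ⟨g', hg'⟩ := Groth.Agent.R2.H27.TorsorSeq.exists_of_isPullback u v hsq _ _ hgv
        rw [_root_.one_mul] at hg'
        refine ⟨lift g' (y ≫ snd QX QX), ?_⟩
        change lift g' (y ≫ snd QX QX) ≫ lift actQ (snd G' QX) = y
        apply CartesianMonoidalCategory.hom_ext
        · rw [Category.assoc, lift_fst]
          apply hmono
          rw [hactQpt, hg', hg]
        · rw [Category.assoc, lift_snd, lift_snd]
    -- local triviality
    have hlocQ : NonAbH1.IsLocallyTrivialFor Scheme.fpqcPrecoverage QX := by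
      have h1 : NonAbH1.IsLocallyTrivialFor Scheme.fpqcPrecoverage
          (Over.mk (Limits.pullback.fst c.left v.left) : Over P.X.left) :=
        Groth.Agent.Lib.Helper12.BundleMap.isLocallyTrivialFor_of_isPullback
          (IsPullback.of_hasPullback c.left v.left) hvloc
      have h2 : NonAbH1.IsLocallyTrivialFor Scheme.fpqcPrecoverage
          (Over.mk P.X.hom : Over S) := hloc
      obtain ⟨R, hR, hsec⟩ :=
        Groth.Agent.Lib.Helper12.RelTorsor.isLocallyTrivialFor_comp _ _ h1 h2
      refine ⟨R, hR, ?_⟩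
      intro S' f hf
      obtain ⟨s, hs⟩ := hsec f hf
      have hs' : s ≫ Limits.pullback.fst c.left v.left ≫ P.X.hom = f := hs
      have hsG : (s ≫ Limits.pullback.snd c.left v.left) ≫ G.hom = f := by
        rw [← hs', ← Over.w v, ← Over.w c, Category.assoc, Limits.pullback.condition_assoc]
      let T : Over S := Over.mk f
      let p : T ⟶ P.X := Over.homMk (s ≫ Limits.pullback.fst c.left v.left)
        (by rw [Category.assoc]; exact hs')
      let g : T ⟶ G := Over.homMk (s ≫ Limits.pullback.snd c.left v.left) hsG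
      have hpg : p ≫ c = g ≫ v := by
        ext
        simp [p, g, Limits.pullback.condition]
      have h3 : (lift g⁻¹ p ≫ P.act.act) ≫ c = 1 := by
        rw [Category.assoc, hcpt, hpg, inv_comp, inv_mul_cancel]
      obtain ⟨q, -⟩ := hlift T _ h3
      exact ⟨q.left, Over.w q⟩
    exact ⟨⟨QX, aQ, hpsQ, hlocQ⟩, jQ, hactQ⟩
  · rintro ⟨Q, φ, hφ⟩
    obtain ⟨hpsQ, hlocQ⟩ := Q.isTorsor
    have hφpt : ∀ (T : Over S) (g' : T ⟶ G') (q : T ⟶ Q.X),
        (lift g' q ≫ Q.act.act) ≫ φ = lift (g' ≫ u) (q ≫ φ) ≫ P.act.act := by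
      intro T g' q
      rw [Category.assoc, hφ, ← Category.assoc]
      congr 1
      apply CartesianMonoidalCategory.hom_ext <;> simp
    have hPu : ∀ ⦃W : Over S⦄ (w : W ⟶ P.X) (z₁ z₂ : W ⟶ G''),
        (∃ (q : W ⟶ Q.X) (g : W ⟶ G), lift g (q ≫ φ) ≫ P.act.act = w ∧ z₁ = g ≫ v) →
        (∃ (q : W ⟶ Q.X) (g : W ⟶ G), lift g (q ≫ φ) ≫ P.act.act = w ∧ z₂ = g ≫ v) →
        z₁ = z₂ := by
      rintro W w z₁ z₂ ⟨q₁, g₁, h₁, rfl⟩ ⟨q₂, g₂, h₂, rfl⟩
      obtain ⟨g', hg'⟩ := Groth.Agent.R2.H27.TorsorSeq.exists_translate Q.act hpsQ q₁ q₂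
      rw [← hg', hφpt, ← Groth.Agent.Lib.Helper12.act_mul, ← h₂] at h₁
      have h3 := Groth.Agent.R2.H27.TorsorSeq.translate_unique P.act hps _ _ _ h₁
      rw [← h3, mul_comp, Category.assoc, huv, comp_one, _root_.mul_one]
    obtain ⟨c, hc⟩ := Groth.Agent.R2.H27.TorsorSeq.exists_glue_over hlocQ (T := P.X) (Z := G'')
      (fun W w z => ∃ (q : W ⟶ Q.X) (g : W ⟶ G), lift g (q ≫ φ) ≫ P.act.act = w ∧ z = g ≫ v)
      hPu
      (by
        rintro W W' b w z ⟨q, g, h, rfl⟩
        refine ⟨b ≫ q, b ≫ g, ?_, by rw [Category.assoc]⟩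
        rw [← h, Groth.Agent.Lib.Helper12.comp_lift_act, Category.assoc])
      (by
        intro W w q
        obtain ⟨g, hg⟩ := Groth.Agent.R2.H27.TorsorSeq.exists_translate P.act hps w (q ≫ φ)
        exact ⟨_, q, g, hg, rfl⟩)
    refine ⟨c, ?_⟩
    change _ = lift (fst G P.X ≫ v) (snd G P.X ≫ c) ≫ μ[G'']
    refine Groth.Agent.R2.H27.TorsorSeq.hom_ext_of_sections hlocQ _ _ ?_
    intro W w q
    obtain ⟨q', g, hg, hgc⟩ := hc (w ≫ snd G P.X) q
    have hw : w = lift (w ≫ fst G P.X) (w ≫ snd G P.X) := by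
      apply CartesianMonoidalCategory.hom_ext <;> simp
    have h1 := hc (w ≫ P.act.act) q
    have h2 : ∃ (q'' : W ⟶ Q.X) (g'' : W ⟶ G), lift g'' (q'' ≫ φ) ≫ P.act.act = w ≫ P.act.act ∧
        ((w ≫ fst G P.X) * g) ≫ v = g'' ≫ v := by
      refine ⟨q', (w ≫ fst G P.X) * g, ?_, rfl⟩
      rw [Groth.Agent.Lib.Helper12.act_mul, hg]
      conv_rhs => rw [hw]
    have h3 := hPu _ _ _ h1 h2
    rw [← Category.assoc, h3, mul_comp, ← hgc, Hom.mul_def, ← Category.assoc]
    congr 1
    apply CartesianMonoidalCategory.hom_ext <;> simp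

end Groth.Agent.S6010
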