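import Groth.Statements.S6063
import Groth.Agent.R2.H95NilpDev
import Groth.Agent.Lib.Helper22IdealComap

set_option autoImplicit false
universe u
open CategoryTheory AlgebraicGeometry
open TensorProduct
open SGA3x

namespace Groth.Agent.S6063

namespace Aux

open CategoryTheory.Limits

/-- The kernel of `Γ(Spec A, ⊤) → Γ(Spec A/J, ⊤)` is `J` transported by `ΓSpecIso`. -/
theorem ker_Spec_mk (A : CommRingCat.{u}) (J : Ideal ↑A) :
    RingHom.ker ((Spec.map (CommRingCat.ofHom (Ideal.Quotient.mk J))).app ⊤).hom =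
      J.map (Scheme.ΓSpecIso A).inv.hom := by
  have nat := Scheme.ΓSpecIso_naturality (CommRingCat.ofHom (Ideal.Quotient.mk J))
  have nat' : ∀ x, (Scheme.ΓSpecIso (CommRingCat.of (↑A ⧸ J))).hom.hom
      (((Spec.map (CommRingCat.ofHom (Ideal.Quotient.mk J))).app ⊤).hom x) =
      Ideal.Quotient.mk J ((Scheme.ΓSpecIso A).hom.hom x) := fun x =>
    congr($(nat) x)
  have hinj : Function.Injective (Scheme.ΓSpecIso (CommRingCat.of (↑A ⧸ J))).hom.hom :=
    (ConcreteCategory.bijective_of_isIso (Scheme.ΓSpecIso (CommRingCat.of (↑A ⧸ J))).hom).1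
  apply le_antisymm
  · intro x hx
    rw [RingHom.mem_ker] at hx
    have h1 : Ideal.Quotient.mk J ((Scheme.ΓSpecIso A).hom.hom x) = 0 :=
      (nat' x).symm.trans ((congrArg _ hx).trans (map_zero _))
    have h2 : (Scheme.ΓSpecIso A).hom.hom x ∈ J := Ideal.Quotient.eq_zero_iff_mem.mp h1
    have h3 : x = (Scheme.ΓSpecIso A).inv.hom ((Scheme.ΓSpecIso A).hom.hom x) := by
      rw [← RingHom.comp_apply, ← CommRingCat.hom_comp, Iso.hom_inv_id]
      rfl
    rw [h3]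
    exact Ideal.mem_map_of_mem _ h2
  · rw [Ideal.map_le_iff_le_comap]
    intro a ha
    rw [Ideal.mem_comap, RingHom.mem_ker]
    apply hinj
    refine (nat' _).trans (Eq.trans ?_ (map_zero _).symm)
    have h4 : (Scheme.ΓSpecIso A).hom.hom ((Scheme.ΓSpecIso A).inv.hom a) = a := by
      rw [← RingHom.comp_apply, ← CommRingCat.hom_comp, Iso.inv_hom_id]
      rfl
    rw [h4]
    exact Ideal.Quotient.eq_zero_iff_mem.mpr ha

/-- **Kernel of reduction mod `J` on an affine open.** -/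
theorem ker_fst_app {X : Scheme.{u}} (A : CommRingCat.{u}) (p : X ⟶ Spec A) (J : Ideal ↑A)
    (V : X.Opens) (hV : IsAffineOpen V) :
    RingHom.ker ((pullback.fst p (Spec.map (CommRingCat.ofHom (Ideal.Quotient.mk J)))).app V).hom =
      J.map ((p.appLE ⊤ V le_top).hom.comp (Scheme.ΓSpecIso A).inv.hom) := by
  have : IsClosedImmersion (Spec.map (CommRingCat.ofHom (Ideal.Quotient.mk J))) :=
    IsClosedImmersion.spec_of_surjective _ Ideal.Quotient.mk_surjective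
  have h1 := Scheme.IdealSheafData.ker_fst_of_isClosedImmersion
    (Spec.map (CommRingCat.ofHom (Ideal.Quotient.mk J))) p
  have h2 := Scheme.Hom.ker_apply
    (pullback.fst p (Spec.map (CommRingCat.ofHom (Ideal.Quotient.mk J)))) ⟨V, hV⟩
  rw [← h2, h1, Groth.Agent.Lib.Helper22.IdealComap.ideal_comap_eq_map p _ ⟨V, hV⟩
    ⟨⊤, isAffineOpen_top _⟩ le_top, ← Ideal.map_map]
  congr 1
  rw [Scheme.Hom.ker_apply]
  exact ker_Spec_mk A J

/-- A section killed by `appLE` to every member of a cover of the preimage is killed by `app`. -/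
theorem app_eq_zero_of_cover {X Y : Scheme.{u}} (f : X ⟶ Y) (V : Y.Opens) (t : Γ(Y, V))
    (h : ∀ x ∈ f ⁻¹ᵁ V, ∃ (U : X.Opens) (hU : U ≤ f ⁻¹ᵁ V), x ∈ U ∧ (f.appLE V U hU).hom t = 0) :
    (f.app V).hom t = 0 := by
  apply X.IsSheaf.section_ext
  intro x hx
  obtain ⟨U, hU, hxU, h0⟩ := h x hx
  refine ⟨U, hU, hxU, ?_⟩
  rw [map_zero]
  exact h0

theorem appLE_congr_hom_apply {X Y : Scheme.{u}} {f g : X ⟶ Y} (e : f = g) (U : Y.Opens)
    (V : X.Opens) (h : V ≤ f ⁻¹ᵁ U) (t : Γ(Y, U)) :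
    (f.appLE U V h).hom t = (g.appLE U V (e ▸ h)).hom t := by
  subst e; rfl

/-- The sheaf-theoretic step: in a commutative square `v₀ ≫ pr = pr' ≫ v`, a section `β` over `V`
whose restrictions to affine opens `W ≤ v⁻¹ V` die under `pr'` dies under `pr` then `v₀`. -/
theorem sheaf_step {X X₀ Z Z₀ : Scheme.{u}} (pr : X₀ ⟶ X) (v : Z ⟶ X) (pr' : Z₀ ⟶ Z)
    (v₀ : Z₀ ⟶ X₀) (comm : v₀ ≫ pr = pr' ≫ v) (V : X.Opens) (β : Γ(X, V))
    (h : ∀ W : Z.Opens, IsAffineOpen W → ∀ hWV : W ≤ v ⁻¹ᵁ V,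
      (pr'.app W).hom ((v.appLE V W hWV).hom β) = 0) :
    (v₀.app (pr ⁻¹ᵁ V)).hom ((pr.app V).hom β) = 0 := by
  apply app_eq_zero_of_cover
  intro z hz
  have hz' : pr' z ∈ v ⁻¹ᵁ V := by
    show v (pr' z) ∈ V
    rw [← Scheme.Hom.comp_apply, ← comm]
    exact hz
  obtain ⟨W, hW, hzW, hWV⟩ :=
    TopologicalSpace.Opens.isBasis_iff_nbhd.mp Z.isBasis_affineOpens hz'
  have hW' : IsAffineOpen W := hW
  have hU : pr' ⁻¹ᵁ W ≤ v₀ ⁻¹ᵁ (pr ⁻¹ᵁ V) := by
    intro z' hz'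
    show pr (v₀ z') ∈ V
    rw [← Scheme.Hom.comp_apply, comm]
    exact hWV hz'
  refine ⟨pr' ⁻¹ᵁ W, hU, hzW, ?_⟩
  have e1 : (v₀.appLE (pr ⁻¹ᵁ V) (pr' ⁻¹ᵁ W) hU).hom ((pr.app V).hom β) =
      ((v₀ ≫ pr).appLE V (pr' ⁻¹ᵁ W) hU).hom β := by
    rw [Scheme.Hom.app_eq_appLE, ← RingHom.comp_apply, ← CommRingCat.hom_comp,
      Scheme.Hom.appLE_comp_appLE]
  have e2 : ((pr' ≫ v).appLE V (pr' ⁻¹ᵁ W) (comm ▸ hU)).hom β =
      (pr'.app W).hom ((v.appLE V W hWV).hom β) := by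
    rw [Scheme.Hom.app_eq_appLE, ← RingHom.comp_apply, ← CommRingCat.hom_comp,
      Scheme.Hom.appLE_comp_appLE]
  exact e1.trans ((appLE_congr_hom_apply comm V _ hU β).trans (e2.trans (h W hW' hWV)))

theorem affine_case {X : Scheme.{u}} (A : CommRingCat.{u}) (p : X ⟶ Spec A)
    (J : Ideal ↑A) (hJ : IsNilpotent J)
    (hfree : ∀ k : ℕ, Module.Free (↑A ⧸ J) ((↑A ⧸ J) ⊗[↑A] ↥(J ^ k)))
    {ι : Type u} (Z : ι → Scheme.{u}) (v : ∀ i, Z i ⟶ X) [∀ i, Flat (v i ≫ p)]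
    (h0 : ∀ (V : (pullback p (Spec.map (CommRingCat.ofHom (Ideal.Quotient.mk J)))).Opens)
      (t : Γ(pullback p (Spec.map (CommRingCat.ofHom (Ideal.Quotient.mk J))), V)),
      (∀ i, (pullback.map (v i ≫ p) (Spec.map (CommRingCat.ofHom (Ideal.Quotient.mk J))) p
        (Spec.map (CommRingCat.ofHom (Ideal.Quotient.mk J))) (v i) (𝟙 _) (𝟙 _)
        (Category.comp_id _) ((Category.comp_id _).trans (Category.id_comp _).symm)).app V t = 0) →
        t = 0)
    (V : X.Opens) (hV : IsAffineOpen V) (t : Γ(X, V)) (ht : ∀ i, (v i).app V t = 0) : t = 0 := by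
  let ι' := Σ i : ι, {W : (Z i).Opens // IsAffineOpen W ∧ W ≤ (v i) ⁻¹ᵁ V}
  refine Groth.Agent.R2.H95.NilpDev.eq_zero_of_forall_ringHom (A := ↑A) (B := ↑Γ(X, V)) J hJ hfree
    (ι := ι') (C := fun w => ↑Γ(Z w.1, w.2.1))
    ((p.appLE ⊤ V le_top).hom.comp (Scheme.ΓSpecIso A).inv.hom)
    (fun w => ((v w.1 ≫ p).appLE ⊤ w.2.1 le_top).hom.comp (Scheme.ΓSpecIso A).inv.hom)
    (fun w => ((v w.1).appLE V w.2.1 w.2.2.2).hom) ?_ ?_ ?_ t ?_
  · -- compatibility
    rintro ⟨i, W, hW, hWV⟩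
    rw [← RingHom.comp_assoc, ← CommRingCat.hom_comp]
    exact congrArg (fun f => (CommRingCat.Hom.hom f).comp (Scheme.ΓSpecIso A).inv.hom)
      (Scheme.Hom.appLE_comp_appLE (v i) p ⊤ V W _ _)
  · -- flatness
    rintro ⟨i, W, hW, hWV⟩
    have h1 : ((v i ≫ p).appLE ⊤ W le_top).hom.Flat :=
      HasRingHomProperty.appLE @Flat (v i ≫ p) inferInstance ⟨⊤, isAffineOpen_top _⟩ ⟨W, hW⟩ le_top
    exact RingHom.Flat.comp (RingHom.Flat.of_bijective
      (ConcreteCategory.bijective_of_isIso (Scheme.ΓSpecIso A).inv)) h1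
  · -- the family detects `J`
    intro β hβ
    rw [← ker_fst_app A p J V hV, RingHom.mem_ker]
    apply h0
    intro i
    apply sheaf_step _ (v i) (pullback.fst (v i ≫ p) _) _ (pullback.lift_fst _ _ _) V β
    intro W hW hWV
    rw [← RingHom.mem_ker, ker_fst_app A (v i ≫ p) J W hW]
    exact hβ ⟨i, W, hW, hWV⟩
  · -- vanishing
    rintro ⟨i, W, hW, hWV⟩
    show ((v i).appLE V W hWV).hom t = 0
    rw [Scheme.Hom.appLE, CommRingCat.hom_comp, RingHom.comp_apply]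
    exact (congrArg _ (ht i)).trans (map_zero _)

end Aux

open CategoryTheory.Limits in
theorem result {X : Scheme.{u}} (A : CommRingCat.{u}) (p : X ⟶ Spec A) [Flat p]
    (J : Ideal ↑A) (hJ : IsNilpotent J) (hfree : ∀ k : ℕ, Module.Free (↑A ⧸ J) ((↑A ⧸ J) ⊗[↑A] ↥(J ^ k)))
    {ι : Type u} (Z : ι → Scheme.{u}) (v : ∀ i, Z i ⟶ X) [∀ i, IsImmersion (v i)] [∀ i, Flat (v i ≫ p)]
    (h0 : ∀ (V : (pullback p (Spec.map (CommRingCat.ofHom (Ideal.Quotient.mk J)))).Opens) (t : Γ(pullback p (Spec.map (CommRingCat.ofHom (Ideal.Quotient.mk J))), V)),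
      (∀ i, (pullback.map (v i ≫ p) (Spec.map (CommRingCat.ofHom (Ideal.Quotient.mk J))) p (Spec.map (CommRingCat.ofHom (Ideal.Quotient.mk J))) (v i) (𝟙 _) (𝟙 _)
        (Category.comp_id _) ((Category.comp_id _).trans (Category.id_comp _).symm)).app V t = 0) → t = 0) :
    ∀ (V : X.Opens) (t : Γ(X, V)), (∀ i, (v i).app V t = 0) → t = 0 := by
  intro V t ht
  apply X.IsSheaf.section_ext
  intro x hx
  obtain ⟨V', hV', hxV', hV'V⟩ :=
    TopologicalSpace.Opens.isBasis_iff_nbhd.mp X.isBasis_affineOpens hx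
  refine ⟨V', hV'V, hxV', ?_⟩
  rw [map_zero]
  apply Aux.affine_case A p J hJ hfree Z v h0 V' hV'
  intro i
  have h1 : ((v i).app V').hom ((X.presheaf.map (homOfLE hV'V).op).hom t) =
      ((Z i).presheaf.map (homOfLE ((TopologicalSpace.Opens.map (v i).base).map (homOfLE hV'V)).le).op).hom
        (((v i).app V).hom t) := by
    rw [← RingHom.comp_apply, ← RingHom.comp_apply, ← CommRingCat.hom_comp, ← CommRingCat.hom_comp]
    exact congrArg (fun f => f.hom t) ((v i).naturality (homOfLE hV'V).op)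
  exact h1.trans ((congrArg _ (ht i)).trans (map_zero _))

end Groth.Agent.S6063
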