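import Groth.Statements.S6075
import Groth.Agent.R2.H24Words

set_option autoImplicit false
universe u
open CategoryTheory CategoryTheory.Limits MonoidalCategory CartesianMonoidalCategory MonObj GrpObj AlgebraicGeometry
open SGA3

namespace Groth.Agent.S6075

/-- Let k be an algebraically closed field, G a group scheme locally of finite type over k, X a
geometrically reduced k-scheme locally of finite type, and f : X → G a k-morphism. Consider the
k-points g of G whose underlying point lies under a word in f: there are a k-scheme T, a point p of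
T, n ≥ 0, T-valued points x_1, …, x_n of X and signs such that the T-valued point f(x_1)^{±1} ⋯
f(x_n)^{±1} of G maps p to the point of g. These k-points form exactly the subgroup of G(k)
generated by the k-points of G whose underlying point lies in the image of f. (Words of length zero
are allowed here, so that the unit is on both sides when X is empty; for nonempty X this changes
nothing, while the published statement, with words of positive length only, fails for empty X.) -/
theorem result (k : Type u) [Field k] [IsAlgClosed k]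
    (G X : Over (Spec (CommRingCat.of k))) [GrpObj G] [LocallyOfFiniteType G.hom]
    [LocallyOfFiniteType X.hom] [GeometricallyReduced X.hom] (f : X ⟶ G) :
    {g : 𝟙_ (Over (Spec (CommRingCat.of k))) ⟶ G | ∃ (n : ℕ) (T : Over (Spec (CommRingCat.of k))) (p : T.left) (p₀ : (𝟙_ (Over (Spec (CommRingCat.of k)))).left)
        (x : Fin n → (T ⟶ X)) (ε : Fin n → Bool), ((List.ofFn fun j : Fin n => if ε j then x j ≫ f else (x j ≫ f)⁻¹).prod : T ⟶ G).left.base p = g.left.base p₀} =
      ((Subgroup.closure {g : 𝟙_ (Over (Spec (CommRingCat.of k))) ⟶ G | ∃ p₀ : (𝟙_ (Over (Spec (CommRingCat.of k)))).left, g.left.base p₀ ∈ Set.range f.left.base} :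
        Subgroup (𝟙_ (Over (Spec (CommRingCat.of k))) ⟶ G)) : Set (𝟙_ (Over (Spec (CommRingCat.of k))) ⟶ G)) := by
  classical
  have hne : Nonempty (𝟙_ (Over (Spec (CommRingCat.of k)))).left :=
    inferInstanceAs (Nonempty (Spec (CommRingCat.of k)))
  obtain ⟨pt⟩ := hne
  have h1 : LocallyOfFiniteType (𝟙_ (Over (Spec (CommRingCat.of k)))).hom :=
    inferInstanceAs (LocallyOfFiniteType (𝟙 (Spec (CommRingCat.of k))))
  have hGen : {g : 𝟙_ (Over (Spec (CommRingCat.of k))) ⟶ G |
      ∃ p₀ : (𝟙_ (Over (Spec (CommRingCat.of k)))).left,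
        g.left.base p₀ ∈ Set.range f.left.base} =
      {a : 𝟙_ (Over (Spec (CommRingCat.of k))) ⟶ G |
        ∃ y : 𝟙_ (Over (Spec (CommRingCat.of k))) ⟶ X, a = y ≫ f} := by
    ext g
    constructor
    · rintro ⟨p₀, q, hq⟩
      obtain ⟨y', hy'⟩ := Groth.Agent.R2.H24.Words.exists_section_of_point X G f g q p₀ hq
      exact ⟨y', hy'.symm⟩
    · rintro ⟨y, rfl⟩
      exact ⟨pt, y.left.base pt, rfl⟩
  rw [hGen]
  ext g
  constructor
  · rintro ⟨n, T, p, p₀, x, ε, h⟩
    change (Groth.Agent.R2.H24.Words.word f n x ε).left.base p = g.left.base p₀ at h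
    have hw : Groth.Agent.R2.H24.Words.tup n x ≫
        Groth.Agent.R2.H24.Words.word f n (Groth.Agent.R2.H24.Words.proj X n) ε =
        Groth.Agent.R2.H24.Words.word f n x ε := by
      rw [Groth.Agent.R2.H24.Words.comp_word]
      congr 1
      funext j
      exact Groth.Agent.R2.H24.Words.tup_proj n x j
    have hP := Groth.Agent.R2.H24.Words.locallyOfFiniteType_Pn (X := X) h1 n
    have hq : (Groth.Agent.R2.H24.Words.word f n (Groth.Agent.R2.H24.Words.proj X n) ε).left.base
        ((Groth.Agent.R2.H24.Words.tup n x).left.base p) = g.left.base p₀ := by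
      rw [← h, ← hw]
      rfl
    obtain ⟨y', hy'⟩ := Groth.Agent.R2.H24.Words.exists_section_of_point
      (Groth.Agent.R2.H24.Words.Pn X n) G
      (Groth.Agent.R2.H24.Words.word f n (Groth.Agent.R2.H24.Words.proj X n) ε) g _ p₀ hq
    rw [Groth.Agent.R2.H24.Words.comp_word] at hy'
    rw [← hy']
    exact Groth.Agent.R2.H24.Words.word_mem_closure f n _ ε
  · intro hg
    obtain ⟨n, x, ε, hx⟩ := Groth.Agent.R2.H24.Words.exists_word_of_mem_closure f g hg
    exact ⟨n, 𝟙_ (Over (Spec (CommRingCat.of k))), pt, pt, x, ε, by rw [← hx]; rfl⟩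

end Groth.Agent.S6075
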