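import Groth.Statements.S6081
import Groth.Agent.R2.H19ComodFin
import Groth.Agent.R2.H19ComodMatrix

set_option autoImplicit false
set_option linter.style.haveILetI false
universe u
open TensorProduct
open SGA3

namespace Groth.Agent.S6081

/-- Let R be a Noetherian ring and A a commutative Hopf algebra over R which is flat and of finite type
as an R-algebra, so that G = Spec A is an affine flat R-group scheme of finite type. Suppose that
the pair (G, Spec R) has the equivariant resolution property: for every A-comodule F which is
finitely generated as an R-module there are an A-comodule E which is finitely generated and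
projective as an R-module and a surjective R-linear map E → F compatible with the coactions. Then
there are a natural number d and a d × d matrix (a_ij) of elements of A with Δ(a_ij) = Σ_l a_il ⊗
a_lj and ε(a_ij) = δ_ij (a matrix corepresentation, i.e. a homomorphism G → GL_{d,R}) whose
determinant is a unit, such that A is generated as an R-algebra by the entries a_ij together with
the inverse of det(a_ij): G is a closed subgroup scheme of GL_{d,R}. (The published statement is
over a Noetherian scheme S, with G-equivariant coherent modules; this row is its assertion (ii), the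
case S affine, in Hopf-algebra form.) -/
theorem result (R : Type u) [CommRing R] [IsNoetherianRing R]
    (A : Type u) [CommRing A] [HopfAlgebra R A] [Module.Flat R A] [Algebra.FiniteType R A]
    (hRE : ∀ (F : Type u) [AddCommGroup F] [Module R F] [HopfRep.Comod R A F] [Module.Finite R F],
      ∃ (E : Type u) (_ : AddCommGroup E) (_ : Module R E) (_ : HopfRep.Comod R A E) (π : E →ₗ[R] F),
        Module.Finite R E ∧ Module.Projective R E ∧ Function.Surjective π ∧
        HopfRep.Comod.coact (k := R) (A := A) ∘ₗ π = π.rTensor A ∘ₗ HopfRep.Comod.coact (k := R) (A := A) (V := E)) :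
    ∃ (d : ℕ) (a : Matrix (Fin d) (Fin d) A),
      (∀ i j, CoalgebraStruct.comul (R := R) (a i j) = ∑ l, a i l ⊗ₜ[R] a l j) ∧
      (∀ i j, CoalgebraStruct.counit (R := R) (a i j) = if i = j then 1 else 0) ∧
      ∃ u : A, u * a.det = 1 ∧ Algebra.adjoin R (Set.range (fun p : Fin d × Fin d => a p.1 p.2) ∪ {u}) = ⊤ := by
  obtain ⟨S, hS⟩ := (Algebra.FiniteType.out : (⊤ : Subalgebra R A).FG)
  obtain ⟨N, hNfg, hSN, hNsub⟩ :=
    Groth.Agent.R2.H19.ComodFin.exists_fg_subcomod_finset (k := R) (A := A) (V := A) S
  letI cN : HopfRep.Comod R A N := Groth.Agent.Lib.Helper25.subComod N hNsub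
  haveI : Module.Finite R N := Module.Finite.iff_fg.mpr hNfg
  obtain ⟨E, iE1, iE2, cE, π, hEf, hEp, hπ, hπc⟩ := hRE N
  have hg : Hoch.IsComodHom A (N.subtype ∘ₗ π) :=
    Groth.Agent.Lib.Helper25.isComodHom_comp (k := R) (A := A) hπc
      (Groth.Agent.Lib.Helper25.isComodHom_subtype N hNsub)
  obtain ⟨d, a, h1, h2, u, hu, hr⟩ :=
    Groth.Agent.R2.H19.ComodMatrix.exists_comatrix_of_projective_adjoin E (N.subtype ∘ₗ π) hg
  refine ⟨d, a, h1, h2, u, hu, ?_⟩
  rw [eq_top_iff, ← hS]
  apply Algebra.adjoin_le
  intro s hs
  apply hr
  obtain ⟨x, hx⟩ := hπ ⟨s, hSN hs⟩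
  exact ⟨x, by simp [hx]⟩

end Groth.Agent.S6081
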