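import Groth.Statements.S6082
import Groth.Agent.R2.H19ComodRes
import Groth.Agent.R2.H19DualProj

set_option autoImplicit false
set_option linter.style.haveILetI false
universe u
open TensorProduct
open SGA3

namespace Groth.Agent.S6082

/-- Let R be a Noetherian regular ring of Krull dimension at most 2, C a (coassociative, counital)
R-coalgebra which is projective as an R-module, and F a right C-comodule which is finitely generated
as an R-module. Then F is a quotient of a C-comodule which is finitely generated and projective as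
an R-module: there are such a comodule V and a surjective R-linear map V → F compatible with the
coactions. -/
theorem result (R : Type u) [CommRing R] [IsRegularRing R]
    (hdim : ringKrullDim R ≤ 2) (C : Type u) [AddCommGroup C] [Module R C] [Coalgebra R C] [Module.Projective R C]
    (F : Type u) [AddCommGroup F] [Module R F] [HopfRep.Comod R C F] [Module.Finite R F] :
    ∃ (V : Type u) (_ : AddCommGroup V) (_ : Module R V) (_ : HopfRep.Comod R C V) (φ : V →ₗ[R] F),
      Module.Finite R V ∧ Module.Projective R V ∧ Function.Surjective φ ∧ HopfRep.Comod.coact (k := R) (A := C) ∘ₗ φ = φ.rTensor C ∘ₗ HopfRep.Comod.coact (k := R) (A := C) (V := V) := by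
  haveI : Module.Flat R C := inferInstance
  obtain ⟨W₁, iW₁a, iW₁m, hW₁flat, cW₁, N₁, iN₁a, iN₁m, cN₁, hN₁fin, ι₁, τ₁, hι₁inj, hι₁hom,
    hsurj₁, hcomm₁⟩ := Groth.Agent.R2.H19.ComodRes.exists_cover (R := R) (C := C) F
  obtain ⟨W₂, iW₂a, iW₂m, hW₂flat, cW₂, N₂, iN₂a, iN₂m, cN₂, hN₂fin, ι₂, τ₂, hι₂inj, hι₂hom,
    hsurj₂, hcomm₂⟩ := Groth.Agent.R2.H19.ComodRes.exists_cover (R := R) (C := C) N₁
  haveI : Module.FinitePresentation R N₂ := Module.finitePresentation_of_finite R N₂
  haveI : Module.Finite R (Module.Dual R N₂) := inferInstance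
  haveI hproj : Module.Projective R (Module.Dual R (Module.Dual R N₂)) :=
    Groth.Agent.R2.H19.DualProj.projective_dual (Module.Dual R N₂) hdim
  haveI : Module.Flat R (Module.Dual R (Module.Dual R N₂)) := inferInstance
  haveI hfinP : Module.Finite R (Module.Dual R (Module.Dual R N₂)) := inferInstance
  obtain ⟨φ₂, hφ₂hom, hφ₂⟩ := Groth.Agent.R2.H19.ComodRes.exists_hull_hom (C := C) N₂ ι₁ hι₁inj
    τ₂ ι₂ hι₂hom hcomm₂
  have hhom₁ : Hoch.IsComodHom C (τ₁ ∘ₗ ι₁) := by
    apply LinearMap.ext
    intro x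
    have h1 : cW₁.coact (ι₁ x) = ι₁.rTensor C (cN₁.coact x) := LinearMap.congr_fun hι₁hom x
    simp only [LinearMap.comp_apply]
    rw [LinearMap.rTensor_comp, LinearMap.comp_apply, ← h1]
    exact hcomm₁ x
  letI cP : HopfRep.Comod R C (Module.Dual R (Module.Dual R N₂)) :=
    Groth.Agent.R2.H19.ComodHull.hullComod (C := C) N₂
  refine ⟨Module.Dual R (Module.Dual R N₂), inferInstance, inferInstance, cP,
    (τ₁ ∘ₗ ι₁) ∘ₗ φ₂, hfinP, hproj, ?_, ?_⟩
  · have hφ₂surj : Function.Surjective φ₂ := by
      intro y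
      obtain ⟨x, hx⟩ := hsurj₂ y
      refine ⟨Module.Dual.eval R N₂ x, ?_⟩
      have := LinearMap.congr_fun hφ₂ x
      rw [LinearMap.comp_apply] at this
      rw [this]
      exact hx
    exact hsurj₁.comp hφ₂surj
  · exact Groth.Agent.Lib.Helper25.isComodHom_comp (k := R) (A := C) hφ₂hom hhom₁

end Groth.Agent.S6082
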