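import Groth.Statements.S6083
import Groth.Agent.R2.H19UnivOpenQF
import Groth.Agent.Lib.Helper6OpenDimE

set_option autoImplicit false
universe u
open CategoryTheory CategoryTheory.Limits MonoidalCategory CartesianMonoidalCategory MonObj GrpObj AlgebraicGeometry
open SGA3

namespace Groth.Agent.S6083

open Groth.Agent.Lib.Helper4.DimFormula Topology


/-- Let f : X → S be a morphism locally of finite presentation, s a point of S, x a point of the fibre
X_s = f⁻¹(s), n the local dimension of X_s at x, q : 𝔸^n_S → S the affine n-space over S and u : X →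
𝔸^n_S a locally quasi-finite morphism with u q = f. Suppose that f is universally open at the
generic point z of an irreducible component Z of X_s which contains x and has dimension n. Then u is
universally open at x. -/
theorem result (X S : Scheme.{u}) (f : X ⟶ S) [LocallyOfFinitePresentation f]
    (s : S) (x : X) (hxs : f.base x = s) (n : ℕ)
    (u : X ⟶ 𝔸(ULift.{u} (Fin n); S)) [LocallyQuasiFinite u] (hu : u ≫ (𝔸(ULift.{u} (Fin n); S) ↘ S) = f)
    (Z : Set ↥(f.base ⁻¹' {s})) (hZ : Z ∈ irreducibleComponents ↥(f.base ⁻¹' {s})) (hxZ : x ∈ (Subtype.val '' Z))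
    (z : X) (hz : z ∈ Subtype.val '' Z ∧ Subtype.val '' Z ⊆ closure {z}) (hopen : EGA43.IsUnivOpenAt f z)
    (hdimZ : topologicalKrullDim ↥Z = n) (hdimx : FlatMor.localDim ↥(f.base ⁻¹' {s}) ⟨x, hxs⟩ = n) :
    EGA43.IsUnivOpenAt u x := by
  classical
  haveI hlft : LocallyOfFiniteType f := inferInstance
  -- basic facts on `z`
  have hzs : f.base z = s := by
    obtain ⟨w, -, hw⟩ := hz.1
    rw [← hw]; exact w.2
  have hzx : z ⤳ x := specializes_iff_mem_closure.mpr (hz.2 hxZ)
  have hn : n ≤ ptTrdeg f z := by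
    have h1 := Groth.Agent.Lib.Helper6.OpenDim.topologicalKrullDim_closure_inter_fibre f z
    have hmem : ∀ w : ↥Z, (w.1.1 : X) ∈ closure {z} ∩ f.base ⁻¹' {f.base z} := by
      intro w
      refine ⟨hz.2 ⟨w.1, w.2, rfl⟩, ?_⟩
      show f.base w.1.1 = f.base z
      rw [hzs]; exact w.1.2
    let Ψ : ↥Z → ↥(closure {z} ∩ f.base ⁻¹' {f.base z}) := fun w => ⟨w.1.1, hmem w⟩
    have hΨ : IsInducing Ψ := by
      apply Groth.Agent.Lib.Helper7.TopDim.isInducing_of_comp_eq Ψ
        (fun w => (w.1.1 : X)) Subtype.val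
      · exact IsInducing.subtypeVal.comp IsInducing.subtypeVal
      · exact IsInducing.subtypeVal
      · rfl
    have h2 := hΨ.topologicalKrullDim_le
    rw [h1, hdimZ] at h2
    exact_mod_cast h2
  -- reduction to lifting generizations
  intro T g x' hx'
  haveI hlfpu : LocallyOfFinitePresentation u :=
    Groth.Agent.Lib.Helper6.locallyOfFinitePresentation_of_comp
      (g := 𝔸(ULift.{u} (Fin n); S) ↘ S) inferInstance (by rw [hu]; infer_instance)
  rw [(Groth.Agent.S3404.result (pullback.snd u g) x').2 inferInstance]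
  intro t' ht'
  obtain ⟨A, h, h0, hK⟩ := Groth.Agent.Lib.Helper6.ValRing.exists_valuationRing_of_specializes ht'
  have hηs : h.base (genericPoint (Spec (CommRingCat.of A))) = t' :=
    Groth.Agent.R2.H19.UnivOpenQF.map_genericPoint_eq A h hK
  set gA : Spec (CommRingCat.of A) ⟶ 𝔸(ULift.{u} (Fin n); S) := h ≫ g with hgA
  let θ : pullback u gA ⟶ pullback u g :=
    pullback.lift (pullback.fst u gA) (pullback.snd u gA ≫ h)
      (by rw [pullback.condition, Category.assoc])
  have hθ1 : θ ≫ pullback.fst u g = pullback.fst u gA := pullback.lift_fst _ _ _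
  have hθ2 : θ ≫ pullback.snd u g = pullback.snd u gA ≫ h := pullback.lift_snd _ _ _
  have sqθ : IsPullback θ (pullback.snd u gA) (pullback.snd u g) h := by
    refine IsPullback.of_right ?_ hθ2 (IsPullback.of_hasPullback u g)
    rw [hθ1]
    exact IsPullback.of_hasPullback u gA
  obtain ⟨y, hy1, hy2⟩ := Groth.Agent.Lib.Helper26.UnivOpenAt.exists_preimage_of_isPullback sqθ x'
    (IsLocalRing.closedPoint A) (by rw [h0])
  have hfstx : (pullback.fst u gA).base y = x := by
    rw [← hθ1, Scheme.Hom.comp_apply, hy1, hx']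
  obtain ⟨y', hy'sp, hy'gen⟩ :=
    Groth.Agent.R2.H19.UnivOpenQF.exists_generization_over_generic A f n u hu gA y hy2 z
      (by rw [hfstx]; exact hzx) (by rw [hfstx, hzs, hxs]) hopen hn
  refine ⟨θ.base y', ?_, ?_⟩
  · rw [← hy1]; exact hy'sp.map θ.continuous
  · rw [← Scheme.Hom.comp_apply, hθ2, Scheme.Hom.comp_apply, hy'gen, hηs]

end Groth.Agent.S6083
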