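import Groth.Statements.S6119
import Groth.Agent.R2.H27FppfPts

set_option autoImplicit false
open CategoryTheory MonoidalCategory CartesianMonoidalCategory MonObj GrpObj AlgebraicGeometry
universe u
open RedSub

namespace Groth.Agent.S6119

open Groth.Agent.R2.H27.FppfPts

/-- The identification G/H ≅ corad(G)/corad(H): let G be a reductive S-group, d : D ⟶ G its derived
group and f₀ : G ⟶ C its coradical (C commutative, D = Ker f₀, f₀ the fppf quotient G/D, D killed by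
every homomorphism to a commutative S-group scheme). Let t : T'' ⟶ C be a subtorus, H = G x_C T''
its preimage under f₀ (with projections k : H ⟶ G and g : H ⟶ T''), and q : G ⟶ Q the fppf quotient
of G by H. Then q factors uniquely as f₀ followed by q' : C ⟶ Q, and q' exhibits Q as the fppf
quotient of C by T''. -/
theorem result {S : Scheme.{u}} {G D C T'' H Q : Over S} [GrpObj G] [GrpObj D]
    [GrpObj C] [GrpObj T''] [GrpObj H] (hG : Red.IsReductive G) (d : D ⟶ G) [IsMonHom d]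
    (f₀ : G ⟶ C) [IsMonHom f₀] (hC : ∀ (X : Over S) (a b : X ⟶ C), a * b = b * a) (hker : AlgGrp.IsKernel d f₀)
    (hquot : RedSub.IsQuotient d f₀) (hkill : RedSub.KilledByCommutative d)
    (t : T'' ⟶ C) [IsMonHom t] [Mono t] (hT'' : Red.IsTorus T'') (k : H ⟶ G) [IsMonHom k] (g : H ⟶ T'') [IsMonHom g]
    (hsq : IsPullback k g f₀ t) (q : G ⟶ Q) (hq : RedSub.IsQuotient k q) :
    ∃! q' : C ⟶ Q, f₀ ≫ q' = q ∧ RedSub.IsQuotient t q' := by
  have hf₀ : Fppf f₀ := Fppf.of_isQuotient hquot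
  have hqc : Fppf q := Fppf.of_isQuotient hq
  have hg : Fppf g := Fppf.of_isPullback hsq.flip hf₀
  have hepi : Epi f₀ := hf₀.epi
  obtain ⟨hf₀w, hf₀u⟩ := (isPullback_quot_iff d f₀).1 hquot.2.2.2
  obtain ⟨hqw, hqu⟩ := (isPullback_quot_iff k q).1 hq.2.2.2
  -- `d` factors through `k`
  have hd : ∃ d' : D ⟶ H, d' ≫ k = d := by
    refine ⟨hsq.lift d (toUnit D ≫ η[T'']) ?_, hsq.lift_fst _ _ _⟩
    rw [hker.w, Category.assoc, IsMonHom.one_hom]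
  obtain ⟨d', hd'⟩ := hd
  -- `q` descends along `f₀`
  have hdesc : ∃ q' : C ⟶ Q, f₀ ≫ q' = q := by
    have := hf₀.effectiveEpi
    refine Groth.Agent.Lib.Helper12.exists_desc_of_isPullback f₀ hquot.2.2.2 q ?_
    have h1 : fst G D = lift (fst G D) (snd G D ≫ d') ≫ fst G H := by simp
    have h2 : (G ◁ d) ≫ μ[G] = lift (fst G D) (snd G D ≫ d') ≫ (G ◁ k) ≫ μ[G] := by
      rw [Groth.Agent.Lib.Helper12.QuotGrp.lift_act, Category.assoc, hd',
        ← Groth.Agent.Lib.Helper12.QuotGrp.lift_act]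
      simp
    have hw := hq.2.2.2.w
    calc fst G D ≫ q = lift (fst G D) (snd G D ≫ d') ≫ fst G H ≫ q := by rw [lift_fst_assoc]
      _ = lift (fst G D) (snd G D ≫ d') ≫ ((G ◁ k) ≫ μ[G]) ≫ q := by rw [hw]
      _ = ((G ◁ d) ≫ μ[G]) ≫ q := by rw [h2]; simp only [Category.assoc]
  obtain ⟨q', hq'⟩ := hdesc
  have hq'f : Fppf q' := Fppf.of_comp hf₀ (hq' ▸ hqc)
  refine ⟨q', ⟨hq', hq'f.surj, hq'f.flat, hq'f.lfp, ?_⟩, fun y hy => ?_⟩
  · rw [isPullback_quot_iff]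
    refine ⟨fun T a τ => ?_, fun T a b hab => ?_⟩
    · -- invariance
      obtain ⟨T₁, π₁, a₁, hπ₁, ha₁⟩ := hf₀.exists_lift a
      obtain ⟨T₂, π₂, h₂, hπ₂, hh₂⟩ := hg.exists_lift (π₁ ≫ τ)
      have hπ : Epi (π₂ ≫ π₁) := (hπ₂.comp hπ₁).epi
      rw [← cancel_epi (π₂ ≫ π₁)]
      have e1 : (π₂ ≫ π₁) ≫ a = (π₂ ≫ a₁) ≫ f₀ := by
        rw [Category.assoc, ha₁, Category.assoc]
      have e2 : (π₂ ≫ π₁) ≫ τ ≫ t = (h₂ ≫ k) ≫ f₀ := by
        rw [Category.assoc, ← Category.assoc π₁, ← Category.assoc π₂, hh₂, Category.assoc,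
          Category.assoc, hsq.w]
      calc (π₂ ≫ π₁) ≫ (a * (τ ≫ t)) ≫ q'
          = (((π₂ ≫ π₁) ≫ a) * ((π₂ ≫ π₁) ≫ τ ≫ t)) ≫ q' := by
            rw [← Category.assoc, MonObj.comp_mul]
        _ = ((π₂ ≫ a₁) * (h₂ ≫ k)) ≫ f₀ ≫ q' := by
            rw [e1, e2, ← MonObj.mul_comp, Category.assoc]
        _ = (π₂ ≫ a₁) ≫ f₀ ≫ q' := by rw [hq', hqw]
        _ = (π₂ ≫ π₁) ≫ a ≫ q' := by
            rw [← Category.assoc (π₂ ≫ a₁) f₀ q', ← e1, Category.assoc (π₂ ≫ π₁) a q']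
    · -- existence and uniqueness
      have huniq : ∀ τ₁ τ₂ : T ⟶ T'', a * (τ₁ ≫ t) = b → a * (τ₂ ≫ t) = b → τ₁ = τ₂ := by
        intro τ₁ τ₂ h1 h2
        rw [← cancel_mono t]
        exact mul_left_cancel (h1.trans h2.symm)
      obtain ⟨T₁, π₁, a₁, hπ₁, ha₁⟩ := hf₀.exists_lift a
      obtain ⟨T₂, π₂, b₂, hπ₂, hb₂⟩ := hf₀.exists_lift (π₁ ≫ b)
      have hπ := hπ₂.comp hπ₁
      have e1 : (π₂ ≫ π₁) ≫ a = (π₂ ≫ a₁) ≫ f₀ := by
        rw [Category.assoc, ha₁, Category.assoc]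
      have e2 : (π₂ ≫ π₁) ≫ b = b₂ ≫ f₀ := by
        rw [Category.assoc, hb₂]
      have e3 : (π₂ ≫ a₁) ≫ q = b₂ ≫ q := by
        calc (π₂ ≫ a₁) ≫ q = ((π₂ ≫ a₁) ≫ f₀) ≫ q' := by
              rw [Category.assoc (π₂ ≫ a₁) f₀ q', hq']
          _ = ((π₂ ≫ π₁) ≫ b) ≫ q' := by
              rw [← e1, Category.assoc (π₂ ≫ π₁) a q', hab, ← Category.assoc (π₂ ≫ π₁) b q']
          _ = b₂ ≫ q := by rw [e2, Category.assoc b₂ f₀ q', hq']
      obtain ⟨h, hh, -⟩ := hqu _ _ _ e3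
      have e4 : (h ≫ g) ≫ t = (π₂ ≫ π₁) ≫ (a⁻¹ * b) := by
        rw [MonObj.comp_mul, GrpObj.comp_inv, e1, e2, ← hh, MonObj.mul_comp, ← _root_.mul_assoc,
          inv_mul_cancel, _root_.one_mul, Category.assoc, Category.assoc, hsq.w]
      obtain ⟨τ, hτ⟩ := hπ.exists_factor_of_mono t (a⁻¹ * b) (h ≫ g) e4
      refine ⟨τ, ?_, fun τ' hτ' => huniq _ _ hτ' ?_⟩
      · change a * (τ ≫ t) = b
        rw [hτ, ← _root_.mul_assoc, mul_inv_cancel, _root_.one_mul]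
      · rw [hτ, ← _root_.mul_assoc, mul_inv_cancel, _root_.one_mul]
  · rw [← cancel_epi f₀, hy.1, hq']

end Groth.Agent.S6119
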