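import Groth.Statements.S6179
import Groth.Agent.R2.H1HensSection

set_option autoImplicit false
open CategoryTheory CategoryTheory.Limits AlgebraicGeometry Opposite
universe u
open EtDesc

namespace Groth.Agent.S6179

open Groth.Agent.R2.H1.HensSection in
set_option backward.isDefEq.respectTransparency.types false in
/-- Let R be a strictly henselian local ring, X = Spec R and x̄ : Spec κ(R) -> X the closed geometric
point. For every etale sheaf of sets F on X the canonical map Γ(X, F) -> F_x̄ into the stalk (the
colimit of F(X') over the x̄-pointed etale X-schemes X', taken at X' = X) is bijective; in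
particular the global-sections functor is isomorphic to the fibre functor at x̄ and commutes with
all colimits. -/
theorem result (R : Type u) [CommRing R]
    [HenselianLocalRing R] [IsSepClosed (IsLocalRing.ResidueField R)]
    (F : EtDesc.Sh (Spec (CommRingCat.of R))) :
    Function.Bijective ((Scheme.pointSmallEtale
      (Spec.map (CommRingCat.ofHom (IsLocalRing.residue R)))).toPresheafFiber (A := Type (u + 1))
        (EtCoh.top (Spec (CommRingCat.of R)))
        (Over.homMk (Spec.map (CommRingCat.ofHom (IsLocalRing.residue R))) (Category.comp_id _)) F.obj) := by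
  let Φ := Scheme.pointSmallEtale (closedPt R)
  let T := EtCoh.top (Spec (CommRingCat.of R))
  constructor
  · intro z₁ z₂ h
    obtain ⟨Y, f, y, -, hf⟩ := (Φ.toPresheafFiber_eq_iff' (A := Type (u + 1)) (P := F.obj) T (closedFib R) z₁ z₂).mp h
    obtain ⟨σ, -⟩ := exists_section_fib Y y
    have hσ : σ ≫ f = 𝟙 T := (EtCore.topIsTerminal _).hom_ext _ _
    have e : ∀ z : ToType (F.obj.obj (op T)), F.obj.map σ.op (F.obj.map f.op z) = z := by
      intro z
      rw [← ConcreteCategory.comp_apply, ← Functor.map_comp, ← op_comp, hσ, op_id,
        CategoryTheory.Functor.map_id]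
      rfl
    rw [← e z₁, hf, e z₂]
  · intro p
    obtain ⟨Y, y, z, rfl⟩ := Φ.toPresheafFiber_jointly_surjective (P := F.obj) p
    obtain ⟨σ, hσ⟩ := exists_section_fib Y y
    refine ⟨F.obj.map σ.op z, ?_⟩
    rw [Φ.toPresheafFiber_w_apply, hσ]

end Groth.Agent.S6179
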