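import Groth.Statements.S6181
import Groth.Agent.R2.H13FinStalk

set_option autoImplicit false
open CategoryTheory CategoryTheory.Limits AlgebraicGeometry Opposite
universe u
open EtDesc

namespace Groth.Agent.S6181

/-- Let f : X -> Y be a finite morphism of schemes, Ω an algebraically closed field and η : Spec Ω -> Y
a geometric point. The functor F ↦ (f_* F)_η on etale sheaves of sets on X is isomorphic to the
product, over the geometric points ξ : Spec Ω -> X lying over η, of the fibre functors F ↦ F_ξ. (The
published statement gives a canonical isomorphism and indexes the product by the points of the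
geometric fibre over a separable closure of the residue field; this row asserts only that an
isomorphism of functors exists and indexes the product by the Ω-valued points of X over η, which for
Ω algebraically closed correspond to those points.) -/
theorem result {X Y : Scheme.{u}} (f : X ⟶ Y) [IsFinite f]
    {Ω : Type u} [Field Ω] [IsAlgClosed Ω] (η : Spec (CommRingCat.of Ω) ⟶ Y) :
    Nonempty (EtDesc.pushSh f ⋙ (Scheme.pointSmallEtale η).sheafFiber (A := Type (u + 1)) ≅
      ∏ᶜ fun ξ : {ξ : Spec (CommRingCat.of Ω) ⟶ X // ξ ≫ f = η} =>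
        ((Scheme.pointSmallEtale ξ.1).sheafFiber (A := Type (u + 1)) : EtDesc.Sh X ⥤ Type (u + 1))) := by
  classical
  let R : {ξ : Spec (CommRingCat.of Ω) ⟶ X // ξ ≫ f = η} → (EtDesc.Sh X ⥤ Type (u + 1)) :=
    fun ξ => (Scheme.pointSmallEtale ξ.1).sheafFiber (A := Type (u + 1))
  let L : EtDesc.Sh X ⥤ Type (u + 1) :=
    EtDesc.pushSh f ⋙ (Scheme.pointSmallEtale η).sheafFiber (A := Type (u + 1))
  let π : ∀ ξ, L ⟶ R ξ := fun ξ =>
    { app := fun F => Groth.Agent.R2.H13.FinStalk.can f η ξ.1 ξ.2 F.obj
      naturality := fun F G φ =>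
        Groth.Agent.R2.H13.FinStalk.can_naturality f η ξ.1 ξ.2 φ.hom }
  have hsh : ∀ F : EtDesc.Sh X,
      Presieve.IsSheaf X.smallEtaleTopology (F.obj ⋙ forget (Type (u + 1))) := by
    intro F
    rw [← isSheaf_iff_isSheaf_of_type]
    exact ((sheafCompose X.smallEtaleTopology (forget (Type (u + 1)))).obj F).2
  have hlim : IsLimit (Fan.mk L π) := by
    apply evaluationJointlyReflectsLimits
    intro F
    refine ((Types.isLimit_iff _).2 ?_).some
    intro s _
    obtain ⟨a, ha⟩ := Groth.Agent.R2.H13.FinStalk.can_surjective f η F.obj (hsh F)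
      (fun ξ => s ⟨ξ⟩)
    refine ⟨a, fun j => ha j.as, ?_⟩
    intro b hb
    apply Groth.Agent.R2.H13.FinStalk.can_injective f η F.obj (hsh F).isSeparated
    intro ζ hζ
    exact (hb ⟨⟨ζ, hζ⟩⟩).trans (ha ⟨ζ, hζ⟩).symm
  exact ⟨hlim.conePointUniqueUpToIso (limit.isLimit _)⟩

end Groth.Agent.S6181
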