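import Groth.Statements.S6191
import Groth.Agent.R2.H27TorComp
import Groth.Agent.R2.H27PushStalk

set_option autoImplicit false
universe u
open CategoryTheory CategoryTheory.Limits AlgebraicGeometry
attribute [local instance] HasDerivedCategory.standard
open KSix

namespace Groth.Agent.S6191

/-- Let i : X ⟶ X' be a closed immersion, f' : X' ⟶ Y smooth, f = i ≫ f', and F a cochain complex of
O_X-modules whose termwise direct image i_* F has tor amplitude in [a, b] in the absolute sense on
X' (it is isomorphic in D(O_X') to a complex of flat O_X'-modules placed in [a, b]). Then F has tor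
amplitude in [a, b] relative to f (stalkwise flat models placed in [a, b] over the local rings of
Y). -/
theorem result {X X' Y : Scheme.{u}} (i : X ⟶ X') [IsClosedImmersion i]
    (f' : X' ⟶ Y) [Smooth f'] (F : CochainComplex X.Modules ℤ) (a b : ℤ)
    (hF : DCoh.HasFlatAmplitudeIn a b (DCoh.toD X' (((Scheme.Modules.pushforward i).mapHomologicalComplex (ComplexShape.up ℤ)).obj F))) :
    DerSch.HasTorAmplitude (i ≫ f') a b F := by
  intro x
  have hi : Topology.IsInducing i.base := i.isClosedEmbedding.isInducing
  -- tor amplitude of `F` at `x` relative to `i`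
  have h1 : DerSch.HasTorAmplitudeAt i a b F x :=
    Groth.Agent.Lib.Helper1.Tor.hasTorAmp_of_iso
      (DerivedCategory.Q.mapIso (Groth.Agent.R2.H27.PushStalk.pushStalkCxIso i hi x F))
      (Groth.Agent.R2.H27.PushStalk.hasTorAmp_stalk_of_hasFlatAmplitudeIn _ a b hF (i.base x))
  -- `f'` is flat, so `O_{X', i x}` has tor dimension `0` over the local ring of `Y`
  have hflat : DerSch.HasTorAmplitudeAt f' (-((0 : ℕ) : ℤ)) 0 (DerSch.unitCx X') (i.base x) := by
    letI := (f'.stalkMap (i.base x)).hom.toAlgebra
    have hfl : Module.Flat (Y.presheaf.stalk (f'.base (i.base x))) (X'.presheaf.stalk (i.base x)) :=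
      AlgebraicGeometry.Flat.stalkMap f' (i.base x)
    exact Groth.Agent.Lib.Helper1.Tor.hasTorAmp_of_iso
      (Groth.Agent.R2.H27.TorComp.toDUnitIso f' (i.base x)).symm
      ((Groth.Agent.Lib.Helper1.TorDim.hasTorDimLE_iff_hasTorAmp _ 0).1
        ((Groth.Agent.Lib.Helper1.TorDim.hasTorDimLE_zero_iff_flat _).2 hfl))
  have h2 := Groth.Agent.R2.H27.TorComp.hasTorAmplitudeAt_comp i f' 0 x hflat F a b h1
  simpa using h2

end Groth.Agent.S6191
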