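import Groth.Statements.S6200
import Groth.Agent.R2.H27FlatAmp

set_option autoImplicit false
universe u
open CategoryTheory CategoryTheory.Limits AlgebraicGeometry
attribute [local instance] HasDerivedCategory.standard
open KSix

namespace Groth.Agent.S6200

/-- restriction of scalars along the identity does not change tor amplitude -/
theorem hasTorAmp_restrict_id {A : Type u} [CommRing A] (φ : A →+* A) (hφ : φ = RingHom.id A)
    (K : DRing.Cx A) (a b : ℤ) :
    DRing.HasTorAmplitudeIn A a b (DRing.toD ((DRing.restrictCx φ).obj K)) ↔
      DRing.HasTorAmplitudeIn A a b (DRing.toD K) := by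
  have e : (DRing.restrictCx φ).obj K ≅ K :=
    (NatIso.mapHomologicalComplex (ModuleCat.restrictScalarsId' φ hφ) (ComplexShape.up ℤ)).app K ≪≫
      (Functor.mapHomologicalComplexIdIso _ _).app K
  exact ⟨Groth.Agent.Lib.Helper1.Tor.hasTorAmp_of_iso (DerivedCategory.Q.mapIso e),
    Groth.Agent.Lib.Helper1.Tor.hasTorAmp_of_iso (DerivedCategory.Q.mapIso e.symm)⟩

/-- tor amplitude relative to the identity is tor amplitude of the complex of stalks -/
theorem hasTorAmplitudeAt_id_iff {X : Scheme.{u}} (F : CochainComplex X.Modules ℤ) (a b : ℤ) (x : X) :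
    DerSch.HasTorAmplitudeAt (𝟙 X) a b F x ↔
      DRing.HasTorAmplitudeIn (X.presheaf.stalk x) a b
        (DRing.toD (((DerSch.stalkFunctor X x).mapHomologicalComplex (ComplexShape.up ℤ)).obj F)) := by
  change DRing.HasTorAmplitudeIn (X.presheaf.stalk x) a b
    (DRing.toD ((DRing.restrictCx ((𝟙 X : X ⟶ X).stalkMap x).hom).obj
      (((DerSch.stalkFunctor X x).mapHomologicalComplex (ComplexShape.up ℤ)).obj F))) ↔ _
  exact hasTorAmp_restrict_id _ (by rw [Scheme.Hom.stalkMap_id]; rfl) _ a b

/-- For the identity morphism of a scheme: let X be a scheme and E ∈ D⁻(O_X) be given by a cochain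
complex F. Then E has tor amplitude in [a, b] in the absolute sense (it is isomorphic in D(O_X) to a
complex of flat O_X-modules placed in [a, b]) if and only if at every point x the complex of stalks
F_x has tor amplitude in [a, b] over the local ring of X at x (tor amplitude relative to the
identity of X, stalkwise form). (The published statement is for a morphism of ringed topoi with
enough points and tor amplitude over the inverse image of the structure sheaf of the base; this row
is the case of the identity of a scheme.) -/
theorem result {X : Scheme.{u}} (F : CochainComplex X.Modules ℤ) (d : ℤ)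
    [(DCoh.toD X F).IsLE d] (a b : ℤ) :
    DCoh.HasFlatAmplitudeIn a b (DCoh.toD X F) ↔ DerSch.HasTorAmplitude (𝟙 X) a b F := by
  constructor
  · intro h x
    exact (hasTorAmplitudeAt_id_iff F a b x).2
      (Groth.Agent.R2.H27.PushStalk.hasTorAmp_stalk_of_hasFlatAmplitudeIn F a b h x)
  · intro h
    exact Groth.Agent.R2.H27.FlatAmp.hasFlatAmplitudeIn_of_stalkTorAmp F a b
      (fun x => (hasTorAmplitudeAt_id_iff F a b x).1 (h x))

end Groth.Agent.S6200
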