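import Groth.Statements.S6463
import Mathlib

set_option autoImplicit false
universe u
open CategoryTheory CategoryTheory.Limits AlgebraicGeometry
open PicF

namespace Groth.Agent.S6463

/-- For a field k and a smooth projective curve X over k that has a k-rational point σ, the conditions
under which the Picard functor is computed through the section are met: f : X → Spec k is flat,
proper and of finite presentation with a section, and O_T → f_{T,*} O_{X_T} is an isomorphism for
every scheme T over k. Only the last assertion is stated (the others are part of the hypotheses or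
immediate): for every t : T → Spec k, the sheaf map of the base change X ×_k T → T is an
isomorphism. Proper replaces projective (they agree for curves over a field). -/
theorem result (k : Type u) [Field k] (X : Scheme.{u}) (f : X ⟶ Spec (CommRingCat.of k)) (hX : Curve.IsSmoothProperCurve k X f) (σ : Spec (CommRingCat.of k) ⟶ X) (hσ : σ ≫ f = 𝟙 (Spec (CommRingCat.of k))) (T : Scheme.{u}) (t : T ⟶ Spec (CommRingCat.of k)) : IsIso (pullback.snd f t).c := by
  obtain ⟨hproper, hsmooth, hint, hdim⟩ := hX
  haveI := hproper
  haveI := hint
  -- Step 1: `f.appTop` is an isomorphism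
  have hfield : IsField Γ(X, ⊤) := isField_of_universallyClosed k f
  have h1 : f.appTop ≫ σ.appTop = 𝟙 _ := by
    rw [← Scheme.Hom.comp_appTop, hσ]
    rfl
  have hiso : IsIso f.appTop := by
    letI := hfield.toField
    have hinj : Function.Injective σ.appTop.hom := σ.appTop.hom.injective
    have h2 : σ.appTop ≫ f.appTop = 𝟙 _ := by
      ext x
      apply hinj
      have := congr($(h1).hom (σ.appTop.hom x))
      simpa using this
    exact ⟨σ.appTop, h1, h2⟩
  -- Step 2: isomorphism on affine opens of `T`
  have H : IsPullback (pullback.fst f t) (pullback.snd f t) f t := IsPullback.of_hasPullback f t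
  haveI : CompactSpace X := (quasiCompact_iff_compactSpace f).mp inferInstance
  haveI : QuasiSeparatedSpace X := (quasiSeparated_iff_quasiSeparatedSpace f).mp inferInstance
  have key : ∀ V : T.affineOpens, IsIso ((pullback.snd f t).app V.1) := by
    intro V
    have hUST : V.1 ≤ t ⁻¹ᵁ ⊤ := le_top
    have hUSX : (⊤ : X.Opens) ≤ f ⁻¹ᵁ ⊤ := le_top
    have hUY : (pullback.snd f t) ⁻¹ᵁ V.1 = (pullback.fst f t) ⁻¹ᵁ ⊤ ⊓ (pullback.snd f t) ⁻¹ᵁ V.1 := by
      simp
    have h3 := isIso_pushoutSection_of_isQuasiSeparated_of_flat_right H hUST hUSX hUY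
      (isAffineOpen_top _) V.2 isCompact_univ isQuasiSeparated_univ
    haveI : IsIso (f.appLE ⊤ ⊤ hUSX) := by
      unfold Scheme.Hom.appLE
      haveI : IsIso (f.app ⊤) := hiso
      haveI : IsIso (homOfLE hUSX) :=
        ⟨homOfLE le_top, Subsingleton.elim _ _, Subsingleton.elim _ _⟩
      infer_instance
    have h5 : (pullback.snd f t).app V.1 =
        pushout.inr (f.appLE ⊤ ⊤ hUSX) (t.appLE ⊤ V.1 hUST) ≫
          pushoutSection H hUST hUSX hUY := by
      rw [Scheme.Hom.app_eq_appLE]
      exact (pushout.inr_desc _ _ _).symm
    rw [h5]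
    infer_instance
  -- Step 3: a morphism of sheaves that is an isomorphism on a basis is an isomorphism
  let g := pullback.snd f t
  let F : TopCat.Sheaf CommRingCat T := T.sheaf
  let G : TopCat.Sheaf CommRingCat T :=
    ⟨g.base _* (pullback f t).presheaf,
      TopCat.Sheaf.pushforward_sheaf_of_sheaf g.base (pullback f t).IsSheaf⟩
  let φ : F ⟶ G := ⟨g.c⟩
  have hB : TopologicalSpace.Opens.IsBasis (Set.range (Subtype.val : T.affineOpens → T.Opens)) := by
    rw [Subtype.range_coe]
    exact T.isBasis_affineOpens
  have hφ : IsIso φ := TopCat.Sheaf.isIso_iff_isIso_basis hB (fun V => key V)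
  exact inferInstanceAs (IsIso ((TopCat.Sheaf.forget _ _).map φ))

end Groth.Agent.S6463
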