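import Groth.Statements.S6477
-- import your own Groth.Agent.* helpers here
import Mathlib
import Groth.Agent.R2.H9ShiftBound
import Groth.Agent.R2.H9PullStalk

set_option autoImplicit false
universe u
open CategoryTheory AlgebraicGeometry
open CategoryTheory.Limits
open Cyc

namespace Groth.Agent.S6477

/-- Let F be a coherent O_X-module with dim_δ Supp(F) ≤ k and F' = p^*F its base change to X'. Then
dim_{δ'} Supp(F') ≤ k + c and g^*[F]_k = [F']_{k+c} in Z_{k+c}(X') (coefficientwise; support bounds
through nontrivial stalks). Setting: p : X' → X is flat (not necessarily of finite type), (X, δ) and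
(X', δ') satisfy Cyc.IsSetup, and δ'(x') = δ(p x') + c whenever x' is maximal under generalization
inside its fibre p⁻¹(p x'); g^* : Z_k(X) → Z_{k+c}(X') is the coefficientwise flat pullback
Cyc.pullFun p δ' δ c. (The published statement takes X′ = X ×_S S′ for a flat S′ → S and X locally
of finite type over S; this row allows any flat p : X′ → X with the shift condition. The published
statement also has a part for closed subschemes, which follows with [Z]_k = [O_Z]_k; this row does
not restate it.) -/
theorem result (X X' : Scheme.{u}) (p : X' ⟶ X) [Flat p] (δ : X → ℤ) (δ' : X' → ℤ) (hX : Cyc.IsSetup X δ) (hX' : Cyc.IsSetup X' δ') (c : ℤ) (hc : ∀ x' : X', (∀ y, p y = p x' → y ⤳ x' → y = x') → δ' x' = δ (p x') + c) (k : ℤ) (F : X.Modules) (hF : Coh.IsCoh F) (hdim : ∀ x : X, Nontrivial (F.presheaf.stalk x) → δ x ≤ k) : (∀ x' : X', Nontrivial (((Scheme.Modules.pullback p).obj F).presheaf.stalk x') → δ' x' ≤ k + c) ∧ Cyc.pullFun p δ' δ c (Cyc.sheafFun δ k F) = Cyc.sheafFun δ' (k + c) ((Scheme.Modules.pullback p).obj F) := by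
  classical
  have hbound := Groth.Agent.R2.H9.ShiftBound.delta_le_of_shift p δ δ' hX'.2.2 c hc
  have hsub : ∀ x : X', ¬ Nontrivial (F.presheaf.stalk (p x)) →
      Subsingleton (((Scheme.Modules.pullback p).obj F).presheaf.stalk x) := fun x h =>
    Groth.Agent.R2.H9.PullStalk.subsingleton_stalk_pullback p F x
      (not_nontrivial_iff_subsingleton.mp h)
  have hpart1 : ∀ x : X', Nontrivial (((Scheme.Modules.pullback p).obj F).presheaf.stalk x) →
      δ' x ≤ k + c := by
    intro x hx
    have hnt : Nontrivial (F.presheaf.stalk (p x)) := by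
      by_contra h
      have := hsub x h
      exact not_subsingleton _ ‹_›
    have h1 := hbound x
    have := hdim (p x) hnt
    omega
  refine ⟨hpart1, ?_⟩
  funext x
  have hBx := hbound x
  simp only [Cyc.pullFun, Cyc.sheafFun]
  by_cases h1 : δ' x = δ (p x) + c
  · by_cases h2 : δ (p x) = k
    · have h3 : δ' x = k + c := by omega
      rw [if_pos h1, if_pos h2, if_pos h3,
        Groth.Agent.R2.H9.PullStalk.length_stalk_pullback p F x (Flat.stalkMap p x),
        ENat.toNat_mul]
      push_cast
      rfl
    · have h3 : ¬ δ' x = k + c := by omega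
      rw [if_pos h1, if_neg h2, if_neg h3, zero_mul]
  · rw [if_neg h1]
    by_cases h3 : δ' x = k + c
    · rw [if_pos h3]
      have hnt : ¬ Nontrivial (F.presheaf.stalk (p x)) := by
        intro hnt
        have := hdim (p x) hnt
        omega
      have := hsub x hnt
      rw [Module.length_eq_zero]
      rfl
    · rw [if_neg h3]

end Groth.Agent.S6477
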