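import Groth.Statements.S6479
-- import your own Groth.Agent.* helpers here
import Mathlib
import Groth.Agent.R2.H9ShiftBound
import Groth.Agent.R2.H9FlatLen

set_option autoImplicit false
universe u
open CategoryTheory AlgebraicGeometry
open CategoryTheory.Limits
open Cyc

namespace Groth.Agent.S6479

/-- Let p : X' → X and p' : X'' → X' be flat with shifts c and c' on the dimension functions at generic
points of fibre components. Then the composite p' ≫ p has shift c + c' at generic points of its
fibre components, and g^* followed by (g')^* is (g ∘ g')^* on k-cycles: Cyc.pullFun (p' ≫ p) δ'' δ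
(c + c') α = Cyc.pullFun p' δ'' δ' c' (Cyc.pullFun p δ' δ c α). Setting: p : X' → X is flat (not
necessarily of finite type), (X, δ) and (X', δ') satisfy Cyc.IsSetup, and δ'(x') = δ(p x') + c
whenever x' is maximal under generalization inside its fibre p⁻¹(p x'); g^* : Z_k(X) → Z_{k+c}(X')
is the coefficientwise flat pullback Cyc.pullFun p δ' δ c. (The published statement takes both maps
to be base changes along flat S″ → S′ → S of one scheme locally of finite type over S, and has a
third part, the same composition on Chow groups, which follows; this row allows any two flat maps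
with the shift conditions.) -/
theorem result (X X' X'' : Scheme.{u}) (p : X' ⟶ X) (p' : X'' ⟶ X') [Flat p] [Flat p'] (δ : X → ℤ) (δ' : X' → ℤ) (δ'' : X'' → ℤ) (hX : Cyc.IsSetup X δ) (hX' : Cyc.IsSetup X' δ') (hX'' : Cyc.IsSetup X'' δ'') (c c' : ℤ) (hc : ∀ x' : X', (∀ y, p y = p x' → y ⤳ x' → y = x') → δ' x' = δ (p x') + c) (hc' : ∀ x'' : X'', (∀ y, p' y = p' x'' → y ⤳ x'' → y = x'') → δ'' x'' = δ' (p' x'') + c') (k : ℤ) (α : AlgebraicCycle X ℤ) (hα : α ∈ Cyc.Zk X δ k) : (∀ x'' : X'', (∀ y, (p' ≫ p) y = (p' ≫ p) x'' → y ⤳ x'' → y = x'') → δ'' x'' = δ ((p' ≫ p) x'') + (c + c')) ∧ Cyc.pullFun (p' ≫ p) δ'' δ (c + c') ⇑α = Cyc.pullFun p' δ'' δ' c' (Cyc.pullFun p δ' δ c ⇑α) := by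
  classical
  have hB := Groth.Agent.R2.H9.ShiftBound.delta_le_of_shift p δ δ' hX'.2.2 c hc
  have hB' := Groth.Agent.R2.H9.ShiftBound.delta_le_of_shift p' δ' δ'' hX''.2.2 c' hc'
  have hcomp : ∀ x : X'', (p' ≫ p) x = p (p' x) := fun _ => rfl
  refine ⟨?_, ?_⟩
  · intro x'' hmax
    have h1 : δ'' x'' = δ' (p' x'') + c' := by
      apply hc'
      intro y hy hyx
      apply hmax y _ hyx
      rw [hcomp, hcomp, hy]
    have h2 : δ' (p' x'') = δ (p (p' x'')) + c := by
      apply hc
      intro y' hy' hy'x
      obtain ⟨y'', hy''x, hy''⟩ := (Flat.generalizingMap p') hy'x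
      have h3 : y'' = x'' := by
        apply hmax y'' _ hy''x
        rw [hcomp, hcomp, hy'', hy']
      rw [← hy'', h3]
    rw [hcomp, h1, h2]
    ring
  · funext x
    have hBx := hB' x
    have hBpx := hB (p' x)
    simp only [Cyc.pullFun]
    by_cases h1 : δ'' x = δ' (p' x) + c'
    · by_cases h2 : δ' (p' x) = δ (p (p' x)) + c
      · have h3 : δ'' x = δ ((p' ≫ p) x) + (c + c') := by rw [hcomp]; omega
        rw [if_pos h1, if_pos h2, if_pos h3]
        have hflat : (p'.stalkMap x).hom.Flat := Flat.stalkMap p' x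
        have hlen := Groth.Agent.R2.H9.FlatLen.toNat_length_quot_map (p'.stalkMap x).hom hflat
          (Ideal.map (p.stalkMap (p' x)).hom
            (IsLocalRing.maximalIdeal (X.presheaf.stalk (p (p' x)))))
        have hmap : Ideal.map ((p' ≫ p).stalkMap x).hom
            (IsLocalRing.maximalIdeal (X.presheaf.stalk ((p' ≫ p) x))) =
            Ideal.map (p'.stalkMap x).hom (Ideal.map (p.stalkMap (p' x)).hom
              (IsLocalRing.maximalIdeal (X.presheaf.stalk (p (p' x))))) := by
          rw [Ideal.map_map, Scheme.Hom.stalkMap_comp]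
          rfl
        rw [hmap, hlen]
        push_cast
        have hα' : (α ((p' ≫ p) x) : ℤ) = α (p (p' x)) := rfl
        rw [hα']
        ring
      · have h3 : ¬ δ'' x = δ ((p' ≫ p) x) + (c + c') := by rw [hcomp]; omega
        rw [if_pos h1, if_neg h2, if_neg h3, zero_mul]
    · have h3 : ¬ δ'' x = δ ((p' ≫ p) x) + (c + c') := by rw [hcomp]; omega
      rw [if_neg h1, if_neg h3]

end Groth.Agent.S6479
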