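import Groth.Statements.S6482
import Mathlib

set_option autoImplicit false
universe u
open CategoryTheory AlgebraicGeometry
open CategoryTheory.Limits
open Cyc

namespace Groth.Agent.S6482

/-- Let f : Y → X be an envelope. Then f_* : Z_k(Y) → Z_k(X) is surjective, hence so is f_* : CH_k(Y) →
CH_k(X). An envelope is a proper, completely decomposed morphism (every point of the target has a
point over it with trivial residue field extension; this prelude's Cyc.IsCompletelyDecomposed). Here
a pair (X, δ) with Cyc.IsSetup plays the role of a scheme locally of finite type over the base (S,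
δ) (X locally Noetherian with universally catenary local rings, δ a dimension function), and
Cyc.DeltaCompat records that the dimension function upstairs is the induced one. -/
theorem result (X Y : Scheme.{u}) (δ : X → ℤ) (δY : Y → ℤ) (hX : Cyc.IsSetup X δ) (hY : Cyc.IsSetup Y δY) (f : Y ⟶ X) [IsProper f] (hcd : Cyc.IsCompletelyDecomposed f) (hδ : Cyc.DeltaCompat f δY δ) (k : ℤ) (α : AlgebraicCycle X ℤ) (hα : α ∈ Cyc.Zk X δ k) : ∃ β : AlgebraicCycle Y ℤ, β ∈ Cyc.Zk Y δY k ∧ AlgebraicCycle.map f δY δ β = α := by
  classical
  choose s hs hsurj using hcd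
  -- degree and transcendence degree of the chosen points
  have hdeg : ∀ x : X, f.residueDegree (s x) = 1 := by
    intro x
    letI := (f.residueFieldMap (s x)).hom.toAlgebra
    have h1 : Function.Surjective (algebraMap (X.residueField (f (s x))) (Y.residueField (s x))) :=
      hsurj x
    have h2 : (⊥ : Subalgebra (X.residueField (f (s x))) (Y.residueField (s x))) = ⊤ :=
      (Algebra.surjective_algebraMap_iff.1 h1).symm
    exact Subalgebra.bot_eq_top_iff_finrank_eq_one.1 h2
  have hδs : ∀ x : X, δY (s x) = δ x := by
    intro x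
    obtain ⟨n, hn, hn'⟩ := hδ (s x)
    letI := (f.residueFieldMap (s x)).hom.toAlgebra
    have h1 : Function.Surjective (algebraMap (X.residueField (f (s x))) (Y.residueField (s x))) :=
      hsurj x
    haveI : Algebra.IsIntegral (X.residueField (f (s x))) (Y.residueField (s x)) :=
      Algebra.isIntegral_of_surjective h1
    have h0 : Algebra.trdeg (X.residueField (f (s x))) (Y.residueField (s x)) = 0 :=
      trdeg_eq_zero
    have hn0 : n = 0 := by
      have : ((n : ℕ) : Cardinal) = 0 := by rw [← hn]; exact h0
      exact_mod_cast this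
    rw [hn', hn0, hs x]
    simp
  -- the cycle upstairs
  let b : Y → ℤ := fun y => if y = s (f y) then α (f y) else 0
  have hb_supp : ∀ y : Y, b y ≠ 0 → y = s (f y) ∧ α (f y) ≠ 0 := by
    intro y hy
    by_cases h : y = s (f y)
    · refine ⟨h, ?_⟩
      simpa [b, ← h] using hy
    · exact absurd (by simp [b, h]) hy
  let β : AlgebraicCycle Y ℤ :=
    { toFun := b
      supportWithinDomain' := by simp
      supportLocallyFiniteWithinDomain' := by
        intro y _
        obtain ⟨W, hW, hyW⟩ : ∃ W : Y.Opens, IsCompact (W : Set Y) ∧ y ∈ W := by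
          obtain ⟨W, hW, hyW, -⟩ := Y.isBasis_affineOpens.exists_subset_of_mem_open
            (Set.mem_univ y) isOpen_univ
          obtain ⟨W', hW', rfl⟩ := hW
          exact ⟨W', hW'.isCompact, hyW⟩
        refine ⟨W, W.isOpen.mem_nhds hyW, ?_⟩
        have hfin : ((f '' (W : Set Y)) ∩ Function.support α).Finite :=
          α.locallyFiniteSupport.finite_inter_support_of_isCompact
            (hW.image f.continuous)
        refine (hfin.image s).subset ?_
        rintro y' ⟨hy'W, hy'⟩
        obtain ⟨h1, h2⟩ := hb_supp y' hy'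
        exact ⟨f y', ⟨⟨y', hy'W, rfl⟩, h2⟩, h1.symm⟩ }
  have hβ : ∀ y, β y = b y := fun _ => rfl
  refine ⟨β, ?_, ?_⟩
  · intro y hy
    by_contra hne
    obtain ⟨h1, h2⟩ := hb_supp y hne
    apply hy
    rw [h1, hδs]
    by_contra h3
    exact h2 (hα _ h3)
  · ext x
    change ∑ᶠ y ∈ f ⁻¹' {x}, β y * ((AlgebraicCycle.mapCoeff f δY δ y : ℕ) : ℤ) = α x
    have hone : ∀ y ∈ f ⁻¹' {x}, y ≠ s x →
        β y * ((AlgebraicCycle.mapCoeff f δY δ y : ℕ) : ℤ) = 0 := by
      intro y hy hne
      have hy' : f y = x := hy
      have : b y = 0 := by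
        simp only [b]
        rw [if_neg]
        rw [hy']
        exact hne
      rw [hβ, this, zero_mul]
    have hset : f ⁻¹' {x} ∩ Function.support
          (fun y => β y * ((AlgebraicCycle.mapCoeff f δY δ y : ℕ) : ℤ)) =
        {s x} ∩ Function.support
          (fun y => β y * ((AlgebraicCycle.mapCoeff f δY δ y : ℕ) : ℤ)) := by
      ext y
      constructor
      · rintro ⟨h1, h2⟩
        refine ⟨?_, h2⟩
        by_contra hne
        exact h2 (hone y h1 hne)
      · rintro ⟨h1, h2⟩
        refine ⟨?_, h2⟩
        rw [Set.mem_singleton_iff] at h1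
        rw [h1]
        exact hs x
    rw [finsum_mem_inter_support_eq _ _ _ hset, finsum_mem_singleton, hβ]
    have hb1 : b (s x) = α x := by
      simp only [b]
      rw [hs x, if_pos rfl]
    have hc : AlgebraicCycle.mapCoeff f δY δ (s x) = 1 := by
      unfold AlgebraicCycle.mapCoeff
      rw [if_pos, hdeg]
      rw [hδs, hs x]
    rw [hb1, hc]
    simp

end Groth.Agent.S6482
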