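import Groth.Statements.S6484
import Mathlib

set_option autoImplicit false
universe u
open CategoryTheory AlgebraicGeometry
open CategoryTheory.Limits
open Cyc

namespace Groth.Agent.S6484

/-- a morphism from the spectrum of a field: if the composite with `p` is the canonical map of the
residue field of a point, then the image point has trivial residue field extension -/
theorem surjective_residueFieldMap_of_lift {P X' : Scheme.{u}} (p : P ⟶ X') (x' : X')
    (t : Spec (X'.residueField x') ⟶ P) (ht : t ≫ p = X'.fromSpecResidueField x') :
    ∃ z : P, p z = x' ∧ Function.Surjective (p.residueFieldMap z).hom := by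
  let K : Type u := X'.residueField x'
  let t' : Spec (.of K) ⟶ P := t
  have ht' : t' ≫ p = Spec.map (𝟙 (X'.residueField x')) ≫ X'.fromSpecResidueField x' := by
    rw [Spec.map_id, Category.id_comp]; exact ht
  let z : P := t' (IsLocalRing.closedPoint K)
  have hz : p z = x' := by
    have : (t' ≫ p) (IsLocalRing.closedPoint K) = x' := by
      rw [ht', Spec.map_id, Category.id_comp]
      exact Scheme.fromSpecResidueField_apply x' _
    exact this
  refine ⟨z, hz, ?_⟩
  -- the residue field map of the composite
  have h1 := Scheme.descResidueField_stalkClosedPointTo_comp (f := p) (K := K) t'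
  -- the composite corresponds to the identity
  have h2 : Scheme.SpecToEquivOfField K X' (t' ≫ p) = ⟨x', 𝟙 (X'.residueField x')⟩ := by
    rw [ht']
    exact (Scheme.SpecToEquivOfField K X').right_inv ⟨x', 𝟙 (X'.residueField x')⟩
  rw [Scheme.SpecToEquivOfField_eq_iff] at h2
  obtain ⟨e, h3⟩ := h2
  simp only [Scheme.SpecToEquivOfField_apply_snd] at h3
  -- the composite `κ(p z) ⟶ κ(z) ⟶ K` is bijective
  have hb : Function.Bijective
      (p.residueFieldMap z ≫ Scheme.descResidueField (Scheme.stalkClosedPointTo t')).hom := by
    have h4 : p.residueFieldMap z ≫ Scheme.descResidueField (Scheme.stalkClosedPointTo t') =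
        (X'.residueFieldCongr e).hom ≫ 𝟙 (X'.residueField x') := by
      rw [← h3]; exact h1.symm
    rw [h4, Category.comp_id]
    exact ConcreteCategory.bijective_of_isIso (X'.residueFieldCongr e).hom
  have hinj : Function.Injective
      (Scheme.descResidueField (Scheme.stalkClosedPointTo t')).hom :=
    RingHom.injective _
  intro w
  obtain ⟨v, hv⟩ := hb.2 ((Scheme.descResidueField (Scheme.stalkClosedPointTo t')).hom w)
  refine ⟨v, hinj ?_⟩
  simpa using hv

/-- If f : Y → X is completely decomposed (this prelude's Cyc.IsCompletelyDecomposed: over every point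
of X lies a point of Y with trivial residue field extension) and g : X' → X is any morphism of
schemes, then the base change Y ×_X X' → X' is completely decomposed. Consequently the base change
of an envelope (a proper completely decomposed morphism) is an envelope, properness being preserved
by base change. (The published envelope statement takes X′ → X between schemes locally of finite
type over a base; this row allows any g.) -/
theorem result (X X' Y : Scheme.{u}) (f : Y ⟶ X) (g : X' ⟶ X) (hcd : Cyc.IsCompletelyDecomposed f) : Cyc.IsCompletelyDecomposed (pullback.snd f g) := by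
  intro x'
  obtain ⟨y, hy, hs⟩ := hcd (g x')
  have hbij : Function.Bijective (f.residueFieldMap y).hom := ⟨RingHom.injective _, hs⟩
  let eqv : X.residueField (f y) ≃+* Y.residueField y := RingEquiv.ofBijective _ hbij
  let ψ : Y.residueField y ⟶ X'.residueField x' :=
    eqv.toCommRingCatIso.inv ≫ (X.residueFieldCongr hy).hom ≫ g.residueFieldMap x'
  have hψ : f.residueFieldMap y ≫ ψ = (X.residueFieldCongr hy).hom ≫ g.residueFieldMap x' := by
    have : f.residueFieldMap y = eqv.toCommRingCatIso.hom := by
      ext a; rfl
    rw [this]
    simp only [ψ, Iso.hom_inv_id_assoc]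
  let a : Spec (X'.residueField x') ⟶ Y := Spec.map ψ ≫ Y.fromSpecResidueField y
  have w : a ≫ f = X'.fromSpecResidueField x' ≫ g := by
    simp only [a, Category.assoc]
    rw [← Scheme.Hom.SpecMap_residueFieldMap_fromSpecResidueField,
      ← Spec.map_comp_assoc, hψ, Spec.map_comp_assoc,
      Scheme.residueFieldCongr_fromSpecResidueField,
      Scheme.Hom.SpecMap_residueFieldMap_fromSpecResidueField]
  exact surjective_residueFieldMap_of_lift (pullback.snd f g) x'
    (pullback.lift a (X'.fromSpecResidueField x') w) (pullback.lift_snd _ _ _)

end Groth.Agent.S6484
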