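import Groth.Statements.S6495
-- import your own Groth.Agent.* helpers here
import Groth.Agent.R2.H9LimCycC

set_option autoImplicit false
universe u
open CategoryTheory AlgebraicGeometry
open Cyc

namespace Groth.Agent.S6495

set_option linter.style.haveILetI false
open Groth.Agent.R2.H9.LimCyc

/-- Surjectivity of colim Z_k(X_i) → Z_k(X'): every k-cycle α' on the limit X' is g_i^*α for some i and
some k-cycle α on X_i, where g_i : X' → X_i is the projection and g_i^* the shift-0 base-change
pullback on coefficient functions. Setting: a directed inverse system (X_i) of quasi-compact schemes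
with affine flat transition morphisms and limit X' (a limit cone), each X_i and X' carrying a
dimension function with Cyc.IsSetup, and every transition map and every projection X' → X_i shifting
the dimension functions by c = 0 at generic points of fibres, so that the base-change pullbacks g^*
are Cyc.pullFun with shift 0. (The published statement takes X_i and X′ to be the base changes of
one quasi-compact scheme of finite type over a base S along S_i → S and lim S_i → S; this row allows
any such inverse system.) -/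
theorem result (I : Type u) [Preorder I] [IsDirected I (fun a b => a ≤ b)] [Nonempty I] (D : Iᵒᵖ ⥤ Scheme.{u}) (c : Limits.Cone D) (hc : Limits.IsLimit c) (haff : ∀ (i j : Iᵒᵖ) (f : i ⟶ j), IsAffineHom (D.map f)) (hflat : ∀ (i j : Iᵒᵖ) (f : i ⟶ j), Flat (D.map f)) (hqc : ∀ i, CompactSpace ↥(D.obj i)) (δ : (i : Iᵒᵖ) → ↥(D.obj i) → ℤ) (δ' : ↥c.pt → ℤ) (hset : ∀ i, Cyc.IsSetup (D.obj i) (δ i)) (hset' : Cyc.IsSetup c.pt δ') (hshift : ∀ (i j : Iᵒᵖ) (f : i ⟶ j) (x : ↥(D.obj i)), (∀ y, D.map f y = D.map f x → y ⤳ x → y = x) → δ i x = δ j (D.map f x)) (hflat' : ∀ i, Flat (c.π.app i)) (hshift' : ∀ (i : Iᵒᵖ) (x : ↥c.pt), (∀ y, c.π.app i y = c.π.app i x → y ⤳ x → y = x) → δ' x = δ i (c.π.app i x)) (k : ℤ) (α' : AlgebraicCycle c.pt ℤ) (hα' : α' ∈ Cyc.Zk c.pt δ' k) : ∃ (i : Iᵒᵖ) (α : AlgebraicCycle (D.obj i) ℤ), α ∈ Cyc.Zk (D.obj i) (δ i) k ∧ Cyc.pullFun (c.π.app i) δ' (δ i) 0 ⇑α = ⇑α' := by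
  classical
  haveI hAff : ∀ {a b : Iᵒᵖ} (f : a ⟶ b), IsAffineHom (D.map f) := fun {a b} f => haff a b f
  haveI hCpt : ∀ a, CompactSpace ↥(D.obj a) := hqc
  haveI hLN : IsLocallyNoetherian c.pt := hset'.1
  haveI : CompactSpace c.pt := Scheme.compactSpace_of_isLimit D c hc
  have hfin : (Function.support (⇑α')).Finite := by
    have h1 := (Function.locallyFinsupp.locallyFiniteSupport α').finite_inter_support_of_isCompact
      (isCompact_univ (X := c.pt))
    simpa using h1
  obtain ⟨i, hi⟩ := exists_common_stage c hc _ hfin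
  have hsee : ∀ z', α' z' ≠ 0 → Sees c i z' := fun z' hz' => hi z' hz'
  let a : D.obj i → ℤ := fun x =>
    if h : ∃ z', α' z' ≠ 0 ∧ proj c i z' = x then α' h.choose else 0
  have ha : ∀ z', α' z' ≠ 0 → a (proj c i z') = α' z' := by
    intro z' hz'
    have h : ∃ w, α' w ≠ 0 ∧ proj c i w = proj c i z' := ⟨z', hz', rfl⟩
    simp only [a, dif_pos h]
    congr 1
    exact (hsee _ h.choose_spec.1).eq_of_proj_eq c (hsee _ hz') h.choose_spec.2
  have ha0 : ∀ x, a x ≠ 0 → ∃ z', α' z' ≠ 0 ∧ proj c i z' = x := by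
    intro x hx
    by_contra hne
    exact hx (by simp only [a, dif_neg hne])
  have hsupp : (Function.support a).Finite := by
    apply (hfin.image (proj c i)).subset
    intro x hx
    obtain ⟨z', hz', rfl⟩ := ha0 x hx
    exact ⟨z', hz', rfl⟩
  let α : AlgebraicCycle (D.obj i) ℤ :=
    ⟨a, fun _ _ => trivial, fun z _ => ⟨Set.univ, Filter.univ_mem, by simpa using hsupp⟩⟩
  refine ⟨i, α, ?_, ?_⟩
  · intro x hx
    by_contra hne
    obtain ⟨z', hz', rfl⟩ := ha0 x hne
    apply hx
    have hk : δ' z' = k := by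
      by_contra h
      exact hz' (hα' z' h)
    rw [← hk]
    exact (hshift' i z' ((hsee z' hz').generic c)).symm
  · exact pullFun_eq_of_sees c δ' (δ i) hset'.2.2 (fun x hx => hshift' i x hx) a ⇑α' hsee ha ha0

end Groth.Agent.S6495
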