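import Groth.Statements.S6496
import Groth.Agent.R2.H28FibreGeneric

set_option autoImplicit false
universe u
open CategoryTheory AlgebraicGeometry
open Cyc

namespace Groth.Agent.S6496

/-- Injectivity of colim Z_k(X_i) → Z_k(X'): if a k-cycle α on X_i pulls back to the zero cycle on X',
then it pulls back to zero on some stage X_j above X_i. Setting: a directed inverse system (X_i) of
quasi-compact schemes with affine flat transition morphisms and limit X' (a limit cone), each X_i
and X' carrying a dimension function with Cyc.IsSetup, and every transition map and every projection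
X' → X_i shifting the dimension functions by c = 0 at generic points of fibres, so that the
base-change pullbacks g^* are Cyc.pullFun with shift 0. (The published statement takes X_i and X′ to
be the base changes of one quasi-compact scheme of finite type over a base S along S_i → S and lim
S_i → S; this row allows any such inverse system.) -/
theorem result (I : Type u) [Preorder I] [IsDirected I (fun a b => a ≤ b)] [Nonempty I] (D : Iᵒᵖ ⥤ Scheme.{u}) (c : Limits.Cone D) (hc : Limits.IsLimit c) (haff : ∀ (i j : Iᵒᵖ) (f : i ⟶ j), IsAffineHom (D.map f)) (hflat : ∀ (i j : Iᵒᵖ) (f : i ⟶ j), Flat (D.map f)) (hqc : ∀ i, CompactSpace ↥(D.obj i)) (δ : (i : Iᵒᵖ) → ↥(D.obj i) → ℤ) (δ' : ↥c.pt → ℤ) (hset : ∀ i, Cyc.IsSetup (D.obj i) (δ i)) (hset' : Cyc.IsSetup c.pt δ') (hshift : ∀ (i j : Iᵒᵖ) (f : i ⟶ j) (x : ↥(D.obj i)), (∀ y, D.map f y = D.map f x → y ⤳ x → y = x) → δ i x = δ j (D.map f x)) (hflat' : ∀ i, Flat (c.π.app i)) (hshift' : ∀ (i : Iᵒᵖ) (x : ↥c.pt), (∀ y, c.π.app i y = c.π.app i x → y ⤳ x → y =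 x) → δ' x = δ i (c.π.app i x)) (k : ℤ) (i : Iᵒᵖ) (α : AlgebraicCycle (D.obj i) ℤ) (hα : α ∈ Cyc.Zk (D.obj i) (δ i) k) (h0 : Cyc.pullFun (c.π.app i) δ' (δ i) 0 ⇑α = 0) : ∃ (j : Iᵒᵖ) (f : j ⟶ i), Cyc.pullFun (D.map f) (δ j) (δ i) 0 ⇑α = 0 := by
  classical
  have hLN : IsLocallyNoetherian c.pt := hset'.1
  have hLN' : IsLocallyNoetherian (((Functor.const Iᵒᵖ).obj c.pt).obj i) := hLN
  -- Step A/B: α vanishes on the image of the projection
  have hzero : ∀ x' : c.pt, α (c.π.app i x') = 0 := by
    intro x'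
    obtain ⟨y, hyx, hfy, hmax⟩ :=
      Groth.Agent.R2.H28.FibreGeneric.exists_maximal_in_fibre (c.π.app i) x'
    have hδ := hshift' i y hmax
    have h0y := congrFun h0 y
    simp only [Cyc.pullFun, Pi.zero_apply] at h0y
    rw [if_pos (by rw [hδ, add_zero])] at h0y
    have hlen :=
      Groth.Agent.R2.H28.FibreGeneric.length_fibre_toNat_ne_zero (c.π.app i) y hmax
    rcases mul_eq_zero.1 h0y with h | h
    · rw [← hfy]; exact h
    · exact absurd (by exact_mod_cast h) hlen
  -- Step C: the support of α is finite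
  have hfin : (Function.support (⇑α)).Finite := by
    have h1 := (Function.locallyFinsupp.locallyFiniteSupport α).finite_inter_support_of_isCompact
      (isCompact_univ (X := D.obj i))
    simpa using h1
  have hclosed : IsClosed (⋃ ξ ∈ Function.support (⇑α), closure ({ξ} : Set (D.obj i))) :=
    hfin.isClosed_biUnion (fun _ _ => isClosed_closure)
  let U : (D.obj i).Opens := ⟨_, hclosed.isOpen_compl⟩
  have hgen : GeneralizingMap (c.π.app i) := Flat.generalizingMap (c.π.app i)
  have hU : c.π.app i ⁻¹ᵁ U = ⊤ := by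
    rw [eq_top_iff]
    intro x' _
    change c.π.app i x' ∈ (⋃ ξ ∈ Function.support (⇑α), closure ({ξ} : Set (D.obj i)))ᶜ
    intro hmem
    simp only [Set.mem_iUnion, exists_prop] at hmem
    obtain ⟨ξ, hξ, hcl⟩ := hmem
    have hsp : ξ ⤳ c.π.app i x' := specializes_iff_mem_closure.2 hcl
    obtain ⟨x'', -, hx''⟩ := hgen hsp
    exact hξ (by rw [← hx'']; exact hzero x'')
  -- Step D: descend to a finite stage
  have hAff : ∀ {a b : Iᵒᵖ} (f : a ⟶ b), IsAffineHom (D.map f) := fun {a b} f => haff a b f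
  have hCpt : ∀ a, CompactSpace ↥(D.obj a) := hqc
  obtain ⟨j, f, hj⟩ := exists_map_eq_top D c hc U hU
  refine ⟨j, f, ?_⟩
  funext x
  have hx : D.map f x ∈ U := by
    have : x ∈ (D.map f ⁻¹ᵁ U) := by rw [hj]; trivial
    exact this
  have hαx : α (D.map f x) = 0 := by
    by_contra hne
    apply hx
    simp only [Set.mem_iUnion, exists_prop]
    exact ⟨D.map f x, hne, subset_closure rfl⟩
  simp only [Cyc.pullFun, Pi.zero_apply]
  split_ifs
  · rw [hαx, zero_mul]
  · rfl

end Groth.Agent.S6496
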