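import Groth.Statements.S6497
-- import your own Groth.Agent.* helpers here
import Groth.Agent.R2.H9LimCycE
import Groth.Agent.R2.H9DivLF
import Groth.Agent.S6479
import Groth.Agent.S6496
import Groth.Agent.S1940

set_option autoImplicit false
universe u
open CategoryTheory AlgebraicGeometry
open Cyc

namespace Groth.Agent.S6497

set_option linter.style.haveILetI false
open Groth.Agent.R2.H9.LimCyc

/-- Injectivity of colim CH_k(X_i) → CH_k(X'): if α ∈ Z_k(X_i) and g_i^*α ∼_rat 0 on X' (for a cycle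
with the pulled-back coefficients), then for some stage X_j above X_i the pullback of α to X_j is
∼_rat 0. Setting: a directed inverse system (X_i) of quasi-compact schemes with affine flat
transition morphisms and limit X' (a limit cone), each X_i and X' carrying a dimension function with
Cyc.IsSetup, and every transition map and every projection X' → X_i shifting the dimension functions
by c = 0 at generic points of fibres, so that the base-change pullbacks g^* are Cyc.pullFun with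
shift 0. (The published statement takes X_i and X′ to be the base changes of one quasi-compact
scheme of finite type over a base S along S_i → S and lim S_i → S; this row allows any such inverse
system.) -/
theorem result (I : Type u) [Preorder I] [IsDirected I (fun a b => a ≤ b)] [Nonempty I] (D : Iᵒᵖ ⥤ Scheme.{u}) (c : Limits.Cone D) (hc : Limits.IsLimit c) (haff : ∀ (i j : Iᵒᵖ) (f : i ⟶ j), IsAffineHom (D.map f)) (hflat : ∀ (i j : Iᵒᵖ) (f : i ⟶ j), Flat (D.map f)) (hqc : ∀ i, CompactSpace ↥(D.obj i)) (δ : (i : Iᵒᵖ) → ↥(D.obj i) → ℤ) (δ' : ↥c.pt → ℤ) (hset : ∀ i, Cyc.IsSetup (D.obj i) (δ i)) (hset' : Cyc.IsSetup c.pt δ') (hshift : ∀ (i j : Iᵒᵖ) (f : i ⟶ j) (x : ↥(D.obj i)), (∀ y, D.map f y = D.map f x → y ⤳ x → y = x) → δ i x = δ j (D.map f x)) (hflat' : ∀ i, Flat (c.π.app i)) (hshift' : ∀ (i : Iᵒᵖ) (x : ↥c.pt), (∀ y, c.π.app i y = c.π.app i x → y ⤳ x → y = x) → δ' x = δ i (c.π.app i x)) (k : ℤ) (i : Iᵒᵖ) (α :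 AlgebraicCycle (D.obj i) ℤ) (hα : α ∈ Cyc.Zk (D.obj i) (δ i) k) (α' : AlgebraicCycle c.pt ℤ) (hα' : ⇑α' = Cyc.pullFun (c.π.app i) δ' (δ i) 0 ⇑α) (h0 : Cyc.RatEquivZero δ' k α') : ∃ (j : Iᵒᵖ) (f : j ⟶ i) (αj : AlgebraicCycle (D.obj j) ℤ), ⇑αj = Cyc.pullFun (D.map f) (δ j) (δ i) 0 ⇑α ∧ Cyc.RatEquivZero (δ j) k αj := by
  classical
  haveI hAff : ∀ {a b : Iᵒᵖ} (f : a ⟶ b), IsAffineHom (D.map f) := fun {a b} f => haff a b f
  haveI hCpt : ∀ a, CompactSpace ↥(D.obj a) := hqc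
  haveI hFl : ∀ {a b : Iᵒᵖ} (f : a ⟶ b), Flat (D.map f) := fun {a b} f => hflat a b f
  haveI hFl' : ∀ a, Flat (proj c a) := hflat'
  haveI hLN : IsLocallyNoetherian c.pt := hset'.1
  haveI hLNi : ∀ a, IsLocallyNoetherian (D.obj a) := fun a => (hset a).1
  haveI : CompactSpace c.pt := Scheme.compactSpace_of_isLimit D c hc
  obtain ⟨T, ξ', f', hdim, hne, hlf, hsum⟩ := h0
  haveI : Finite T := finite_of_locallyFinite ξ' hlf
  haveI : Fintype T := Fintype.ofFinite T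
  -- a stage seeing all the `ξ' t` and carrying all the `f' t`, above `i`
  have hst : ∀ t : T, ∃ j : Iᵒᵖ, Sees c j (ξ' t) ∧ LiftsRes (proj c j) (ξ' t) (f' t) := by
    intro t
    obtain ⟨j₁, h₁⟩ := exists_sees c hc (ξ' t)
    obtain ⟨j₂, h₂⟩ := exists_liftsRes c hc (ξ' t) (f' t)
    exact ⟨IsCofiltered.min j₁ j₂, h₁.of_hom c (IsCofiltered.minToLeft _ _),
      h₂.of_hom c (IsCofiltered.minToRight _ _)⟩
  choose jt hjt1 hjt2 using hst
  obtain ⟨j₁, hj₁⟩ := IsCofiltered.inf_objs_exists (insert i (Finset.univ.image jt))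
  have f₁ : j₁ ⟶ i := (hj₁ (Finset.mem_insert_self _ _)).some
  have hmem : ∀ t, jt t ∈ insert i (Finset.univ.image jt) := fun t =>
    Finset.mem_insert_of_mem (Finset.mem_image_of_mem _ (Finset.mem_univ t))
  have hsees : ∀ t, Sees c j₁ (ξ' t) := fun t => (hjt1 t).of_hom c (hj₁ (hmem t)).some
  have hlifts : ∀ t, LiftsRes (proj c j₁) (ξ' t) (f' t) := fun t =>
    (hjt2 t).of_hom c (hj₁ (hmem t)).some
  choose g hg using hlifts
  let ξ : T → D.obj j₁ := fun t => proj c j₁ (ξ' t)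
  have hgne : ∀ t, g t ≠ 0 := by
    intro t h
    apply hne t
    rw [← hg t, h, map_zero]
  have hξdim : ∀ t, δ j₁ (ξ t) = k + 1 := fun t => by
    rw [← hdim t]
    exact (hshift' j₁ (ξ' t) ((hsees t).generic c)).symm
  have hlfξ : ∀ x : D.obj j₁, ∃ U : Set (D.obj j₁), IsOpen U ∧ x ∈ U ∧
      {t | (closure {ξ t} ∩ U).Nonempty}.Finite :=
    fun x => ⟨Set.univ, isOpen_univ, trivial, Set.toFinite _⟩
  obtain ⟨ρ, hρ⟩ := Groth.Agent.R2.H9.DivLF.exists_cycle_of_locallyFinite (δ j₁) (hset j₁).2.2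
    ξ g hgne hlfξ
  have hρrat : Cyc.RatEquivZero (δ j₁) k ρ := ⟨T, ξ, g, hξdim, hgne, hlfξ, hρ⟩
  have hρZ : ρ ∈ Cyc.Zk (D.obj j₁) (δ j₁) k := by
    intro x hx
    rw [hρ]
    apply finsum_eq_zero_of_forall_eq_zero
    intro t
    unfold Cyc.divFun
    rw [dif_neg]
    rintro ⟨-, h2⟩
    rw [hξdim t] at h2
    exact hx (by omega)
  -- the pullback of `α` to the stage `j₁`
  have hfinα : (Function.support (⇑α)).Finite := by
    have h1 := (Function.locallyFinsupp.locallyFiniteSupport α).finite_inter_support_of_isCompact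
      (isCompact_univ (X := D.obj i))
    simpa using h1
  have hsh : ∀ {a b : Iᵒᵖ} (f : a ⟶ b) (x : D.obj a),
      (∀ y, D.map f y = D.map f x → y ⤳ x → y = x) → δ a x = δ b (D.map f x) + 0 := by
    intro a b f x hx
    rw [add_zero]
    exact hshift a b f x hx
  have hsh' : ∀ (a : Iᵒᵖ) (x : c.pt),
      (∀ y, proj c a y = proj c a x → y ⤳ x → y = x) → δ' x = δ a (proj c a x) + 0 := by
    intro a x hx
    rw [add_zero]
    exact hshift' a x hx
  have hBd : ∀ {a b : Iᵒᵖ} (f : a ⟶ b) (z : D.obj a), δ a z ≤ δ b (D.map f z) + 0 :=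
    fun {a b} f z => Groth.Agent.R2.H9.ShiftBound.delta_le_of_shift (D.map f) (δ b) (δ a)
      (hset a).2.2 0 (hsh f) z
  have hZpull : ∀ {a : Iᵒᵖ} (f : a ⟶ i) (β : AlgebraicCycle (D.obj a) ℤ),
      ⇑β = Cyc.pullFun (D.map f) (δ a) (δ i) 0 ⇑α → β ∈ Cyc.Zk (D.obj a) (δ a) k := by
    intro a f β hβ x hx
    rw [hβ]
    unfold Cyc.pullFun
    beta_reduce
    split_ifs with hd
    · rw [hα (D.map f x) (by omega), zero_mul]
    · rfl
  obtain ⟨α₁, hα₁⟩ := exists_cycle_pullFun (D.map f₁) (δ j₁) (δ i) (hset j₁).2.2 0 (hBd f₁)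
    ⇑α hfinα
  have hα₁Z := hZpull f₁ α₁ hα₁
  have hβZ : α₁ - ρ ∈ Cyc.Zk (D.obj j₁) (δ j₁) k := by
    intro x hx
    rw [Function.locallyFinsuppWithin.coe_sub, Pi.sub_apply, hα₁Z x hx, hρZ x hx, sub_zero]
  have e1 : ⇑(α₁ - ρ) = fun y => α₁ y - ρ y := by
    funext y
    rw [Function.locallyFinsuppWithin.coe_sub, Pi.sub_apply]
  -- the pullback of `α₁ - ρ` to the limit vanishes
  have hpull0 : Cyc.pullFun (c.π.app j₁) δ' (δ j₁) 0 ⇑(α₁ - ρ) = 0 := by
    funext x'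
    rw [e1]
    change Cyc.pullFun (proj c j₁) δ' (δ j₁) 0 (fun y => α₁ y - ρ y) x' = 0
    rw [Groth.Agent.R2.H9.PullRat.pullFun_sub]
    have hA : Cyc.pullFun (proj c j₁) δ' (δ j₁) 0 (⇑α₁) x' = α' x' := by
      have h79 := (Groth.Agent.S6479.result (D.obj i) (D.obj j₁) c.pt (D.map f₁) (proj c j₁)
        (δ i) (δ j₁) δ' (hset i) (hset j₁) hset' 0 0 (hsh f₁) (hsh' j₁) k α hα).2
      rw [zero_add, proj_w c f₁] at h79
      rw [hα₁, ← h79, hα']
    have hB : Cyc.pullFun (proj c j₁) δ' (δ j₁) 0 (fun y => ρ y) x' = α' x' := by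
      have e2 : (fun y => ρ y) = fun y => ∑ᶠ t, Cyc.divFun (δ j₁) (ξ t) (g t) y := funext hρ
      rw [e2, Groth.Agent.R2.H9.PullRat.pullFun_finsum _ _ _ _ _ _ (Set.toFinite _), hsum x']
      apply finsum_congr
      intro t
      have h3 := congrFun (pullFun_divFun_of_seesHom (proj c j₁) δ' (δ j₁) hset' (hset j₁)
        (hshift' j₁) (ξ' t) (hsees t) (g t) (hgne t)) x'
      rw [h3, hg t]
    rw [hA, hB, sub_self]
  obtain ⟨l, f₂, hl⟩ := Groth.Agent.S6496.result I D c hc haff hflat hqc δ δ' hset hset' hshift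
    hflat' hshift' k j₁ (α₁ - ρ) hβZ hpull0
  obtain ⟨αl, hαl⟩ := exists_cycle_pullFun (D.map (f₂ ≫ f₁)) (δ l) (δ i) (hset l).2.2 0
    (hBd (f₂ ≫ f₁)) ⇑α hfinα
  have h79' := (Groth.Agent.S6479.result (D.obj i) (D.obj j₁) (D.obj l) (D.map f₁) (D.map f₂)
    (δ i) (δ j₁) (δ l) (hset i) (hset j₁) (hset l) 0 0 (hsh f₁) (hsh f₂) k α hα).2
  rw [zero_add, ← D.map_comp] at h79'
  have hαlρ : ⇑αl = Cyc.pullFun (D.map f₂) (δ l) (δ j₁) 0 ⇑ρ := by
    rw [hαl, h79', ← hα₁]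
    funext x
    have h4 := congrFun hl x
    rw [e1, Groth.Agent.R2.H9.PullRat.pullFun_sub] at h4
    exact sub_eq_zero.mp h4
  have hfinal := Groth.Agent.S1940.result (D.obj j₁) (D.obj l) (δ j₁) (δ l) (hset j₁) (hset l)
    (D.map f₂) 0 (hsh f₂) k ρ hρZ hρrat αl hαlρ
  rw [add_zero] at hfinal
  exact ⟨l, f₂ ≫ f₁, αl, hαl, hfinal⟩

end Groth.Agent.S6497
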