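import Groth.Statements.S6499
import Groth.Agent.Lib.Helper2FinPushFP
import Groth.Agent.Lib.Helper23QCohLocal

set_option autoImplicit false
universe u
open CategoryTheory AlgebraicGeometry
open Cyc

namespace Groth.Agent.S6499

open TopologicalSpace Opposite in
/-- the stalk of a direct image along a closed map vanishes at `y` if all stalks over `y` vanish -/
theorem subsingleton_stalk_pushforward {X Y : Scheme.{u}} (π : X ⟶ Y) (hπ : IsClosedMap π.base)
    (F : X.Modules) (y : Y) (h : ∀ x : X, π.base x = y → Subsingleton (F.presheaf.stalk x)) :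
    Subsingleton (((Scheme.Modules.pushforward π).obj F).presheaf.stalk y) := by
  set G := (Scheme.Modules.pushforward π).obj F with hG
  suffices h0 : ∀ a : G.presheaf.stalk y, a = 0 from ⟨fun a b => by rw [h0 a, h0 b]⟩
  intro a
  obtain ⟨V, hyV, s, rfl⟩ := TopCat.Presheaf.exists_germ_eq G.presheaf a
  -- `s` as a section of `F` over `π⁻¹ V`
  let s' : Γ(F, π ⁻¹ᵁ V) := s
  -- local vanishing around each point of the fibre
  have hloc : ∀ x : X, π.base x = y → ∃ (W : X.Opens) (hW : W ≤ π ⁻¹ᵁ V), x ∈ W ∧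
      F.presheaf.map (homOfLE hW).op s' = 0 := by
    intro x hx
    haveI := h x hx
    have hxV : x ∈ π ⁻¹ᵁ V := by
      change π.base x ∈ V
      rw [hx]; exact hyV
    have hg : F.presheaf.germ (π ⁻¹ᵁ V) x hxV s' = F.presheaf.germ (π ⁻¹ᵁ V) x hxV 0 :=
      Subsingleton.elim _ _
    obtain ⟨W, hxW, iU, iV, e⟩ := F.presheaf.germ_eq x hxV hxV s' 0 hg
    refine ⟨W, iU.le, hxW, ?_⟩
    have : F.presheaf.map iV.op (0 : Γ(F, π ⁻¹ᵁ V)) = 0 := map_zero _
    rw [this] at e
    exact e
  choose! W hW hxW hsW using hloc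
  -- the union of these opens
  let ι := {x : X // π.base x = y}
  let Wt : X.Opens := ⨆ i : ι, W i.1
  have hWt : Wt ≤ π ⁻¹ᵁ V := iSup_le fun i => hW i.1 i.2
  have hsWt : F.presheaf.map (homOfLE hWt).op s' = 0 := by
    apply TopCat.Sheaf.eq_of_locally_eq (⟨F.presheaf, F.isSheaf⟩ : TopCat.Sheaf _ _)
      (fun i : ι => W i.1)
    intro i
    have h1 : F.presheaf.map (Opens.leSupr (fun i : ι => W i.1) i).op
        (F.presheaf.map (homOfLE hWt).op s') = F.presheaf.map (homOfLE (hW i.1 i.2)).op s' := by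
      rw [← ConcreteCategory.comp_apply, ← F.presheaf.map_comp]
      rfl
    change F.presheaf.map (Opens.leSupr (fun i : ι => W i.1) i).op
        (F.presheaf.map (homOfLE hWt).op s') =
      F.presheaf.map (Opens.leSupr (fun i : ι => W i.1) i).op 0
    rw [h1, hsW i.1 i.2, map_zero]
  -- a smaller neighbourhood of `y`
  have hcl : IsClosed (π.base '' ((Wt : Set X)ᶜ)) := hπ _ Wt.isOpen.isClosed_compl
  let V' : Y.Opens := V ⊓ ⟨(π.base '' ((Wt : Set X)ᶜ))ᶜ, hcl.isOpen_compl⟩
  have hyV' : y ∈ V' := by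
    refine ⟨hyV, ?_⟩
    rintro ⟨x, hxW', hxy⟩
    apply hxW'
    exact Opens.mem_iSup.2 ⟨⟨x, hxy⟩, hxW x hxy⟩
  have hV'V : V' ≤ V := inf_le_left
  have hpre : π ⁻¹ᵁ V' ≤ Wt := by
    intro x hx
    by_contra hxW'
    exact hx.2 ⟨x, hxW', rfl⟩
  have hres : G.presheaf.map (homOfLE hV'V).op s = 0 := by
    change F.presheaf.map (homOfLE (show π ⁻¹ᵁ V' ≤ π ⁻¹ᵁ V from fun x hx => hV'V hx)).op s' = 0
    have h2 : F.presheaf.map (homOfLE hpre).op (F.presheaf.map (homOfLE hWt).op s') =
        F.presheaf.map (homOfLE (show π ⁻¹ᵁ V' ≤ π ⁻¹ᵁ V from fun x hx => hV'V hx)).op s' := by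
      rw [← ConcreteCategory.comp_apply, ← F.presheaf.map_comp]
      rfl
    rw [← h2, hsWt, map_zero]
  rw [← G.presheaf.germ_res_apply (homOfLE hV'V) y hyV' s, hres, map_zero]

/-- Suppose X and Y are schemes locally of finite type over the base, and π : X → Y is a morphism
between them that is finite. Then π_* sends Coh_{≤k}(X) into Coh_{≤k}(Y): for F coherent on X with
dim_δ Supp(F) ≤ k, the direct image π_*F is coherent with dim_δ Supp(π_*F) ≤ k (Cyc.CohLe).
(Exactness of π_* and the commutative diagram with the cycle maps are not restated; the latter is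
the existing compatibility of [−]_k with π_*.) Here a pair (X, δ) with Cyc.IsSetup plays the role of
a scheme locally of finite type over the base (S, δ) (X locally Noetherian with universally catenary
local rings, δ a dimension function), and Cyc.DeltaCompat records that the dimension function
upstairs is the induced one. -/
theorem result (X Y : Scheme.{u}) (δX : X → ℤ) (δY : Y → ℤ) (hX : Cyc.IsSetup X δX) (hY : Cyc.IsSetup Y δY) (π : X ⟶ Y) [IsFinite π] (hδ : Cyc.DeltaCompat π δX δY) (k : ℤ) (F : X.Modules) (hF : Cyc.CohLe δX k F) : Cyc.CohLe δY k ((Coh.push π).obj F) := by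
  obtain ⟨⟨hqc, hft⟩, hsupp⟩ := hF
  haveI : F.IsQuasicoherent := hqc
  refine ⟨⟨Groth.Agent.Lib.Helper23.QCohLocal.isQuasicoherent_pushforward π F,
    (Groth.Agent.Lib.Helper2.FinPushFP.isFiniteType_pushforward_iff π F).1 hft⟩, ?_⟩
  intro y hy
  by_contra hlt
  have hsub : Subsingleton (((Scheme.Modules.pushforward π).obj F).presheaf.stalk y) := by
    apply subsingleton_stalk_pushforward π π.isClosedMap F y
    intro x hx
    by_contra hns
    rw [not_subsingleton_iff_nontrivial] at hns
    have h1 := hsupp x hns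
    obtain ⟨n, -, hn⟩ := hδ x
    apply hlt
    have : δY y ≤ δX x := by
      rw [hn, ← hx]
      change δY (π.base x) ≤ δY (π.base x) + n
      omega
    omega
  exact not_subsingleton _ hsub

end Groth.Agent.S6499
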