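import Groth.Statements.S6500
import Groth.Agent.Lib.Helper13Tor
import Groth.Agent.Lib.Helper6SmRegSch
import Groth.Agent.Lib.Helper7Dim
import Groth.Agent.S0563

set_option autoImplicit false
universe u
open CategoryTheory CategoryTheory.Limits AlgebraicGeometry
attribute [local instance] HasDerivedCategory.standard
open IntMult

namespace Groth.Agent.S6500

open Groth.Agent.Helper13Tor in
/-- `Tor_p(M, Y) = 0` for `p > n` when `M` has projective dimension `≤ n`. -/
theorem isZero_tor_of_pd {R : Type u} [CommRing R] (Y : ModuleCat.{u} R) :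
    ∀ (n : ℕ) (M : ModuleCat.{u} R), HasProjectiveDimensionLT M (n + 1) → ∀ p : ℕ, n < p →
      Limits.IsZero (((Tor (ModuleCat.{u} R) p).obj M).obj Y)
  | 0, M, h, p, hp => by
      haveI : Projective M := projective_iff_hasProjectiveDimensionLT_one.2 h
      exact isZero_tor_of_flat (Y := Y) M p hp
  | n + 1, M, h, p, hp => by
      obtain ⟨q, rfl⟩ : ∃ q, p = q + 1 := ⟨p - 1, by omega⟩
      let S : ShortComplex (ModuleCat.{u} R) :=
        ShortComplex.mk (Limits.kernel.ι (Projective.π M)) (Projective.π M)
          (Limits.kernel.condition _)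
      have hS : S.ShortExact :=
        { exact := ShortComplex.exact_of_f_is_kernel _ (Limits.kernelIsKernel _)
          mono_f := inferInstanceAs (Mono (Limits.kernel.ι (Projective.π M)))
          epi_g := inferInstanceAs (Epi (Projective.π M)) }
      haveI : Projective S.X₂ := inferInstanceAs (Projective (Projective.over M))
      have h₃ : HasProjectiveDimensionLT S.X₃ (n + 1 + 1) := h
      have hK : HasProjectiveDimensionLT S.X₁ (n + 1) :=
        hS.hasProjectiveDimensionLT_X₁ (n + 1) inferInstance h₃
      exact isZero_tor_X₃ S hS Y q (isZero_tor_of_flat (Y := Y) S.X₂ (q + 1) (by omega))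
        (isZero_tor_of_pd Y n S.X₁ hK q (by omega))

/-- Let X be a nonsingular variety of dimension n and F, G coherent O_X-modules. The Tor sheaves
Tor_p^{O_X}(F, G), whose stalks are Tor_p^{O_{X,x}}(F_x, G_x), are nonzero only for p ∈ {0, …, n}:
for every point x and every p > n, Tor_p^{O_{X,x}}(F_x, G_x) = 0. (Coherence of the Tor sheaves and
the support statement are not restated.) Nonsingular variety: X → Spec K smooth, separated,
quasi-compact, X integral, K algebraically closed; n = dim X. -/
theorem result (K : Type u) [Field K] [IsAlgClosed K] (X : Scheme.{u}) (f : X ⟶ Spec (CommRingCat.of K)) [Smooth f] [IsSeparated f] [QuasiCompact f] [IsIntegral X] (n : ℕ) (hn : topologicalKrullDim X = n) (F G : X.Modules) (hF : Coh.IsCoh F) (hG : Coh.IsCoh G) (x : X) (p : ℕ) (hp : n < p) : Subsingleton (DRing.Tor ↑(X.presheaf.stalk x) p ↑(F.presheaf.stalk x) ↑(G.presheaf.stalk x)) := by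
  classical
  haveI hreg : IsRegularLocalRing (X.presheaf.stalk x) :=
    Groth.Agent.Lib.Helper6.SmRegSch.isRegularLocalRing_stalk_of_smooth_over_field K X f x
  have hdim : ringKrullDim (X.presheaf.stalk x) ≤ (n : WithBot ℕ∞) := by
    rw [ringKrullDim_stalk_eq_coheight, ← hn,
      Groth.Agent.Lib.Helper7.topologicalKrullDim_eq_krullDim_points]
    exact Order.coheight_le_krullDim x
  obtain ⟨d, hd⟩ : ∃ d : ℕ, ringKrullDim (X.presheaf.stalk x) = d := by
    have h0 : ringKrullDim (X.presheaf.stalk x) ≠ ⊥ := ringKrullDim_ne_bot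
    obtain ⟨r, hr⟩ := WithBot.ne_bot_iff_exists.1 h0
    rw [← hr] at hdim
    have hr' : r ≤ (n : ℕ∞) := by exact_mod_cast hdim
    obtain ⟨d, hd⟩ := ENat.ne_top_iff_exists.1 (ne_top_of_le_ne_top (ENat.coe_ne_top n) hr')
    exact ⟨d, by rw [← hr, ← hd]; rfl⟩
  have hdn : d ≤ n := by
    rw [hd] at hdim
    exact_mod_cast hdim
  have hpd := Groth.Agent.S0563.result (X.presheaf.stalk x) d hd (F.presheaf.stalk x)
  have hpd' : HasProjectiveDimensionLT
      (ModuleCat.of (X.presheaf.stalk x) (F.presheaf.stalk x)) (n + 1) :=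
    hasProjectiveDimensionLT_of_ge _ (d + 1) _ (by omega)
  exact ModuleCat.subsingleton_of_isZero (isZero_tor_of_pd _ n _ hpd' p hp)

end Groth.Agent.S6500
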