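import Groth.Statements.S6509
import Groth.Agent.R2.H28GammaKey
import Groth.Agent.R2.H28MVScheme
import Groth.Agent.R2.H28HasRpush
import Groth.Agent.S6508

set_option autoImplicit false
universe u
open CategoryTheory
attribute [local instance] HasDerivedCategory.standard
open DCoh

namespace Groth.Agent.S6509

open AlgebraicGeometry CategoryTheory.Limits in
/-- `RΓ(Y, Rf_* E) ≅ RΓ(X, E)`: Grothendieck composition for `Γ(Y, -) ∘ f_* = Γ(X, -)`; the direct image of a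
K-injective complex is acyclic for global sections (`H28GammaKey.isIso_unitΓ_push`, via the derived
adjunction `Lf^* ⊣ Rf_*`). -/
theorem part1 {X Y : Scheme.{u}} (f : X ⟶ Y) [DCoh.HasRpush f] [DCoh.HasRΓ X] [DCoh.HasRΓ Y] :
    Nonempty (DCoh.Rpush f ⋙ DCoh.RΓ Y ≅ DCoh.RΓ X) := by
  open Groth.Agent.R2.H28.DerBase Groth.Agent.R2.H28.MVScheme Groth.Agent.R2.H28.GammaKey in
  classical
  haveI : DCoh.HasLpull f := Groth.Agent.Lib.Helper1.Sky.hasLpull f
  have h1 : (DCoh.Rpush f ⋙ DCoh.RΓ Y).IsRightDerivedFunctor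
      (compUnit (Scheme.Modules.pushforward f) (DCoh.Rpush f) (unitC f)
        (DCoh.gammaAb Y) (DCoh.RΓ Y) (unitΓ Y))
      (HomologicalComplex.quasiIso X.Modules (ComplexShape.up ℤ)) :=
    isRightDerivedFunctor_comp _ _ _ _ _ _ (fun I hI => by
      haveI := hI
      exact isIso_unitΓ_push f I)
  exact ⟨Functor.rightDerivedNatIso (DCoh.Rpush f ⋙ DCoh.RΓ Y) (DCoh.RΓ X)
    (compUnit (Scheme.Modules.pushforward f) (DCoh.Rpush f) (unitC f)
        (DCoh.gammaAb Y) (DCoh.RΓ Y) (unitΓ Y))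
    (unitΓ X)
    (HomologicalComplex.quasiIso X.Modules (ComplexShape.up ℤ))
    (Functor.isoWhiskerRight (NatIso.mapHomologicalComplex (pushGammaIso f) (ComplexShape.up ℤ))
      DerivedCategory.Q)⟩

open AlgebraicGeometry CategoryTheory.Limits in
/-- For a morphism of schemes f : X → Y, RΓ(Y, Rf_* E) ≅ RΓ(X, E) naturally in E ∈ D(O_X); more
generally for V ⊆ Y open and U = f⁻¹(V), RΓ(U, E|_U) ≅ RΓ(V, (Rf_* E)|_V). Both are asserted as the
existence of an isomorphism of functors into D(Ab), with the derived functors assumed to exist. (The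
published statement is for ringed spaces; this row is for schemes.) -/
theorem result {X Y : Scheme.{u}} (f : X ⟶ Y) (V : Y.Opens)
    [DCoh.HasRpush f] [DCoh.HasRΓ X] [DCoh.HasRΓ Y]
    [DCoh.HasRΓ (V : Scheme.{u})] [DCoh.HasRΓ (f ⁻¹ᵁ V : Scheme.{u})]
    [PreservesFiniteLimits (Scheme.Modules.restrictFunctor V.ι)]
    [PreservesFiniteLimits (Scheme.Modules.restrictFunctor (f ⁻¹ᵁ V).ι)] :
    Nonempty (DCoh.Rpush f ⋙ DCoh.RΓ Y ≅ DCoh.RΓ X) ∧
    Nonempty (DCoh.restrictD (f ⁻¹ᵁ V).ι ⋙ DCoh.RΓ (f ⁻¹ᵁ V : Scheme.{u}) ≅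
      DCoh.Rpush f ⋙ DCoh.restrictD V.ι ⋙ DCoh.RΓ (V : Scheme.{u})) := by
  haveI : DCoh.HasRpush (f ∣_ V) := Groth.Agent.R2.H28.HasRpush.hasRpush _
  refine ⟨part1 f, ?_⟩
  obtain ⟨e1⟩ := Groth.Agent.S6508.result f V
  obtain ⟨e2⟩ := part1 (f ∣_ V)
  exact ⟨(Functor.isoWhiskerLeft (DCoh.restrictD (f ⁻¹ᵁ V).ι) e2).symm ≪≫
    (Functor.associator _ _ _).symm ≪≫
    (Functor.isoWhiskerRight e1 (DCoh.RΓ (V : Scheme.{u}))).symm ≪≫
    Functor.associator _ _ _⟩

end Groth.Agent.S6509
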