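import Groth.Statements.S6514
import Groth.Agent.Lib.Helper26FpqcMod
import Groth.Agent.Lib.Helper16KInjAdj
import Groth.Agent.Lib.Helper21FlatCalc

set_option autoImplicit false
universe u
open CategoryTheory
open DCoh

namespace Groth.Agent.S6514

open AlgebraicGeometry in
/-- If f : X → Y is a flat morphism of schemes and I is a K-injective complex of O_X-modules, then f_* I
(direct image applied termwise) is a K-injective complex of O_Y-modules. (The published statement is
for flat morphisms of ringed spaces; this row is for flat morphisms of schemes.) -/
theorem result {X Y : Scheme.{u}} (f : X ⟶ Y) [Flat f]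
    (I : CochainComplex X.Modules ℤ) (hI : I.IsKInjective) :
    CochainComplex.IsKInjective (((Scheme.Modules.pushforward f).mapHomologicalComplex (ComplexShape.up ℤ)).obj I) := by
  have := hI
  have : (Scheme.Modules.pullback f).IsLeftAdjoint :=
    (Scheme.Modules.pullbackPushforwardAdjunction f).isLeftAdjoint
  have : (Scheme.Modules.pushforward f).IsRightAdjoint :=
    (Scheme.Modules.pullbackPushforwardAdjunction f).isRightAdjoint
  have : (Scheme.Modules.pullback f).Additive := inferInstance
  have : (Scheme.Modules.pushforward f).Additive := inferInstance
  have : (Scheme.Modules.pullback f).PreservesHomology := by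
    refine ((Functor.exact_tfae (Scheme.Modules.pullback f)).out 0 2).1 ?_
    intro S hS
    have h := Groth.Agent.Lib.Helper21.FlatCalc.exact_and_epi_of_rightExact
      (Scheme.Modules.pullback f) S hS
    have := hS.mono_f
    exact { exact := h.1
            mono_f := Groth.Agent.Lib.Helper26.FpqcMod.mono_pullback_of_flat f S.f
            epi_g := h.2 }
  exact Groth.Agent.Lib.Helper16.KInjAdj.isKInjective_map
    (Scheme.Modules.pullbackPushforwardAdjunction f) I

end Groth.Agent.S6514
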