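import Groth.Statements.S6516
import Groth.Agent.Lib.Helper1FLF1

set_option autoImplicit false
universe u
open CategoryTheory
open DCoh

namespace Groth.Agent.S6516

open CategoryTheory.Limits AlgebraicGeometry

attribute [local instance] Abelian.hasFiniteBiproducts

/-- a binary biproduct of finite locally free modules is finite locally free -/
theorem isFinLocFree_biprod {X : Scheme.{u}} (A B : X.Modules) (hA : FlatMod.IsFinLocFree A)
    (hB : FlatMod.IsFinLocFree B) : FlatMod.IsFinLocFree (A ⊞ B) := by
  have h : FlatMod.IsFinLocFree (⨁ (pairFunction A B)) :=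
    Groth.Agent.Lib.Helper1.FLF.isFinLocFree_biproduct (pairFunction A B) (fun j => by
      cases j
      · exact hA
      · exact hB)
  have e : (A ⊞ B) ≅ ⨁ (pairFunction A B) :=
    biproduct.uniqueUpToIso (pairFunction A B)
      ((BinaryBiproduct.bicone A B).toBiconeIsBilimit.symm (BinaryBiproduct.isBilimit A B))
  exact Groth.Agent.Lib.Helper1.FLF.isFinLocFree_of_iso e.symm h

end Groth.Agent.S6516

namespace Groth.Agent.S6516

open AlgebraicGeometry in
/-- Schemes; with the bounded finite-locally-free reading of strictly perfect used throughout this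
problem's derived-category definitions: the mapping cone of a morphism between strictly perfect
complexes of O_X-modules is strictly perfect. -/
theorem result {X : Scheme.{u}} {E F : CochainComplex X.Modules ℤ} (φ : E ⟶ F)
    (hE : DCoh.IsStrictlyPerfect E) (hF : DCoh.IsStrictlyPerfect F) :
    DCoh.IsStrictlyPerfect (CochainComplex.mappingCone φ) := by
  obtain ⟨⟨a1, b1, v1⟩, f1⟩ := hE
  obtain ⟨⟨a2, b2, v2⟩, f2⟩ := hF
  have hX : ∀ i : ℤ, Nonempty ((CochainComplex.mappingCone φ).X i ≅ (E.X (i + 1)) ⊞ (F.X i)) :=
    fun i => ⟨HomologicalComplex.homotopyCofiber.XIsoBiprod φ i (i + 1) (by simp)⟩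
  refine ⟨⟨min (a1 - 1) a2, max (b1 - 1) b2, ?_⟩, ?_⟩
  · intro i hi
    obtain ⟨e⟩ := hX i
    refine CategoryTheory.Limits.IsZero.of_iso ?_ e
    have h1 : CategoryTheory.Limits.IsZero (E.X (i + 1)) := by
      apply v1
      rcases hi with hi | hi
      · left
        have := min_le_left (a1 - 1) a2
        omega
      · right
        have := le_max_left (b1 - 1) b2
        omega
    have h2 : CategoryTheory.Limits.IsZero (F.X i) := by
      apply v2
      rcases hi with hi | hi
      · left
        have := min_le_right (a1 - 1) a2
        omega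
      · right
        have := le_max_right (b1 - 1) b2
        omega
    rw [CategoryTheory.Limits.IsZero.iff_id_eq_zero]
    apply CategoryTheory.Limits.biprod.hom_ext
    · exact h1.eq_of_tgt _ _
    · exact h2.eq_of_tgt _ _
  · intro i
    obtain ⟨e⟩ := hX i
    exact Groth.Agent.Lib.Helper1.FLF.isFinLocFree_of_iso e.symm
      (isFinLocFree_biprod _ _ (f1 (i + 1)) (f2 i))

end Groth.Agent.S6516
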