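import Groth.Statements.S6519
import Groth.Agent.R2.H28PerfLocal
import Groth.Agent.R2.H28Support
import Groth.Agent.R2.H28HasRpush
import Groth.Agent.S6508

set_option autoImplicit false
universe u
open CategoryTheory
attribute [local instance] HasDerivedCategory.standard
open DCoh

namespace Groth.Agent.S6519

open AlgebraicGeometry in
/-- Let j : U → X be the inclusion of an open subscheme, and let T ⊆ U be a closed subset whose image
j(T) is also closed in X. Suppose E in D(O_U) is perfect and every cohomology sheaf of E has support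
contained in T. In that case the derived pushforward Rj_*E is perfect as an object of D(O_X). (The
published statement is for ringed spaces; this row is for schemes.) -/
theorem result {X : Scheme.{u}} (U : X.Opens) [DCoh.HasRpush U.ι]
    (E : DCoh.D (U : Scheme.{u})) (hE : DCoh.IsPerfect E) (T : Set (U : Scheme.{u}))
    (hT : IsClosed T) (hjT : IsClosed ((fun x : (U : Scheme.{u}) => U.ι.base x) '' T))
    (hsupp : ∀ i : ℤ, CohB1.support (DCoh.HD E i) ⊆ T) :
    DCoh.IsPerfect ((DCoh.Rpush U.ι).obj E) := by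
  open Groth.Agent.R2.H28.PerfLocal Groth.Agent.R2.H28.Support Groth.Agent.R2.H28.DerBase
    CategoryTheory.Limits ZeroObject in
  classical
  haveI := pfl_extZero U
  let TX : Set X := (fun x : (U : Scheme.{u}) => U.ι.base x) '' T
  have hTU : TX ⊆ (U : Set X) := by
    rintro _ ⟨y, -, rfl⟩
    exact y.2
  -- `Rj_* E ≅ j_! E`, hence `(Rj_* E)|_U ≅ E`
  obtain ⟨e1⟩ := extZero_iso_rpush_of_support U TX hjT hTU E
    (fun i => Set.image_mono (hsupp i))
  have hU : DCoh.IsPerfect ((DCoh.restrictD U.ι).obj ((DCoh.Rpush U.ι).obj E)) :=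
    isPerfect_of_iso (((DCoh.restrictD U.ι).mapIso e1).symm ≪≫ restrictExtZeroIso U E).symm hE
  intro x
  by_cases hx : x ∈ U
  · exact isPerfectAt_of_restrict _ U hU x hx
  · -- outside `U`, hence outside `j(T)`: the restriction to the complement of `j(T)` vanishes
    let V : X.Opens := ⟨TXᶜ, hjT.isOpen_compl⟩
    have hxV : x ∈ V := fun h => hx (hTU h)
    refine ⟨V, hxV, fun F ⟨eF⟩ => ?_⟩
    haveI : DCoh.HasRpush (U.ι ∣_ V) := Groth.Agent.R2.H28.HasRpush.hasRpush _
    obtain ⟨e⟩ := Groth.Agent.S6508.result U.ι V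
    have h0 : IsZero ((DCoh.restrictD (U.ι ⁻¹ᵁ V).ι).obj E) :=
      isZero_restrictD_of_support (U.ι ⁻¹ᵁ V) E T hsupp (fun y hyT => y.2 ⟨_, hyT, rfl⟩)
    have h1 : IsZero ((DCoh.restrictD V.ι).obj ((DCoh.Rpush U.ι).obj E)) :=
      IsZero.of_iso (isZero_rpush_obj _ _ h0) (e.app E)
    have h2 : IsZero (DerivedCategory.Q.obj ((DCoh.restrictCx V).obj F)) :=
      IsZero.of_iso h1 (restrictIso V F ≪≫ (DCoh.restrictD V.ι).mapIso eF)
    refine ⟨0, isStrictlyPerfect_of_isZero _ (isZero_zero _), ⟨?_⟩⟩
    exact h2.iso (DerivedCategory.Q.map_isZero (isZero_zero _))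

end Groth.Agent.S6519
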