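import Groth.Statements.S6540
-- import your own Groth.Agent.* helpers here
import Groth.Agent.R2.H20GenusZero
import Groth.Agent.S1520
import Groth.Agent.S0002

set_option autoImplicit false
universe u
open CategoryTheory CategoryTheory.Limits AlgebraicGeometry
open Curves

namespace Groth.Agent.S6540

/-- Let X be a proper curve over the field k (proper, integral, of dimension one) with H^0(X, O_X) = k
and genus 0. Then every invertible O_X-module of degree 0 is trivial, i.e. isomorphic to O_X. -/
theorem result (k : Type u) [Field k] (X : Scheme.{u}) [X.Over (Spec (CommRingCat.of k))]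
    [IsIntegral X] [IsProper (X ↘ (Spec (CommRingCat.of k)))] (hdim : topologicalKrullDim X = 1)
    (h0 : Module.finrank k (Coh.HH X (Coh.structureModule X) 0) = 1) (hg : Curv2.genus k X = 0)
    (L : X.Modules) (hL : PicF.IsInvertible L) (hdeg : Curv2.deg k X L 1 = 0) :
    Nonempty (L ≅ Coh.structureModule X) := by
  have hdim' : topologicalKrullDim X ≤ 1 := hdim.le
  have hO : PicF.IsInvertible (Coh.structureModule X) :=
    Groth.Agent.Lib.Helper23.TensorUnit.isInvertible_structureModule X
  have hcO := Groth.Agent.R2.H62.CurveInv.isCoh_of_isInvertible hO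
  have hcL := Groth.Agent.R2.H62.CurveInv.isCoh_of_isInvertible hL
  have hχO := Groth.Agent.R2.H20.CurveDeg.euler_eq_sub (k := k) hdim' (Coh.structureModule X) hcO.1
  unfold Curv2.genus at hg
  rw [h0, hg] at hχO
  have hdeg' := hdeg
  unfold Curv2.deg at hdeg'
  have hχL : 0 < Curv2.euler k X L := by
    have : Curv2.euler k X L = 1 := by
      rw [hχO] at hdeg'
      push_cast at hdeg'
      linarith
    omega
  obtain ⟨s, hs⟩ := Groth.Agent.R2.H20.GenusZero.exists_section_of_euler_pos (k := k) hdim' L hcL.1 hχL
  exact Groth.Agent.S1520.result k X hdim L hL s hs hdeg.le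

end Groth.Agent.S6540
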