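import Groth.Statements.S6635
import Groth.Agent.R2.H47AlmostCocont

set_option autoImplicit false
open CategoryTheory CategoryTheory.Limits AlgebraicGeometry Opposite
universe u
open BigSite

namespace Groth.Agent.S6635

/-- For the etale and the smooth topologies: for a closed immersion of schemes f : X ⟶ Y the base change
functor V ↦ X ×_Y V from schemes over Y to schemes over X is almost cocontinuous between the big
sites: every covering sieve of X ×_Y V is answered by a covering sieve of V each of whose members
V_j either has X ×_Y V_j covered by the empty sieve or has X ×_Y V_j ⟶ X ×_Y V in the given sieve.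
(The published statement also covers the syntomic topology; this row treats the etale and smooth
topologies only.) -/
theorem result {X Y : Scheme.{u}} (f : X ⟶ Y) [IsClosedImmersion f]
    (K : Precoverage Scheme.{u}) (hK : K = Scheme.etalePrecoverage ∨ K = Scheme.precoverage @Smooth) :
    BigSite.IsAlmostCocontinuous (Over.pullback f) (QuotSh.J K Y) (QuotSh.J K X) := by
  rcases hK with rfl | rfl
  · exact Groth.Agent.R2.H47.AlmostCocont.isAlmostCocontinuous @Etale
      (fun _ _ g hg => by haveI : IsOpenImmersion g := hg; infer_instance)
      Groth.Agent.R2.H47.LiftProp.etale_hasLocalLifts f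
  · exact Groth.Agent.R2.H47.AlmostCocont.isAlmostCocontinuous @Smooth
      (fun _ _ g hg => by haveI : IsOpenImmersion g := hg; infer_instance)
      Groth.Agent.R2.H47.LiftProp.smooth_hasLocalLifts f

end Groth.Agent.S6635
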