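import Groth.Statements.S6643
import Groth.Agent.R2.H29EtLocConst
import Groth.Agent.R2.H29ConstTensor

set_option autoImplicit false
open CategoryTheory CategoryTheory.Limits AlgebraicGeometry Opposite
universe u
open EtModW

namespace Groth.Agent.S6643

/-- On the small etale site of a scheme X, the tensor product over Λ of two finite type locally constant
sheaves of Λ-modules is finite type locally constant. (The published statement covers all locally
constant sheaves of Λ-modules; this row treats the finite type ones.) -/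
theorem result (Λ : Type (u + 1)) [CommRing Λ] {X : Scheme.{u}} (F G : EtModW.Mod Λ X)
    (hF : EtModW.IsFTLocConst Λ F) (hG : EtModW.IsFTLocConst Λ G) :
    EtModW.IsFTLocConst Λ (((EtModD.tensorBi Λ X).obj F).obj G) := by
  obtain ⟨ι₁, U₁, hU₁, h₁⟩ := hF
  obtain ⟨ι₂, U₂, hU₂, h₂⟩ := hG
  have key : ∀ x : X, ∃ (W : X.Etale) (w : W.left), W.hom.base w = x ∧
      ∃ (M : Type (u + 1)) (_ : AddCommGroup M) (_ : Module Λ M) (_ : Module.Finite Λ M),
        Nonempty (EtModW.restr Λ (((EtModD.tensorBi Λ X).obj F).obj G) W ≅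
          (constantSheaf (X.smallEtaleTopology.over W) (ModuleCat.{u + 1} Λ)).obj (ModuleCat.of Λ M)) := by
    intro x
    obtain ⟨i, y₁, hy₁⟩ := hU₁ x
    obtain ⟨j, y₂, hy₂⟩ := hU₂ x
    obtain ⟨M, _, _, _, ⟨α₁⟩⟩ := h₁ i
    obtain ⟨N, _, _, _, ⟨β₁⟩⟩ := h₂ j
    obtain ⟨W, p₁, p₂, z, hz₁, hz₂⟩ := Groth.Agent.R2.H29.EtLocConst.exists_common (U₁ i) (U₂ j) y₁ y₂
      (hy₁.trans hy₂.symm)
    have hFW := (Groth.Agent.R2.H29.ConstSheaf.isTriv_of_iso X.smallEtaleTopology F (U₁ i) α₁).restrict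
      X.smallEtaleTopology p₁
    have hGW := (Groth.Agent.R2.H29.ConstSheaf.isTriv_of_iso X.smallEtaleTopology G (U₂ j) β₁).restrict
      X.smallEtaleTopology p₂
    have : ((X.smallEtaleTopology.over W).W (A := ModuleCat.{u + 1} Λ)).IsMonoidal :=
      GrothendieckTopology.W.monoidal (J := X.smallEtaleTopology.over W) (A := ModuleCat.{u + 1} Λ)
    obtain ⟨γ⟩ := Groth.Agent.R2.H29.ConstSheaf.nonempty_tensor_iso X.smallEtaleTopology W F G
      (ModuleCat.of Λ M) (ModuleCat.of Λ N) hFW.iso hGW.iso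
    refine ⟨W, z, ?_, TensorProduct Λ M N, inferInstance, inferInstance, inferInstance, ⟨γ⟩⟩
    rw [← hy₁, ← hz₁]
    have e : p₁.left ≫ (U₁ i).hom = W.hom := Over.w p₁.hom
    rw [← e]
    rfl
  choose W w hw hE using key
  exact ⟨X, W, fun x => ⟨x, w x, hw x⟩, hE⟩

end Groth.Agent.S6643
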