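import Groth.Statements.S6649
import Groth.Agent.Lib.Helper4VarDim2
import Groth.Agent.S0212
import Groth.Agent.S0214

set_option autoImplicit false
set_option linter.style.haveILetI false
universe u
open CategoryTheory CategoryTheory.Limits AlgebraicGeometry Opposite
open Curves

namespace Groth.Agent.S6649

/-- The systems version of property `C_1` implies the single-form version. -/
theorem isCr_one_of_isCi_one (K : Type u) [Field K] (h : Curves.IsCi K 1) : Curves.IsCr K 1 := by
  intro n d f hf hd hdn
  obtain ⟨a, ha, ha'⟩ := h 1 n (fun _ => f) (fun _ => d) (fun _ => hf) (fun _ => hd) (by simpa using hdn)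
  exact ⟨a, ha, ha' 0⟩

/-- For a local ring which is a field the residue map is bijective. -/
theorem residue_bijective_of_isField {R : Type u} [CommRing R] [IsLocalRing R] (hR : IsField R) :
    Function.Bijective (IsLocalRing.residue R) := by
  refine ⟨?_, IsLocalRing.residue_surjective⟩
  rw [injective_iff_map_eq_zero]
  intro a ha
  rw [IsLocalRing.residue_eq_zero_iff] at ha
  rwa [IsLocalRing.isField_iff_maximalIdeal_eq.mp hR, Ideal.mem_bot] at ha

/-- For a curve C over an algebraically closed field k (C integral of dimension one, separated and of
finite type over k) the Brauer group of the function field of C is zero: every finite-dimensional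
central division algebra over the function field has dimension one. -/
theorem result (k : Type u) [Field k] [IsAlgClosed k] (C : Scheme.{u})
    (f : C ⟶ Spec (CommRingCat.of k)) [IsSeparated f] [LocallyOfFiniteType f] [QuasiCompact f] [IsIntegral C]
    (hdim : topologicalKrullDim ↥C = 1)
    (D : Type u) [DivisionRing D] [Algebra ↑C.functionField D] [Algebra.IsCentral ↑C.functionField D]
    [FiniteDimensional ↑C.functionField D] : Module.finrank ↑C.functionField D = 1 := by
  letI : C.Over (Spec (CommRingCat.of k)) := ⟨f⟩
  haveI : LocallyOfFiniteType (C ↘ Spec (CommRingCat.of k)) := ‹LocallyOfFiniteType f›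
  letI := Curv2.resAlgebra k C (genericPoint C)
  letI algK : Algebra k C.functionField := Curv2.stalkAlgebra k C (genericPoint C)
  obtain ⟨n, hn, -⟩ := Groth.Agent.Lib.Helper4.VarDim.exists_dim_irreducible k C
  have hdim' := Groth.Agent.Lib.Helper4.VarDim.topologicalKrullDim_eq_of_irreducible k C n hn
  have hn1 : n = 1 := by
    rw [hdim] at hdim'
    exact_mod_cast hdim'.symm
  subst hn1
  -- the residue map at the generic point is a `k`-algebra isomorphism
  have hfield : IsField (C.presheaf.stalk (genericPoint C)) :=
    Field.toIsField (C.functionField)
  have hbij : Function.Bijective (IsLocalRing.residue (C.presheaf.stalk (genericPoint C))) :=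
    residue_bijective_of_isField hfield
  let e : C.functionField ≃ₐ[k] C.residueField (genericPoint C) :=
    AlgEquiv.ofBijective
      { toRingHom := IsLocalRing.residue (C.presheaf.stalk (genericPoint C))
        commutes' := fun c => rfl } hbij
  have htr : Algebra.trdeg k C.functionField = ((1 : ℕ) : Cardinal) := by
    rw [e.trdeg_eq]
    exact hn
  have hCi : Curves.IsCi C.functionField 1 := Groth.Agent.S0212.result k C.functionField 1 htr
  exact Groth.Agent.S0214.result C.functionField (isCr_one_of_isCi_one _ hCi) D

end Groth.Agent.S6649
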