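import Groth.Statements.S6659
import Groth.Agent.R2.H29DerClosed
import Groth.Agent.R2.H13RecollEquiv

set_option autoImplicit false
universe u
open CategoryTheory CategoryTheory.Limits AlgebraicGeometry Opposite
attribute [local instance] HasDerivedCategory.standard
open EtDual

namespace Groth.Agent.S6659

/-- Let i : Z → X be a closed immersion of schemes with open complement j : U → X. The direct image i_*
of abelian etale sheaves is exact (its right exactness is carried as an instance hypothesis), and
the induced functor D(Z_et) → D(X_et) is fully faithful; an object K of D(X_et) lies in its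
essential image if and only if every cohomology sheaf of K has zero restriction to U, i.e. K has
cohomology sheaves supported on Z. (The identification of the quasi-inverse with the derived functor
of sections supported on Z is not part of this row.) -/
theorem result {Z X U : Scheme.{u}} (i : Z ⟶ X)
    [IsClosedImmersion i] (j : U ⟶ X) [IsOpenImmersion j] (hZU : Set.range j = (Set.range i)ᶜ)
    [PreservesFiniteColimits (EtCoh.push i)] :
    ((EtCoh.push i).mapDerivedCategory.Full ∧ (EtCoh.push i).mapDerivedCategory.Faithful) ∧
      ∀ K : DCoh.DEt X,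
        (EtCoh.push i).mapDerivedCategory.essImage K ↔
          ∀ n : ℤ, IsZero ((EtCoh.pull j).obj (DCoh.HDEt K n)) := by
  have hU : Set.range j.base = (Set.range i.base)ᶜ := hZU
  have : (EtCoh.push i).Full := Groth.Agent.R2.H13.ClosedPush.push_full i
  have : (EtCoh.push i).Faithful := Groth.Agent.R2.H13.ClosedPush.push_faithful i
  have hI : ∀ G, IsIso ((EtCoh.pullPushAdj i).counit.app G) := fun G => inferInstance
  have : IsIso (EtCoh.pullPushAdj i).counit := NatIso.isIso_of_isIso_app _
  have : PreservesFiniteLimits (EtCoh.push i) := by
    have : PreservesLimitsOfSize.{0, 0} (EtCoh.push i) :=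
      (EtCoh.pullPushAdj i).rightAdjoint_preservesLimits
    infer_instance
  have : PreservesFiniteLimits (EtCoh.pull i) := Groth.Agent.R2.H13.Recoll.pull_preservesFiniteLimits i
  have : PreservesFiniteColimits (EtCoh.pull i) :=
    Groth.Agent.R2.H13.Recoll.pull_preservesFiniteColimits i
  have : (EtCoh.pull i).Additive := Groth.Agent.R2.H13.Recoll.pull_additive i
  have : PreservesFiniteLimits (EtCoh.pull j) := Groth.Agent.R2.H13.Recoll.pull_preservesFiniteLimits j
  have : PreservesFiniteColimits (EtCoh.pull j) :=
    Groth.Agent.R2.H13.Recoll.pull_preservesFiniteColimits j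
  have : (EtCoh.pull j).Additive := Groth.Agent.R2.H13.Recoll.pull_additive j
  refine ⟨Groth.Agent.R2.H29.DerClosed.full_faithful (EtCoh.pull i) (EtCoh.push i)
    (EtCoh.pullPushAdj i), fun K => ?_⟩
  exact Groth.Agent.R2.H29.DerClosed.essImage_iff (EtCoh.pull i) (EtCoh.push i)
    (EtCoh.pullPushAdj i) (EtCoh.pull j)
    (Groth.Agent.R2.H13.Recoll.isZero_pull_push i j hU)
    (fun H h1 h2 => Groth.Agent.R2.H13.Recoll.isZero_of_pull_restr i j hU H h1
      (h2.of_iso ((Groth.Agent.R2.H13.Recoll.rho' j).app H).symm)) K

end Groth.Agent.S6659
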