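import Groth.Statements.S6666
import Groth.Agent.R2.H92FieldPoint

set_option autoImplicit false
universe u
open CategoryTheory AlgebraicGeometry
open Lim

namespace Groth.Agent.S6666

open Groth.Agent.R2.H92.FieldPoint

section

variable {T : Scheme.{u}} (P : ∀ ⦃T' : Scheme.{u}⦄, (T' ⟶ T) → Prop)

/-- invariance under isomorphisms, from invariance under thickenings -/
theorem P_iso
    (h1 : ∀ ⦃T' T'' : Scheme.{u}⦄ (a : T' ⟶ T) (t : T'' ⟶ T') [IsClosedImmersion t] [Surjective t]
      [CompactSpace T'] [QuasiSeparatedSpace T'] [CompactSpace T''] [QuasiSeparatedSpace T''],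
      P (t ≫ a) ↔ P a)
    {T' T'' : Scheme.{u}} (a : T' ⟶ T) (e : T'' ⟶ T') [IsIso e] [CompactSpace T']
    [QuasiSeparatedSpace T'] : P (e ≫ a) ↔ P a := by
  haveI : CompactSpace T'' := QuasiCompact.compactSpace_of_compactSpace e
  haveI : QuasiSeparatedSpace T'' := quasiSeparatedSpace_of_quasiSeparated e
  exact h1 a e

/-- a point without proper generizations -/
theorem exists_no_generization (Z : Scheme.{u}) [Nonempty Z] :
    ∃ x : Z, ∀ y : Z, y ⤳ x → y = x := by
  obtain ⟨z⟩ := ‹Nonempty Z›
  have hirr : IsIrreducible (irreducibleComponent z) := isIrreducible_irreducibleComponent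
  have hcl : IsClosed (irreducibleComponent z) := isClosed_irreducibleComponent
  obtain ⟨x, hx⟩ := QuasiSober.sober hirr hcl
  refine ⟨x, fun y hy => ?_⟩
  have h1 : irreducibleComponent z ⊆ closure {y} := by
    rw [← hx.def]
    exact closure_minimal (Set.singleton_subset_iff.mpr hy.mem_closure) isClosed_closure
  have h2 : closure {y} = irreducibleComponent z :=
    eq_irreducibleComponent (isIrreducible_singleton.closure.isPreirreducible) h1
  have h3 : closure {y} = closure {x} := h2.trans hx.def.symm
  exact ((inseparable_iff_closure_eq.mpr h3).eq)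

/-- the spectrum of the local ring at a point without proper generizations is a single point -/
theorem fromSpecStalk_eq_of_no_generization (Z : Scheme.{u}) (x : Z)
    (hx : ∀ y : Z, y ⤳ x → y = x) (q q' : Spec (Z.presheaf.stalk x)) : q = q' := by
  have h : ∀ q : Spec (Z.presheaf.stalk x), Z.fromSpecStalk x q = x := by
    intro q
    apply hx
    have : Z.fromSpecStalk x q ∈ Set.range (Z.fromSpecStalk x) := ⟨q, rfl⟩
    rw [Scheme.range_fromSpecStalk] at this
    exact this
  exact (Z.fromSpecStalk x).isEmbedding.injective ((h q).trans (h q').symm)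

variable [CompactSpace T] [QuasiSeparatedSpace T]

theorem main
    (h1 : ∀ ⦃T' T'' : Scheme.{u}⦄ (a : T' ⟶ T) (t : T'' ⟶ T') [IsClosedImmersion t] [Surjective t]
      [CompactSpace T'] [QuasiSeparatedSpace T'] [CompactSpace T''] [QuasiSeparatedSpace T''],
      P (t ≫ a) ↔ P a)
    (h2 : ∀ ⦃I : Type u⦄ [SmallCategory I] [IsCofiltered I] (D : I ⥤ Over T) (c : Limits.Cone D)
      (_ : Limits.IsLimit c),
      (∀ (i j : I) (m : i ⟶ j), IsAffineHom (D.map m).left) →
      (∀ i, CompactSpace (D.obj i).left ∧ QuasiSeparatedSpace (D.obj i).left) →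
      (∀ i, P (D.obj i).hom) → P c.pt.hom)
    (h3 : ∀ ⦃T' Z V : Scheme.{u}⦄ (a : T' ⟶ T) [CompactSpace T'] [QuasiSeparatedSpace T']
      (i : Z ⟶ T') [IsClosedImmersion i]
      (j : V ⟶ T') [IsOpenImmersion j] [CompactSpace V],
      Set.range j = (Set.range i)ᶜ → P a → P (j ≫ a) ∨ P (i ≫ a))
    (hT : P (𝟙 T)) (hne : ∀ ⦃T' : Scheme.{u}⦄ (a : T' ⟶ T), P a → Nonempty T') :
    ∃ (K : Type u) (_ : Field K) (t : Spec (CommRingCat.of K) ⟶ T), P t := by
  classical
  -- Zorn's lemma on the ideal sheaves whose closed subscheme satisfies `P`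
  have hbot : P (⊥ : T.IdealSheafData).subschemeι := by
    have := (P_iso P h1 (𝟙 T) (⊥ : T.IdealSheafData).subschemeι).mpr hT
    rwa [Category.comp_id] at this
  obtain ⟨I₀, -, hI₀S, hI₀max⟩ := zorn_le_nonempty₀ {I : T.IdealSheafData | P I.subschemeι}
    (fun c hcS hc y hy => by
      refine ⟨sSup c, ?_, fun z hz => le_sSup hz⟩
      haveI : Nonempty (↥c)ᵒᵈ := ⟨OrderDual.toDual ⟨y, hy⟩⟩
      haveI : IsCodirectedOrder (↥c)ᵒᵈ := by
        constructor
        intro a b
        rcases hc.total (OrderDual.ofDual a).2 (OrderDual.ofDual b).2 with h | h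
        · exact ⟨b, h, le_rfl⟩
        · exact ⟨a, le_rfl, h⟩
      refine h2 (chainDiagram c) (chainCone c) (isLimitChainCone c) ?_ ?_ ?_
      · intro i j m
        have hw : ((chainDiagram c).map m).left ≫ (OrderDual.ofDual j).1.subschemeι =
            (OrderDual.ofDual i).1.subschemeι := Over.w ((chainDiagram c).map m)
        have hci : IsClosedImmersion
            (((chainDiagram c).map m).left ≫ (OrderDual.ofDual j).1.subschemeι) := by
          have h0 : IsClosedImmersion (OrderDual.ofDual i).1.subschemeι := inferInstance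
          rw [hw]; exact h0
        have h0 : IsClosedImmersion (OrderDual.ofDual j).1.subschemeι := inferInstance
        have : IsClosedImmersion ((chainDiagram c).map m).left :=
          @IsClosedImmersion.of_comp _ _ _ _ (OrderDual.ofDual j).1.subschemeι hci
            (by have : IsSeparated (OrderDual.ofDual j).1.subschemeι := inferInstance
                exact this)
        infer_instance
      · intro i
        have := qcqs_of_isClosedImmersion (OrderDual.ofDual i).1.subschemeι
        exact this
      · intro i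
        exact hcS (OrderDual.ofDual i).2) ⊥ hbot
  -- the minimal closed subscheme `Z`
  obtain ⟨hZc, hZqs⟩ := qcqs_of_isClosedImmersion I₀.subschemeι
  haveI : Nonempty I₀.subscheme := hne _ hI₀S
  -- Claim A: a closed subscheme of `Z` satisfying `P` is all of `Z`
  have claimA : ∀ {Z' : Scheme.{u}} (i : Z' ⟶ I₀.subscheme) [IsClosedImmersion i],
      P (i ≫ I₀.subschemeι) → IsIso i := by
    intro Z' i _ hP
    have hle : I₀ ≤ (i ≫ I₀.subschemeι).ker := by
      conv_lhs => rw [← Scheme.IdealSheafData.ker_subschemeι I₀]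
      exact Scheme.Hom.le_ker_comp _ _
    have hPJ : P (i ≫ I₀.subschemeι).ker.subschemeι := by
      have hfac := (i ≫ I₀.subschemeι).toImage_imageι
      obtain ⟨_, _⟩ := qcqs_of_isClosedImmersion (i ≫ I₀.subschemeι).ker.subschemeι
      refine (P_iso P h1 (i ≫ I₀.subschemeι).ker.subschemeι (i ≫ I₀.subschemeι).toImage).mp ?_
      rw [hfac]
      exact hP
    have hJle : (i ≫ I₀.subschemeι).ker ≤ I₀ := hI₀max hPJ hle
    exact IsClosedImmersion.isIso_of_ker_eq (i ≫ I₀.subschemeι) I₀.subschemeι i rfl
      (by rw [Scheme.IdealSheafData.ker_subschemeι]; exact le_antisymm hJle hle)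
  -- Claim B: every nonempty quasi-compact open of `Z` satisfies `P`
  have claimB : ∀ (U : I₀.subscheme.Opens), IsCompact (U : Set I₀.subscheme) →
      (U : Set I₀.subscheme).Nonempty → P (U.ι ≫ I₀.subschemeι) := by
    intro U hUc hUne
    haveI : CompactSpace U.toScheme := isCompact_iff_compactSpace.mp hUc
    let C : TopologicalSpace.Closeds I₀.subscheme := ⟨(U : Set I₀.subscheme)ᶜ, U.2.isClosed_compl⟩
    have hrange : Set.range U.ι =
        (Set.range (Scheme.IdealSheafData.vanishingIdeal C).subschemeι)ᶜ := by
      rw [Scheme.IdealSheafData.range_subschemeι,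
        Scheme.IdealSheafData.coe_support_vanishingIdeal, Scheme.Opens.range_ι]
      exact (compl_compl _).symm
    rcases h3 I₀.subschemeι (Scheme.IdealSheafData.vanishingIdeal C).subschemeι U.ι hrange hI₀S
      with h | h
    · exact h
    · exfalso
      have hiso := claimA _ h
      have hsurj : Function.Surjective (Scheme.IdealSheafData.vanishingIdeal C).subschemeι :=
        (Scheme.IdealSheafData.vanishingIdeal C).subschemeι.homeomorph.surjective
      obtain ⟨z, hz⟩ := hUne
      have hz' : z ∈ Set.range (Scheme.IdealSheafData.vanishingIdeal C).subschemeι := hsurj z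
      rw [Scheme.IdealSheafData.range_subschemeι,
        Scheme.IdealSheafData.coe_support_vanishingIdeal] at hz'
      exact hz' hz
  -- a point without proper generizations and an affine open neighbourhood
  obtain ⟨x, hxgen⟩ := exists_no_generization I₀.subscheme
  obtain ⟨_, ⟨U, hU, rfl⟩, hxU, -⟩ :=
    I₀.subscheme.isBasis_affineOpens.exists_subset_of_mem_open (Set.mem_univ x) isOpen_univ
  -- `P` holds on all the basic open neighbourhoods
  have hPa : ∀ a : Idx U x, P ((hU.basicOpen a.val).fromSpec ≫ I₀.subschemeι) := by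
    intro a
    have hB := claimB (I₀.subscheme.basicOpen a.val) (hU.basicOpen a.val).isCompact ⟨x, a.mem⟩
    haveI : IsAffine (I₀.subscheme.basicOpen a.val).toScheme := hU.basicOpen a.val
    rw [← (hU.basicOpen a.val).isoSpec_inv_ι, Category.assoc]
    exact (P_iso P h1 _ _).mpr hB
  -- pass to the limit
  haveI := isCofiltered_idx hxU
  have hPstalk : P (I₀.subscheme.fromSpecStalk x ≫ I₀.subschemeι) := by
    refine h2 (overFunctor hU I₀.subschemeι) (overCone hU I₀.subschemeι)
      (isLimitOverCone hU hxU I₀.subschemeι) ?_ ?_ ?_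
    · intro i j m
      show IsAffineHom (Spec.map _)
      infer_instance
    · intro i
      show CompactSpace (Spec _) ∧ QuasiSeparatedSpace (Spec _)
      exact ⟨inferInstance, inferInstance⟩
    · intro i
      exact hPa i
  -- the residue field
  have hcl : IsClosedImmersion (Spec.map (CommRingCat.ofHom
      (IsLocalRing.residue (I₀.subscheme.presheaf.stalk x)))) :=
    IsClosedImmersion.spec_of_surjective _ IsLocalRing.residue_surjective
  have hsurj : Surjective (Spec.map (CommRingCat.ofHom
      (IsLocalRing.residue (I₀.subscheme.presheaf.stalk x)))) :=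
    ⟨fun q => ⟨Classical.arbitrary _, fromSpecStalk_eq_of_no_generization _ x hxgen _ _⟩⟩
  exact ⟨IsLocalRing.ResidueField (I₀.subscheme.presheaf.stalk x), inferInstance,
    Spec.map (CommRingCat.ofHom (IsLocalRing.residue (I₀.subscheme.presheaf.stalk x))) ≫
      I₀.subscheme.fromSpecStalk x ≫ I₀.subschemeι, (h1 _ _).mpr hPstalk⟩

end

/-- Let T be a nonempty quasi-compact quasi-separated scheme and P a property of schemes over T (applied
to quasi-compact quasi-separated ones). Assume: (1) for every thickening T'' → T' (a surjective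
closed immersion) of quasi-compact quasi-separated schemes over T, P(T'') if and only if P(T'); (2)
if a scheme T' over T is a limit (in schemes over T) of a cofiltered system of quasi-compact
quasi-separated schemes over T with affine transition morphisms and P holds for every member, then
P(T'); (3) if T' is quasi-compact quasi-separated over T with P(T') and Z ⊂ T' is a closed subscheme
whose open complement V is quasi-compact, then P(V) or P(Z). Then P(T) implies P(Spec K → T) for
some field K and some morphism Spec K → T. (The published statement does not require T nonempty; for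
T empty and P identically true there is no morphism from the spectrum of a field to T, so
nonemptiness is assumed here.) -/
theorem result (T : Scheme.{u}) [CompactSpace T] [QuasiSeparatedSpace T]
    [Nonempty T] (P : ∀ ⦃T' : Scheme.{u}⦄, (T' ⟶ T) → Prop)
    (h1 : ∀ ⦃T' T'' : Scheme.{u}⦄ (a : T' ⟶ T) (t : T'' ⟶ T') [IsClosedImmersion t] [Surjective t]
      [CompactSpace T'] [QuasiSeparatedSpace T'] [CompactSpace T''] [QuasiSeparatedSpace T''], P (t ≫ a) ↔ P a)
    (h2 : ∀ ⦃I : Type u⦄ [SmallCategory I] [IsCofiltered I] (D : I ⥤ Over T) (c : Limits.Cone D) (_ : Limits.IsLimit c),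
      (∀ (i j : I) (m : i ⟶ j), IsAffineHom (D.map m).left) →
      (∀ i, CompactSpace (D.obj i).left ∧ QuasiSeparatedSpace (D.obj i).left) →
      (∀ i, P (D.obj i).hom) → P c.pt.hom)
    (h3 : ∀ ⦃T' Z V : Scheme.{u}⦄ (a : T' ⟶ T) [CompactSpace T'] [QuasiSeparatedSpace T'] (i : Z ⟶ T') [IsClosedImmersion i]
      (j : V ⟶ T') [IsOpenImmersion j] [CompactSpace V], Set.range j = (Set.range i)ᶜ → P a → P (j ≫ a) ∨ P (i ≫ a))
    (hT : P (𝟙 T)) :
    ∃ (K : Type u) (_ : Field K) (t : Spec (CommRingCat.of K) ⟶ T), P t := by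
  classical
  -- replace `P` by `P ∧ Nonempty`
  suffices h : ∃ (K : Type u) (_ : Field K) (t : Spec (CommRingCat.of K) ⟶ T),
      P t ∧ Nonempty (Spec (CommRingCat.of K)) by
    obtain ⟨K, hK, t, ht, -⟩ := h
    exact ⟨K, hK, t, ht⟩
  refine main (T := T) (fun T' a => P a ∧ Nonempty T') ?_ ?_ ?_ ⟨hT, inferInstance⟩
    (fun T' a h => h.2)
  · -- (1)
    intro T' T'' a t _ _ _ _ _ _
    refine ⟨fun h => ⟨(h1 a t).mp h.1, h.2.map t⟩, fun h => ⟨(h1 a t).mpr h.1, ?_⟩⟩
    obtain ⟨y⟩ := h.2
    obtain ⟨z, -⟩ := (‹Surjective t›).surj y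
    exact ⟨z⟩
  · -- (2)
    intro I _ _ D c hc haff hqcqs hP
    refine ⟨h2 D c hc haff hqcqs fun i => (hP i).1, ?_⟩
    haveI : IsConnected I := IsCofiltered.isConnected I
    haveI : ∀ {i j : I} (f : i ⟶ j), IsAffineHom ((D ⋙ Over.forget T).map f) :=
      fun {i j} f => haff i j f
    haveI : ∀ i, Nonempty ((D ⋙ Over.forget T).obj i) := fun i => (hP i).2
    haveI : ∀ i, CompactSpace ((D ⋙ Over.forget T).obj i) := fun i => (hqcqs i).1
    exact Scheme.nonempty_of_isLimit (D ⋙ Over.forget T) ((Over.forget T).mapCone c)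
      (Limits.isLimitOfPreserves (Over.forget T) hc)
  · -- (3)
    intro T' Z V a _ _ i _ j _ _ hrange hP
    obtain ⟨hPa, hT'ne⟩ := hP
    by_cases hV : Nonempty V
    · by_cases hZ : Nonempty Z
      · rcases h3 a i j hrange hPa with h | h
        · exact Or.inl ⟨h, hV⟩
        · exact Or.inr ⟨h, hZ⟩
      · -- `Z` is empty, so `j` is an isomorphism
        left
        have hsurj : Function.Surjective j := by
          rw [← Set.range_eq_univ, hrange]
          have : Set.range i = ∅ := by
            rw [Set.range_eq_empty_iff]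
            exact not_nonempty_iff.mp hZ
          rw [this, Set.compl_empty]
        haveI : Surjective j := ⟨hsurj⟩
        haveI : IsIso j := (isIso_iff_isOpenImmersion_and_epi_base j).mpr
          ⟨inferInstance, (TopCat.epi_iff_surjective _).mpr hsurj⟩
        exact ⟨(P_iso P h1 a j).mpr hPa, hV⟩
    · -- `V` is empty, so `i` is surjective
      right
      have hsurj : Function.Surjective i := by
        rw [← Set.range_eq_univ, ← compl_compl (Set.range i), ← hrange]
        have : Set.range j = ∅ := by
          rw [Set.range_eq_empty_iff]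
          exact not_nonempty_iff.mp hV
        rw [this, Set.compl_empty]
      haveI : Surjective i := ⟨hsurj⟩
      obtain ⟨_, _⟩ := qcqs_of_isClosedImmersion i
      refine ⟨(h1 a i).mpr hPa, ?_⟩
      obtain ⟨y⟩ := hT'ne
      obtain ⟨z, -⟩ := hsurj y
      exact ⟨z⟩

end Groth.Agent.S6666
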