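import Groth.Statements.S6829
import Mathlib.RingTheory.Extension.Presentation.Basic

set_option autoImplicit false
universe u
open Smoothing

namespace Groth.Agent.S6829

open TensorProduct MvPolynomial

section Helpers

variable {R A R' : Type u} [CommRing R] [CommRing A] [Algebra R A] [CommRing R'] [Algebra R R']

/-- Mathlib presentation attached to a marked presentation. -/
noncomputable def toPres (P : MarkedPresentation R A) : Algebra.Presentation R A (Fin P.n) (Fin P.m) where
  toGenerators := Algebra.Generators.ofAlgHom P.hom P.surj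
  relation := P.rel
  span_range_relation_eq_ker := by
    rw [← P.ker_eq, Algebra.Generators.ker_eq_ker_aeval_val]
    have : aeval (P.hom ∘ X) = P.hom := by ext; simp
    change _ = RingHom.ker (aeval (P.hom ∘ X))
    rw [this]; rfl

lemma toPres_val (P : MarkedPresentation R A) (i : Fin P.n) : (toPres P).val i = P.hom (X i) := rfl

/-- the base-changed surjection -/
noncomputable def homBC (P : MarkedPresentation R A) : MvPolynomial (Fin P.n) R' →ₐ[R'] R' ⊗[R] A :=
  aeval (fun i => (1 : R') ⊗ₜ[R] P.hom (X i))

lemma homBC_map (P : MarkedPresentation R A) (q : MvPolynomial (Fin P.n) R) :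
    homBC (R' := R') P (map (algebraMap R R') q) = (1 : R') ⊗ₜ[R] P.hom q := by
  induction q using MvPolynomial.induction_on with
  | C a =>
    have h1 : homBC (R' := R') P (map (algebraMap R R') (C a)) = (algebraMap R R' a) ⊗ₜ[R] (1 : A) := by
      simp [homBC, Algebra.TensorProduct.algebraMap_apply]
    have h2 : P.hom (C a) = algebraMap R A a := by rw [← MvPolynomial.algebraMap_eq, AlgHom.commutes]
    rw [h1, h2, Algebra.algebraMap_eq_smul_one, Algebra.algebraMap_eq_smul_one, TensorProduct.smul_tmul]
  | add p q hp hq => simp only [map_add, hp, hq, TensorProduct.tmul_add]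
  | mul_X p i hp =>
    simp only [map_mul, hp, map_X]
    simp [homBC]

lemma jacobianMinor_map {n m c : ℕ} (f : Fin m → MvPolynomial (Fin n) R) (rows : Fin c → Fin m)
    (cols : Fin c → Fin n) :
    jacobianMinor (fun j => map (algebraMap R R') (f j)) rows cols =
      map (algebraMap R R') (jacobianMinor f rows cols) := by
  unfold jacobianMinor
  rw [RingHom.map_det]
  congr 1
  ext j k
  simp [pderiv_map]

/-- base change of a marked presentation -/
@[reducible] noncomputable def baseChange (P : MarkedPresentation R A) : MarkedPresentation R' (R' ⊗[R] A) where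
  n := P.n
  m := P.m
  c := P.c
  hcn := P.hcn
  hcm := P.hcm
  rel j := map (algebraMap R R') (P.rel j)
  hom := homBC P
  surj := by
    have h := ((toPres P).baseChange R').toGenerators.algebraMap_surjective
    intro x
    obtain ⟨y, hy⟩ := h x
    exact ⟨y, hy⟩
  ker_eq := by
    have h := (toPres P).span_range_relation_eq_ker_baseChange R'
    exact h.symm

lemma baseChange_hom_jac (P : MarkedPresentation R A) (rows : Fin P.c → Fin P.m) (cols : Fin P.c → Fin P.n) :
    (baseChange (R' := R') P).hom (jacobianMinor (baseChange (R' := R') P).rel rows cols) =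
      (1 : R') ⊗ₜ[R] P.hom (jacobianMinor P.rel rows cols) := by
  change homBC P (jacobianMinor (fun j => MvPolynomial.map (algebraMap R R') (P.rel j)) rows cols) = _
  rw [jacobianMinor_map, homBC_map]

lemma killsTail_baseChange (P : MarkedPresentation R A) (a : A) (h : KillsTail P a) :
    KillsTail (baseChange (R' := R') P) ((1 : R') ⊗ₜ[R] a) := by
  intro (a'' : MvPolynomial (Fin P.n) R') ha'' (j : Fin P.m) hj
  obtain ⟨a₀, ha₀⟩ := P.surj a
  have h0 := h a₀ ha₀ j hj
  set φ := map (σ := Fin P.n) (algebraMap R R') with hφ
  have hker : a'' - φ a₀ ∈ Ideal.span (Set.range (baseChange (R' := R') P).rel) := by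
    rw [← (baseChange (R' := R') P).ker_eq, RingHom.mem_ker, map_sub]
    change (baseChange (R' := R') P).hom a'' - homBC P (φ a₀) = 0
    rw [ha'', homBC_map, ha₀, sub_self]
  have hrel : (baseChange (R' := R') P).rel j ∈ Ideal.span (Set.range (baseChange (R' := R') P).rel) :=
    Ideal.subset_span ⟨j, rfl⟩
  have h1 : (a'' - φ a₀) * (baseChange (R' := R') P).rel j ∈
      Ideal.span (Set.range (baseChange (R' := R') P).rel) ^ 2 := by
    rw [pow_two]; exact Ideal.mul_mem_mul hker hrel
  have h2 : φ (a₀ * P.rel j) ∈ Ideal.span ((baseChange (R' := R') P).rel '' {j' : Fin P.m | (j' : ℕ) < P.c}) ⊔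
      Ideal.span (Set.range (baseChange (R' := R') P).rel) ^ 2 := by
    have := Ideal.mem_map_of_mem φ h0
    rw [Ideal.map_sup, Ideal.map_pow, Ideal.map_span, Ideal.map_span, ← Set.image_comp, ← Set.range_comp] at this
    exact this
  have : a'' * (baseChange (R' := R') P).rel j = φ (a₀ * P.rel j) + (a'' - φ a₀) * (baseChange (R' := R') P).rel j := by
    rw [map_mul]; change _ = φ a₀ * φ (P.rel j) + (a'' - φ a₀) * φ (P.rel j); ring
  rw [this]
  exact Ideal.add_mem _ h2 (Ideal.mem_sup_right h1)

end Helpers

open TensorProduct in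
/-- Let A be a finitely presented R-algebra, R → R' a ring map and a ∈ A. If a is elementary standard,
resp. strictly standard, in A over R, then a ⊗ 1 is elementary standard, resp. strictly standard, in
A ⊗_R R' over R' (written here as 1 ⊗ a in R' ⊗_R A). -/
theorem result {R A R' : Type u} [CommRing R] [CommRing A] [Algebra R A]
    [Algebra.FinitePresentation R A] [CommRing R'] [Algebra R R'] (a : A) :
    (Smoothing.IsElementaryStandard R A a →
        Smoothing.IsElementaryStandard R' (R' ⊗[R] A) ((1 : R') ⊗ₜ[R] a)) ∧
      (Smoothing.IsStrictlyStandard R A a →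
        Smoothing.IsStrictlyStandard R' (R' ⊗[R] A) ((1 : R') ⊗ₜ[R] a)) := by
  constructor
  · rintro ⟨P, ⟨a', ha'⟩, hk⟩
    refine ⟨baseChange P, ⟨(1 : R') ⊗ₜ[R] a', ?_⟩, killsTail_baseChange P a hk⟩
    rw [baseChange_hom_jac, Algebra.TensorProduct.tmul_mul_tmul, mul_one, ← ha']
  · rintro ⟨P, ha, hk⟩
    refine ⟨baseChange P, ?_, killsTail_baseChange P a hk⟩
    have h1 := Ideal.mem_map_of_mem (Algebra.TensorProduct.includeRight (R := R) (A := R') (B := A)) ha
    rw [Ideal.map_span, ← Set.range_comp] at h1
    have h2 : (fun cols : Fin P.c → Fin P.n => (baseChange (R' := R') P).hom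
        (jacobianMinor (baseChange (R' := R') P).rel (Fin.castLE P.hcm) cols)) =
        (⇑(Algebra.TensorProduct.includeRight (R := R) (A := R') (B := A)) ∘
          fun cols => P.hom (jacobianMinor P.rel (Fin.castLE P.hcm) cols)) := by
      funext cols
      rw [baseChange_hom_jac]
      rfl
    change (1 : R') ⊗ₜ[R] a ∈ Ideal.span (Set.range (fun cols : Fin P.c → Fin P.n => (baseChange (R' := R') P).hom
        (jacobianMinor (baseChange (R' := R') P).rel (Fin.castLE P.hcm) cols)))
    rw [h2]
    exact h1

end Groth.Agent.S6829
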