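import Groth.Statements.S6831
import Groth.Agent.R2.H30RSDict
import Groth.Agent.R2.H30RSStalk

set_option autoImplicit false
universe u
open CategoryTheory CategoryTheory.Limits TopologicalSpace
open ModSite

namespace Groth.Agent.S6831

/-- Let (X, O) be a ringed space, φ : G → F a map of O-modules with F of finite type, and x a point such
that the map of stalks φ_x : G_x → F_x is surjective (stalks are taken at the point of the site of
opens of X given by x). Then φ|_U is surjective for some open neighbourhood U of x. -/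
theorem result {X : TopCat.{u}} (O : TopCat.Sheaf CommRingCat.{u} X)
    {G F : ModSite.Mod O} (φ : G ⟶ F) [SheafOfModules.IsFiniteType (R := ModSite.ringSh O) F] (x : X)
    (hx : Function.Surjective (ModSite.stalkMap (Opens.pointGrothendieckTopology x) φ).hom) :
    ∃ U : Opens X, x ∈ U ∧ Epi ((ModSite.restr O U).map φ) := by
  obtain ⟨U₀, hxU₀, n, s, hs⟩ := (Groth.Agent.R2.H30.RSDict.isFiniteType_iff (O := O) F).1 inferInstance x
  -- lift the germs of the generators
  have h1 : ∀ i : Fin n, ∃ (W : Opens X) (hW : W ≤ U₀) (_ : x ∈ W) (g : G.val.obj (Opposite.op W)),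
      (φ.val.app (Opposite.op W)).hom g = Groth.Agent.R2.H30.RSDict.res F hW (s i) := by
    intro i
    obtain ⟨m, hm⟩ := hx (Groth.Agent.R2.H30.RSStalk.gx F x U₀ hxU₀ (s i))
    obtain ⟨U₁, hxU₁, g, rfl⟩ := Groth.Agent.R2.H30.RSStalk.gx_surj G x m
    rw [Groth.Agent.R2.H30.RSStalk.stalkMap_gx, Groth.Agent.R2.H30.RSStalk.gx_eq_iff'] at hm
    obtain ⟨W, hW, hW', hxW, h⟩ := hm
    refine ⟨W, hW', hxW, Groth.Agent.R2.H30.RSDict.res G hW g, ?_⟩
    rw [Groth.Agent.R2.H30.RSDict.app_res]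
    exact h
  choose W hW hxW g hg using h1
  obtain ⟨W', hxW', hW'⟩ := Groth.Agent.R2.H30.RSDict.exists_nbhd_le x W hxW
  refine ⟨W' ⊓ U₀, ⟨hxW', hxU₀⟩, ?_⟩
  have hW'U : W' ⊓ U₀ ≤ U₀ := inf_le_right
  refine Groth.Agent.R2.H30.RSDict.epi_restr_of_locSpan φ _ (hs.res hW'U)
    (fun i => Groth.Agent.R2.H30.RSDict.res G (inf_le_left.trans (hW' i)) (g i)) ?_
  intro i
  rw [Groth.Agent.R2.H30.RSDict.app_res, hg, Groth.Agent.R2.H30.RSDict.res_res]

end Groth.Agent.S6831
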