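import Groth.Statements.S6832
import Groth.Agent.R2.H30RSKer

set_option autoImplicit false
universe u
open CategoryTheory CategoryTheory.Limits TopologicalSpace
open ModSite

namespace Groth.Agent.S6832

/-- On a ringed space (X, O), if θ : G → F is a surjective map of O-modules with G of finite type and F
of finite presentation, then Ker(θ) is of finite type. (Part (1) of the source is the case G = O^r.) -/
theorem result {X : TopCat.{u}} (O : TopCat.Sheaf CommRingCat.{u} X)
    {G F : ModSite.Mod O} (θ : G ⟶ F) [Epi θ] [SheafOfModules.IsFiniteType (R := ModSite.ringSh O) G]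
    [SheafOfModules.IsFinitePresentation (R := ModSite.ringSh O) F] : SheafOfModules.IsFiniteType (R := ModSite.ringSh O) (kernel θ) := by
  open Groth.Agent.R2.H30.RSDict Groth.Agent.R2.H30.GenSite Groth.Agent.R2.H30.RSFree
    Groth.Agent.R2.H30.RSKer Opposite in
  classical
  apply isFiniteType_of_locSpan (O := O)
  intro x
  obtain ⟨U₁, hx₁, I₀, I₁, _, _, ⟨P⟩⟩ := (isFinitePresentation_iff (O := O) F).1 inferInstance x
  obtain ⟨U₂, hx₂, n, g, hg⟩ := (isFiniteType_iff (O := O) G).1 inferInstance x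
  have hepi := (epi_iff (O := O) θ).1 inferInstance
  -- lifts of the generators of `F`
  have h1 : ∀ i : I₀, ∃ (W : Opens X) (hW : W ≤ U₁) (_ : x ∈ W) (l : G.val.obj (op W)),
      (θ.val.app (op W)).hom l = res F hW (P.s i) := by
    intro i
    obtain ⟨W, hW, hxW, a, ha⟩ := hepi U₁ (P.s i) x hx₁
    exact ⟨W, hW, hxW, a, ha⟩
  choose W hW hxW l hl using h1
  -- the images of the generators of `G`
  have h2 : ∀ j : Fin n, ∃ (W' : Opens X) (hW'₁ : W' ≤ U₁) (hW'₂ : W' ≤ U₂) (_ : x ∈ W')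
      (A : I₀ → Γr O W'), (θ.val.app (op W')).hom (res G hW'₂ (g j)) = ∑ i, A i • res F hW'₁ (P.s i) := by
    intro j
    obtain ⟨W', hW', hxW', hmem⟩ := P.span (U₁ ⊓ U₂) inf_le_left
      ((θ.val.app (op (U₁ ⊓ U₂))).hom (res G inf_le_right (g j))) x ⟨hx₁, hx₂⟩
    obtain ⟨A, hA⟩ := (Submodule.mem_span_range_iff_exists_fun _).1 hmem
    refine ⟨W', hW'.trans inf_le_left, hW'.trans inf_le_right, hxW', A, ?_⟩
    rw [hA, ← app_res, res_res]
  choose W' hW'₁ hW'₂ hxW' A hA using h2
  obtain ⟨V₁, hxV₁, hV₁⟩ := exists_nbhd_le x W hxW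
  obtain ⟨V₂, hxV₂, hV₂⟩ := exists_nbhd_le x W' hxW'
  let U : Opens X := V₁ ⊓ V₂ ⊓ (U₁ ⊓ U₂)
  have hxU : x ∈ U := ⟨⟨hxV₁, hxV₂⟩, ⟨hx₁, hx₂⟩⟩
  have hU₁ : U ≤ U₁ := inf_le_right.trans inf_le_left
  have hU₂ : U ≤ U₂ := inf_le_right.trans inf_le_right
  have hUW : ∀ i, U ≤ W i := fun i => (inf_le_left.trans inf_le_left).trans (hV₁ i)
  have hUW' : ∀ j, U ≤ W' j := fun j => (inf_le_left.trans inf_le_right).trans (hV₂ j)
  -- everything restricted to `U`
  let s' : I₀ → F.val.obj (op U) := fun i => res F hU₁ (P.s i)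
  let r' : I₁ → I₀ → Γr O U := fun k i => resR O hU₁ (P.r k i)
  let g' : Fin n → G.val.obj (op U) := fun j => res G hU₂ (g j)
  let l' : I₀ → G.val.obj (op U) := fun i => res G (hUW i) (l i)
  let A' : Fin n → I₀ → Γr O U := fun j i => resR O (hUW' j) (A j i)
  have hl' : ∀ i, (θ.val.app (op U)).hom (l' i) = s' i := by
    intro i
    show (θ.val.app (op U)).hom (res G (hUW i) (l i)) = res F hU₁ (P.s i)
    rw [app_res, hl, res_res]
  have hA' : ∀ j, (θ.val.app (op U)).hom (g' j) = ∑ i, A' j i • s' i := by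
    intro j
    have h3 := congrArg (res F (hUW' j)) (hA j)
    rw [← app_res, res_res, res_sum] at h3
    refine h3.trans (Finset.sum_congr rfl fun i _ => ?_)
    rw [res_smul, res_res]
  have hr' : RelSpan s' r' := (P.restrict hU₁).relSpan
  have hrel' : ∀ k, ∑ i, r' k i • s' i = 0 := (P.restrict hU₁).rel
  have hg' : LocSpan G U g' := hg.res hU₂
  -- the generators of the kernel
  let z := kerGen g' l' A' r'
  have hz : ∀ q, (θ.val.app (op U)).hom (z q) = 0 := by
    rintro (j | k)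
    · show (θ.val.app (op U)).hom (g' j - ∑ i, A' j i • l' i) = 0
      rw [map_sub, hA', map_sum, sub_eq_zero]
      refine Finset.sum_congr rfl fun i _ => ?_
      rw [map_smul, hl']
    · show (θ.val.app (op U)).hom (∑ i, r' k i • l' i) = 0
      rw [map_sum, ← hrel' k]
      refine Finset.sum_congr rfl fun i _ => ?_
      rw [map_smul, hl']
  let S' : ShortComplex (ModSite.Mod O) := ShortComplex.mk (kernel.ι θ) θ (kernel.condition _)
  have hS' : S'.Exact := ShortComplex.exact_of_f_is_kernel _ (kernelIsKernel θ)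
  have : Mono S'.f := inferInstanceAs (Mono (kernel.ι θ))
  have h4 : ∀ q, ∃ κ : (kernel θ).val.obj (op U), ((kernel.ι θ).val.app (op U)).hom κ = z q :=
    fun q => exists_app_eq_of_exact_of_mono S' hS' (op U) (z q) (hz q)
  choose κ hκ using h4
  refine ⟨U, hxU, Fin n ⊕ I₁, inferInstance, κ, ?_⟩
  apply locSpan_of_mono (kernel.ι θ) κ
  intro V hV w y hy
  have hw : (θ.val.app (op V)).hom (((kernel.ι θ).val.app (op V)).hom w) = 0 := by
    have : ((kernel.ι θ ≫ θ).val.app (op V)).hom w = 0 := by rw [kernel.condition]; rfl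
    exact this
  obtain ⟨W₀, hW₀, hyW₀, hmem⟩ := ker_locSpan θ g' hg' s' l' hl' A' hA' r' hr' V hV _ hw y hy
  refine ⟨W₀, hW₀, hyW₀, ?_⟩
  simp only [hκ]
  exact hmem

end Groth.Agent.S6832
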