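import Groth.Statements.S6836
import Groth.Agent.R2.H30RSStalkBasis

set_option autoImplicit false
universe u
open CategoryTheory CategoryTheory.Limits TopologicalSpace
open ModSite

namespace Groth.Agent.S6836

/-- On a ringed space (X, O), let r ≥ 0 and let φ : F → G be a map of O-modules which are both finite
locally free of rank r (every point has an open neighbourhood U with F|_U ≅ O_U^r, the free
O_U-module on r generators, and likewise for G). Then φ is an isomorphism if and only if it is
surjective. -/
theorem result {X : TopCat.{u}} (O : TopCat.Sheaf CommRingCat.{u} X) (r : ℕ)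
    {F G : ModSite.Mod O}
    (hF : ∀ x : X, ∃ U : Opens X, x ∈ U ∧
      Nonempty ((ModSite.restr O U).obj F ≅ SheafOfModules.free (ULift.{u} (Fin r))))
    (hG : ∀ x : X, ∃ U : Opens X, x ∈ U ∧
      Nonempty ((ModSite.restr O U).obj G ≅ SheafOfModules.free (ULift.{u} (Fin r))))
    (φ : F ⟶ G) : IsIso φ ↔ Epi φ := by
  open Groth.Agent.R2.H30.RSDict Groth.Agent.R2.H30.RSFree Groth.Agent.R2.H30.RSStalk
    Groth.Agent.R2.H30.RSStalkBasis in
  constructor
  · intro h
    infer_instance
  · intro hepi
    have hmono : Mono φ := by
      apply mono_of_stalkMap_injective (O := O)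
      intro x
      obtain ⟨UF, hxF, ⟨eF⟩⟩ := hF x
      obtain ⟨UG, hxG, ⟨eG⟩⟩ := hG x
      obtain ⟨tF, htF⟩ := exists_isBasis_of_iso (O := O) eF
      obtain ⟨tG, htG⟩ := exists_isBasis_of_iso (O := O) eG
      let bF := stalkBasis htF x hxF
      let bG := stalkBasis htG x hxG
      let e : ModSite.stalkAb (pt x) G ≃ₗ[ModSite.stalkRing (pt x) O] ModSite.stalkAb (pt x) F :=
        bG.equiv bF (Equiv.refl _)
      let f : ModSite.stalkAb (pt x) F →ₗ[ModSite.stalkRing (pt x) O] ModSite.stalkAb (pt x) F :=
        e.toLinearMap.comp (ModSite.stalkMap (pt x) φ).hom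
      have hsurj : Function.Surjective f :=
        e.surjective.comp (stalkMap_surjective_of_epi (O := O) x φ)
      have : Module.Finite (ModSite.stalkRing (pt x) O) (ModSite.stalkAb (pt x) F) :=
        Module.Finite.of_basis bF
      have hinj : Function.Injective f := OrzechProperty.injective_of_surjective_endomorphism f hsurj
      have hinj' : Function.Injective (⇑e ∘ ⇑(ModSite.stalkMap (pt x) φ).hom) := hinj
      exact Function.Injective.of_comp hinj'
    exact isIso_of_mono_of_epi φ

end Groth.Agent.S6836
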