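import Groth.Statements.S6839
import Groth.Agent.R2.H30RSDict

set_option autoImplicit false
universe u
open CategoryTheory CategoryTheory.Limits TopologicalSpace
open ModSite

namespace Groth.Agent.S6839

/-- On a ringed space (X, O), if 0 → F₁ → F₂ → F₃ → 0 is a short exact sequence of O-modules with F₁ and
F₃ of finite type, then F₂ is of finite type. (The first assertion of the source, that images of
finite type modules are of finite type, is not restated.) -/
theorem result {X : TopCat.{u}} (O : TopCat.Sheaf CommRingCat.{u} X)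
    (S : ShortComplex (ModSite.Mod O)) (hS : S.ShortExact) [SheafOfModules.IsFiniteType (R := ModSite.ringSh O) S.X₁]
    [SheafOfModules.IsFiniteType (R := ModSite.ringSh O) S.X₃] : SheafOfModules.IsFiniteType (R := ModSite.ringSh O) S.X₂ := by
  open Groth.Agent.R2.H30.RSDict Groth.Agent.R2.H30.GenSite Opposite in
  classical
  have : Mono S.f := hS.mono_f
  have : Epi S.g := hS.epi_g
  apply isFiniteType_of_locSpan (O := O)
  intro x
  obtain ⟨U₁, hxU₁, n, s, hs⟩ := (isFiniteType_iff (O := O) S.X₁).1 inferInstance x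
  obtain ⟨U₃, hxU₃, m, u, hu⟩ := (isFiniteType_iff (O := O) S.X₃).1 inferInstance x
  -- lift the generators of `X₃`
  have hepi := (epi_iff (O := O) S.g).1 inferInstance
  have h1 : ∀ j : Fin m, ∃ (W : Opens X) (hW : W ≤ U₃) (_ : x ∈ W) (a : S.X₂.val.obj (op W)),
      (S.g.val.app (op W)).hom a = res S.X₃ hW (u j) := by
    intro j
    obtain ⟨W, hW, hxW, a, ha⟩ := hepi U₃ (u j) x hxU₃
    exact ⟨W, hW, hxW, a, ha⟩
  choose W hW hxW ũ hũ using h1
  obtain ⟨W', hxW', hW'⟩ := exists_nbhd_le x W hxW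
  let U : Opens X := W' ⊓ U₁ ⊓ U₃
  have hU1 : U ≤ U₁ := inf_le_left.trans inf_le_right
  have hU3 : U ≤ U₃ := inf_le_right
  have hUW : ∀ j, U ≤ W j := fun j => (inf_le_left.trans inf_le_left).trans (hW' j)
  let t : Fin n ⊕ Fin m → S.X₂.val.obj (op U) :=
    Sum.elim (fun i => (S.f.val.app (op U)).hom (res S.X₁ hU1 (s i))) (fun j => res S.X₂ (hUW j) (ũ j))
  refine ⟨U, ⟨⟨hxW', hxU₁⟩, hxU₃⟩, Fin n ⊕ Fin m, inferInstance, t, ?_⟩
  intro V hV z y hy
  -- step 1: the image of `z` in `X₃`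
  obtain ⟨W₁, hW₁, hyW₁, hmem₁⟩ := hu V (hV.trans hU3) ((S.g.val.app (op V)).hom z) y hy
  obtain ⟨a, ha⟩ := (Submodule.mem_span_range_iff_exists_fun _).1 hmem₁
  -- step 2: correct `z`
  let z₁ : S.X₂.val.obj (op W₁) :=
    res S.X₂ hW₁ z - ∑ j, a j • res S.X₂ ((hW₁.trans hV).trans (hUW j)) (ũ j)
  have hz₁ : (S.g.val.app (op W₁)).hom z₁ = 0 := by
    simp only [z₁, map_sub, map_sum, map_smul]
    rw [app_res, ← ha, sub_eq_zero]
    refine Finset.sum_congr rfl fun j _ => ?_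
    rw [app_res, hũ, res_res]
  obtain ⟨b, hb⟩ := exists_app_eq_of_exact_of_mono S hS.exact (op W₁) z₁ hz₁
  -- step 3: `b` is locally a combination of the `s i`
  obtain ⟨W₂, hW₂, hyW₂, hmem₂⟩ := hs W₁ ((hW₁.trans hV).trans hU1) b y hyW₁
  refine ⟨W₂, hW₂.trans hW₁, hyW₂, ?_⟩
  have hz : res S.X₂ (hW₂.trans hW₁) z = res S.X₂ hW₂ z₁ +
      res S.X₂ hW₂ (∑ j, a j • res S.X₂ ((hW₁.trans hV).trans (hUW j)) (ũ j)) := by
    rw [← res_add, ← res_res S.X₂ hW₁ hW₂]
    congr 1
    simp only [z₁, sub_add_cancel]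
  rw [hz]
  refine Submodule.add_mem _ ?_ ?_
  · rw [← hb, ← app_res]
    have h3 := app_mem_span S.f _ hmem₂
    refine Submodule.span_mono ?_ h3
    rintro _ ⟨i, rfl⟩
    refine ⟨Sum.inl i, ?_⟩
    show res S.X₂ _ ((S.f.val.app (op U)).hom (res S.X₁ hU1 (s i))) = _
    rw [← app_res, res_res]
  · rw [res_sum]
    refine Submodule.sum_mem _ fun j _ => ?_
    rw [res_smul]
    refine Submodule.smul_mem _ _ (Submodule.subset_span ⟨Sum.inr j, ?_⟩)
    show res S.X₂ _ (res S.X₂ (hUW j) (ũ j)) = _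
    rw [res_res, res_res]

end Groth.Agent.S6839
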