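import Groth.Statements.S6846
import Groth.Agent.R2.H30RSClosedEmb

set_option autoImplicit false
universe u
open CategoryTheory CategoryTheory.Limits TopologicalSpace
open ModSite
open Groth.Agent.R2.H30

namespace Groth.Agent.S6846

/-- Let i : (Z, O_Z) → (X, O_X) be a morphism of ringed spaces. Suppose the underlying continuous map
embeds Z homeomorphically as a closed subset of X, and that the comorphism i♯ : O_X → i_*O_Z is
surjective as a map of sheaves (locally surjective). Then, given any O_Z-module F, finite type of F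
is equivalent to finite type of the pushforward O_X-module i_*F. -/
theorem result {Z X : TopCat.{u}} (i : Z ⟶ X)
    (O_Z : TopCat.Sheaf CommRingCat.{u} Z) (O_X : TopCat.Sheaf CommRingCat.{u} X)
    (c : O_X ⟶ ((TopologicalSpace.Opens.map i).sheafPushforwardContinuous CommRingCat.{u}
      (Opens.grothendieckTopology X) (Opens.grothendieckTopology Z)).obj O_Z)
    (hi : Topology.IsClosedEmbedding i) (hc : Sheaf.IsLocallySurjective c) (F : ModSite.Mod O_Z) :
    SheafOfModules.IsFiniteType (R := ModSite.ringSh O_X)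
        ((ModSite.RMor.ofFlat (TopologicalSpace.Opens.map i) c).push.obj F) ↔
      SheafOfModules.IsFiniteType (R := ModSite.ringSh O_Z) F := by
  rw [RSDict.isFiniteType_iff, RSDict.isFiniteType_iff]
  constructor
  · intro h z
    obtain ⟨V, hV, n, s, hs⟩ := h (i z)
    exact ⟨RSPullGen.pre i V, hV, n, _, RSClosedEmb.locSpan_of_push i O_Z O_X c F hi.isInducing V s hs⟩
  · intro h x
    by_cases hx : x ∈ Set.range i
    · obtain ⟨z, rfl⟩ := hx
      obtain ⟨U, hzU, n, s, hs⟩ := h z
      obtain ⟨V, -, e⟩ := RSClosedEmb.exists_pre_eq i hi.isInducing (V := ⊤) U (fun _ _ => trivial)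
      have hzV : i z ∈ V := by
        have : z ∈ RSPullGen.pre i V := by rw [e]; exact hzU
        exact this
      exact ⟨V, hzV, n, _, RSClosedEmb.locSpan_push i O_Z O_X c F hi hc V _ (hs.res (le_of_eq e))⟩
    · let V₀ : Opens X := ⟨(Set.range i)ᶜ, hi.isClosed_range.isOpen_compl⟩
      refine ⟨V₀, hx, 0, _, RSClosedEmb.locSpan_push i O_Z O_X c F hi hc V₀ (fun j => Fin.elim0 j) ?_⟩
      intro U' hU' τ z' hz'
      exact ((hU' hz') ⟨z', rfl⟩).elim

end Groth.Agent.S6846
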