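import Groth.Statements.S6858
import Groth.Agent.R2.H30RSRank

set_option autoImplicit false
universe u
open CategoryTheory CategoryTheory.Limits TopologicalSpace
open ModSite

namespace Groth.Agent.S6858

/-- Let (X, O) be a ringed space all of whose stalks O_{X,x} are nonzero rings and F a locally free
O-module. Then there is a locally constant function rank_F : X → ℕ ∪ {∞} such that for every point
x, every open neighbourhood U of x and every index set I with F|_U ≅ ⊕_{i ∈ I} O_U, the cardinality
of I (a natural number or ∞) is rank_F(x). -/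
theorem result {X : TopCat.{u}} (O : TopCat.Sheaf CommRingCat.{u} X)
    (hO : ∀ x : X, Nontrivial (O.presheaf.stalk x)) (F : ModSite.Mod O)
    [SheafOfModules.IsLocallyFree (R := ModSite.ringSh O) F] :
    ∃ rk : X → ℕ∞, IsLocallyConstant rk ∧
      ∀ (x : X) (U : Opens X) (I : Type u), x ∈ U →
        Nonempty ((ModSite.restr O U).obj F ≅ SheafOfModules.free I) → ENat.card I = rk x := by
  open Groth.Agent.R2.H30.RSDict Groth.Agent.R2.H30.RSStalk Groth.Agent.R2.H30.RSRank in
  classical
  let rk : X → ℕ∞ := fun x => Cardinal.toENat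
    (Module.rank (ModSite.stalkRing (pt x) O) (ModSite.stalkAb (pt x) F))
  have key : ∀ (x : X) (U : Opens X) (I : Type u), x ∈ U →
      Nonempty ((ModSite.restr O U).obj F ≅ SheafOfModules.free I) → ENat.card I = rk x := by
    intro x U I hxU ⟨e⟩
    obtain ⟨t, ht⟩ := exists_isBasis'_of_iso (O := O) e
    let b := stalkBasis' ht x hxU
    have : Nontrivial (ModSite.stalkRing (pt x) O) := by
      have := hO x
      exact (Groth.Agent.R2.H30.StalkCmp.ρ x O).toEquiv.nontrivial
    show Cardinal.toENat (Cardinal.mk I) = Cardinal.toENat _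
    rw [b.mk_eq_rank'']
  refine ⟨rk, ?_, key⟩
  rw [IsLocallyConstant.iff_exists_open]
  intro x
  obtain ⟨q, hq⟩ := SheafOfModules.IsLocallyFree.exists_isLocallyFreeData (R := ModSite.ringSh O) (M := F)
  obtain ⟨i, hi⟩ := (coversTop_iff q.X).1 q.coversTop x
  have := hq.isIso i
  let e : (ModSite.restr O (q.X i)).obj F ≅ SheafOfModules.free (q.generators i).I :=
    (asIso (q.generators i).π).symm
  refine ⟨(q.X i : Set X), (q.X i).2, hi, fun y hy => ?_⟩
  rw [← key y (q.X i) _ hy ⟨e⟩, ← key x (q.X i) _ hi ⟨e⟩]

end Groth.Agent.S6858
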