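import Groth.Statements.S6918
import Groth.Agent.R2.H30FlatLoc

set_option autoImplicit false
universe u
open FlatMor

namespace Groth.Agent.S6918

open TensorProduct

section aux

variable {R S R' S' : Type u} [CommRing R] [CommRing S] [CommRing R'] [CommRing S']
    [Algebra R S] [Algebra R R'] [Algebra S S'] [Algebra R' S'] [Algebra R S'] [IsScalarTower R S S']
    [IsScalarTower R R' S'] [Algebra.IsPushout R S R' S']
    {M M' : Type u} [AddCommGroup M] [Module S M] [Module R M] [IsScalarTower R S M]
    [AddCommGroup M'] [Module S' M'] [Module R' M'] [IsScalarTower R' S' M'] [Module S M'] [IsScalarTower S S' M']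

/-- every element of `S' ⊗[S] M_q` becomes, after multiplication by some `s ∉ q`, the image of an element
of `S' ⊗[S] M`. -/
theorem exists_smul_eq_lTensor (T : Submonoid S) (n : S' ⊗[S] LocalizedModule T M) :
    ∃ (s : T) (x : S' ⊗[S] M),
      (s : S) • n = (LocalizedModule.mkLinearMap T M).lTensor S' x := by
  induction n using TensorProduct.induction_on with
  | zero => exact ⟨1, 0, by simp⟩
  | tmul a y =>
    induction y using LocalizedModule.induction_on with
    | h m s =>
      refine ⟨s, a ⊗ₜ m, ?_⟩
      rw [LinearMap.lTensor_tmul, TensorProduct.smul_tmul', TensorProduct.smul_tmul]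
      congr 1
      rw [LocalizedModule.mkLinearMap_apply, LocalizedModule.smul'_mk]
      exact LocalizedModule.mk_cancel s m
  | add n₁ n₂ h₁ h₂ =>
    obtain ⟨s₁, x₁, e₁⟩ := h₁
    obtain ⟨s₂, x₂, e₂⟩ := h₂
    refine ⟨s₁ * s₂, (s₂ : S) • x₁ + (s₁ : S) • x₂, ?_⟩
    rw [smul_add, map_add, map_smul, map_smul, ← e₁, ← e₂, Submonoid.coe_mul, mul_smul, mul_smul,
      smul_comm (s₁ : S) (s₂ : S) n₁]


/-- the core: flatness over `R` of `M_q` (`q` the contraction of `q'`) implies flatness over `R'` of
`M'_{q'}`. -/
theorem flat_localizedModule_of_comap (q' : Ideal S') [q'.IsPrime]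
    (f : M →ₗ[S] M') (hf : IsBaseChange S' f)
    (hflat : Module.Flat R (LocalizedModule (q'.comap (algebraMap S S')).primeCompl M)) :
    Module.Flat R' (LocalizedModule q'.primeCompl M') := by
  set T : Submonoid S := (q'.comap (algebraMap S S')).primeCompl with hT
  have : Algebra.IsPushout R R' S S' := Algebra.IsPushout.symm inferInstance
  have hN : Module.Flat R' (S' ⊗[S] LocalizedModule T M) :=
    Module.Flat.of_linearEquiv (Algebra.IsPushout.cancelBaseChange R R' S S' (LocalizedModule T M))
  have hmemT : ∀ x : T, algebraMap S S' x ∈ q'.primeCompl := fun x => x.2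
  have hunits : ∀ x : T,
      IsUnit (algebraMap S (Module.End S (LocalizedModule q'.primeCompl M')) x) := by
    intro x
    have h1 := IsLocalizedModule.map_units (LocalizedModule.mkLinearMap q'.primeCompl M')
      ⟨algebraMap S S' x, hmemT x⟩
    rw [Module.End.isUnit_iff] at h1 ⊢
    convert h1 using 1
    ext n
    simp [Module.algebraMap_end_apply]
  let ψ : LocalizedModule T M →ₗ[S] LocalizedModule q'.primeCompl M' :=
    IsLocalizedModule.lift T (LocalizedModule.mkLinearMap T M)
      (((LocalizedModule.mkLinearMap q'.primeCompl M').restrictScalars S).comp f) hunits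
  have hψ : ∀ m : M, ψ (LocalizedModule.mkLinearMap T M m) =
      LocalizedModule.mkLinearMap q'.primeCompl M' (f m) := fun m =>
    IsLocalizedModule.lift_apply T (LocalizedModule.mkLinearMap T M) _ hunits m
  let g : S' ⊗[S] LocalizedModule T M →ₗ[S'] LocalizedModule q'.primeCompl M' :=
    (TensorProduct.isBaseChange S (LocalizedModule T M) S').lift ψ
  have hg_tmul : ∀ (a : S') (y : LocalizedModule T M), g (a ⊗ₜ y) = a • ψ y := by
    intro a y
    have : (a ⊗ₜ[S] y : S' ⊗[S] LocalizedModule T M) = a • (TensorProduct.mk S S' _ 1 y) := by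
      simp [TensorProduct.smul_tmul']
    rw [this, map_smul]
    congr 1
    exact (TensorProduct.isBaseChange S (LocalizedModule T M) S').lift_eq ψ y
  -- compatibility of `g` with the base change equivalence
  have hg_comp : ∀ x : S' ⊗[S] M, g ((LocalizedModule.mkLinearMap T M).lTensor S' x) =
      LocalizedModule.mkLinearMap q'.primeCompl M' (hf.equiv x) := by
    intro x
    induction x using TensorProduct.induction_on with
    | zero => simp
    | tmul a m =>
      rw [LinearMap.lTensor_tmul, hg_tmul, hψ, hf.equiv_tmul, map_smul]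
    | add x y hx hy => rw [map_add, map_add, hx, hy, map_add, map_add]
  have hg : IsLocalizedModule q'.primeCompl g := by
    refine IsLocalizedModule.mk ?_ ?_ ?_
    · exact IsLocalizedModule.map_units (LocalizedModule.mkLinearMap q'.primeCompl M')
    · intro y
      obtain ⟨⟨m', t⟩, hmt⟩ := IsLocalizedModule.surj q'.primeCompl
        (LocalizedModule.mkLinearMap q'.primeCompl M') y
      refine ⟨⟨(LocalizedModule.mkLinearMap T M).lTensor S' (hf.equiv.symm m'), t⟩, ?_⟩
      simp only at hmt ⊢
      rw [hg_comp, LinearEquiv.apply_symm_apply, hmt]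
    · intro n₁ n₂ hn
      obtain ⟨s, x, hx⟩ := exists_smul_eq_lTensor T (n₁ - n₂)
      have h0 : g ((LocalizedModule.mkLinearMap T M).lTensor S' x) = 0 := by
        rw [← hx, ← algebraMap_smul S' (s : S) (n₁ - n₂), map_smul, map_sub, hn, sub_self, smul_zero]
      rw [hg_comp] at h0
      obtain ⟨t, ht⟩ := (IsLocalizedModule.eq_zero_iff q'.primeCompl
        (LocalizedModule.mkLinearMap q'.primeCompl M')).1 h0
      have ht' : t • x = 0 := by
        apply hf.equiv.injective
        rw [map_zero, ← ht]
        exact map_smul hf.equiv (t : S') x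
      refine ⟨t * ⟨algebraMap S S' s, hmemT s⟩, ?_⟩
      rw [← sub_eq_zero, Submonoid.smul_def, Submonoid.smul_def, ← smul_sub, Submonoid.coe_mul,
        mul_smul]
      have : (algebraMap S S' s) • (n₁ - n₂) = (s : S) • (n₁ - n₂) :=
        algebraMap_smul S' (s : S) (n₁ - n₂)
      have hlin : ∀ (a : S') (z : S' ⊗[S] M), (LocalizedModule.mkLinearMap T M).lTensor S' (a • z) =
          a • (LocalizedModule.mkLinearMap T M).lTensor S' z := by
        intro a z
        induction z using TensorProduct.induction_on with
        | zero => simp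
        | tmul b m => simp [TensorProduct.smul_tmul']
        | add z₁ z₂ h₁ h₂ => rw [smul_add, map_add, h₁, h₂, map_add, smul_add]
      rw [this, hx, ← hlin]
      rw [show (t : S') • x = t • x from rfl, ht', map_zero]
  exact Groth.Agent.R2.H30.FlatLoc.flat_of_isLocalizedModule q'.primeCompl g

end aux

/-- Let `R → S` be a ring map, `J ⊆ S` an ideal, `M` an `S`-module, `I ⊆ R` an ideal, `R → R'` a ring
map and `I' ⊇ IR'`; put `S' = S ⊗_R R'`, `M' = M ⊗_R R'`. If `M_𝔮` is flat over `R` for all primes
`𝔮 ⊇ IS + J` of `S`, then `M'_{𝔮'}` is flat over `R'` for all primes `𝔮' ⊇ I'S' + JS'` of `S'`. (The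
published statement passes from an arbitrary pair `(R', I')` over `R` to a further pair `(R'',
I'')`; this row takes the first pair to be `(R, I)`.) -/
theorem result {R S R' S' : Type u} [CommRing R] [CommRing S] [CommRing R'] [CommRing S']
    [Algebra R S] [Algebra R R'] [Algebra S S'] [Algebra R' S'] [Algebra R S'] [IsScalarTower R S S']
    [IsScalarTower R R' S'] [Algebra.IsPushout R S R' S']
    (I : Ideal R) (I' : Ideal R') (hII' : I.map (algebraMap R R') ≤ I')
    {M M' : Type u} [AddCommGroup M] [Module S M] [Module R M] [IsScalarTower R S M]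
    [AddCommGroup M'] [Module S' M'] [Module R' M'] [IsScalarTower R' S' M'] [Module S M'] [IsScalarTower S S' M']
    (f : M →ₗ[S] M') (hf : IsBaseChange S' f) (J : Ideal S)
    (h : (∀ (q : Ideal S) [q.IsPrime], I.map (algebraMap R S) ⊔ J ≤ q → FlatCA.FlatAt R q M)) :
    (∀ (q : Ideal S') [q.IsPrime], I'.map (algebraMap R' S') ⊔ J.map (algebraMap S S') ≤ q → FlatCA.FlatAt R' q M') := by
  intro q' _ hq'
  -- the contraction of `q'` to `S`
  have hqle : I.map (algebraMap R S) ⊔ J ≤ q'.comap (algebraMap S S') := by
    refine sup_le ?_ ?_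
    · rw [Ideal.map_le_iff_le_comap]
      intro r hr
      change algebraMap S S' (algebraMap R S r) ∈ q'
      rw [← IsScalarTower.algebraMap_apply, IsScalarTower.algebraMap_apply R R' S']
      exact hq' (Ideal.mem_sup_left (Ideal.mem_map_of_mem _ (hII' (Ideal.mem_map_of_mem _ hr))))
    · exact Ideal.le_comap_of_map_le (le_sup_right.trans hq')
  have hflat : Module.Flat R (LocalizedModule (q'.comap (algebraMap S S')).primeCompl M) :=
    h (q'.comap (algebraMap S S')) hqle
  exact flat_localizedModule_of_comap q' f hf hflat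

end Groth.Agent.S6918
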