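import Groth.Statements.S6966
import Mathlib
import Groth.Agent.S7077

set_option autoImplicit false
universe u
open CategoryTheory CategoryTheory.Limits
attribute [local instance] HasDerivedCategory.standard
open CAlg

namespace Groth.Agent.S6966

open DerivedCategory Pretriangulated

section aux

variable {R : Type u} [CommRing R]

/-- If `a` kills the class of a short exact sequence `0 → K → F → M → 0` in `Hom(M[0], K[1])`,
then `a` on `K` extends to a map `F → K`. -/
lemma exists_factor_of_smul_singleδ_eq_zero {S : ShortComplex (ModuleCat.{u} R)} (hS : S.ShortExact)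
    (a : R) (h : a • hS.singleδ = 0) :
    ∃ h' : S.X₂ ⟶ S.X₁, S.f ≫ h' = a • 𝟙 S.X₁ := by
  have hT := rot_of_distTriang _ hS.singleTriangle_distinguished
  have hp : hS.singleδ ≫ (a • 𝟙 (((singleFunctor (ModuleCat.{u} R) 0).obj S.X₁)⟦(1 : ℤ)⟧)) = 0 := by
    rw [Linear.comp_smul, Category.comp_id]
    exact h
  obtain ⟨γ, hγ⟩ : ∃ γ : ((singleFunctor (ModuleCat.{u} R) 0).obj S.X₂)⟦(1 : ℤ)⟧ ⟶
      ((singleFunctor (ModuleCat.{u} R) 0).obj S.X₁)⟦(1 : ℤ)⟧,
      a • 𝟙 (((singleFunctor (ModuleCat.{u} R) 0).obj S.X₁)⟦(1 : ℤ)⟧) =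
        (-((singleFunctor (ModuleCat.{u} R) 0).map S.f)⟦(1 : ℤ)⟧') ≫ γ :=
    Triangle.yoneda_exact₃ _ hT _ hp
  obtain ⟨γ₀, hγ₀⟩ : ∃ γ₀ : (singleFunctor (ModuleCat.{u} R) 0).obj S.X₂ ⟶
      (singleFunctor (ModuleCat.{u} R) 0).obj S.X₁, γ₀⟦(1 : ℤ)⟧' = γ :=
    (shiftFunctor (DerivedCategory (ModuleCat.{u} R)) (1 : ℤ)).map_surjective _
  obtain ⟨h', hh'⟩ : ∃ h' : S.X₂ ⟶ S.X₁,
      (singleFunctor (ModuleCat.{u} R) 0).map h' = γ₀ :=
    (singleFunctor (ModuleCat.{u} R) 0).map_surjective _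
  refine ⟨-h', ?_⟩
  apply (singleFunctor (ModuleCat.{u} R) 0).map_injective
  apply (shiftFunctor (DerivedCategory (ModuleCat.{u} R)) (1 : ℤ)).map_injective
  rw [Functor.map_comp, Functor.map_comp, Functor.map_neg, Functor.map_neg, hh', hγ₀,
    Functor.map_smul, Functor.map_smul, CategoryTheory.Functor.map_id, CategoryTheory.Functor.map_id,
    hγ, Preadditive.neg_comp, Preadditive.comp_neg]

/-- From `f ≫ h' = a • 𝟙` for a short exact sequence `0 → K → F → M → 0`, multiplication by `a` on `M`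
factors through `F`. -/
lemma exists_section_of_factor {S : ShortComplex (ModuleCat.{u} R)} (hS : S.ShortExact)
    (a : R) (h' : S.X₂ ⟶ S.X₁) (hh' : S.f ≫ h' = a • 𝟙 S.X₁) :
    ∃ ψ : S.X₃ ⟶ S.X₂, ψ ≫ S.g = a • 𝟙 S.X₃ := by
  have := hS.epi_g
  have hz : S.f ≫ (a • 𝟙 S.X₂ - h' ≫ S.f) = 0 := by
    rw [Preadditive.comp_sub, Linear.comp_smul, Category.comp_id, ← Category.assoc, hh',
      Linear.smul_comp, Category.id_comp, sub_self]
  obtain ⟨ψ, hψ⟩ : ∃ ψ : S.X₃ ⟶ S.X₂, S.g ≫ ψ = a • 𝟙 S.X₂ - h' ≫ S.f :=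
    ⟨hS.exact.desc _ hz, hS.exact.g_desc _ hz⟩
  refine ⟨ψ, ?_⟩
  rw [← cancel_epi S.g, ← Category.assoc, hψ, Preadditive.sub_comp, Category.assoc, S.zero,
    comp_zero, sub_zero, Linear.smul_comp, Category.id_comp, Linear.comp_smul, Category.comp_id]

end aux

/-- Let R be a commutative ring, I an ideal of R and M an R-module. Then the following two conditions
coincide: for each a ∈ I, the endomorphism of M given by multiplication by a can be written as a
composite M → P → M with P some projective R-module; and for every R-module N and every a ∈ I, a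
annihilates Ext^1_R(M, N) = Hom(M[0], N[1]) in D(R). -/
theorem result (R : Type u) [CommRing R] (I : Ideal R) (M : Type u)
    [AddCommGroup M] [Module R M] :
    (∀ a ∈ I, ∃ (P : Type u) (_ : AddCommGroup P) (_ : Module R P) (_ : Module.Projective R P)
        (f : M →ₗ[R] P) (g : P →ₗ[R] M), g ∘ₗ f = a • LinearMap.id) ↔
      ∀ (N : Type u) [AddCommGroup N] [Module R N], ∀ a ∈ I,
        ∀ x : DRing.ExtD R (Dual.inD R M) (Dual.inD R N) 1, a • x = 0 := by
  constructor
  · intro H N _ _ a ha x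
    obtain ⟨P, _, _, hP, f, g, hgf⟩ := H a ha
    have hproj : Projective (ModuleCat.of R P) := ModuleCat.projective_of_categoryTheory_projective _
    have i3 : ((Dual.inD R N)⟦(1 : ℤ)⟧).IsLE (-1) :=
      Groth.Agent.S14388.tt.isLE_shift _ 0 1 (-1) (by lia)
    have hz : (singleFunctor (ModuleCat.{u} R) 0).map (ModuleCat.ofHom g) ≫ x = 0 :=
      Groth.Agent.S7077.hom_single_proj_eq_zero (ModuleCat.of R P) 0 (-1) (by lia) _ _
    have hfac : a • 𝟙 (Dual.inD R M) = (singleFunctor (ModuleCat.{u} R) 0).map (ModuleCat.ofHom f) ≫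
        (singleFunctor (ModuleCat.{u} R) 0).map (ModuleCat.ofHom g) := by
      rw [← Functor.map_comp, ← ModuleCat.ofHom_comp, hgf, ← CategoryTheory.Functor.map_id,
        ← Functor.map_smul]
      rfl
    calc a • x = (a • 𝟙 (Dual.inD R M)) ≫ x := by rw [Linear.smul_comp, Category.id_comp]
      _ = 0 := by rw [hfac, Category.assoc, hz, comp_zero]
  · intro H a ha
    -- free presentation of `M`
    let π : (M →₀ R) →ₗ[R] M := Finsupp.linearCombination R id
    have hπ : Function.Surjective π := fun m => ⟨Finsupp.single m 1, by simp [π]⟩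
    let S : ShortComplex (ModuleCat.{u} R) :=
      ShortComplex.mk (X₁ := ModuleCat.of R (LinearMap.ker π)) (X₂ := ModuleCat.of R (M →₀ R))
        (X₃ := ModuleCat.of R M) (ModuleCat.ofHom (LinearMap.ker π).subtype) (ModuleCat.ofHom π)
        (by ext x; exact x.2)
    have hS : S.ShortExact := by
      refine ShortComplex.ShortExact.mk' ?_ ?_ ?_
      · rw [ShortComplex.ShortExact.moduleCat_exact_iff_function_exact]
        exact (LinearMap.exact_subtype_ker_map π)
      · exact (ModuleCat.mono_iff_injective _).2 (Submodule.injective_subtype _)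
      · exact (ModuleCat.epi_iff_surjective _).2 hπ
    obtain ⟨h', hh'⟩ := exists_factor_of_smul_singleδ_eq_zero hS a
      (H (LinearMap.ker π) a ha hS.singleδ)
    obtain ⟨ψ, hψ⟩ := exists_section_of_factor hS a h' hh'
    refine ⟨(M →₀ R), inferInstance, inferInstance, inferInstance, ψ.hom, π, ?_⟩
    have := congrArg ModuleCat.Hom.hom hψ
    simpa [S] using this

end Groth.Agent.S6966
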