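import Groth.Statements.S6970
import Groth.Agent.R2.H52RepLiftG3
import Groth.Agent.R2.H52ConeKProj
import Groth.Agent.R2.H52KProjBC
import Groth.Agent.R2.H52ContrCyc
import Groth.Agent.R2.H52CycLift
import Groth.Agent.R2.H52ProjLift
import Groth.Agent.Lib.Helper1LBC
import Groth.Agent.Lib.Helper1KF8
-- import your own Groth.Agent.* helpers here

set_option autoImplicit false
universe u
open CategoryTheory CategoryTheory.Limits
attribute [local instance] HasDerivedCategory.standard
open DRing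

namespace Groth.Agent.S6970

/-- Let R be a commutative ring and I a nilpotent ideal of R such that the derived base change D(R) →
D(R/I) exists. Let K be an object of D(R) and E a bounded above cochain complex of projective
R/I-modules which is isomorphic in D(R/I) to K ⊗^L_R R/I. Then there is a bounded above cochain
complex P of projective R-modules which is isomorphic to K in D(R) and whose termwise reduction P
⊗_R R/I is isomorphic to E as a complex of R/I-modules. -/
theorem result (R : Type u) [CommRing R] (I : Ideal R)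
    (hI : IsNilpotent I) [DRing.HasLBaseChange (Ideal.Quotient.mk I)] (K : Dual.D R)
    (E : DRing.Cx (R ⧸ I)) (b : ℤ) (hEb : DRing.VanishesAbove E b)
    (hEp : ∀ i : ℤ, Module.Projective (R ⧸ I) (E.X i))
    (hE : Nonempty (DRing.toD E ≅ (DRing.LBaseChange (Ideal.Quotient.mk I)).obj K)) :
    ∃ (P : DRing.Cx R) (b' : ℤ), DRing.VanishesAbove P b' ∧ (∀ i : ℤ, Module.Projective R (P.X i)) ∧
      Nonempty (DRing.toD P ≅ K) ∧ Nonempty ((((ModuleCat.extendScalars (Ideal.Quotient.mk I)).mapHomologicalComplex (ComplexShape.up ℤ)).obj P) ≅ E) := by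
  classical
  obtain ⟨eE⟩ := hE
  -- represent `K` by a K-projective complex of projective modules
  obtain ⟨P₀, hP₀K, hP₀p, ⟨eK⟩⟩ : ∃ P₀ : DRing.Cx R, P₀.IsKProjective ∧
      (∀ n, Projective (P₀.X n)) ∧ Nonempty (DRing.toD P₀ ≅ K) := by
    obtain ⟨M, ⟨e⟩⟩ : ∃ M : DRing.Cx R, Nonempty (DerivedCategory.Q.obj M ≅ K) :=
      ⟨_, ⟨DerivedCategory.Q.objObjPreimageIso K⟩⟩
    obtain ⟨P, π, hP, hproj, hπ, -⟩ :=
      Groth.Agent.Lib.Helper1.KF.exists_kprojective_resolution M
    have : IsIso (DerivedCategory.Q.map π) :=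
      (DerivedCategory.isIso_Q_map_iff_quasiIso (φ := π)).2 hπ
    exact ⟨P, hP, hproj, ⟨asIso (DerivedCategory.Q.map π) ≪≫ e⟩⟩
  haveI := hP₀K
  have hP₀m : ∀ n, Module.Projective R (P₀.X n) := fun n =>
    (IsProjective.iff_projective (R := R) (P := P₀.X n)).mpr (hP₀p n)
  haveI hEK : E.IsKProjective :=
    Groth.Agent.Lib.Helper1.LDer.isKProjective_of_vanishesAbove E b hEb hEp
  haveI hFK : CochainComplex.IsKProjective ((Groth.Agent.R2.H52.RepLift.B I).obj P₀) :=
    Groth.Agent.R2.H52.KProjBC.isKProjective_bc P₀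
  -- the isomorphism in `D(R/I)` between `E` and the reduction of `P₀`
  let φ : DRing.toD E ≅ DRing.toD ((Groth.Agent.R2.H52.RepLift.B I).obj P₀) :=
    eE ≪≫ (DRing.LBaseChange (Ideal.Quotient.mk I)).mapIso eK.symm ≪≫
      Groth.Agent.Lib.Helper1.LDer.lbcIso (Ideal.Quotient.mk I) P₀
  obtain ⟨α, hα⟩ : ∃ α : E ⟶ (Groth.Agent.R2.H52.RepLift.B I).obj P₀,
      DerivedCategory.Q.map α = φ.hom := by
    obtain ⟨g', hg'⟩ := (CochainComplex.IsKProjective.Qh_map_bijective E
      ((HomotopyCategory.quotient _ _).obj ((Groth.Agent.R2.H52.RepLift.B I).obj P₀))).surjective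
        ((DerivedCategory.quotientCompQhIso _).hom.app E ≫ φ.hom ≫
          (DerivedCategory.quotientCompQhIso _).inv.app _)
    obtain ⟨g, rfl⟩ := (HomotopyCategory.quotient _ _).map_surjective g'
    refine ⟨g, ?_⟩
    have h := DerivedCategory.quotientCompQhIso_hom_naturality g
    rw [hg'] at h
    simp only [Category.assoc, Iso.inv_hom_id_app, Category.comp_id] at h
    exact ((cancel_epi ((DerivedCategory.quotientCompQhIso _).hom.app E)).1 h).symm
  have hαq : QuasiIso α := by
    rw [← DerivedCategory.isIso_Q_map_iff_quasiIso, hα]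
    infer_instance
  -- the cone and its contraction
  let T₀ : Groth.Agent.R2.H52.RepLiftG.CSetup I := { Qc := P₀, E := E, α := α }
  haveI : T₀.E.IsKProjective := hEK
  haveI : CochainComplex.IsKProjective T₀.F := hFK
  have hC : Homotopy (𝟙 T₀.C) 0 := T₀.hCone hαq
  have hCp : ∀ n, Module.Projective (R ⧸ I) (T₀.C.X n) := by
    intro n
    haveI := hEp (n + 1)
    haveI := hP₀m n
    haveI : Module.Projective (R ⧸ I)
        ((ModuleCat.extendScalars.{u, u, u} (Ideal.Quotient.mk I)).obj (P₀.X n)) :=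
      Groth.Agent.Lib.Helper1.LDer.projective_bc (Ideal.Quotient.mk I) (P₀.X n)
    exact (inferInstance : Module.Projective (R ⧸ I) (E.X (n + 1) ×
      ((ModuleCat.extendScalars.{u, u, u} (Ideal.Quotient.mk I)).obj (P₀.X n))))
  have hZp : ∀ j, Module.Projective (R ⧸ I) (Groth.Agent.R2.H52.AcycLift.Z I T₀.C j) :=
    Groth.Agent.R2.H52.ContrCyc.projective_Z I T₀.C hC hCp
  -- lifts of the cycles
  have hlift : ∀ j, ∃ X : ModuleCat.{u} R, Module.Projective R X ∧
      Nonempty (TensorProduct R (R ⧸ I) X ≃ₗ[R ⧸ I] Groth.Agent.R2.H52.AcycLift.Z I T₀.C j) := by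
    intro j
    haveI := hZp j
    exact Groth.Agent.R2.H52.ProjLift.exists_lift_projective I hI _
  choose Qs hQs using hlift
  let D : Groth.Agent.R2.H52.CycLift.CData I (Groth.Agent.R2.H52.ProjLift.Pc R) T₀.C :=
    { h1 := Groth.Agent.R2.H52.ProjLift.pc_h1 R
      h2 := fun X Y hX hY => (Groth.Agent.R2.H52.ProjLift.pc_h2 R X Y hX).2 hY
      hEa := T₀.C_acyclic hαq
      Qs := Qs
      good := fun i => ⟨(hQs i).1, (hQs i).2⟩ }
  let T : Groth.Agent.R2.H52.RepLiftG.GSetup I (Groth.Agent.R2.H52.ProjLift.Pc R) :=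
    { toCSetup := T₀
      h1 := Groth.Agent.R2.H52.ProjLift.pc_h1 R
      h2 := Groth.Agent.R2.H52.ProjLift.pc_h2 R
      h3 := Groth.Agent.R2.H52.ProjLift.pc_h3 R I hI
      hQ := hP₀m
      C' := Groth.Agent.R2.H52.CycLift.P D
      hC' := Groth.Agent.R2.H52.CycLift.hP D
      C'_pc := Groth.Agent.R2.H52.CycLift.P_pc D
      eC := (Groth.Agent.R2.H52.CycLift.nonempty_iso D).some }
  refine ⟨T.W⟦(-1 : ℤ)⟧, b, ?_, T.P_pc, ⟨T.isoW ≪≫ eK⟩, ⟨T.eP⟩⟩
  -- vanishing above `b`
  intro i hi
  have e : (Groth.Agent.R2.H52.RepLift.G I).obj ((T.W⟦(-1 : ℤ)⟧).X i) ≅ E.X i :=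
    (HomologicalComplex.eval _ _ i).mapIso T.eP
  haveI hsub : Subsingleton (E.X i) := ModuleCat.subsingleton_of_isZero (hEb i hi)
  have htop : I • (⊤ : Submodule R ((T.W⟦(-1 : ℤ)⟧).X i)) = ⊤ := by
    rw [eq_top_iff]
    intro x _
    apply Groth.Agent.R2.H52.RepLift.mem_of_red_eq_zero
    have hinj : Function.Injective e.hom.hom :=
      ((ConcreteCategory.isIso_iff_bijective e.hom).1 inferInstance).1
    apply hinj
    exact Subsingleton.elim _ _
  haveI := Groth.Agent.R2.H52.ProjLift.subsingleton_of_smul_top_eq_top I hI htop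
  exact ModuleCat.isZero_of_subsingleton _

end Groth.Agent.S6970
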