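import Groth.Statements.S6977
import Mathlib
import Groth.Agent.R2.H52RegFibre
import Groth.Agent.R2.H69RegTorDim
import Groth.Agent.Lib.Helper1LocalCx
import Groth.Agent.Lib.Helper1TorG
-- import your own Groth.Agent.* helpers here

set_option autoImplicit false
universe u
open CategoryTheory CategoryTheory.Limits
attribute [local instance] HasDerivedCategory.standard
open DRing

namespace Groth.Agent.S6977

open DerivedCategory HomologicalComplex MonoidalCategory
open Groth.Agent.R2.H52.RegFibre Groth.Agent.Lib.Helper1.Tor Groth.Agent.Lib.Helper1.TorM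
  Groth.Agent.Lib.Helper1.TorN Groth.Agent.Lib.Helper1.TorO Groth.Agent.Lib.Helper1.LDer
  Groth.Agent.Lib.Helper1.KF Groth.Agent.Lib.Helper1.DT Groth.Agent.Lib.Helper1.Restrict
  Groth.Agent.Lib.Helper1.LocalCx Groth.Agent.R2.H69.RegTorDim

/-- Let A → B be a flat local homomorphism of local rings such that B/m_A B is a regular
local ring of dimension d, and assume the derived base change D(A) → D(κ_A) to the residue field of
A exists. Let a, b be integers and K a pseudo-coherent object of D(B) such that H^i((K regarded in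
D(A)) ⊗^L_A κ_A) = 0 for every i outside [a, b]. Then K is perfect as an object of D(B) and has tor
amplitude in [a - d, b] over B. -/
theorem result {A B : Type u} [CommRing A] [CommRing B] [IsLocalRing A]
    [IsLocalRing B] [Algebra A B] [IsLocalHom (algebraMap A B)] [Module.Flat A B] (d : ℕ)
    [IsRegularLocalRing (B ⧸ (IsLocalRing.maximalIdeal A).map (algebraMap A B))]
    (hd : ringKrullDim (B ⧸ (IsLocalRing.maximalIdeal A).map (algebraMap A B)) = d)
    [DRing.HasLBaseChange (IsLocalRing.residue A)] (a b : ℤ) (K : Dual.D B) (hK : DRing.IsPseudoCoherent' B K)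
    (h : ∀ i : ℤ, (i < a ∨ b < i) → Subsingleton (Dual.HD (IsLocalRing.ResidueField A)
      ((DRing.LBaseChange (IsLocalRing.residue A)).obj ((DRing.restrictD (algebraMap A B)).obj K)) i)) :
    DRing.IsPerfect B K ∧ DRing.HasTorAmplitudeIn B (a - d) b K := by
  classical
  obtain ⟨F, bF, hFb, hFf, ⟨eF⟩⟩ := hK
  have hFK : F.IsKProjective := isKProjective_of_vanishesAbove F bF hFb (fun j => by
    have := (hFf j).2
    infer_instance)
  -- `F` restricted to `A`: bounded above and termwise flat
  have hFAb : DRing.VanishesAbove ((DRing.restrictCx (algebraMap A B)).obj F) bF := fun j hj =>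
    (ModuleCat.restrictScalars.{u} (algebraMap A B)).map_isZero (hFb j hj)
  have hFAf : DRing.TermwiseFlat ((DRing.restrictCx (algebraMap A B)).obj F) := by
    intro j
    let _ : Module A (F.X j) := Module.compHom (F.X j) (algebraMap A B)
    have : IsScalarTower A B (F.X j) := IsScalarTower.of_algebraMap_smul (fun r m => rfl)
    have := (hFf j).2
    exact Module.Flat.trans A B (F.X j)
  -- the hypothesis as exactness of `κ_A ⊗_A F`
  obtain ⟨eL⟩ := nonempty_lbc_iso_of_flat (IsLocalRing.residue A) _ bF hFAb hFAf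
  have e0 : (DRing.LBaseChange (IsLocalRing.residue A)).obj
      ((DRing.restrictD (algebraMap A B)).obj K) ≅
      Q.obj ((bcCx (IsLocalRing.residue A)).obj ((DRing.restrictCx (algebraMap A B)).obj F)) :=
    (DRing.LBaseChange (IsLocalRing.residue A)).mapIso
      ((DRing.restrictD (algebraMap A B)).mapIso eF.symm ≪≫ restrictQIso (algebraMap A B) F) ≪≫ eL
  have hex1 : ∀ i : ℤ, (i < a ∨ b < i) →
      ((bcCx (IsLocalRing.residue A)).obj ((DRing.restrictCx (algebraMap A B)).obj F)).ExactAt i := by
    intro i hi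
    rw [exactAt_iff_isZero_H]
    have := h i hi
    exact (ModuleCat.isZero_of_subsingleton _).of_iso
      ((homologyFunctor (ModuleCat.{u} (IsLocalRing.ResidueField A)) i).mapIso e0.symm)
  have hex2 : ∀ i : ℤ, (i < a ∨ b < i) →
      ((TC (ModuleCat.of A (A ⧸ IsLocalRing.maximalIdeal A))).obj
        ((DRing.restrictCx (algebraMap A B)).obj F)).ExactAt i := fun i hi =>
    exactAt_TC_of_iso (quotIso (IsLocalRing.maximalIdeal A)).symm _ i
      ((exactAt_bc_iff_TC (IsLocalRing.residue A) _ i).1 (hex1 i hi))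
  -- the same for `B/m_A B ⊗_B F`
  have hex3 : ∀ i : ℤ, (i < a ∨ b < i) →
      ((TC (ModuleCat.of B (B ⧸ (IsLocalRing.maximalIdeal A).map (algebraMap A B)))).obj F).ExactAt i := by
    intro i hi
    have h2 := hex2 i hi
    rw [exactAt_TC_iff _ _ (i - 1) i (i + 1) (by lia) rfl] at h2 ⊢
    let _ (j : ℤ) : Module A (F.X j) := Module.compHom (F.X j) (algebraMap A B)
    have (j : ℤ) : IsScalarTower A B (F.X j) := IsScalarTower.of_algebraMap_smul (fun r m => rfl)
    exact (fexact_quot_iff (IsLocalRing.maximalIdeal A) (F.d (i - 1) i).hom (F.d i (i + 1)).hom).1 h2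
  -- the base change to `B/m_A B`
  have hex4 : ∀ i : ℤ, (i < a ∨ b < i) →
      ((DTen.extCx (Ideal.Quotient.mk ((IsLocalRing.maximalIdeal A).map (algebraMap A B)))).obj F).ExactAt i :=
    fun i hi => (exactAt_extCx_iff _ F i).2 (exactAt_TC_of_iso (quotIso _) F i (hex3 i hi))
  have hgl : ∀ (M : Type u) [AddCommGroup M]
      [Module (B ⧸ (IsLocalRing.maximalIdeal A).map (algebraMap A B)) M],
      DRing.HasTorDimLE (B ⧸ (IsLocalRing.maximalIdeal A).map (algebraMap A B)) d M :=
    fun M _ _ => hasTorDimLE_of_isRegularLocalRing _ d hd.le M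
  have hGE : (Q.obj ((DTen.extCx (Ideal.Quotient.mk
      ((IsLocalRing.maximalIdeal A).map (algebraMap A B)))).obj F)).IsGE a :=
    (DerivedCategory.isGE_Q_obj_iff _ _).2
      ((CochainComplex.isGE_iff _ _).2 (fun i hi => hex4 i (Or.inl hi)))
  have hLE : (Q.obj ((DTen.extCx (Ideal.Quotient.mk
      ((IsLocalRing.maximalIdeal A).map (algebraMap A B)))).obj F)).IsLE b :=
    (DerivedCategory.isLE_Q_obj_iff _ _).2
      ((CochainComplex.isLE_iff _ _).2 (fun i hi => hex4 i (Or.inr hi)))
  obtain ⟨E, hE, hEf, ⟨eE⟩⟩ := hasTorAmp_of_isGE_of_isLE d hgl (b - a + 1).toNat _ a b (by lia)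
    hGE hLE
  have htv : TorVan ((DTen.extCx (Ideal.Quotient.mk
      ((IsLocalRing.maximalIdeal A).map (algebraMap A B)))).obj F) (a - d) b :=
    torVan_of_iso_kflat _ E (kflat_of_isKProjective _) (a - d) b hE hEf eE
  -- the residue field of `B`
  have hex5 : ∀ i : ℤ, (i < a - d ∨ b < i) →
      ((TC (ModuleCat.of B (IsLocalRing.ResidueField B))).obj F).ExactAt i := by
    intro i hi
    refine exactAt_TC_of_ideal_smul_eq_zero ((IsLocalRing.maximalIdeal A).map (algebraMap A B)) F i
      (fun Nb => htv Nb i hi) (IsLocalRing.ResidueField B) (fun r hr x => ?_)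
    have hr' : r ∈ IsLocalRing.maximalIdeal B := IsLocalRing.map_maximalIdeal_le (algebraMap A B) hr
    rw [Algebra.smul_def, IsLocalRing.ResidueField.algebraMap_eq,
      (IsLocalRing.residue_eq_zero_iff r).2 hr', zero_mul]
  have hTorF := hasTorAmp_of_exactAt_TC_residueField F bF hFb hFf (a - d) b hex5
  have hTorK : DRing.HasTorAmplitudeIn B (a - d) b K := hasTorAmp_of_iso eF hTorF
  obtain ⟨E', hE', hE'fp, ⟨eE'⟩⟩ := exists_finiteProjective_of_pc_of_torAmp K
    ⟨F, bF, hFb, hFf, ⟨eF⟩⟩ (a - d) b hTorK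
  exact ⟨⟨E', a - d, b, hE', hE'fp, ⟨eE'⟩⟩, hTorK⟩

end Groth.Agent.S6977
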