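import Groth.Statements.S6989
import Mathlib
import Groth.Agent.S6942
import Groth.Agent.S6988
import Groth.Agent.Lib.Helper1PCTower

set_option autoImplicit false
universe u
open CategoryTheory CategoryTheory.Limits
attribute [local instance] HasDerivedCategory.standard
open DRing

namespace Groth.Agent.S6989

open DerivedCategory HomologicalComplex Groth.Agent.Lib.Helper1.Compact
open Groth.Agent.Lib.Helper21.DTrunc

section aux

variable {R : Type u} [CommRing R]

/-- Artin-Rees consequence: a submodule `H` of a finite module `M` over a Noetherian ring which is not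
`m`-divisible is not contained in `m ^ n • ⊤` for some `n`. -/
lemma exists_pow_not_le (m : Ideal R) [IsNoetherianRing R] {M : Type u} [AddCommGroup M] [Module R M]
    [Module.Finite R M] (H : Submodule R M) (hH : ¬ H ≤ m • H) :
    ∃ n : ℕ, ¬ H ≤ m ^ n • (⊤ : Submodule R M) := by
  obtain ⟨k, hk⟩ := m.exists_pow_inf_eq_pow_smul H
  refine ⟨k + 1, fun hle => hH ?_⟩
  have h1 := hk (k + 1) (Nat.le_succ k)
  rw [inf_eq_right.2 hle, Nat.add_sub_cancel_left, pow_one] at h1
  calc H = m • (m ^ k • ⊤ ⊓ H) := h1
    _ ≤ m • H := Submodule.smul_mono le_rfl inf_le_right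

/-- divisibility transfers along an injective linear map onto its range -/
lemma smul_top_eq_top_of_range_le {M N : Type u} [AddCommGroup M] [Module R M] [AddCommGroup N]
    [Module R N] (m : Ideal R) (ι : N →ₗ[R] M) (hι : Function.Injective ι)
    (h : LinearMap.range ι ≤ m • LinearMap.range ι) : m • (⊤ : Submodule R N) = ⊤ := by
  rw [eq_top_iff]
  intro x _
  have hx : ι x ∈ m • LinearMap.range ι := h ⟨x, rfl⟩
  rw [LinearMap.range_eq_map, ← Submodule.map_smul''] at hx
  obtain ⟨y, hy, hyx⟩ := hx
  rwa [← hι hyx]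

/-- divisibility transfers along a linear equivalence -/
lemma smul_top_eq_top_of_linearEquiv {M N : Type u} [AddCommGroup M] [Module R M] [AddCommGroup N]
    [Module R N] (m : Ideal R) (ψ : M ≃ₗ[R] N) (h : m • (⊤ : Submodule R N) = ⊤) :
    m • (⊤ : Submodule R M) = ⊤ := by
  rw [eq_top_iff]
  intro x _
  have hx : ψ x ∈ m • (⊤ : Submodule R N) := by rw [h]; trivial
  have h2 : ψ.symm (ψ x) ∈ (m • (⊤ : Submodule R N)).map ψ.symm.toLinearMap :=
    Submodule.mem_map_of_mem hx
  rw [Submodule.map_smul'', LinearEquiv.symm_apply_apply] at h2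
  exact Submodule.smul_mono le_rfl le_top h2

end aux

/-- Let A be a Noetherian commutative ring, K an object of D(A) whose cohomology vanishes in large
degrees and whose cohomology modules are all finitely generated, m a maximal ideal of A and i an
integer such that m H^i(K) ≠ H^i(K). Then some finitely generated A-module E killed by a power of m
receives a morphism K → E[-i] in D(A) whose induced map H^i(K) → H^i(E[-i]) is nonzero. -/
theorem result (A : Type u) [CommRing A]
    [IsNoetherianRing A] (K : Dual.D A) (hb : ∃ b : ℤ, ∀ j : ℤ, b < j → Subsingleton (Dual.HD A K j))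
    (hfin : ∀ j : ℤ, Module.Finite A (Dual.HD A K j)) (m : Ideal A) [m.IsMaximal] (i : ℤ)
    (hi : m • (⊤ : Submodule A (Dual.HD A K i)) ≠ ⊤) :
    ∃ (E : Type u) (_ : AddCommGroup E) (_ : Module A E) (_ : Module.Finite A E) (n : ℕ)
      (_ : m ^ n • (⊤ : Submodule A E) = ⊥) (f : K ⟶ (shiftFunctor (Dual.D A) (-i)).obj (Dual.inD A E)),
      (DerivedCategory.homologyFunctor (ModuleCat.{u} A) i).map f ≠ 0 := by
  have hpc : DRing.IsPseudoCoherent' A K :=
    Groth.Agent.Lib.Helper1.PCTower.isPseudoCoherent'_of_forall K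
      (fun k => ((Groth.Agent.S6942.result A k K PUnit.{u + 1}).1).2 ⟨hb, fun j _ => hfin j⟩)
  obtain ⟨P, b, hPb, hff, ⟨e⟩⟩ := hpc
  -- the finite module `M = P.opcycles i`
  have hsurj : Function.Surjective (P.pOpcycles i).hom :=
    (ModuleCat.epi_iff_surjective _).1 inferInstance
  have := (hff i).1
  have hMfin : Module.Finite A (P.opcycles i) := Module.Finite.of_surjective (P.pOpcycles i).hom hsurj
  -- the inclusion of homology
  have hιinj : Function.Injective (P.homologyι i).hom :=
    (ModuleCat.mono_iff_injective _).1 inferInstance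
  -- transport of the hypothesis to `P.homology i`
  let ψ : Dual.HD A K i ≃ₗ[A] P.homology i :=
    (((homologyFunctor (ModuleCat.{u} A) i).mapIso e.symm) ≪≫
      (homologyFunctorFactors (ModuleCat.{u} A) i).app P).toLinearEquiv
  have hi' : m • (⊤ : Submodule A (P.homology i)) ≠ ⊤ := fun h =>
    hi (smul_top_eq_top_of_linearEquiv m ψ h)
  have hH : ¬ LinearMap.range (P.homologyι i).hom ≤ m • LinearMap.range (P.homologyι i).hom :=
    fun h => hi' (smul_top_eq_top_of_range_le m _ hιinj h)
  obtain ⟨n, hn⟩ := exists_pow_not_le m (LinearMap.range (P.homologyι i).hom) hH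
  -- the module `E`
  let N : Submodule A (P.opcycles i) := m ^ n • ⊤
  let E' : ModuleCat.{u} A := ModuleCat.of A (P.opcycles i ⧸ N)
  let q : P.opcycles i ⟶ E' := ModuleCat.ofHom N.mkQ
  have hkill : m ^ n • (⊤ : Submodule A (P.opcycles i ⧸ N)) = ⊥ := by
    rw [← Submodule.range_mkQ N, LinearMap.range_eq_map, ← Submodule.map_smul'']
    exact Submodule.mkQ_map_self N
  have hφ0 : P.d (i - 1) i ≫ P.pOpcycles i ≫ q = 0 := by
    rw [← Category.assoc, P.d_pOpcycles, zero_comp]
  let φ : P ⟶ Sg i E' := toSingle P i (P.pOpcycles i ≫ q) hφ0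
  refine ⟨P.opcycles i ⧸ N, inferInstance, inferInstance, inferInstance, n, hkill,
    e.inv ≫ Q.map φ ≫ (shiftSingleIso (-i) i (by lia) E').inv, ?_⟩
  intro hz
  rw [Functor.map_comp, Functor.map_comp] at hz
  have hz1 : (homologyFunctor (ModuleCat.{u} A) i).map (Q.map φ) = 0 := by
    have h1 := congrArg (fun t => (homologyFunctor (ModuleCat.{u} A) i).map e.hom ≫ t ≫
      (homologyFunctor (ModuleCat.{u} A) i).map
        (shiftSingleIso (-i) i (by lia) E').hom) hz
    simp only [Category.assoc, comp_zero, zero_comp] at h1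
    rw [← Functor.map_comp, ← Functor.map_comp_assoc, Iso.inv_hom_id, Iso.hom_inv_id,
      CategoryTheory.Functor.map_id, CategoryTheory.Functor.map_id, Category.id_comp,
      Category.comp_id] at h1
    exact h1
  rw [homologyFunctor_map_Q_eq_zero_iff] at hz1
  have h0 : (Sg i E').d (i - 1) i = 0 := HomologicalComplex.single_obj_d _ _ _ _ _
  have hiso : IsIso ((Sg i E').pOpcycles i) :=
    (Sg i E').isIso_pOpcycles (i - 1) i (by simp) h0
  have h1 : P.pOpcycles i ≫ opcyclesMap φ i =
      P.pOpcycles i ≫ (q ≫ (singleObjXSelf (ComplexShape.up ℤ) i E').inv ≫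
        (Sg i E').pOpcycles i) := by
    rw [p_opcyclesMap]
    change (toSingle P i (P.pOpcycles i ≫ q) hφ0).f i ≫ _ = _
    rw [toSingle_f, Category.assoc, Category.assoc]
  have h2 : opcyclesMap φ i = q ≫ (singleObjXSelf (ComplexShape.up ℤ) i E').inv ≫
      (Sg i E').pOpcycles i := (cancel_epi _).1 h1
  have h3 : P.homologyι i ≫ opcyclesMap φ i = 0 := by
    rw [← homologyι_naturality, hz1, zero_comp]
  rw [h2, ← Category.assoc, ← Category.assoc] at h3
  have h4 : P.homologyι i ≫ q = 0 := by
    have h3' := congrArg (fun t => t ≫ inv ((Sg i E').pOpcycles i) ≫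
      (singleObjXSelf (ComplexShape.up ℤ) i E').hom) h3
    simpa using h3'
  apply hn
  rintro _ ⟨x, rfl⟩
  have h5 := congrArg (fun t => t.hom x) h4
  simp only [ModuleCat.hom_comp, LinearMap.comp_apply, ModuleCat.hom_zero, LinearMap.zero_apply] at h5
  exact (Submodule.Quotient.mk_eq_zero N).1 h5

end Groth.Agent.S6989
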