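import Groth.Statements.S7002
import Mathlib
import Groth.Agent.R2.H52AwaySplit
import Groth.Agent.S7004
-- import your own Groth.Agent.* helpers here

set_option autoImplicit false
universe u
open CategoryTheory CategoryTheory.Limits
attribute [local instance] HasDerivedCategory.standard
open DRing

namespace Groth.Agent.S7002

open DerivedCategory Groth.Agent.R2.H52.AwaySplit Groth.Agent.R2.H52.PartCon
open Groth.Agent.Lib.Helper1.LDer Groth.Agent.Lib.Helper1.Extend Groth.Agent.Lib.Helper1.Tor
open Groth.Agent.Lib.Helper1.PC Groth.Agent.Lib.Helper1.PCTower Groth.Agent.Lib.Helper1.PCBiprod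

/-- Let R be a commutative ring, p a prime ideal of R with residue field κ(p), such that the derived
base change D(R) → D(κ(p)) exists; let i be an integer and K a cochain complex of R-modules which is
pseudo-coherent in D(R) and satisfies H^i(K ⊗^L_R κ(p)) = 0. Then there is an element f ∈ R with f ∉
p such that, for the termwise localization K_f of K over R_f, the truncation τ_(≥ i+1) K_f is
perfect in D(R_f), its tor amplitude lying in [i+1, b] for some integer b, and K_f ≅ τ_(≥ i+1) K_f ⊕
τ_(≤ i-1) K_f in D(R_f) by an isomorphism carrying K_f → τ_(≥ i+1) K_f to the first projection and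
τ_(≤ i-1) K_f → K_f to the second inclusion. -/
theorem result (R : Type u) [CommRing R]
    (p : Ideal R) [p.IsPrime] [DRing.HasLBaseChange (algebraMap R p.ResidueField)] (i : ℤ) (K : DRing.Cx R)
    (hK : DRing.IsPseudoCoherent' R (DRing.toD K))
    (hi : Subsingleton (Dual.HD p.ResidueField ((DRing.LBaseChange (algebraMap R p.ResidueField)).obj (DRing.toD K)) i)) :
    ∃ f : R, f ∉ p ∧
      let Kf := DRing.toD (((ModuleCat.extendScalars (algebraMap R (Localization.Away f))).mapHomologicalComplex
        (ComplexShape.up ℤ)).obj K)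
      let t := (DerivedCategory.TStructure.t : Triangulated.TStructure (Dual.D (Localization.Away f)))
      let Kge := (t.truncGE (i + 1)).obj Kf
      let Klt := (t.truncLT i).obj Kf
      DRing.IsPerfect (Localization.Away f) Kge ∧
        (∃ b : ℤ, DRing.HasTorAmplitudeIn (Localization.Away f) (i + 1) b Kge) ∧
        ∀ [HasBinaryBiproduct Kge Klt], ∃ e : Kf ≅ Kge ⊞ Klt,
          e.hom ≫ biprod.fst = (t.truncGEπ (i + 1)).app Kf ∧ (t.truncLTι i).app Kf ≫ e.hom = biprod.inr := by
  classical
  obtain ⟨F, bF, hFb, hFf, ⟨eF⟩⟩ := hK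
  have hex := fexact_of_fibre p i F bF hFb hFf (DRing.toD K) eF hi
  have := (hFf i).1
  have := (hFf i).2
  have := (hFf (i + 1)).1
  have := (hFf (i + 1)).2
  have h0 : (F.d i (i + 1)).hom ∘ₗ (F.d (i - 1) i).hom = 0 := by
    rw [← ModuleCat.hom_comp, F.d_comp_d]
    rfl
  obtain ⟨f, hfp, σ, ρ, hσρ⟩ :=
    exists_partial_contraction p (F.d (i - 1) i).hom (F.d i (i + 1)).hom h0 hex
  refine ⟨f, hfp, ?_⟩
  intro Kf t Kge Klt
  -- the base-changed free complex
  let B := Localization.Away f
  let G : DRing.Cx B := (bcCx (algebraMap R B)).obj F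
  have hGb : DRing.VanishesAbove G bF := vanishesAbove_bc (algebraMap R B) F bF hFb
  have hGf : DRing.TermwiseFiniteFree G := termwiseFiniteFree_bc (algebraMap R B) F hFf
  have : G.IsKProjective := isKProjective_of_vanishesAbove G bF hGb (fun j => by
    have := (hGf j).2
    infer_instance)
  obtain ⟨σ', ρ', hc⟩ := exists_contraction_bc (algebraMap R B) F i f
    (IsLocalization.Away.algebraMap_isUnit f) σ ρ hσρ
  let eG : Kf ≅ Q.obj G :=
    (mapQIso (ext R B) K).symm ≪≫ (extD R B).mapIso eF.symm ≪≫ mapQIso (ext R B) F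
  have hHom : ∀ (M : Type u) [AddCommGroup M] [Module B M],
      Subsingleton (Kf ⟶ (shiftFunctor (Dual.D B) (-i)).obj (Dual.inD B M)) :=
    fun M _ _ => subsingleton_hom_shift G i σ' ρ' hc Kf eG M
  have hKb : ∃ b : ℤ, ∀ j : ℤ, b < j → Subsingleton (Dual.HD B Kf j) := by
    refine ⟨bF, fun j hj => ?_⟩
    have h1 : IsZero ((homologyFunctor (ModuleCat.{u} B) j).obj (Q.obj G)) :=
      (exactAt_iff_isZero_H G j).1 (exactAt_of_isZero_X G j (hGb j hj))
    exact ModuleCat.subsingleton_of_isZero
      (h1.of_iso ((homologyFunctor (ModuleCat.{u} B) j).mapIso eG))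
  have : HasBinaryBiproduct Klt Kge := inferInstance
  obtain ⟨⟨e', he'1, he'2⟩, P, b, hP, hPproj, ⟨eP⟩⟩ := Groth.Agent.S7004.result B i Kf hKb hHom
  -- pseudo-coherence of the truncation
  have hPCm : ∀ m : ℤ, DRing.IsPseudoCoherent B m Kf := fun m =>
    isPC_of_iso eG.symm (isPC_of_bddAbove_finProj G bF hGb (fun j => by
      have := (hGf j).1
      have := (hGf j).2
      exact ⟨inferInstance, inferInstance⟩) m)
  have hPCge : DRing.IsPseudoCoherent' B Kge :=
    isPseudoCoherent'_of_forall Kge (fun m => (isPC_of_biprod m Klt Kge (isPC_of_iso e' (hPCm m))).2)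
  have hTor : DRing.HasTorAmplitudeIn B (i + 1) b Kge :=
    ⟨P, hP, fun j => by
      have := hPproj j
      infer_instance, ⟨eP⟩⟩
  obtain ⟨E, hE, hEfp, ⟨eE⟩⟩ := exists_finiteProjective_of_pc_of_torAmp Kge hPCge (i + 1) b hTor
  refine ⟨⟨E, i + 1, b, hE, hEfp, ⟨eE⟩⟩, ⟨b, hTor⟩, ?_⟩
  intro _
  refine ⟨e' ≪≫ biprod.braiding Klt Kge, ?_, ?_⟩
  · rw [Iso.trans_hom, Category.assoc]
    have : (biprod.braiding Klt Kge).hom ≫ biprod.fst = biprod.snd := by simp
    rw [this]
    exact he'2
  · rw [Iso.trans_hom, ← Category.assoc, he'1]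
    apply biprod.hom_ext
    · simp only [biprod.braiding_hom, Category.assoc, biprod.lift_fst]
      rw [biprod.inl_snd, biprod.inr_fst]
    · simp only [biprod.braiding_hom, Category.assoc, biprod.lift_snd]
      rw [biprod.inl_fst, biprod.inr_snd]

end Groth.Agent.S7002
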