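import Groth.Statements.S7035
import Mathlib
import Groth.Agent.R2.H26RelPerf
import Groth.Agent.S7073
-- import your own Groth.Agent.* helpers here

set_option autoImplicit false
universe u
open CategoryTheory CategoryTheory.Limits
attribute [local instance] HasDerivedCategory.standard
open DRing

namespace Groth.Agent.S7035

open Groth.Agent.Lib.Helper1.Tor Groth.Agent.Lib.Helper1.Restrict DerivedCategory
open Groth.Agent.R2.H26.RelPerf TensorProduct in
/-- Let A → B be a flat homomorphism of commutative rings and d a natural number such that for every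
prime p of A, with residue field κ(p), every module over κ(p) ⊗_A B has projective dimension at most
d; assume the derived tensor products - ⊗^L M exist on D(κ(p) ⊗_A B) for all p and the derived base
changes D(B) → D(B/m) exist for all ideals m of B. Let a, b be integers and K an object of D(B)
which is pseudo-coherent over B and, with scalars restricted to A, has tor amplitude in [a, b]. Then
K is perfect over B and has tor amplitude in [a - d, b] over B. -/
theorem result {A B : Type u} [CommRing A] [CommRing B] [Algebra A B]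
    [Module.Flat A B] (d : ℕ)
    (hgl : ∀ (p : PrimeSpectrum A) (M : Type u) [AddCommGroup M]
      [Module (TensorProduct A p.asIdeal.ResidueField B) M],
      HasProjectiveDimensionLT (ModuleCat.of (TensorProduct A p.asIdeal.ResidueField B) M) (d + 1))
    [∀ (p : PrimeSpectrum A) (M : ModuleCat.{u} (TensorProduct A p.asIdeal.ResidueField B)),
      DRing.HasLTensor (TensorProduct A p.asIdeal.ResidueField B) M]
    [∀ m : Ideal B, DRing.HasLBaseChange (Ideal.Quotient.mk m)] (a b : ℤ) (K : Dual.D B)
    (hK : DRing.IsPseudoCoherent' B K)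
    (hKa : DRing.HasTorAmplitudeIn A a b ((DRing.restrictD (algebraMap A B)).obj K)) :
    DRing.IsPerfect B K ∧ DRing.HasTorAmplitudeIn B (a - d) b K := by
  obtain ⟨F, bF, hFb, hFf, ⟨eF⟩⟩ := hK
  obtain ⟨E', hE', hE'f, ⟨eE'⟩⟩ := hKa
  have hFflat : DRing.TermwiseFlat F := fun i =>
    have := (hFf i).2
    inferInstance
  have hFAb : DRing.VanishesAbove ((DRing.restrictCx (algebraMap A B)).obj F) bF := fun i hi =>
    (ModuleCat.restrictScalars.{u} (algebraMap A B)).map_isZero (hFb i hi)
  have hFAflat : DRing.TermwiseFlat ((DRing.restrictCx (algebraMap A B)).obj F) := by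
    intro i
    have := hFflat i
    exact Groth.Agent.S7073.flat_restrictScalars A B (F.X i)
  have e : Q.obj E' ≅ Q.obj ((DRing.restrictCx (algebraMap A B)).obj F) :=
    eE' ≪≫ (DRing.restrictD (algebraMap A B)).mapIso eF.symm ≪≫ restrictQIso _ F
  have htv : TorVan ((DRing.restrictCx (algebraMap A B)).obj F) a b :=
    torVan_of_iso _ E' bF hFAb hFAflat a b hE' hE'f e
  have hexF : ∀ i : ℤ, (i < a ∨ b < i) → F.ExactAt i := fun i hi =>
    (exactAt_restrict_iff (algebraMap A B) F i).1 (htv.exactAt i hi)
  -- `A`-flatness of the syzygies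
  have hflatA : ∀ j : ℤ, j ≤ a →
      @Module.Flat A (F.opcycles j) _ _ (Module.compHom (F.opcycles j) (algebraMap A B)) := by
    intro j hj
    have htv' : TorVan ((DRing.restrictCx (algebraMap A B)).obj F) j b := fun M i hi =>
      htv M i (hi.imp (fun h => lt_of_lt_of_le h hj) id)
    have hflat : Module.Flat A
        ((ModuleCat.restrictScalars.{u} (algebraMap A B)).obj (F.opcycles j)) :=
      flat_of_torVan ((DRing.restrictCx (algebraMap A B)).obj F) hFAflat j b htv'
        ((ModuleCat.restrictScalars.{u} (algebraMap A B)).map (F.pOpcycles j)).hom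
        (pOpcycles_surjective F j) (fexact_d_pOpcycles F j)
    exact hflat
  -- transfer the global dimension hypothesis to `B ⊗ κ(p)`
  have hgl' : ∀ (p : PrimeSpectrum A) (M : Type u) [AddCommGroup M]
      [Module (B ⊗[A] p.asIdeal.ResidueField) M],
      HasProjectiveDimensionLT (ModuleCat.of (B ⊗[A] p.asIdeal.ResidueField) M) (d + 1) := by
    intro p M _ _
    let σ : (B ⊗[A] p.asIdeal.ResidueField) ≃+* (p.asIdeal.ResidueField ⊗[A] B) :=
      (Algebra.TensorProduct.comm A B p.asIdeal.ResidueField).toRingEquiv
    letI : Module (p.asIdeal.ResidueField ⊗[A] B) M :=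
      Module.compHom M (σ.symm : (p.asIdeal.ResidueField ⊗[A] B) →+*
        (B ⊗[A] p.asIdeal.ResidueField))
    exact hasProjectiveDimensionLT_succ_of_ringEquiv σ d M (fun c m => by
      change σ.symm (σ c) • m = c • m
      rw [RingEquiv.symm_apply_apply]) (hgl p M)
  have hflatB : Module.Flat B (F.opcycles (a - d)) :=
    flat_opcycles_of_fibres (A := A) F hFf a (fun i hi => hexF i (Or.inl hi)) hflatA d hgl'
  have hTA : DRing.HasTorAmplitudeIn B (a - d) b (DRing.toD F) :=
    hasTorAmp_of_flat_opcycles F bF hFb hFflat (a - d) b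
      (fun i hi => hexF i (Or.inl (by lia))) (fun i hi => hexF i (Or.inr hi)) hflatB
  have hTAK : DRing.HasTorAmplitudeIn B (a - d) b K := hasTorAmp_of_iso eF hTA
  obtain ⟨E, hE, hEp, hiso⟩ :=
    exists_finiteProjective_of_pc_of_torAmp K ⟨F, bF, hFb, hFf, ⟨eF⟩⟩ (a - d) b hTAK
  exact ⟨⟨E, a - d, b, hE, hEp, hiso⟩, hTAK⟩

end Groth.Agent.S7035
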