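import Groth.Statements.S7055
import Groth.Agent.R2.H31Nak

set_option autoImplicit false
universe u
attribute [local instance] HasDerivedCategory.standard
open CategoryTheory
open DRing

namespace Groth.Agent.S7055

/-- For a commutative ring A, a finitely generated ideal I and an object K of D(A) which is derived
complete with respect to I, if K ⊗^L_A A/I vanishes then K vanishes. The derived tensor product with
the module A/I is the total left derived functor, assumed to exist. -/
theorem result {A : Type u} [CommRing A] (I : Ideal A) (hI : I.FG)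
    [DRing.HasLTensor A (ModuleCat.of A (A ⧸ I))]
    (K : Dual.D A) (hc : DRing.IsDerivedComplete I K)
    (h0 : Limits.IsZero ((DRing.LTensor A (ModuleCat.of A (A ⧸ I))).obj K)) : Limits.IsZero K := by
  classical
  obtain ⟨P, hP, hproj, ⟨e⟩⟩ := Groth.Agent.Lib.Helper1.DT.exists_kproj_iso K
  obtain ⟨s, hs⟩ := hI
  have hl : Ideal.span {x | x ∈ s.toList} = I := by
    rw [← hs]
    congr 1
    ext x
    simp
  have hPf := Groth.Agent.R2.H31.Nak.termwiseFlat_of_projective P hproj
  have h1 : Limits.IsZero (DerivedCategory.Q.obj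
      ((Groth.Agent.Lib.Helper1.LDer.tCx (ModuleCat.of A (A ⧸ I))).obj P)) :=
    (h0.of_iso ((DRing.LTensor A (ModuleCat.of A (A ⧸ I))).mapIso e)).of_iso
      (Groth.Agent.Lib.Helper1.LDer.ltIso (ModuleCat.of A (A ⧸ I)) P).symm
  have h2 : ∀ i : ℤ, ((Groth.Agent.Lib.Helper1.Tor.TC (ModuleCat.of A (A ⧸ I))).obj P).ExactAt i :=
    fun i => (Groth.Agent.Lib.Helper1.LDer.exactAt_tCx_iff _ P i).1
      (Groth.Agent.R2.H31.Nak.exactAt_of_isZero_Q _ h1 i)
  have h3 : ∀ i : ℤ, (Groth.Agent.R2.H31.Dev.kos s.toList P).ExactAt i := fun i =>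
    Groth.Agent.R2.H31.Nak.exAbove_kos I s.toList hl P hPf (i - 1) (fun j _ => h2 j) i (by omega)
  have h4 := Groth.Agent.R2.H31.Nak.isZero_Q_of_exact _ h3
  have hcpl : ∀ f ∈ s.toList, Groth.Agent.R2.H31.Tri.IsCpl f (DerivedCategory.Q.obj P) := by
    intro f hf
    have hfI : f ∈ I := by
      rw [← hs]
      exact Ideal.subset_span (by simpa using hf)
    exact ((Groth.Agent.R2.H31.DComp.isDerivedComplete_iff_isCpl I K).1 hc f hfI).of_iso f e.symm
  exact (Groth.Agent.R2.H31.Nak.nak s.toList P hcpl h4).of_iso e.symm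

end Groth.Agent.S7055
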