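import Groth.Statements.S7056
import Groth.Agent.R2.H31Nak

set_option autoImplicit false
universe u
attribute [local instance] HasDerivedCategory.standard
open CategoryTheory
open DRing

namespace Groth.Agent.S7056

/-- (1)⇔(2): for a commutative ring A, a finitely generated ideal I and an object K of D(A) which is
derived complete with respect to I, the cohomology of K vanishes in all positive degrees if and only
if the cohomology of K ⊗^L_A A/I does. The derived tensor product with the module A/I is the total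
left derived functor, assumed to exist. -/
theorem result {A : Type u} [CommRing A]
    (I : Ideal A) (hI : I.FG) [DRing.HasLTensor A (ModuleCat.of A (A ⧸ I))]
    (K : Dual.D A) (hc : DRing.IsDerivedComplete I K) :
    (∀ i : ℤ, 0 < i → Subsingleton (Dual.HD A K i)) ↔
      ∀ i : ℤ, 0 < i → Subsingleton (Dual.HD A ((DRing.LTensor A (ModuleCat.of A (A ⧸ I))).obj K) i) := by
  classical
  obtain ⟨P, hP, hproj, ⟨e⟩⟩ := Groth.Agent.Lib.Helper1.DT.exists_kproj_iso K
  obtain ⟨s, hs⟩ := hI
  have hl : Ideal.span {x | x ∈ s.toList} = I := by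
    rw [← hs]
    congr 1
    ext x
    simp
  have hPf := Groth.Agent.R2.H31.Nak.termwiseFlat_of_projective P hproj
  have eT : DerivedCategory.Q.obj
      ((Groth.Agent.Lib.Helper1.LDer.tCx (ModuleCat.of A (A ⧸ I))).obj P) ≅
      (DRing.LTensor A (ModuleCat.of A (A ⧸ I))).obj K :=
    (Groth.Agent.Lib.Helper1.LDer.ltIso (ModuleCat.of A (A ⧸ I)) P).symm ≪≫
      (DRing.LTensor A (ModuleCat.of A (A ⧸ I))).mapIso e
  have hL : ∀ i : ℤ, Subsingleton (Dual.HD A K i) ↔ P.ExactAt i :=
    Groth.Agent.R2.H31.Nak.subsingleton_HD_iff K P e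
  have hR : ∀ i : ℤ, Subsingleton (Dual.HD A
      ((DRing.LTensor A (ModuleCat.of A (A ⧸ I))).obj K) i) ↔
      ((Groth.Agent.Lib.Helper1.Tor.TC (ModuleCat.of A (A ⧸ I))).obj P).ExactAt i := fun i =>
    (Groth.Agent.R2.H31.Nak.subsingleton_HD_iff _ _ eT i).trans
      (Groth.Agent.Lib.Helper1.LDer.exactAt_tCx_iff _ P i)
  have hcpl : ∀ f ∈ s.toList, Groth.Agent.R2.H31.Tri.IsCpl f (DerivedCategory.Q.obj P) := by
    intro f hf
    have hfI : f ∈ I := by
      rw [← hs]
      exact Ideal.subset_span (by simpa using hf)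
    exact ((Groth.Agent.R2.H31.DComp.isDerivedComplete_iff_isCpl I K).1 hc f hfI).of_iso f e.symm
  constructor
  · intro h i hi
    rw [hR]
    exact Groth.Agent.Lib.Helper1.TorN.exactAt_TC_of_exactAt_above P
      (Groth.Agent.Lib.Helper1.KF.kflat_of_isKProjective P) 0
      (fun j hj => (hL j).1 (h j hj)) (ModuleCat.of A (A ⧸ I)) i hi
  · intro h i hi
    rw [hL]
    have h1 : Groth.Agent.R2.H31.Dev.ExAbove
        ((Groth.Agent.Lib.Helper1.Tor.TC (ModuleCat.of A (A ⧸ I))).obj P) 0 :=
      fun j hj => (hR j).1 (h j hj)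
    have h2 := Groth.Agent.R2.H31.Nak.exAbove_kos I s.toList hl P hPf 0 h1
    exact Groth.Agent.R2.H31.Nak.nakLE 0 s.toList P hcpl h2 i hi

end Groth.Agent.S7056
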