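import Groth.Statements.S7058
import Groth.Agent.R2.H31DComp

set_option autoImplicit false
universe u
attribute [local instance] HasDerivedCategory.standard
open CategoryTheory
open DRing

namespace Groth.Agent.S7058

/-- Let A be a commutative ring, I a finitely generated ideal, and assume the derived completion functor
(left adjoint to the inclusion of derived complete objects of D(A)) exists. If K is a cochain
complex of A-modules and some f in I acts bijectively on every term of K, then the derived
completion of K is zero. -/
theorem result {A : Type u} [CommRing A] (I : Ideal A) (hI : I.FG)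
    [DRing.HasDerivedCompletion I] (K : DRing.Cx A) (f : A) (hf : f ∈ I)
    (hK : ∀ i : ℤ, Function.Bijective (fun x : K.X i => f • x)) :
    Limits.IsZero ((DRing.derivedCompletion I).obj (DRing.toD K)).obj := by
  have hloc : Groth.Agent.R2.H31.Tri.IsLoc f (DRing.toD K) :=
    Groth.Agent.R2.H31.DComp.isLoc_Q_of_bijective f K hK
  have hcpl : Groth.Agent.R2.H31.Tri.IsCpl f ((DRing.derivedCompletion I).obj (DRing.toD K)).obj :=
    (Groth.Agent.R2.H31.DComp.isDerivedComplete_iff_isCpl I _).1
      ((DRing.derivedCompletion I).obj (DRing.toD K)).property f hf
  have h0 : DRing.toDerivedCompletion I (DRing.toD K) = 0 := hcpl _ hloc _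
  have h1 : 𝟙 ((DRing.derivedCompletion I).obj (DRing.toD K)) = 0 := by
    apply ((DRing.derivedCompletionAdj I).homEquiv _ _).injective
    rw [Adjunction.homEquiv_unit, Adjunction.homEquiv_unit]
    have h2 : (DRing.derivedCompletionAdj I).unit.app (DRing.toD K) = 0 := h0
    rw [h2, Limits.zero_comp, Limits.zero_comp]
  rw [Limits.IsZero.iff_id_eq_zero]
  exact congrArg (fun t => t.hom) h1

end Groth.Agent.S7058
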