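import Groth.Statements.S7066
import Groth.Agent.R2.H31PerfHom
import Groth.Agent.R2.H31PolyTorDim

set_option autoImplicit false
universe u
attribute [local instance] HasDerivedCategory.standard
open MoreMor

namespace Groth.Agent.S7066

/-- A homomorphism of commutative rings A → B is perfect, i.e. pseudo-coherent with B of finite tor
dimension as an A-module, if and only if B is a quotient of a polynomial ring A[x_1, …, x_n] over
which B is a perfect module, i.e. B placed in degree 0 is isomorphic in the derived category of the
polynomial ring to a bounded complex of finite projective modules. -/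
theorem result (A B : Type u) [CommRing A] [CommRing B] [Algebra A B] :
    MoreMor.IsPerfectHom A B ↔
      ∃ (n : ℕ) (φ : MvPolynomial (Fin n) A →ₐ[A] B), Function.Surjective φ ∧
        let _ := φ.toRingHom.toAlgebra
        DRing.IsPerfectModule (MvPolynomial (Fin n) A) B := by
  constructor
  · rintro ⟨⟨n, φ, hφ, hpc⟩, d, hd⟩
    refine ⟨n, φ, hφ, ?_⟩
    let _ := φ.toRingHom.toAlgebra
    refine (Groth.Agent.S6954.result (MvPolynomial (Fin n) A)
      (Dual.inD (MvPolynomial (Fin n) A) B)).2 ⟨hpc, ?_⟩
    let e' : B ≃ₗ[A] ((ModuleCat.restrictScalars (MvPolynomial.C : A →+* MvPolynomial (Fin n) A)).obj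
        (ModuleCat.of (MvPolynomial (Fin n) A) B)) :=
      { toFun := fun x => x
        invFun := fun x => x
        left_inv := fun _ => rfl
        right_inv := fun _ => rfl
        map_add' := fun _ _ => rfl
        map_smul' := fun r x => by
          have : ∀ y : B, r • y = φ (MvPolynomial.C r) * y := fun y => by
            rw [← MvPolynomial.algebraMap_eq, φ.commutes, Algebra.smul_def]
          exact this x }
    have h1 := Groth.Agent.R2.H31.PolyTorDim.hasTorDimLE_of_linearEquiv e' d hd
    have h2 := Groth.Agent.R2.H31.PolyTorDim.hasTorDimLE_mvPolynomial n A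
      (ModuleCat.of (MvPolynomial (Fin n) A) B) d h1
    exact ⟨-((d + n : ℕ) : ℤ), 0,
      (Groth.Agent.Lib.Helper1.TorDim.hasTorDimLE_iff_hasTorAmp B (d + n)).1 h2⟩
  · rintro ⟨n, φ, hφ, h⟩
    exact Groth.Agent.R2.H31.PerfHom.isPerfectHom_of_presentation A B n φ hφ h

end Groth.Agent.S7066
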