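import Groth.Statements.S7070
import Groth.Agent.R2.H31PerfHom
import Groth.Agent.R2.H31KoszulPerf

set_option autoImplicit false
universe u
attribute [local instance] HasDerivedCategory.standard
open MoreMor

namespace Groth.Agent.S7070

/-- A local complete intersection homomorphism of commutative rings A → B (finite type, with some
polynomial presentation whose kernel is a Koszul-regular ideal) is perfect: pseudo-coherent with B
of finite tor dimension over A. -/
theorem result (A B : Type u) [CommRing A] [CommRing B] [Algebra A B]
    (h : LCI.IsLCI A B) : MoreMor.IsPerfectHom A B := by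
  obtain ⟨-, n, φ, hφ, hI⟩ := h
  refine Groth.Agent.R2.H31.PerfHom.isPerfectHom_of_presentation A B n φ hφ ?_
  let _ := φ.toRingHom.toAlgebra
  have hP := Groth.Agent.R2.H31.KoszulPerf.isPerfectModule_quot_of_isKoszulRegularIdeal _ hI
  have hsurj : Function.Surjective (Algebra.linearMap (MvPolynomial (Fin n) A) B) := hφ
  have hker : LinearMap.ker (Algebra.linearMap (MvPolynomial (Fin n) A) B) =
      (RingHom.ker φ.toRingHom : Submodule (MvPolynomial (Fin n) A) (MvPolynomial (Fin n) A)) := by
    ext x
    rw [LinearMap.mem_ker, Algebra.linearMap_apply]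
    exact Iff.rfl
  exact Groth.Agent.R2.H31.KoszulPerf.isPerfectModule_of_linearEquiv _
    ((Submodule.quotEquivOfEq _ _ hker.symm).trans
      (LinearMap.quotKerEquivOfSurjective _ hsurj)) hP

end Groth.Agent.S7070
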