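import Groth.Statements.S7074
import Mathlib
import Groth.Agent.Lib.Helper1TorG
import Groth.Agent.Lib.Helper1Restrict
import Groth.Agent.S6938
import Groth.Agent.S7073
import Groth.Agent.S7100
-- import your own Groth.Agent.* helpers here

set_option autoImplicit false
universe u
attribute [local instance] HasDerivedCategory.standard
open CategoryTheory
open Dual2

namespace Groth.Agent.S7074

open CategoryTheory CategoryTheory.Limits DerivedCategory
open Groth.Agent.Lib.Helper1.Tor Groth.Agent.Lib.Helper1.Restrict
open Groth.Agent.Lib.Helper1.PC Groth.Agent.Lib.Helper1.PCTower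

/-- a finitely presented `A`-module which is flat over `R` (through restriction of scalars) is a
pseudo-coherent `A`-module, for `R → A` flat of finite presentation -/
theorem isPCModule'_of_fp_flat (R A : Type u) [CommRing R] [CommRing A] [Algebra R A]
    [Module.Flat R A] [Algebra.FinitePresentation R A] (N : ModuleCat.{u} A)
    [Module.FinitePresentation A N]
    (hN : Module.Flat R ((ModuleCat.restrictScalars (algebraMap R A)).obj N)) :
    DRing.IsPseudoCoherentModule' A N := by
  letI : Module R N := Module.compHom N (algebraMap R A)
  haveI : IsScalarTower R A N := IsScalarTower.of_algebraMap_smul (fun r m => rfl)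
  haveI : Module.Flat R N := hN
  unfold DRing.IsPseudoCoherentModule'
  exact isPseudoCoherent'_of_forall _
    (fun m => Groth.Agent.S7100.isPC_single_of_fp_flat R A N m)

/-- For a flat homomorphism of finite presentation R → A of commutative rings and an object K of D(A), K
is R-perfect (pseudo-coherent over A and of finite tor dimension over R) if and only if K is
isomorphic in D(A) to a bounded complex whose terms are finitely presented A-modules that are flat
as R-modules. -/
theorem result (R A : Type u) [CommRing R] [CommRing A] [Algebra R A]
    [Module.Flat R A] [Algebra.FinitePresentation R A] (K : Dual.D A) :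
    Dual2.IsRelPerfect R A K ↔
      ∃ (E : DRing.Cx A) (a b : ℤ), DRing.VanishesOutside E a b ∧
        (∀ i : ℤ, Module.FinitePresentation A (E.X i) ∧
          Module.Flat R ((ModuleCat.restrictScalars (algebraMap R A)).obj (E.X i))) ∧
        Nonempty (DRing.toD E ≅ K) := by
  constructor
  · rintro ⟨hpc, a, c, hTA⟩
    obtain ⟨F, bF, hFb, hFf, ⟨eF⟩⟩ := hpc
    obtain ⟨E', hE', hE'f, ⟨eE'⟩⟩ := hTA
    have hFRb : DRing.VanishesAbove ((DRing.restrictCx (algebraMap R A)).obj F) bF := fun i hi =>
      (ModuleCat.restrictScalars.{u} (algebraMap R A)).map_isZero (hFb i hi)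
    have hFRflat : DRing.TermwiseFlat ((DRing.restrictCx (algebraMap R A)).obj F) := by
      intro i
      have := (hFf i).2
      have : Module.Flat A (F.X i) := inferInstance
      exact Groth.Agent.S7073.flat_restrictScalars R A (F.X i)
    have e : Q.obj E' ≅ Q.obj ((DRing.restrictCx (algebraMap R A)).obj F) :=
      eE' ≪≫ (DRing.restrictD (algebraMap R A)).mapIso eF.symm ≪≫ restrictQIso _ F
    have htv : TorVan ((DRing.restrictCx (algebraMap R A)).obj F) a c :=
      torVan_of_iso _ E' bF hFRb hFRflat a c hE' hE'f e
    have hFge : CochainComplex.IsGE F a := by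
      rw [← isGE_restrictCx_iff (algebraMap R A), CochainComplex.isGE_iff]
      exact fun i hi => htv.exactAt i (Or.inl hi)
    have hq : QuasiIso (F.πTruncGE a) := (F.quasiIso_πTruncGE_iff a).2 hFge
    have hiso : IsIso (Q.map (F.πTruncGE a)) :=
      (DerivedCategory.isIso_Q_map_iff_quasiIso (φ := F.πTruncGE a)).2 hq
    refine ⟨F.truncGE a, a, max bF a, ?_, ?_, ⟨(asIso (Q.map (F.πTruncGE a))).symm ≪≫ eF⟩⟩
    · rintro i (hi | hi)
      · exact (F.truncGE a).isZero_of_isStrictlyGE a i hi
      · have hi1 : a < i := lt_of_le_of_lt (le_max_right _ _) hi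
        have hi2 : bF < i := lt_of_le_of_lt (le_max_left _ _) hi
        exact (hFb i hi2).of_iso (F.truncGEXIso a i hi1)
    · intro i
      obtain hi | rfl | hi := lt_trichotomy i a
      · have hz := (F.truncGE a).isZero_of_isStrictlyGE a i hi
        have := ModuleCat.subsingleton_of_isZero hz
        have hz' := (ModuleCat.restrictScalars.{u} (algebraMap R A)).map_isZero hz
        have := ModuleCat.subsingleton_of_isZero hz'
        exact ⟨inferInstance, inferInstance⟩
      · have hsurj : Function.Surjective (F.pOpcycles i).hom :=
          (ModuleCat.epi_iff_surjective _).1 inferInstance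
        have hexd := fexact_d_pOpcycles F i
        have hflat : Module.Flat R
            ((ModuleCat.restrictScalars.{u} (algebraMap R A)).obj (F.opcycles i)) :=
          flat_of_torVan ((DRing.restrictCx (algebraMap R A)).obj F) hFRflat i c htv
            ((ModuleCat.restrictScalars.{u} (algebraMap R A)).map (F.pOpcycles i)).hom
            hsurj hexd
        have := (hFf i).1
        have := (hFf i).2
        have := (hFf (i - 1)).1
        have : Module.FinitePresentation A (F.X i) := Module.finitePresentation_of_projective A _
        have hfp : Module.FinitePresentation A (F.opcycles i) := by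
          refine Module.finitePresentation_of_surjective (F.pOpcycles i).hom hsurj ?_
          rw [LinearMap.exact_iff.1 hexd, LinearMap.range_eq_map]
          exact Submodule.FG.map _ Module.Finite.fg_top
        refine ⟨Module.FinitePresentation.of_equiv (F.truncGEXIsoOpcycles i).toLinearEquiv.symm, ?_⟩
        exact Module.Flat.of_linearEquiv
          (((ModuleCat.restrictScalars.{u} (algebraMap R A)).mapIso
            (F.truncGEXIsoOpcycles i)).toLinearEquiv)
      · have := (hFf i).1
        have := (hFf i).2
        have : Module.FinitePresentation A (F.X i) := Module.finitePresentation_of_projective A _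
        have : Module.Flat A (F.X i) := inferInstance
        have hfl := Groth.Agent.S7073.flat_restrictScalars R A (F.X i)
        refine ⟨Module.FinitePresentation.of_equiv (F.truncGEXIso a i hi).toLinearEquiv.symm, ?_⟩
        exact Module.Flat.of_linearEquiv
          (((ModuleCat.restrictScalars.{u} (algebraMap R A)).mapIso
            (F.truncGEXIso a i hi)).toLinearEquiv)
  · rintro ⟨E, a, b, hE, hterms, ⟨e⟩⟩
    constructor
    · have hb : DRing.VanishesAbove E b := fun i hi => hE i (Or.inr hi)
      have h1 := (Groth.Agent.S6938.result A 0 E b hb).2 (fun i => by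
        have := (hterms i).1
        exact isPCModule'_of_fp_flat R A (E.X i) (hterms i).2)
      obtain ⟨E₁, b₁, h₁, h₂, ⟨e₁⟩⟩ := h1
      exact ⟨E₁, b₁, h₁, h₂, ⟨e₁ ≪≫ e⟩⟩
    · refine ⟨a, b, (DRing.restrictCx (algebraMap R A)).obj E, ?_, ?_,
        ⟨(restrictQIso _ E).symm ≪≫ (DRing.restrictD (algebraMap R A)).mapIso e⟩⟩
      · intro i hi
        exact (ModuleCat.restrictScalars.{u} (algebraMap R A)).map_isZero (hE i hi)
      · intro i
        exact (hterms i).2

end Groth.Agent.S7074
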