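import Groth.Statements.S7076
import Mathlib
import Groth.Agent.S6971
import Groth.Agent.S6952
import Groth.Agent.S7073
import Groth.Agent.R2.H26NilThick
-- import your own Groth.Agent.* helpers here

set_option autoImplicit false
universe u
attribute [local instance] HasDerivedCategory.standard
open TensorProduct
open Dual2

namespace Groth.Agent.S7076

open CategoryTheory DerivedCategory Groth.Agent.Lib.Helper1.Tor Groth.Agent.Lib.Helper1.LDer
  Groth.Agent.Lib.Helper1.TorO Groth.Agent.R2.H26.NilThick

/-- Let R' → A' be a flat homomorphism of finite presentation of commutative rings, R' → R a surjective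
homomorphism of rings with nilpotent kernel, A = R ⊗_{R'} A', and K' an object of D(A'). If the
derived base change K' ⊗^L_{A'} A (total left derived functor of extension of scalars, assumed to
exist) is R-perfect in D(A), then K' is R'-perfect in D(A'). -/
theorem result (R' A' R : Type u) [CommRing R'] [CommRing A'] [Algebra R' A']
    [CommRing R] [Algebra R' R] [Module.Flat R' A'] [Algebra.FinitePresentation R' A']
    (hs : Function.Surjective (algebraMap R' R)) (hn : IsNilpotent (RingHom.ker (algebraMap R' R)))
    [DRing.HasLBaseChange (Algebra.TensorProduct.includeRight.toRingHom : A' →+* R ⊗[R'] A')]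
    (K' : Dual.D A')
    (hK : Dual2.IsRelPerfect R (R ⊗[R'] A')
      ((DRing.LBaseChange (Algebra.TensorProduct.includeRight.toRingHom : A' →+* R ⊗[R'] A')).obj K')) :
    Dual2.IsRelPerfect R' A' K' := by
  obtain ⟨hPC, a, b, hTor⟩ := hK
  have hι_surj : Function.Surjective (ι R' A' R) := ι_surjective hs
  have hι_nil : IsNilpotent (RingHom.ker (ι R' A' R)) := isNilpotent_ker_ι hs hn
  have hPC' : DRing.IsPseudoCoherent' A' K' :=
    (Groth.Agent.S6971.result (ι R' A' R) hι_surj hι_nil K').1 hPC
  refine ⟨hPC', a, b, ?_⟩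
  obtain ⟨F, bF, hFb, hFff, ⟨eF⟩⟩ := hPC'
  have hFproj : ∀ i, Module.Projective A' (F.X i) := fun i => by
    have := (hFff i).2
    infer_instance
  haveI : F.IsKProjective := isKProjective_of_vanishesAbove F bF hFb hFproj
  let G : DRing.Cx R' := (DTen.resCx (algebraMap R' A')).obj F
  have hGb : DRing.VanishesAbove G bF := fun i hi =>
    (ModuleCat.restrictScalars (algebraMap R' A')).map_isZero (hFb i hi)
  have hGf : DRing.TermwiseFlat G := fun i => by
    have := hFproj i
    have : Module.Flat A' (F.X i) := inferInstance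
    exact Groth.Agent.S7073.flat_restrictScalars R' A' (F.X i)
  obtain ⟨E, hE, hEf, ⟨eE⟩⟩ := hTor
  have e1 : Q.obj E ≅ Q.obj ((DTen.extCx (algebraMap R' R)).obj G) :=
    eE ≪≫ (DRing.restrictD (algebraMap R (R ⊗[R'] A'))).mapIso
        ((DRing.LBaseChange (ι R' A' R)).mapIso eF.symm ≪≫ lbcIso (ι R' A' R) F) ≪≫
      (DTen.resFactors (algebraMap R (R ⊗[R'] A'))).app _ ≪≫ Q.mapIso (cxIso R' A' R F).symm
  have hv : TorVan ((DTen.extCx (algebraMap R' R)).obj G) a b :=
    torVan_of_iso _ E bF (vanishesAbove_bc (algebraMap R' R) G bF hGb)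
      (termwiseFlat_bc (algebraMap R' R) G hGf) a b hE hEf e1
  have hv' : TorVan G a b := torVan_of_torVan_extCx (algebraMap R' R) hs hn G hGf a b hv
  have h3 := hasTorAmp_of_torVan G bF hGb hGf a b hv'
  exact hasTorAmp_of_iso (((DTen.resFactors (algebraMap R' A')).app F).symm ≪≫
    (DRing.restrictD (algebraMap R' A')).mapIso eF) h3

end Groth.Agent.S7076
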