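import Groth.Statements.S7095
import Groth.Agent.R2.H31LTFin

set_option autoImplicit false
universe u
attribute [local instance] HasDerivedCategory.standard
open CategoryTheory
open DRing

namespace Groth.Agent.S7095

/-- Let A be a Noetherian commutative ring and I an ideal, and assume the derived completion functor and
the derived tensor product with a finite A-module M (total left derived functor) exist. For every
object K of D(A) whose cohomology is bounded above, K^∧ ⊗^L_A M is the derived completion of K ⊗^L_A
M through the map K ⊗^L_A M → K^∧ ⊗^L_A M induced by the canonical morphism K → K^∧ to the derived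
completion K^∧ of K: the object K^∧ ⊗^L_A M is derived complete with respect to I, and every
morphism from K ⊗^L_A M to a derived complete object of D(A) factors uniquely through that map. -/
theorem result {A : Type u} [CommRing A] [IsNoetherianRing A] (I : Ideal A)
    [DRing.HasDerivedCompletion I] (M : Type u) [AddCommGroup M] [Module A M] [Module.Finite A M]
    [DRing.HasLTensor A (ModuleCat.of A M)] (K : Dual.D A) (b : ℤ) (hK : ∀ i : ℤ, b < i → Subsingleton (Dual.HD A K i)) :
    DRing.IsDerivedComplete I ((DRing.LTensor A (ModuleCat.of A M)).obj ((DRing.derivedCompletion I).obj K).obj) ∧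
      ∀ E : Dual.D A, DRing.IsDerivedComplete I E →
        Function.Bijective (fun φ : (DRing.LTensor A (ModuleCat.of A M)).obj ((DRing.derivedCompletion I).obj K).obj ⟶ E =>
          (DRing.LTensor A (ModuleCat.of A M)).map (DRing.toDerivedCompletion I K) ≫ φ) := by
  have hη := Groth.Agent.R2.H31.Amp.isUniv_toDerivedCompletion I K
  have hI : I.FG := IsNoetherian.noetherian I
  refine ⟨?_, fun E hE =>
    Groth.Agent.R2.H31.LTFin.bijective_comp_LTensor I hI (ModuleCat.of A M) _ hη E hE⟩
  have hY : DRing.IsDerivedComplete I ((DRing.derivedCompletion I).obj K).obj :=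
    ((DRing.derivedCompletion I).obj K).property
  have hYb := Groth.Agent.R2.H31.Amp.isZero_homology_of_univ_le I (DRing.toDerivedCompletion I K)
    hη hY (b + 1) (fun i hi => by
      have := hK i (by omega)
      exact ModuleCat.isZero_of_subsingleton _)
  obtain ⟨P', hP', hproj, ⟨e'⟩⟩ :=
    Groth.Agent.Lib.Helper1.DT.exists_kproj_iso ((DRing.derivedCompletion I).obj K).obj
  have hflat := Groth.Agent.R2.H31.Nak.termwiseFlat_of_projective P' hproj
  have hc : DRing.IsDerivedComplete I (DerivedCategory.Q.obj P') :=
    Groth.Agent.R2.H31.Amp.isDerivedComplete_of_iso I e'.symm hY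
  have hb : ∀ i : ℤ, b < i → P'.ExactAt i := fun i hi => by
    rw [HomologicalComplex.exactAt_iff_isZero_homology]
    exact ((hYb i (by omega)).of_iso
      ((DerivedCategory.homologyFunctor (ModuleCat.{u} A) i).mapIso e')).of_iso
      (Groth.Agent.R2.H31.Dev.hIso P' i).symm
  have h1 := Groth.Agent.R2.H31.LTFin.isDerivedComplete_TC_finite I P' hflat hc b hb M
  refine Groth.Agent.R2.H31.Amp.isDerivedComplete_of_iso I ?_ h1
  exact DerivedCategory.Q.mapIso ((Groth.Agent.Lib.Helper1.LDer.tCxIsoTC (ModuleCat.of A M)).app P').symm ≪≫
    (Groth.Agent.Lib.Helper1.LDer.ltIso (ModuleCat.of A M) P').symm ≪≫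
    (DRing.LTensor A (ModuleCat.of A M)).mapIso e'

end Groth.Agent.S7095
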