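import Groth.Statements.S7098
import Groth.Agent.R2.H31DComp

set_option autoImplicit false
universe u
attribute [local instance] HasDerivedCategory.standard
open DRing

namespace Groth.Agent.S7098

open CategoryTheory DerivedCategory Groth.Agent.R2.H31.Tri Groth.Agent.R2.H31.DComp

section
variable {A B : Type u} [CommRing A] [CommRing B] [Algebra A B]

/-- restriction along `algebraMap` agrees with the given `A`-module structure -/
def restrictToOf :
    ((ModuleCat.restrictScalars.{u} (algebraMap A B)).obj (ModuleCat.of B B)) →ₗ[A] B where
  toFun x := x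
  map_add' _ _ := rfl
  map_smul' a x := by
    show (algebraMap A B a) • (show B from x) = a • (show B from x)
    rw [algebraMap_smul]

/-- the inverse map -/
def ofToRestrict :
    B →ₗ[A] ((ModuleCat.restrictScalars.{u} (algebraMap A B)).obj (ModuleCat.of B B)) where
  toFun x := x
  map_add' _ _ := rfl
  map_smul' a x := by
    show a • (show B from x) = (algebraMap A B a) • (show B from x)
    rw [algebraMap_smul]

/-- the ring `B`, as an `A`-module, is the restriction of scalars of itself. -/
noncomputable def restrictSelfIso :
    (ModuleCat.restrictScalars.{u} (algebraMap A B)).obj (ModuleCat.of B B) ≅ ModuleCat.of A B where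
  hom := ConcreteCategory.ofHom (C := ModuleCat.{u} A) (restrictToOf (A := A) (B := B))
  inv := ConcreteCategory.ofHom (C := ModuleCat.{u} A) (ofToRestrict (A := A) (B := B))
  hom_inv_id := rfl
  inv_hom_id := rfl

end

lemma aux {A : Type u} [CommRing A] (f : A) (K : Dual.D A)
    (h : ∀ E : Dual.D (Localization.Away f),
        Subsingleton ((DRing.restrictD (algebraMap A (Localization.Away f))).obj E ⟶ K)) (n : ℤ) :
    Subsingleton (Dual.inD A (Localization.Away f) ⟶ K⟦n⟧) := by
  let M : ModuleCat.{u} A := ModuleCat.of A (Localization.Away f)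
  let E : Dual.D (Localization.Away f) :=
    (singleFunctor (ModuleCat.{u} (Localization.Away f)) n).obj
      (ModuleCat.of (Localization.Away f) (Localization.Away f))
  let iso1 : (DRing.restrictD (algebraMap A (Localization.Away f))).obj E ≅
      (singleFunctor (ModuleCat.{u} A) n).obj M :=
    ((ModuleCat.restrictScalars.{u} (algebraMap A (Localization.Away f))).mapDerivedCategorySingleFunctor
      n).app _ ≪≫ (singleFunctor (ModuleCat.{u} A) n).mapIso (restrictSelfIso (A := A) (B := Localization.Away f))
  let iso3 : ((singleFunctor (ModuleCat.{u} A) n).obj M)⟦n⟧ ≅ (singleFunctor (ModuleCat.{u} A) 0).obj M :=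
    ((singleFunctors (ModuleCat.{u} A)).shiftIso n 0 n (by simp)).app M
  refine ⟨fun a b => ?_⟩
  have key : ∀ φ : (singleFunctor (ModuleCat.{u} A) 0).obj M ⟶ K⟦n⟧, φ = 0 := by
    intro φ
    obtain ⟨ψ, hψ⟩ := (shiftFunctor (Dual.D A) n).map_surjective (iso3.hom ≫ φ)
    have h0 : iso1.hom ≫ ψ = 0 := (h E).elim _ _
    have h1 : ψ = 0 := by rw [← cancel_epi iso1.hom, h0, Limits.comp_zero]
    rw [h1, Functor.map_zero] at hψ
    rw [← cancel_epi iso3.hom, ← hψ, Limits.comp_zero]
  exact (key a).trans (key b).symm

/-- (1)⇔(2): let A be a commutative ring, f an element of A and K an object of D(A). Then every morphism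
A_f[0] → K[n] vanishes for every integer n if and only if every morphism E → K vanishes for every
object E of D(A) obtained by restriction of scalars from D(A_f). -/
theorem result {A : Type u} [CommRing A] (f : A)
    (K : Dual.D A) :
    (∀ n : ℤ, Subsingleton (Dual.inD A (Localization.Away f) ⟶ K⟦n⟧)) ↔
      ∀ E : Dual.D (Localization.Away f),
        Subsingleton ((DRing.restrictD (algebraMap A (Localization.Away f))).obj E ⟶ K) := by
  constructor
  · intro h E
    have hc : IsCpl f K := (isCpl_iff_orth f K).2 ((orth_iff_subsingleton f K).2 h)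
    exact ⟨fun a b => (hc _ (isLoc_restrictD f E) a).trans (hc _ (isLoc_restrictD f E) b).symm⟩
  · intro h n
    exact aux f K h n

end Groth.Agent.S7098
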