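import Groth.Statements.S7102
import Mathlib
import Groth.Agent.S7073
import Groth.Agent.Lib.Helper1Restrict
import Groth.Agent.R2.H26TensRelPerf
-- import your own Groth.Agent.* helpers here

set_option autoImplicit false
universe u
attribute [local instance] HasDerivedCategory.standard
open Dual2

namespace Groth.Agent.S7102

open CategoryTheory MonoidalCategory DerivedCategory Groth.Agent.Lib.Helper1.Tor
  Groth.Agent.Lib.Helper1.LDer Groth.Agent.Lib.Helper1.TensPerf Groth.Agent.Lib.Helper1.PC
  Groth.Agent.Lib.Helper1.PCTower Groth.Agent.Lib.Helper1.Restrict Groth.Agent.Lib.Helper1.DT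
  Groth.Agent.R2.H26.TensRelPerf

/-- Let R → A be a flat homomorphism of finite presentation of commutative rings, E a bounded cochain
complex of finite projective A-modules (a perfect object of D(A)) for which the derived functor −
⊗^L_A E exists, and M an R-perfect object of D(A). Then M ⊗^L_A E is R-perfect. -/
theorem result (R A : Type u) [CommRing R] [CommRing A] [Algebra R A]
    [Module.Flat R A] [Algebra.FinitePresentation R A] (E : DRing.Cx A) (a b : ℤ)
    (hEb : DRing.VanishesOutside E a b) (hEp : DRing.TermwiseFiniteProjective E) [DRing.HasLTensorCx A E]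
    (M : Dual.D A) (hM : Dual2.IsRelPerfect R A M) :
    Dual2.IsRelPerfect R A ((DRing.LTensorCx A E).obj M) := by
  obtain ⟨hPC, c, d, hTor⟩ := hM
  have hEPC : DRing.IsPseudoCoherent' A (DRing.toD E) :=
    isPseudoCoherent'_of_forall _ (fun m =>
      isPC_of_bddAbove_finProj E b (fun i hi => hEb i (Or.inr hi)) hEp m)
  have h1 : DRing.IsPseudoCoherent' A ((DRing.LTensorCx A E).obj M) :=
    isPseudoCoherent'_LTensorCx M hPC E hEPC
  refine ⟨h1, c + a, d + b, ?_⟩
  obtain ⟨F, bF, hFb, hFff, ⟨eF⟩⟩ := hPC
  have hFproj : ∀ i, Module.Projective A (F.X i) := fun i => by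
    have := (hFff i).2
    infer_instance
  have hEproj : ∀ i, Module.Projective A (E.X i) := fun i => (hEp i).2
  have hEflat : DRing.TermwiseFlat E := fun i => by
    have := hEproj i
    infer_instance
  haveI : F.IsKProjective := isKProjective_of_vanishesAbove F bF hFb hFproj
  haveI : E.IsKProjective :=
    isKProjective_of_vanishesAbove E b (fun i hi => hEb i (Or.inr hi)) hEproj
  obtain ⟨e⟩ := nonempty_iso_LTensorCx E M F eF E (Iso.refl _)
  let G : DRing.Cx R := (DTen.resCx (algebraMap R A)).obj (F ⊗ E)
  have hGb : DRing.VanishesAbove G (bF + b) := fun n hn => by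
    refine (ModuleCat.restrictScalars (algebraMap R A)).map_isZero (isZero_tensor_X F E n ?_)
    intro p q hpq
    by_cases hp : bF < p
    · exact Or.inl (hFb p hp)
    · exact Or.inr (hEb q (Or.inr (by lia)))
  have hGf : DRing.TermwiseFlat G := fun n => by
    have := projective_tensor_X F E hFproj hEproj n
    have : Module.Flat A ((F ⊗ E).X n) := inferInstance
    exact Groth.Agent.S7073.flat_restrictScalars R A ((F ⊗ E).X n)
  -- tensor vanishing for `F|_R`
  let F₀ : DRing.Cx R := (DTen.resCx (algebraMap R A)).obj F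
  have hF₀b : DRing.VanishesAbove F₀ bF := fun i hi =>
    (ModuleCat.restrictScalars (algebraMap R A)).map_isZero (hFb i hi)
  have hF₀f : DRing.TermwiseFlat F₀ := fun i => by
    have := hFproj i
    have : Module.Flat A (F.X i) := inferInstance
    exact Groth.Agent.S7073.flat_restrictScalars R A (F.X i)
  obtain ⟨T, hT, hTf, ⟨eT⟩⟩ := hTor
  have e1 : Q.obj T ≅ Q.obj F₀ :=
    eT ≪≫ (DRing.restrictD (algebraMap R A)).mapIso eF.symm ≪≫
      (DTen.resFactors (algebraMap R A)).app F
  have hvF : TorVan F₀ c d := torVan_of_iso F₀ T bF hF₀b hF₀f c d hT hTf e1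
  have hv : TorVan G (c + a) (d + b) := by
    intro N i hi
    refine exactAt_of_iso (TCResIso R A N (F ⊗ E)).symm i ?_
    refine (exactAt_restrict_iff (algebraMap R A) _ i).2 ?_
    refine exactAt_of_iso (TCxTensorIso (extN R A N) F E).symm i ?_
    refine exactAt_tensor_of_bounded_flat _ E a b c d hEb hEflat ?_ i hi
    intro j hj
    refine (exactAt_restrict_iff (algebraMap R A) _ j).1 ?_
    exact exactAt_of_iso (TCResIso R A N F) j (hvF N j hj)
  have h3 := hasTorAmp_of_torVan G (bF + b) hGb hGf (c + a) (d + b) hv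
  exact hasTorAmp_of_iso (((DTen.resFactors (algebraMap R A)).app (F ⊗ E)).symm ≪≫
    (DRing.restrictD (algebraMap R A)).mapIso e.symm) h3

end Groth.Agent.S7102
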