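import Groth.Statements.S7103
import Groth.Agent.R2.H31LTPc

set_option autoImplicit false
universe u
attribute [local instance] HasDerivedCategory.standard
open CategoryTheory
open DRing

namespace Groth.Agent.S7103

/-- Let A be a Noetherian commutative ring and I an ideal; assume the derived completion functor exists.
Let F be a bounded above cochain complex of finite free A-modules (a pseudo-coherent object) for
which − ⊗^L_A F exists, and K an object of D(A) whose cohomology is bounded above. Then K^∧ ⊗^L_A F
is the derived completion of K ⊗^L_A F through the map K ⊗^L_A F → K^∧ ⊗^L_A F induced by the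
canonical morphism K → K^∧ to the derived completion K^∧ of K: the object K^∧ ⊗^L_A F is derived
complete with respect to I, and every morphism from K ⊗^L_A F to a derived complete object of D(A)
factors uniquely through that map. -/
theorem result {A : Type u} [CommRing A] [IsNoetherianRing A] (I : Ideal A)
    [DRing.HasDerivedCompletion I] (F : DRing.Cx A) (c : ℤ) (hFc : DRing.VanishesAbove F c)
    (hFf : DRing.TermwiseFiniteFree F) [DRing.HasLTensorCx A F]
    (K : Dual.D A) (b : ℤ) (hK : ∀ i : ℤ, b < i → Subsingleton (Dual.HD A K i)) :
    DRing.IsDerivedComplete I ((DRing.LTensorCx A F).obj ((DRing.derivedCompletion I).obj K).obj) ∧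
      ∀ E : Dual.D A, DRing.IsDerivedComplete I E →
        Function.Bijective (fun φ : (DRing.LTensorCx A F).obj ((DRing.derivedCompletion I).obj K).obj ⟶ E =>
          (DRing.LTensorCx A F).map (DRing.toDerivedCompletion I K) ≫ φ) := by
  have hη := Groth.Agent.R2.H31.Amp.isUniv_toDerivedCompletion I K
  refine ⟨?_, fun E hE =>
    Groth.Agent.R2.H31.LTPc.bijective_comp_LTensorCx I F _ hη E hE⟩
  have hY : DRing.IsDerivedComplete I ((DRing.derivedCompletion I).obj K).obj :=
    ((DRing.derivedCompletion I).obj K).property
  have hYb := Groth.Agent.R2.H31.Amp.isZero_homology_of_univ_le I (DRing.toDerivedCompletion I K)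
    hη hY (b + 1) (fun i hi => by
      have := hK i (by omega)
      exact ModuleCat.isZero_of_subsingleton _)
  exact Groth.Agent.R2.H31.LTPc.isDerivedComplete_LTensorCx I F c hFc hFf _ hY b
    (fun i hi => hYb i (by omega))

end Groth.Agent.S7103
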