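import Groth.Statements.S7168
import Groth.Agent.R2.H31PCFP

set_option autoImplicit false
universe u
attribute [local instance] HasDerivedCategory.standard
open FlatMor

namespace Groth.Agent.S7168

open AlgebraicGeometry CategoryTheory Limits in
/-- A pseudo-coherent morphism of schemes is locally of finite presentation. -/
theorem result {X S : Scheme.{u}} (f : X ⟶ S) (hf : MoreMor.IsPseudoCoherentMor f) :
    LocallyOfFinitePresentation f := by
  refine ⟨fun {V} hV {U} hU e => ?_⟩
  have h := hf U V hU hV e
  letI := (f.appLE V U e).hom.toAlgebra
  have := Groth.Agent.R2.H31.PCFP.finitePresentation_of_isPseudoCoherentHom Γ(S, V) Γ(X, U) h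
  exact (RingHom.finitePresentation_algebraMap (A := Γ(S, V)) (B := Γ(X, U))).2 this

end Groth.Agent.S7168
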