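import Groth.Statements.S7169
import Groth.Agent.R2.H7PCMor

set_option autoImplicit false
universe u
attribute [local instance] HasDerivedCategory.standard
open FlatMor

namespace Groth.Agent.S7169

open AlgebraicGeometry CategoryTheory Limits in
/-- If X and Y are pseudo-coherent over a base scheme S (via g : Y → S and f ≫ g), then any S-morphism f
: X → Y is pseudo-coherent. -/
theorem result {X Y S : Scheme.{u}} (f : X ⟶ Y) (g : Y ⟶ S)
    (hX : MoreMor.IsPseudoCoherentMor (f ≫ g)) (hY : MoreMor.IsPseudoCoherentMor g) : MoreMor.IsPseudoCoherentMor f := by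
  have hQ : RingHom.StableUnderCompositionWithLocalizationAwaySource
      @Groth.Agent.R2.H7.PCHom.PCH :=
    (Groth.Agent.R2.H7.PCMor.pch_stableUnderComposition.stableUnderCompositionWithLocalizationAway
      Groth.Agent.R2.H7.PCMor.pch_holdsForLocalizationAway).1
  rw [← Groth.Agent.R2.H7.PCMor.pcMor_iff,
    AlgebraicGeometry.HasRingHomProperty.iff_exists_appLE
      (P := Groth.Agent.R2.H7.PCMor.pcMor) (Q := @Groth.Agent.R2.H7.PCHom.PCH) hQ]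
  intro x
  obtain ⟨_, ⟨W, hW, rfl⟩, hxW, -⟩ :=
    S.isBasis_affineOpens.exists_subset_of_mem_open (Set.mem_univ (g (f x))) isOpen_univ
  obtain ⟨_, ⟨V, hV, rfl⟩, hxV, hVW⟩ :=
    Y.isBasis_affineOpens.exists_subset_of_mem_open
      (show f x ∈ ((g ⁻¹ᵁ W : Y.Opens) : Set Y) from hxW) (g ⁻¹ᵁ W).isOpen
  obtain ⟨_, ⟨U, hU, rfl⟩, hxU, hUV⟩ :=
    X.isBasis_affineOpens.exists_subset_of_mem_open
      (show x ∈ ((f ⁻¹ᵁ V : X.Opens) : Set X) from hxV) (f ⁻¹ᵁ V).isOpen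
  have hVW' : V ≤ g ⁻¹ᵁ W := hVW
  have hUV' : U ≤ f ⁻¹ᵁ V := hUV
  have hUW : U ≤ (f ≫ g) ⁻¹ᵁ W := by
    rw [AlgebraicGeometry.Scheme.Hom.comp_preimage]
    exact hUV'.trans (f.preimage_mono hVW')
  refine ⟨⟨V, hV⟩, ⟨U, hU⟩, hxU, hUV', ?_⟩
  have h1 := (Groth.Agent.R2.H7.PCMor.isPseudoCoherentMor_iff g).1 hY ⟨W, hW⟩ ⟨V, hV⟩ hVW'
  have h2 := (Groth.Agent.R2.H7.PCMor.isPseudoCoherentMor_iff (f ≫ g)).1 hX ⟨W, hW⟩ ⟨U, hU⟩ hUW
  have e : (f ≫ g).appLE W U hUW = g.appLE W V hVW' ≫ f.appLE V U hUV' :=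
    (AlgebraicGeometry.Scheme.Hom.appLE_comp_appLE _ _ _ _ _ _ _).symm
  rw [e] at h2
  exact Groth.Agent.R2.H7.PCZar.PCH.of_comp h1 h2

end Groth.Agent.S7169
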