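import Groth.Statements.S7171
import Groth.Agent.R2.H69StalkTor
import Groth.Agent.R2.H7PCMor

set_option autoImplicit false
set_option linter.style.haveILetI false
universe u
attribute [local instance] HasDerivedCategory.standard
open FlatMor

namespace Groth.Agent.S7171

open AlgebraicGeometry CategoryTheory Limits in
/-- (1) ⇔ (2): a morphism f : X → S is perfect (for all affine opens U ⊆ f⁻¹(V) the ring map O_S(V) →
O_X(U) is perfect) if and only if every point of X lies in some affine open U, contained in the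
preimage of some affine open V of S, for which O_S(V) → O_X(U) is a perfect ring map. (The third
equivalent condition, via relative pseudo-coherence and local finite tor dimension of the structure
sheaf, is not restated.) -/
theorem result {X S : Scheme.{u}} (f : X ⟶ S) :
    MoreMor.IsPerfectMor f ↔ ∀ x : X, ∃ (U : X.Opens) (V : S.Opens) (hUV : U ≤ f ⁻¹ᵁ V),
      IsAffineOpen U ∧ IsAffineOpen V ∧ x ∈ U ∧
      (letI := (f.appLE V U hUV).hom.toAlgebra
       MoreMor.IsPerfectHom Γ(S, V) Γ(X, U)) := by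
  constructor
  · intro h x
    obtain ⟨_, ⟨V, hV, rfl⟩, hxV, -⟩ :=
      S.isBasis_affineOpens.exists_subset_of_mem_open (Set.mem_univ (f x)) isOpen_univ
    obtain ⟨_, ⟨U, hU, rfl⟩, hxU, hUV⟩ :=
      X.isBasis_affineOpens.exists_subset_of_mem_open
        (show x ∈ ((f ⁻¹ᵁ V : X.Opens) : Set X) from hxV) (f ⁻¹ᵁ V).isOpen
    exact ⟨U, V, hUV, hU, hV, hxU, h U V hU hV hUV⟩
  · intro h
    -- `f` is pseudo-coherent
    have hpc : MoreMor.IsPseudoCoherentMor f := by
      have hQ : RingHom.StableUnderCompositionWithLocalizationAwaySource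
          @Groth.Agent.R2.H7.PCHom.PCH :=
        (Groth.Agent.R2.H7.PCMor.pch_stableUnderComposition.stableUnderCompositionWithLocalizationAway
          Groth.Agent.R2.H7.PCMor.pch_holdsForLocalizationAway).1
      rw [← Groth.Agent.R2.H7.PCMor.pcMor_iff,
        AlgebraicGeometry.HasRingHomProperty.iff_exists_appLE
          (P := Groth.Agent.R2.H7.PCMor.pcMor) (Q := @Groth.Agent.R2.H7.PCHom.PCH) hQ]
      intro x
      obtain ⟨U, V, hUV, hU, hV, hxU, hperf⟩ := h x
      letI := (f.appLE V U hUV).hom.toAlgebra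
      exact ⟨⟨V, hV⟩, ⟨U, hU⟩, hxU, hUV, Groth.Agent.R2.H7.PCHom.isPseudoCoherentHom_iff.1 hperf.1⟩
    -- the stalks have finite tor dimension
    have hstalk : ∀ x : X, ∃ d : ℕ, Groth.Agent.R2.H69.StalkTor.StalkTorLE f d x := by
      intro x
      obtain ⟨U, V, hUV, hU, hV, hxU, hperf⟩ := h x
      obtain ⟨-, d, hd⟩ := hperf
      exact ⟨d, Groth.Agent.R2.H69.StalkTor.hasTorDimLE_stalk_of_appLE f hU hV hUV x hxU d hd⟩
    intro U V hU hV hUV
    exact ⟨hpc U V hU hV hUV,
      Groth.Agent.R2.H69.StalkTor.exists_hasTorDimLE_appLE_of_pc f hU hV hUV (hpc U V hU hV hUV)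
        (fun x _ => hstalk x)⟩

end Groth.Agent.S7171
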