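import Groth.Statements.S7173
import Groth.Agent.R2.H69RegTorDim
import Groth.Agent.S6942

set_option autoImplicit false
set_option linter.style.haveILetI false
universe u
attribute [local instance] HasDerivedCategory.standard
open FlatMor

namespace Groth.Agent.S7173

open AlgebraicGeometry CategoryTheory Limits in
/-- A morphism locally of finite type to a regular scheme S (locally Noetherian with all local rings
regular) whose affine opens have finite Krull dimension is perfect. (The published statement carries
no dimension hypothesis; its proof is the ring statement for a finite type algebra over a regular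
ring of finite dimension, so finite Krull dimension of the affine opens of S is assumed here.) -/
theorem result {X S : Scheme.{u}} (f : X ⟶ S) [LocallyOfFiniteType f] [IsLocallyNoetherian S]
    (hreg : ∀ s : S, IsRegularLocalRing (S.presheaf.stalk s))
    (hdim : ∀ V : S.Opens, IsAffineOpen V → ringKrullDim Γ(S, V) < ⊤) :
    MoreMor.IsPerfectMor f := by
  intro U V hU hV hUV
  letI := (f.appLE V U hUV).hom.toAlgebra
  have hN : IsNoetherianRing Γ(S, V) := IsLocallyNoetherian.component_noetherian ⟨V, hV⟩
  have hft : Algebra.FiniteType Γ(S, V) Γ(X, U) := f.finiteType_appLE hV hU hUV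
  refine ⟨?_, ?_⟩
  · -- pseudo-coherence: a finite type algebra over a Noetherian ring
    obtain ⟨n, φ, hφ⟩ := Algebra.FiniteType.iff_quotient_mvPolynomial''.mp hft
    refine ⟨n, φ, hφ, ?_⟩
    letI := φ.toRingHom.toAlgebra
    have hfin : Module.Finite (MvPolynomial (Fin n) Γ(S, V)) Γ(X, U) :=
      Module.Finite.of_surjective (Algebra.linearMap (MvPolynomial (Fin n) Γ(S, V)) Γ(X, U)) hφ
    exact (Groth.Agent.S6942.result (MvPolynomial (Fin n) Γ(S, V)) 0
      (Dual.inD _ Γ(X, U)) Γ(X, U)).2.2 hfin
  · -- finite tor dimension: the base ring is regular of finite Krull dimension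
    have hlt := hdim V hV
    obtain ⟨d, hd⟩ : ∃ d : ℕ, ringKrullDim Γ(S, V) ≤ (d : WithBot ℕ∞) := by
      cases h : ringKrullDim Γ(S, V) with
      | bot => exact ⟨0, bot_le⟩
      | coe k =>
        cases k with
        | top => rw [h] at hlt; exact absurd hlt (lt_irrefl _)
        | coe n => exact ⟨n, le_rfl⟩
    refine ⟨d, Groth.Agent.R2.H69.RegTorDim.hasTorDimLE_of_regular Γ(S, V) d ?_ ?_ Γ(X, U)⟩
    · intro p hp
      let y : PrimeSpectrum Γ(S, V) := ⟨p, hp⟩
      have hy : hV.fromSpec y ∈ V := hV.opensRange_fromSpec.le ⟨y, rfl⟩
      letI := TopCat.Presheaf.algebra_section_stalk S.presheaf ⟨hV.fromSpec y, hy⟩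
      have hloc : IsLocalization p.primeCompl (S.presheaf.stalk (hV.fromSpec y)) :=
        hV.isLocalization_stalk' y hy
      have := hreg (hV.fromSpec y)
      exact IsRegularLocalRing.of_ringEquiv
        (IsLocalization.algEquiv p.primeCompl (S.presheaf.stalk (hV.fromSpec y))
          (Localization.AtPrime p)).toRingEquiv
    · intro p hp
      rw [IsLocalization.AtPrime.ringKrullDim_eq_height p (Localization.AtPrime p)]
      exact (Ideal.height_le_ringKrullDim_of_ne_top hp.ne_top).trans hd

end Groth.Agent.S7173
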