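import Groth.Statements.S7221
import Groth.Agent.R2.H6NLBase

set_option autoImplicit false
universe u
open CategoryTheory CategoryTheory.Limits TensorProduct
attribute [local instance] HasDerivedCategory.standard
open FlatMor

namespace Groth.Agent.S7221

/-- Let R → S and R → R' be ring homomorphisms and let S' be an algebra over R' and over S making the
square cocartesian, S' = S ⊗_R R'. Let G be a presentation of S over R by a polynomial algebra and
G' the presentation of S' over R' on the same set of variables, each variable mapping to the image
of the corresponding generator (the base change of G). Then the canonical map H^{-1}(NL(G) ⊗_S S') →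
H^{-1}(NL(G')) is surjective. The same holds for the canonical map H^{-1}(NL_{S/R} ⊗_S S') →
H^{-1}(NL_{S'/R'}) between the complexes of the presentations on all elements. (In degree 0 the
corresponding map S' ⊗_S Ω_{S/R} → Ω_{S'/R'} is bijective; that part is not restated.) -/
theorem result (R S R' S' : Type u) [CommRing R] [CommRing S] [CommRing R']
    [CommRing S'] [Algebra R S] [Algebra R' S'] [Algebra R R'] [Algebra S S'] [Algebra R S']
    [IsScalarTower R R' S'] [IsScalarTower R S S'] [Algebra.IsPushout R R' S S']
    {ι : Type u} (G : Algebra.Generators R S ι) (G' : Algebra.Generators R' S' ι)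
    (h : ∀ i, G'.val i = algebraMap S S' (G.val i)) :
    Function.Surjective (NLCx.bcH1Map (NLCx.sameVarsHom G G' h).toExtensionHom) ∧
      Function.Surjective (NLCx.bcH1Map
        ((Algebra.Generators.self R S).defaultHom (Algebra.Generators.self R' S')).toExtensionHom) := by
  open Groth.Agent.R2.H6.NLBase in
  constructor
  · exact bcH1Map_surjective _ (sameVars_cotangent_surjective G G' h)
      (cotangentSpace_sameVars_bijective G G' h).1
  · rw [defaultHom_eq, Algebra.Generators.Hom.toExtensionHom_comp]
    intro y
    let e := Algebra.Extension.H1Cotangent.equiv (midHom R S R' S').toExtensionHom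
      ((Algebra.Generators.self R' S').defaultHom (midGen R S R' S')).toExtensionHom
    obtain ⟨x, hx⟩ := bcH1Map_surjective (S' := S') _
      (sameVars_cotangent_surjective (Algebra.Generators.self R S) (midGen R S R' S')
        (midGen_val R S R' S'))
      (cotangentSpace_sameVars_bijective (Algebra.Generators.self R S) (midGen R S R' S')
        (midGen_val R S R' S')).1 (e.symm y)
    refine ⟨x, ?_⟩
    rw [bcH1Map_comp, hx]
    exact e.apply_symm_apply y

end Groth.Agent.S7221
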