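import Groth.Statements.S7260
import Groth.Agent.R2.H17RlimMod

set_option autoImplicit false
universe u
open CategoryTheory CategoryTheory.Limits AlgebraicGeometry
attribute [local instance] HasDerivedCategory.standard
open Perf

namespace Groth.Agent.S7260

/-- Let X be a scheme and (F_n)_{n ≥ 0} an inverse system of quasi-coherent O_X-modules whose transition
maps F_{n+1} ⟶ F_n are surjective for n ≥ 1. Then R lim F_n = lim F_n, that is, lim F_n placed in
degree 0 is a derived limit in D(O_X) of the system (F_n[0]) (granted the countable product exists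
there), and H^p(U, lim F_n) = 0 for every affine open U ⊆ X and every p > 0. (The published
statement is phrased for the system of q-th cohomology sheaves of an inverse system in D_QCoh(O_X);
the proof uses only that these form an inverse system of quasi-coherent modules with surjective
transition maps, which is the form stated here.) -/
theorem result {X : Scheme.{u}} (F : ℕ → X.Modules)
    (hF : ∀ n, Coh.IsQCoh (F n)) (t : ∀ n, F (n + 1) ⟶ F n) (ht : ∀ n, 1 ≤ n → Epi (t n))
    [HasProduct fun n => DCoh.inD X (F n)] :
    DCoh.IsRlim (fun n => DCoh.inD X (F n)) (fun n => (DerivedCategory.singleFunctor X.Modules 0).map (t n))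
        (DCoh.inD X (Limits.limit (Functor.ofOpSequence t))) ∧
      ∀ (U : X.Opens), IsAffineOpen U → ∀ p : ℕ, 0 < p →
        Subsingleton (Coh.HHon X (Limits.limit (Functor.ofOpSequence t)) U p) := by
  let G : ℕᵒᵖ ⥤ X.Modules := Functor.ofOpSequence t
  have hG : ∀ n, G.map (homOfLE (Nat.le_succ n)).op = t n :=
    fun n => Functor.ofOpSequence_map_homOfLE_succ t n
  have hq : ∀ n, (G.obj (Opposite.op n)).IsQuasicoherent := fun n => hF n
  have hepi : ∀ n, 1 ≤ n → Epi (G.map (homOfLE (Nat.le_succ n)).op) := by
    intro n hn
    rw [hG n]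
    exact ht n hn
  refine ⟨?_, fun U hU p hp =>
    Groth.Agent.R2.H17.RlimMod.subsingleton_HHon_limit' G hq hepi U hU p hp⟩
  have : HasProduct (Groth.Agent.R2.H10.RlimSingle.KK (fun n => G.obj (Opposite.op n))) :=
    ‹HasProduct fun n => DCoh.inD X (F n)›
  have hL := Groth.Agent.R2.H17.RlimMod.isRlimVia_limit_modules G hq hepi
  have hG' : (fun n => G.map (homOfLE (Nat.le_succ n)).op) = t := funext hG
  rw [hG'] at hL
  obtain ⟨c, hc⟩ := hL
  exact ⟨_, c, hc⟩

end Groth.Agent.S7260
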