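import Groth.Statements.S7287
import Groth.Agent.R2.H19TrdegBC

set_option autoImplicit false
set_option linter.style.haveILetI false
set_option linter.unusedVariables false
open CategoryTheory CategoryTheory.Limits AlgebraicGeometry Opposite
universe u
open RelCyc

namespace Groth.Agent.S7287

open Groth.Agent.Lib.Helper4.DimFormula Groth.Agent.R2.H19.TrdegBC


/-- Let f from X to S be locally of finite type, r a natural number and g from S' to S a surjective
morphism. Let S'' be the fibre product of S' with itself over S (projections p, q), X' the base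
change of X along g (structure map f', projection g' to X), and X'' the base change of X along S''
with structure map f'' and the two projections p', q' to X' lying over p and q and compatible with
the projections to X. Let x be a point of X whose residue field has transcendence degree r over that
of f(x). If x1 and x2 are points of X' mapping to x whose residue fields have transcendence degree r
over those of their images in S', then there is a point of X'' whose residue field has transcendence
degree r over that of its image in S'' and whose two projections are x1 and x2. -/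
theorem result {X S S' S'' X' X'' : Scheme.{u}}
    (f : X ⟶ S) [LocallyOfFiniteType f] (r : ℕ) (g : S' ⟶ S) [Surjective g]
    (p q : S'' ⟶ S') (hS : IsPullback p q g g)
    (f' : X' ⟶ S') (g' : X' ⟶ X) (hX : IsPullback g' f' f g)
    (f'' : X'' ⟶ S'') (p' q' : X'' ⟶ X') (hp : IsPullback p' f'' f' p) (hq : IsPullback q' f'' f' q)
    (hpq : p' ≫ g' = q' ≫ g')
    (x : ↥X) (hx : Dual3.resTrdeg f x = r)
    (x₁ x₂ : ↥X') (h₁ : g'.base x₁ = x) (h₂ : g'.base x₂ = x)
    (hx₁ : Dual3.resTrdeg f' x₁ = r) (hx₂ : Dual3.resTrdeg f' x₂ = r) :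
    ∃ x'' : ↥X'', Dual3.resTrdeg f'' x'' = r ∧ p'.base x'' = x₁ ∧ q'.base x'' = x₂ := by
  haveI : LocallyOfFiniteType f' :=
    MorphismProperty.of_isPullback (P := @LocallyOfFiniteType) hX inferInstance
  haveI : LocallyOfFiniteType f'' :=
    MorphismProperty.of_isPullback (P := @LocallyOfFiniteType) hp inferInstance
  -- translate the hypotheses
  have cx : ∀ {A B : Scheme.{u}} (φ : A ⟶ B) [LocallyOfFiniteType φ] (a : A),
      Dual3.resTrdeg φ a = (ptTrdeg φ a : Cardinal.{u}) := fun φ _ a => trdeg_eq_ptTrdeg φ a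
  have hx' : ptTrdeg f x = r := by
    rw [cx f x] at hx; exact_mod_cast hx
  have hx₁' : ptTrdeg f' x₁ = r := by
    rw [cx f' x₁] at hx₁; exact_mod_cast hx₁
  have hx₂' : ptTrdeg f' x₂ = r := by
    rw [cx f' x₂] at hx₂; exact_mod_cast hx₂
  -- `X''` is the base change of `X` along `S'' → S`
  have sq2 : IsPullback (p' ≫ g') f'' f (p ≫ g) := hp.paste_horiz hX
  -- `X''` is the fibre product of `X'` with itself over `X`
  have sqPP : IsPullback q' p' g' g' := by
    have big : IsPullback (q' ≫ f') p' g (g' ≫ f) := by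
      have h1 : IsPullback (f'' ≫ q) p' g (f' ≫ g) := (hp.flip.paste_horiz hS.flip)
      rw [hq.w, hX.w]
      exact h1
    exact IsPullback.of_right big hpq.symm hX.flip
  obtain ⟨x''₀, hq0, hp0⟩ := Scheme.exists_preimage_of_isPullback sqPP x₂ x₁ (h₂.trans h₁.symm)
  have hx0 : (p' ≫ g') x''₀ = x := by
    rw [Scheme.Hom.comp_apply, hp0, h₁]
  obtain ⟨-, hex⟩ := ptTrdeg_baseChange_over_point f (p ≫ g) (p' ≫ g') f'' sq2 x
  obtain ⟨hle, -⟩ := ptTrdeg_baseChange_over_point f g g' f' hX x
  obtain ⟨w, hw1, hw2, hw3, hw4⟩ := hex x''₀ hx0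
  have key : ∀ (π : X'' ⟶ X') (ρ : S'' ⟶ S') (hsq : π ≫ f' = f'' ≫ ρ) (hπg : π ≫ g' = p' ≫ g')
      (x' : X') (hx' : π x''₀ = x') (hr : ptTrdeg f' x' = r), π w = x' := by
    intro π ρ hsq hπg x' hx'0 hr
    by_contra hne
    have hsp : π w ⤳ x' := hx'0 ▸ hw1.map π.continuous
    have hfib : f' (π w) = f' x' := by
      have e1 : f' (π w) = ρ (f'' w) := by
        rw [← Scheme.Hom.comp_apply, hsq, Scheme.Hom.comp_apply]
      have e2 : f' (π x''₀) = ρ (f'' x''₀) := by
        rw [← Scheme.Hom.comp_apply, hsq, Scheme.Hom.comp_apply]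
      rw [e1, hw2, ← e2, hx'0]
    have hlt := Groth.Agent.Lib.Helper6.EquiSub.ptTrdeg_lt_of_specializes f' (π w) x' hfib hsp hne
    have hgw : g' (π w) = x := by
      rw [← Scheme.Hom.comp_apply, hπg]; exact hw3
    have := hle (π w) hgw
    omega
  refine ⟨w, ?_, key p' p hp.w rfl x₁ hp0 hx₁', key q' q hq.w hpq.symm x₂ hq0 hx₂'⟩
  rw [cx f'' w, hw4, hx']

end Groth.Agent.S7287
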