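import Groth.Statements.S7291
import Groth.Agent.R2.H33VLimit

set_option autoImplicit false
open CategoryTheory CategoryTheory.Limits AlgebraicGeometry Opposite
universe w u
open HTop

namespace Groth.Agent.S7291

/-- Let Y be an affine scheme and let X be the limit (as a scheme) of a cofiltered system of affine
schemes X_i over Y. Then the one-member family X over Y is a standard V covering exactly when, for
every i, the one-member family X_i over Y is a standard V covering. -/
theorem result {Y : Scheme.{u}} [IsAffine Y]
    {I : Type u} [SmallCategory I] [IsCofiltered I] (D : I ⥤ Over Y) [∀ i, IsAffine (D.obj i).left]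
    (c : Cone D) (hc : IsLimit ((Over.forget Y).mapCone c)) :
    HTop.IsStandardV (PreZeroHypercover.singleton.{w} c.pt.hom) ↔
      ∀ i, HTop.IsStandardV (PreZeroHypercover.singleton.{w} (D.obj i).hom) := by
  constructor
  · intro h i
    refine ⟨inferInstance, inferInstanceAs (Finite PUnit), fun _ => inferInstanceAs (IsAffine (D.obj i).left), ?_⟩
    intro V _ _ g
    obtain ⟨W, hWd, hWv, φ, hφ, j, g', hg'⟩ := h.lift V g
    refine ⟨W, hWd, hWv, φ, hφ, PUnit.unit, g' ≫ (c.π.app i).left, ?_⟩
    have e : (c.π.app i).left ≫ (D.obj i).hom = c.pt.hom := Over.w (c.π.app i)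
    calc (g' ≫ (c.π.app i).left) ≫ (D.obj i).hom
        = g' ≫ ((c.π.app i).left ≫ (D.obj i).hom) := Category.assoc _ _ _
      _ = g' ≫ c.pt.hom := congrArg (fun x => g' ≫ x) e
      _ = Spec.map φ ≫ g := hg'
  · intro h
    have hD : ∀ i, IsAffine ((D ⋙ Over.forget Y).obj i) := fun i =>
      inferInstanceAs (IsAffine (D.obj i).left)
    have haff : IsAffine c.pt.left :=
      Scheme.isAffine_of_isLimit ((Over.forget Y).mapCone c) hc
    refine ⟨inferInstance, inferInstanceAs (Finite PUnit), fun _ => haff, ?_⟩
    exact Groth.Agent.R2.H33.VLimit.hasValLift_of_isLimit D c hc (fun i => (h i).lift)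

end Groth.Agent.S7291
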