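import Groth.Statements.S7388
import Mathlib
import Groth.Agent.S7389
import Groth.Agent.Lib.Helper22GrAvoid

set_option autoImplicit false
universe u
open CategoryTheory AlgebraicGeometry
open Mor

namespace Groth.Agent.S7388

/-- Let `X` be a scheme admitting an immersion into `Proj S` for some graded ring `S`. Then any finite
set of points of `X` is contained in an affine open of `X`. -/
theorem result {R A : Type u} [CommRing R] [CommRing A] [Algebra R A]
    (𝒜 : ℕ → Submodule R A) [GradedAlgebra 𝒜] {X : Scheme.{u}} (ι : X ⟶ Proj 𝒜) [IsImmersion ι]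
    (E : Set X) (hE : E.Finite) :
    ∃ U : X.Opens, IsAffineOpen U ∧ E ⊆ U := by
  classical
  -- the finitely many homogeneous primes
  let P : Finset (Ideal A) := hE.toFinset.image (fun e => (ι e).asHomogeneousIdeal.toIdeal)
  have hP : ∀ p ∈ P, p.IsPrime ∧ ¬ (HomogeneousIdeal.irrelevant 𝒜).toIdeal ≤ p := by
    intro p hp
    obtain ⟨e, -, rfl⟩ := Finset.mem_image.mp hp
    exact ⟨(ι e).isPrime, (ι e).not_irrelevant_le⟩
  obtain ⟨f, d, hd, hfd, -, hf⟩ := Groth.Agent.Lib.Helper22.GrAvoid.exists_homogeneous_avoid 𝒜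
    (HomogeneousIdeal.irrelevant 𝒜).toIdeal (HomogeneousIdeal.irrelevant 𝒜).isHomogeneous le_rfl P hP
  have hEf : ∀ e ∈ E, ι e ∈ Proj.basicOpen 𝒜 f := by
    intro e he
    rw [Proj.mem_basicOpen]
    exact hf _ (Finset.mem_image.mpr ⟨e, hE.mem_toFinset.mpr he, rfl⟩)
  have haff : IsAffineOpen (Proj.basicOpen 𝒜 f) := Proj.isAffineOpen_basicOpen 𝒜 f hfd hd
  have : IsAffine (Proj.basicOpen 𝒜 f).toScheme := haff
  -- restrict the immersion to the basic open
  let W : X.Opens := ι ⁻¹ᵁ Proj.basicOpen 𝒜 f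
  have himm : IsImmersion (ι ∣_ Proj.basicOpen 𝒜 f) := inferInstance
  obtain ⟨U', hU', hEU'⟩ := Groth.Agent.S7389.result (ι ∣_ Proj.basicOpen 𝒜 f) (W.ι ⁻¹' E)
    (hE.preimage (W.ι.injective.injOn))
  refine ⟨W.ι ''ᵁ U', hU'.image_of_isOpenImmersion W.ι, fun e he => ?_⟩
  have heW : e ∈ W := hEf e he
  exact ⟨⟨e, heW⟩, hEU' (show W.ι ⟨e, heW⟩ ∈ E from he), rfl⟩

end Groth.Agent.S7388
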