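import Groth.Statements.S7394
import Groth.Agent.R2.H32CommonField

set_option autoImplicit false
universe u
open CategoryTheory AlgebraicGeometry
open Lim

namespace Groth.Agent.S7394

/-- Let `S` be a scheme and `T_i → S`, `i ∈ I`, surjective affine morphisms. Then any product of the
`T_i` in the category of schemes over `S` maps surjectively onto `S`. -/
theorem result {S : Scheme.{u}} {I : Type u} (T : I → Over S)
    (hT : ∀ i, IsAffineHom (T i).hom ∧ Surjective (T i).hom) (c : Limits.Fan T) (hc : Limits.IsLimit c) :
    Surjective c.pt.hom := by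
  refine ⟨fun s => ?_⟩
  -- points over `s`
  have hex : ∀ i, ∃ t : (T i).left, (T i).hom t = s := fun i => (hT i).2.surj s
  choose t ht using hex
  -- the residue field extensions
  let α : ∀ i, S.residueField s ⟶ (T i).left.residueField (t i) := fun i =>
    (S.residueFieldCongr (ht i).symm).hom ≫ (T i).hom.residueFieldMap (t i)
  let _ : ∀ i, Algebra (S.residueField s) ((T i).left.residueField (t i)) := fun i => (α i).hom.toAlgebra
  obtain ⟨L, _, _, hφ⟩ := Groth.Agent.R2.H32.CommonField.exists_common_field (S.residueField s)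
    (fun i => (T i).left.residueField (t i))
  let φ : ∀ i, (T i).left.residueField (t i) →ₐ[S.residueField s] L := fun i => (hφ i).some
  let σ : Spec (CommRingCat.of L) ⟶ S :=
    Spec.map (CommRingCat.ofHom (algebraMap (S.residueField s) L)) ≫ S.fromSpecResidueField s
  let p : ∀ i, Spec (CommRingCat.of L) ⟶ (T i).left := fun i =>
    Spec.map (CommRingCat.ofHom (φ i).toRingHom) ≫ (T i).left.fromSpecResidueField (t i)
  have hp : ∀ i, p i ≫ (T i).hom = σ := by
    intro i
    have h1 : α i ≫ CommRingCat.ofHom (φ i).toRingHom =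
        CommRingCat.ofHom (algebraMap (S.residueField s) L) := by
      ext x
      exact (φ i).commutes x
    show (Spec.map (CommRingCat.ofHom (φ i).toRingHom) ≫ (T i).left.fromSpecResidueField (t i)) ≫ (T i).hom = σ
    rw [Category.assoc, ← Scheme.Hom.SpecMap_residueFieldMap_fromSpecResidueField,
      ← Scheme.residueFieldCongr_fromSpecResidueField (ht i).symm, ← Spec.map_comp_assoc,
      ← Spec.map_comp_assoc, ← Category.assoc]
    change Spec.map (α i ≫ CommRingCat.ofHom (φ i).toRingHom) ≫ S.fromSpecResidueField s = σ
    rw [h1]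
  let fan : Limits.Fan T := Limits.Fan.mk (Over.mk σ) (fun i => Over.homMk (p i) (hp i))
  let m : Over.mk σ ⟶ c.pt := hc.lift fan
  have hm : m.left ≫ c.pt.hom = σ := Over.w m
  refine ⟨m.left (IsLocalRing.closedPoint L), ?_⟩
  rw [← Scheme.Hom.comp_apply, hm]
  show (Spec.map (CommRingCat.ofHom (algebraMap (S.residueField s) L)) ≫ S.fromSpecResidueField s) _ = s
  rw [Scheme.Hom.comp_apply, Scheme.fromSpecResidueField_apply]

end Groth.Agent.S7394
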