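import Groth.Statements.S7426
import Groth.Agent.R2.H32AWNProps

set_option autoImplicit false
universe u
open CategoryTheory AlgebraicGeometry
open HTop

namespace Groth.Agent.S7426

/-- For a scheme `X` the following are equivalent: `X` is absolutely weakly normal; `X^awn → X` is an
isomorphism (equivalently, the identity of `X` is an absolute weak normalization); every universal
homeomorphism `Y → X` with `Y` reduced is an isomorphism. -/
theorem result (X : Scheme.{u}) :
    (HTop.IsAWN X ↔ HTop.IsAWNormalization (𝟙 X)) ∧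
    (HTop.IsAWN X ↔ ∀ (Y : Scheme.{u}) (π : Y ⟶ X), FlatMor.IsUnivHomeo π → AlgebraicGeometry.IsReduced Y → IsIso π) := by
  open Groth.Agent.R2.H32.AWNProps Groth.Agent.R2.H32.AWNScheme in
  have key : HTop.IsAWN X → ∀ (Y : Scheme.{u}) (π : Y ⟶ X), FlatMor.IsUnivHomeo π →
      AlgebraicGeometry.IsReduced Y → IsIso π := fun hX Y π hπ hY =>
    isIso_of_isUnivHomeo_of_isAWN π hπ hX
  have back : IsIso (fromAwn X) → HTop.IsAWN X := fun hiso =>
    isAWN_of_iso (asIso (fromAwn X)) (isAWN_awnScheme X)
  refine ⟨⟨fun hX => ?_, fun hid => ?_⟩, ⟨key, fun H => ?_⟩⟩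
  · haveI : IsIso (fromAwn X) := key hX _ _ (isUnivHomeo_fromAwn X) inferInstance
    have := isAWNormalization_iso_comp (asIso (fromAwn X)).symm (fromAwn X)
      (isAWNormalization_fromAwn X)
    simpa using this
  · obtain ⟨e, he⟩ := exists_iso_of_isAWNormalization (𝟙 X) (fromAwn X) hid
      (isAWNormalization_fromAwn X)
    exact isAWN_of_iso e.symm (isAWN_awnScheme X)
  · exact back (H _ _ (isUnivHomeo_fromAwn X) inferInstance)

end Groth.Agent.S7426
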