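import Groth.Statements.S7451
import Mathlib
import Groth.Agent.R2.H33AffInv

set_option autoImplicit false
universe u
open CategoryTheory AlgebraicGeometry
open Desc

namespace Groth.Agent.S7451

open Groth.Agent.R2.H33.AffInv

/-- Let `k` be a field and `n ≥ 2`. For `i ≠ j` and `d ≥ 0` let `T_{i,j,d}` be the automorphism of
`𝔸^n_k` given by `x_i ↦ x_i + x_j^d` and fixing the other coordinates. Let `W ⊆ 𝔸^n_k` be a nonempty
open subscheme with `T_{i,j,d}⁻¹(W) = W` for all `i, j, d`. Then either `W = 𝔸^n_k`, or `k` has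
prime characteristic `p` and the complement `𝔸^n_k ∖ W` consists of finitely many closed points,
each of whose coordinates `a` in the residue field satisfies `a^(p^m) = a` for some `m ≥ 1`
(equivalently, is algebraic over `𝔽_p`). -/
theorem result (k : Type u) [Field k] (n : ℕ) (hn : 2 ≤ n)
    (W : (Spec (CommRingCat.of (MvPolynomial (Fin n) k))).Opens)
    (hW : (W : Set ↥(Spec (CommRingCat.of (MvPolynomial (Fin n) k)))).Nonempty)
    (hinv : ∀ (i j : Fin n), i ≠ j → ∀ d : ℕ,
      (Spec.map (CommRingCat.ofHom (MvPolynomial.aeval (R := k)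
        (Function.update MvPolynomial.X i (MvPolynomial.X i + MvPolynomial.X j ^ d) :
          Fin n → MvPolynomial (Fin n) k)).toRingHom)) ⁻¹ᵁ W = W) :
    W = ⊤ ∨ ∃ p : ℕ, p.Prime ∧ CharP k p ∧ ((W : Set ↥(Spec (CommRingCat.of (MvPolynomial (Fin n) k))))ᶜ).Finite ∧
      ∀ x : ↥(Spec (CommRingCat.of (MvPolynomial (Fin n) k))),
        x ∉ (W : Set ↥(Spec (CommRingCat.of (MvPolynomial (Fin n) k)))) →
        IsClosed ({x} : Set ↥(Spec (CommRingCat.of (MvPolynomial (Fin n) k)))) ∧ ∀ i : Fin n, ∃ m : ℕ, 0 < m ∧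
          (algebraMap (MvPolynomial (Fin n) k) x.asIdeal.ResidueField (MvPolynomial.X i)) ^ (p ^ m) =
            algebraMap (MvPolynomial (Fin n) k) x.asIdeal.ResidueField (MvPolynomial.X i) := by
  classical
  by_cases hWtop : W = ⊤
  · exact Or.inl hWtop
  right
  let Zs : Set (PrimeSpectrum (MvPolynomial (Fin n) k)) :=
    (W : Set ↥(Spec (CommRingCat.of (MvPolynomial (Fin n) k))))ᶜ
  have hZ : IsClosed Zs := W.isOpen.isClosed_compl
  have hT : ∀ (i j : Fin n), i ≠ j → ∀ (d : ℕ), ∀ x ∈ Zs,
      PrimeSpectrum.comap (T k i j d) x ∈ Zs := by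
    intro i j hij d x hx hmem
    apply hx
    have h1 := hinv i j hij d
    rw [← h1]
    exact hmem
  -- the vanishing ideal is not zero
  have hIne : PrimeSpectrum.vanishingIdeal Zs ≠ ⊥ := by
    intro h0
    obtain ⟨w, hw⟩ := hW
    have : (w : PrimeSpectrum (MvPolynomial (Fin n) k)) ∈ Zs :=
      (mem_iff hZ w).mpr (by rw [h0]; exact bot_le)
    exact this hw
  -- consequences for points of `Zs`
  have key : ∀ x ∈ Zs, ¬ CharZero x.asIdeal.ResidueField ∧ ∀ j : Fin n, ¬ Function.Injective
      (fun d : ℕ => (algebraMap (MvPolynomial (Fin n) k) x.asIdeal.ResidueField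
        (MvPolynomial.X j)) ^ d) := by
    intro x hx
    let ι : k →+* x.asIdeal.ResidueField :=
      (algebraMap (MvPolynomial (Fin n) k) x.asIdeal.ResidueField).comp MvPolynomial.C
    let a : Fin n → x.asIdeal.ResidueField :=
      fun l => algebraMap (MvPolynomial (Fin n) k) x.asIdeal.ResidueField (MvPolynomial.X l)
    have hev : ev ι a = algebraMap (MvPolynomial (Fin n) k) x.asIdeal.ResidueField := by
      apply MvPolynomial.ringHom_ext
      · intro c
        simp [ι, ev]
      · intro l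
        simp [a, ev]
    have hvan : Van Zs (ev ι a) := by
      intro f hf
      rw [hev, Ideal.algebraMap_residueField_eq_zero]
      exact (mem_iff hZ x).mp hx hf
    refine ⟨fun hchar => hIne ?_, fun j hinj => hIne ?_⟩
    · exact vanishingIdeal_eq_bot hZ hT hn ι a hvan ⟨0, by omega⟩ (Or.inr hchar)
    · exact vanishingIdeal_eq_bot hZ hT hn ι a hvan j (Or.inl hinj)
  -- the characteristic
  obtain ⟨x₀, hx₀⟩ : ∃ x₀, x₀ ∈ Zs := by
    by_contra hne
    push Not at hne
    apply hWtop
    ext x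
    simp only [TopologicalSpace.Opens.coe_top, Set.mem_univ, iff_true]
    by_contra hx
    exact hne x hx
  obtain ⟨p, hpchar⟩ := CharP.exists x₀.asIdeal.ResidueField
  have hp0 : p ≠ 0 := by
    rintro rfl
    exact (key x₀ hx₀).1 (CharP.charP_to_charZero _)
  have hpprime : p.Prime :=
    (CharP.char_is_prime_or_zero x₀.asIdeal.ResidueField p).resolve_right hp0
  have : Fact p.Prime := ⟨hpprime⟩
  have hkchar : CharP k p :=
    (RingHom.charP_iff_charP ((algebraMap (MvPolynomial (Fin n) k)
      x₀.asIdeal.ResidueField).comp MvPolynomial.C) p).mpr hpchar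
  have hgood : ∀ x ∈ Zs, ∀ i : Fin n, ∃ m : ℕ, 0 < m ∧
      (algebraMap (MvPolynomial (Fin n) k) x.asIdeal.ResidueField (MvPolynomial.X i)) ^ (p ^ m) =
        algebraMap (MvPolynomial (Fin n) k) x.asIdeal.ResidueField (MvPolynomial.X i) := by
    intro x hx i
    have : CharP x.asIdeal.ResidueField p :=
      (RingHom.charP_iff_charP ((algebraMap (MvPolynomial (Fin n) k)
        x.asIdeal.ResidueField).comp MvPolynomial.C) p).mp hkchar
    exact exists_pow_eq_self_of_not_injective p _ ((key x hx).2 i)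
  have hmax : ∀ x ∈ Zs, x.asIdeal.IsMaximal := by
    intro x hx
    apply isMaximal_of_coords
    intro l
    obtain ⟨m, hm, hml⟩ := hgood x hx l
    exact ⟨p ^ m, Nat.one_lt_pow hm.ne' hpprime.one_lt, hml⟩
  refine ⟨p, hpprime, hkchar, finite_of_isClosed_of_isMaximal Zs hZ hmax, fun x hx => ⟨?_, ?_⟩⟩
  · exact (PrimeSpectrum.isClosed_singleton_iff_isMaximal x).mpr (hmax x hx)
  · exact hgood x hx

end Groth.Agent.S7451
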