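import Groth.Statements.S7454
import Mathlib
import Groth.Agent.R2.H33GrpdCartier
import Groth.Agent.R2.H33GrpdSmooth
import Groth.Agent.S7461

set_option autoImplicit false
universe u
open CategoryTheory CategoryTheory.Limits AlgebraicGeometry
open Grpd

namespace Groth.Agent.S7454

/-- Let (U, R, s, t, c) be a groupoid scheme over S with U the spectrum of a field of characteristic
zero and s, t locally of finite type. Then s and t are smooth. (A groupoid scheme carries U, R, s,
t, c, e, i over S with the groupoid axioms on T-points; c is defined on the fibre product of s and t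
and sends a pair (a, b) with s(a) = t(b) to a composed with b.) -/
theorem result (S : Scheme.{u}) (G : Grpd.GroupoidScheme S) (k : Type u) [Field k] [CharZero k] (eU : G.U ≅ Spec (CommRingCat.of k)) [LocallyOfFiniteType G.s] [LocallyOfFiniteType G.t] : Smooth G.s ∧ Smooth G.t := by
  have hUn : Nonempty G.U := ⟨eU.inv (IsLocalRing.closedPoint k)⟩
  have hUi : IsIntegral G.U := isIntegral_of_isOpenImmersion eU.hom
  have hUs : Subsingleton G.U := eU.hom.homeomorph.subsingleton
  have hUnoeth : IsLocallyNoetherian G.U := isLocallyNoetherian_of_isOpenImmersion eU.hom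
  have hfp : LocallyOfFinitePresentation G.s :=
    LocallyOfFinitePresentation.iff_locallyOfFiniteType.mpr inferInstance
  obtain ⟨V, j, hj, hV, w₀, hw₀⟩ := Groth.Agent.R2.H33.GrpdCartier.exists_reduced_nhd_e G eU
  have hfpV : LocallyOfFinitePresentation (j ≫ G.s ≫ eU.hom) := inferInstance
  have hdense := (j ≫ G.s ≫ eU.hom).dense_smoothLocus_of_perfectField
  have : Nonempty V := ⟨w₀⟩
  obtain ⟨v₀, hv₀⟩ := hdense.nonempty
  have hv₁ : j v₀ ∈ (G.s ≫ eU.hom).smoothLocus := by
    rw [← Scheme.Hom.preimage_smoothLocus_eq j (G.s ≫ eU.hom)] at hv₀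
    exact hv₀
  have hr₀' : j v₀ ∈ G.s.smoothLocus := by
    have h0 : ((G.s ≫ eU.hom).stalkMap (j v₀)).hom.FormallySmooth :=
      Scheme.Hom.mem_smoothLocus.mp hv₁
    have h1 : (eU.hom.stalkMap (G.s (j v₀)) ≫ G.s.stalkMap (j v₀)).hom.FormallySmooth := by
      rw [← Scheme.Hom.stalkMap_comp]
      exact h0
    rw [Scheme.Hom.mem_smoothLocus]
    exact (RingHom.FormallySmooth.respectsIso.cancel_left_isIso
      (eU.hom.stalkMap (G.s (j v₀))) (G.s.stalkMap (j v₀))).mp h1
  have hs : Smooth G.s :=
    Groth.Agent.R2.H33.GrpdSmooth.smooth_s_of_nonempty_smoothLocus G ⟨j v₀, hr₀'⟩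
  refine ⟨hs, ?_⟩
  rw [← G.i_s]
  infer_instance

end Groth.Agent.S7454
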