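import Groth.Statements.S7463
import Groth.Agent.Lib.Helper10ClosureProd
-- import your own Groth.Agent.* helpers here

set_option autoImplicit false
universe u
open CategoryTheory CategoryTheory.Limits AlgebraicGeometry
open Grpd

namespace Groth.Agent.S7463

/-- Consider a groupoid scheme (U, R, s, t, c) over S in which U is the spectrum of a field, and write Z
for the closure of the image of the morphism j = (t, s) : R -> U x_S U. Then, set-theoretically,
pr_02 carries Z x_(pr_1,U,pr_0) Z into Z: given the morphism pr_02 from (U x_S U) x_(pr_1,U,pr_0) (U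
x_S U) to U x_S U, whose components are pr_0 of the first factor and pr_1 of the second, any point
both of whose projections land in Z is mapped to a point of Z. (A groupoid scheme consists of U, R,
s, t, c, e, i over S satisfying the groupoid axioms on T-points; c is defined on the fibre product
of s and t and takes a pair (a, b) with s(a) = t(b) to the composite of a with b.) -/
theorem result (S : Scheme.{u}) (G : Grpd.GroupoidScheme S) (k : Type u) [Field k] (eU : G.U ≅ Spec (CommRingCat.of k)) (pr02 : pullback (pullback.snd G.pU G.pU) (pullback.fst G.pU G.pU) ⟶ pullback G.pU G.pU) (h0 : pr02 ≫ pullback.fst G.pU G.pU = pullback.fst (pullback.snd G.pU G.pU) (pullback.fst G.pU G.pU) ≫ pullback.fst G.pU G.pU) (h1 : pr02 ≫ pullback.snd G.pU G.pU = pullback.snd (pullback.snd G.pU G.pU) (pullback.fst G.pU G.pU) ≫ pullback.snd G.pU G.pU) (p : ↑(pullback (pullback.snd G.pU G.pU) (pullback.fst G.pU G.pU))) (h₁ : pullback.fst (pullback.snd G.pU G.pU) (pullback.fst G.pU G.pU) p ∈ closure (Set.range ⇑G.j)) (h₂ : pullback.snd (pullback.snd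 G.pU G.pU) (pullback.fst G.pU G.pU) p ∈ closure (Set.range ⇑G.j)) : pr02 p ∈ closure (Set.range ⇑G.j) := by
  have hUn : Nonempty G.U := ⟨eU.inv (IsLocalRing.closedPoint k)⟩
  have hUi : IsIntegral G.U := isIntegral_of_isOpenImmersion eU.hom
  have hUs : Subsingleton G.U := eU.hom.homeomorph.subsingleton
  have hpb : IsPullback (pullback.fst (pullback.snd G.pU G.pU) (pullback.fst G.pU G.pU))
      (pullback.snd (pullback.snd G.pU G.pU) (pullback.fst G.pU G.pU))
      (pullback.snd G.pU G.pU) (pullback.fst G.pU G.pU) :=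
    IsPullback.of_hasPullback _ _
  have hcl := Groth.Agent.Lib.Helper10.ClosureProd.closure_inter_preimage hpb
    (Set.range ⇑G.j) (Set.range ⇑G.j)
  have hp : p ∈ closure ((pullback.fst (pullback.snd G.pU G.pU) (pullback.fst G.pU G.pU)) ⁻¹'
        (Set.range ⇑G.j) ∩
      (pullback.snd (pullback.snd G.pU G.pU) (pullback.fst G.pU G.pU)) ⁻¹' (Set.range ⇑G.j)) := by
    rw [hcl]
    exact ⟨h₁, h₂⟩
  have hjs : G.j ≫ pullback.snd G.pU G.pU = G.s := pullback.lift_snd _ _ _
  have hjt : G.j ≫ pullback.fst G.pU G.pU = G.t := pullback.lift_fst _ _ _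
  let m : pullback G.s G.t ⟶ pullback (pullback.snd G.pU G.pU) (pullback.fst G.pU G.pU) :=
    pullback.map G.s G.t (pullback.snd G.pU G.pU) (pullback.fst G.pU G.pU) G.j G.j (𝟙 G.U)
      (by rw [Category.comp_id, hjs]) (by rw [Category.comp_id, hjt])
  have hrange : Set.range ⇑m =
      (pullback.fst (pullback.snd G.pU G.pU) (pullback.fst G.pU G.pU)) ⁻¹' (Set.range ⇑G.j) ∩
      (pullback.snd (pullback.snd G.pU G.pU) (pullback.fst G.pU G.pU)) ⁻¹' (Set.range ⇑G.j) :=
    Scheme.Pullback.range_map _ _ _ _ _ _ _ _ _
  have hid : pullback.lift (pullback.fst G.s G.t) (pullback.snd G.s G.t)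
      pullback.condition = 𝟙 _ := by
    apply pullback.hom_ext <;> simp
  have hcs := G.comp_s (pullback.fst G.s G.t) (pullback.snd G.s G.t) pullback.condition
  have hct := G.comp_t (pullback.fst G.s G.t) (pullback.snd G.s G.t) pullback.condition
  rw [hid, Category.id_comp] at hcs hct
  have hmc : m ≫ pr02 = G.c ≫ G.j := by
    apply pullback.hom_ext
    · rw [Category.assoc, h0, Category.assoc, hjt, hct]
      simp only [m, pullback.lift_fst_assoc, Category.assoc, hjt, pullback.map]
    · rw [Category.assoc, h1, Category.assoc, hjs, hcs]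
      simp only [m, pullback.lift_snd_assoc, Category.assoc, hjs, pullback.map]
  refine map_mem_closure pr02.continuous hp ?_
  rw [← hrange]
  rintro _ ⟨w, rfl⟩
  refine ⟨G.c w, ?_⟩
  rw [← Scheme.Hom.comp_apply, ← hmc, Scheme.Hom.comp_apply]

end Groth.Agent.S7463
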