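import Mathlib
import Groth.Statements.S7464
-- import your own Groth.Agent.* helpers here

set_option autoImplicit false
universe u
open CategoryTheory CategoryTheory.Limits AlgebraicGeometry
open Grpd

namespace Groth.Agent.S7464

/-- no nontrivial specializations in the fibres of a finite morphism -/
lemma eq_of_specializes_of_map_eq {X Y : Scheme.{u}} (f : X ⟶ Y) [IsFinite f] {x x' : X}
    (h : x ⤳ x') (hf : f x = f x') : x = x' := by
  have hd : _root_.IsDiscrete (f ⁻¹' {f x'}) := f.isDiscrete_preimage_singleton (f x')
  have : DiscreteTopology ↥(f ⁻¹' {f x'}) := hd.to_subtype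
  have h' : (⟨x, hf⟩ : ↥(f ⁻¹' {f x'})) ⤳ ⟨x', rfl⟩ := (subtype_specializes_iff _ _).mpr h
  have := h'.eq
  exact congrArg Subtype.val this

/-- Let (U, R, s, t, c) be a groupoid scheme over S with s and t finite, and let u, u' be distinct
points of U in the same orbit, say u = s(r) and u' = t(r). Then u' does not lie in the closure of u.
(The published statement calls u, u' points of R; this row takes them to be points of U, as the
orbit condition and the proof require.) (A groupoid scheme carries U, R, s, t, c, e, i over S with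
the groupoid axioms on T-points; c is defined on the fibre product of s and t and sends a pair (a,
b) with s(a) = t(b) to a composed with b.) -/
theorem result (S : Scheme.{u}) (G : Grpd.GroupoidScheme S) [IsFinite G.s] [IsFinite G.t] (r : G.R) (hne : G.s r ≠ G.t r) : ¬ (G.s r ⤳ G.t r) := by
  intro hsp
  let O : Set G.U := G.t '' (G.s ⁻¹' {G.s r})
  have hOfin : O.Finite := (G.s.finite_preimage_singleton (G.s r)).image _
  -- the orbit is stable under arrows
  have hO : ∀ r' : G.R, G.s r' ∈ O → G.t r' ∈ O := by
    rintro r' ⟨ρ, hρs, hρt⟩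
    obtain ⟨z, hz1, hz2⟩ :=
      Scheme.Pullback.exists_preimage_pullback (f := G.s) (g := G.t) r' ρ hρt.symm
    have h1 := G.comp_s (pullback.fst G.s G.t) (pullback.snd G.s G.t) pullback.condition
    have h2 := G.comp_t (pullback.fst G.s G.t) (pullback.snd G.s G.t) pullback.condition
    have hid : pullback.lift (pullback.fst G.s G.t) (pullback.snd G.s G.t) pullback.condition =
        𝟙 _ := by
      apply pullback.hom_ext <;> simp
    rw [hid, Category.id_comp] at h1 h2
    refine ⟨G.c z, ?_, ?_⟩
    · have := congrArg (fun f => f z) h1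
      simp only [Scheme.Hom.comp_apply] at this
      change G.s (G.c z) = G.s r
      rw [this, hz2]
      exact hρs
    · have := congrArg (fun f => f z) h2
      simp only [Scheme.Hom.comp_apply] at this
      rw [this, hz1]
  have huO : G.s r ∈ O := by
    refine ⟨G.e (G.s r), ?_, ?_⟩
    · change G.s (G.e (G.s r)) = G.s r
      rw [← Scheme.Hom.comp_apply, G.e_s]
      rfl
    · rw [← Scheme.Hom.comp_apply, G.e_t]
      rfl
  -- the key induction
  have key : ∀ n : ℕ, ∀ r' : G.R, G.s r' ∈ O → G.s r' ⤳ G.t r' → G.s r' ≠ G.t r' →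
      Set.ncard {y | y ∈ O ∧ G.t r' ⤳ y} = n → False := by
    intro n
    induction n using Nat.strong_induction_on with
    | _ n ih =>
      intro r' hx hsp' hne' hn
      obtain ⟨r'', hr, hs''⟩ := G.s.isClosedMap.specializingMap hsp'
      have hr : r' ⤳ r'' := hr
      have ht : G.t r' ⤳ G.t r'' := hr.map G.t.continuous
      have hne'' : G.s r'' ≠ G.t r'' := by
        intro heq
        have h3 : G.t r' = G.t r'' := by rw [← heq, hs'']
        have := eq_of_specializes_of_map_eq G.t hr h3
        subst this
        exact hne' hs''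
      have hfin : {y | y ∈ O ∧ G.t r' ⤳ y}.Finite := hOfin.subset fun y hy => hy.1
      have hlt : Set.ncard {y | y ∈ O ∧ G.t r'' ⤳ y} < Set.ncard {y | y ∈ O ∧ G.t r' ⤳ y} := by
        apply Set.ncard_lt_ncard _ hfin
        refine ⟨fun y hy => ⟨hy.1, ht.trans hy.2⟩, fun hsub => ?_⟩
        have hmem : G.t r' ∈ {y | y ∈ O ∧ G.t r' ⤳ y} := ⟨hO r' hx, specializes_rfl⟩
        have := (hsub hmem).2
        have heq : G.t r' = G.t r'' := (ht.antisymm this).eq
        exact hne'' (by rw [hs'', heq])
      refine ih _ (hn ▸ hlt) r'' ?_ ?_ hne'' rfl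
      · rw [hs'']; exact hO r' hx
      · rw [hs'']; exact ht
  exact key _ r huO hsp hne rfl

end Groth.Agent.S7464
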