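import Groth.Statements.S7475
import Groth.Agent.R2.H33VSheafSingle

set_option autoImplicit false
universe w u
open HTop

namespace Groth.Agent.S7475

open CategoryTheory CategoryTheory.Limits AlgebraicGeometry in
/-- Variant with a single arrow: a presheaf of sets on all schemes has the sheaf property for every V
covering family exactly when it is a Zariski sheaf and has the sheaf property for every morphism V
-> U of affine schemes that on its own forms a standard V covering. -/
theorem result (F : Scheme.{u}ᵒᵖ ⥤ Type w) : HTop.IsVSheaf F ↔ (Presieve.IsSheaf Scheme.zariskiTopology F ∧ ∀ (U V : Scheme.{u}) (f : V ⟶ U), HTop.IsStandardV (PreZeroHypercover.singleton f) → Presieve.IsSheafFor F (Presieve.singleton f)) := by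
  constructor
  · intro h
    refine ⟨Groth.Agent.R2.H33.VSheaf.isSheaf_zariski_of_isVSheaf h, fun U V f hf => ?_⟩
    have := h (PreZeroHypercover.singleton f).presieve₀ ((HTop.presieve₀_mem_vPrecoverage_iff _).2
      (Groth.Agent.R2.H33.VSheaf.isVCover_of_isStandardV _ hf))
    rwa [PreZeroHypercover.presieve₀_singleton] at this
  · rintro ⟨hzar, hsing⟩ X R hR
    rw [HTop.vPrecoverage, PreZeroHypercoverFamily.mem_precoverage_iff] at hR
    obtain ⟨E, hE, rfl⟩ := hR
    exact Groth.Agent.R2.H33.VSheaf.isSheafFor_of_isVCover hzar
      (Groth.Agent.R2.H33.VSheafSingle.isSheafFor_of_isStandardV_of_singleton hzar hsing) E hE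

end Groth.Agent.S7475
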