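import Groth.Statements.S7480
import Groth.Agent.R2.H87PhCover
import Groth.Agent.S7478

set_option autoImplicit false
universe w u
open HTop

namespace Groth.Agent.S7480

open CategoryTheory CategoryTheory.Limits AlgebraicGeometry in
/-- If E is a ph covering of T and T' -> T is any morphism of schemes, then the family of base changes
T' x_T T_i -> T' is a ph covering of T'. -/
theorem result {T T' : Scheme.{u}} (g : T' ⟶ T) (E : PreZeroHypercover.{w} T) (hE : HTop.IsPhCover E) : HTop.IsPhCover (E.pullback₁ g) := by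
  classical
  refine ⟨fun i => ?_, fun U' => ?_⟩
  · have := hE.1 i
    exact inferInstanceAs (LocallyOfFiniteType (pullback.fst g (E.f i)))
  -- Step 1: a finite affine open cover of `U'` whose members map into affine opens of `T`
  have hU'aff : IsAffine ((U' : T'.Opens) : Scheme.{u}) := U'.2
  have hA : ∀ v : ((U' : T'.Opens) : Scheme.{u}), ∃ k : T.affineOpens,
      v ∈ ((U' : T'.Opens).ι ≫ g) ⁻¹ᵁ k.1 := by
    intro v
    obtain ⟨B, hB, hyB, -⟩ := TopologicalSpace.Opens.isBasis_iff_nbhd.mp T.isBasis_affineOpens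
      (TopologicalSpace.Opens.mem_top (((U' : T'.Opens).ι ≫ g).base v))
    exact ⟨⟨B, hB⟩, hyB⟩
  obtain ⟨N, B, s, hBaff, hBA, hBcov⟩ :=
    Groth.Agent.R2.H87.PhCover.exists_finite_affine_refinement
      (fun k : T.affineOpens => ((U' : T'.Opens).ι ≫ g) ⁻¹ᵁ k.1) hA
  -- the cover `G₀` of `U'` by the `B a`
  let G₀ : PreZeroHypercover.{0} ((U' : T'.Opens) : Scheme.{u}) :=
    { I₀ := Fin N, X := fun a => (B a : Scheme.{u}), f := fun a => (B a).ι }
  have hG₀ : HTop.IsStandardPh G₀ :=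
    ⟨hU'aff, inferInstanceAs (Finite (Fin N)), fun a => hBaff a,
      ⟨_, 𝟙 _, fun a => (B a).ι, inferInstance, inferInstance, fun a => inferInstance,
        fun a => Category.comp_id _, fun v => by
          obtain ⟨a, ha⟩ := hBcov v
          exact ⟨a, ⟨⟨v, ha⟩, rfl⟩⟩⟩⟩
  -- the maps `γ a : B a ⟶ s a`
  have hr : ∀ a : Fin N, Set.range ((B a).ι ≫ (U' : T'.Opens).ι ≫ g).base ⊆
      Set.range ((s a).1.ι).base := by
    intro a
    rintro _ ⟨x, rfl⟩
    have := hBA a x.2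
    exact ⟨⟨((U' : T'.Opens).ι ≫ g).base x.1, this⟩, rfl⟩
  let γ : ∀ a : Fin N, (B a : Scheme.{u}) ⟶ ((s a).1 : Scheme.{u}) := fun a =>
    IsOpenImmersion.lift (s a).1.ι ((B a).ι ≫ (U' : T'.Opens).ι ≫ g) (hr a)
  have hγ : ∀ a, γ a ≫ (s a).1.ι = (B a).ι ≫ (U' : T'.Opens).ι ≫ g := fun a =>
    IsOpenImmersion.lift_fac _ _ _
  -- standard ph coverings of the `s a` refining `E`
  choose Fa hFa hFaE using fun a : Fin N => hE.2 (s a)
  have hBaff' : ∀ a : Fin N, IsAffine (B a : Scheme.{u}) := hBaff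
  let G : ∀ a : Fin N, PreZeroHypercover.{0} (G₀.X a) := fun a => (Fa a).pullback₁ (γ a)
  have hG : ∀ a, HTop.IsStandardPh (G a) := fun a =>
    Groth.Agent.S7478.result (γ a) (Fa a) (hFa a)
  obtain ⟨F', hF', ⟨hom⟩⟩ :=
    Groth.Agent.R2.H87.PhCover.exists_standardPh_refining_bind G₀ hG₀ G hG
  refine ⟨F', hF', fun j => ?_⟩
  -- the refinement
  obtain ⟨ai, h0, hw⟩ : ∃ (ai : Σ a : Fin N, (Fa a).I₀)
      (h0 : F'.X j ⟶ pullback (γ ai.1) ((Fa ai.1).f ai.2)),
      h0 ≫ pullback.fst (γ ai.1) ((Fa ai.1).f ai.2) ≫ (B ai.1).ι = F'.f j :=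
    ⟨hom.s₀ j, hom.h₀ j, hom.w₀ j⟩
  obtain ⟨a, i⟩ := ai
  obtain ⟨i', h', hh'⟩ := hFaE a i
  have hcomp : (F'.f j ≫ (U' : T'.Opens).ι) ≫ g =
      (h0 ≫ pullback.snd (γ a) ((Fa a).f i) ≫ h') ≫ E.f i' := by
    rw [Category.assoc, Category.assoc, Category.assoc, hh', ← Category.assoc (pullback.snd _ _),
      ← pullback.condition, Category.assoc, hγ, ← hw]
    simp only [Category.assoc]
  exact ⟨i', pullback.lift (F'.f j ≫ (U' : T'.Opens).ι)
    (h0 ≫ pullback.snd (γ a) ((Fa a).f i) ≫ h') hcomp, pullback.lift_fst _ _ _⟩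

end Groth.Agent.S7480
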