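import Groth.Statements.S7481
import Groth.Agent.R2.H87PhCover
import Groth.Agent.S7480

set_option autoImplicit false
universe w u
open HTop

namespace Groth.Agent.S7481

open CategoryTheory CategoryTheory.Limits AlgebraicGeometry in
/-- Let E be a ph covering of a scheme T and, for every member T_i of E, let F_i be a ph covering of
T_i. Then the composite family of all T_ij -> T is a ph covering of T. -/
theorem result {T : Scheme.{u}} (E : PreZeroHypercover.{w} T) (hE : HTop.IsPhCover E) (F : ∀ i, PreZeroHypercover.{w} (E.X i)) (hF : ∀ i, HTop.IsPhCover (F i)) : HTop.IsPhCover (E.bind F) := by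
  classical
  refine ⟨fun ij => ?_, fun U => ?_⟩
  · have := hE.1 ij.1
    have := (hF ij.1).1 ij.2
    exact inferInstanceAs (LocallyOfFiniteType ((F ij.1).f ij.2 ≫ E.f ij.1))
  obtain ⟨G, hG, hGE⟩ := hE.2 U
  choose ia ha hha using hGE
  have hPa : ∀ a, HTop.IsPhCover ((F (ia a)).pullback₁ (ha a)) := fun a =>
    Groth.Agent.S7480.result (ha a) (F (ia a)) (hF (ia a))
  have hGaff : ∀ a, IsAffine (G.X a) := hG.isAffine_obj
  have hex : ∀ a, ∃ H : PreZeroHypercover.{0} (G.X a), HTop.IsStandardPh H ∧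
      ∀ b, ∃ (k : (F (ia a)).I₀) (h : H.X b ⟶ pullback (ha a) ((F (ia a)).f k)),
        h ≫ pullback.fst (ha a) ((F (ia a)).f k) = H.f b := by
    intro a
    have := hGaff a
    have htop : IsAffineOpen (⊤ : (G.X a).Opens) := isAffineOpen_top _
    obtain ⟨H, hH, hHr⟩ := (hPa a).2 ⟨⊤, htop⟩
    refine ⟨{ I₀ := H.I₀, X := H.X, f := fun b => H.f b ≫ (⊤ : (G.X a).Opens).ι }, ?_, ?_⟩
    · obtain ⟨V, f, ι, hf, hfs, hι, hιf, hcov⟩ := hH.exists_proper
      have hiso : IsIso (⊤ : (G.X a).Opens).ι := inferInstanceAs (IsIso (Scheme.topIso _).hom)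
      exact ⟨hGaff a, hH.finite_index, hH.isAffine_obj,
        ⟨V, f ≫ (⊤ : (G.X a).Opens).ι, ι, inferInstance, inferInstance, hι,
          fun j => by rw [← Category.assoc, hιf], hcov⟩⟩
    · intro b
      obtain ⟨k, h, hh⟩ := hHr b
      exact ⟨k, h, hh⟩
  choose H hH hHr using hex
  obtain ⟨F', hF', ⟨hom⟩⟩ :=
    Groth.Agent.R2.H87.PhCover.exists_standardPh_refining_bind G hG H hH
  refine ⟨F', hF', fun j => ?_⟩
  obtain ⟨ab, h0, hw⟩ : ∃ (ab : Σ a : G.I₀, (H a).I₀) (h0 : F'.X j ⟶ (H ab.1).X ab.2),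
      h0 ≫ (H ab.1).f ab.2 ≫ G.f ab.1 = F'.f j := ⟨hom.s₀ j, hom.h₀ j, hom.w₀ j⟩
  obtain ⟨a, b⟩ := ab
  obtain ⟨k, h'', hh''⟩ := hHr a b
  refine ⟨⟨ia a, k⟩, h0 ≫ h'' ≫ pullback.snd (ha a) ((F (ia a)).f k), ?_⟩
  change (h0 ≫ h'' ≫ pullback.snd (ha a) ((F (ia a)).f k)) ≫
    ((F (ia a)).f k ≫ E.f (ia a)) = F'.f j ≫ (U : T.Opens).ι
  rw [Category.assoc, Category.assoc, ← Category.assoc (pullback.snd _ _), ← pullback.condition,
    Category.assoc, hha, ← Category.assoc h'', hh'', ← hw]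
  simp only [Category.assoc]

end Groth.Agent.S7481
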