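import Groth.Statements.S7491
import Groth.Agent.R2.H33GrpdRestrict
import Groth.Agent.S7462
import Groth.Agent.S1891
import Groth.Agent.Lib.Helper11RedCl
import Groth.Agent.Lib.Helper12GeomReduced
import Groth.Agent.Lib.Helper6SepCl2

set_option autoImplicit false
universe u
open CategoryTheory CategoryTheory.Limits AlgebraicGeometry
open Grpd

namespace Groth.Agent.S7491

/-- Let (U, R_1, s_1, t_1, c_1) -> (U, R_2, s_2, t_2, c_2) be a morphism of groupoid schemes over S that
is an isomorphism on object schemes, where U is the spectrum of a perfect field, and let Z be the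
reduced closed subscheme of R_2 supported on the closure of a(R_1), for the arrow map a : R_1 ->
R_2. Restricting s_2, t_2 and c_2 to Z makes U and Z into a groupoid scheme over S; stated as: there
are a groupoid scheme G' over S with G'.R reduced and a morphism of groupoid schemes G' -> (U, R_2,
...) which is an isomorphism on object schemes and a closed immersion on arrow schemes with image
the closure of the image of a. (A groupoid scheme carries U, R, s, t, c, e, i over S with the
groupoid axioms on T-points; c is defined on the fibre product of s and t and sends a pair (a, b)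
with s(a) = t(b) to a composed with b.) -/
theorem result (S : Scheme.{u}) (G₁ G₂ : Grpd.GroupoidScheme S) (f : Grpd.GroupoidScheme.Hom G₁ G₂) [IsIso f.fU] (k : Type u) [Field k] [PerfectField k] (eU : G₂.U ≅ Spec (CommRingCat.of k)) : ∃ (G' : Grpd.GroupoidScheme S) (ψ : Grpd.GroupoidScheme.Hom G' G₂), IsIso ψ.fU ∧ IsClosedImmersion ψ.fR ∧ IsReduced G'.R ∧ Set.range ⇑ψ.fR = closure (Set.range ⇑f.fR) := by
  classical
  have hUn : Nonempty G₂.U := ⟨eU.inv (IsLocalRing.closedPoint k)⟩
  have hUred : IsReduced G₂.U := isReduced_of_isOpenImmersion eU.hom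
  let Zc : TopologicalSpace.Closeds G₂.R := ⟨closure (Set.range ⇑f.fR), isClosed_closure⟩
  let I := Scheme.IdealSheafData.vanishingIdeal Zc
  let ι : I.subscheme ⟶ G₂.R := I.subschemeι
  have hZred : IsReduced I.subscheme :=
    Groth.Agent.Lib.Helper11RedCl.isReduced_subscheme_vanishingIdeal Zc
  have hrange : Set.range ⇑ι = closure (Set.range ⇑f.fR) :=
    Groth.Agent.Lib.Helper11RedCl.range_subschemeι_vanishingIdeal Zc
  -- reducedness of the fibre product
  have hPred : IsReduced (pullback (ι ≫ G₂.s) (ι ≫ G₂.t)) := by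
    let _ : I.subscheme.Over (Spec (CommRingCat.of k)) := ⟨ι ≫ G₂.s ≫ eU.hom⟩
    have hgr : GeometricallyReduced (ι ≫ G₂.s ≫ eU.hom) :=
      Groth.Agent.Lib.Helper6.SepCl.geometricallyReduced_of_perfectField k I.subscheme
    have hred' : IsReduced (pullback (ι ≫ G₂.s ≫ eU.hom) (ι ≫ G₂.t ≫ eU.hom)) :=
      Groth.Agent.Lib.Helper12.GR.isReduced_pullback _ _
    let m : pullback (ι ≫ G₂.s) (ι ≫ G₂.t) ⟶ pullback (ι ≫ G₂.s ≫ eU.hom) (ι ≫ G₂.t ≫ eU.hom) :=
      pullback.map _ _ _ _ (𝟙 _) (𝟙 _) eU.hom (by simp) (by simp)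
    have : IsIso m := by
      dsimp only [m]
      infer_instance
    exact isReduced_of_isOpenImmersion m
  -- composition
  have hcr : Set.range ⇑(Groth.Agent.R2.H33.GrpdRestrict.prodMap G₂ ι ≫ G₂.c) ⊆ (Zc : Set G₂.R) := by
    rintro _ ⟨p, rfl⟩
    rw [Scheme.Hom.comp_apply]
    refine Groth.Agent.S7462.result S G₁ G₂ f k eU _ ?_ ?_
    · rw [← Scheme.Hom.comp_apply, pullback.lift_fst, Scheme.Hom.comp_apply, ← hrange]
      exact ⟨_, rfl⟩
    · rw [← Scheme.Hom.comp_apply, pullback.lift_snd, Scheme.Hom.comp_apply, ← hrange]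
      exact ⟨_, rfl⟩
  obtain ⟨c', hc'⟩ := Groth.Agent.Lib.Helper11RedCl.exists_lift_of_range_subset _ Zc hcr
  -- identity
  have he₂ : G₂.e = inv f.fU ≫ G₁.e ≫ f.fR := by
    rw [Groth.Agent.S1891.hom_e, IsIso.inv_hom_id_assoc]
  have her : Set.range ⇑G₂.e ⊆ (Zc : Set G₂.R) := by
    rintro _ ⟨x, rfl⟩
    rw [he₂]
    simp only [Scheme.Hom.comp_apply]
    exact subset_closure ⟨_, rfl⟩
  obtain ⟨e', he'⟩ := Groth.Agent.Lib.Helper11RedCl.exists_lift_of_range_subset _ Zc her
  -- inverse
  have hir : Set.range ⇑(ι ≫ G₂.i) ⊆ (Zc : Set G₂.R) := by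
    rintro _ ⟨z, rfl⟩
    rw [Scheme.Hom.comp_apply]
    have hz : ι z ∈ closure (Set.range ⇑f.fR) := by
      rw [← hrange]
      exact ⟨z, rfl⟩
    refine map_mem_closure G₂.i.continuous hz ?_
    rintro _ ⟨w, rfl⟩
    refine ⟨G₁.i w, ?_⟩
    rw [← Scheme.Hom.comp_apply, Groth.Agent.S1891.hom_i, Scheme.Hom.comp_apply]
  obtain ⟨i', hi'⟩ := Groth.Agent.Lib.Helper11RedCl.exists_lift_of_range_subset _ Zc hir
  let D : Groth.Agent.R2.H33.GrpdRestrict.RestrData G₂ ι :=
    { c' := c', hc := hc', e' := e', he := he', i' := i', hi := hi' }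
  refine ⟨Groth.Agent.R2.H33.GrpdRestrict.restrict D,
    Groth.Agent.R2.H33.GrpdRestrict.restrictHom D, ?_, ?_, hZred, hrange⟩
  · change IsIso (𝟙 G₂.U)
    infer_instance
  · change IsClosedImmersion ι
    infer_instance

end Groth.Agent.S7491
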