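import Groth.Statements.S7498
import Groth.Agent.R2.H33GrpdFibre
-- import your own Groth.Agent.* helpers here

set_option autoImplicit false
universe u
open CategoryTheory CategoryTheory.Limits AlgebraicGeometry
open Grpd

namespace Groth.Agent.S7498

/-- Let (U, R, s, t, c) be a groupoid scheme over S and r, r' points of R with t(r) = t(r'); put u =
s(r), u' = s(r') and let F_u, F_u' be the scheme-theoretic fibres of s. Then there are a field k
which is a common extension of κ(u) and κ(u') (morphisms a, b : Spec k -> U with images u, u') and
an isomorphism of the base changes (F_u)_k and (F_u')_k over Spec k, which moreover can be chosen to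
send some point lying over r to a point lying over r'. (The published statement also compares the
germs of s at r and at r' when s and t are flat or flat of finite presentation; this row omits
that.) (A groupoid scheme carries U, R, s, t, c, e, i over S with the groupoid axioms on T-points; c
is defined on the fibre product of s and t and sends a pair (a, b) with s(a) = t(b) to a composed
with b.) -/
theorem result (S : Scheme.{u}) (G : Grpd.GroupoidScheme S) (r r' : G.R) (h : G.t r = G.t r') : ∃ (k : Type u) (_ : Field k) (a b : Spec (CommRingCat.of k) ⟶ G.U) (φ : pullback G.s a ≅ pullback G.s b) (p : ↑(pullback G.s a)), a (IsLocalRing.closedPoint k) = G.s r ∧ b (IsLocalRing.closedPoint k) = G.s r' ∧ φ.hom ≫ pullback.snd G.s b = pullback.snd G.s a ∧ pullback.fst G.s a p = r ∧ pullback.fst G.s b (φ.hom p) = r' := by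
  obtain ⟨z, hz1, hz2⟩ := Scheme.Pullback.exists_preimage_pullback r r' h
  let ι : Spec (CommRingCat.of ((pullback G.t G.t).residueField z)) ⟶ pullback G.t G.t :=
    (pullback G.t G.t).fromSpecResidueField z
  have hι : ι (IsLocalRing.closedPoint ((pullback G.t G.t).residueField z)) = z :=
    Scheme.fromSpecResidueField_apply _ _
  let α := ι ≫ pullback.fst G.t G.t
  let β := ι ≫ pullback.snd G.t G.t
  have hαβ : α ≫ G.t = β ≫ G.t := by
    simp only [α, β, Category.assoc, pullback.condition]
  obtain ⟨φ, q, h1, h2, h3⟩ := Groth.Agent.R2.H33.GrpdFibre.exists_iso_of_same_target G α β hαβ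
  refine ⟨(pullback G.t G.t).residueField z, inferInstance, α ≫ G.s, β ≫ G.s, φ,
    q (IsLocalRing.closedPoint _), ?_, ?_, h1, ?_, ?_⟩
  · simp only [α, Scheme.Hom.comp_apply, hι, hz1]
  · simp only [β, Scheme.Hom.comp_apply, hι, hz2]
  · rw [← Scheme.Hom.comp_apply, h2]
    simp only [α, Scheme.Hom.comp_apply, hι, hz1]
  · rw [← Scheme.Hom.comp_apply, ← Scheme.Hom.comp_apply, h3]
    simp only [β, Scheme.Hom.comp_apply, hι, hz2]

end Groth.Agent.S7498
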