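import Groth.Statements.S7503
import Groth.Agent.R2.H33GrpdRestrictRed
import Groth.Agent.S7463

set_option autoImplicit false
universe u
open CategoryTheory CategoryTheory.Limits AlgebraicGeometry
open Grpd

namespace Groth.Agent.S7503

/-- Let (U, R, s, t, c) be a groupoid scheme over S with U the spectrum of a perfect field and let Z be
the reduced closed subscheme of U x_S U whose underlying set is the closure of the image of j = (t,
s). Then (U, Z, pr_0|_Z, pr_1|_Z, pr_02) is a groupoid scheme over S; stated as: there are a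
groupoid scheme G' over S with G'.R reduced and an isomorphism of schemes over S from G'.U to U such
that j' = (t', s') : G'.R -> G'.U x_S G'.U is a closed immersion and the image of j' followed by the
induced isomorphism G'.U x_S G'.U -> U x_S U is the closure of the image of j. (No morphism from (U,
R, s, t, c) to G' is asserted: when R is not reduced, j need not factor through the reduced
subscheme Z.) (A groupoid scheme carries U, R, s, t, c, e, i over S with the groupoid axioms on
T-points; c is defined on the fibre product of s and t and sends a pair (a, b) with s(a) = t(b) to a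
composed with b.) -/
theorem result (S : Scheme.{u}) (G : Grpd.GroupoidScheme S) (k : Type u) [Field k] [PerfectField k] (eU : G.U ≅ Spec (CommRingCat.of k)) : ∃ (G' : Grpd.GroupoidScheme S) (ψ : G'.U ≅ G.U) (hψ : ψ.hom ≫ G.pU = G'.pU), IsReduced G'.R ∧ IsClosedImmersion G'.j ∧ Set.range ⇑(G'.j ≫ pullback.map G'.pU G'.pU G.pU G.pU ψ.hom ψ.hom (𝟙 S) ((Category.comp_id _).trans hψ.symm) ((Category.comp_id _).trans hψ.symm)) = closure (Set.range ⇑G.j) := by
  classical
  let P : Grpd.GroupoidScheme S := Groth.Agent.R2.H33.GrpdRestrictRed.pair G.pU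
  let Zc : TopologicalSpace.Closeds P.R := ⟨closure (Set.range ⇑G.j), isClosed_closure⟩
  have hjs : G.j ≫ pullback.snd G.pU G.pU = G.s := pullback.lift_snd _ _ _
  have hjt : G.j ≫ pullback.fst G.pU G.pU = G.t := pullback.lift_fst _ _ _
  have hc : ∀ p : ↑(pullback P.s P.t), pullback.fst P.s P.t p ∈ Zc → pullback.snd P.s P.t p ∈ Zc →
      P.c p ∈ Zc := fun p h₁ h₂ =>
    Groth.Agent.S7463.result S G k eU P.c (pullback.lift_fst _ _ _) (pullback.lift_snd _ _ _) p h₁ h₂
  have hPe : (pullback.lift (𝟙 G.U) (𝟙 G.U) rfl : G.U ⟶ pullback G.pU G.pU) = G.e ≫ G.j := by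
    apply pullback.hom_ext
    · rw [Category.assoc, hjt, G.e_t, pullback.lift_fst]
    · rw [Category.assoc, hjs, G.e_s, pullback.lift_snd]
  have he : Set.range ⇑P.e ⊆ (Zc : Set P.R) := by
    rintro _ ⟨x, rfl⟩
    change (pullback.lift (𝟙 G.U) (𝟙 G.U) rfl : G.U ⟶ pullback G.pU G.pU) x ∈
      closure (Set.range ⇑G.j)
    rw [hPe, Scheme.Hom.comp_apply]
    exact subset_closure ⟨_, rfl⟩
  have hPi : G.j ≫ (pullback.lift (pullback.snd G.pU G.pU) (pullback.fst G.pU G.pU)
      pullback.condition.symm : pullback G.pU G.pU ⟶ pullback G.pU G.pU) = G.i ≫ G.j := by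
    apply pullback.hom_ext
    · rw [Category.assoc, Category.assoc, hjt, G.i_t, pullback.lift_fst, hjs]
    · rw [Category.assoc, Category.assoc, hjs, G.i_s, pullback.lift_snd, hjt]
  have hi : ∀ z ∈ Zc, P.i z ∈ Zc := by
    intro z hz
    change (pullback.lift (pullback.snd G.pU G.pU) (pullback.fst G.pU G.pU)
      pullback.condition.symm : pullback G.pU G.pU ⟶ pullback G.pU G.pU) z ∈
      closure (Set.range ⇑G.j)
    refine map_mem_closure (Scheme.Hom.continuous _) hz ?_
    rintro _ ⟨w, rfl⟩
    refine ⟨G.i w, ?_⟩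
    rw [← Scheme.Hom.comp_apply, ← hPi, Scheme.Hom.comp_apply]
  obtain ⟨D⟩ := Groth.Agent.R2.H33.GrpdRestrictRed.nonempty_restrData P k eU Zc hc he hi
  let G' := Groth.Agent.R2.H33.GrpdRestrict.restrict D
  have hj' : G'.j = (Scheme.IdealSheafData.vanishingIdeal Zc).subschemeι := by
    apply pullback.hom_ext
    · exact pullback.lift_fst _ _ _
    · exact pullback.lift_snd _ _ _
  have hmap : ∀ (h1 h2), pullback.map G.pU G.pU G.pU G.pU (𝟙 G.U) (𝟙 G.U) (𝟙 S) h1 h2 = 𝟙 _ := by
    intro h1 h2
    apply pullback.hom_ext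
    · rw [pullback.lift_fst, Category.comp_id, Category.id_comp]
    · rw [pullback.lift_snd, Category.comp_id, Category.id_comp]
  have key : ∀ (j' : (Scheme.IdealSheafData.vanishingIdeal Zc).subscheme ⟶ pullback G.pU G.pU)
      (M : pullback G.pU G.pU ⟶ pullback G.pU G.pU),
      j' = (Scheme.IdealSheafData.vanishingIdeal Zc).subschemeι → M = 𝟙 _ →
      Set.range ⇑(j' ≫ M) = closure (Set.range ⇑G.j) := by
    rintro j' M rfl rfl
    rw [Category.comp_id]
    exact Groth.Agent.Lib.Helper11RedCl.range_subschemeι_vanishingIdeal Zc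
  have hcl : ∀ (j' : (Scheme.IdealSheafData.vanishingIdeal Zc).subscheme ⟶ P.R),
      j' = (Scheme.IdealSheafData.vanishingIdeal Zc).subschemeι → IsClosedImmersion j' := by
    rintro j' rfl
    infer_instance
  refine ⟨G', Iso.refl G.U, Category.id_comp _, ?_, ?_, ?_⟩
  · exact Groth.Agent.Lib.Helper11RedCl.isReduced_subscheme_vanishingIdeal Zc
  · exact hcl _ hj'
  · exact key _ _ hj' (hmap _ _)

end Groth.Agent.S7503
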