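import Groth.Statements.S7509
import Groth.Agent.R2.H33GrpdImage

set_option autoImplicit false
universe u
open CategoryTheory CategoryTheory.Limits AlgebraicGeometry
open Grpd

namespace Groth.Agent.S7509

/-- Let (U, R, s, t, c) be a groupoid scheme over S with U the spectrum of a field and R quasi-compact
(equivalently s, t quasi-compact), and let Z be the scheme-theoretic image of j = (t, s) : R -> U
x_S U. Then (U, Z, pr_0|_Z, pr_1|_Z, pr_02) is a groupoid scheme over S; stated as: there are a
groupoid scheme G' over S and a morphism of groupoid schemes φ : (U, R, s, t, c) -> G' which is an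
isomorphism on object schemes, such that j' : G'.R -> G'.U x_S G'.U is a closed immersion whose
kernel ideal sheaf equals the kernel ideal sheaf of j followed by the induced isomorphism U x_S U ->
G'.U x_S G'.U (so G'.R is the scheme-theoretic image of j, transported). (A groupoid scheme carries
U, R, s, t, c, e, i over S with the groupoid axioms on T-points; c is defined on the fibre product
of s and t and sends a pair (a, b) with s(a) = t(b) to a composed with b.) -/
theorem result (S : Scheme.{u}) (G : Grpd.GroupoidScheme S) (k : Type u) [Field k] (eU : G.U ≅ Spec (CommRingCat.of k)) [CompactSpace G.R] : ∃ (G' : Grpd.GroupoidScheme S) (φ : Grpd.GroupoidScheme.Hom G G'), IsIso φ.fU ∧ IsClosedImmersion G'.j ∧ G'.j.ker = (G.j ≫ pullback.map G.pU G.pU G'.pU G'.pU φ.fU φ.fU (𝟙 S) ((Category.comp_id _).trans φ.fU_over.symm) ((Category.comp_id _).trans φ.fU_over.symm)).ker := by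
  have hUn : Nonempty G.U := ⟨eU.inv (IsLocalRing.closedPoint k)⟩
  have hUi : IsIntegral G.U := isIntegral_of_isOpenImmersion eU.hom
  have hUs : Subsingleton G.U := eU.hom.homeomorph.subsingleton
  have hUaff : IsAffine G.U := IsAffine.of_isIso eU.hom
  let P : Grpd.GroupoidScheme S := Groth.Agent.R2.H33.GrpdRestrictRed.pair G.pU
  let f : Grpd.GroupoidScheme.Hom G P := Groth.Agent.R2.H33.GrpdImage.pairHom G
  have hqs : QuasiSeparatedSpace ↥(pullback G.pU G.pU) :=
    quasiSeparatedSpace_of_quasiSeparated (pullback.fst G.pU G.pU)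
  have hqc : QuasiCompact G.j := inferInstance
  have hfU : IsIso f.fU := by
    change IsIso (𝟙 G.U)
    infer_instance
  have hfR : QuasiCompact f.fR := hqc
  have hPi : IsIntegral P.U := hUi
  have hPs : Subsingleton P.U := hUs
  obtain ⟨D⟩ := Groth.Agent.R2.H33.GrpdImage.nonempty_restrData_image f
  let G' := Groth.Agent.R2.H33.GrpdRestrict.restrict D
  let φ : Grpd.GroupoidScheme.Hom G G' := Groth.Agent.R2.H33.GrpdImage.imageHom f D
  have hj' : G'.j = G.j.imageι := by
    apply pullback.hom_ext
    · exact pullback.lift_fst _ _ _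
    · exact pullback.lift_snd _ _ _
  have hmap : ∀ (h1 h2), pullback.map G.pU G.pU G.pU G.pU (𝟙 G.U) (𝟙 G.U) (𝟙 S) h1 h2 = 𝟙 _ := by
    intro h1 h2
    apply pullback.hom_ext
    · rw [pullback.lift_fst, Category.comp_id, Category.id_comp]
    · rw [pullback.lift_snd, Category.comp_id, Category.id_comp]
  have hcl : ∀ (j' : G.j.image ⟶ pullback G.pU G.pU), j' = G.j.imageι → IsClosedImmersion j' := by
    rintro j' rfl
    infer_instance
  have key : ∀ (j' : G.j.image ⟶ pullback G.pU G.pU)
      (M : pullback G.pU G.pU ⟶ pullback G.pU G.pU), j' = G.j.imageι → M = 𝟙 _ →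
      j'.ker = (G.j ≫ M).ker := by
    rintro j' M rfl rfl
    rw [Category.comp_id]
    exact Scheme.IdealSheafData.ker_subschemeι _
  refine ⟨G', φ, hfU, hcl _ hj', key _ _ hj' (hmap _ _)⟩

end Groth.Agent.S7509
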