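import Groth.Statements.S7514
import Mathlib

set_option autoImplicit false
set_option linter.style.haveILetI false
universe u
open CategoryTheory CategoryTheory.Limits AlgebraicGeometry
open Grpd

namespace Groth.Agent.S7514

/-- Let S be a scheme, U a scheme over S and j : R -> U x_S U a pre-relation, with t = pr_0 ∘ j and s =
pr_1 ∘ j. Assume (1) s and t are unramified (formally unramified and locally of finite type), (2)
for every algebraically closed field k, the map from k-points of R to pairs of k-points of U is
injective with image an equivalence relation, and (3) there are morphisms e : U -> R, i : R -> R and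
c : R x_(s,U,t) R -> R such that j ∘ e is the diagonal, j ∘ i is j followed by the flip of the two
factors, and j ∘ c is pr_02 ∘ (j x j) (the arrow c(a, b) has target t(a) and source s(b)). Then j is
an equivalence relation: j is a monomorphism and, for every scheme T, the relation 'there is a
T-point r of R with t ∘ r = a and s ∘ r = b' on T-points a, b of U is an equivalence relation. -/
theorem result {S U R : Scheme.{u}} (pU : U ⟶ S) (j : R ⟶ pullback pU pU) [FormallyUnramified (j ≫ pullback.fst pU pU)] [LocallyOfFiniteType (j ≫ pullback.fst pU pU)] [FormallyUnramified (j ≫ pullback.snd pU pU)] [LocallyOfFiniteType (j ≫ pullback.snd pU pU)] (h₂ : ∀ (k : Type u) [Field k] [IsAlgClosed k], Function.Injective (fun r : Spec (CommRingCat.of k) ⟶ R => r ≫ j) ∧ Equivalence (fun a b : Spec (CommRingCat.of k) ⟶ U => ∃ r : Spec (CommRingCat.of k) ⟶ R, r ≫ j ≫ pullback.fst pU pU = a ∧ r ≫ j ≫ pullback.snd pU pU = b)) (e : U ⟶ R) (he : e ≫ j = pullback.lift (𝟙 U) (𝟙 U) rfl) (i : R ⟶ R) (hi : i ≫ j = j ≫ (pullbackSymmetry pU pU).hom) (c : pullback (j ≫ pullback.snd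 pU pU) (j ≫ pullback.fst pU pU) ⟶ R) (hc₁ : c ≫ j ≫ pullback.fst pU pU = pullback.fst (j ≫ pullback.snd pU pU) (j ≫ pullback.fst pU pU) ≫ j ≫ pullback.fst pU pU) (hc₂ : c ≫ j ≫ pullback.snd pU pU = pullback.snd (j ≫ pullback.snd pU pU) (j ≫ pullback.fst pU pU) ≫ j ≫ pullback.snd pU pU) : Mono j ∧ ∀ T : Scheme.{u}, Equivalence (fun a b : T ⟶ U => ∃ r : T ⟶ R, r ≫ j ≫ pullback.fst pU pU = a ∧ r ≫ j ≫ pullback.snd pU pU = b) := by
  refine ⟨?_, ?_⟩
  · -- `j` is a monomorphism: unramified and universally injective
    haveI : FormallyUnramified j := FormallyUnramified.of_comp j (pullback.fst pU pU)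
    haveI : LocallyOfFiniteType j := locallyOfFiniteType_of_comp j (pullback.fst pU pU)
    haveI : IsOpenImmersion (pullback.diagonal j) := inferInstance
    rw [← pullback.isIso_diagonal_iff]
    have hsurj : Function.Surjective (pullback.diagonal j).base := by
      intro z
      let K := AlgebraicClosure ((pullback j j).residueField z)
      obtain ⟨φ, hφ⟩ : ∃ φ : Spec (CommRingCat.of K) ⟶ pullback j j,
          φ (IsLocalRing.closedPoint K) = z :=
        ⟨Spec.map (CommRingCat.ofHom (algebraMap ((pullback j j).residueField z) K)) ≫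
          (pullback j j).fromSpecResidueField z, by
            rw [Scheme.Hom.comp_apply, Scheme.fromSpecResidueField_apply]⟩
      have h1 : φ ≫ pullback.fst j j = φ ≫ pullback.snd j j :=
        (h₂ K).1 (by
          change (φ ≫ pullback.fst j j) ≫ j = (φ ≫ pullback.snd j j) ≫ j
          rw [Category.assoc, Category.assoc, pullback.condition])
      have h2 : φ = (φ ≫ pullback.fst j j) ≫ pullback.diagonal j := by
        apply pullback.hom_ext
        · rw [Category.assoc, pullback.diagonal_fst, Category.comp_id]
        · rw [Category.assoc, pullback.diagonal_snd, Category.comp_id, h1]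
      refine ⟨(φ ≫ pullback.fst j j) (IsLocalRing.closedPoint K), ?_⟩
      rw [← Scheme.Hom.comp_apply, ← h2, hφ]
    haveI : Epi (pullback.diagonal j).base := (TopCat.epi_iff_surjective _).mpr hsurj
    exact IsOpenImmersion.isIso _
  · intro T
    have hjs : ∀ {T' : Scheme.{u}} (r : T' ⟶ R), r ≫ j ≫ pullback.snd pU pU = (r ≫ j) ≫ pullback.snd pU pU :=
      fun r => (Category.assoc _ _ _).symm
    refine ⟨fun a => ⟨a ≫ e, ?_, ?_⟩, ?_, ?_⟩
    · rw [Category.assoc, ← Category.assoc e, he, pullback.lift_fst, Category.comp_id]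
    · rw [Category.assoc, ← Category.assoc e, he, pullback.lift_snd, Category.comp_id]
    · rintro a b ⟨r, hr1, hr2⟩
      refine ⟨r ≫ i, ?_, ?_⟩
      · rw [Category.assoc, ← Category.assoc i, hi, Category.assoc, pullbackSymmetry_hom_comp_fst,
          hr2]
      · rw [Category.assoc, ← Category.assoc i, hi, Category.assoc, pullbackSymmetry_hom_comp_snd,
          hr1]
    · rintro a b d ⟨r₁, h11, h12⟩ ⟨r₂, h21, h22⟩
      refine ⟨pullback.lift r₁ r₂ (by rw [h12, h21]) ≫ c, ?_, ?_⟩
      · rw [Category.assoc, hc₁, pullback.lift_fst_assoc, h11]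
      · rw [Category.assoc, hc₂, pullback.lift_snd_assoc, h22]

end Groth.Agent.S7514
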