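import Groth.Statements.S7521
import Groth.Agent.R2.H37DescFinLF
import Groth.Agent.Lib.Helper23SecTw9

set_option autoImplicit false
open CategoryTheory CategoryTheory.Limits AlgebraicGeometry
universe u
open Desc

namespace Groth.Agent.S7521

/-- Let p : X -> Y be a surjective finite locally free morphism and V a scheme over X which has an
invertible module ample relative to V -> X. Then every descent datum on V relative to p is
effective. (A quasi-projective morphism V -> X, in particular a projective one, carries such a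
module.) (Descent data are taken in functor-of-points form.) -/
theorem result {X Y : Scheme.{u}} (p : X ⟶ Y) [Surjective p] [IsFinite p] [Flat p] [LocallyOfFinitePresentation p] (D : Desc.SchDD p) (L : D.obj.left.Modules) (hL : RelAmple.IsRelAmple D.obj.hom L) : ∃ W : Over Y, Nonempty ((Desc.toDD p).obj W ≅ D) := by
  refine Groth.Agent.R2.H37.DescFinLF.effective_of_finsets p D (fun y F hF => ?_)
  -- an affine open of `X` containing the images of the points of `F`
  obtain ⟨_, ⟨Y₀, hY₀, rfl⟩, hyY₀, -⟩ := Y.isBasis_affineOpens.exists_subset_of_mem_open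
    (Set.mem_univ y) isOpen_univ
  have hX₀ : IsAffineOpen (p ⁻¹ᵁ Y₀) := hY₀.preimage p
  let V₀ : D.obj.left.Opens := D.obj.hom ⁻¹ᵁ (p ⁻¹ᵁ Y₀)
  have hFV₀ : ∀ v ∈ F, v ∈ V₀ := by
    intro v hv
    change p.base (D.obj.hom.base v) ∈ Y₀
    rw [hF v hv]
    exact hyY₀
  have hamp : CohB1.IsAmple (L.restrict V₀.ι) := hL.2 ⟨p ⁻¹ᵁ Y₀, hX₀⟩
  haveI : CompactSpace V₀.toScheme := hamp.2.1
  have hfin : (V₀.ι.base ⁻¹' (F : Set D.obj.left)).Finite :=
    F.finite_toSet.preimage V₀.ι.isOpenEmbedding.injective.injOn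
  obtain ⟨n, s, hFs, -, haff⟩ := Groth.Agent.Lib.Helper23.SecTw.exists_affine_genLocus_of_finite
    (L.restrict V₀.ι) hamp _ hfin ⊤ (fun _ _ => trivial)
  refine ⟨V₀.ι ''ᵁ _, haff.image_of_isOpenImmersion V₀.ι, fun v hv => ?_⟩
  exact ⟨⟨v, hFV₀ v hv⟩, hFs (show V₀.ι.base ⟨v, hFV₀ v hv⟩ ∈ (F : Set D.obj.left) from hv), rfl⟩

end Groth.Agent.S7521
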