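import Groth.Statements.S7589
-- import your own Groth.Agent.* helpers here
import Mathlib
import Groth.Agent.Lib.Helper3LocDimBC
import Groth.Agent.Lib.Helper4VarDim5
import Groth.Agent.Lib.Helper28FlatNormal

set_option autoImplicit false
universe u
open CategoryTheory CategoryTheory.Limits AlgebraicGeometry
attribute [local instance] Curv2.stalkAlgebra Curv2.resAlgebra
open Variety

namespace Groth.Agent.S7589

open Groth.Agent.Lib.Helper4.VarDim Groth.Agent.Lib.Helper3.LocDimBC

set_option linter.style.haveILetI false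

/-- Let X be locally of finite type over a field k, K an extension field of k, y a point of the base
change X_K and x its image in X; write a = trdeg_k κ(x) and a' = trdeg_K κ(y). Then dim O_{X_K, y} +
a' = dim O_{X, x} + a, and the fibre ring O_{X_K, y} / m_x O_{X_K, y} has Krull dimension a - a' (in
particular a' ≤ a); dimensions in WithBot ℕ∞. -/
theorem result (k : Type u) [Field k] (X : Scheme.{u}) [X.Over (Spec (CommRingCat.of k))] [LocallyOfFiniteType (X ↘ (Spec (CommRingCat.of k)))]
    (K : Type u) [Field K] [Algebra k K] (y : ↥(Curv2.bc k X K)) (a a' : ℕ)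
    (ha : Algebra.trdeg k (X.residueField (Curv2.bcFst k X K y)) = a)
    (ha' : letI : (Curv2.bc k X K).Over (Spec (CommRingCat.of K)) := ⟨Curv2.bcSnd k X K⟩
      Algebra.trdeg K ((Curv2.bc k X K).residueField y) = a') :
    ringKrullDim ((Curv2.bc k X K).presheaf.stalk y) + (a' : WithBot ℕ∞) =
        ringKrullDim (X.presheaf.stalk (Curv2.bcFst k X K y)) + (a : WithBot ℕ∞) ∧
      ringKrullDim (↥((Curv2.bc k X K).presheaf.stalk y) ⧸ Ideal.map ((Curv2.bcFst k X K).stalkMap y).hom (IsLocalRing.maximalIdeal ↥(X.presheaf.stalk (Curv2.bcFst k X K y)))) + (a' : WithBot ℕ∞) =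
        (a : WithBot ℕ∞) := by
  classical
  letI : (Curv2.bc k X K).Over (Spec (CommRingCat.of K)) := ⟨Curv2.bcSnd k X K⟩
  haveI hlft : LocallyOfFiniteType ((Curv2.bc k X K) ↘ Spec (CommRingCat.of K)) :=
    inferInstanceAs (LocallyOfFiniteType (pullback.snd (X ↘ Spec (CommRingCat.of k))
      (Spec.map (CommRingCat.ofHom (algebraMap k K)))))
  set x := Curv2.bcFst k X K y with hx
  haveI : IsLocallyNoetherian X :=
    LocallyOfFiniteType.isLocallyNoetherian (X ↘ Spec (CommRingCat.of k))
  haveI : IsLocallyNoetherian (Curv2.bc k X K) :=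
    LocallyOfFiniteType.isLocallyNoetherian ((Curv2.bc k X K) ↘ Spec (CommRingCat.of K))
  obtain ⟨b, hb⟩ := exists_ringKrullDim_stalk_eq k X x
  obtain ⟨b', hb'⟩ := exists_ringKrullDim_stalk_eq K (Curv2.bc k X K) y
  have h1 := localDim_eq_add k X x a b ha hb
  have h2 := localDim_eq_add K (Curv2.bc k X K) y a' b' ha' hb'
  have hpb : IsPullback (Curv2.bcFst k X K) (Curv2.bcSnd k X K) (X ↘ Spec (CommRingCat.of k))
      (Spec.map (CommRingCat.ofHom (algebraMap k K))) := IsPullback.of_hasPullback _ _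
  have h3 := localDim_eq_of_isPullback_onePoint (X ↘ Spec (CommRingCat.of k))
    (Curv2.bcSnd k X K) (Curv2.bcFst k X K) (Spec.map (CommRingCat.ofHom (algebraMap k K))) hpb y
  have h4 : a' + b' = a + b := by
    have : ((a' + b' : ℕ) : WithBot ℕ∞) = ((a + b : ℕ) : WithBot ℕ∞) := by
      rw [← h1, ← h2, h3]
    exact_mod_cast this
  -- flatness
  haveI : Flat (Spec.map (CommRingCat.ofHom (algebraMap k K))) := by
    rw [HasRingHomProperty.Spec_iff (P := @Flat), CommRingCat.hom_ofHom,
      RingHom.flat_algebraMap_iff]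
    infer_instance
  haveI : Flat (Curv2.bcFst k X K) := MorphismProperty.pullback_fst _ _ inferInstance
  have hflat : ((Curv2.bcFst k X K).stalkMap y).hom.Flat := Flat.stalkMap (Curv2.bcFst k X K) y
  letI : Algebra (X.presheaf.stalk x) ((Curv2.bc k X K).presheaf.stalk y) :=
    ((Curv2.bcFst k X K).stalkMap y).hom.toAlgebra
  haveI : IsLocalHom (algebraMap (X.presheaf.stalk x) ((Curv2.bc k X K).presheaf.stalk y)) :=
    inferInstanceAs (IsLocalHom ((Curv2.bcFst k X K).stalkMap y).hom)
  haveI : Module.Flat (X.presheaf.stalk x) ((Curv2.bc k X K).presheaf.stalk y) := hflat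
  have h5 := Groth.Agent.Lib.Helper28.ringKrullDim_eq_add_of_flat
    (R := X.presheaf.stalk x) (S := (Curv2.bc k X K).presheaf.stalk y)
    (Ideal.map ((Curv2.bcFst k X K).stalkMap y).hom
      (IsLocalRing.maximalIdeal ↥(X.presheaf.stalk x))) rfl
  rw [hb', hb] at h5
  set c := ringKrullDim (↥((Curv2.bc k X K).presheaf.stalk y) ⧸
    Ideal.map ((Curv2.bcFst k X K).stalkMap y).hom
      (IsLocalRing.maximalIdeal ↥(X.presheaf.stalk x))) with hc
  -- c is a natural number
  have hcle : c ≤ (b' : WithBot ℕ∞) := by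
    rw [h5]
    exact le_add_of_nonneg_right (by exact_mod_cast (Nat.zero_le b))
  have hcbot : c ≠ ⊥ := by
    intro h0
    rw [h0, WithBot.bot_add] at h5
    exact WithBot.coe_ne_bot h5
  obtain ⟨c', hc'⟩ : ∃ c' : ℕ, c = c' := by
    obtain ⟨c₁, hc₁⟩ := WithBot.ne_bot_iff_exists.mp hcbot
    have hc₁top : c₁ ≠ ⊤ := by
      intro h0
      rw [← hc₁, h0] at hcle
      have h7 : (⊤ : ℕ∞) ≤ (b' : ℕ∞) := by exact_mod_cast hcle
      exact absurd (top_le_iff.mp h7) (ENat.natCast_ne_top b')
    obtain ⟨c₂, hc₂⟩ := ENat.ne_top_iff_exists.mp hc₁top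
    exact ⟨c₂, by rw [← hc₁, ← hc₂]; rfl⟩
  rw [hc'] at h5
  have h6 : b' = c' + b := by exact_mod_cast h5
  refine ⟨?_, ?_⟩
  · rw [hb', hb]
    have : b' + a' = b + a := by omega
    exact_mod_cast this
  · rw [hc']
    have : c' + a' = a := by omega
    exact_mod_cast this

end Groth.Agent.S7589
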