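import Groth.Statements.S7615
-- import your own Groth.Agent.* helpers here
import Mathlib
import Groth.Agent.S0002
import Groth.Agent.R2.H5CohThick
import Groth.Agent.R2.H89GammaField
import Groth.Agent.R2.H89GammaGeom

set_option autoImplicit false
universe u
open CategoryTheory CategoryTheory.Limits AlgebraicGeometry
open Variety

namespace Groth.Agent.S7615

/-- Let X be a proper variety over a field k (integral, separated, of finite type and proper over k) and
K = H^0(X, O_X), a k-algebra via the structure morphism. Then K is a field, finite over k; K/k is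
separable when X is geometrically reduced over k, and purely inseparable when X is geometrically
irreducible over k. -/
theorem result (k : Type u) [Field k] (X : Scheme.{u}) [X.Over (Spec (CommRingCat.of k))] [IsIntegral X] [IsProper (X ↘ (Spec (CommRingCat.of k)))] :
    letI := ((X ↘ (Spec (CommRingCat.of k))).appTop.hom.comp (Scheme.ΓSpecIso (CommRingCat.of k)).inv.hom : k →+* Γ(X, ⊤)).toAlgebra
    IsField ↑Γ(X, ⊤) ∧ Module.Finite k ↑Γ(X, ⊤) ∧
      (GeometricallyReduced (X ↘ (Spec (CommRingCat.of k))) → Algebra.IsSeparable k ↑Γ(X, ⊤)) ∧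
      (GeometricallyIrreducible (X ↘ (Spec (CommRingCat.of k))) → IsPurelyInseparable k ↑Γ(X, ⊤)) := by
  letI alg : Algebra k Γ(X, ⊤) := ((X ↘ (Spec (CommRingCat.of k))).appTop.hom.comp
      (Scheme.ΓSpecIso (CommRingCat.of k)).inv.hom : k →+* Γ(X, ⊤)).toAlgebra
  haveI : CompactSpace X :=
    QuasiCompact.compactSpace_of_compactSpace (X ↘ Spec (CommRingCat.of k))
  haveI : QuasiSeparatedSpace X :=
    quasiSeparatedSpace_of_quasiSeparated (X ↘ Spec (CommRingCat.of k))
  have hfin : Module.Finite k Γ(X, ⊤) := Groth.Agent.R2.H89.GammaField.finite_Γ k X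
    (Groth.Agent.S0002.result k X _ (Groth.Agent.R2.H5.CohThick.isCoh_structureModule X) 0)
  have hK : IsField Γ(X, ⊤) := Groth.Agent.R2.H89.GammaField.isField_Γ k X hfin
  refine ⟨hK, hfin, ?_, ?_⟩
  · intro h
    exact Groth.Agent.R2.H89.GammaGeom.isSeparable_Γ k X hK hfin
  · intro h
    exact Groth.Agent.R2.H89.GammaGeom.isPurelyInseparable_Γ k X hK hfin

end Groth.Agent.S7615
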