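import Groth.Statements.S7629
import Groth.Agent.Lib.Helper4BirIso

set_option autoImplicit false
universe u
open CategoryTheory CategoryTheory.Limits AlgebraicGeometry
open Variety

namespace Groth.Agent.S7629

/-- (2) ⇒ (3): let X and Y be varieties over a field k (integral, separated, of finite type) and suppose
the function fields k(X) and k(Y) are isomorphic as k-algebras. Then there are nonempty open
subschemes U ⊆ X and V ⊆ Y which are isomorphic as schemes over k. -/
theorem result (k : Type u) [Field k] (X : Scheme.{u}) [X.Over (Spec (CommRingCat.of k))] [IsIntegral X] [IsSeparated (X ↘ (Spec (CommRingCat.of k)))] [LocallyOfFiniteType (X ↘ (Spec (CommRingCat.of k)))] [QuasiCompact (X ↘ (Spec (CommRingCat.of k)))]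
    (Y : Scheme.{u}) [Y.Over (Spec (CommRingCat.of k))] [IsIntegral Y] [IsSeparated (Y ↘ (Spec (CommRingCat.of k)))] [LocallyOfFiniteType (Y ↘ (Spec (CommRingCat.of k)))] [QuasiCompact (Y ↘ (Spec (CommRingCat.of k)))]
    (e : X.functionField ≅ Y.functionField)
    (he : e.hom.hom.comp (Curv2.stalkMap k X (genericPoint X)) = Curv2.stalkMap k Y (genericPoint Y)) :
    ∃ (U : X.Opens) (V : Y.Opens), (U : Set ↥X).Nonempty ∧
      ∃ φ : (U : Scheme.{u}) ≅ (V : Scheme.{u}), φ.hom ≫ V.ι ≫ (Y ↘ (Spec (CommRingCat.of k))) = U.ι ≫ (X ↘ (Spec (CommRingCat.of k))) := by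
  classical
  have hsub : Subsingleton ↥(Spec (CommRingCat.of k)) :=
    inferInstanceAs (Subsingleton (PrimeSpectrum k))
  have hs : (X ↘ Spec (CommRingCat.of k)) (genericPoint X) =
      (Y ↘ Spec (CommRingCat.of k)) (genericPoint Y) := Subsingleton.elim _ _
  -- the key compatibility
  have key : (Y ↘ Spec (CommRingCat.of k)).appTop ≫
      Y.presheaf.germ ⊤ (genericPoint Y) trivial ≫ e.inv =
      (X ↘ Spec (CommRingCat.of k)).appTop ≫ X.presheaf.germ ⊤ (genericPoint X) trivial := by
    have h1 : (Scheme.ΓSpecIso (CommRingCat.of k)).inv ≫ (X ↘ Spec (CommRingCat.of k)).appTop ≫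
        X.presheaf.germ ⊤ (genericPoint X) trivial ≫ e.hom =
        (Scheme.ΓSpecIso (CommRingCat.of k)).inv ≫ (Y ↘ Spec (CommRingCat.of k)).appTop ≫
        Y.presheaf.germ ⊤ (genericPoint Y) trivial := by
      ext x
      have := congrArg (fun f : k →+* _ => f x) he
      simpa [Curv2.stalkMap, Coh.toGlobal] using this
    have h2 := (cancel_epi _).mp h1
    rw [← reassoc_of% h2]
    simp
  have hθ : (Y ↘ Spec (CommRingCat.of k)).stalkMap (genericPoint Y) ≫ e.symm.hom =
      (Spec (CommRingCat.of k)).presheaf.stalkSpecializes (Inseparable.of_eq hs).specializes ≫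
        (X ↘ Spec (CommRingCat.of k)).stalkMap (genericPoint X) := by
    apply TopCat.Presheaf.stalk_hom_ext
    intro U hxU
    obtain rfl : U = ⊤ := by
      rw [eq_top_iff]
      intro z _
      exact (Subsingleton.elim _ z) ▸ hxU
    rw [Scheme.Hom.germ_stalkMap_assoc, TopCat.Presheaf.germ_stalkSpecializes_assoc,
      Scheme.Hom.germ_stalkMap]
    exact key
  obtain ⟨P, hP⟩ := Groth.Agent.Lib.Helper4.BirIso.birationalOver_of_stalk_iso
    (X ↘ Spec (CommRingCat.of k)) (Y ↘ Spec (CommRingCat.of k))
    (genericPoint X) (genericPoint Y) hs e.symm hθ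
  refine ⟨P.source, P.target, ?_, P.iso, hP⟩
  exact P.dense_source.nonempty

end Groth.Agent.S7629
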