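import Groth.Statements.S7639
-- import your own Groth.Agent.* helpers here
import Mathlib
import Groth.Agent.S0002
import Groth.Agent.R2.H5CohThick
import Groth.Agent.R2.H89GammaField

set_option autoImplicit false
universe u
open CategoryTheory CategoryTheory.Limits AlgebraicGeometry
attribute [local instance] Curv2.resAlgebra
open Variety

namespace Groth.Agent.S7639

/-- Let X be a proper scheme over a field k which is reduced and connected, and let κ = Γ(X, O_X). Then
κ is a field, finite over k, and w = [κ : k] divides (1) the degree of every finite locally free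
module of constant rank, (2) the degree [κ(x) : k] of every closed point x, and (3) the degree dim_k
H^0(X, O_D) of every closed subscheme D of dimension zero (or empty). (The published statement uses
the degree of E, which it defines only for X of dimension at most one; this row states (1) for the
integer χ(E) − n·χ(O_X) with no bound on the dimension of X.) -/
theorem result (k : Type u) [Field k] (X : Scheme.{u}) [X.Over (Spec (CommRingCat.of k))] [IsProper (X ↘ (Spec (CommRingCat.of k)))] [IsReduced X] [ConnectedSpace X] :
    letI : Algebra k Γ(X, ⊤) := ((X ↘ (Spec (CommRingCat.of k))).appTop.hom.comp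
      (Scheme.ΓSpecIso (CommRingCat.of k)).inv.hom).toAlgebra
    IsField Γ(X, ⊤) ∧ Module.Finite k Γ(X, ⊤) ∧
      (∀ (n : ℕ) (E : X.Modules), FlatMod.IsFinLocFreeOfRank n E →
        (Module.finrank k Γ(X, ⊤) : ℤ) ∣ Curv2.deg k X E n) ∧
      (∀ x : X, IsClosed ({x} : Set X) →
        Module.finrank k Γ(X, ⊤) ∣ Module.finrank k (X.residueField x)) ∧
      (∀ D : X.IdealSheafData, topologicalKrullDim D.subscheme ≤ 0 →
        Module.finrank k Γ(X, ⊤) ∣ Module.finrank k (Coh.HH X (ClSub.quotMod D) 0)) := by
  letI alg : Algebra k Γ(X, ⊤) := ((X ↘ (Spec (CommRingCat.of k))).appTop.hom.comp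
      (Scheme.ΓSpecIso (CommRingCat.of k)).inv.hom).toAlgebra
  have hfin : Module.Finite k Γ(X, ⊤) := Groth.Agent.R2.H89.GammaField.finite_Γ k X
    (Groth.Agent.S0002.result k X _ (Groth.Agent.R2.H5.CohThick.isCoh_structureModule X) 0)
  have hK : IsField Γ(X, ⊤) := Groth.Agent.R2.H89.GammaField.isField_Γ k X hfin
  have hχ : ∀ F : X.Modules, (Module.finrank k Γ(X, ⊤) : ℤ) ∣ Curv2.euler k X F := by
    intro F
    unfold Curv2.euler
    apply finsum_induction (p := fun z => (Module.finrank k Γ(X, ⊤) : ℤ) ∣ z)
    · exact dvd_zero _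
    · intro a b ha hb
      exact dvd_add ha hb
    · intro i
      exact Dvd.dvd.mul_left (Int.natCast_dvd_natCast.2
        (Groth.Agent.R2.H89.GammaField.finrank_dvd_HH k X hK F i)) _
  refine ⟨hK, hfin, ?_, ?_, ?_⟩
  · intro n E _
    unfold Curv2.deg
    exact dvd_sub (hχ E) (Dvd.dvd.mul_left (hχ _) _)
  · intro x _
    exact Groth.Agent.R2.H89.GammaField.finrank_dvd_residueField k X hK x
  · intro D _
    exact Groth.Agent.R2.H89.GammaField.finrank_dvd_HH k X hK _ 0

end Groth.Agent.S7639
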