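import Groth.Statements.S7642
-- import your own Groth.Agent.* helpers here
import Groth.Agent.R2.H20CompAmple
import Groth.Agent.S11559
import Groth.Agent.S1530

set_option autoImplicit false
universe u
open CategoryTheory CategoryTheory.Limits AlgebraicGeometry
open Variety

namespace Groth.Agent.S7642

/-- Let X be proper of dimension at most one over a field k and let L be an invertible module on X. Then
L is ample if and only if deg(L|_C) > 0 for every irreducible component C of X of dimension one, C
carrying its reduced induced structure. -/
theorem result (k : Type u) [Field k] (X : Scheme.{u}) [X.Over (Spec (CommRingCat.of k))] [IsProper (X ↘ (Spec (CommRingCat.of k)))] [IsNoetherian X]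
    (hdim : topologicalKrullDim X ≤ 1) (L : X.Modules) (hL : PicF.IsInvertible L) :
    CohB1.IsAmple L ↔ ∀ (C : Set X) (hC : C ∈ irreducibleComponents (X : Type u)),
      topologicalKrullDim C = 1 → 0 < @Curv2.deg k _ (X.irreducibleComponentIdeal C hC).radical.subscheme ⟨(X.irreducibleComponentIdeal C hC).radical.subschemeι ≫ (X ↘ (Spec (CommRingCat.of k)))⟩ ((Scheme.Modules.pullback (X.irreducibleComponentIdeal C hC).radical.subschemeι).obj L) 1 := by
  classical
  -- the component as a reduced closed subscheme, with its facts
  have key : ∀ (C : Set X) (hC : C ∈ irreducibleComponents (X : Type u)),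
      (CohB1.IsAmple ((Scheme.Modules.pullback
        (X.irreducibleComponentIdeal C hC).radical.subschemeι).obj L) ↔
      (topologicalKrullDim C = 1 → 0 < @Curv2.deg k _ (X.irreducibleComponentIdeal C hC).radical.subscheme ⟨(X.irreducibleComponentIdeal C hC).radical.subschemeι ≫ (X ↘ (Spec (CommRingCat.of k)))⟩ ((Scheme.Modules.pullback (X.irreducibleComponentIdeal C hC).radical.subschemeι).obj L) 1)) := by
    intro C hC
    set J := X.irreducibleComponentIdeal C hC with hJ
    have hsupp : (J.support : Set X) = C := rfl
    have hirr : IsIrreducible (J.support : Set X) := hsupp ▸ hC.1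
    haveI := Groth.Agent.R2.H20.CompAmple.isIntegral_radical_subscheme J hirr
    letI : J.radical.subscheme.Over (Spec (CommRingCat.of k)) :=
      ⟨J.radical.subschemeι ≫ (X ↘ (Spec (CommRingCat.of k)))⟩
    haveI : IsProper (J.radical.subscheme ↘ (Spec (CommRingCat.of k))) :=
      inferInstanceAs (IsProper (J.radical.subschemeι ≫ (X ↘ (Spec (CommRingCat.of k)))))
    have hdimY : topologicalKrullDim J.radical.subscheme = topologicalKrullDim C := by
      rw [Groth.Agent.R2.H20.CompAmple.topologicalKrullDim_radical_subscheme, hsupp]
    have hinv : PicF.IsInvertible ((Scheme.Modules.pullback J.radical.subschemeι).obj L) :=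
      Groth.Agent.Lib.Helper23.PB.isInvertible_pullback J.radical.subschemeι L hL
    by_cases h1 : topologicalKrullDim C = 1
    · have h := Groth.Agent.S1530.result k J.radical.subscheme (hdimY.trans h1) _ hinv
      exact ⟨fun ha _ => h.1 ha, fun hd => h.2 (hd h1)⟩
    · have hle : topologicalKrullDim C ≤ 1 :=
        (topologicalKrullDim_subspace_le (X : Type u) C).trans hdim
      have h0 : topologicalKrullDim J.radical.subscheme ≤ 0 := by
        rw [hdimY]
        exact Groth.Agent.R2.H20.CompAmple.le_zero_of_le_one_of_ne hle h1
      exact ⟨fun _ hd => absurd hd h1, fun _ =>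
        Groth.Agent.R2.H20.CompAmple.isAmple_of_dim_le_zero _ h0 _ hinv⟩
  rw [Groth.Agent.S11559.result k X L hL]
  constructor
  · intro h C hC
    have hZ := h (X.irreducibleComponentIdeal C hC).support hC
    rw [Scheme.IdealSheafData.vanishingIdeal_support] at hZ
    exact (key C hC).1 hZ
  · intro h Z hZ
    have hsupp : (X.irreducibleComponentIdeal (Z : Set X) hZ).support = Z :=
      TopologicalSpace.Closeds.ext rfl
    have hk := (key (Z : Set X) hZ).2 (h (Z : Set X) hZ)
    rw [← Scheme.IdealSheafData.vanishingIdeal_support, hsupp] at hk
    exact hk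

end Groth.Agent.S7642
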