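import Groth.Statements.S7645
import Groth.Agent.R2.H29DimOneGenF
import Groth.Agent.R2.H91AmpleEmb2
import Groth.Agent.S9705

set_option autoImplicit false
universe u
open CategoryTheory CategoryTheory.Limits AlgebraicGeometry
open Variety

namespace Groth.Agent.S7645

/-- A proper scheme of dimension at most one over a field k is H-projective over k, i.e. admits a closed
immersion into P^n_k over k for some n. -/
theorem result (k : Type u) [Field k] (X : Scheme.{u}) [X.Over (Spec (CommRingCat.of k))] [IsProper (X ↘ (Spec (CommRingCat.of k)))]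
    (hdim : topologicalKrullDim X ≤ 1) :
    ∃ (n : ℕ) (i : X ⟶ CohB1.ProjSpace n k), IsClosedImmersion i ∧
      i ≫ CohB1.ProjSpace.toSpec n k = X ↘ (Spec (CommRingCat.of k)) := by
  have hLN : IsLocallyNoetherian X :=
    LocallyOfFiniteType.isLocallyNoetherian (X ↘ (Spec (CommRingCat.of k)))
  have hcpt : CompactSpace X :=
    (quasiCompact_iff_compactSpace (X ↘ (Spec (CommRingCat.of k)))).mp inferInstance
  have hN : IsNoetherian X := {}
  have hsep : X.IsSeparated :=
    ⟨by rw [← terminal.comp_from (X ↘ (Spec (CommRingCat.of k)))]; infer_instance⟩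
  obtain ⟨L, hL⟩ := Groth.Agent.R2.H29.DimOneGen.exists_ample X hdim
  obtain ⟨n₀, hn₀⟩ := Groth.Agent.R2.H91.AmpleEmb.exists_embedding_eventually k
    (X ↘ (Spec (CommRingCat.of k))) L hL
  obtain ⟨N, j, hj, hjf, -⟩ := hn₀ n₀ le_rfl
  have hP : IsProper (CohB1.ProjSpace.toSpec N k) :=
    Groth.Agent.S9705.isProper_projSpace_toSpec N k
  have hjP : IsProper (j ≫ CohB1.ProjSpace.toSpec N k) := by rw [hjf]; infer_instance
  have hjp : IsProper j := IsProper.of_comp j (CohB1.ProjSpace.toSpec N k)
  exact ⟨N, j, IsClosedImmersion.of_isPreimmersion j j.isClosedMap.isClosed_range, hjf⟩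

end Groth.Agent.S7645
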