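import Groth.Statements.S7647
import Groth.Agent.R2.H62IntNum3

set_option autoImplicit false
universe u
open CategoryTheory CategoryTheory.Limits AlgebraicGeometry
open Variety

namespace Groth.Agent.S7647

/-- Let X be proper over a field k, Z ⊆ X a closed subscheme of dimension ≤ 1 and L an invertible
module. Then the intersection number (L · Z), i.e. the coefficient of n in the polynomial computing
χ(X, O_Z ⊗ L^{⊗n}), equals the degree of L|_Z on Z. -/
theorem result (k : Type u) [Field k] (X : Scheme.{u}) [X.Over (Spec (CommRingCat.of k))] [IsProper (X ↘ (Spec (CommRingCat.of k)))]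
    (D : X.IdealSheafData) (hD : topologicalKrullDim (D.support : Set X) ≤ 1)
    (L : X.Modules) (hL : PicF.IsInvertible L) (P : MvPolynomial (Fin 1) ℚ)
    (hP : ∀ n : Fin 1 → ℕ, (Curv2.euler k X (Curv2.tensorPows (ClSub.quotMod D) 1 (fun _ => L) n) : ℚ) = MvPolynomial.eval (fun i => (n i : ℚ)) P) :
    MvPolynomial.coeff (Finsupp.equivFunOnFinite.symm fun _ : Fin 1 => 1) P =
      (@Curv2.deg k _ D.subscheme ⟨D.subschemeι ≫ (X ↘ (Spec (CommRingCat.of k)))⟩
        ((Scheme.Modules.pullback D.subschemeι).obj L) 1 : ℚ) := by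
  have hXN : IsNoetherian X := Groth.Agent.R2.H62.Snapper.isNoetherian_of_isProper k
  have hr : Set.range D.subschemeι = D.support := D.range_subschemeι
  have hdim : topologicalKrullDim ↥(Set.range D.subschemeι) < ((1 + 1 : ℕ) : WithBot ℕ∞) := by
    rw [hr]
    exact Groth.Agent.R2.H62.Snapper.withBot_lt_succ_of_le (by exact_mod_cast hD)
  have hss := Groth.Agent.R2.H62.Snapper.smallSupp_push D.subschemeι
    (Coh.structureModule D.subscheme) (1 + 1) hdim
  have hOZ : Coh.IsCoh (Coh.structureModule D.subscheme) :=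
    Groth.Agent.R2.H62.Snapper.isCoh_structureModule' _
  have hcoh : Coh.IsCoh (ClSub.quotMod D) := Groth.Agent.S0019.result D.subschemeι _ hOZ
  obtain ⟨P₀, hP₀, he⟩ := Groth.Agent.R2.H62.Snapper.snapper_lt k 1 (fun _ => L) (fun _ => hL)
    (1 + 1) _ hcoh hss
  have he' : ∀ n : Fin 1 → ℕ,
      (Curv2.euler k X (Curv2.tensorPows (ClSub.quotMod D) 1 (fun _ => L) n) : ℚ) =
        MvPolynomial.eval (fun i => (n i : ℚ)) P₀ := fun n => by
    rw [← he n, ← Groth.Agent.R2.H62.Snapper.twF_obj]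
    rfl
  have hPP : P = P₀ := Groth.Agent.R2.H62.Snapper.eq_of_eval_nat_eq fun n => by
    rw [← hP n, ← he' n]
  subst hPP
  rw [Groth.Agent.R2.H62.Snapper.coeff_ones_eq_altI P hP₀ he,
    Groth.Agent.R2.H62.Snapper.altI_succ, Groth.Agent.R2.H62.Snapper.altI_zero,
    Groth.Agent.R2.H62.Snapper.altI_zero]
  have hc : (fun _ : Fin 1 => L) = (Fin.cons L (fun _ : Fin 0 => L) : Fin (0 + 1) → X.Modules) := by
    funext j
    refine Fin.cases ?_ (fun l => l.elim0) j
    rfl
  have h0 : Groth.Agent.R2.H62.Snapper.chiF k 1 (fun _ => L) (ClSub.quotMod D)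
      (Fin.cons 0 fun i : Fin 0 => i.elim0) =
      @Curv2.euler k _ D.subscheme ⟨D.subschemeι ≫ (X ↘ (Spec (CommRingCat.of k)))⟩
        (Coh.structureModule D.subscheme) := by
    rw [hc, Groth.Agent.R2.H62.Snapper.chiF_cons k 0 L _ _ 0 _,
      ← Groth.Agent.R2.H62.Snapper.euler_push k D.subschemeι _ hOZ.1]
    exact Groth.Agent.R2.H62.Snapper.euler_congr k
      (Groth.Agent.R2.H79.TwistCalc.tensorRightFUnit.app (ClSub.quotMod D))
  have hqL : Coh.IsQCoh ((Scheme.Modules.pullback D.subschemeι).obj L) :=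
    (Groth.Agent.R2.H62.CurveInv.isCoh_of_isInvertible
      (Groth.Agent.Lib.Helper23.PB.isInvertible_pullback D.subschemeι L hL)).1
  have h1 : Groth.Agent.R2.H62.Snapper.chiF k 1 (fun _ => L) (ClSub.quotMod D)
      (Fin.cons 1 fun i : Fin 0 => i.elim0) =
      @Curv2.euler k _ D.subscheme ⟨D.subschemeι ≫ (X ↘ (Spec (CommRingCat.of k)))⟩
        ((Scheme.Modules.pullback D.subschemeι).obj L) := by
    rw [hc, Groth.Agent.R2.H62.Snapper.chiF_cons k 0 L _ _ 1 _,
      ← Groth.Agent.R2.H62.Snapper.euler_push k D.subschemeι _ hqL]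
    exact Groth.Agent.R2.H62.Snapper.euler_congr k
      (Groth.Agent.R2.H62.Snapper.tensorIsoLeft (ClSub.quotMod D)
        (Groth.Agent.R2.H62.Snapper.tensorUnitLeftIso L) ≪≫
        (Groth.Agent.R2.H54.RelSerreA.pushPullIso D.subschemeι L).symm)
  rw [h0, h1]
  unfold Curv2.deg
  push_cast
  ring

end Groth.Agent.S7647
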