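import Groth.Statements.S7650
import Groth.Agent.R2.H62SnapComp3

set_option autoImplicit false
universe u
open CategoryTheory CategoryTheory.Limits AlgebraicGeometry
open Variety

namespace Groth.Agent.S7650

/-- Let X be proper over a field k, F a coherent module with dim Supp(F) = d and L_1, …, L_r invertible
modules. The Euler characteristic of F twisted by L_1^{⊗n_1} ⊗ ⋯ ⊗ L_r^{⊗n_r}, minus the sum over
the d-dimensional irreducible components Z of Supp(F) of the length of F at the generic point of Z
times the Euler characteristic on Z of the restricted twist, agrees with a rational polynomial in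
the exponents each of whose monomials has total degree less than d. Here the sum is written over all
points ξ of X whose closure has dimension d (the term vanishes unless ξ is the generic point of a
d-dimensional component of Supp(F)), and Z_ξ carries its reduced induced structure. (The published
statement lets the exponents range over all integers; this row takes them in ℕ.) -/
theorem result (k : Type u) [Field k] (X : Scheme.{u}) [X.Over (Spec (CommRingCat.of k))] [IsProper (X ↘ (Spec (CommRingCat.of k)))]
    (F : X.Modules) (hF : Coh.IsCoh F) (d : ℕ) (hd : topologicalKrullDim (CohB1.support F) = d)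
    (r : ℕ) (L : Fin r → X.Modules) (hL : ∀ i, PicF.IsInvertible (L i)) :
    ∃ P : MvPolynomial (Fin r) ℚ, (∀ m ∈ P.support, (m.sum fun _ e => e) < d) ∧
      ∀ n : Fin r → ℕ,
        (Curv2.euler k X (Curv2.tensorPows F r L n) : ℚ) -
          ∑ᶠ ξ : X, (if topologicalKrullDim (closure ({ξ} : Set X)) = (d : WithBot ℕ∞) then
            ((Module.length (X.presheaf.stalk ξ) (F.presheaf.stalk ξ)).toNat : ℚ) *
              (@Curv2.euler k _
                (Scheme.IdealSheafData.vanishingIdeal (⟨closure ({ξ} : Set X), isClosed_closure⟩ : TopologicalSpace.Closeds X)).subscheme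
                ⟨(Scheme.IdealSheafData.vanishingIdeal (⟨closure ({ξ} : Set X), isClosed_closure⟩ : TopologicalSpace.Closeds X)).subschemeι ≫ (X ↘ (Spec (CommRingCat.of k)))⟩
                (Curv2.tensorPows
                  (Coh.structureModule (Scheme.IdealSheafData.vanishingIdeal (⟨closure ({ξ} : Set X), isClosed_closure⟩ : TopologicalSpace.Closeds X)).subscheme)
                  r (fun i => (Scheme.Modules.pullback
                    (Scheme.IdealSheafData.vanishingIdeal (⟨closure ({ξ} : Set X), isClosed_closure⟩ : TopologicalSpace.Closeds X)).subschemeι).obj (L i)) n) : ℚ)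
            else 0)
          = MvPolynomial.eval (fun i => (n i : ℚ)) P := by
  classical
  have hXN : IsNoetherian X := Groth.Agent.R2.H62.Snapper.isNoetherian_of_isProper k
  have hsm : Groth.Agent.R2.H62.Snapper.SmallSupp F (d + 1) :=
    Groth.Agent.R2.H62.Snapper.smallSupp_of_support F hF (d + 1)
      (Groth.Agent.R2.H62.Snapper.withBot_lt_succ_of_le hd.le)
  obtain ⟨h1, h2, R, hR, heR⟩ := Groth.Agent.R2.H62.Snapper.snapper_comp k r L hL d F hF hsm
  have heR' : ∀ n : Fin r → ℕ, ((Groth.Agent.R2.H62.Snapper.chiF k r L F n -
      Groth.Agent.R2.H62.Snapper.compSum k r L d F n : ℤ) : ℚ) =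
      MvPolynomial.eval (fun i => (n i : ℚ)) R := heR
  set T : Finset X := h2.toFinset with hT
  have hTsub : Groth.Agent.R2.H62.Snapper.topPts d F ⊆ ↑T := by
    intro ξ hξ
    rw [hT, Set.Finite.coe_toFinset]
    exact hξ
  have hTd : ∀ ξ ∈ T, Groth.Agent.R2.H62.Snapper.IsDPt d ξ := fun ξ hξ =>
    ((Set.Finite.mem_toFinset h2).1 hξ).1
  have hchi : ∀ n : Fin r → ℕ, Groth.Agent.R2.H62.Snapper.chiF k r L F n =
      Curv2.euler k X (Curv2.tensorPows F r L n) := fun n => by
    rw [← Groth.Agent.R2.H62.Snapper.twF_obj]
    rfl
  refine ⟨R, hR, fun n => ?_⟩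
  rw [← heR' n, Groth.Agent.R2.H62.Snapper.compSum_eq_sum k r L d F n T hTsub, hchi n]
  push_cast
  congr 1
  rw [finsum_eq_sum_of_support_subset (s := T)]
  · refine Finset.sum_congr rfl fun ξ hξ => ?_
    have hdp : topologicalKrullDim (closure ({ξ} : Set X)) = (d : WithBot ℕ∞) := hTd ξ hξ
    unfold Groth.Agent.R2.H62.Snapper.compTerm
    rw [if_pos hdp, if_pos (hTd ξ hξ)]
    have hZN : IsNoetherian (Scheme.IdealSheafData.vanishingIdeal
        (⟨closure ({ξ} : Set X), isClosed_closure⟩ : TopologicalSpace.Closeds X)).subscheme :=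
      Groth.Agent.R2.H12.Dev.isNoetherian_of_isClosedImmersion
        (Scheme.IdealSheafData.vanishingIdeal
          (⟨closure ({ξ} : Set X), isClosed_closure⟩ : TopologicalSpace.Closeds X)).subschemeι
    have hpush := Groth.Agent.R2.H62.Snapper.chiF_push k
      (Scheme.IdealSheafData.vanishingIdeal
        (⟨closure ({ξ} : Set X), isClosed_closure⟩ : TopologicalSpace.Closeds X)).subschemeι r L hL
      (Coh.structureModule _) (Groth.Agent.R2.H62.Snapper.isCoh_structureModule' _) n
    push_cast
    rw [← hpush]
    rfl
  · intro ξ hξ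
    rw [Function.mem_support] at hξ
    apply hTsub
    by_cases hdp : topologicalKrullDim (closure ({ξ} : Set X)) = (d : WithBot ℕ∞)
    · refine ⟨hdp, fun h0 => hξ ?_⟩
      rw [if_pos hdp]
      have h0' : Module.length (X.presheaf.stalk ξ) (F.presheaf.stalk ξ) = 0 := h0
      rw [h0']
      simp
    · exact absurd (if_neg hdp) hξ

end Groth.Agent.S7650
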