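import Groth.Statements.S7676
import Groth.Agent.R2.H16Hyperplane

set_option autoImplicit false
universe u
open CategoryTheory CategoryTheory.Limits AlgebraicGeometry
open Variety
open Groth.Agent.R2.H16.Hyperplane Groth.Agent.R2.H16.HyperAlg Groth.Agent.Lib.Helper23.SecTw
  Groth.Agent.Lib.Helper27GrTildeSect

namespace Groth.Agent.S7676

set_option maxHeartbeats 1600000 in
/-- Let k be a field, n ≥ 1 and i : H → P^n_k a hyperplane, the zero scheme of a nonzero section of
O(1). Then there is an isomorphism φ : P^{n-1}_k → H under which i^*O(1) pulls back to O(1).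
(Indexed here with P^{n+1} and P^n.) -/
theorem result (k : Type u) [Field k] (n : ℕ)
    (s : Coh.structureModule (CohB1.ProjSpace (n + 1) k) ⟶ Twist.twistProjSpace (n + 1) k 1) (hs : s ≠ 0) :
    ∃ φ : CohB1.ProjSpace n k ≅ (PicF2.zeroScheme _ s).subscheme,
      Nonempty ((Scheme.Modules.pullback (φ.hom ≫ (PicF2.zeroScheme _ s).subschemeι)).obj
          (Twist.twistProjSpace (n + 1) k 1) ≅ Twist.twistProjSpace n k 1) := by
  classical
  -- the section as a section of `O(1) = 𝒫(1)~`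
  let s1 : Coh.structureModule (Proj (CohB1.polyGrading (n + 1) k)) ⟶
      GrTilde.tilde (CohB1.polyGrading (n + 1) k) (CohB1.polyGrading (n + 1) k) (1 : ℤ) := s
  let s' : Coh.structureModule (Proj (CohB1.polyGrading (n + 1) k)) ⟶
      GrTilde.tilde (CohB1.polyGrading (n + 1) k) (CohB1.polyGrading (n + 1) k) ((1 : ℕ) : ℤ) := s1
  obtain ⟨b, hb, hσ⟩ := Groth.Agent.Lib.Helper27PnSections.exists_global_poly (n + 1) k 1 (sv s' ⊤)
  have hb' : b.IsHomogeneous 1 := (MvPolynomial.mem_homogeneousSubmodule _ _).mp hb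
  have hlin := eq_lin_of_isHomogeneous_one hb'
  set a : Fin (n + 1 + 1) → k := fun i => MvPolynomial.coeff (Finsupp.single i 1) b with ha
  -- some coefficient is nonzero
  have hex : ∃ i0, a i0 ≠ 0 := by
    by_contra hcon
    push Not at hcon
    have hb0 : b = 0 := by
      rw [hlin, lin]
      exact Finset.sum_eq_zero (fun i _ => by rw [hcon i, map_zero, zero_mul])
    apply hs
    have h0 : sv s' ⊤ = 0 := by
      rw [hσ]
      have hadd := Groth.Agent.Lib.Helper27PnSections.gsec_add (n + 1) k 1 hb hb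
      have hcongr : ∀ (c c' : MvPolynomial (Fin (n + 1 + 1)) k) (hc : c ∈ CohB1.polyGrading (n + 1) k 1)
          (hc' : c' ∈ CohB1.polyGrading (n + 1) k 1), c = c' →
          gsec (CohB1.polyGrading (n + 1) k) 1 ⊤ hc = gsec (CohB1.polyGrading (n + 1) k) 1 ⊤ hc' := by
        intro c c' hc hc' h; subst h; rfl
      rw [hcongr (b + b) b _ hb (by rw [hb0, add_zero])] at hadd
      exact left_eq_add.mp hadd
    have : s' = 0 := Groth.Agent.Lib.Helper23.SecTw.hom_ext_of_sv s' 0 (by rw [h0]; rfl)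
    exact this
  obtain ⟨i0, hi0⟩ := hex
  have hu : (a i0)⁻¹ * a i0 = 1 := inv_mul_cancel₀ hi0
  have hσ' : sv s' ⊤ = gsec (CohB1.polyGrading (n + 1) k) 1 ⊤ (lin_mem a) := by
    rw [hσ]
    have hcongr : ∀ (c c' : MvPolynomial (Fin (n + 1 + 1)) k) (hc : c ∈ CohB1.polyGrading (n + 1) k 1)
        (hc' : c' ∈ CohB1.polyGrading (n + 1) k 1), c = c' →
        gsec (CohB1.polyGrading (n + 1) k) 1 ⊤ hc = gsec (CohB1.polyGrading (n + 1) k) 1 ⊤ hc' := by
      intro c c' hc hc' h; subst h; rfl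
    exact hcongr _ _ _ _ hlin
  have hZ : PicF2.zeroScheme _ s' = (hypMap a i0 (a i0)⁻¹).ker := zeroScheme_eq_ker hu s' hσ'
  change ∃ φ : Proj (CohB1.polyGrading n k) ≅ (PicF2.zeroScheme _ s').subscheme,
    Nonempty ((Scheme.Modules.pullback (φ.hom ≫ (PicF2.zeroScheme _ s').subschemeι)).obj
      (GrTilde.tilde (CohB1.polyGrading (n + 1) k) (CohB1.polyGrading (n + 1) k) 1) ≅
      GrTilde.tilde (CohB1.polyGrading n k) (CohB1.polyGrading n k) 1)
  rw [hZ]
  refine ⟨asIso (hypMap a i0 (a i0)⁻¹).toImage, ?_⟩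
  obtain ⟨Ψ⟩ := nonempty_pullback_twist_iso a i0 (a i0)⁻¹ 1
  refine ⟨(Scheme.Modules.pullbackCongr ?_).app _ ≪≫ Ψ⟩
  exact (hypMap a i0 (a i0)⁻¹).toImage_imageι

end Groth.Agent.S7676
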