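import Groth.Statements.S7685
import Groth.Agent.R2.H62SnapMain
import Groth.Agent.R2.H62SnapCoeff

set_option autoImplicit false
universe u
open CategoryTheory CategoryTheory.Limits AlgebraicGeometry
open Variety

namespace Groth.Agent.S7685

/-- Let X be proper over a field k, Z ⊆ X a closed subscheme of dimension d and L_1, …, L_d invertible
modules. Then the intersection number (L_1 ⋯ L_d · Z), the coefficient of n_1⋯n_d in the polynomial
computing χ(X, O_Z ⊗ L_1^{⊗n_1} ⊗ ⋯ ⊗ L_d^{⊗n_d}) for all exponents in ℕ^d, is an integer. -/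
theorem result (k : Type u) [Field k] (X : Scheme.{u}) [X.Over (Spec (CommRingCat.of k))] [IsProper (X ↘ (Spec (CommRingCat.of k)))]
    (D : X.IdealSheafData) (d : ℕ) (hD : topologicalKrullDim (D.support : Set X) = d)
    (L : Fin d → X.Modules) (hL : ∀ i, PicF.IsInvertible (L i)) (P : MvPolynomial (Fin d) ℚ)
    (hP : ∀ n : Fin d → ℕ, (Curv2.euler k X (Curv2.tensorPows (ClSub.quotMod D) d L n) : ℚ) = MvPolynomial.eval (fun i => (n i : ℚ)) P) :
    ∃ z : ℤ, MvPolynomial.coeff (Finsupp.equivFunOnFinite.symm fun _ : Fin d => 1) P = (z : ℚ) := by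
  have hXN : IsNoetherian X := Groth.Agent.R2.H62.Snapper.isNoetherian_of_isProper k
  have hr : Set.range D.subschemeι = D.support := D.range_subschemeι
  have hdim : topologicalKrullDim ↥(Set.range D.subschemeι) < ((d + 1 : ℕ) : WithBot ℕ∞) := by
    rw [hr, hD]
    exact_mod_cast Nat.lt_succ_self d
  have hss := Groth.Agent.R2.H62.Snapper.smallSupp_push D.subschemeι
    (Coh.structureModule D.subscheme) (d + 1) hdim
  have hcoh : Coh.IsCoh (ClSub.quotMod D) :=
    Groth.Agent.S0019.result D.subschemeι _ (Groth.Agent.R2.H62.Snapper.isCoh_structureModule' _)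
  obtain ⟨P₀, hP₀, he⟩ := Groth.Agent.R2.H62.Snapper.snapper_lt k d L hL (d + 1) _ hcoh hss
  have he' : ∀ n : Fin d → ℕ,
      (Curv2.euler k X (Curv2.tensorPows (ClSub.quotMod D) d L n) : ℚ) =
        MvPolynomial.eval (fun i => (n i : ℚ)) P₀ := fun n => by
    rw [← he n, ← Groth.Agent.R2.H62.Snapper.twF_obj]
    rfl
  have hPP : P = P₀ := Groth.Agent.R2.H62.Snapper.eq_of_eval_nat_eq fun n => by
    rw [← hP n, ← he' n]
  subst hPP
  refine Groth.Agent.R2.H62.Snapper.coeff_ones_isInt P ?_ _ he'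
  rw [Fintype.card_fin]
  exact hP₀

end Groth.Agent.S7685
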