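import Groth.Statements.S7686
import Groth.Agent.R2.H62SnapComp2

set_option autoImplicit false
universe u
open CategoryTheory CategoryTheory.Limits AlgebraicGeometry
open Variety

namespace Groth.Agent.S7686

/-- Let X be proper over a field k, Z ⊆ X a closed subscheme of dimension d with irreducible components
Z_i of dimension d (reduced induced structure, generic points ξ_i, multiplicities m_i = length of
O_{Z,ξ_i} over O_{X,ξ_i}) and L_1, …, L_d invertible modules. Then (L_1 ⋯ L_d · Z) = Σ m_i (L_1 ⋯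
L_d · Z_i). Intersection numbers are the n_1⋯n_d-coefficients of the polynomials computing the Euler
characteristics; the sum is written over all points ξ whose closure has dimension d (other terms
vanish). -/
theorem result (k : Type u) [Field k] (X : Scheme.{u}) [X.Over (Spec (CommRingCat.of k))] [IsProper (X ↘ (Spec (CommRingCat.of k)))]
    (D : X.IdealSheafData) (d : ℕ) (hD : topologicalKrullDim (D.support : Set X) = d)
    (L : Fin d → X.Modules) (hL : ∀ i, PicF.IsInvertible (L i)) (P : MvPolynomial (Fin d) ℚ)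
    (hP : ∀ n : Fin d → ℕ, (Curv2.euler k X (Curv2.tensorPows (ClSub.quotMod D) d L n) : ℚ) = MvPolynomial.eval (fun i => (n i : ℚ)) P)
    (Q : X → MvPolynomial (Fin d) ℚ)
    (hQ : ∀ ξ : X, topologicalKrullDim (closure ({ξ} : Set X)) = (d : WithBot ℕ∞) →
      ∀ n : Fin d → ℕ, (Curv2.euler k X (Curv2.tensorPows (ClSub.quotMod (Scheme.IdealSheafData.vanishingIdeal (⟨closure ({ξ} : Set X), isClosed_closure⟩ : TopologicalSpace.Closeds X))) d L n) : ℚ) = MvPolynomial.eval (fun i => (n i : ℚ)) (Q ξ)) :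
    MvPolynomial.coeff (Finsupp.equivFunOnFinite.symm fun _ : Fin d => 1) P =
      ∑ᶠ ξ : X, (if topologicalKrullDim (closure ({ξ} : Set X)) = (d : WithBot ℕ∞) then
        ((Module.length (X.presheaf.stalk ξ) ((ClSub.quotMod D).presheaf.stalk ξ)).toNat : ℚ) *
          MvPolynomial.coeff (Finsupp.equivFunOnFinite.symm fun _ : Fin d => 1) (Q ξ) else 0) := by
  classical
  have hXN : IsNoetherian X := Groth.Agent.R2.H62.Snapper.isNoetherian_of_isProper k
  have hr : Set.range D.subschemeι = D.support := D.range_subschemeι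
  have hdim : topologicalKrullDim ↥(Set.range D.subschemeι) < ((d + 1 : ℕ) : WithBot ℕ∞) := by
    rw [hr, hD]
    exact_mod_cast Nat.lt_succ_self d
  have hss := Groth.Agent.R2.H62.Snapper.smallSupp_push D.subschemeι
    (Coh.structureModule D.subscheme) (d + 1) hdim
  have hcoh : Coh.IsCoh (ClSub.quotMod D) :=
    Groth.Agent.S0019.result D.subschemeι _ (Groth.Agent.R2.H62.Snapper.isCoh_structureModule' _)
  obtain ⟨h1, h2, R, hR, heR⟩ := Groth.Agent.R2.H62.Snapper.snapper_comp k d L hL d _ hcoh hss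
  have heR' : ∀ n : Fin d → ℕ, ((Groth.Agent.R2.H62.Snapper.chiF k d L (ClSub.quotMod D) n -
      Groth.Agent.R2.H62.Snapper.compSum k d L d (ClSub.quotMod D) n : ℤ) : ℚ) =
      MvPolynomial.eval (fun i => (n i : ℚ)) R := heR
  set T : Finset X := h2.toFinset with hT
  have hTsub : Groth.Agent.R2.H62.Snapper.topPts d (ClSub.quotMod D) ⊆ ↑T := by
    intro ξ hξ
    rw [hT, Set.Finite.coe_toFinset]
    exact hξ
  have hTd : ∀ ξ ∈ T, Groth.Agent.R2.H62.Snapper.IsDPt d ξ := fun ξ hξ =>
    ((Set.Finite.mem_toFinset h2).1 hξ).1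
  have hchi : ∀ n : Fin d → ℕ, Groth.Agent.R2.H62.Snapper.chiF k d L (ClSub.quotMod D) n =
      Curv2.euler k X (Curv2.tensorPows (ClSub.quotMod D) d L n) := fun n => by
    rw [← Groth.Agent.R2.H62.Snapper.twF_obj]
    rfl
  have hchiZ : ∀ (ξ : X) (n : Fin d → ℕ),
      Groth.Agent.R2.H62.Snapper.chiF k d L (Groth.Agent.R2.H62.Snapper.Zmod ξ) n =
      Curv2.euler k X (Curv2.tensorPows (Groth.Agent.R2.H62.Snapper.Zmod ξ) d L n) := fun ξ n => by
    rw [← Groth.Agent.R2.H62.Snapper.twF_obj]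
    rfl
  have hpoly : P - ∑ ξ ∈ T, MvPolynomial.C
      (((Groth.Agent.R2.H62.Snapper.len (ClSub.quotMod D) ξ).toNat : ℕ) : ℚ) * Q ξ = R :=
    Groth.Agent.R2.H62.Snapper.eq_of_eval_nat_eq fun n => by
      rw [map_sub, map_sum, ← heR' n, ← hP n,
        Groth.Agent.R2.H62.Snapper.compSum_eq_sum k d L d _ n T hTsub, hchi n]
      push_cast
      congr 1
      refine Finset.sum_congr rfl fun ξ hξ => ?_
      unfold Groth.Agent.R2.H62.Snapper.compTerm
      rw [if_pos (hTd ξ hξ), map_mul, MvPolynomial.eval_C, ← hQ ξ (hTd ξ hξ) n, hchiZ ξ n]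
      push_cast
      rfl
  have hcoef := congrArg (MvPolynomial.coeff (Finsupp.equivFunOnFinite.symm fun _ : Fin d => 1)) hpoly
  rw [MvPolynomial.coeff_sub, MvPolynomial.coeff_sum,
    Groth.Agent.R2.H62.Snapper.coeff_ones_eq_zero_of_degLT R hR, sub_eq_zero] at hcoef
  rw [hcoef]
  rw [finsum_eq_sum_of_support_subset (s := T)]
  · refine Finset.sum_congr rfl fun ξ hξ => ?_
    have hdp : topologicalKrullDim (closure ({ξ} : Set X)) = (d : WithBot ℕ∞) := hTd ξ hξ
    rw [if_pos hdp, MvPolynomial.coeff_C_mul]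
    rfl
  · intro ξ hξ
    rw [Function.mem_support] at hξ
    apply hTsub
    by_cases hdp : topologicalKrullDim (closure ({ξ} : Set X)) = (d : WithBot ℕ∞)
    · refine ⟨hdp, fun h0 => hξ ?_⟩
      rw [if_pos hdp]
      have h0' : Module.length (X.presheaf.stalk ξ) ((ClSub.quotMod D).presheaf.stalk ξ) = 0 := h0
      rw [h0']
      simp
    · exact absurd (if_neg hdp) hξ

end Groth.Agent.S7686
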