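import Groth.Statements.S8357
import Groth.Agent.R2.H37DualNumbers

set_option autoImplicit false
universe u
open CategoryTheory MonObj AlgebraicGeometry
open LieS

namespace Groth.Agent.S8357

open Groth.Agent.R2.H37.DualNumbers

/-- For a group scheme G over a scheme S and an affine S-scheme T = Spec B, the map induced on
Lie(G/S)(T) by the n-th power map of G is multiplication by n; that is, for v in Lie(G/S)(T) and an
integer n, the n-th power of v in the group law inherited from G is the rescaling of v by the image
of n in B. -/
theorem result (S : Scheme.{u}) (G : Over S) [GrpObj G] (B : Type u) [CommRing B]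
    (f : Spec (CommRingCat.of B) ⟶ S) (v : LieS.Lie G B f) (n : ℤ) :
    v ^ n = ((n : B) • v : LieS.Lie G B f) := by
  have hv : zeroSec B f ≫ v.1 = 1 := (mem_Lie_iff G B f v.1).1 v.2
  -- the additive map `a ↦ scale a ≫ v`
  let A : B →+ Additive (dpt B f ⟶ G) :=
    { toFun := fun a => Additive.ofMul (scale B f a ≫ v.1)
      map_zero' := by
        change Additive.ofMul (scale B f 0 ≫ v.1) = Additive.ofMul 1
        rw [scale_zero f v.1 hv]
      map_add' := fun a b => by
        change Additive.ofMul (scale B f (a + b) ≫ v.1) =
          Additive.ofMul ((scale B f a ≫ v.1) * (scale B f b ≫ v.1))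
        rw [scale_mul_scale f v.1 hv] }
  have h1 : A ((n : B)) = n • A 1 := by
    rw [← map_zsmul, zsmul_one]
  apply Subtype.ext
  rw [Subgroup.coe_zpow, smul_val]
  have h2 : Additive.toMul (A (n : B)) = Additive.toMul (n • A 1) := congrArg _ h1
  rw [toMul_zsmul] at h2
  have h3 : Additive.toMul (A 1) = v.1 := scale_one f v.1
  rw [h3] at h2
  exact h2.symm

end Groth.Agent.S8357
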