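import Groth.Statements.S8359
import Groth.Agent.R2.H37RigidUniv
import Groth.Agent.R2.H37DiagR

set_option autoImplicit false
universe u
open CategoryTheory MonObj AlgebraicGeometry
open MonoidalCategory CartesianMonoidalCategory
open Red

namespace Groth.Agent.S8359

/-- Over an affine base S = Spec R with S₀ = Spec (R/I) for a nilpotent ideal I: for a commutative group
M, the diagonalisable group D(M) = Spec R[M] over S, a group scheme X locally of finite presentation
over S and a homomorphism f from D(M) to X, if the base change of f to S₀ is the unit homomorphism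
then f is the unit homomorphism. (The published statement is over an arbitrary base scheme with S₀
defined by a nilpotent quasi-coherent ideal; this row is its case of an affine base.) -/
theorem result (R : Type u) [CommRing R] (I : Ideal R) (hI : IsNilpotent I)
    (M : Type) [AddCommGroup M] (X : Over (Spec (CommRingCat.of R))) [GrpObj X]
    [LocallyOfFinitePresentation X.hom] (f : Red.diag R M ⟶ X) [IsMonHom f]
    (h : (Over.pullback (Spec.map (CommRingCat.ofHom (Ideal.Quotient.mk I)))).map f = 1) :
    f = 1 := by
  classical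
  have hsurj : Function.Surjective (Ideal.Quotient.mk I) := Ideal.Quotient.mk_surjective
  have hci : IsClosedImmersion (Spec.map (CommRingCat.ofHom (Ideal.Quotient.mk I))) :=
    IsClosedImmersion.spec_of_surjective _ hsurj
  -- the ideal of `i₀` is nilpotent on the affine open `⊤`
  have hnil : ∀ x : (Spec (CommRingCat.of R) : Scheme.{u}),
      ∃ U : (Spec (CommRingCat.of R)).affineOpens, x ∈ (U : (Spec (CommRingCat.of R)).Opens) ∧
        IsNilpotent ((Spec.map (CommRingCat.ofHom (Ideal.Quotient.mk I))).ker.ideal U) := by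
    intro x
    refine ⟨⟨⊤, isAffineOpen_top _⟩, trivial, ?_⟩
    rw [Scheme.Hom.ker_apply]
    obtain ⟨n, hn⟩ := hI
    refine ⟨n, ?_⟩
    rw [Ideal.zero_eq_bot, eq_bot_iff]
    have hle : RingHom.ker ((Spec.map (CommRingCat.ofHom (Ideal.Quotient.mk I))).app ⊤).hom ≤
        Ideal.comap (Scheme.ΓSpecIso (CommRingCat.of R)).hom.hom I := by
      intro s hs
      rw [RingHom.mem_ker] at hs
      rw [Ideal.mem_comap]
      have nat := Scheme.ΓSpecIso_naturality (CommRingCat.ofHom (Ideal.Quotient.mk I))
      have h2 := congrArg (fun k => k.hom s) nat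
      simp only [CommRingCat.hom_comp, RingHom.comp_apply, CommRingCat.hom_ofHom] at h2
      have h3 : (Ideal.Quotient.mk I) ((Scheme.ΓSpecIso (CommRingCat.of R)).hom.hom s) = 0 := by
        rw [← h2]
        have : ((Spec.map (CommRingCat.ofHom (Ideal.Quotient.mk I))).appTop).hom s = 0 := hs
        rw [this, map_zero]
      exact Ideal.Quotient.eq_zero_iff_mem.mp h3
    refine (Ideal.pow_right_mono hle n).trans ?_
    refine (Ideal.le_comap_pow _ n).trans ?_
    rw [hn, Ideal.zero_eq_bot]
    intro s hs
    rw [Ideal.mem_comap, Ideal.mem_bot] at hs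
    rw [Ideal.mem_bot]
    have inj : Function.Injective (Scheme.ΓSpecIso (CommRingCat.of R)).hom.hom :=
      (ConcreteCategory.bijective_of_isIso (Scheme.ΓSpecIso (CommRingCat.of R)).hom).1
    exact inj (hs.trans (map_zero _).symm)
  -- the translation action of `D(M)` on `X` through `f`
  let Φ : Red.diag R M ⊗ X ⟶ X := (fst (Red.diag R M) X ≫ f) * snd (Red.diag R M) X
  have hΦl : ∀ (T : Over (Spec (CommRingCat.of R))) (g : T ⟶ Red.diag R M) (x : T ⟶ X),
      lift g x ≫ Φ = (g ≫ f) * x := by
    intro T g x
    change lift g x ≫ ((fst (Red.diag R M) X ≫ f) * snd (Red.diag R M) X) = _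
    rw [MonObj.comp_mul, ← Category.assoc, lift_fst, lift_snd]
  have key := Groth.Agent.R2.H37.Rigid.trivial_of_trivial_mod_of_univ
    (Spec.map (CommRingCat.ofHom (Ideal.Quotient.mk I))) hnil (Red.diag R M) X M
    (fun B _ f' => Groth.Agent.R2.H37.DiagR.hasUniv_diag f') Φ ?_ ?_
  · have := key (Red.diag R M) (𝟙 _) 1
    rw [hΦl, Category.id_comp, _root_.mul_one] at this
    exact this
  · intro T g₁ g₂ x
    rw [hΦl, hΦl, hΦl, MonObj.mul_comp, _root_.mul_assoc]
  · intro Y p g x
    rw [hΦl]
    suffices hgf : g ≫ f = 1 by rw [hgf, _root_.one_mul]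
    exact Groth.Agent.R2.H37.Rigid.comp_eq_one_of_pullback_map_eq_one _ f h Y p g

end Groth.Agent.S8359
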