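import Groth.Statements.S8363
import Groth.Agent.R2.H37SqZero
import Groth.Agent.Lib.Helper27GaGm

set_option autoImplicit false
universe u
open CategoryTheory MonObj AlgebraicGeometry
open SGA3

namespace Groth.Agent.S8363

open CategoryTheory.Limits Groth.Agent.Lib.Helper27.GaGm Groth.Agent.R2.H37.SqZero
  Groth.Agent.R2.H37.Infinitesimal

section Aux

variable {R : Type u} [CommRing R] (J : Ideal R)
  (X : Over (Spec (CommRingCat.of R))) [GrpObj X] (Y : Over (Spec (CommRingCat.of R)))

/-- the projection `Y ×_S S₀ ⟶ Y` as a morphism over `S`. -/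
noncomputable def qHom : (Over.map (Spec.map (CommRingCat.ofHom (Ideal.Quotient.mk J)))).obj
    ((Over.pullback (Spec.map (CommRingCat.ofHom (Ideal.Quotient.mk J)))).obj Y) ⟶ Y :=
  Over.homMk (pullback.fst Y.hom (Spec.map (CommRingCat.ofHom (Ideal.Quotient.mk J))))
    pullback.condition

lemma qHom_left : (qHom J Y).left =
    pullback.fst Y.hom (Spec.map (CommRingCat.ofHom (Ideal.Quotient.mk J))) := rfl

lemma qHom_comp_eq_one (g : Y ⟶ X)
    (hg : (Over.pullback (Spec.map (CommRingCat.ofHom (Ideal.Quotient.mk J)))).map g = 1) :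
    qHom J Y ≫ g = 1 := by
  have h1 : adjEquiv (Spec.map (CommRingCat.ofHom (Ideal.Quotient.mk J))) X _
      ((Over.pullback (Spec.map (CommRingCat.ofHom (Ideal.Quotient.mk J)))).map g) =
      qHom J Y ≫ g := by
    apply Over.OverMorphism.ext
    rw [adjEquiv_left, Over.comp_left, qHom_left]
    simp only [Over.pullback_map_left]
    exact pullback.lift_fst _ _ _
  have h2 : adjEquiv (Spec.map (CommRingCat.ofHom (Ideal.Quotient.mk J))) X
      ((Over.pullback (Spec.map (CommRingCat.ofHom (Ideal.Quotient.mk J)))).obj Y) 1 = 1 := by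
    have := adjEquiv_mul (Spec.map (CommRingCat.ofHom (Ideal.Quotient.mk J))) X
      ((Over.pullback (Spec.map (CommRingCat.ofHom (Ideal.Quotient.mk J)))).obj Y) 1 1
    rw [_root_.mul_one] at this
    exact (mul_eq_left.mp this.symm)
  rw [← h1, hg, h2]

end Aux

/-- The kernel of the reduction map is commutative: over an affine base S = Spec R with S₀ = Spec (R/J)
for an ideal J of square zero: for a group scheme X over S and an arbitrary S-scheme Y, the kernel
of the reduction map from X(Y) to X(Y ×_S S₀) = X₀(Y₀) is a commutative group: two Y-valued points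
of X whose base changes to S₀ are the unit commute. (The published statement identifies this kernel,
as a group functor, with the commutative functor of homomorphisms from the pulled-back invariant
differentials of X₀ to J·O_Y, over an arbitrary base with a quasi-coherent ideal of square zero;
this row states only the resulting commutativity, over an affine base.) -/
theorem result (R : Type u) [CommRing R] (J : Ideal R) (hJ : J * J = ⊥)
    (X : Over (Spec (CommRingCat.of R))) [GrpObj X] (Y : Over (Spec (CommRingCat.of R))) (g g' : Y ⟶ X)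
    (hg : (Over.pullback (Spec.map (CommRingCat.ofHom (Ideal.Quotient.mk J)))).map g = 1)
    (hg' : (Over.pullback (Spec.map (CommRingCat.ofHom (Ideal.Quotient.mk J)))).map g' = 1) :
    g * g' = g' * g := by
  have hq := qHom_comp_eq_one J X Y g hg
  have hq' := qHom_comp_eq_one J X Y g' hg'
  have hq1 : qHom J Y ≫ (1 : Y ⟶ X) = 1 := MonObj.comp_one _
  -- `J` is nilpotent, so `S₀ ⟶ S` is surjective
  have hJnil : J ≤ nilradical R := by
    intro x hx
    refine ⟨2, ?_⟩
    have : x * x ∈ J * J := Ideal.mul_mem_mul hx hx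
    rw [hJ] at this
    rw [pow_two]
    exact this
  have hsurjφ : Surjective (Spec.map (CommRingCat.ofHom (Ideal.Quotient.mk J))) := by
    constructor
    intro p
    obtain ⟨q, hq⟩ := (PrimeSpectrum.comap_quotientMk_bijective_of_le_nilradical hJnil).2 p
    exact ⟨q, hq⟩
  have hsurj : Function.Surjective (qHom J Y).left.base := by
    rw [qHom_left]
    exact (inferInstance : Surjective (pullback.fst Y.hom
      (Spec.map (CommRingCat.ofHom (Ideal.Quotient.mk J))))).surj
  -- all points with trivial reduction agree with the unit section on points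
  have hpt : ∀ k : Y ⟶ X, qHom J Y ≫ k = 1 → ∀ y : Y.left, k.left.base y =
      (1 : Y ⟶ X).left.base y := by
    intro k hk y
    obtain ⟨y₀, rfl⟩ := hsurj y
    have e : (qHom J Y ≫ k).left = (qHom J Y ≫ (1 : Y ⟶ X)).left := by rw [hk, hq1]
    rw [Over.comp_left, Over.comp_left] at e
    have e2 := congrArg (fun f => f.base y₀) e
    exact e2
  apply Over.OverMorphism.ext
  apply Scheme.hom_ext_of_forall
  intro y
  -- an affine chart of `X` around the image of `y`
  obtain ⟨_, ⟨W, hW, rfl⟩, hxW, -⟩ :=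
    X.left.isBasis_affineOpens.exists_subset_of_mem_open (Set.mem_univ (g.left.base y)) isOpen_univ
  have hyV : y ∈ (g.left ⁻¹ᵁ W ⊓ g'.left ⁻¹ᵁ W ⊓ (1 : Y ⟶ X).left ⁻¹ᵁ W : Y.left.Opens) := by
    refine ⟨⟨hxW, ?_⟩, ?_⟩
    · change g'.left.base y ∈ W
      rw [hpt g' hq' y, ← hpt g hq y]
      exact hxW
    · change (1 : Y ⟶ X).left.base y ∈ W
      rw [← hpt g hq y]
      exact hxW
  obtain ⟨V, hV, hyV', hVle⟩ :=
    (TopologicalSpace.Opens.isBasis_iff_nbhd.mp Y.left.isBasis_affineOpens) hyV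
  refine ⟨V, hyV', ?_⟩
  -- reduce to the affine scheme `Spec Γ(Y, V)`
  rw [← hV.isoSpec_hom_fromSpec, Category.assoc, Category.assoc]
  congr 1
  -- set-up for the affine lemma
  let ι' : (Over.mk (hV.fromSpec ≫ Y.hom) : Over (Spec (CommRingCat.of R))) ⟶ Y :=
    Over.homMk hV.fromSpec rfl
  have hrange : ∀ k : Y ⟶ X, (V : Set Y.left) ⊆ k.left.base ⁻¹' (W : Set X.left) →
      Set.range (hV.fromSpec ≫ k.left).base ⊆ (W : Set X.left) := by
    rintro k hk _ ⟨z, rfl⟩
    have hz : hV.fromSpec.base z ∈ (V : Set Y.left) := by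
      rw [← hV.range_fromSpec]
      exact ⟨z, rfl⟩
    exact hk hz
  obtain ⟨ψg, hψg⟩ := exists_factor_affine W hW (hV.fromSpec ≫ g.left)
    (hrange g (fun z hz => (hVle hz).1.1))
  obtain ⟨ψg', hψg'⟩ := exists_factor_affine W hW (hV.fromSpec ≫ g'.left)
    (hrange g' (fun z hz => (hVle hz).1.2))
  obtain ⟨ψe, hψe⟩ := exists_factor_affine W hW (hV.fromSpec ≫ (1 : Y ⟶ X).left)
    (hrange 1 (fun z hz => (hVle hz).2))
  -- the square-zero ideal
  let ψ' : R →+* Γ(Y.left, V) := strHom (hV.fromSpec ≫ Y.hom)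
  have hψ' : Spec.map (CommRingCat.ofHom ψ') = hV.fromSpec ≫ Y.hom := spec_strHom _
  have hI : Ideal.map ψ' J * Ideal.map ψ' J = ⊥ := by
    rw [← Ideal.map_mul, hJ, Ideal.map_bot]
  -- the reduction of `Spec Γ(Y, V)` maps to `Y ×_S S₀`
  have hcomm : (Spec.map (CommRingCat.ofHom (Ideal.Quotient.mk (Ideal.map ψ' J))) ≫ hV.fromSpec) ≫
      Y.hom = Spec.map (CommRingCat.ofHom (Ideal.quotientMap (Ideal.map ψ' J) ψ'
        Ideal.le_comap_map)) ≫ Spec.map (CommRingCat.ofHom (Ideal.Quotient.mk J)) := by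
    rw [Category.assoc, ← hψ', ← Spec.map_comp, ← Spec.map_comp, ← CommRingCat.ofHom_comp,
      ← CommRingCat.ofHom_comp, Ideal.quotientMap_comp_mk]
  have hred : ∀ k : Y ⟶ X, qHom J Y ≫ k = 1 →
      Spec.map (CommRingCat.ofHom (Ideal.Quotient.mk (Ideal.map ψ' J))) ≫ (ι' ≫ k).left =
      Spec.map (CommRingCat.ofHom (Ideal.Quotient.mk (Ideal.map ψ' J))) ≫
        (1 : Over.mk (hV.fromSpec ≫ Y.hom) ⟶ X).left := by
    intro k hk
    have e1 : ∀ k' : Y ⟶ X, Spec.map (CommRingCat.ofHom (Ideal.Quotient.mk (Ideal.map ψ' J))) ≫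
        (ι' ≫ k').left = pullback.lift _ _ hcomm ≫ (qHom J Y ≫ k').left := by
      intro k'
      rw [Over.comp_left, Over.comp_left, qHom_left, ← Category.assoc, ← Category.assoc,
        pullback.lift_fst]
      rfl
    have e2 : (1 : Over.mk (hV.fromSpec ≫ Y.hom) ⟶ X) = ι' ≫ (1 : Y ⟶ X) :=
      (MonObj.comp_one _).symm
    rw [e2, e1, e1, hk, hq1]
  have hι : ι' ≫ (1 : Y ⟶ X) = 1 := MonObj.comp_one _
  have key := comm_of_affine X (Ideal.map ψ' J) (hV.fromSpec ≫ Y.hom) (hW.isoSpec.inv ≫ Scheme.Opens.ι W) hI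
    (ι' ≫ g) (ι' ≫ g') ψg.hom ψg'.hom ψe.hom hψg hψg' (by rw [← hι]; exact hψe)
    (hred g hq) (hred g' hq')
  rw [← MonObj.comp_mul, ← MonObj.comp_mul] at key
  exact congrArg Over.Hom.left key

end Groth.Agent.S8363
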