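import Groth.Statements.S8365
import Groth.Agent.R2.H37DualNumbers

set_option autoImplicit false
universe u
open CategoryTheory MonObj AlgebraicGeometry
open LieS

namespace Groth.Agent.S8365

open Groth.Agent.R2.H37.DualNumbers

/-- a dual-number point restricting to the unit section is invertible. -/
theorem isUnit_of_zeroSec_comp_eq_one {S : Scheme.{u}} (X : Over S) [MonObj X] (B : Type u) [CommRing B]
    (f : Spec (CommRingCat.of B) ⟶ S) (m : LieS.dpt B f ⟶ X) (hm : LieS.zeroSec B f ≫ m = 1) :
    IsUnit m := by
  have h1 : m * (scale B f (-1) ≫ m) = 1 := by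
    have := scale_mul_scale f m hm 1 (-1)
    rw [scale_one, add_neg_cancel, scale_zero f m hm] at this
    exact this
  have h2 : (scale B f (-1) ≫ m) * m = 1 := by
    have := scale_mul_scale f m hm (-1) 1
    rw [scale_one, neg_add_cancel, scale_zero f m hm] at this
    exact this
  exact ⟨⟨m, scale B f (-1) ≫ m, h1, h2⟩, rfl⟩

/-- For a monoid scheme X over a scheme S (an associative unital monoid object in S-schemes) and an
affine S-scheme T = Spec B, a point of X with values in the dual numbers over T is invertible if and
only if its restriction along the zero section ε = 0 is invertible in X(T); in particular every such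
point restricting to the unit section is invertible. (The published statement is for monoid-valued
functors satisfying a tangent-space exactness condition, which every representable functor
satisfies, and its special case where the restriction is the unit section allows unital composition
laws that need not be associative; this row treats monoid schemes only.) -/
theorem result (S : Scheme.{u}) (X : Over S) [MonObj X] (B : Type u) [CommRing B]
    (f : Spec (CommRingCat.of B) ⟶ S) (v : LieS.dpt B f ⟶ X) :
    IsUnit v ↔ IsUnit (LieS.zeroSec B f ≫ v) := by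
  constructor
  · rintro ⟨u, rfl⟩
    refine ⟨⟨zeroSec B f ≫ u.val, zeroSec B f ≫ u.inv, ?_, ?_⟩, rfl⟩
    · rw [← MonObj.comp_mul, u.val_inv, MonObj.comp_one]
    · rw [← MonObj.comp_mul, u.inv_val, MonObj.comp_one]
  · rintro ⟨u₀, hu₀⟩
    -- `w` : the inverse of the restriction, pulled back to the dual numbers
    set w : dpt B f ⟶ X := proj B f ≫ u₀.inv with hw
    have hzw : zeroSec B f ≫ w = u₀.inv := by
      rw [hw, ← Category.assoc, zeroSec_proj, Category.id_comp]
    have hu₀' : u₀.val = zeroSec B f ≫ v := hu₀
    have h1 : IsUnit (v * w) := by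
      apply isUnit_of_zeroSec_comp_eq_one
      rw [MonObj.comp_mul, hzw, ← hu₀', u₀.val_inv]
    have h2 : IsUnit (w * v) := by
      apply isUnit_of_zeroSec_comp_eq_one
      rw [MonObj.comp_mul, hzw, ← hu₀', u₀.inv_val]
    obtain ⟨a, ha⟩ := h1
    obtain ⟨b, hb⟩ := h2
    rw [isUnit_iff_exists_and_exists]
    refine ⟨⟨w * a.inv, ?_⟩, ⟨b.inv * w, ?_⟩⟩
    · rw [← _root_.mul_assoc, ← ha, a.val_inv]
    · rw [_root_.mul_assoc, ← hb, b.inv_val]

end Groth.Agent.S8365
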