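import Groth.Statements.S8370
import Mathlib.AlgebraicGeometry.Cover.Open
import Mathlib.AlgebraicGeometry.Gluing

set_option autoImplicit false
universe u
open CategoryTheory MonObj AlgebraicGeometry
open LieS

namespace Groth.Agent.S8370

variable {S : Scheme.{u}}

/-- the section `Spec C ⟶ Spec C[ε]` given by `ε ↦ c` for a square-zero element `c`. -/
noncomputable def secOf {C : Type u} [CommRing C] (t : Spec (CommRingCat.of C) ⟶ S) (c : C)
    (hc : c * c = 0) : pt C t ⟶ dpt C t :=
  Over.homMk (Spec.map (CommRingCat.ofHom (dualHom (RingHom.id C) c hc))) (by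
    change Spec.map _ ≫ Spec.map _ ≫ t = t
    rw [← Category.assoc, specMap_comp, dualHom_comp_algebraMap, CommRingCat.ofHom_id]
    erw [Spec.map_id]; exact Category.id_comp t)

theorem secOf_proj {C : Type u} [CommRing C] (t : Spec (CommRingCat.of C) ⟶ S) (c : C)
    (hc : c * c = 0) : secOf t c hc ≫ proj C t = 𝟙 _ := by
  ext; change Spec.map _ ≫ Spec.map _ = 𝟙 _
  rw [specMap_comp, dualHom_comp_algebraMap, CommRingCat.ofHom_id]; erw [Spec.map_id]

theorem dualHom_comp_bcHom {B C : Type u} [CommRing B] [CommRing C] (θ : DualNumber B →+* C)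
    (hc : θ DualNumber.eps * θ DualNumber.eps = 0) :
    (dualHom (RingHom.id C) (θ DualNumber.eps) hc).comp
      (bcHom (θ.comp (algebraMap B (DualNumber B)))) = θ := by
  refine RingHom.ext fun z => ?_
  have hz : z = algebraMap B (DualNumber B) z.fst + algebraMap B (DualNumber B) z.snd * DualNumber.eps := by
    ext <;> simp [TrivSqZeroExt.algebraMap_eq_inl']
  conv_rhs => rw [hz]
  simp [bcHom, TrivSqZeroExt.algebraMap_eq_inl']

theorem struct_aux {B : Type u} [CommRing B] (f : Spec (CommRingCat.of B) ⟶ S) {C : CommRingCat.{u}}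
    (g : Spec C ⟶ Spec (CommRingCat.of (DualNumber B))) :
    g ≫ Spec.map (CommRingCat.ofHom (algebraMap B (DualNumber B))) ≫ f =
      Spec.map (CommRingCat.ofHom ((Spec.preimage g).hom.comp (algebraMap B (DualNumber B)))) ≫ f := by
  conv_lhs => rw [← Spec.map_preimage g]
  rw [← Category.assoc]
  congr 1
  rw [← Spec.map_comp]
  rfl

/-- the affine case, with the structure morphism as a free variable. -/
theorem key_aux (G K : Over S) [GrpObj G] [GrpObj K] (i : K ⟶ G)
    (B : Type u) [CommRing B] (f : Spec (CommRingCat.of B) ⟶ S) (x : LieS.Lie G B f)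
    (H : ∀ (B' : Type u) [CommRing B'] (h : B →+* B')
      (k : LieS.pt B' (Spec.map (CommRingCat.ofHom h) ≫ f) ⟶ K),
      LieS.Ad G B' (Spec.map (CommRingCat.ofHom h) ≫ f) (k ≫ i) (LieS.pull G f h x) = LieS.pull G f h x)
    (C : Type u) [CommRing C] (t : Spec (CommRingCat.of C) ⟶ S) (θ : DualNumber B →+* C)
    (ht : t = Spec.map (CommRingCat.ofHom (θ.comp (algebraMap B (DualNumber B)))) ≫ f)
    (y : (Over.mk t : Over S) ⟶ dpt B f) (hK : (Over.mk t : Over S) ⟶ K)
    (hy : y.left = Spec.map (CommRingCat.ofHom θ)) :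
    (y ≫ x.1) * (hK ≫ i) = (hK ≫ i) * (y ≫ x.1) := by
  subst ht
  have hc : θ DualNumber.eps * θ DualNumber.eps = 0 := by
    rw [← map_mul, eps_sq, map_zero]
  have h1 := H C (θ.comp (algebraMap B (DualNumber B))) hK
  have h2 := congrArg Subtype.val h1
  -- unfold `Ad` and `pull` on values
  have h3 : (proj C (Spec.map (CommRingCat.ofHom (θ.comp (algebraMap B (DualNumber B)))) ≫ f) ≫ hK ≫ i) *
      (dptMap f (θ.comp (algebraMap B (DualNumber B))) ≫ x.1) *
      (proj C (Spec.map (CommRingCat.ofHom (θ.comp (algebraMap B (DualNumber B)))) ≫ f) ≫ hK ≫ i)⁻¹ =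
        dptMap f (θ.comp (algebraMap B (DualNumber B))) ≫ x.1 := h2
  have hσ : secOf (Spec.map (CommRingCat.ofHom (θ.comp (algebraMap B (DualNumber B)))) ≫ f)
      (θ DualNumber.eps) hc ≫ dptMap f (θ.comp (algebraMap B (DualNumber B))) = y := by
    ext
    change Spec.map _ ≫ Spec.map _ = y.left
    rw [specMap_comp, dualHom_comp_bcHom θ hc, hy]
  have h4 := congrArg (fun m => secOf (Spec.map (CommRingCat.ofHom
    (θ.comp (algebraMap B (DualNumber B)))) ≫ f) (θ DualNumber.eps) hc ≫ m) h3
  simp only [MonObj.comp_mul, GrpObj.comp_inv] at h4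
  rw [← Category.assoc, secOf_proj, Category.id_comp, ← Category.assoc, hσ] at h4
  exact (mul_inv_eq_iff_eq_mul.mp h4).symm

/-- For a group scheme G over a scheme S (the group law of the Lie algebra functor of a group scheme is
commutative, which the published statement assumes), a sub-group-scheme K of G given by a
monomorphic homomorphism i, and an affine S-scheme T = Spec B: an element x of Lie(G/S)(T) belongs
to the Lie algebra of the centraliser of K, i.e. the point x of G with values in the dual numbers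
I_T commutes with every point of K with values in any scheme over I_T, if and only if x is fixed by
the adjoint action of every point of K with values in an affine scheme T' = Spec B' over T (acting
on the restriction of x to T'). -/
theorem result (S : Scheme.{u}) (G K : Over S) [GrpObj G] [GrpObj K] (i : K ⟶ G)
    [IsMonHom i] [Mono i] (B : Type u) [CommRing B] (f : Spec (CommRingCat.of B) ⟶ S) (x : LieS.Lie G B f) :
    (∀ (X' : Over S) (y : X' ⟶ LieS.dpt B f) (h : X' ⟶ K), (y ≫ x.1) * (h ≫ i) = (h ≫ i) * (y ≫ x.1)) ↔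
    (∀ (B' : Type u) [CommRing B'] (h : B →+* B')
      (k : LieS.pt B' (Spec.map (CommRingCat.ofHom h) ≫ f) ⟶ K),
      LieS.Ad G B' (Spec.map (CommRingCat.ofHom h) ≫ f) (k ≫ i) (LieS.pull G f h x) = LieS.pull G f h x) := by
  constructor
  · intro H B' _ h k
    apply Subtype.ext
    change (proj B' (Spec.map (CommRingCat.ofHom h) ≫ f) ≫ k ≫ i) * (dptMap f h ≫ x.1) *
      (proj B' (Spec.map (CommRingCat.ofHom h) ≫ f) ≫ k ≫ i)⁻¹ = dptMap f h ≫ x.1
    have h1 := H (dpt B' (Spec.map (CommRingCat.ofHom h) ≫ f)) (dptMap f h)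
      (proj B' (Spec.map (CommRingCat.ofHom h) ≫ f) ≫ k)
    rw [Category.assoc] at h1
    rw [mul_inv_eq_iff_eq_mul]
    exact h1.symm
  · intro H X' y hK
    apply Over.OverMorphism.ext
    apply (X'.left.affineCover).hom_ext
    intro j
    -- the affine piece as an object over `S`
    let ιj : (Over.mk ((X'.left.affineCover).f j ≫ X'.hom) : Over S) ⟶ X' :=
      Over.homMk ((X'.left.affineCover).f j) rfl
    have e1 : ∀ m : X' ⟶ G, (X'.left.affineCover).f j ≫ m.left = (ιj ≫ m).left := fun m => rfl
    rw [e1, e1, MonObj.comp_mul, MonObj.comp_mul, ← Category.assoc, ← Category.assoc]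
    congr 1
    have hy : (ιj ≫ y).left = Spec.map (Spec.preimage (ιj ≫ y).left) := (Spec.map_preimage _).symm
    refine key_aux G K i B f x H _ ((X'.left.affineCover).f j ≫ X'.hom)
      (Spec.preimage (ιj ≫ y).left).hom ?_ (ιj ≫ y) (ιj ≫ hK) hy
    have hw : (ιj ≫ y).left ≫ Spec.map (CommRingCat.ofHom (algebraMap B (DualNumber B))) ≫ f =
        (X'.left.affineCover).f j ≫ X'.hom := Over.w (ιj ≫ y)
    exact hw.symm.trans (struct_aux f _)

end Groth.Agent.S8370
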