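import Groth.Statements.S8392
import Groth.Agent.R2.H37DiagPoints

set_option autoImplicit false
universe u
open CategoryTheory MonoidalCategory CartesianMonoidalCategory MonObj GrpObj AlgebraicGeometry
open SGA3x

namespace Groth.Agent.S8392

open Groth.Agent.Lib.Helper27.GaGm Groth.Agent.R2.H37.DiagPoints CategoryTheory.Limits

/-- local step: if the base change of `H` along `h : U ⟶ S` is diagonalisable, then `u` dies on it. -/
theorem local_step {S U : Scheme.{u}} (H : Over S) [GrpObj H] (u : H ⟶ Red.Ga S) [IsMonHom u]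
    (h : U ⟶ S) (M : Type) [AddCommGroup M]
    (φ : Grp.mk (Red.bc h H) ≅ Grp.mk (Red.DS U M)) :
    pullback.fst H.hom h ≫ u.left = pullback.fst H.hom h ≫ (1 : H ⟶ Red.Ga S).left := by
  -- the projection as a point of `H` over `S`
  let p : (Over.map h).obj (Red.bc h H) ⟶ H := adjEquiv h H _ (𝟙 _)
  have hp : ∀ (X : Over U) (x' : X ⟶ Red.bc h H), adjEquiv h H X x' = (Over.map h).map x' ≫ p := by
    intro X x'
    apply Over.OverMorphism.ext
    rw [adjEquiv_left, Over.comp_left, adjEquiv_left]
    simp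
  let a : Γ((Red.bc h H).left, ⊤) :=
    Red.gaFn (S := S) (X := (Over.map h).obj (Red.bc h H)) (p ≫ u)
  let w' : Red.bc h H ⟶ Red.Ga U := (gaEquiv (Red.bc h H)).symm a
  have key : ∀ (X : Over U) (x' : X ⟶ Red.bc h H),
      Red.gaFn (x' ≫ w') = Red.gaFn (adjEquiv h H X x' ≫ u) := by
    intro X x'
    rw [gaFn_comp, hp, Category.assoc, gaFn_comp]
    change x'.left.appTop (Red.gaFn ((gaEquiv (Red.bc h H)).symm a)) = _
    rw [gaFn_gaEquiv_symm]
    rfl
  have hw' : ∀ (X : Over U) (x' y' : X ⟶ Red.bc h H),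
      (x' * y') ≫ w' = (x' ≫ w') * (y' ≫ w') := by
    intro X x' y'
    apply gaFn_injective
    rw [gaFn_mul, key, key, key, adjEquiv_mul]
    have := MonObj.mul_comp (adjEquiv h H X x') (adjEquiv h H X y') u
    rw [this, gaFn_mul]
  have hw : ∀ (X : Over U) (x y : X ⟶ Red.DS U M),
      (x * y) ≫ (φ.inv.hom.hom ≫ w') = (x ≫ φ.inv.hom.hom ≫ w') * (y ≫ φ.inv.hom.hom ≫ w') := by
    intro X x y
    rw [← Category.assoc, MonObj.mul_comp, hw', Category.assoc, Category.assoc]
  have h1 := hom_DS_Ga_eq_one _ hw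
  have h2 : w' = 1 := by
    have e : φ.hom.hom.hom ≫ φ.inv.hom.hom = 𝟙 _ := by
      have := congrArg (fun k => k.hom.hom) φ.hom_inv_id
      exact this
    calc w' = (φ.hom.hom.hom ≫ φ.inv.hom.hom) ≫ w' := by rw [e, Category.id_comp]
      _ = 1 := by rw [Category.assoc, h1, MonObj.comp_one]
  have h3 : p ≫ u = 1 := by
    apply gaFn_injective
    rw [gaFn_one]
    have := congrArg Red.gaFn h2
    rw [gaFn_one] at this
    change Red.gaFn ((gaEquiv (Red.bc h H)).symm a) = 0 at this
    rw [gaFn_gaEquiv_symm] at this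
    exact this
  have h4 : p ≫ u = p ≫ 1 := by rw [h3, MonObj.comp_one]
  have h5 := congrArg Over.Hom.left h4
  rw [Over.comp_left, Over.comp_left, adjEquiv_left] at h5
  simpa using h5

/-- Let H be an S-group scheme of multiplicative type. Then every homomorphism of S-groups H → 𝔾_a is
trivial. (Stated for H of multiplicative type and of finite type, the class of multiplicative groups
available here; the published statement allows any group of multiplicative type.) -/
theorem result (S : Scheme.{u}) (H : Over S) [GrpObj H] (hH : SGA3x.IsMultTypeFT H)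
    (u : H ⟶ Red.Ga S) [IsMonHom u] : u = 1 := by
  obtain ⟨S', f, hflat, hsurj, -, hloc⟩ := hH
  choose U hU M instM hM using hloc
  have hcov : TopologicalSpace.IsOpenCover U := by
    apply TopologicalSpace.IsOpenCover.mk
    rw [eq_top_iff]
    intro s _
    exact TopologicalSpace.Opens.mem_iSup.mpr ⟨s, hU s⟩
  let 𝒰 : S'.OpenCover := S'.openCoverOfIsOpenCover U hcov
  have hepi : Epi (pullback.fst H.hom f) := Flat.epi_of_flat_of_surjective _
  apply Over.OverMorphism.ext
  rw [← cancel_epi (pullback.fst H.hom f)]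
  apply (Scheme.Pullback.openCoverOfRight 𝒰 H.hom f).hom_ext
  intro (s : S')
  let _ : AddCommGroup (M s) := instM s
  have hs := local_step H u ((U s).ι ≫ f) (M s) (hM s).2.some
  have e : (Scheme.Pullback.openCoverOfRight 𝒰 H.hom f).f s ≫ pullback.fst H.hom f =
      pullback.fst H.hom ((U s).ι ≫ f) := by
    change pullback.map H.hom ((U s).ι ≫ f) H.hom f (𝟙 _) (U s).ι (𝟙 _) (by simp) (by simp) ≫
      pullback.fst H.hom f = _
    exact (pullback.lift_fst _ _ _).trans (Category.comp_id _)
  rw [← Category.assoc, ← Category.assoc, e]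
  exact hs

end Groth.Agent.S8392
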