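import Groth.Statements.S8431
import Groth.Agent.R2.H97TorusComm

set_option autoImplicit false
universe u
open CategoryTheory MonoidalCategory CartesianMonoidalCategory MonObj GrpObj AlgebraicGeometry
open SGA3x

namespace Groth.Agent.S8431

/-- Let G be an algebraic group over a field k and Z a central algebraic subgroup such that G′ = G/Z is
a torus. Then G is commutative. Here q : G → G′ is a homomorphism representing the fppf quotient of
G by Z, and G′ is a k-torus. -/
theorem result (k : Type u) [Field k]
    (G : Over (Spec (CommRingCat.of k))) [GrpObj G] [QuasiCompact G.hom] [LocallyOfFiniteType G.hom]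
    (Z : Over (Spec (CommRingCat.of k))) [GrpObj Z] (z : Z ⟶ G) [IsMonHom z] [Mono z]
    (hz : ∀ (X : Over (Spec (CommRingCat.of k))) (x : X ⟶ Z) (g : X ⟶ G), (x ≫ z) * g = g * (x ≫ z))
    (G' : Over (Spec (CommRingCat.of k))) [GrpObj G'] (q : G ⟶ G') [IsMonHom q] (hq : RedSub.IsQuotient z q) (hT : Red.IsTorus G') :
    ∀ (X : Over (Spec (CommRingCat.of k))) (g h : X ⟶ G), g * h = h * g := by
  classical
  have hsub : Subsingleton ↥(Spec (CommRingCat.of k)) :=
    (inferInstance : Subsingleton (PrimeSpectrum k))
  have hne : Nonempty ↥(Spec (CommRingCat.of k)) :=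
    (inferInstance : Nonempty (PrimeSpectrum k))
  have hdisc : DiscreteTopology ↥(Spec (CommRingCat.of k)) :=
    (inferInstance : DiscreteTopology (PrimeSpectrum k))
  have hsepG : IsSeparated G.hom := Groth.Agent.Lib.Helper8.isSeparated_of_discrete G
  obtain ⟨hsj, hfl, hlfp, hpb⟩ := hq
  have hcov : Groth.Agent.Lib.Helper12.QuotGrp.IsCov q :=
    Groth.Agent.Lib.Helper12.QuotGrp.IsCov.of_fppf q
  intro X g h
  exact Groth.Agent.R2.H97.TorusComm.comm_of_central_torus_quotient hT z q hpb.flip hcov
    (fun X g n => (hz X n g).symm) X g h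

end Groth.Agent.S8431
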