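import Groth.Statements.S8513
-- import your own Groth.Agent.* helpers here

set_option autoImplicit false
open CategoryTheory MonoidalCategory CartesianMonoidalCategory MonObj GrpObj AlgebraicGeometry
universe u
open Par

namespace Groth.Agent.S8513

/-- Let G be a reductive S-group and P, Q two parabolic subgroups of G in transversal position (the
multiplication morphism P ×_S Q ⟶ G is smooth). Then P ∩ Q (a fibre product of P and Q over G) is
smooth over S. -/
theorem result {S : Scheme.{u}} {G P Q I : Over S} [GrpObj G] [GrpObj P] [GrpObj Q]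
    (hG : Red.IsReductive G) (p : P ⟶ G) (q : Q ⟶ G) (hP : Red.IsParabolic p) (hQ : Red.IsParabolic q)
    (htr : Smooth ((p ⊗ₘ q) ≫ μ[G]).left) (m : I ⟶ P) (m' : I ⟶ Q) (hI : IsPullback m m' p q) :
    Smooth I.hom := by
  obtain ⟨hq_mon, -, -, -⟩ := hQ
  have : IsMonHom q := hq_mon
  -- the "division" map `(x, y) ↦ p x * (q y)⁻¹`
  let ψ : P ⊗ Q ⟶ G := (P ◁ ι[Q]) ≫ (p ⊗ₘ q) ≫ μ[G]
  have hψ : Smooth ψ.left := by
    have e : ψ.left = (P ◁ ι[Q]).left ≫ ((p ⊗ₘ q) ≫ μ[G]).left := rfl
    rw [e]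
    have h0 : IsIso (P ◁ ι[Q]) := inferInstance
    have : IsIso (P ◁ ι[Q]).left := (Over.forget S).map_isIso (P ◁ ι[Q])
    have := htr
    infer_instance
  have key : ∀ {T : Over S} (a : T ⟶ P) (b : T ⟶ Q), lift a b ≫ ψ = (a ≫ p) * (b ≫ q)⁻¹ := by
    intro T a b
    dsimp only [ψ]
    rw [lift_whiskerLeft_assoc, lift_map_assoc, ← Hom.mul_def, ← Hom.inv_def, GrpObj.inv_comp]
  have hpb : IsPullback (lift m m') (toUnit I) ψ η[G] := by
    refine ⟨⟨?_⟩, ⟨Limits.PullbackCone.IsLimit.mk _
      (fun s => hI.lift (s.fst ≫ fst P Q) (s.fst ≫ snd P Q) ?_) ?_ ?_ ?_⟩⟩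
    · rw [key, hI.w, mul_inv_cancel, Hom.one_def]
    · have h1 : s.fst ≫ ψ = (s.fst ≫ fst P Q ≫ p) * (s.fst ≫ snd P Q ≫ q)⁻¹ := by
        have := key (s.fst ≫ fst P Q) (s.fst ≫ snd P Q)
        rw [lift_comp_fst_snd] at this
        simpa [Category.assoc] using this
      have h2 : s.fst ≫ ψ = 1 := by
        rw [s.condition, Hom.one_def]
        congr 1
        exact toUnit_unique _ _
      rw [h1, mul_inv_eq_one] at h2
      simpa [Category.assoc] using h2
    · intro s
      apply CartesianMonoidalCategory.hom_ext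
      · rw [Category.assoc, lift_fst, hI.lift_fst]
      · rw [Category.assoc, lift_snd, hI.lift_snd]
    · intro s
      exact toUnit_unique _ _
    · intro s l hl _
      apply hI.hom_ext
      · rw [hI.lift_fst, ← hl, Category.assoc, lift_fst]
      · rw [hI.lift_snd, ← hl, Category.assoc, lift_snd]
  have hpb' : IsPullback (lift m m').left (toUnit I).left ψ.left η[G].left :=
    hpb.map (Over.forget S)
  exact MorphismProperty.of_isPullback (P := @Smooth) hpb' hψ

end Groth.Agent.S8513
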