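import Groth.Statements.S8517
import Groth.Agent.R2.H38RootPos

set_option autoImplicit false
open CategoryTheory MonoidalCategory CartesianMonoidalCategory MonObj GrpObj AlgebraicGeometry
universe u
open RedSub

namespace Groth.Agent.S8517

/-- Let R be the set of roots of a root pairing over ℤ with finitely many roots, and R₁, R₂ two closed
subsets of R (if a, b ∈ Rᵢ and root a + root b is a root c then c ∈ Rᵢ), each containing a system of
positive roots (the positive roots of some base). If R₁ ∪ R₂ = R, then R₁ ∩ (−R₂) (the roots of R₁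
whose negative is a root in R₂) contains a system of positive roots. -/
theorem result {idx M N : Type} [Finite idx] [AddCommGroup M] [AddCommGroup N] (P : RootPairing idx ℤ M N) (R₁ R₂ : Set idx)
    (h₁ : ∀ a b c : idx, a ∈ R₁ → b ∈ R₁ → P.root a + P.root b = P.root c → c ∈ R₁)
    (h₂ : ∀ a b c : idx, a ∈ R₂ → b ∈ R₂ → P.root a + P.root b = P.root c → c ∈ R₂)
    (hb₁ : ∃ b : P.Base, RedSub.posRoots P b ⊆ R₁) (hb₂ : ∃ b : P.Base, RedSub.posRoots P b ⊆ R₂)
    (hunion : R₁ ∪ R₂ = Set.univ) :
    ∃ b : P.Base, RedSub.posRoots P b ⊆ {a | a ∈ R₁ ∧ ∃ c ∈ R₂, P.root a = -P.root c} := by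
  obtain ⟨b₁, hb₁⟩ := hb₁
  obtain ⟨b₂, hb₂⟩ := hb₂
  -- membership in the target set, in terms of the negation on indices
  have hmem : ∀ a : idx, a ∈ {a | a ∈ R₁ ∧ ∃ c ∈ R₂, P.root a = -P.root c} ↔
      a ∈ R₁ ∧ P.reflectionPerm a a ∈ R₂ := by
    intro a
    constructor
    · rintro ⟨ha, c, hc, hac⟩
      refine ⟨ha, ?_⟩
      have : P.reflectionPerm a a = c := by
        apply P.root.injective
        rw [RootPairing.root_reflectionPerm, RootPairing.reflection_apply_self, hac, neg_neg]
      rwa [this]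
    · rintro ⟨ha, hc⟩
      exact ⟨ha, _, hc, by simp⟩
  have hnegneg : ∀ a : idx, P.reflectionPerm (P.reflectionPerm a a) (P.reflectionPerm a a) = a := by
    intro a
    apply P.root.injective
    rw [RootPairing.root_reflectionPerm, RootPairing.reflection_apply_self,
      RootPairing.root_reflectionPerm, RootPairing.reflection_apply_self, neg_neg]
  refine Groth.Agent.R2.H38.RootPos.exists_base_posRoots_subset _ ?_ ?_ b₁
  · -- closedness
    intro a c d ha hc hd
    rw [hmem] at ha hc ⊢
    refine ⟨h₁ a c d ha.1 hc.1 hd, h₂ _ _ _ ha.2 hc.2 ?_⟩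
    simp only [RootPairing.root_reflectionPerm, RootPairing.reflection_apply_self]
    rw [← hd, neg_add]
  · -- every root or its negative
    intro a
    rw [hmem, hmem, hnegneg]
    have ha : a ∈ R₁ ∨ a ∈ R₂ := by
      have : a ∈ R₁ ∪ R₂ := hunion ▸ Set.mem_univ a
      exact this
    have hna : P.reflectionPerm a a ∈ R₁ ∨ P.reflectionPerm a a ∈ R₂ := by
      have : P.reflectionPerm a a ∈ R₁ ∪ R₂ := hunion ▸ Set.mem_univ _
      exact this
    have h1 : a ∈ R₁ ∨ P.reflectionPerm a a ∈ R₁ :=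
      (Groth.Agent.R2.H38.RootPos.mem_posRoots_or_neg b₁ a).imp (fun h => hb₁ h) (fun h => hb₁ h)
    have h2 : a ∈ R₂ ∨ P.reflectionPerm a a ∈ R₂ :=
      (Groth.Agent.R2.H38.RootPos.mem_posRoots_or_neg b₂ a).imp (fun h => hb₂ h) (fun h => hb₂ h)
    tauto

end Groth.Agent.S8517
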