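import Groth.Statements.S8526
import Groth.Agent.R2.H29Supp
-- import your own Groth.Agent.* helpers here

set_option autoImplicit false
universe u
open CategoryTheory CategoryTheory.Limits AlgebraicGeometry Opposite
open EtPBC

namespace Groth.Agent.S8526

open Groth.Agent.R2.H29.Strata Groth.Agent.R2.H29.Supp TopologicalSpace in
/-- Let F be a constructible abelian sheaf on the small etale site of a scheme X. Then the support of F,
the set of points of X over which some geometric stalk of F is nonzero, is a locally constructible
subset of X. -/
theorem result {X : Scheme.{u}} (F : EtCoh.Ab X) (hF : EtPBC.IsConstructible F) :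
    Topology.IsLocallyConstructible (EtPBC.supp F) := by
  have key : ∀ U : X.Opens, IsAffineOpen U →
      Topology.IsConstructible ((Subtype.val : U → X) ⁻¹' EtPBC.supp F) := by
    intro U hU
    have : CompactSpace (U : Scheme.{u}) := isCompact_iff_compactSpace.1 hU.isCompact
    have : QuasiSeparatedSpace (U : Scheme.{u}) := quasiSeparatedSpace_of_isAffineOpen hU
    have h := isConstructible_supp ((EtCoh.pull U.ι).obj F) (Groth.Agent.S0127.result U.ι F hF)
    rw [supp_pull_immersion] at h
    exact h
  intro x
  obtain ⟨U, hU, hxU, -⟩ := Opens.isBasis_iff_nbhd.1 X.isBasis_affineOpens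
    (show x ∈ (⊤ : X.Opens) from trivial)
  exact ⟨U, U.2.mem_nhds hxU, U.2, key U hU⟩

end Groth.Agent.S8526
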