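import Groth.Statements.S8527
import Groth.Agent.R2.H29Generic
-- import your own Groth.Agent.* helpers here

set_option autoImplicit false
universe u
open CategoryTheory CategoryTheory.Limits AlgebraicGeometry Opposite
open EtPBC

namespace Groth.Agent.S8527

open Groth.Agent.R2.H29.Strata Groth.Agent.R2.H29.Constr Groth.Agent.R2.H29.Generic TopologicalSpace in
/-- Let X be a locally Noetherian scheme and F an abelian sheaf on its small etale site. Then F is
constructible if and only if for every point x of X there is a nonempty open subset of the closure
of x along which F becomes finite locally constant; precisely: there are an open V containing x and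
an immersion g : T → X with image V ∩ closure(x) such that the inverse image of F along g is finite
locally constant. -/
theorem result {X : Scheme.{u}} [IsLocallyNoetherian X]
    (F : EtCoh.Ab X) :
    EtPBC.IsConstructible F ↔
      ∀ x : X, ∃ (V : X.Opens) (T : Scheme.{u}) (g : T ⟶ X), IsImmersion g ∧ x ∈ V ∧
        Set.range g.base = (V : Set X) ∩ closure {x} ∧
        EtCoh.IsFiniteLocallyConstant ((EtCoh.pull g).obj F) := by
  constructor
  · intro hF x
    obtain ⟨U, hU, hxU, -⟩ := Opens.isBasis_iff_nbhd.1 X.isBasis_affineOpens
      (show x ∈ (⊤ : X.Opens) from trivial)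
    exact genericP_of_strataP (PF_stable F) U ((isConstructible_iff F).1 hF U hU) x hxU
  · intro h
    have hgen : GenericP (PF F) := h
    rw [isConstructible_iff]
    intro U hU
    have : CompactSpace (U : Scheme.{u}) := isCompact_iff_compactSpace.1 hU.isCompact
    have : IsNoetherian (U : Scheme.{u}) := {}
    have h1 : StrataP ((PF F).pull U.ι) (Set.univ : Set U) :=
      strataP_of_genericP ((PF_stable F).pull U.ι) (hgen.pull_open (PF_stable F) U)
    have h2 := StrataP.of_openImmersion U.ι (P' := (PF F).pull U.ι) (P := PF F)
      (fun T g hg => hg) ⊤ (by rwa [Opens.coe_top])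
    have e : (U.ι ''ᵁ (⊤ : (U : Scheme.{u}).Opens) : X.Opens) = U := by
      ext y
      simp
    rwa [e] at h2

end Groth.Agent.S8527
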