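import Groth.Statements.S8532
import Groth.Agent.R2.H13FinEtTrace
import Groth.Agent.R2.H13CoprimeIso
import Groth.Agent.R2.H13FinPush
import Groth.Agent.Lib.Helper9HofPush
import Groth.Agent.Lib.Helper9JContAll

set_option autoImplicit false
universe u
open CategoryTheory CategoryTheory.Limits AlgebraicGeometry Opposite
open EtAcyc

namespace Groth.Agent.S8532

/-- Let f : X' → X be finite etale of constant degree d (every geometric fibre has exactly d points), L
a set of primes such that no prime in L divides d, F an abelian L-torsion sheaf on the small etale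
site of X, and q a natural number. If H^q(X', f⁻¹F) = 0, then H^q(X, F) = 0. -/
theorem result {X X' : Scheme.{u}} (f : X' ⟶ X) [IsFinite f] [Etale f]
    (d : ℕ) (hd : ∀ (Ω : Type u) [Field Ω] [IsSepClosed Ω] (ξ : Spec (CommRingCat.of Ω) ⟶ X),
      Nat.card ↥(pullback f ξ) = d)
    (L : Set ℕ) (hL : ∀ p : ℕ, p.Prime → p ∈ L → ¬ p ∣ d) (F : EtCoh.Ab X) (hF : EtAcyc.IsLTorsion L F)
    [PreservesFiniteLimits (EtCoh.pull f)] (q : ℕ)
    (h : Subsingleton (EtCoh.H X' ((EtCoh.pull f).obj F) q)) :
    Subsingleton (EtCoh.H X F q) := by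
  classical
  have hJ : EtShriek.JCont f := Groth.Agent.Lib.Helper9.JContAll.jCont f
  have hflat : Flat f := inferInstance
  -- the degree of `f` is constant equal to `d`
  have hfin : ∀ x : X, f.finrank x = d := by
    intro x
    let Ω := AlgebraicClosure (X.residueField x)
    let ξ : Spec (CommRingCat.of Ω) ⟶ X :=
      Spec.map (CommRingCat.ofHom (algebraMap (X.residueField x) Ω)) ≫ X.fromSpecResidueField x
    have hξ : ξ (default : Spec (CommRingCat.of Ω)) = x := by
      dsimp only [ξ]
      rw [Scheme.Hom.comp_apply]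
      exact Scheme.fromSpecResidueField_apply _ _
    rw [← hξ, ← Groth.Agent.R2.H13.FinEtCount.card_pullback f ξ default]
    exact hd Ω ξ
  have huc := Groth.Agent.R2.H13.FinEtTrace.unit_counit f F d hfin
  have hiso : IsIso (d • 𝟙 F : F ⟶ F) := Groth.Agent.R2.H13.CoprimeIso.isIso_nsmul L d hL F hF
  -- the middle cohomology group vanishes
  have hmid : Subsingleton (EtCoh.H X ((EtCoh.push f).obj ((EtCoh.pull f).obj F)) q) := by
    have hb := Groth.Agent.Lib.Helper9.HofPush.HofPush_bijective f ((EtCoh.pull f).obj F)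
      (fun q hq => Groth.Agent.R2.H13.FinPush.isZero_Rpush f _ q hq) q
    exact hb.injective.subsingleton
  have hφ : IsIso ((EtCoh.HF X q).map (d • 𝟙 F : F ⟶ F)) := inferInstance
  have inj : Function.Injective ((EtCoh.HF X q).map (d • 𝟙 F : F ⟶ F)) :=
    (ConcreteCategory.bijective_of_isIso _).injective
  constructor
  intro a b
  apply inj
  rw [← huc, Functor.map_comp]
  change ((EtCoh.HF X q).map ((Groth.Agent.R2.H13.FinEtTrace.pushPullAdj f).counit.app F))
      (((EtCoh.HF X q).map ((EtCoh.pullPushAdj f).unit.app F)) a) =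
    ((EtCoh.HF X q).map ((Groth.Agent.R2.H13.FinEtTrace.pushPullAdj f).counit.app F))
      (((EtCoh.HF X q).map ((EtCoh.pullPushAdj f).unit.app F)) b)
  congr 1
  exact Subsingleton.elim (α := EtCoh.H X ((EtCoh.push f).obj ((EtCoh.pull f).obj F)) q) _ _

end Groth.Agent.S8532
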