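import Groth.Statements.S8542
import Groth.Agent.R2.H38ShPull

set_option autoImplicit false
universe u
open CategoryTheory CategoryTheory.Limits AlgebraicGeometry Opposite
open EtBC

namespace Groth.Agent.S8542

/-- Let h : Y → X be a morphism of quasi-compact quasi-separated schemes such that for every sheaf of
sets F on the small etale site of X the pullback map Γ(X, F) → Γ(Y, h^*F) is injective. Let u : F →
G be a monomorphism of sheaves of sets on X and ξ ∈ Γ(Y, h^*F) a section whose image in Γ(Y, h^*G)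
lies in the image of Γ(X, G). Then ξ lies in the image of Γ(X, F). -/
theorem result {X Y : Scheme.{u}} [CompactSpace X] [QuasiSeparatedSpace X]
    [CompactSpace Y] [QuasiSeparatedSpace Y] (h : Y ⟶ X)
    (hinj : ∀ F : EtDesc.Sh X, Function.Injective (EtDesc.secPull h F))
    {F G : EtDesc.Sh X} (u : F ⟶ G) [Mono u] (ξ : EtDesc.sect ((EtDesc.pullSh h).obj F) (EtCoh.top Y))
    (hξ : ((EtDesc.pullSh h).map u).hom.app (op (EtCoh.top Y)) ξ ∈ Set.range (EtDesc.secPull h G)) :
    ξ ∈ Set.range (EtDesc.secPull h F) := by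
  obtain ⟨g, hg⟩ := hξ
  -- the cokernel pair of `u`
  let i₁ : G ⟶ pushout u u := pushout.inl u u
  let i₂ : G ⟶ pushout u u := pushout.inr u u
  have hpo : IsPushout u u i₁ i₂ := IsPushout.of_hasPushout u u
  have hpb : IsPullback u u i₁ i₂ := Adhesive.isPullback_of_isPushout_of_mono_left hpo
  -- the two images of `g` agree
  have hg12 : i₁.hom.app (op (EtCoh.top X)) g = i₂.hom.app (op (EtCoh.top X)) g := by
    apply hinj (pushout u u)
    rw [Groth.Agent.R2.H38.ShPull.secPull_naturality, Groth.Agent.R2.H38.ShPull.secPull_naturality,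
      hg]
    have hw : (EtDesc.pullSh h).map u ≫ (EtDesc.pullSh h).map i₁ =
        (EtDesc.pullSh h).map u ≫ (EtDesc.pullSh h).map i₂ := by
      rw [← Functor.map_comp, ← Functor.map_comp, hpo.w]
    exact congrArg (fun ψ => ψ.hom.app (op (EtCoh.top Y)) ξ) hw
  -- sections functor preserves the pullback
  let Γ : EtDesc.Sh X ⥤ Type (u + 1) :=
    sheafToPresheaf X.smallEtaleTopology (Type (u + 1)) ⋙
      (evaluation (X.Etale)ᵒᵖ (Type (u + 1))).obj (op (EtCoh.top X))
  have hpbΓ : IsPullback (Γ.map u) (Γ.map u) (Γ.map i₁) (Γ.map i₂) := hpb.map Γ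
  obtain ⟨f, hf, -⟩ := Types.exists_of_isPullback hpbΓ g g hg12
  refine ⟨f, ?_⟩
  have hmono : Mono ((EtDesc.pullSh h).map u) := inferInstance
  apply Groth.Agent.R2.H38.ShPull.injective_app_of_mono ((EtDesc.pullSh h).map u)
  rw [← Groth.Agent.R2.H38.ShPull.secPull_naturality]
  exact (congrArg (EtDesc.secPull h G) hf).trans hg

end Groth.Agent.S8542
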