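import Groth.Statements.S8547
import Groth.Agent.R2.H38SecPullBC

set_option autoImplicit false
universe u
open CategoryTheory CategoryTheory.Limits AlgebraicGeometry Opposite
open EtBC

namespace Groth.Agent.S8547

open Groth.Agent.R2.H38.SecPullBC Groth.Agent.R2.H38.ShPull in
/-- the map induced on sections by an isomorphism of the site is bijective -/
theorem map_iso_bijective {Z : Scheme.{u}} (G : EtDesc.Sh Z) {A B : Z.Etale} (e : A ≅ B) :
    Function.Bijective (G.obj.map e.hom.op) := by
  have : IsIso (G.obj.map e.hom.op) := inferInstance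
  exact (isIso_iff_bijective _).1 this

open Groth.Agent.R2.H38.SecPullBC Groth.Agent.R2.H38.ShPull in
/-- sections of an iso of sheaves of sets are bijective -/
theorem bijective_app_of_isIso {Z : Scheme.{u}} {F G : EtDesc.Sh Z} (v : F ⟶ G) [IsIso v]
    (U : Z.Etale) : Function.Bijective (v.hom.app (op U)) := by
  have : IsIso v.hom := (sheafToPresheaf _ _).map_isIso v
  have : IsIso (v.hom.app (op U)) := inferInstance
  exact (isIso_iff_bijective _).1 this

/-- Let h : Y → X and p : X̄ → X be morphisms of schemes with X, Y, X̄ quasi-compact and quasi-separated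
(p need not be surjective), and Ȳ = Y ×_X X̄ with projections h̄ : Ȳ → X̄ and p_Y : Ȳ → Y. If the
pullback map on global sections Γ(X, F) → Γ(Y, h^*F) is injective for every sheaf of sets F on X and
the base change morphism h^* p_* F̄ → p_{Y*} h̄^* F̄ is a monomorphism for every sheaf of sets F̄ on
X̄, then Γ(X̄, F̄) → Γ(Ȳ, h̄^*F̄) is injective for every F̄. If the maps for h are bijective and the
base change morphisms are isomorphisms, then the maps for h̄ are bijective. -/
theorem result {X Y Xb Yb : Scheme.{u}} [CompactSpace X]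
    [QuasiSeparatedSpace X] [CompactSpace Y] [QuasiSeparatedSpace Y] [CompactSpace Xb] [QuasiSeparatedSpace Xb]
    (h : Y ⟶ X) (p : Xb ⟶ X) (hb : Yb ⟶ Xb) (pY : Yb ⟶ Y) (sq : IsPullback hb pY p h) :
    ((∀ F : EtDesc.Sh X, Function.Injective (EtDesc.secPull h F)) →
      (∀ Fb : EtDesc.Sh Xb, Mono (EtBC.baseChange0Sh p h pY hb sq.w Fb)) →
      ∀ Fb : EtDesc.Sh Xb, Function.Injective (EtDesc.secPull hb Fb)) ∧
    ((∀ F : EtDesc.Sh X, Function.Bijective (EtDesc.secPull h F)) →
      (∀ Fb : EtDesc.Sh Xb, IsIso (EtBC.baseChange0Sh p h pY hb sq.w Fb)) →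
      ∀ Fb : EtDesc.Sh Xb, Function.Bijective (EtDesc.secPull hb Fb)) := by
  have key : ∀ Fb : EtDesc.Sh Xb, EtDesc.secPull hb Fb =
      (((EtDesc.pullSh hb).obj Fb).obj.map (EtCore.bcTopIso pY).inv.op) ∘
        ((EtBC.baseChange0Sh p h pY hb sq.w Fb).hom.app (op (EtCoh.top Y))) ∘
          (EtDesc.secPull h ((EtDesc.pushSh p).obj Fb)) ∘
            (Fb.obj.map (EtCore.bcTopIso p).hom.op) := by
    intro Fb
    funext s
    exact Groth.Agent.R2.H38.SecPullBC.secPull_factor h p hb pY sq.w Fb s
  refine ⟨fun hinj hmono Fb => ?_, fun hbij hiso Fb => ?_⟩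
  · rw [key Fb]
    have := hmono Fb
    refine (map_iso_bijective _ (EtCore.bcTopIso pY).symm).injective.comp
      ((Groth.Agent.R2.H38.ShPull.injective_app_of_mono _ _).comp
        ((hinj _).comp (map_iso_bijective Fb (EtCore.bcTopIso p)).injective))
  · rw [key Fb]
    have := hiso Fb
    refine (map_iso_bijective _ (EtCore.bcTopIso pY).symm).comp
      ((bijective_app_of_isIso _ _).comp
        ((hbij _).comp (map_iso_bijective Fb (EtCore.bcTopIso p))))

end Groth.Agent.S8547
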