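import Groth.Statements.S8580
import Groth.Agent.R2.H38Grid
import Groth.Agent.R2.H38EtPull

set_option autoImplicit false
open CategoryTheory CategoryTheory.Limits AlgebraicGeometry
universe u
open EtDesc

namespace Groth.Agent.S8580

open Groth.Agent.R2.H38 Groth.Agent.R2.H38.ZigZag Groth.Agent.R2.H38.Grid Groth.Agent.R2.H38.EtPull

section Setup

variable {X Y : Scheme.{u}} (f : X ⟶ Y)

/-- the `(n+1)`-fold fibre power -/
noncomputable abbrev Xn (n : ℕ) : Scheme.{u} :=
  widePullback Y (fun _ : Fin (n + 1) => X) (fun _ => f)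

/-- its projection to the base -/
noncomputable abbrev πn (n : ℕ) : Xn f n ⟶ Y :=
  WidePullback.base (fun _ : Fin (n + 1) => f)

/-- forget the first factor -/
noncomputable def dn (n : ℕ) : Xn f (n + 1) ⟶ Xn f n :=
  WidePullback.lift (WidePullback.base _) (fun i : Fin (n + 1) => WidePullback.π _ (Fin.succ i))
    (fun _ => WidePullback.π_arrow _ _)

/-- repeat the first factor -/
noncomputable def en (n : ℕ) : Xn f n ⟶ Xn f (n + 1) :=
  WidePullback.lift (WidePullback.base _)
    (fun j : Fin (n + 1 + 1) => WidePullback.π _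
      (Fin.cases (motive := fun _ => Fin (n + 1)) 0 (fun i => i) j))
    (fun _ => WidePullback.π_arrow _ _)

lemma dn_πn (n : ℕ) : dn f n ≫ πn f n = πn f (n + 1) :=
  WidePullback.lift_base _ _ _ _

lemma en_dn (n : ℕ) : en f n ≫ dn f n = 𝟙 _ := by
  apply WidePullback.hom_ext
  · intro i
    rw [Category.assoc, Category.id_comp, dn, WidePullback.lift_π, en, WidePullback.lift_π]
    rfl
  · rw [Category.assoc, Category.id_comp, dn, WidePullback.lift_base, en, WidePullback.lift_base]

variable (s : Y ⟶ X) (hs : s ≫ f = 𝟙 Y)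

/-- the section of `X_0 ⟶ Y` -/
noncomputable def t0 : Y ⟶ Xn f 0 :=
  WidePullback.lift (𝟙 Y) (fun _ => s) (fun _ => hs)

lemma t0_πn : t0 f s hs ≫ πn f 0 = 𝟙 Y :=
  WidePullback.lift_base _ _ _ _

variable (F : EtCoh.Ab Y)

/-- the retraction datum `H^q(X_n, F|X_n) ⟶ H^q(X_{n+1}, F|X_{n+1})` -/
noncomputable def retractStep (n q : ℕ) :
    Retract (Hq ((EtCoh.pull (πn f n)).obj F) q) (Hq ((EtCoh.pull (πn f (n + 1))).obj F) q) :=
  (nonempty_retract (dn f n) (en f n) (en_dn f n) ((EtCoh.pull (πn f n)).obj F)
    ((EtCoh.pull (πn f (n + 1))).obj F)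
    (((EtCore.pullComp (dn f n) (πn f n)).symm ≪≫ EtCore.pullCongr (dn_πn f n)).app F) q).some

/-- the retraction datum `H^q(Y, F) ⟶ H^q(X_0, F|X_0)` -/
noncomputable def retractBase (q : ℕ) :
    Retract (Hq F q) (Hq ((EtCoh.pull (πn f 0)).obj F) q) :=
  (nonempty_retract (πn f 0) (t0 f s hs) (t0_πn f s hs) F ((EtCoh.pull (πn f 0)).obj F)
    (Iso.refl _) q).some

/-- the tower of the groups `H^q(X_n, F|X_n)` -/
noncomputable def towerNat (q : ℕ) : Tower AddCommGrpCat.{u + 1} where
  A n := Hq ((EtCoh.pull (πn f n)).obj F) q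
  H := Hq F q
  i n := (retractStep f F n q).i
  r n := (retractStep f F n q).r
  ir n := (retractStep f F n q).retract
  iH := (retractBase f s hs F q).i
  rH := (retractBase f s hs F q).r
  iHrH := (retractBase f s hs F q).retract

/-- the towers indexed by all integers -/
noncomputable def tower (q : ℤ) : Tower AddCommGrpCat.{u + 1} :=
  if 0 ≤ q then towerNat f s hs F q.toNat else trivialTower AddCommGrpCat.{u + 1}

end Setup


/-- In the setting of schemes and abelian sheaves on their small etale sites (where every morphism is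
flat for the inverse image of sheaves), let f : X → Y be a morphism of schemes with a section s, s
followed by f being the identity, and F any abelian sheaf on the small etale site of Y. Then f is of
universal cohomological descent, and the descent spectral sequence reads, in existence form: there
is a bounded spectral sequence of abelian groups starting at page one with E_1^{p,q} isomorphic, for
p, q ≥ 0, to the etale cohomology group H^q(X_p, F|X_p), where X_p is the (p+1)-fold fibre product
of X over Y and F|X_p the inverse image of F along its projection to Y, and zero otherwise, together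
with abutment data whose filtrations are finite on H^n(Y_et, F) for n ≥ 0 (zero for n < 0). (The E_1
identifications and the abutment isomorphisms are asserted to exist only; the differentials are not
part of this statement.) -/
theorem result {X Y : Scheme.{u}} (f : X ⟶ Y) (s : Y ⟶ X)
    (hs : s ≫ f = 𝟙 Y) (F : EtCoh.Ab Y) :
    ∃ (E : CohomologicalSpectralSequence AddCommGrpCat.{u + 1} 1)
      (a : SpSeq.Abutment E (fun n : ℤ =>
        if 0 ≤ n then AddCommGrpCat.of (EtCoh.H Y F n.toNat) else AddCommGrpCat.of PUnit.{u + 2})),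
      (∀ n, a.IsFinite n) ∧ SpSeq.IsBounded E ∧
      ∀ p q : ℤ, Nonempty ((E.page 1 le_rfl).X (p, q) ≅
        (if 0 ≤ p ∧ 0 ≤ q then
          AddCommGrpCat.of (EtCoh.H (widePullback Y (fun _ : Fin (p.toNat + 1) => X) (fun _ => f))
            ((EtCoh.pull (WidePullback.base (fun _ : Fin (p.toNat + 1) => f) :
              widePullback Y (fun _ : Fin (p.toNat + 1) => X) (fun _ => f) ⟶ Y)).obj F) q.toNat)
         else AddCommGrpCat.of PUnit.{u + 2})) := by
  have hzero : IsZero (AddCommGrpCat.of PUnit.{u + 2}) :=
    AddCommGrpCat.isZero_of_subsingleton _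
  obtain ⟨E, a, h1, h2, h3⟩ := exists_ss_of_towers (tower f s hs F)
    (fun q hq n => by
      have : tower f s hs F q = trivialTower AddCommGrpCat.{u + 1} := if_neg (by omega)
      rw [this]
      exact isZero_zero _)
    (fun n : ℤ =>
      if 0 ≤ n then AddCommGrpCat.of (EtCoh.H Y F n.toNat) else AddCommGrpCat.of PUnit.{u + 2})
    (fun q => by
      by_cases hq : 0 ≤ q
      · have : tower f s hs F q = towerNat f s hs F q.toNat := if_pos hq
        rw [this, if_pos hq]
        exact ⟨Iso.refl _⟩
      · have : tower f s hs F q = trivialTower AddCommGrpCat.{u + 1} := if_neg hq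
        rw [this, if_neg hq]
        exact ⟨(isZero_zero _).iso hzero⟩)
  refine ⟨E, a, h1, h2, fun p q => ?_⟩
  by_cases hp : 0 ≤ p
  · obtain ⟨n, rfl⟩ : ∃ n : ℕ, p = (n : ℤ) := ⟨p.toNat, by omega⟩
    obtain ⟨e⟩ := (h3 n q).1 n rfl
    by_cases hq : 0 ≤ q
    · have : tower f s hs F q = towerNat f s hs F q.toNat := if_pos hq
      rw [this] at e
      rw [if_pos ⟨hp, hq⟩]
      simp only [Int.toNat_natCast]
      exact ⟨e⟩
    · have : tower f s hs F q = trivialTower AddCommGrpCat.{u + 1} := if_neg hq
      rw [this] at e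
      rw [if_neg (fun h => hq h.2)]
      exact ⟨(IsZero.of_iso (isZero_zero _) e).iso hzero⟩
  · rw [if_neg (fun h => hp h.1)]
    exact ⟨((h3 p q).2 (by omega)).iso hzero⟩

end Groth.Agent.S8580
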