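import Groth.Statements.S8598
import Groth.Agent.Lib.Helper16SmallEtale

set_option autoImplicit false
universe u
open CategoryTheory CategoryTheory.Limits AlgebraicGeometry Opposite
open EtDl

namespace Groth.Agent.S8598

open Groth.Agent.Lib.Helper16.SmallEtale

set_option backward.isDefEq.respectTransparency.types false in
/-- The projection `(U ×_Y X → X → Y) ⟶ U` in the small etale site of `Y`. -/
noncomputable def proj {X Y : Scheme.{u}} (u : X ⟶ Y) [Etale u] (U : Y.Etale) :
    (EtShriek.compEtale u).obj ((EtCoh.bc u).obj U) ⟶ U :=
  MorphismProperty.Over.homMk (pullback.fst U.hom u) (by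
    dsimp [EtCoh.bc]
    exact pullback.condition) trivial

/-- Let u : X -> Y be an etale, separated morphism of finite type that is surjective, and F an abelian
sheaf on Y_et. The sheaves F_n = (u_n)_! u_n^* F built from the iterated fibre powers of X over Y
form a left resolution of F; in particular (the part stated here) the augmentation u_! u^* F -> F,
which is the counit of the adjunction between extension by zero u_! and restriction u^*, is an
epimorphism. (The continuity of V ↦ (V -> X -> Y) between the small etale sites is carried as an
instance hypothesis, the prelude's convention for extension by zero along an etale morphism.) -/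
theorem result {X Y : Scheme.{u}} (u : X ⟶ Y) [Etale u] [IsSeparated u]
    [LocallyOfFiniteType u] [QuasiCompact u] [Surjective u] [EtShriek.JCont u] (F : EtCoh.Ab Y) :
    Epi ((EtShriek.extZeroAdj u).counit.app F) := by
  have : Sheaf.IsLocallySurjective ((EtShriek.extZeroAdj u).counit.app F) := by
    constructor
    intro U t
    rw [mem_smallEtale_iff]
    intro p
    have hsurj : Surjective (pullback.fst U.hom u) := inferInstance
    obtain ⟨w, hw⟩ := hsurj.surj p
    refine ⟨(EtShriek.compEtale u).obj ((EtCoh.bc u).obj U), proj u U, w, ?_, hw⟩
    -- the restriction of `t` along `proj` is a section of `u^* F` over `U ×_Y X`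
    have tri := (EtShriek.extZeroAdj u).right_triangle_components F
    have tri' := congrArg (fun φ => φ.hom.app (op ((EtCoh.bc u).obj U))) tri
    refine ⟨((EtShriek.extZeroAdj u).unit.app ((EtShriek.restrAlong u).obj F)).hom.app
      (op ((EtCoh.bc u).obj U)) (F.obj.map (proj u U).op t), ?_⟩
    exact congrArg (fun φ => (ConcreteCategory.hom φ) (F.obj.map (proj u U).op t)) tri'
  exact Sheaf.epi_of_isLocallySurjective _

end Groth.Agent.S8598
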