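import Groth.Statements.S8607
import Mathlib.AlgebraicGeometry.Morphisms.Separated
import Mathlib.AlgebraicGeometry.Morphisms.ClosedImmersion

set_option autoImplicit false
universe u
open CategoryTheory CategoryTheory.Limits AlgebraicGeometry Opposite
open DEt

namespace Groth.Agent.S8607

/-- If `j ≫ ι` is an open immersion and `ι` is a monomorphism, then `j` is an open immersion. -/
theorem isOpenImmersion_of_comp_mono {X E Z : Scheme.{u}} (j : X ⟶ E) (ι : E ⟶ Z) [Mono ι]
    [IsOpenImmersion (j ≫ ι)] : IsOpenImmersion j := by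
  have sq : IsPullback (𝟙 X) j (j ≫ ι) ι := by
    refine ⟨⟨by simp⟩, ⟨PullbackCone.IsLimit.mk _ (fun s => s.fst) (fun s => by simp)
      (fun s => ?_) (fun s m hm _ => ?_)⟩⟩
    · rw [← cancel_mono ι, Category.assoc, s.condition]
    · simpa using hm
  exact MorphismProperty.of_isPullback (P := @IsOpenImmersion) sq inferInstance

/-- The equalizing half of 'the category of compactifications of f is cofiltering': let f : X -> Y be a
morphism of quasi-compact quasi-separated schemes, (Xbar_1, j_1, fbar_1) and (Xbar_2, j_2, fbar_2)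
two compactifications of f, and r, s : Xbar_1 -> Xbar_2 two morphisms of compactifications (r ∘ j_1
= j_2 = s ∘ j_1 and fbar_2 ∘ r = fbar_1 = fbar_2 ∘ s). Then there are a compactification (Xbar, j,
fbar) of f and a proper morphism t : Xbar -> Xbar_1 of compactifications (t ∘ j = j_1, fbar_1 ∘ t =
fbar) with r ∘ t = s ∘ t. -/
theorem result {X Y : Scheme.{u}} [CompactSpace ↥X] [QuasiSeparatedSpace ↥X]
    [CompactSpace ↥Y] [QuasiSeparatedSpace ↥Y] {f : X ⟶ Y} (c₁ c₂ : DEt.Compactification f)
    (r s : c₁.Xbar ⟶ c₂.Xbar) (hr : c₁.j ≫ r = c₂.j) (hs : c₁.j ≫ s = c₂.j)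
    (hr' : r ≫ c₂.fbar = c₁.fbar) (hs' : s ≫ c₂.fbar = c₁.fbar) :
    ∃ (c : DEt.Compactification f) (t : c.Xbar ⟶ c₁.Xbar), IsProper t ∧ c.j ≫ t = c₁.j ∧ t ≫ c₁.fbar = c.fbar ∧
      t ≫ r = t ≫ s := by
  let A : Over Y := Over.mk c₁.fbar
  let B : Over Y := Over.mk c₂.fbar
  let r' : A ⟶ B := Over.homMk r hr'
  let s' : A ⟶ B := Over.homMk s hs'
  have : IsSeparated B.hom := by
    change IsSeparated c₂.fbar
    infer_instance
  let ι : (equalizer r' s').left ⟶ c₁.Xbar := (equalizer.ι r' s').left
  have hι : IsClosedImmersion ι := isClosedImmersion_equalizer_ι_left r' s'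
  have hι' : ι ≫ c₁.fbar = (equalizer r' s').hom := Over.w (equalizer.ι r' s')
  let j' : Over.mk f ⟶ A := Over.homMk c₁.j c₁.fac
  have hj' : j' ≫ r' = j' ≫ s' := by
    ext
    simp [j', r', s', hr, hs]
  let j : X ⟶ (equalizer r' s').left := (equalizer.lift j' hj').left
  have hj : j ≫ ι = c₁.j := by
    have := congrArg Over.Hom.left (equalizer.lift_ι j' hj')
    rw [Over.comp_left] at this
    exact this
  have : IsOpenImmersion (j ≫ ι) := by rw [hj]; infer_instance
  have : IsOpenImmersion j := isOpenImmersion_of_comp_mono j ι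
  have : IsProper (equalizer r' s').hom := by
    rw [← hι']
    infer_instance
  refine ⟨⟨(equalizer r' s').left, j, (equalizer r' s').hom, inferInstance, inferInstance, ?_⟩, ι,
    inferInstance, hj, hι', ?_⟩
  · rw [← hι', ← Category.assoc, hj, c₁.fac]
  · have := congrArg Over.Hom.left (equalizer.condition r' s')
    rw [Over.comp_left, Over.comp_left] at this
    exact this

end Groth.Agent.S8607
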