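import Groth.Statements.S8618
import Groth.Agent.R2.H38FrobTrace

set_option autoImplicit false
universe u
open SGA4h

namespace Groth.Agent.S8618

open TensorProduct in
/-- Let k be a finite field with q = p^f elements, F₀ ⊂ k its prime field, K an algebraically closed
extension of k, V a finite-dimensional k-vector space and φ a p-linear endomorphism of V (φ(λx) =
λ^p φ(x)); let F = φ^f, a k-linear endomorphism, F_K its K-linear extension to K ⊗_k V and φ_K the
p-linear extension of φ (φ_K(μ ⊗ v) = μ^p ⊗ φ(v)). Then F_K preserves the F₀-subspace W = Ker(φ_K -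
1) of K ⊗_k V, W is finite-dimensional over F₀, and the trace of F_K on W (an element of F₀) equals
the trace of F on V. -/
theorem result {p : ℕ} [Fact p.Prime] (k : Type u) [Field k] [Fintype k]
    [CharP k p] (f : ℕ) (hq : Fintype.card k = p ^ f) (K : Type u) [Field K] [Algebra k K] [IsAlgClosed K]
    (V : Type u) [AddCommGroup V] [Module k V] [FiniteDimensional k V]
    (φ : V →ₛₗ[frobenius k p] V) (F : V →ₗ[k] V) (hF : ∀ x, F x = (⇑φ)^[f] x)
    (φK : K ⊗[k] V →+ K ⊗[k] V) (hφK : ∀ (μ : K) (v : V), φK (μ ⊗ₜ[k] v) = (μ ^ p) ⊗ₜ[k] φ v)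
    (W : Submodule (↥(⊥ : Subfield k)) (K ⊗[k] V)) (hW : ∀ y, y ∈ W ↔ φK y = y) :
    (∀ y, φK y = y → φK (F.baseChange K y) = F.baseChange K y) ∧
    Module.Finite (↥(⊥ : Subfield k)) ↥W ∧
    ∀ (G : ↥W →ₗ[↥(⊥ : Subfield k)] ↥W), (∀ y : ↥W, (↑(G y) : K ⊗[k] V) = F.baseChange K ↑y) →
      algebraMap k K (algebraMap (↥(⊥ : Subfield k)) k (LinearMap.trace (↥(⊥ : Subfield k)) ↥W G)) =
        algebraMap k K (LinearMap.trace k V F) := by
  open Groth.Agent.R2.H38.FrobTrace in
  have : CharP K p := charP_of_injective_algebraMap (algebraMap k K).injective p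
  have : CharP (↥(⊥ : Subfield k)) p := charP_subfield p _
  have hsl := phiK_smul k K V φ φK hφK
  have hcomm := phiK_comm k f K V φ F hF φK hφK
  obtain ⟨hcompl, hind⟩ := Groth.Agent.S8604.result p K (K ⊗[k] V) φK hsl
  have hfix : ∀ y, φK y = y → φK (F.baseChange K y) = F.baseChange K y := by
    intro y hy
    rw [hcomm, hy]
  have hfin : Module.Finite (↥(⊥ : Subfield k)) ↥W :=
    finite_of_fixed (p := p) φK hind W (fun y hy => (hW y).1 hy)
  refine ⟨hfix, hfin, ?_⟩
  intro G hG
  -- a basis of `W`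
  obtain ⟨n, ⟨β⟩⟩ := exists_finBasis W hfin
  have hli : LinearIndependent K (fun i => ((β i : W) : K ⊗[k] V)) :=
    linearIndependent_of_fixed (p := p) φK hind W (fun y hy => (hW y).1 hy) β β.linearIndependent
  -- the two summands
  have hP : Submodule.span K {v : K ⊗[k] V | φK v = v} =
      Submodule.span K (Set.range fun i => ((β i : W) : K ⊗[k] V)) := by
    apply le_antisymm
    · rw [Submodule.span_le]
      intro v hv
      have hvW : v ∈ W := (hW v).2 hv
      have hsum := β.sum_repr ⟨v, hvW⟩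
      have hv' : v = ∑ i, (β.repr ⟨v, hvW⟩ i) • ((β i : W) : K ⊗[k] V) := by
        have := congrArg (fun w : W => (w : K ⊗[k] V)) hsum
        simp only [Submodule.coe_sum, Submodule.coe_smul] at this
        exact this.symm
      rw [hv']
      refine Submodule.sum_mem _ fun i _ => ?_
      rw [← algebraMap_smul K]
      exact Submodule.smul_mem _ _ (Submodule.subset_span ⟨i, rfl⟩)
    · apply Submodule.span_mono
      rintro _ ⟨i, rfl⟩
      exact (hW _).1 (β i).2
  have hTP : ∀ x ∈ Submodule.span K {v : K ⊗[k] V | φK v = v},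
      F.baseChange K x ∈ Submodule.span K {v : K ⊗[k] V | φK v = v} := by
    intro x hx
    induction hx using Submodule.span_induction with
    | mem v hv => exact Submodule.subset_span (hfix v hv)
    | zero => simp
    | add y z _ _ hy hz => rw [map_add]; exact add_mem hy hz
    | smul c y _ hy => rw [map_smul]; exact Submodule.smul_mem _ _ hy
  have hTN : ∀ x ∈ Submodule.span K {v : K ⊗[k] V | ∃ m : ℕ, (⇑φK)^[m] v = 0},
      F.baseChange K x ∈ Submodule.span K {v : K ⊗[k] V | ∃ m : ℕ, (⇑φK)^[m] v = 0} := by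
    intro x hx
    induction hx using Submodule.span_induction with
    | mem v hv =>
      obtain ⟨m, hm⟩ := hv
      refine Submodule.subset_span ⟨m, ?_⟩
      have hc : Function.Commute (⇑φK) (⇑(F.baseChange K)) := fun y => hcomm y
      rw [(hc.iterate_left m) v, hm, map_zero]
    | zero => simp
    | add y z _ _ hy hz => rw [map_add]; exact add_mem hy hz
    | smul c y _ hy => rw [map_smul]; exact Submodule.smul_mem _ _ hy
  have htr := trace_eq_add_of_isCompl (F.baseChange K) _ _ hcompl hTP hTN
  have h1 := trace_restrict_span_eq W β hli (F.baseChange K) G hG _ hP hTP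
  have h2 : LinearMap.trace K
      ↥(Submodule.span K {v : K ⊗[k] V | ∃ m : ℕ, (⇑φK)^[m] v = 0})
      ((F.baseChange K).restrict hTN) = 0 := by
    refine trace_eq_zero_of_isNilpotent (K := K)
      (U := ↥(Submodule.span K {v : K ⊗[k] V | ∃ m : ℕ, (⇑φK)^[m] v = 0}))
      ((F.baseChange K).restrict hTN) ?_
    rw [Module.End.isNilpotent_iff_of_finite]
    rintro ⟨y, hy⟩
    obtain ⟨m, hm⟩ := exists_pow_eq_zero_of_mem_span k f hq K V φ F hF φK hφK y hy
    refine ⟨m, ?_⟩
    rw [Module.End.pow_restrict]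
    exact Subtype.ext hm
  rw [← LinearMap.trace_baseChange, htr, h1, h2, add_zero,
    ← IsScalarTower.algebraMap_apply (↥(⊥ : Subfield k)) k K]

end Groth.Agent.S8618
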