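import Groth.Statements.S8691
import Groth.Agent.R2.H39LamRankC
-- import your own Groth.Agent.* helpers here

set_option autoImplicit false
universe u
open Finset
open LambdaRing

namespace Groth.Agent.S8691

open Groth.Agent.R2.H39.LamGP Groth.Agent.R2.H39.LamRank in
theorem dvd_lam_of_dvd_gamma {K : Type u} [CommRing K] [LambdaRing.LambdaOps K] (g z : K)
    (h : ∀ k, g ∣ LambdaRing.gamma (k + 1) z) : ∀ q, g ∣ LambdaRing.LambdaOps.lam (q + 1) z := by
  intro q
  induction q using Nat.strong_induction_on with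
  | _ q ih =>
    have h1 := gamma_succ q z
    rw [Finset.sum_range_succ, Nat.choose_self, Nat.cast_one, one_mul] at h1
    have h2 : LambdaRing.LambdaOps.lam (q + 1) z = LambdaRing.gamma (q + 1) z -
        ∑ j ∈ range q, (Nat.choose q j : K) * LambdaRing.LambdaOps.lam (j + 1) z := by
      rw [h1]; ring
    rw [h2]
    exact dvd_sub (h q) (Finset.dvd_sum fun j hj => Dvd.dvd.mul_left (ih j (mem_range.mp hj)) _)

/-- Let K be a λ-ring in the strict sense, d a natural number and N ∈ K with λ^i(N) = 0 for every i > d;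
put λ_{−1}(N) = Σ_{i=0}^{d} (−1)^i λ^i(N). Then for every p ≥ 1 and every x ∈ K the element λ^p(x ·
λ_{−1}(N)) is divisible by λ_{−1}(N). (The published statement is for the λ-ring generated over the
integers by N and x subject to λ^i(N) = 0 for i > d, a polynomial ring; the divisibility passes to
any λ-ring along the λ-homomorphism sending the generators to N and x, which is the substituted form
stated here.) The hypotheses hP and hQ, existence of the universal polynomials, are true statements
carried so that the identities of K can be used at every index. -/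
theorem result (K : Type u) [CommRing K] [LambdaRing.LambdaOps K]
    (hK : LambdaRing.IsSpecial K)
    (hP : ∀ n : ℕ, ∃ P : MvPolynomial (Fin n ⊕ Fin n) ℤ, LambdaRing.IsMulPoly n P)
    (hQ : ∀ i j : ℕ, ∃ Q : MvPolynomial (Fin (i * j)) ℤ, LambdaRing.IsCompPoly i j Q)
    (d : ℕ) (N : K) (hN : ∀ i : ℕ, d < i → LambdaRing.LambdaOps.lam i N = 0)
    (p : ℕ) (hp : 1 ≤ p) (x : K) :
    (∑ i ∈ range (d + 1), (-1 : K) ^ i * LambdaRing.LambdaOps.lam i N) ∣
      LambdaRing.LambdaOps.lam p (x * ∑ i ∈ range (d + 1), (-1 : K) ^ i * LambdaRing.LambdaOps.lam i N) := by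
  open Groth.Agent.R2.H39.LamGP Groth.Agent.R2.H39.LamRank in
  rcases d with _ | e
  · have : (∑ i ∈ range (0 + 1), (-1 : K) ^ i * LambdaRing.LambdaOps.lam i N) = 1 := by
      simp [LambdaRing.LambdaOps.lam_zero]
    rw [this]
    exact one_dvd _
  · set w := ∑ i ∈ range (e + 1 + 1), (-1 : K) ^ i * LambdaRing.LambdaOps.lam i N with hw
    set u := N - ((e + 1 : ℕ) : K) with hu
    have hg : LambdaRing.gamma (e + 1) u = (-1 : K) ^ (e + 1) * w :=
      gamma_sub_natCast_top hK (e + 1) N hN
    have hrank : ∀ k, e + 1 ≤ k → LambdaRing.gamma (k + 1) u = 0 := fun k hk =>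
      gamma_sub_natCast_eq_zero hK (e + 1) N hN (k + 1) (by omega)
    have hsq : ((-1 : K) ^ (e + 1)) * ((-1 : K) ^ (e + 1)) = 1 := by
      rw [← mul_pow]; simp
    have hw2 : w = (-1 : K) ^ (e + 1) * LambdaRing.gamma (e + 1) u := by
      rw [hg, ← mul_assoc, hsq, one_mul]
    have hdvd : w ∣ LambdaRing.gamma (e + 1) u := ⟨(-1 : K) ^ (e + 1), by rw [hg]; ring⟩
    obtain ⟨q, rfl⟩ : ∃ q, p = q + 1 := ⟨p - 1, by omega⟩
    have hxw : x * w = (x * (-1 : K) ^ (e + 1)) * LambdaRing.gamma (e + 1) u := by
      rw [hw2]; ring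
    rw [hxw]
    apply hdvd.trans
    apply dvd_lam_of_dvd_gamma
    intro k
    rw [gamma_mul_gamma_eq hK e k _ u hrank]
    exact dvd_mul_right _ _

end Groth.Agent.S8691
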