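import Groth.Statements.S8695
import Groth.Agent.R2.H39LamRankE
-- import your own Groth.Agent.* helpers here

set_option autoImplicit false
universe u v
open Finset nonZeroDivisors
open LambdaRing

namespace Groth.Agent.S8695

open Groth.Agent.R2.H39.LamGP Groth.Agent.R2.H39.LamRank Groth.Agent.R2.H39.LamAdams in
/-- the set-up common to the statements on `λ_{-1}(N)`: the element `u = N - d` has augmentation zero and
rank `≤ d`, and `γ^d u = (-1)^d λ_{-1}(N)` -/
theorem setup {K : Type u} [CommRing K] [LambdaRing.LambdaOps K]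
    {A : Type v} [CommRing A] [LambdaRing.LambdaOps A] [Algebra K A] (hA : LambdaRing.IsSpecial A)
    (ε : A →ₐ[K] K) (e : ℕ) (N : A)
    (hN : ∀ k : ℕ, e + 1 < k → LambdaRing.LambdaOps.lam k N = 0) (hNε : ε N = ((e + 1 : ℕ) : K)) :
    ε (N - ((e + 1 : ℕ) : A)) = 0 ∧
    (∀ k, e + 1 ≤ k → LambdaRing.gamma (k + 1) (N - ((e + 1 : ℕ) : A)) = 0) ∧
    LambdaRing.gamma (e + 1) (N - ((e + 1 : ℕ) : A)) = (-1 : A) ^ (e + 1) *
      ∑ j ∈ range (e + 1 + 1), (-1 : A) ^ j * LambdaRing.LambdaOps.lam j N := by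
  refine ⟨?_, ?_, ?_⟩
  · rw [map_sub, hNε, map_natCast, sub_self]
  · intro k hk
    exact gamma_sub_natCast_eq_zero hA (e + 1) N hN (k + 1) (by omega)
  · exact gamma_sub_natCast_top hA (e + 1) N hN

open Groth.Agent.R2.H39.LamAdams in
theorem cc_cast {A : Type v} [CommRing A] (m : ℕ) :
    ((cc (m + 1) : ℤ) : A) = (-1 : A) ^ m * ((m.factorial : ℕ) : A) := by
  unfold cc
  simp

theorem neg_one_pow_sq {A : Type v} [CommRing A] (m : ℕ) : ((-1 : A) ^ m) * ((-1 : A) ^ m) = 1 := by
  rw [← mul_pow]; simp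

/-- In the case where λ_{−1}(N) is a non-zero-divisor: let K be a binomial ring with its binomial
λ-structure, A a λ-ring in the strict sense which is an augmented K-λ-algebra with augmentation ε,
and Fil^n A the γ-filtration (the ideal generated by products of γ^{i}(z) with ε(z) = 0 of total
weight ≥ n; all of A for n = 0). Let d ≥ 1 and N ∈ A be of rank d, that is λ^k(N) = 0 for all k > d
and ε(N) = d; put λ_{−1}(N) = Σ_{i ≤ d} (−1)^i λ^i(N), and suppose λ_{−1}(N) is a non-zero-divisor.
Then for p ≥ 1 and x ∈ A, the unique y with y · λ_{−1}(N) = γ^p(x · λ_{−1}(N)) — when it exists —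
lies in Fil^{p−d} A. (The published statement is γ^p(N, x) ∈ Fil^{p−d} A for the element γ^p(N, x)
defined by substitution from the universal λ-ring, where it is characterised by γ^p(N, x) ·
λ_{−1}(N) = γ^p(x · λ_{−1}(N)); this row covers the case in which that identity determines the
element, λ_{−1}(N) being a non-zero-divisor. The published statement also omits the condition ε(N) =
d, which its proof uses when it maps the universal generator to N − d compatibly with the
augmentations; without it N = 0, d = 1, x = 1, p = 2 in the integers gives γ^2(1) = 1 outside Fil^1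
= 0, so ε(N) = d is assumed here, as is the standing assumption d ≥ 1.) The hypotheses hP and hQ,
existence of the universal polynomials, are true statements carried so that the identities of A can
be used at every index. -/
theorem result
    (K : Type u) [CommRing K] [LambdaRing.LambdaOps K] [BinomialRing K] (hKb : LambdaRing.IsBinomial K)
    (hK : LambdaRing.IsSpecial K)
    (A : Type v) [CommRing A] [LambdaRing.LambdaOps A] [Algebra K A] (hA : LambdaRing.IsSpecial A)
    (hP : ∀ n : ℕ, ∃ P : MvPolynomial (Fin n ⊕ Fin n) ℤ, LambdaRing.IsMulPoly n P)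
    (hQ : ∀ i j : ℕ, ∃ Q : MvPolynomial (Fin (i * j)) ℤ, LambdaRing.IsCompPoly i j Q)
    (ε : A →ₐ[K] K) (hε : LambdaRing.IsAugLambdaAlg K A ε)
    (d : ℕ) (hd : 1 ≤ d) (N : A) (hN : ∀ k : ℕ, d < k → LambdaRing.LambdaOps.lam k N = 0) (hNε : ε N = (d : K))
    (hnzd : (∑ j ∈ range (d + 1), (-1 : A) ^ j * LambdaRing.LambdaOps.lam j N) ∈ A⁰)
    (p : ℕ) (hp : 1 ≤ p) (x y : A)
    (hy : y * (∑ j ∈ range (d + 1), (-1 : A) ^ j * LambdaRing.LambdaOps.lam j N) = LambdaRing.gamma p (x * (∑ j ∈ range (d + 1), (-1 : A) ^ j * LambdaRing.LambdaOps.lam j N))) :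
    y ∈ LambdaRing.gammaFil (ε : A →+* K) (p - d) := by
  open Groth.Agent.R2.H39.LamGP Groth.Agent.R2.H39.LamRank Groth.Agent.R2.H39.LamAdams in
  obtain ⟨e, rfl⟩ : ∃ e, d = e + 1 := ⟨d - 1, by omega⟩
  obtain ⟨q, rfl⟩ : ∃ q, p = q + 1 := ⟨p - 1, by omega⟩
  obtain ⟨hu0, hrank, hg⟩ := setup hA ε e N hN hNε
  set w := ∑ j ∈ range (e + 1 + 1), (-1 : A) ^ j * LambdaRing.LambdaOps.lam j N with hw
  set u := N - ((e + 1 : ℕ) : A) with hu
  set s := (-1 : A) ^ (e + 1) with hs
  have hss : s * s = 1 := neg_one_pow_sq (e + 1)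
  have hw2 : w = s * LambdaRing.gamma (e + 1) u := by rw [hg, ← mul_assoc, hss, one_mul]
  obtain ⟨W, hW1, hW2, -⟩ := exists_div hKb hA ε hε e u hu0 hrank (x * s) q
  have hxw : x * w = (x * s) * LambdaRing.gamma (e + 1) u := by rw [hw2]; ring
  rw [hxw, hW1, hg] at hy
  have hy2 : y * w = (s * W) * w := by rw [hy]; ring
  have hyW : y = s * W := (mul_cancel_right_mem_nonZeroDivisors hnzd).mp hy2
  rw [hyW]
  exact Ideal.mul_mem_left _ _ hW2

end Groth.Agent.S8695
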