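import Groth.Statements.S8696
import Groth.Agent.R2.H39LamRankE
-- import your own Groth.Agent.* helpers here

set_option autoImplicit false
universe u v
open Finset nonZeroDivisors
open LambdaRing

namespace Groth.Agent.S8696

open Groth.Agent.R2.H39.LamGP Groth.Agent.R2.H39.LamRank Groth.Agent.R2.H39.LamAdams in
/-- the set-up common to the statements on `λ_{-1}(N)`: the element `u = N - d` has augmentation zero and
rank `≤ d`, and `γ^d u = (-1)^d λ_{-1}(N)` -/
theorem setup {K : Type u} [CommRing K] [LambdaRing.LambdaOps K]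
    {A : Type v} [CommRing A] [LambdaRing.LambdaOps A] [Algebra K A] (hA : LambdaRing.IsSpecial A)
    (ε : A →ₐ[K] K) (e : ℕ) (N : A)
    (hN : ∀ k : ℕ, e + 1 < k → LambdaRing.LambdaOps.lam k N = 0) (hNε : ε N = ((e + 1 : ℕ) : K)) :
    ε (N - ((e + 1 : ℕ) : A)) = 0 ∧
    (∀ k, e + 1 ≤ k → LambdaRing.gamma (k + 1) (N - ((e + 1 : ℕ) : A)) = 0) ∧
    LambdaRing.gamma (e + 1) (N - ((e + 1 : ℕ) : A)) = (-1 : A) ^ (e + 1) *
      ∑ j ∈ range (e + 1 + 1), (-1 : A) ^ j * LambdaRing.LambdaOps.lam j N := by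
  refine ⟨?_, ?_, ?_⟩
  · rw [map_sub, hNε, map_natCast, sub_self]
  · intro k hk
    exact gamma_sub_natCast_eq_zero hA (e + 1) N hN (k + 1) (by omega)
  · exact gamma_sub_natCast_top hA (e + 1) N hN

open Groth.Agent.R2.H39.LamAdams in
theorem cc_cast {A : Type v} [CommRing A] (m : ℕ) :
    ((cc (m + 1) : ℤ) : A) = (-1 : A) ^ m * ((m.factorial : ℕ) : A) := by
  unfold cc
  simp

theorem neg_one_pow_sq {A : Type v} [CommRing A] (m : ℕ) : ((-1 : A) ^ m) * ((-1 : A) ^ m) = 1 := by
  rw [← mul_pow]; simp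

/-- In the case where λ_{−1}(N) is a non-zero-divisor: let K be a binomial ring with its binomial
λ-structure, R a λ-ring in the strict sense which is an augmented K-λ-algebra with augmentation ε
and γ-filtration Fil^n R, d ≥ 1, N ∈ R of rank d (λ^k(N) = 0 for all k > d and ε(N) = d), λ_{−1}(N)
= Σ_{i ≤ d} (−1)^i λ^i(N) a non-zero-divisor, i a natural number and x ∈ Fil^i R. If y ∈ R satisfies
y · λ_{−1}(N) = γ^{d+i}(x · λ_{−1}(N)), then y − (−1)^{d+i−1} (d+i−1)! · x ∈ Fil^{i+1} R. (The
published statement is about the element γ^{d+i}(N, x) defined by substitution from the universal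
λ-ring, characterised there by γ^{q}(N, x) · λ_{−1}(N) = γ^{q}(x · λ_{−1}(N)); this row covers the
case in which that identity determines the element. The published statement also omits ε(N) = d,
which its proof uses when it maps the universal generator to N − d compatibly with the
augmentations; it is assumed here, together with the standing assumption d ≥ 1.) The hypotheses hP
and hQ, existence of the universal polynomials, are true statements carried so that the identities
of R can be used at every index. -/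
theorem result
    (K : Type u) [CommRing K] [LambdaRing.LambdaOps K] [BinomialRing K] (hKb : LambdaRing.IsBinomial K)
    (hK : LambdaRing.IsSpecial K)
    (A : Type v) [CommRing A] [LambdaRing.LambdaOps A] [Algebra K A] (hA : LambdaRing.IsSpecial A)
    (hP : ∀ n : ℕ, ∃ P : MvPolynomial (Fin n ⊕ Fin n) ℤ, LambdaRing.IsMulPoly n P)
    (hQ : ∀ i j : ℕ, ∃ Q : MvPolynomial (Fin (i * j)) ℤ, LambdaRing.IsCompPoly i j Q)
    (ε : A →ₐ[K] K) (hε : LambdaRing.IsAugLambdaAlg K A ε)
    (d : ℕ) (hd : 1 ≤ d) (N : A) (hN : ∀ k : ℕ, d < k → LambdaRing.LambdaOps.lam k N = 0) (hNε : ε N = (d : K))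
    (hnzd : (∑ j ∈ range (d + 1), (-1 : A) ^ j * LambdaRing.LambdaOps.lam j N) ∈ A⁰)
    (i : ℕ) (x : A) (hx : x ∈ LambdaRing.gammaFil (ε : A →+* K) i) (y : A)
    (hy : y * (∑ j ∈ range (d + 1), (-1 : A) ^ j * LambdaRing.LambdaOps.lam j N) = LambdaRing.gamma (d + i) (x * (∑ j ∈ range (d + 1), (-1 : A) ^ j * LambdaRing.LambdaOps.lam j N))) :
    y - (-1 : A) ^ (d + i - 1) * ((d + i - 1).factorial : A) * x ∈ LambdaRing.gammaFil (ε : A →+* K) (i + 1) := by
  open Groth.Agent.R2.H39.LamGP Groth.Agent.R2.H39.LamRank Groth.Agent.R2.H39.LamAdams in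
  obtain ⟨e, rfl⟩ : ∃ e, d = e + 1 := ⟨d - 1, by omega⟩
  obtain ⟨hu0, hrank, hg⟩ := setup hA ε e N hN hNε
  set w := ∑ j ∈ range (e + 1 + 1), (-1 : A) ^ j * LambdaRing.LambdaOps.lam j N with hw
  set u := N - ((e + 1 : ℕ) : A) with hu
  set s := (-1 : A) ^ (e + 1) with hs
  have hss : s * s = 1 := neg_one_pow_sq (e + 1)
  have hw2 : w = s * LambdaRing.gamma (e + 1) u := by rw [hg, ← mul_assoc, hss, one_mul]
  have hxw : x * w = (x * s) * LambdaRing.gamma (e + 1) u := by rw [hw2]; ring
  have hxs : x = (x * s) * s := by rw [mul_assoc, hss, mul_one]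
  rcases i with _ | j
  · obtain ⟨W, hW1, -, hW3⟩ := exists_div hKb hA ε hε e u hu0 hrank (x * s) e
    have hW3' := hW3 rfl
    rw [add_zero, hxw, hW1, hg] at hy
    have hy2 : y * w = (s * W) * w := by rw [hy]; ring
    have hyW : y = s * W := (mul_cancel_right_mem_nonZeroDivisors hnzd).mp hy2
    have key : y - (-1 : A) ^ (e + 1 + 0 - 1) * ((e + 1 + 0 - 1).factorial : A) * x =
        s * (W - ((cc (e + 1) : ℤ) : A) * (x * s)) := by
      rw [hyW, cc_cast]
      conv_lhs => rw [hxs]
      simp only [add_zero, Nat.add_sub_cancel]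
      ring
    rw [key]
    exact Ideal.mul_mem_left _ _ hW3'
  · have hxs' : x * s ∈ LambdaRing.gammaFil (ε : A →+* K) (j + 1) := Ideal.mul_mem_right _ _ hx
    obtain ⟨W, hW1, hW3⟩ := div_lead hKb hA ε hε e u hu0 hrank j (x * s) hxs'
    rw [show e + 1 + (j + 1) = e + 1 + j + 1 from rfl, hxw, hW1, hg] at hy
    have hy2 : y * w = (s * W) * w := by rw [hy]; ring
    have hyW : y = s * W := (mul_cancel_right_mem_nonZeroDivisors hnzd).mp hy2
    have key : y - (-1 : A) ^ (e + 1 + (j + 1) - 1) * ((e + 1 + (j + 1) - 1).factorial : A) * x =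
        s * (W - ((cc (e + 1 + j + 1) : ℤ) : A) * (x * s)) := by
      rw [hyW, cc_cast]
      conv_lhs => rw [hxs]
      have : e + 1 + (j + 1) - 1 = e + 1 + j := rfl
      rw [this]
      ring
    rw [key]
    exact Ideal.mul_mem_left _ _ hW3

end Groth.Agent.S8696
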