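import Groth.Statements.S8716
import Groth.Agent.R2.H71ExtDesc
import Groth.Agent.R2.H71ExtCentral
import Groth.Agent.R2.H71ConstRigid

set_option autoImplicit false
universe u
open CategoryTheory CategoryTheory.Limits MonoidalCategory CartesianMonoidalCategory MonObj AlgebraicGeometry
open SGA7

namespace Groth.Agent.S8716

/-- Let k be a field, Z a commutative group without non-trivial elements of finite order, P a
commutative k-group scheme of finite type (so that its group of connected components is a finite,
hence torsion, group), G the constant k-group scheme Z_k (through the isomorphism eG), and u : G →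
E, v : E → P homomorphisms of commutative k-group schemes forming a sequence 1 → G → E → P → 1 exact
for the fppf topology. Then the extension is rigid: every automorphism of the k-group scheme E
compatible with u and v is the identity. (The published statement assumes only P locally of finite
type with torsion component group; this row takes P of finite type, the case it names.) -/
theorem result (k : Type u) [Field k]
    (Z : Type u) [CommGroup Z] (hZ : ∀ z : Z, IsOfFinOrder z → z = 1)
    (P E G : Over (Spec (CommRingCat.of k))) [GrpObj P] [GrpObj E] [GrpObj G]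
    [IsCommMonObj P] [IsCommMonObj E]
    [LocallyOfFiniteType P.hom] [QuasiCompact P.hom]
    (eG : G ≅ TwC.const (Spec (CommRingCat.of k)) Z) (hG : TwC.IsConstGrp Z G eG)
    (u : G ⟶ E) (v : E ⟶ P) (hex : NonAbH1.IsExactSeq Scheme.fppfPrecoverage u v)
    (φ : E ≅ E) [IsMonHom φ.hom] (hφu : u ≫ φ.hom = u) (hφv : φ.hom ≫ v = v) :
    φ.hom = 𝟙 E := by
  open Groth.Agent.R2.H71 in
  obtain ⟨hu, hv, huv, hpb, hloc⟩ := hex
  have hext : ExtCentral.Ext u v := ⟨hu, hv, huv, hpb⟩
  have hsec := ExtDesc.hasLocSec_of_fppf v hloc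
  -- step 1: φ = 𝟙 * (d ≫ u)
  obtain ⟨d, hd⟩ := hext.exists_of_eq (𝟙 E) φ.hom (by rw [hφv, Category.id_comp])
  have hdpt : ∀ {W : Over (Spec (CommRingCat.of k))} (x : W ⟶ E),
      x ≫ φ.hom = x * ((x ≫ d) ≫ u) := by
    intro W x
    rw [hd, comp_mul, Category.comp_id, Category.assoc]
  -- step 2: d is multiplicative on points
  have hmul : ∀ {W : Over (Spec (CommRingCat.of k))} (x y : W ⟶ E),
      (x * y) ≫ d = (x ≫ d) * (y ≫ d) := by
    intro W x y
    apply hext.u_inj
    have h1 : (x * y) ≫ φ.hom = (x ≫ φ.hom) * (y ≫ φ.hom) := mul_comp x y φ.hom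
    rw [hdpt, hdpt x, hdpt y] at h1
    rw [mul_comp (x ≫ d) (y ≫ d) u]
    have h2 : x * ((x ≫ d) ≫ u) * (y * ((y ≫ d) ≫ u)) =
        (x * y) * (((x ≫ d) ≫ u) * ((y ≫ d) ≫ u)) := by
      rw [_root_.mul_mul_mul_comm]
    rw [h2] at h1
    exact mul_left_cancel h1
  -- step 3: d kills u(G)
  have hkill : ∀ {W : Over (Spec (CommRingCat.of k))} (g : W ⟶ G), (g ≫ u) ≫ d = 1 := by
    intro W g
    apply hext.u_inj
    have h1 := hdpt (g ≫ u)
    rw [Category.assoc, hφu] at h1
    rw [one_comp]
    exact (mul_eq_left.mp h1.symm)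
  -- step 4: descent to P
  obtain ⟨dbar, hdbar, -⟩ := ExtDesc.existsUnique_desc v hsec d (by
    intro W x₁ x₂ h12
    obtain ⟨g, hg⟩ := hext.exists_of_eq x₁ x₂ h12
    rw [hg, hmul, hkill, _root_.mul_one])
  -- finiteness
  have : CompactSpace P.left := QuasiCompact.compactSpace_of_compactSpace P.hom
  have hfin : (ConstRigid.metSet eG d).Finite := by
    rw [← hdbar]
    exact (ConstRigid.metSet_finite_of_compact dbar).subset (ConstRigid.metSet_comp_subset v dbar)
  have hd1 : d = 1 := ConstRigid.eq_one_of_finite hG hZ d hmul hfin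
  rw [hd, hd1, one_comp, _root_.mul_one]

end Groth.Agent.S8716
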