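import Groth.Statements.S8718
import Groth.Agent.R2.H71ExtDesc
import Groth.Agent.R2.H71ExtCentral

set_option autoImplicit false
universe u
open CategoryTheory CategoryTheory.Limits MonoidalCategory CartesianMonoidalCategory MonObj AlgebraicGeometry
open SGA7

namespace Groth.Agent.S8718

/-- For group schemes over a base scheme S (the representable case on the fppf site): let P and G be
S-group schemes with G commutative, and u : G → E, v : E → P homomorphisms of S-group schemes
forming a sequence 1 → G → E → P → 1 exact for the fppf topology. Suppose every morphism of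
S-schemes P ×_S G → G whose restrictions to P × e_G and to e_P × G are trivial is trivial. Then u(G)
is central in E: for all points g of G and x of E with values in any S-scheme, u(g) x = x u(g). If
moreover P is commutative and every morphism of S-schemes P ×_S P → G trivial on P × e_P and on e_P
× P is trivial, then E is commutative. (The published statement is for sheaves of groups on an
arbitrary topos; this row is its case of representable sheaves on the fppf site of S. Morphisms to G
form a group; trivial means equal to its unit.) -/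
theorem result (S : Scheme.{u})
    (P G E : Over S) [GrpObj P] [GrpObj G] [GrpObj E] [IsCommMonObj G]
    (u : G ⟶ E) (v : E ⟶ P) (hex : NonAbH1.IsExactSeq Scheme.fppfPrecoverage u v)
    (hPG : ∀ f : P ⊗ G ⟶ G, lift (𝟙 P) (toUnit P ≫ η[G]) ≫ f = 1 → lift (toUnit G ≫ η[P]) (𝟙 G) ≫ f = 1 → f = 1) :
    (∀ (T : Over S) (g : T ⟶ G) (x : T ⟶ E), (g ≫ u) * x = x * (g ≫ u)) ∧
      (IsCommMonObj P →
        (∀ f : P ⊗ P ⟶ G, lift (𝟙 P) (toUnit P ≫ η[P]) ≫ f = 1 → lift (toUnit P ≫ η[P]) (𝟙 P) ≫ f = 1 → f = 1) →
          IsCommMonObj E) := by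
  open Groth.Agent.R2.H71 in
  obtain ⟨hu, hv, huv, hpb, hloc⟩ := hex
  have hext : ExtCentral.Ext u v := ⟨hu, hv, huv, hpb⟩
  have hsec := ExtDesc.hasLocSec_of_fppf v hloc
  have hepi : Epi v := ExtDesc.epi_of_hasLocSec v hsec
  have hcentral : ∀ {T : Over S} (g : T ⟶ G) (x : T ⟶ E), (g ≫ u) * x = x * (g ≫ u) := by
    intro T g x
    exact hext.central hepi (fun m hm => ExtDesc.exists_desc_whiskerRight v hsec m hm) hPG g x
  refine ⟨fun T g x => hcentral g x, ?_⟩
  intro hP hPP
  have := hP
  exact hext.comm hepi hcentral
    (fun m hm => ExtDesc.exists_desc_whiskerRight v hsec m hm)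
    (fun m hm => ExtDesc.exists_desc_whiskerLeft v hsec m hm)
    (ExtDesc.epi_of_hasLocSec _ (hsec.whiskerRight _)) hPP

end Groth.Agent.S8718
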