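import Groth.Statements.S8738
import Mathlib
import Groth.Agent.R2.H94Seidenberg

set_option autoImplicit false
universe u
open SGA7II

namespace Groth.Agent.S8738

/-- Let k be a field of characteristic zero and A a reduced Noetherian local k-algebra of Krull
dimension one, essentially of finite type over k (the local ring of a reduced curve over k at one of
its points), and let A' be the integral closure of A in its total ring of fractions (the
normalization). Then every k-derivation D of A extends to a k-derivation D' of A', i.e. D' agrees
with D on the image of A. -/
theorem result (k : Type u) [Field k] [CharZero k] (A : Type u) [CommRing A]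
    [Algebra k A] [IsReduced A] [IsNoetherianRing A] [IsLocalRing A] [Algebra.EssFiniteType k A]
    (hdim : ringKrullDim A = 1) (D : Derivation k A A) :
    ∃ D' : Derivation k ↥(integralClosure A (FractionRing A)) ↥(integralClosure A (FractionRing A)),
      ∀ a : A, (D' (algebraMap A ↥(integralClosure A (FractionRing A)) a) : FractionRing A) =
        algebraMap A (FractionRing A) (D a) := by
  classical
  set Q := FractionRing A with hQ
  set A' := integralClosure A Q with hA'
  let DQ : Derivation k Q Q := Groth.Agent.R2.H94.Seidenberg.extendD D
  have hmem : ∀ x : A', DQ (x : Q) ∈ A' := fun x =>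
    Groth.Agent.R2.H94.Seidenberg.isIntegral_extendD D (x : Q) x.2
  let L : A' →ₗ[k] A' :=
    { toFun := fun x => ⟨DQ (x : Q), hmem x⟩
      map_add' := fun x y => Subtype.ext (by simp)
      map_smul' := fun c x => Subtype.ext (by simp) }
  refine ⟨Derivation.mk' L (fun x y => Subtype.ext ?_), fun a => ?_⟩
  · change DQ ((x : Q) * (y : Q)) = ((x • (L y) + y • (L x) : A') : Q)
    rw [Derivation.leibniz]
    rfl
  · change DQ (algebraMap A Q a) = _
    exact Groth.Agent.R2.H94.Seidenberg.extendD_algebraMap D a

end Groth.Agent.S8738
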