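import Groth.Statements.S8757
import Groth.Agent.R2.H80AdeqBigPull

set_option autoImplicit false
universe u
open CategoryTheory Limits AlgebraicGeometry
open Adeq

namespace Groth.Agent.S8757

/-- The pullback `f^* M` of an adequate `O`-module `M` on the big fppf site of `S` along a morphism of
schemes `f : T → S` is an adequate `O`-module on the big fppf site of `T`. -/
theorem result {S T : Scheme.{u}} (f : T ⟶ S) (M : BigSite.Mod Scheme.fppfPrecoverage S)
    (hM : Adeq.adequateMod Scheme.fppfPrecoverage S M) :
    Adeq.adequateMod Scheme.fppfPrecoverage T ((BigSite.pullMod Scheme.fppfPrecoverage f).obj M) := by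
  refine ⟨T.affineOpenCover.I₀, T.affineOpenCover.X, T.affineOpenCover.f, ?_, fun i => ?_⟩
  · change Presieve.ofArrows _ _ ∈
      (Scheme.precoverage (@Flat ⊓ @LocallyOfFinitePresentation)).coverings T
    rw [Scheme.ofArrows_mem_precoverage_iff]
    refine ⟨fun x => ⟨T.affineOpenCover.idx x, T.affineOpenCover.covers x⟩, fun i => ?_⟩
    have : IsOpenImmersion (T.affineOpenCover.f i) := T.affineOpenCover.map_prop i
    exact ⟨inferInstance, inferInstance⟩
  · rw [Groth.Agent.R2.H80.AdeqBigPull.adequate_pull_iff]
    exact Groth.Agent.S8755.result S M hM _ _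

end Groth.Agent.S8757
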