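import Groth.Statements.S8762
import Groth.Agent.R2.H80AdeqBigColim
import Groth.Agent.S8743

set_option autoImplicit false
universe u
open CategoryTheory Limits AlgebraicGeometry
open Adeq

namespace Groth.Agent.S8762

/-- The cokernel, in the category of all `O`-modules on the big fppf site of `S`, of a morphism between
adequate `O`-modules is adequate. -/
theorem result (S : Scheme.{u}) {M N : BigSite.Mod Scheme.fppfPrecoverage S} (φ : M ⟶ N)
    (hM : Adeq.adequateMod Scheme.fppfPrecoverage S M) (hN : Adeq.adequateMod Scheme.fppfPrecoverage S N) :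
    Adeq.adequateMod Scheme.fppfPrecoverage S (cokernel φ) := by
  refine Groth.Agent.R2.H80.AdeqBigColim.adequateMod_colimit (parallelPair φ 0) (fun R a => ?_)
  let F' := (parallelPair φ 0 ⋙ Groth.Agent.R2.H80.AdeqBigColim.Gsh S) ⋙
    Adeq.toMVFPre Scheme.fppfPrecoverage a
  let ψ : (Adeq.toMVF Scheme.fppfPrecoverage a).obj M ⟶ (Adeq.toMVF Scheme.fppfPrecoverage a).obj N :=
    (Adeq.toMVF Scheme.fppfPrecoverage a).map φ
  have hr : F'.map WalkingParallelPairHom.right = 0 := by
    change (Adeq.toMVFPre Scheme.fppfPrecoverage a).map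
      ((Groth.Agent.R2.H80.AdeqBigColim.Gsh S).map 0) = 0
    rw [Functor.map_zero, Functor.map_zero]
  have e : F' ≅ parallelPair ψ 0 :=
    parallelPair.ext (Iso.refl _) (Iso.refl _)
      ((Category.comp_id _).trans (Category.id_comp ψ).symm)
      ((Category.comp_id _).trans (hr.trans (Category.id_comp
        (0 : (Adeq.toMVF Scheme.fppfPrecoverage a).obj M ⟶
          (Adeq.toMVF Scheme.fppfPrecoverage a).obj N)).symm))
  exact (Adeq.adequate R).prop_of_iso (HasColimit.isoOfNatIso e).symm
    (Groth.Agent.S8743.result R ψ (Groth.Agent.S8755.result S M hM R a)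
      (Groth.Agent.S8755.result S N hN R a))

end Groth.Agent.S8762
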