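import Groth.Statements.S8763
import Groth.Agent.R2.H80AdeqBigExt
import Groth.Agent.R2.H80AdeqExt2

set_option autoImplicit false
universe u
open CategoryTheory Limits AlgebraicGeometry
open Adeq

namespace Groth.Agent.S8763

/-- If `0 → M₁ → M₂ → M₃ → 0` is a short exact sequence of `O`-modules on the big fppf site of `S` with
`M₁` and `M₃` adequate, then `M₂` is adequate. -/
theorem result (S : Scheme.{u}) (C : ShortComplex (BigSite.Mod Scheme.fppfPrecoverage S))
    (hC : C.ShortExact) (h₁ : Adeq.adequateMod Scheme.fppfPrecoverage S C.X₁) (h₃ : Adeq.adequateMod Scheme.fppfPrecoverage S C.X₃) :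
    Adeq.adequateMod Scheme.fppfPrecoverage S C.X₂ := by
  refine ⟨S.affineOpenCover.I₀, S.affineOpenCover.X, S.affineOpenCover.f, ?_, fun i => ?_⟩
  · change Presieve.ofArrows _ _ ∈
      (Scheme.precoverage (@Flat ⊓ @LocallyOfFinitePresentation)).coverings S
    rw [Scheme.ofArrows_mem_precoverage_iff]
    refine ⟨fun x => ⟨S.affineOpenCover.idx x, S.affineOpenCover.covers x⟩, fun i => ?_⟩
    have : IsOpenImmersion (S.affineOpenCover.f i) := S.affineOpenCover.map_prop i
    exact ⟨inferInstance, inferInstance⟩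
  · exact Groth.Agent.R2.H80.AdeqExt.adequate_of_shortExact
      (C.map (Adeq.toMVF Scheme.fppfPrecoverage (S.affineOpenCover.f i)))
      (Groth.Agent.R2.H80.AdeqBigExt.shortExact_toMVF C hC h₁ _ _)
      (Groth.Agent.S8755.result S C.X₁ h₁ _ _) (Groth.Agent.S8755.result S C.X₃ h₃ _ _)

end Groth.Agent.S8763
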