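import Groth.Statements.S8781
import Groth.Agent.R2.H39AdeqTF
-- import your own Groth.Agent.* helpers here

set_option autoImplicit false
universe u
open CategoryTheory Limits
open AdeqTF

namespace Groth.Agent.S8781

open Groth.Agent.R2.H39.AdeqTF in
/-- Say a module-valued functor `F` on `A`-algebras has right exact tangent functors if for every
`A`-algebra `B` and every short exact sequence `0 → N₁ → N → N₂ → 0` of `B`-modules the sequence
`TF(B, N₁) → TF(B, N) → TF(B, N₂) → 0` is exact. If `0 → F → G → H → 0` is a short exact sequence of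
module-valued functors and `F`, `G` have right exact tangent functors, so does `H`. -/
theorem result (A : Type u) [CommRing A] (C : ShortComplex (Adeq.MVF A))
    (hC : C.ShortExact)
    (h₁ : (∀ (B : Adeq.Alg A) (S : ShortComplex (ModuleCat.{u} B)), S.ShortExact →
        Function.Surjective (AdeqTF.tangentMap B C.X₁ S.g) ∧
          (AdeqTF.tangentMap B C.X₁ S.g).ker = (AdeqTF.tangentMap B C.X₁ S.f).range))
    (h₂ : (∀ (B : Adeq.Alg A) (S : ShortComplex (ModuleCat.{u} B)), S.ShortExact →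
        Function.Surjective (AdeqTF.tangentMap B C.X₂ S.g) ∧
          (AdeqTF.tangentMap B C.X₂ S.g).ker = (AdeqTF.tangentMap B C.X₂ S.f).range)) :
    (∀ (B : Adeq.Alg A) (S : ShortComplex (ModuleCat.{u} B)), S.ShortExact →
        Function.Surjective (AdeqTF.tangentMap B C.X₃ S.g) ∧
          (AdeqTF.tangentMap B C.X₃ S.g).ker = (AdeqTF.tangentMap B C.X₃ S.f).range) := by
  intro B S hS
  obtain ⟨s1, k1⟩ := h₁ B S hS
  obtain ⟨s2, k2⟩ := h₂ B S hS
  refine ⟨?_, ?_⟩
  · intro z₂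
    obtain ⟨y₂, hy₂⟩ := tanHom_g_surjective C hC S.X₃ z₂
    obtain ⟨y, hy⟩ := s2 y₂
    refine ⟨tanHom C.g S.X₂ y, ?_⟩
    rw [← tanHom_tmap, hy, hy₂]
  · apply le_antisymm
    · intro z hz
      rw [AddMonoidHom.mem_ker] at hz
      obtain ⟨y, hy⟩ := tanHom_g_surjective C hC S.X₂ z
      have h3 : tanHom C.g S.X₃ (AdeqTF.tangentMap B C.X₂ S.g y) = 0 := by
        rw [tanHom_tmap, hy, hz]
      obtain ⟨w₂, hw₂⟩ := exists_of_tanHom_g_eq_zero C hC S.X₃ _ h3
      obtain ⟨w, hw⟩ := s1 w₂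
      have h4 : y - tanHom C.f S.X₂ w ∈ (AdeqTF.tangentMap B C.X₂ S.g).ker := by
        rw [AddMonoidHom.mem_ker, map_sub, ← tanHom_tmap, hw, hw₂, sub_self]
      rw [k2] at h4
      obtain ⟨y₁, hy₁⟩ := h4
      refine ⟨tanHom C.g S.X₁ y₁, ?_⟩
      rw [← tanHom_tmap, hy₁, map_sub, tanHom_g_f C hC, sub_zero, hy]
    · rintro z ⟨z₁, rfl⟩
      rw [AddMonoidHom.mem_ker, ← tmap_comp]
      exact tmap_of_eq_zero _ S.zero _

end Groth.Agent.S8781
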