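import Groth.Statements.S8782
import Groth.Agent.R2.H39AdeqTF
-- import your own Groth.Agent.* helpers here

set_option autoImplicit false
universe u
open CategoryTheory Limits
open AdeqTF

namespace Groth.Agent.S8782

open Groth.Agent.R2.H39.AdeqTF in
/-- If `0 → F → G → H → 0` is a short exact sequence of module-valued functors on `A`-algebras and `F`,
`H` have right exact tangent functors (for every `A`-algebra `B` and short exact `0 → N₁ → N → N₂ →
0` of `B`-modules, `T(B, N₁) → T(B, N) → T(B, N₂) → 0` is exact), so does `G`. -/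
theorem result (A : Type u) [CommRing A] (C : ShortComplex (Adeq.MVF A))
    (hC : C.ShortExact)
    (h₁ : (∀ (B : Adeq.Alg A) (S : ShortComplex (ModuleCat.{u} B)), S.ShortExact →
        Function.Surjective (AdeqTF.tangentMap B C.X₁ S.g) ∧
          (AdeqTF.tangentMap B C.X₁ S.g).ker = (AdeqTF.tangentMap B C.X₁ S.f).range))
    (h₃ : (∀ (B : Adeq.Alg A) (S : ShortComplex (ModuleCat.{u} B)), S.ShortExact →
        Function.Surjective (AdeqTF.tangentMap B C.X₃ S.g) ∧
          (AdeqTF.tangentMap B C.X₃ S.g).ker = (AdeqTF.tangentMap B C.X₃ S.f).range)) :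
    (∀ (B : Adeq.Alg A) (S : ShortComplex (ModuleCat.{u} B)), S.ShortExact →
        Function.Surjective (AdeqTF.tangentMap B C.X₂ S.g) ∧
          (AdeqTF.tangentMap B C.X₂ S.g).ker = (AdeqTF.tangentMap B C.X₂ S.f).range) := by
  intro B S hS
  obtain ⟨s1, k1⟩ := h₁ B S hS
  obtain ⟨s3, k3⟩ := h₃ B S hS
  refine ⟨?_, ?_⟩
  · intro y₂
    obtain ⟨z, hz⟩ := s3 (tanHom C.g S.X₃ y₂)
    obtain ⟨y, hy⟩ := tanHom_g_surjective C hC S.X₂ z
    have h4 : tanHom C.g S.X₃ (y₂ - AdeqTF.tangentMap B C.X₂ S.g y) = 0 := by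
      rw [map_sub, tanHom_tmap, hy, hz, sub_self]
    obtain ⟨w₂, hw₂⟩ := exists_of_tanHom_g_eq_zero C hC S.X₃ _ h4
    obtain ⟨w, hw⟩ := s1 w₂
    refine ⟨y + tanHom C.f S.X₂ w, ?_⟩
    rw [map_add, ← tanHom_tmap, hw, hw₂]
    abel
  · apply le_antisymm
    · intro y hy
      rw [AddMonoidHom.mem_ker] at hy
      have h5 : tanHom C.g S.X₂ y ∈ (AdeqTF.tangentMap B C.X₃ S.g).ker := by
        rw [AddMonoidHom.mem_ker, ← tanHom_tmap, hy, map_zero]
      rw [k3] at h5
      obtain ⟨z₁, hz₁⟩ := h5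
      obtain ⟨y₁, hy₁⟩ := tanHom_g_surjective C hC S.X₁ z₁
      have h6 : tanHom C.g S.X₂ (y - AdeqTF.tangentMap B C.X₂ S.f y₁) = 0 := by
        rw [map_sub, tanHom_tmap, hy₁, hz₁, sub_self]
      obtain ⟨w, hw⟩ := exists_of_tanHom_g_eq_zero C hC S.X₂ _ h6
      have h7 : w ∈ (AdeqTF.tangentMap B C.X₁ S.g).ker := by
        rw [AddMonoidHom.mem_ker]
        apply tanHom_f_injective C hC S.X₃
        rw [tanHom_tmap, hw, map_sub, hy, ← tmap_comp, tmap_of_eq_zero _ S.zero, sub_zero, map_zero]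
      rw [k1] at h7
      obtain ⟨w₁, hw₁⟩ := h7
      refine ⟨y₁ + tanHom C.f S.X₁ w₁, ?_⟩
      rw [map_add, ← tanHom_tmap, hw₁, hw]
      abel
    · rintro y ⟨y₁, rfl⟩
      rw [AddMonoidHom.mem_ker, ← tmap_comp]
      exact tmap_of_eq_zero _ S.zero _

end Groth.Agent.S8782
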