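import Groth.Statements.S8833
import Groth.Agent.R2.H40GradedModule

set_option autoImplicit false
universe u
open scoped BigOperators TensorProduct
open LocCoh

namespace Groth.Agent.S8833

/-- Let A be a Noetherian ring, f_1, …, f_r ∈ A and I = (f_1, …, f_r) with cd(A, I) = 1; let c ≥ 1 and
φ_j : I^c → A be A-linear maps with x = Σ_j f_j φ_j(x) for all x ∈ I^c. Let B be a Noetherian
A-algebra and N a finite B-module. Then there is c' ≥ c with the following property. Write φ_j again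
for the restrictions of the φ_j to I^{c'} and let Φ be a graded A-algebra homomorphism from ⊕_{n ≥
0} I^{nc'} to A[T_1, …, T_r] with Φ(g) = Σ_j φ_j(g) T_j for g ∈ I^{c'} (there is exactly one; it is
encoded by functions Φ_n : A → A[T_1, …, T_r] whose values on I^{nc'} are additive, A-homogeneous,
homogeneous of degree n and multiplicative across degrees, with Φ_0 the structure map and Φ_1 as
prescribed). Then for every n there is a unique B-linear map Ψ_n from the submodule I^{nc'}N of N to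
N[T_1, …, T_r] = B[T_1, …, T_r] ⊗_B N with Ψ_n(g x) = Φ_n(g) ⊗ x for g ∈ I^{nc'} and x ∈ N; that is,
the Ψ_n form the unique graded B-module map from ⊕_n I^{nc'}N to N[T_1, …, T_r] with this property.
Moreover substituting T_j ↦ f_j after Ψ_n gives back the inclusion of I^{nc'}N into N. -/
theorem result (A : Type u) [CommRing A] [IsNoetherianRing A] (r : ℕ) (f : Fin r → A) (I : Ideal A) (hI : I = Ideal.span (Set.range f)) (h1 : LocCoh.CdLE A I 1) (h0 : ¬ LocCoh.CdLE A I 0) (c : ℕ) (hc : 1 ≤ c) (φ : Fin r → (↥(I ^ c) →ₗ[A] A)) (hφ : ∀ x : ↥(I ^ c), (x : A) = ∑ j, f j * φ j x) (B : Type u) [CommRing B] [Algebra A B] [IsNoetherianRing B] (N : Type u) [AddCommGroup N] [Module B N] [Module.Finite B N] : ∃ c' : ℕ, ∃ hcc' : c ≤ c', ∀ Φ : ℕ → A → MvPolynomial (Fin r) A, ((∀ n : ℕ, ∀ g ∈ I ^ (n * c'), ∀ h ∈ I ^ (n * c'), Φ n (g + h) = Φ n g + Φ n h) ∧ (∀ (n : ℕ) (a : A), ∀ g ∈ I ^ (n * c'), Φ n (a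 * g) = a • Φ n g) ∧ (∀ n : ℕ, ∀ g ∈ I ^ (n * c'), (Φ n g).IsHomogeneous n) ∧ (∀ n m : ℕ, ∀ g ∈ I ^ (n * c'), ∀ h ∈ I ^ (m * c'), Φ (n + m) (g * h) = Φ n g * Φ m h) ∧ (∀ a : A, Φ 0 a = MvPolynomial.C a) ∧ (∀ (g : A) (hg : g ∈ I ^ c'), Φ 1 g = ∑ j, MvPolynomial.C (φ j ⟨g, Ideal.pow_le_pow_right hcc' hg⟩) * MvPolynomial.X j)) → ∀ n : ℕ, ∃ Ψ : ↥(Submodule.span B {y : N | ∃ g ∈ I ^ (n * c'), ∃ x : N, y = algebraMap A B g • x}) →ₗ[B] (MvPolynomial (Fin r) B ⊗[B] N), (∀ (g : A) (hg : g ∈ I ^ (n * c')) (x : N), Ψ ⟨algebraMap A B g • x, Submodule.subset_span ⟨g, hg, x, rfl⟩⟩ = MvPolynomial.map (algebraMap A B) (Φ n g) ⊗ₜ[B] x) ∧ (∀ y : ↥(Submodule.span B {y : N | ∃ g ∈ I ^ (n * c'), ∃ x : N, y = algebraMap A B g • x}), TensorProduct.lift ((LinearMap.lsmul B N).comp (MvPolynomial.aeval (fun j ↦ algebraMap A B (f j))).toLinearMap) (Ψ y) = (y : N)) ∧ (∀ Ψ' : ↥(Submodule.span B {y : N | ∃ g ∈ I ^ (n * c'),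 ∃ x : N, y = algebraMap A B g • x}) →ₗ[B] (MvPolynomial (Fin r) B ⊗[B] N), (∀ (g : A) (hg : g ∈ I ^ (n * c')) (x : N), Ψ' ⟨algebraMap A B g • x, Submodule.subset_span ⟨g, hg, x, rfl⟩⟩ = MvPolynomial.map (algebraMap A B) (Φ n g) ⊗ₜ[B] x) → Ψ' = Ψ) := by
  obtain ⟨m0, hm0⟩ := Groth.Agent.R2.H40.GradedModule.exists_pow_torsion_free (B := B) (N := N) I
  refine ⟨m0 + c, Nat.le_add_left c m0, ?_⟩
  rintro Φ ⟨hadd, hsmul, -, hmul, hzero, hone⟩ n
  have huniq := Groth.Agent.R2.H40.GradedMap.Phi_unique I (m0 + c)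
    (Groth.Agent.R2.H40.GradedMap.restrictPhi I c φ m0) Φ hadd hmul hzero
    (fun g hg => hone g hg)
  have hφ' : ∀ x : ↥(I ^ (m0 + c)),
      (x : A) = ∑ j, f j * Groth.Agent.R2.H40.GradedMap.restrictPhi I c φ m0 j x := by
    intro x
    exact hφ ⟨x.1, Ideal.pow_le_pow_right (Nat.le_add_left c m0) x.2⟩
  have haeval : ∀ g ∈ I ^ (n * (m0 + c)), MvPolynomial.aeval f (Φ n g) = g := by
    intro g hg
    rw [huniq n g hg]
    exact Groth.Agent.R2.H40.GradedMap.aeval_Phi I (m0 + c) _ f hφ' n g hg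
  have hsymm : ∀ g ∈ I ^ (n * (m0 + c)), ∀ t ∈ I ^ (n * (m0 + c)), t • Φ n g = g • Φ n t := by
    intro g hg t ht
    rw [← hsmul n t g hg, ← hsmul n g t ht, mul_comm]
  have hcoeff : ∀ g ∈ I ^ (n * (m0 + c)), ∀ e, (Φ n g).coeff e ∈ I ^ (n * m0) := by
    intro g hg e
    rw [huniq n g hg]
    have := Groth.Agent.R2.H40.GradedMap.coeff_Phi_restrict_mem I c φ m0 n 0 g
      (by rwa [Nat.add_zero]) e
    rwa [Nat.add_zero] at this
  have hAR : n * (m0 + c) = 0 ∨ ∀ y : N, y ∈ Groth.Agent.R2.H40.GradedModule.powSub B N I (n * m0) →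
      (∃ k : ℕ, ∀ t ∈ I ^ k, algebraMap A B t • y = 0) → y = 0 := by
    rcases Nat.eq_zero_or_pos n with h | h
    · left
      rw [h, Nat.zero_mul]
    · right
      intro y hy
      exact hm0 y (Groth.Agent.R2.H40.GradedModule.powSub_anti I
        (Nat.le_mul_of_pos_left m0 h) hy)
  obtain ⟨Ψ, hΨ, hΨuniq⟩ := Groth.Agent.R2.H40.GradedModule.exists_unique_Psi (B := B) (N := N)
    I (n * (m0 + c)) (Φ n) hsymm (n * m0) hcoeff hAR
  exact ⟨Ψ, hΨ, Groth.Agent.R2.H40.GradedModule.eval_Psi I (n * (m0 + c)) (Φ n) f haeval Ψ hΨ,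
    hΨuniq⟩

end Groth.Agent.S8833
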