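import Groth.Statements.S8850
import Groth.Agent.R2.H86GraphClosure

set_option autoImplicit false
universe u
open CategoryTheory CategoryTheory.Limits AlgebraicGeometry TopologicalSpace
open SDiv

namespace Groth.Agent.S8850

/-- Let S be a scheme, X a Noetherian S-scheme, Y a proper S-scheme, U ⊆ X an open subscheme and f : U ⟶
Y a morphism compatible with the structure morphisms to S. Then there are a proper morphism p : X' ⟶
X restricting to an isomorphism over U and an S-morphism f' : X' ⟶ Y whose restriction to p⁻¹(U) is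
f composed with p. The published statement takes U dense, so that f is an S-rational map; this row
allows any open U, which its proof does not need. -/
theorem result {X Y S : Scheme.{u}} [IsNoetherian X] (a : X ⟶ S) (b : Y ⟶ S)
    [IsProper b] (U : X.Opens) (f : (U : Scheme.{u}) ⟶ Y) (hf : f ≫ b = U.ι ≫ a) :
    ∃ (X' : Scheme.{u}) (p : X' ⟶ X) (f' : X' ⟶ Y), IsProper p ∧ IsIso (p ∣_ U) ∧ f' ≫ b = p ≫ a ∧
      (p ⁻¹ᵁ U).ι ≫ f' = (p ∣_ U) ≫ f := by
  classical
  have hNX : NoetherianSpace X := inferInstance
  have hNU : NoetherianSpace (U : Scheme.{u}) :=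
    inferInstanceAs (NoetherianSpace ((U : Set X) : Type u))
  let γ : (U : Scheme.{u}) ⟶ pullback a b := pullback.lift U.ι f hf.symm
  have hγ : γ ≫ pullback.fst a b = U.ι := pullback.lift_fst _ _ _
  have hγ2 : γ ≫ pullback.snd a b = f := pullback.lift_snd _ _ _
  refine ⟨γ.image, γ.imageι ≫ pullback.fst a b, γ.imageι ≫ pullback.snd a b, inferInstance,
    Groth.Agent.R2.H86.GraphClosure.isIso_restrict U γ (pullback.fst a b) hγ, ?_, ?_⟩
  · rw [Category.assoc, Category.assoc, pullback.condition]
  · rw [← Category.assoc, Groth.Agent.R2.H86.GraphClosure.ι_imageι U γ (pullback.fst a b) hγ,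
      Category.assoc, hγ2]

end Groth.Agent.S8850
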