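import Groth.Statements.S8899
import Groth.Agent.R2.H40WeakAss

set_option autoImplicit false
universe u
open CategoryTheory CategoryTheory.Limits AlgebraicGeometry TopologicalSpace
open SDiv

namespace Groth.Agent.S8899

/-- Let f : X ⟶ S be a morphism of schemes, G a quasi-coherent O_S-module and x a point of X over s = f
x such that f is flat at x, no point of f⁻¹(s) other than x specialises to x (x is the generic point
of some irreducible component of the fibre X_s), and s is weakly associated to G. Then x is weakly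
associated to f^*G. -/
theorem result {X S : Scheme.{u}} (f : X ⟶ S) (G : S.Modules) (hG : Coh.IsQCoh G)
    (x : ↥X) (hfl : (f.stalkMap x).hom.Flat) (hgen : ∀ y : ↥X, f y = f x → y ⤳ x → y = x)
    (hs : Curv2.IsWeakAssPoint G (f x)) : Curv2.IsWeakAssPoint ((Scheme.Modules.pullback f).obj G) x := by
  obtain ⟨m, hm⟩ := hs
  letI : Algebra (S.presheaf.stalk (f x)) (X.presheaf.stalk x) := (f.stalkMap x).hom.toAlgebra
  haveI : Module.Flat (S.presheaf.stalk (f x)) (X.presheaf.stalk x) := hfl
  haveI : IsLocalHom (algebraMap (S.presheaf.stalk (f x)) (X.presheaf.stalk x)) :=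
    inferInstanceAs (IsLocalHom (f.stalkMap x).hom)
  let e := Groth.Agent.R2.H9.PullStalk.stalkPullbackEquiv f G x
  refine ⟨e.symm ((1 : X.presheaf.stalk x) ⊗ₜ[S.presheaf.stalk (f x)] m), ?_⟩
  have hker : LinearMap.ker (LinearMap.toSpanSingleton (X.presheaf.stalk x) _
      (e.symm ((1 : X.presheaf.stalk x) ⊗ₜ[S.presheaf.stalk (f x)] m))) =
      LinearMap.ker (LinearMap.toSpanSingleton (X.presheaf.stalk x) _
        ((1 : X.presheaf.stalk x) ⊗ₜ[S.presheaf.stalk (f x)] m)) := by
    ext b
    rw [LinearMap.mem_ker, LinearMap.mem_ker, LinearMap.toSpanSingleton_apply,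
      LinearMap.toSpanSingleton_apply, ← map_smul, LinearEquiv.map_eq_zero_iff]
  rw [hker]
  exact Groth.Agent.R2.H40.WeakAss.radical_ker_tmul _
    (Groth.Agent.R2.H40.WeakAss.eq_maximalIdeal_of_generic f x hgen) m hm

end Groth.Agent.S8899
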