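import Groth.Statements.S8930
import Groth.Agent.R2.H40OpenImmFin

set_option autoImplicit false
universe u
open AlgebraicGeometry
open Disc

namespace Groth.Agent.S8930

/-- Given two factorizations A → B' → B and A → B'' → B of a ring map with A → B' and A → B'' finite and
Spec(B) → Spec(B'), Spec(B) → Spec(B'') open immersions, there is an A-subalgebra C of B which is
finite over A, contains the images of B' and B'', and is such that Spec(B) → Spec(C) is an open
immersion. (Such an A → B is quasi-finite; that hypothesis of the published statement is implied by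
the factorizations and is not repeated.) -/
theorem result (A B B' B'' : Type u) [CommRing A] [CommRing B] [CommRing B'] [CommRing B''] [Algebra A B] [Algebra A B'] [Algebra A B''] [Algebra B' B] [Algebra B'' B] [IsScalarTower A B' B] [IsScalarTower A B'' B] [Module.Finite A B'] [Module.Finite A B''] (h' : IsOpenImmersion (Spec.map (CommRingCat.ofHom (algebraMap B' B)))) (h'' : IsOpenImmersion (Spec.map (CommRingCat.ofHom (algebraMap B'' B)))) : ∃ C : Subalgebra A B, Module.Finite A C ∧ Set.range (algebraMap B' B) ⊆ (C : Set B) ∧ Set.range (algebraMap B'' B) ⊆ (C : Set B) ∧ IsOpenImmersion (Spec.map (CommRingCat.ofHom C.val.toRingHom)) := by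
  have key : ∀ (C : Subalgebra A B), (∀ x : B', algebraMap B' B x ∈ C) →
      IsOpenImmersion (Spec.map (CommRingCat.ofHom C.val.toRingHom)) := by
    intro C hmem
    letI alg1 : Algebra B' ↥C := ((algebraMap B' B).codRestrict C hmem).toAlgebra
    letI alg2 : Algebra ↥C B := C.val.toRingHom.toAlgebra
    haveI : @IsScalarTower B' ↥C B alg1.toSMul alg2.toSMul _ :=
      @IsScalarTower.of_algebraMap_eq B' ↥C B _ _ _ alg1 alg2 _ (fun x => rfl)
    exact @Groth.Agent.R2.H40.OpenImmFin.isOpenImmersion_of_injective B' ↥C B _ _ _ alg1 alg2 _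
      inferInstance h' Subtype.val_injective
  let C₁ : Subalgebra A B := (IsScalarTower.toAlgHom A B' B).range
  let C₂ : Subalgebra A B := (IsScalarTower.toAlgHom A B'' B).range
  haveI : Module.Finite A C₁ :=
    Module.Finite.of_surjective (IsScalarTower.toAlgHom A B' B).rangeRestrict.toLinearMap
      (IsScalarTower.toAlgHom A B' B).rangeRestrict_surjective
  haveI : Module.Finite A C₂ :=
    Module.Finite.of_surjective (IsScalarTower.toAlgHom A B'' B).rangeRestrict.toLinearMap
      (IsScalarTower.toAlgHom A B'' B).rangeRestrict_surjective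
  haveI := Subalgebra.finite_sup C₁ C₂
  have hmem : ∀ x : B', algebraMap B' B x ∈ C₁ ⊔ C₂ := fun x =>
    (le_sup_left : C₁ ≤ C₁ ⊔ C₂) ⟨x, rfl⟩
  refine ⟨C₁ ⊔ C₂, inferInstance, ?_, ?_, key _ hmem⟩
  · rintro _ ⟨x, rfl⟩
    exact hmem x
  · rintro _ ⟨x, rfl⟩
    exact (le_sup_right : C₂ ≤ C₁ ⊔ C₂) ⟨x, rfl⟩

end Groth.Agent.S8930
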