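import Groth.Statements.S8960
import Mathlib.RingTheory.Flat.EquationalCriterion
import Mathlib.LinearAlgebra.Trace
import Mathlib.RingTheory.Localization.Module
-- import your own Groth.Agent.* helpers here

set_option autoImplicit false
universe u
open QFDual

namespace Groth.Agent.S8960

/-- Trace of (the image of) an element of a finite projective algebra after localisation lies in the
base ring. -/
theorem trace_mem_range {A K B L : Type u} [CommRing A] [CommRing K] [CommRing B] [CommRing L]
    [Algebra A K] [Algebra A B] [Algebra B L] [Algebra K L] [Algebra A L] [IsScalarTower A K L]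
    [IsScalarTower A B L] (S : Submonoid A) [IsLocalization S K]
    [IsLocalization (Algebra.algebraMapSubmonoid B S) L] [Module.Finite A B] [Module.Projective A B]
    [Module.Free K L] [Module.Finite K L] (b : B) :
    Algebra.trace K L (algebraMap B L b) ∈ (algebraMap A K).range := by
  classical
  -- a finite dual basis of B over A
  obtain ⟨n, π, hπ⟩ := Module.Finite.exists_fin' A B
  obtain ⟨i, hi⟩ := Module.projective_lifting_property π LinearMap.id hπ
  let f : B →ₗ[A] L := (IsScalarTower.toAlgHom A B L).toLinearMap
  let g : A →ₗ[A] K := Algebra.linearMap A K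
  have hfapp : ∀ x : B, f x = algebraMap B L x := fun x => rfl
  let bb : Fin n → B := fun j => π (Pi.single j 1)
  let φ : Fin n → (B →ₗ[A] A) := fun j => (LinearMap.proj j) ∘ₗ i
  have hdual : ∀ x : B, x = ∑ j, φ j x • bb j := by
    intro x
    have h1 : π (i x) = x := by
      have := congrArg (fun l => l x) hi
      simpa using this
    have h2 : i x = ∑ j, (i x j) • (Pi.single j (1 : A) : Fin n → A) := by
      ext k
      simp [Finset.sum_apply, Pi.single_apply]
    conv_lhs => rw [← h1, h2]
    rw [map_sum]
    refine Finset.sum_congr rfl fun j _ => ?_
    rw [map_smul]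
    rfl
  -- extend φ to L
  let φ' : Fin n → (L →ₗ[K] K) := fun j => IsLocalizedModule.mapExtendScalars S f g K (φ j)
  have hφ' : ∀ j (x : B), φ' j (algebraMap B L x) = algebraMap A K (φ j x) := by
    intro j x
    change IsLocalizedModule.map S f g (φ j) (f x) = g (φ j x)
    exact IsLocalizedModule.map_apply S f g (φ j) x
  -- identity on L
  have hid : ∀ y : L, y = ∑ j, φ' j y • algebraMap B L (bb j) := by
    let F : L →ₗ[A] L := ∑ j, ((LinearMap.toSpanSingleton K L (algebraMap B L (bb j))) ∘ₗ
      (φ' j)).restrictScalars A
    have hF : F = LinearMap.id := by
      apply IsLocalizedModule.linearMap_ext S f f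
      ext x
      simp only [LinearMap.coe_comp, Function.comp_apply, LinearMap.id_comp]
      change F (algebraMap B L x) = algebraMap B L x
      simp only [F, LinearMap.sum_apply, LinearMap.coe_restrictScalars, LinearMap.coe_comp,
        Function.comp_apply, LinearMap.toSpanSingleton_apply]
      conv_rhs => rw [hdual x]
      rw [map_sum]
      refine Finset.sum_congr rfl fun j _ => ?_
      rw [hφ', algebraMap_smul, ← hfapp (φ j x • bb j), map_smul, hfapp]
    intro y
    have := congrArg (fun l => l y) hF
    simp only [F, LinearMap.sum_apply, LinearMap.coe_restrictScalars, LinearMap.coe_comp,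
      Function.comp_apply, LinearMap.toSpanSingleton_apply, LinearMap.id_apply] at this
    exact this.symm
  -- multiplication by b as a sum of rank one maps
  have hmul : Algebra.lmul K L (algebraMap B L b) =
      dualTensorHom K L L (∑ j, ((φ' j) ∘ₗ (Algebra.lmul K L (algebraMap B L b))) ⊗ₜ[K]
        (algebraMap B L (bb j))) := by
    ext y
    rw [map_sum, LinearMap.sum_apply]
    simp only [dualTensorHom_apply, LinearMap.coe_comp, Function.comp_apply]
    exact hid _
  rw [Algebra.trace_apply, hmul, LinearMap.trace_eq_contract_apply, map_sum]
  refine Subring.sum_mem _ fun j _ => ?_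
  rw [contractLeft_apply]
  simp only [LinearMap.coe_comp, Function.comp_apply, Algebra.coe_lmul_eq_mul, LinearMap.mul_apply']
  rw [← map_mul, hφ']
  exact ⟨_, rfl⟩


/-- Suppose the Dedekind different of A → B is defined: A is Noetherian, B is a finite A-algebra,
nonzerodivisors of A are nonzerodivisors on B, and with K = Q(A) the total ring of fractions and L =
B ⊗_A K the map K → L is étale (here with L finite free over K). If A → B is flat, then
Trace_{L/K}(b) lies in A for every b ∈ B; equivalently 1 ∈ 𝓛_{B/A}, the Dedekind complementary
module. -/
theorem result (A K B L : Type u) [CommRing A] [CommRing K] [CommRing B] [CommRing L] [Algebra A K] [Algebra A B] [Algebra B L] [Algebra K L] [Algebra A L] [IsScalarTower A K L] [IsScalarTower A B L] (h : QFDual.IsDedekindDefined A K B L) [Module.Flat A B] : (1 : L) ∈ QFDual.complementary A K B L := by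
  have := h.isFractionRing
  have := h.isLocalization
  have := h.isNoetherianRing
  have := h.finite
  have := h.free
  have := h.finiteKL
  have hfp : Module.FinitePresentation A B := Module.finitePresentation_of_finite A B
  have hproj : Module.Projective A B := Module.Flat.projective_of_finitePresentation
  intro b
  change Algebra.trace K L (1 * algebraMap B L b) ∈ (algebraMap A K).range
  rw [one_mul]
  exact trace_mem_range (nonZeroDivisors A) b

end Groth.Agent.S8960
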