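import Groth.Statements.S8979
import Groth.Agent.S7468

set_option autoImplicit false
set_option linter.style.haveILetI false
universe u
open HTop

namespace Groth.Agent.S8979

open CategoryTheory CategoryTheory.Limits AlgebraicGeometry in
/-- A surjective proper morphism of finite presentation, as a one-member family, is an h covering of its
target. -/
theorem result {X Y : Scheme.{u}} (f : Y ⟶ X) [IsProper f] [Surjective f] [LocallyOfFinitePresentation f] : HTop.IsHCover (PreZeroHypercover.singleton.{0} f) := by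
  refine ⟨fun _ => (inferInstance : LocallyOfFinitePresentation f), ?_⟩
  intro U
  have hUaff : IsAffineOpen (U : X.Opens) := U.2
  haveI : IsAffine ((U : X.Opens) : Scheme.{u}) := hUaff
  let f' : ((f ⁻¹ᵁ (U : X.Opens) : Y.Opens) : Scheme.{u}) ⟶ ((U : X.Opens) : Scheme.{u}) :=
    f ∣_ (U : X.Opens)
  haveI : IsProper f' := IsZariskiLocalAtTarget.restrict ‹IsProper f› _
  haveI : Surjective f' := IsZariskiLocalAtTarget.restrict ‹Surjective f› _
  haveI : CompactSpace ↥((f ⁻¹ᵁ (U : X.Opens) : Y.Opens) : Scheme.{u}) := by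
    have : QuasiCompact f' := inferInstance
    exact QuasiCompact.compactSpace_of_compactSpace f'
  let 𝒰 := ((f ⁻¹ᵁ (U : X.Opens) : Y.Opens) : Scheme.{u}).affineCover.finiteSubcover
  haveI : Fintype 𝒰.I₀ := inferInstance
  let e : 𝒰.I₀ ≃ Fin (Fintype.card 𝒰.I₀) := Fintype.equivFin _
  let F : PreZeroHypercover.{0} ((U : X.Opens) : Scheme.{u}) :=
    { I₀ := Fin (Fintype.card 𝒰.I₀)
      X := fun j => 𝒰.X (e.symm j)
      f := fun j => 𝒰.f (e.symm j) ≫ f' }
  refine ⟨F, ?_, ?_⟩
  · apply Groth.Agent.S7468.result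
    refine ⟨inferInstance, inferInstanceAs (Finite (Fin _)), fun j => ?_, ?_⟩
    · change IsAffine (𝒰.X (e.symm j))
      dsimp only [𝒰, Scheme.OpenCover.finiteSubcover]
      infer_instance
    · refine ⟨_, f', fun j => 𝒰.f (e.symm j), inferInstance, inferInstance,
        fun j => inferInstance, fun j => rfl, fun x => ?_⟩
      obtain ⟨i, y, hy⟩ := 𝒰.exists_eq x
      obtain ⟨j, rfl⟩ := e.symm.surjective i
      exact ⟨j, y, hy⟩
  · intro j
    refine ⟨PUnit.unit, (𝒰.f (e.symm j) ≫ (f ⁻¹ᵁ (U : X.Opens)).ι : 𝒰.X (e.symm j) ⟶ Y), ?_⟩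
    change (𝒰.f (e.symm j) ≫ (f ⁻¹ᵁ (U : X.Opens)).ι) ≫ f = (𝒰.f (e.symm j) ≫ f') ≫ (U : X.Opens).ι
    simp only [Category.assoc, f', morphismRestrict_ι]

end Groth.Agent.S8979
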