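import Groth.Statements.S8988
import Groth.Agent.R2.H41Thick
-- import your own Groth.Agent.* helpers here

set_option autoImplicit false
universe u
open HTop

namespace Groth.Agent.S8988

open CategoryTheory CategoryTheory.Limits AlgebraicGeometry Opposite in
/-- An h sheaf on schemes over S takes the same sections on an S-scheme and on any thickening of it of
finite presentation. -/
theorem result (S : Scheme.{u}) (F : HTop.ShH S) {X X' : Over S} (f : X ⟶ X') (hf : MoreMor.IsThickening f.left) [LocallyOfFinitePresentation f.left] : Function.Bijective (F.obj.map f.op) := by
  haveI : IsClosedImmersion f.left := hf.1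
  haveI : Surjective f.left := hf.2
  exact Groth.Agent.R2.H41.Thick.bijective_map_of_generate_mem _ F f
    (Groth.Agent.R2.H41.Thick.generate_singleton_mem_hTopology f.left)

end Groth.Agent.S8988
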