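import Groth.Statements.S8990
import Groth.Agent.R2.H41BlowSq

set_option linter.style.haveILetI false

set_option autoImplicit false
universe u
open HTop

namespace Groth.Agent.S8990

open CategoryTheory CategoryTheory.Limits AlgebraicGeometry Opposite in
/-- A ph sheaf on schemes over S turns every blow up square (centre a closed subscheme of finite
presentation, X' → X the blowing up, E the inverse image of the centre) into a cartesian square of
sets of sections. -/
theorem result (S : Scheme.{u}) (F : HTop.ShPh S) {E Z X' X : Over S} (e : E ⟶ X') (π : E ⟶ Z) (b : X' ⟶ X) (i : Z ⟶ X) [IsClosedImmersion i.left] [LocallyOfFinitePresentation i.left] (hb : BlowUp.IsBlowUp b.left i.left.ker) (hE : IsPullback e.left π.left b.left i.left) (t : F.obj.obj (op Z)) (s' : F.obj.obj (op X')) (hts : F.obj.map π.op t = F.obj.map e.op s') : ∃! s : F.obj.obj (op X), F.obj.map i.op s = t ∧ F.obj.map b.op s = s' := by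
  classical
  haveI hci : IsClosedImmersion i.left := inferInstance
  have h𝓘 : BlowUp.IsFiniteTypeIdeal i.left.ker :=
    Groth.Agent.R2.H41.BlowSq.isFiniteTypeIdeal_ker i.left
  haveI hbp : IsProper b.left :=
    Groth.Agent.R2.H86.BlowProper.isProper_of_isBlowUp' i.left.ker h𝓘 b.left hb
  haveI hip : IsProper i.left := inferInstance
  haveI hπp : IsProper π.left := MorphismProperty.of_isPullback (P := @IsProper) hE hbp
  haveI hec : IsClosedImmersion e.left :=
    MorphismProperty.of_isPullback (P := @IsClosedImmersion) hE.flip hci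
  haveI hmi : Mono i := (Over.forget S).mono_of_mono_map (inferInstanceAs (Mono i.left))
  -- the first covering
  have hcov1 : Groth.Agent.R2.H41.PhCov.pairSieve i b ∈ Jph S X :=
    Groth.Agent.R2.H41.PhCov.mem_Jph_of_proper_pair i b
      (fun x => Groth.Agent.R2.H41.BlowSq.mem_range_or_mem_range hb x) _
      (Groth.Agent.R2.H41.PhCov.pairSieve_left i b) (Groth.Agent.R2.H41.PhCov.pairSieve_right i b)
  -- the fibre square of the blow-up
  let P : Over S := Over.mk (pullback.fst b.left b.left ≫ X'.hom)
  let p₁ : P ⟶ X' := Over.homMk (pullback.fst b.left b.left) rfl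
  have hX' : X'.hom = b.left ≫ X.hom := (Over.w b).symm
  let p₂ : P ⟶ X' := Over.homMk (pullback.snd b.left b.left) (by
    change pullback.snd b.left b.left ≫ X'.hom = pullback.fst b.left b.left ≫ X'.hom
    rw [hX', ← Category.assoc, ← Category.assoc, pullback.condition])
  let Δ : X' ⟶ P := Over.homMk (pullback.diagonal b.left) (by
    change pullback.diagonal b.left ≫ pullback.fst b.left b.left ≫ X'.hom = X'.hom
    rw [← Category.assoc, pullback.diagonal_fst, Category.id_comp])
  let Q : Over S := Over.mk (pullback.fst π.left π.left ≫ E.hom)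
  have hE' : E.hom = e.left ≫ X'.hom := (Over.w e).symm
  have hw : e.left ≫ b.left = π.left ≫ i.left := hE.w
  let m₀ : pullback π.left π.left ⟶ pullback b.left b.left :=
    pullback.lift (pullback.fst π.left π.left ≫ e.left) (pullback.snd π.left π.left ≫ e.left) (by
      rw [Category.assoc, Category.assoc, hw, ← Category.assoc, ← Category.assoc,
        pullback.condition])
  have hm₁ : m₀ ≫ pullback.fst b.left b.left = pullback.fst π.left π.left ≫ e.left :=
    pullback.lift_fst _ _ _
  have hm₂ : m₀ ≫ pullback.snd b.left b.left = pullback.snd π.left π.left ≫ e.left :=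
    pullback.lift_snd _ _ _
  let m : Q ⟶ P := Over.homMk m₀ (by
    change m₀ ≫ pullback.fst b.left b.left ≫ X'.hom = pullback.fst π.left π.left ≫ E.hom
    rw [← Category.assoc, hm₁, hE', Category.assoc])
  let q₁ : Q ⟶ E := Over.homMk (pullback.fst π.left π.left) rfl
  let q₂ : Q ⟶ E := Over.homMk (pullback.snd π.left π.left) (by
    change pullback.snd π.left π.left ≫ E.hom = pullback.fst π.left π.left ≫ E.hom
    have hEZ : E.hom = π.left ≫ Z.hom := (Over.w π).symm
    rw [hEZ, ← Category.assoc, ← Category.assoc, pullback.condition])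
  have hq : q₁ ≫ π = q₂ ≫ π := by
    ext
    exact pullback.condition
  have hmp₁ : m ≫ p₁ = q₁ ≫ e := by
    ext
    exact hm₁
  have hmp₂ : m ≫ p₂ = q₂ ≫ e := by
    ext
    exact hm₂
  have hΔ₁ : Δ ≫ p₁ = 𝟙 X' := by
    ext
    exact pullback.diagonal_fst _
  have hΔ₂ : Δ ≫ p₂ = 𝟙 X' := by
    ext
    exact pullback.diagonal_snd _
  haveI : IsProper Δ.left := by
    change IsProper (pullback.diagonal b.left)
    infer_instance
  haveI : IsProper m.left := by
    change IsProper m₀
    haveI : IsProper (m₀ ≫ pullback.fst b.left b.left) := by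
      rw [hm₁]
      infer_instance
    exact IsProper.of_comp m₀ (pullback.fst b.left b.left)
  have hcov2 : Groth.Agent.R2.H41.PhCov.pairSieve Δ m ∈ Jph S P :=
    Groth.Agent.R2.H41.PhCov.mem_Jph_of_proper_pair Δ m
      (fun p => Groth.Agent.R2.H41.BlowSq.mem_range_diagonal_or_mem_range hE hb m₀ hm₁ hm₂ p) _
      (Groth.Agent.R2.H41.PhCov.pairSieve_left Δ m) (Groth.Agent.R2.H41.PhCov.pairSieve_right Δ m)
  -- the two pullbacks of `s'` to `X' ×_X X'` agree
  have hkey : F.obj.map p₁.op s' = F.obj.map p₂.op s' := by
    refine Groth.Agent.R2.H41.PhCov.pair_sep F Δ m hcov2 _ _ ?_ ?_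
    · rw [← Functor.map_comp_apply, ← Functor.map_comp_apply, ← op_comp, ← op_comp,
        hΔ₁, hΔ₂]
    · rw [← Functor.map_comp_apply, ← Functor.map_comp_apply, ← op_comp, ← op_comp,
        hmp₁, hmp₂, op_comp, op_comp, Functor.map_comp_apply,
        Functor.map_comp_apply, ← hts, ← Functor.map_comp_apply,
        ← Functor.map_comp_apply, ← op_comp, ← op_comp, hq]
  obtain ⟨s, hs₁, hs₂⟩ := Groth.Agent.R2.H41.PhCov.pair_glue F i b hcov1 t s'
    (fun W u v huv => by rw [(cancel_mono i).mp huv])
    (fun W u v huv => by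
      have huv' : u.left ≫ b.left = v.left ≫ b.left := congrArg CommaMorphism.left huv
      let l : W ⟶ P := Over.homMk (pullback.lift u.left v.left huv') (by
        change pullback.lift u.left v.left huv' ≫ pullback.fst b.left b.left ≫ X'.hom = W.hom
        rw [← Category.assoc, pullback.lift_fst]
        exact Over.w u)
      have hl₁ : l ≫ p₁ = u := by
        ext
        exact pullback.lift_fst _ _ _
      have hl₂ : l ≫ p₂ = v := by
        ext
        exact pullback.lift_snd _ _ _
      rw [← hl₁, ← hl₂, op_comp, op_comp, Functor.map_comp_apply,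
        Functor.map_comp_apply, hkey])
    (fun W u v huv => by
      have huv' : v.left ≫ b.left = u.left ≫ i.left := (congrArg CommaMorphism.left huv).symm
      let l : W ⟶ E := Over.homMk (hE.lift v.left u.left huv') (by
        rw [hE', ← Category.assoc, hE.lift_fst]
        exact Over.w v)
      have hl₁ : l ≫ π = u := by
        ext
        exact hE.lift_snd _ _ _
      have hl₂ : l ≫ e = v := by
        ext
        exact hE.lift_fst _ _ _
      rw [← hl₁, ← hl₂, op_comp, op_comp, Functor.map_comp_apply,
        Functor.map_comp_apply, hts])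
  refine ⟨s, ⟨hs₁, hs₂⟩, fun s₂ hs₂' => ?_⟩
  exact Groth.Agent.R2.H41.PhCov.pair_sep F i b hcov1 _ _ (by rw [hs₂'.1, hs₁]) (by rw [hs₂'.2, hs₂])

end Groth.Agent.S8990
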