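import Groth.Statements.S9027
import Groth.Agent.Lib.Helper4VarDim13
import Groth.Agent.Lib.Helper2PullbackSec2
import Groth.Agent.Lib.Helper26FlatLimC

set_option autoImplicit false
universe u
open FlatMor

namespace Groth.Agent.S9027

section Aux
open CategoryTheory CategoryTheory.Limits AlgebraicGeometry Opposite

/-- general transfer lemma -/
theorem aux {X' X T : Scheme.{u}} (g : X' ⟶ X) [Etale g] (q : X ⟶ T) (q' : X' ⟶ T)
    (hq : g ≫ q = q') (G : X.Modules) [G.IsQuasicoherent] (G' : X'.Modules)
    (e : G' ≅ (Scheme.Modules.pullback g).obj G) (n : ℕ)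
    (hT : FlatFun.DimFibresLT n q {x | ¬ FlatMod.IsFlatOverAt q G x}) :
    FlatFun.DimFibresLT n q' {x | ¬ FlatMod.IsFlatOverAt q' G' x} := by
  subst hq
  intro x' hx'
  have hflat : (g.stalkMap x').hom.Flat := Flat.stalkMap g x'
  have hxZ : ¬ FlatMod.IsFlatOverAt q G (g.base x') := by
    intro hfl
    apply hx'
    have := (Groth.Agent.Lib.Helper2.PullbackSec.isFlatOverAt_pullback_iff g q G x' hflat).mp hfl
    exact Groth.Agent.Lib.Helper26.FlatLim.isFlatOverAt_of_iso _ e.symm x' this
  have hlt := hT (g.base x') hxZ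
  have : LocallyQuasiFinite g :=
    Groth.Agent.Lib.Helper4.VarDim.locallyQuasiFinite_of_formallyUnramified g
  have h0 := Groth.Agent.Lib.Helper4.VarDim.trdeg_residueFieldMap_eq_zero_of_locallyQuasiFinite g x'
  have h1 := Groth.Agent.Lib.Helper4.VarDim.trdeg_residueFieldMap_comp g q x'
  rw [h0, add_zero] at h1
  change @Algebra.trdeg (T.residueField ((g ≫ q) x')) (X'.residueField x') _ _
        ((g ≫ q).residueFieldMap x').hom.toAlgebra < _
  rw [← h1]
  exact hlt

end Aux

open CategoryTheory CategoryTheory.Limits AlgebraicGeometry Opposite in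
/-- For f : X → S locally of finite type, F a quasi-coherent O_X-module of finite type, an etale
morphism h : X' → X and n ≥ 0, the functor F_n of F over S is a subfunctor of the functor F_n of the
pullback h^*F on X' over S: for every scheme T over S, if the base change F_T on X ×_S T is flat
over T in dimensions ≥ n (transcendence-degree form) then so is the base change of h^*F on X' ×_S T. -/
theorem result {X X' S : Scheme.{u}} (f : X ⟶ S) [LocallyOfFiniteType f] (F : X.Modules) [Coh.IsQCoh F] (hF : CohB1.IsFT F)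
    (h : X' ⟶ X) [Etale h] (n : ℕ) (T : Over S)
    (hT : FlatFun.DimFibresLT n (PicF.XTproj f T)
        {x | ¬ FlatMod.IsFlatOverAt (PicF.XTproj f T) (FGA.ET f F T) x}) :
    FlatFun.DimFibresLT n (PicF.XTproj (h ≫ f) T)
        {x | ¬ FlatMod.IsFlatOverAt (PicF.XTproj (h ≫ f) T) (FGA.ET (h ≫ f) ((Scheme.Modules.pullback h).obj F) T) x} := by
  let hT' : PicF.XT (h ≫ f) T ⟶ PicF.XT f T :=
    pullback.map (h ≫ f) T.hom f T.hom h (𝟙 _) (𝟙 _) (by simp) (by simp)
  have hfst : hT' ≫ pullback.fst f T.hom = pullback.fst (h ≫ f) T.hom ≫ h := by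
    simp only [hT', pullback.map]
    exact pullback.lift_fst _ _ _
  have hsnd : hT' ≫ pullback.snd f T.hom = pullback.snd (h ≫ f) T.hom := by
    simp only [hT', pullback.map]
    rw [pullback.lift_snd, Category.comp_id]
  have hpb : IsPullback hT' (pullback.fst (h ≫ f) T.hom) (pullback.fst f T.hom) h := by
    refine IsPullback.of_right ?_ hfst (IsPullback.of_hasPullback f T.hom).flip
    rw [hsnd]
    exact (IsPullback.of_hasPullback (h ≫ f) T.hom).flip
  have : Etale hT' := MorphismProperty.of_isPullback (P := @Etale) hpb.flip inferInstance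
  have : F.IsQuasicoherent := ‹Coh.IsQCoh F›
  have : (FGA.ET f F T).IsQuasicoherent :=
    Groth.Agent.Lib.Helper2.PullbackSec.isQuasicoherent_pullback _ F
  refine aux hT' (PicF.XTproj f T) (PicF.XTproj (h ≫ f) T) hsnd (FGA.ET f F T) _ ?_ n hT
  exact (Scheme.Modules.pullbackComp (pullback.fst (h ≫ f) T.hom) h).app F ≪≫
    (Scheme.Modules.pullbackCongr hfst.symm).app F ≪≫
    ((Scheme.Modules.pullbackComp hT' (pullback.fst f T.hom)).app F).symm

end Groth.Agent.S9027
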