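import Groth.Statements.S9035
import Groth.Agent.R2.H41CptAsm
import Groth.Agent.R2.H94CptCoyo
import Groth.Agent.R2.H41CptFinStep
import Groth.Agent.R2.H50CptFin
import Groth.Agent.R2.H50CptStupid
import Groth.Agent.R2.H52CptGoodSum
import Groth.Agent.R2.H52CptLift
import Groth.Agent.R2.H41Step
import Groth.Agent.R2.H50ResTower
import Groth.Agent.R2.H50ResColim

set_option autoImplicit false
universe v u
open CategoryTheory CategoryTheory.Limits Opposite
open CohDer

namespace Groth.Agent.S9035

/-- Let A be a Grothendieck abelian category and S a set of objects such that (1) every object of A is a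
quotient of a direct sum of members of S and (2) for every E in S the functor Hom(E, -)
(abelian-group valued) preserves direct sums. Then every compact object K of the derived category
D(A) is a retract in D(A) of the image of a bounded cochain complex whose terms are finite direct
sums of members of S. The derived category, the existence of direct sums in it, and the (automatic)
finite biproduct and direct sum structure of A are taken as instance hypotheses. -/
theorem result
    {A : Type u} [Category.{v} A] [Abelian A] [IsGrothendieckAbelian.{v} A] [HasCoproducts.{v} A] [HasFiniteBiproducts A]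
    [HasDerivedCategory.{v} A] [HasCoproducts.{v} (DerivedCategory A)]
    (S : Set A)
    (h1 : ∀ X : A, ∃ (ι : Type v) (E : ι → A) (π : ∐ E ⟶ X), (∀ i, E i ∈ S) ∧ Epi π)
    (h2 : ∀ E ∈ S, ∀ ι : Type v, PreservesColimitsOfShape (Discrete ι) (preadditiveCoyoneda.obj (op E)))
    (K : DerivedCategory A) (hK : CohDer.IsCompactObject K) :
    ∃ (L : CochainComplex A ℤ) (a b : ℤ),
      (∀ i : ℤ, i < a ∨ b < i → IsZero (L.X i)) ∧
      (∀ i : ℤ, ∃ (n : ℕ) (E : Fin n → A), (∀ j, E j ∈ S) ∧ Nonempty (L.X i ≅ ⨁ E)) ∧
      Nonempty (Retract K (DerivedCategory.Q.obj L)) := by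
  exact Groth.Agent.R2.H41.CptAsm.s9035_of Groth.Agent.R2.H52.CptGoodSum.pkgGoodSum
    (Groth.Agent.R2.H50.ResTower.pkgTower Groth.Agent.R2.H41.Step.pkgStep)
    Groth.Agent.R2.H50.ResColim.pkgColim Groth.Agent.R2.H52.CptLift.pkgLift
    Groth.Agent.R2.H50.CptStupid.pkgStupid
    (Groth.Agent.R2.H50.CptFin.pkgFin
      (Groth.Agent.R2.H41.CptFinStep.pkgFinStep Groth.Agent.R2.H94.CptCoyo.pkgCoyo))
    S h1 h2 K hK

end Groth.Agent.S9035
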