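import Groth.Statements.S9036
import Groth.Agent.R2.H41CptAsm2
import Groth.Agent.R2.H94CptCoyo
import Groth.Agent.R2.H41CptFinStep
import Groth.Agent.R2.H50CptFin
import Groth.Agent.R2.H50CptStupid
import Groth.Agent.R2.H52CptGoodSum
import Groth.Agent.R2.H52CptLift
import Groth.Agent.R2.H41Step
import Groth.Agent.R2.H50ResTower
import Groth.Agent.R2.H50ResColim
import Groth.Agent.R2.H41CptQcCompact
import Groth.Agent.R2.H94CptQcGen

set_option autoImplicit false
universe u
open CategoryTheory CategoryTheory.Limits Opposite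
open ModSite

namespace Groth.Agent.S9036

/-- Let (C, O) be a ringed site in which every object has a covering by quasi-compact objects (an object
U is called quasi-compact here when the sheaf h_U^# is a quasi-compact object of the topos, which is
equivalent to the site-level definition). Then every compact object of D(O) is a retract in D(O) of
the image of a bounded complex whose terms are finite direct sums of modules of the form j_{U!} O_U
with U quasi-compact. The derived category of O-modules, direct sums in it and finite biproducts of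
O-modules (automatic) are instance hypotheses. -/
theorem result
    {C : Type u} [SmallCategory C] {J : GrothendieckTopology C} (O : Sheaf J CommRingCat.{u})
    [HasFiniteBiproducts (ModSite.Mod O)]
    [HasDerivedCategory.{u} (ModSite.Mod O)] [HasCoproducts.{u} (DerivedCategory (ModSite.Mod O))]
    (hC : ∀ V : C, ∃ R ∈ J V, ∀ ⦃W : C⦄ (g : W ⟶ V), R g →
      ∃ (U : C) (a : W ⟶ U) (b : U ⟶ V), CohCx.IsQcObject ((presheafToSheaf J (Type u)).obj (yoneda.obj U)) ∧ a ≫ b = g)
    (K : DerivedCategory (ModSite.Mod O)) (hK : CohDer.IsCompactObject K) :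
    ∃ (L : CochainComplex (ModSite.Mod O) ℤ) (a b : ℤ),
      (∀ i : ℤ, i < a ∨ b < i → IsZero (L.X i)) ∧
      (∀ i : ℤ, ∃ (n : ℕ) (U : Fin n → C),
        (∀ j, CohCx.IsQcObject ((presheafToSheaf J (Type u)).obj (yoneda.obj (U j)))) ∧
        Nonempty (L.X i ≅ ⨁ fun j => ModSite.freeOn O (U j))) ∧
      Nonempty (Retract K (DerivedCategory.Q.obj L)) := by
  exact Groth.Agent.R2.H41.CptAsm2.s9036_of O Groth.Agent.R2.H52.CptGoodSum.pkgGoodSum
    (Groth.Agent.R2.H50.ResTower.pkgTower Groth.Agent.R2.H41.Step.pkgStep)
    Groth.Agent.R2.H50.ResColim.pkgColim Groth.Agent.R2.H52.CptLift.pkgLift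
    Groth.Agent.R2.H50.CptStupid.pkgStupid
    (Groth.Agent.R2.H50.CptFin.pkgFin
      (Groth.Agent.R2.H41.CptFinStep.pkgFinStep Groth.Agent.R2.H94.CptCoyo.pkgCoyo))
    Groth.Agent.R2.H94.CptCoyo.pkgCoyo Groth.Agent.R2.H41.CptQcCompact.pkgQcCompact
    Groth.Agent.R2.H94.CptQcGen.pkgQcGen hC K hK

end Groth.Agent.S9036
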