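import Groth.Statements.S9041
import Groth.Agent.Lib.Helper4ModEpi
import Groth.Agent.Lib.Helper21RetractFreeSite
import Groth.Agent.Lib.Helper21RestrColim
import Groth.Agent.Lib.Helper21RestrExact

set_option autoImplicit false
universe u
open CategoryTheory CategoryTheory.Limits Opposite
open ModSite

namespace Groth.Agent.S9041

open Groth.Agent.Lib.Helper21.RetractFreeSite

section aux

variable {C : Type u} [SmallCategory C] {J : GrothendieckTopology C} (O : Sheaf J CommRingCat.{u})

noncomputable def freeIso (W : C) (n : ℕ) :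
    (ModSite.restr O W).obj (F (ModSite.ringSh O) n) ≅ F (ModSite.ringSh (O.over W)) n :=
  PreservesCoproduct.iso (ModSite.restr O W)
    (fun _ : ULift.{u} (Fin n) => SheafOfModules.unit (ModSite.ringSh O))

theorem ι_freeIso_inv (W : C) (n : ℕ) (j : ULift.{u} (Fin n)) :
    ι (ModSite.ringSh (O.over W)) n j ≫ (freeIso O W n).inv =
      (ModSite.restr O W).map (ι (ModSite.ringSh O) n j) := by
  unfold freeIso
  exact ι_comp_sigmaComparison (ModSite.restr O W)
    (fun _ : ULift.{u} (Fin n) => SheafOfModules.unit (ModSite.ringSh O)) j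

theorem finset_inf_mem {ι : Type*} (V : C) (t : Finset ι) (f : ι → Sieve V)
    (h : ∀ j, f j ∈ J V) : t.inf f ∈ J V := by
  classical
  induction t using Finset.induction_on with
  | empty => rw [Finset.inf_empty]; exact J.top_mem V
  | insert a t _ ih => rw [Finset.inf_insert]; exact J.intersection_covering (h a) ih

end aux

theorem result
    {C : Type u} [SmallCategory C] {J : GrothendieckTopology C} (O : Sheaf J CommRingCat.{u})
    (E F G : ModSite.Mod O) (hE : DCoh.IsFinFreeSummandMod (ModSite.ringSh O) E)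
    (p : G ⟶ F) [Epi p] (φ : E ⟶ F) (V : C) :
    ∃ R ∈ J V, ∀ ⦃W : C⦄ (g : W ⟶ V), R g →
      ∃ l : (ModSite.restr O W).obj E ⟶ (ModSite.restr O W).obj G,
        l ≫ (ModSite.restr O W).map p = (ModSite.restr O W).map φ := by
  classical
  have hE' : ∃ (n : ℕ) (i : E ⟶ Groth.Agent.Lib.Helper21.RetractFreeSite.F (ModSite.ringSh O) n)
      (r : Groth.Agent.Lib.Helper21.RetractFreeSite.F (ModSite.ringSh O) n ⟶ E), i ≫ r = 𝟙 E := hE
  obtain ⟨n, i, r, hir⟩ := hE'
  let ψ : Groth.Agent.Lib.Helper21.RetractFreeSite.F (ModSite.ringSh O) n ⟶ F := r ≫ φ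
  have hp := Groth.Agent.Lib.Helper4.ModEpi.isLocallySurjective_of_epi p
  let s : ULift.{u} (Fin n) → F.val.obj (op V) := fun j =>
    ψ.val.app (op V) (e (ModSite.ringSh O) V n j)
  let R : Sieve V := Finset.univ.inf (fun j : ULift.{u} (Fin n) =>
    Presheaf.imageSieve ((PresheafOfModules.toPresheaf (ModSite.ringSh O).obj).map p.val) (s j))
  refine ⟨R, finset_inf_mem V _ _ (fun j => hp.imageSieve_mem (s j)), ?_⟩
  intro W g hg
  have hlift : ∀ j : ULift.{u} (Fin n), ∃ t : G.val.obj (op W),
      p.val.app (op W) t = F.val.map g.op (s j) := by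
    intro j
    have h1 : Presheaf.imageSieve
      ((PresheafOfModules.toPresheaf (ModSite.ringSh O).obj).map p.val) (s j) g :=
      (Finset.inf_le (Finset.mem_univ j) : R ≤ _) _ hg
    obtain ⟨t, ht⟩ := h1
    exact ⟨t, ht⟩
  choose t ht using hlift
  let T : Over W := Over.mk (𝟙 W)
  have hT : IsTerminal T := Over.mkIdTerminal
  let l' : Groth.Agent.Lib.Helper21.RetractFreeSite.F (ModSite.ringSh (O.over W)) n ⟶
      (ModSite.restr O W).obj G :=
    (homEquiv (ModSite.ringSh (O.over W)) hT n ((ModSite.restr O W).obj G)).symm (fun j => t j)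
  refine ⟨(ModSite.restr O W).map i ≫ (freeIso O W n).hom ≫ l', ?_⟩
  have key : l' ≫ (ModSite.restr O W).map p = (freeIso O W n).inv ≫ (ModSite.restr O W).map ψ := by
    apply (homEquiv (ModSite.ringSh (O.over W)) hT n ((ModSite.restr O W).obj F)).injective
    funext j
    rw [homEquiv_apply, homEquiv_apply, ← Category.assoc, ← Category.assoc, ι_freeIso_inv]
    have h1 : (ι (ModSite.ringSh (O.over W)) n j ≫ l').val.app (op T)
        (1 : (ModSite.ringSh (O.over W)).obj.obj (op T)) = t j :=
      congrFun ((homEquiv (ModSite.ringSh (O.over W)) hT n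
        ((ModSite.restr O W).obj G)).apply_symm_apply (fun j => t j)) j
    change p.val.app (op W) ((ι (ModSite.ringSh (O.over W)) n j ≫ l').val.app (op T)
        (1 : (ModSite.ringSh (O.over W)).obj.obj (op T))) =
      ψ.val.app (op W) ((ι (ModSite.ringSh O) n j).val.app (op W)
        (1 : (ModSite.ringSh O).obj.obj (op W)))
    rw [h1, ht j]
    change F.val.map g.op (ψ.val.app (op V) ((ι (ModSite.ringSh O) n j).val.app (op V)
        (1 : (ModSite.ringSh O).obj.obj (op V)))) = _
    have n1 := PresheafOfModules.naturality_apply ψ.val g.op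
      ((ι (ModSite.ringSh O) n j).val.app (op V) (1 : (ModSite.ringSh O).obj.obj (op V)))
    have n2 := PresheafOfModules.naturality_apply (ι (ModSite.ringSh O) n j).val g.op
      (1 : (ModSite.ringSh O).obj.obj (op V))
    refine n1.symm.trans ?_
    refine congrArg _ (n2.symm.trans ?_)
    refine congrArg _ ?_
    exact map_one ((ModSite.ringSh O).obj.map g.op).hom
  have hφ : φ = i ≫ ψ := by
    rw [← Category.assoc, hir, Category.id_comp]
  simp only [Category.assoc]
  rw [key, Iso.hom_inv_id_assoc, ← Functor.map_comp, ← hφ]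

end Groth.Agent.S9041
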