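import Groth.Statements.S9045
import Groth.Agent.R2.H41PullFree

set_option autoImplicit false
universe u
open CategoryTheory CategoryTheory.Limits Opposite
open ModSite

namespace Groth.Agent.S9045

/-- Let f be a morphism of ringed sites from (C, O_C) to (D, O_D) and E a strictly perfect complex of
O_D-modules (bounded, with each term a direct summand of a finite free module). Then f^* E, the
module pullback applied termwise, is a strictly perfect complex of O_C-modules. Stated for morphisms
of ringed sites; the published statement is for morphisms of ringed topoi. -/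
theorem result
    {C : Type u} [SmallCategory C] {J : GrothendieckTopology C} {O_C : Sheaf J CommRingCat.{u}}
    {D : Type u} [SmallCategory D] {K : GrothendieckTopology D} {O_D : Sheaf K CommRingCat.{u}}
    (f : ModSite.RMor O_C O_D) (E : CochainComplex (ModSite.Mod O_D) ℤ)
    (hE : DCoh.IsStrictlyPerfectMod (ModSite.ringSh O_D) E) :
    DCoh.IsStrictlyPerfectMod (ModSite.ringSh O_C) ((f.pull.mapHomologicalComplex (ComplexShape.up ℤ)).obj E) := by
  obtain ⟨⟨a, b, hab⟩, hfree⟩ := hE
  refine ⟨⟨a, b, fun i hi => ?_⟩, fun i => ?_⟩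
  · exact f.pull.map_isZero (hab i hi)
  · obtain ⟨n, ι, p, hιp⟩ := hfree i
    let e := Groth.Agent.R2.H41.PullFree.pullObjFreeIso f (ULift.{u} (Fin n))
    refine ⟨n, f.pull.map ι ≫ e.hom, e.inv ≫ f.pull.map p, ?_⟩
    change (f.pull.map ι ≫ e.hom) ≫ e.inv ≫ f.pull.map p = 𝟙 (f.pull.obj (E.X i))
    rw [Category.assoc, Iso.hom_inv_id_assoc, ← Functor.map_comp, hιp, CategoryTheory.Functor.map_id]

end Groth.Agent.S9045
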