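import Groth.Statements.S9119
import Groth.Agent.R2.H41ConstSec

set_option autoImplicit false
universe u
open CategoryTheory Opposite
open CohSite

namespace Groth.Agent.S9119

open Groth.Agent.R2.H41.ConstSec

/-- Let Λ be a coherent commutative ring, i.e. every finitely generated ideal of Λ is finitely presented
as a Λ-module, and let M be a flat Λ-module. Then for every object U the Λ-module M̲(U) of sections
over U of the constant sheaf on M is flat. -/
theorem result {C : Type u} [SmallCategory C] (J : GrothendieckTopology C)
    (Λ : Type u) [CommRing Λ] (hΛ : ∀ I : Ideal Λ, I.FG → Module.FinitePresentation Λ I)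
    (M : Type u) [AddCommGroup M] [Module Λ M] [Module.Flat Λ M] (U : C) :
    Module.Flat Λ (((constantSheaf J (ModuleCat.{u} Λ)).obj (ModuleCat.of Λ M)).obj.obj (op U)) := by
  rw [Module.Flat.iff_lTensor_injective]
  intro I hI
  have := hΛ I hI
  have hnat := comp_natural J Λ U M I.subtype
  have hmono : Mono (tmap Λ M I.subtype) :=
    (ModuleCat.mono_iff_injective _).2
      (Module.Flat.lTensor_preserves_injective_linearMap _ Subtype.val_injective)
  have hmono' : Mono ((G J Λ U).map (tmap Λ M I.subtype)) := inferInstance
  have hinj : Function.Injective ((G J Λ U).map (tmap Λ M I.subtype)).hom :=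
    (ModuleCat.mono_iff_injective _).1 hmono'
  have h2 : Function.Injective ((comp J Λ U M Λ).comp (LinearMap.lTensor _ I.subtype)) := by
    rw [hnat]
    exact hinj.comp (comp_bijective J Λ U M I).1
  exact Function.Injective.of_comp h2

end Groth.Agent.S9119
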