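import Groth.Statements.S9132
import Mathlib

set_option autoImplicit false
set_option linter.style.haveILetI false
universe u
open CAlg

namespace Groth.Agent.S9132

/-- A Noetherian local domain R that is not a field is dominated by a Noetherian local ring R' of
dimension one lying between R and its fraction field, with R' essentially of finite type over R. -/
theorem result (R : Type u) [CommRing R] [IsDomain R]
    [IsNoetherianRing R] [IsLocalRing R] (hR : ¬ IsField R) :
    ∃ R' : Subalgebra R (FractionRing R), ∃ _ : IsLocalRing R',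
      IsNoetherianRing R' ∧ ringKrullDim R' = 1 ∧ IsLocalHom (algebraMap R R') ∧
        Algebra.EssFiniteType R R' := by
  classical
  -- a valuation ring of the fraction field dominating `R`
  obtain ⟨V, hV, hloc⟩ := IsLocalRing.exists_factor_valuationRing (algebraMap R (FractionRing R))
  have hinjK : Function.Injective (algebraMap R (FractionRing R)) :=
    IsFractionRing.injective R (FractionRing R)
  -- generators of the maximal ideal
  obtain ⟨s, hs⟩ := (IsNoetherian.noetherian (IsLocalRing.maximalIdeal R) :
    (IsLocalRing.maximalIdeal R).FG)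
  have hm : IsLocalRing.maximalIdeal R ≠ ⊥ :=
    fun h => hR (IsLocalRing.isField_iff_maximalIdeal_eq.2 h)
  have hs0 : ∃ y ∈ s, y ≠ 0 := by
    by_contra hcon
    push Not at hcon
    apply hm
    rw [← hs, Ideal.span_eq_bot]
    exact fun y hy => hcon y hy
  obtain ⟨y, hys, hy0⟩ := hs0
  obtain ⟨x₀, hx₀s, hmax⟩ := Finset.exists_max_image s
    (fun x => V.valuation (algebraMap R (FractionRing R) x)) ⟨y, hys⟩
  have hx₀ : x₀ ≠ 0 := by
    intro h0
    have h1 := hmax y hys
    rw [h0, map_zero, map_zero] at h1
    have h2 : V.valuation (algebraMap R (FractionRing R) y) = 0 := le_antisymm h1 zero_le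
    rw [map_eq_zero] at h2
    exact hy0 (hinjK (h2.trans (map_zero _).symm))
  have hx₀K : algebraMap R (FractionRing R) x₀ ≠ 0 := fun h => hx₀ (hinjK (h.trans (map_zero _).symm))
  -- the ring `S = R[x / x₀ : x ∈ s]`
  set K := FractionRing R with hK
  let gen : Set K := (fun x => algebraMap R K x / algebraMap R K x₀) '' (s : Set R)
  let S : Subalgebra R K := Algebra.adjoin R gen
  have hSV : ∀ z ∈ S, z ∈ V := by
    intro z hz
    induction hz using Algebra.adjoin_induction with
    | mem z hz =>
      obtain ⟨x, hx, rfl⟩ := hz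
      rw [← ValuationSubring.valuation_le_one_iff, map_div₀]
      exact div_le_one_of_le₀ (hmax x hx) zero_le
    | algebraMap r => exact hV r
    | add a b _ _ ha hb => exact V.add_mem _ _ ha hb
    | mul a b _ _ ha hb => exact V.mul_mem _ _ ha hb
  haveI hft : Algebra.FiniteType R S := by
    rw [← Subalgebra.fg_iff_finiteType]
    exact ⟨(s.image (fun x => algebraMap R K x / algebraMap R K x₀)), by simp [S, gen]⟩
  haveI : IsNoetherianRing S := Algebra.FiniteType.isNoetherianRing R S
  -- the element `x₀` of `S`
  let x₀' : S := algebraMap R S x₀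
  have hx₀'val : (x₀' : K) = algebraMap R K x₀ := rfl
  have hx₀'0 : x₀' ≠ 0 := by
    intro h
    apply hx₀K
    rw [← hx₀'val, h]; rfl
  have hx₀'nu : ¬ IsUnit x₀' := by
    intro hu
    obtain ⟨⟨w, hw⟩, hw1⟩ := isUnit_iff_exists_inv.1 hu
    have hw1' : algebraMap R K x₀ * w = 1 := congrArg Subtype.val hw1
    have hx₀m : x₀ ∈ IsLocalRing.maximalIdeal R := hs ▸ Ideal.subset_span hx₀s
    have hu' : IsUnit ((algebraMap R K).codRestrict V.toSubring hV x₀) :=
      isUnit_iff_exists_inv.2 ⟨⟨w, hSV w hw⟩, Subtype.ext hw1'⟩
    exact hx₀m (hloc.map_nonunit x₀ hu')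
  -- `m S = x₀ S`
  have hmS : ∀ r ∈ IsLocalRing.maximalIdeal R, algebraMap R S r ∈ Ideal.span {x₀'} := by
    intro r hr
    rw [← hs] at hr
    induction hr using Submodule.span_induction with
    | mem x hx =>
      have hq : algebraMap R K x / algebraMap R K x₀ ∈ S :=
        Algebra.subset_adjoin ⟨x, hx, rfl⟩
      have : algebraMap R S x = ⟨_, hq⟩ * x₀' := by
        apply Subtype.ext
        change algebraMap R K x = algebraMap R K x / algebraMap R K x₀ * algebraMap R K x₀
        rw [div_mul_cancel₀ _ hx₀K]
      rw [this]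
      exact Ideal.mul_mem_left _ _ (Ideal.subset_span rfl)
    | zero => rw [map_zero]; exact zero_mem _
    | add a b _ _ ha hb => rw [map_add]; exact add_mem ha hb
    | smul a b _ hb => rw [smul_eq_mul, map_mul]; exact Ideal.mul_mem_left _ _ hb
  -- a minimal prime over `x₀ S`
  have hne : Ideal.span {x₀'} ≠ ⊤ := by
    rw [Ne, Ideal.span_singleton_eq_top]; exact hx₀'nu
  obtain ⟨q, hq⟩ := Ideal.nonempty_minimalPrimes hne
  haveI hqp : q.IsPrime := hq.1.1
  have hx₀q : x₀' ∈ q := hq.1.2 (Ideal.subset_span rfl)
  have hht : q.height = 1 := by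
    apply le_antisymm
    · exact Ideal.height_le_one_of_isPrincipal_of_mem_minimalPrimes (Ideal.span {x₀'}) q hq
    · rw [← Ideal.height_span_singleton_eq_one_of_mem_nonZeroDivisors
        (mem_nonZeroDivisors_of_ne_zero hx₀'0) hx₀'nu]
      exact Ideal.height_mono hq.1.2
  -- the localization `L = S_q` and its embedding into `K`
  let L := Localization.AtPrime q
  have hunit : ∀ y : q.primeCompl, IsUnit (S.val (y : S)) := by
    intro y
    apply IsUnit.mk0
    intro h0
    have : (y : S) = 0 := Subtype.ext h0
    exact y.2 (this ▸ q.zero_mem)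
  let ψ : L →ₐ[R] K := IsLocalization.liftAlgHom (M := q.primeCompl) (f := S.val) hunit
  have hψinj : Function.Injective ψ := by
    have hle : q.primeCompl ≤ nonZeroDivisors S := by
      intro y hy
      exact mem_nonZeroDivisors_of_ne_zero (fun h0 => hy (h0 ▸ q.zero_mem))
    change Function.Injective (IsLocalization.lift hunit)
    rw [IsLocalization.lift_injective_iff]
    intro a b
    rw [(IsLocalization.injective L hle).eq_iff]
    exact ⟨fun h => congrArg _ h, fun h => Subtype.ext h⟩
  let e : L ≃ₐ[R] ψ.range := AlgEquiv.ofInjective ψ hψinj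
  haveI : IsLocalRing ψ.range := e.toRingEquiv.isLocalRing
  refine ⟨ψ.range, inferInstance, ?_, ?_, ?_, ?_⟩
  · exact isNoetherianRing_of_ringEquiv L e.toRingEquiv
  · rw [← ringKrullDim_eq_of_ringEquiv e.toRingEquiv,
      IsLocalization.AtPrime.ringKrullDim_eq_height q L, hht]
    rfl
  · constructor
    intro r hr
    by_contra hnu
    have hrm : r ∈ IsLocalRing.maximalIdeal R := hnu
    have h1 : algebraMap R S r ∈ q := hq.1.2 (hmS r hrm)
    have h2 : algebraMap R ψ.range r = e (algebraMap S L (algebraMap R S r)) := by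
      rw [← IsScalarTower.algebraMap_apply R S L, AlgEquiv.commutes]
    rw [h2] at hr
    have h3 : IsUnit (algebraMap S L (algebraMap R S r)) := by
      have := hr.map e.symm
      simpa using this
    rw [IsLocalization.AtPrime.isUnit_to_map_iff L q] at h3
    exact h3 h1
  · haveI : Algebra.EssFiniteType R L := inferInstance
    exact (Algebra.EssFiniteType.iff_of_algEquiv (R := R) (S := L) (T := ψ.range) e).1 inferInstance

end Groth.Agent.S9132
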