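import Groth.Statements.S9146
import Groth.Agent.R2.H41SyntLoc

set_option autoImplicit false
universe u
open Synt

namespace Groth.Agent.S9146

open TensorProduct Groth.Agent.R2.H41.SyntLoc

/-- Being syntomic is local on the target ring: if finitely many elements of S generating the unit ideal
have syntomic localizations R → S_g, then R → S is syntomic. -/
theorem result (R S : Type u) [CommRing R] [CommRing S] [Algebra R S]
    (s : Finset S) (hs : Ideal.span (s : Set S) = ⊤)
    (h : ∀ g ∈ s, Synt.IsSyntomic R (Localization.Away g)) : Synt.IsSyntomic R S := by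
  have hflat : Module.Flat R S := by
    have := RingHom.Flat.ofLocalizationSpanTarget (algebraMap R S) (s : Set S) hs (fun r => by
      rw [← IsScalarTower.algebraMap_eq R S (Localization.Away (r : S))]
      exact RingHom.flat_algebraMap_iff.mpr (h r.1 r.2).1)
    exact RingHom.flat_algebraMap_iff.mp this
  have hfp : Algebra.FinitePresentation R S := by
    have := RingHom.finitePresentation_ofLocalizationSpanTarget (algebraMap R S) (s : Set S) hs
      (fun r => by
        rw [← IsScalarTower.algebraMap_eq R S (Localization.Away (r : S))]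
        exact RingHom.finitePresentation_algebraMap.mpr (h r.1 r.2).2.1)
    exact RingHom.finitePresentation_algebraMap.mp this
  refine ⟨hflat, hfp, fun p => ?_⟩
  refine ⟨inferInstance, fun q => ?_⟩
  have hex : ∃ g ∈ s, ((1 : p.asIdeal.ResidueField) ⊗ₜ[R] g :
      p.asIdeal.ResidueField ⊗[R] S) ∉ q.asIdeal := by
    by_contra hcon
    push Not at hcon
    have h1 : Ideal.map (Algebra.TensorProduct.includeRight :
        S →ₐ[R] p.asIdeal.ResidueField ⊗[R] S) (Ideal.span (s : Set S)) ≤ q.asIdeal := by
      rw [Ideal.map_span, Ideal.span_le]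
      rintro _ ⟨g, hg, rfl⟩
      exact hcon g hg
    rw [hs, Ideal.map_top] at h1
    exact q.2.ne_top (top_le_iff.mp h1)
  obtain ⟨g, hg, hgq⟩ := hex
  let _ : Algebra (p.asIdeal.ResidueField ⊗[R] S)
      (p.asIdeal.ResidueField ⊗[R] Localization.Away g) :=
    (Algebra.TensorProduct.map (AlgHom.id R p.asIdeal.ResidueField)
      (IsScalarTower.toAlgHom R S (Localization.Away g))).toAlgebra
  have : IsScalarTower p.asIdeal.ResidueField (p.asIdeal.ResidueField ⊗[R] S)
      (p.asIdeal.ResidueField ⊗[R] Localization.Away g) :=
    .of_algebraMap_eq (by intro; simp [RingHom.algebraMap_toAlgebra])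
  have : IsLocalization.Away ((1 : p.asIdeal.ResidueField) ⊗ₜ[R] g)
      (p.asIdeal.ResidueField ⊗[R] Localization.Away g) := by
    have := IsLocalization.tensorProduct_tensorProduct_right R p.asIdeal.ResidueField
      (Submonoid.powers g) (Localization.Away g) (by ext; simp [RingHom.algebraMap_toAlgebra])
    simpa only [Submonoid.map_powers, Algebra.TensorProduct.includeRight_apply] using this
  exact exists_isGlobalCI_away_of_isLCIOver ((1 : p.asIdeal.ResidueField) ⊗ₜ[R] g)
    ((h g hg).2.2 p) q.asIdeal hgq

end Groth.Agent.S9146
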