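import Groth.Statements.S9147
import Groth.Agent.R2.H42RelGCIFlat

set_option linter.style.haveILetI false

set_option autoImplicit false
universe u
open Synt

namespace Groth.Agent.S9147

open TensorProduct

theorem isLCIOver_of_presentation (κ : Type u) [Field κ] (B : Type u) [CommRing B] [Algebra κ B]
    (n c : ℕ)
    (hB : Nontrivial B → c ≤ n ∧ ringKrullDim B = ((n - c : ℕ) : WithBot ℕ∞))
    (π : MvPolynomial (Fin n) κ →ₐ[κ] B) (hπ : Function.Surjective π)
    (G : Fin c → MvPolynomial (Fin n) κ) (hker : RingHom.ker π = Ideal.span (Set.range G)) :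
    Synt.IsLCIOver κ B := by
  refine ⟨Algebra.FiniteType.of_surjective π hπ, fun P => ?_⟩
  obtain ⟨hcn, hdim⟩ := hB P.nontrivial
  refine ⟨1, fun h => P.2.ne_top ((Ideal.eq_top_iff_one _).mpr h), Or.inr ?_⟩
  let e : B ≃ₐ[κ] Localization.Away (1 : B) :=
    (IsLocalization.atOne B (Localization.Away (1 : B))).restrictScalars κ
  refine ⟨n, c, hcn, e.toAlgHom.comp π, G, e.surjective.comp hπ, ?_, ?_⟩
  · rw [← hker]
    ext x
    change e (π x) = 0 ↔ π x = 0
    exact map_eq_zero_iff e e.injective
  · rw [← ringKrullDim_eq_of_ringEquiv e.toRingEquiv, hdim]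


/-- A relative global complete intersection over a ring R is syntomic over R, in particular flat. -/
theorem result (R : Type u) [CommRing R] (n c : ℕ) (F : Fin c → MvPolynomial (Fin n) R)
    (h : Synt.IsRelGCI R n c F) : Synt.IsSyntomic R (Synt.RelGCIRing R n c F) := by
  refine ⟨Groth.Agent.R2.H42.RelGCIFlat.flat_of_isRelGCI R n c F h, ?_, fun p => ?_⟩
  · exact Algebra.FinitePresentation.quotient (Submodule.fg_span (Set.finite_range F))
  · obtain ⟨π, hπ, hker⟩ := Groth.Agent.S9366.fibre_presentation R p.asIdeal.ResidueField n c F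
    exact isLCIOver_of_presentation p.asIdeal.ResidueField _ n c (fun hnt => h p hnt) π hπ _ hker

end Groth.Agent.S9147
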