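import Groth.Statements.S9149
import Groth.Agent.R2.H41SyntSplit

set_option autoImplicit false
universe u

namespace Groth.Agent.S9149

open Groth.Agent.R2.H41.SyntSplit

open Polynomial in
/-- A monic polynomial over a ring A splits into linear factors over some A-algebra A' that is syntomic,
finite free and faithfully flat over A. -/
theorem result (A : Type u) [CommRing A] (P : A[X]) (hP : P.Monic) :
    ∃ (A' : Type u) (_ : CommRing A') (_ : Algebra A A'),
      Synt.IsSyntomic A A' ∧ Module.Finite A A' ∧ Module.Free A A' ∧ Module.FaithfullyFlat A A' ∧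
        ∃ s : Multiset A', P.map (algebraMap A A') = (s.map fun b => X - C b).prod := by
  rcases subsingleton_or_nontrivial A with hA | hA
  · have hg := Good.refl A
    exact ⟨A, inferInstance, inferInstance, hg.isSyntomic, hg.finite, hg.free, hg.ff, 0,
      Subsingleton.elim _ _⟩
  · obtain ⟨S, _, _, _, hg, hS⟩ := exists_good_splits hP
    refine ⟨S, inferInstance, inferInstance, hg.isSyntomic, hg.finite, hg.free, hg.ff, ?_⟩
    obtain ⟨m, hm⟩ := splits_iff_exists_multiset.mp hS
    refine ⟨m, ?_⟩
    rw [hm, (hP.map _).leadingCoeff, C_1, one_mul]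

end Groth.Agent.S9149
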