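import Groth.Statements.S9166
import Groth.Agent.Lib.Helper3FibreFree
import Groth.Agent.Lib.Helper2GenFree
-- import your own Groth.Agent.* helpers here

set_option autoImplicit false
universe u
open CAlg

namespace Groth.Agent.S9166

/-- Let I be an ideal of a ring R, S → S' a surjective homomorphism of R-algebras with S of finite type
and S' of finite presentation over R, and q a prime of S containing IS. Assume S'_q is flat over R
and that S_q/IS_q → S'_q/IS'_q is an isomorphism, which for a surjection says: every element of the
kernel of S → S' maps into I·S_q. Then for some g ∉ q the localized map S_g → S'_g is bijective. -/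
theorem result (R S S' : Type u) [CommRing R] [CommRing S]
    [CommRing S'] [Algebra R S] [Algebra R S'] [Algebra.FiniteType R S] [Algebra.FinitePresentation R S']
    (I : Ideal R) (f : S →ₐ[R] S') (hf : Function.Surjective f) (q : Ideal S) [q.IsPrime]
    (hq : I.map (algebraMap R S) ≤ q)
    (hker : ∀ j : S, f j = 0 →
      algebraMap S (Localization.AtPrime q) j ∈ I.map (algebraMap R (Localization.AtPrime q)))
    (hflat : letI : Module S S' := f.toRingHom.toModule
      Module.Flat R (LocalizedModule q.primeCompl S')) :
    ∃ g : S, g ∉ q ∧ Function.Bijective (Localization.awayMap f.toRingHom g) := by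
  classical
  letI : Module S S' := f.toRingHom.toModule
  haveI : Module.Flat R (LocalizedModule q.primeCompl S') := hflat
  have hsmul : ∀ (s : S) (x : S'), s • x = f s * x := fun s x => rfl
  -- the kernel of `f` is finitely generated
  have hJfg : (RingHom.ker f.toRingHom).FG := by
    obtain ⟨n, φ, hφ⟩ := Algebra.FiniteType.iff_quotient_mvPolynomial''.mp
      (inferInstance : Algebra.FiniteType R S)
    have h1 : (RingHom.ker (f.comp φ).toRingHom).FG :=
      Algebra.FinitePresentation.ker_fG_of_surjective (f.comp φ) (hf.comp hφ)
    have h2 : RingHom.ker f.toRingHom = (RingHom.ker (f.comp φ).toRingHom).map φ.toRingHom := by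
      have : RingHom.ker (f.comp φ).toRingHom = (RingHom.ker f.toRingHom).comap φ.toRingHom := by
        ext x; simp [RingHom.mem_ker]
      rw [this, Ideal.map_comap_of_surjective φ.toRingHom hφ]
    rw [h2]
    exact h1.map _
  -- the `S`-linear map underlying `f`
  let fS : S →ₗ[S] S' :=
    { toFun := f
      map_add' := map_add f
      map_smul' := fun s x => by simp [hsmul] }
  let ψS : Localization.AtPrime q →ₗ[S] LocalizedModule q.primeCompl S' :=
    IsLocalizedModule.map q.primeCompl (Algebra.linearMap S (Localization.AtPrime q))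
      (LocalizedModule.mkLinearMap q.primeCompl S') fS
  let ψ : Localization.AtPrime q →ₗ[R] LocalizedModule q.primeCompl S' := ψS.restrictScalars R
  have hψ_mk : ∀ (s : S) (t : q.primeCompl),
      ψ (IsLocalization.mk' (Localization.AtPrime q) s t) = LocalizedModule.mk (f s) t := by
    intro s t
    change ψS _ = _
    rw [IsLocalization.mk'_eq_mk', IsLocalizedModule.map_mk', ← IsLocalizedModule.mk_eq_mk']
    rfl
  have hψ_surj : Function.Surjective ψ := by
    intro y
    induction y using LocalizedModule.induction_on with
    | h x t =>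
      obtain ⟨s, rfl⟩ := hf x
      exact ⟨_, hψ_mk s t⟩
  set J : Ideal S := RingHom.ker f.toRingHom with hJ
  set N' : Ideal (Localization.AtPrime q) := J.map (algebraMap S (Localization.AtPrime q)) with hN'
  have hker_ψ : ∀ x, ψ x = 0 → x ∈ N' := by
    intro x hx
    obtain ⟨s, t, rfl⟩ := IsLocalization.exists_mk'_eq q.primeCompl x
    rw [hψ_mk, Groth.Agent.Lib.Helper2.GenFree.localizedModule_mk_eq_zero] at hx
    obtain ⟨u, hu⟩ := hx
    have huJ : (u : S) * s ∈ J := by
      rw [hJ, RingHom.mem_ker]
      change f (u * s) = 0
      rw [map_mul]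
      exact hu
    have : IsLocalization.mk' (Localization.AtPrime q) s t =
        algebraMap S (Localization.AtPrime q) ((u : S) * s) *
          IsLocalization.mk' (Localization.AtPrime q) 1 (u * t) := by
      rw [IsLocalization.mul_mk'_eq_mk'_of_mul, mul_one]
      refine IsLocalization.mk'_eq_of_eq ?_
      push_cast
      ring
    rw [this]
    exact Ideal.mul_mem_right _ _ (Ideal.mem_map_of_mem _ huJ)
  have hle : N' ≤ IsLocalRing.maximalIdeal (Localization.AtPrime q) • N' := by
    rw [hN', Ideal.map_le_iff_le_comap]
    intro j hj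
    rw [Ideal.mem_comap]
    have hfj : f j = 0 := hj
    have hx0 : ψ (algebraMap S (Localization.AtPrime q) j) = 0 := by
      rw [← IsLocalization.mk'_one (M := q.primeCompl) (Localization.AtPrime q) j, hψ_mk, hfj]
      exact LocalizedModule.zero_mk _
    have hxI : algebraMap S (Localization.AtPrime q) j ∈
        (I • ⊤ : Submodule R (Localization.AtPrime q)) := by
      rw [Ideal.smul_top_eq_map]
      exact hker j hfj
    have hA := Groth.Agent.Lib.Helper3.FibreFree.mem_smul_ker_of_flat ψ hψ_surj I hxI hx0
    have hle' : I • LinearMap.ker ψ ≤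
        (IsLocalRing.maximalIdeal (Localization.AtPrime q) • N').restrictScalars R := by
      rw [Submodule.smul_le]
      intro a ha n hn
      change a • n ∈ IsLocalRing.maximalIdeal (Localization.AtPrime q) • N'
      rw [Algebra.smul_def]
      refine Submodule.smul_mem_smul ?_ (hker_ψ n hn)
      rw [IsScalarTower.algebraMap_apply R S (Localization.AtPrime q),
        IsLocalization.AtPrime.to_map_mem_maximal_iff (Localization.AtPrime q) q]
      exact hq (Ideal.mem_map_of_mem _ ha)
    exact hle' hA
  have hN'bot : N' = ⊥ :=
    Submodule.eq_bot_of_le_smul_of_le_jacobson_bot _ N' (hJfg.map _) hle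
      (IsLocalRing.maximalIdeal_le_jacobson ⊥)
  have hann : ∀ j ∈ J, ∃ m : q.primeCompl, (m : S) * j = 0 := by
    intro j hj
    have : algebraMap S (Localization.AtPrime q) j ∈ N' := Ideal.mem_map_of_mem _ hj
    rw [hN'bot, Ideal.mem_bot] at this
    exact (IsLocalization.map_eq_zero_iff q.primeCompl (Localization.AtPrime q) j).mp this
  obtain ⟨T, hT⟩ := hJfg
  choose! m hm using hann
  have hTJ : ∀ j ∈ T, j ∈ J := fun j hj => by
    rw [← hT]; exact Ideal.subset_span hj
  have hkill : ∀ a ∈ Ideal.span (T : Set S), (∏ j ∈ T, (m j : S)) * a = 0 := by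
    intro a haJ
    induction haJ using Submodule.span_induction with
    | mem x hx =>
      rw [← Finset.mul_prod_erase T _ hx, mul_right_comm, hm x (hTJ x hx), zero_mul]
    | zero => simp
    | add x y _ _ hx hy => rw [mul_add, hx, hy, add_zero]
    | smul c x _ hx => rw [smul_eq_mul, mul_left_comm, hx, mul_zero]
  refine ⟨∏ j ∈ T, (m j : S), ?_, ?_, ?_⟩
  · have : (∏ j ∈ T, (m j : S)) ∈ q.primeCompl := prod_mem fun j _ => (m j).2
    exact this
  · rw [Localization.awayMap_injective_iff]
    intro a ha
    refine ⟨1, ?_⟩
    rw [pow_one]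
    exact hkill a (by rw [hT]; exact ha)
  · rw [Localization.awayMap_surjective_iff]
    intro a
    obtain ⟨b, hb⟩ := hf a
    exact ⟨b, 0, by simpa using hb⟩

end Groth.Agent.S9166
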