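import Groth.Statements.S9170
import Groth.Agent.R2.H42RelGCIFlat

set_option linter.style.haveILetI false

set_option autoImplicit false
universe u
open Synt

namespace Groth.Agent.S9170

open Groth.Agent.R2.H42.RelGCIFlat Groth.Agent.R2.H42.RelGCIReg Groth.Agent.R2.H42.FibReg

theorem map_span_castLE {B L : Type u} [CommRing B] [CommRing L] (φ : B →+* L) {c : ℕ}
    (F : Fin c → B) (i : ℕ) (hi : i ≤ c) :
    (Ideal.span (Set.range fun j : Fin i => F (Fin.castLE hi j))).map φ =
      Ideal.ofList (((List.ofFn F).take i).map φ) := by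
  rw [Ideal.map_span, Ideal.ofList]
  congr 1
  ext x
  simp only [Set.mem_image, Set.mem_range, Set.mem_ofPred_eq, List.mem_map]
  constructor
  · rintro ⟨_, ⟨j, rfl⟩, rfl⟩
    refine ⟨F (Fin.castLE hi j), ?_, rfl⟩
    rw [List.mem_take_iff_getElem]
    refine ⟨j, ?_, ?_⟩
    · rw [lt_min_iff, List.length_ofFn]
      exact ⟨j.2, lt_of_lt_of_le j.2 hi⟩
    · simp only [List.getElem_ofFn]
      rfl
  · rintro ⟨y, hy, rfl⟩
    rw [List.mem_take_iff_getElem] at hy
    obtain ⟨k, hk, rfl⟩ := hy
    have hk' := lt_min_iff.mp hk
    refine ⟨_, ⟨⟨k, hk'.1⟩, rfl⟩, ?_⟩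
    simp


/-- For a relative global complete intersection S = R[x_1, …, x_n]/(f_1, …, f_c) over a ring R and a
prime q' of the polynomial ring containing the ideal (f_1, …, f_c): (1) f_1, …, f_c is a regular
sequence in the localization R[x]_{q'} (a local ring); (2) every quotient R[x]_{q'}/(f_1, …, f_i) is
flat over R; (3) the conormal module (f)/(f)² is free over S with basis the classes of the f_i
(stated as: these classes are linearly independent over S and span). -/
theorem result (R : Type u) [CommRing R] (n c : ℕ)
    (F : Fin c → MvPolynomial (Fin n) R) (h : Synt.IsRelGCI R n c F)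
    (q' : Ideal (MvPolynomial (Fin n) R)) [q'.IsPrime] (hq' : Ideal.span (Set.range F) ≤ q') :
    RingTheory.Sequence.IsRegular (Localization.AtPrime q')
        ((List.ofFn F).map (algebraMap (MvPolynomial (Fin n) R) (Localization.AtPrime q'))) ∧
      (∀ i ≤ c, Module.Flat R (Localization.AtPrime q' ⧸ Ideal.ofList
        (((List.ofFn F).take i).map (algebraMap (MvPolynomial (Fin n) R) (Localization.AtPrime q'))))) ∧
      LinearIndependent (Synt.RelGCIRing R n c F)
        (fun i : Fin c => (Ideal.span (Set.range F)).toCotangent ⟨F i, Ideal.subset_span (Set.mem_range_self i)⟩) ∧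
      Submodule.span (Synt.RelGCIRing R n c F) (Set.range
        (fun i : Fin c => (Ideal.span (Set.range F)).toCotangent ⟨F i, Ideal.subset_span (Set.mem_range_self i)⟩)) = ⊤ := by
  have hreg := regAt_of_isRelGCI R n c F h q' hq'
  refine ⟨?_, ?_, ?_, ?_⟩
  · -- (1) regular sequence
    have hw := isWeaklyRegular_of_regAt q' F hreg
    have hlist : (List.ofFn F).map (algebraMap (MvPolynomial (Fin n) R) (Localization.AtPrime q')) =
        List.ofFn (fun i => algebraMap (MvPolynomial (Fin n) R) (Localization.AtPrime q') (F i)) := by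
      rw [List.map_ofFn]
      rfl
    rw [hlist]
    refine ⟨hw, ?_⟩
    rw [smul_eq_mul, Ideal.mul_top]
    intro htop
    have hle : Ideal.ofList (List.ofFn fun i =>
        algebraMap (MvPolynomial (Fin n) R) (Localization.AtPrime q') (F i)) ≤
        IsLocalRing.maximalIdeal (Localization.AtPrime q') := by
      rw [Ideal.span_le]
      intro x hx
      rw [Set.mem_ofPred_eq, List.mem_ofFn] at hx
      obtain ⟨i, rfl⟩ := hx
      rw [SetLike.mem_coe,
        IsLocalization.AtPrime.to_map_mem_maximal_iff (Localization.AtPrime q') q']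
      exact hq' (Ideal.subset_span ⟨i, rfl⟩)
    exact (IsLocalRing.maximalIdeal.isMaximal _).ne_top (top_le_iff.mp (htop ▸ hle))
  · -- (2) flat quotients
    intro i hi
    have h1 := flat_localized_quotient R n c F h q' hq' i hi
    have h2 := flat_localization_quotient_of_flatLocQuot R (MvPolynomial (Fin n) R) q' _ h1
    rw [map_span_castLE] at h2
    exact h2
  · -- (3) linear independence
    rw [Fintype.linearIndependent_iff]
    intro g hg i
    choose a ha using fun j => Ideal.Quotient.mk_surjective (g j)
    have hsm : ∀ j, g j • (Ideal.span (Set.range F)).toCotangent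
        ⟨F j, Ideal.subset_span (Set.mem_range_self j)⟩ =
        (Ideal.span (Set.range F)).toCotangent
          (a j • (⟨F j, Ideal.subset_span (Set.mem_range_self j)⟩ : Ideal.span (Set.range F))) := by
      intro j
      rw [← ha j, map_smul]
      rfl
    simp only [hsm] at hg
    rw [← map_sum, Ideal.toCotangent_eq_zero] at hg
    have hsum : ∑ j, a j * F j ∈ Ideal.span (Set.range F) ^ 2 := by
      convert hg using 1
      simp
    have hai := coeff_mem_of_sum_mem_sq F
      (fun Q _ hQ => regAt_of_isRelGCI R n c F h Q hQ) a hsum i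
    rw [← ha i]
    exact Ideal.Quotient.eq_zero_iff_mem.mpr hai
  · -- (4) span
    rw [eq_top_iff]
    intro y _
    obtain ⟨x, rfl⟩ := Ideal.toCotangent_surjective _ y
    obtain ⟨x, hx⟩ := x
    obtain ⟨a, rfl⟩ := (Ideal.mem_span_range_iff_exists_fun).mp hx
    have hx' : (⟨∑ j, a j * F j, hx⟩ : Ideal.span (Set.range F)) =
        ∑ j, a j • (⟨F j, Ideal.subset_span (Set.mem_range_self j)⟩ :
          Ideal.span (Set.range F)) := by
      ext
      simp
    rw [hx', map_sum]
    refine Submodule.sum_mem _ fun j _ => ?_
    rw [map_smul]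
    have : a j • (Ideal.span (Set.range F)).toCotangent
        ⟨F j, Ideal.subset_span (Set.mem_range_self j)⟩ =
        (Ideal.Quotient.mk (Ideal.span (Set.range F)) (a j)) •
          (Ideal.span (Set.range F)).toCotangent
            ⟨F j, Ideal.subset_span (Set.mem_range_self j)⟩ := rfl
    rw [this]
    exact Submodule.smul_mem _ _ (Submodule.subset_span ⟨j, rfl⟩)

end Groth.Agent.S9170
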