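import Groth.Statements.S9172
import Groth.Agent.R2.H42RelGCIAway

set_option linter.style.haveILetI false

set_option autoImplicit false
universe u
open Synt

namespace Groth.Agent.S9172

open MvPolynomial in
/-- Let S = R[x_1, …, x_n]/(F_1, …, F_c) over a ring R. Let I be an ideal of R such that the reduction
R/I[x]/(F mod I) = S/IS is a relative global complete intersection over R/I (its nonempty fibres
have dimension n − c). Then some h in the polynomial ring, with image g in S, satisfies: g maps to 1
in S/IS, and the presentation S_g = R[x_1, …, x_{n+1}]/(F_1, …, F_c, h·x_{n+1} − 1) is a relative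
global complete intersection over R (with S_g isomorphic to it over R). -/
theorem result (R : Type u) [CommRing R] (n c : ℕ) (F : Fin c → MvPolynomial (Fin n) R)
    (I : Ideal R)
    (hI : Synt.IsRelGCI (R ⧸ I) n c (fun i => MvPolynomial.map (Ideal.Quotient.mk I) (F i))) :
    ∃ h : MvPolynomial (Fin n) R,
      Ideal.Quotient.mk (I.map (algebraMap R (Synt.RelGCIRing R n c F)))
        (Ideal.Quotient.mk (Ideal.span (Set.range F)) h) = 1 ∧
      Synt.IsRelGCI R (n + 1) (c + 1)
        (Fin.snoc (fun i => rename Fin.castSucc (F i)) (rename Fin.castSucc h * X (Fin.last n) - 1)) ∧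
      Nonempty (Localization.Away (Ideal.Quotient.mk (Ideal.span (Set.range F)) h) ≃ₐ[R]
        Synt.RelGCIRing R (n + 1) (c + 1)
          (Fin.snoc (fun i => rename Fin.castSucc (F i)) (rename Fin.castSucc h * X (Fin.last n) - 1))) := by
  open Groth.Agent.R2.H42.RelGCIAway in
  by_cases hcn : c ≤ n
  · obtain ⟨g, hg, hg1⟩ := exists_mem_badIdeal_of_isRelGCI_mod R n c F I hI
    obtain ⟨h, rfl⟩ := Ideal.Quotient.mk_surjective g
    obtain ⟨h1, h2⟩ := exists_of_mem_badIdeal R n c F h hcn hg
    exact ⟨h, hg1, h1, h2⟩
  · have htop := map_eq_top_of_not_le R n c F I hcn hI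
    refine ⟨0, ?_, isRelGCI_plus_zero R n c F, ⟨awayEquiv R n c F 0⟩⟩
    haveI : Subsingleton (Synt.RelGCIRing R n c F ⧸
        I.map (algebraMap R (Synt.RelGCIRing R n c F))) :=
      Ideal.Quotient.subsingleton_iff.mpr htop
    exact Subsingleton.elim _ _

end Groth.Agent.S9172
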