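import Groth.Statements.S9179
import Groth.Agent.Lib.Helper26FPOfHom

set_option autoImplicit false
universe u
open CategoryTheory CategoryTheory.Limits
open CAlg

namespace Groth.Agent.S9179

open Groth.Agent.Lib.Helper26.FPOfHom

section Aux

variable {R B P : Type u} [CommRing R] [CommRing B] [CommRing P] [Algebra R B] [Algebra R P]
  (π : P →ₐ[R] B)

/-- The directed system of finitely presented quotients, as algebras under `R`. -/
noncomputable def quoU : Finset (RingHom.ker π.toRingHom) ⥤ Under (CommRingCat.of R) where
  obj F := Under.mk (CommRingCat.ofHom (algebraMap R (P ⧸ relI π F)))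
  map {F F'} h := Under.homMk ((quoF π).map h) (by
    ext r
    rfl)
  map_id F := by
    apply Under.UnderMorphism.ext
    exact (quoF π).map_id F
  map_comp f g := by
    apply Under.UnderMorphism.ext
    exact (quoF π).map_comp f g

/-- The cocone of the quotient maps to `B`, under `R`. -/
noncomputable def quoUCocone : Cocone (quoU π) where
  pt := Under.mk (CommRingCat.ofHom (algebraMap R B))
  ι :=
    { app := fun F => Under.homMk ((quoCocone π).ι.app F) (by
        ext r
        exact π.commutes r)
      naturality := fun F F' h => by
        apply Under.UnderMorphism.ext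
        exact (quoCocone π).ι.naturality h }

theorem quoUCocone_isColimit (hπ : Function.Surjective π) :
    Nonempty (IsColimit (quoUCocone π)) := by
  classical
  obtain ⟨hc⟩ := quoCocone_isColimit π hπ
  haveI : IsConnected (Finset (RingHom.ker π.toRingHom)) := IsFiltered.isConnected _
  exact ⟨isColimitOfReflects (Under.forget (CommRingCat.of R)) hc⟩

end Aux

/-- An R-algebra of finite type is the colimit of a filtered system of finitely presented R-algebras
whose transition maps are all surjective. -/
theorem result (R A : Type u) [CommRing R] [CommRing A]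
    [Algebra R A] [Algebra.FiniteType R A] :
    ∃ (I : Type u) (_ : SmallCategory I) (_ : IsFiltered I) (D : I ⥤ Under (CommRingCat.of R))
      (c : Cocone D) (_ : IsColimit c),
      (∀ i, (D.obj i).hom.hom.FinitePresentation) ∧
      (∀ (i j : I) (φ : i ⟶ j), Function.Surjective (D.map φ).right.hom) ∧
      Nonempty (c.pt ≅ Under.mk (CommRingCat.ofHom (algebraMap R A))) := by
  classical
  obtain ⟨n, π, hπ⟩ := Algebra.FiniteType.iff_quotient_mvPolynomial''.mp
    (inferInstance : Algebra.FiniteType R A)
  obtain ⟨hc⟩ := quoUCocone_isColimit π hπ
  refine ⟨Finset (RingHom.ker π.toRingHom), inferInstance, inferInstance, quoU π, quoUCocone π, hc,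
    ?_, ?_, ⟨Iso.refl _⟩⟩
  · intro F
    have : Algebra.FinitePresentation R (MvPolynomial (Fin n) R ⧸ relI π F) :=
      Algebra.FinitePresentation.quotient (relI_fg π F)
    exact RingHom.finitePresentation_algebraMap.mpr this
  · intro F F' h
    exact Ideal.Quotient.factor_surjective (relI_mono π (leOfHom h))

end Groth.Agent.S9179
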