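import Groth.Statements.S9202
import Mathlib
import Groth.Agent.S0591
import Groth.Agent.S2074
import Groth.Agent.S2076
import Groth.Agent.S2079
import Groth.Agent.R2.H87LimProper

set_option autoImplicit false
universe u
open CategoryTheory AlgebraicGeometry
open Lim

namespace Groth.Agent.S9202

/-- Let S be a scheme and X = lim X_i a cofiltered limit of S-schemes X_i (a diagram with a compatible
family of structure maps to S) with affine transition morphisms, every X_i quasi-compact and
quasi-separated; the structure map X → S is the composite X → X_{i₀} → S for any index i₀. Let h : Y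
→ X be a proper morphism such that the composite Y → X → S is locally of finite type. Then Y → X_i
is proper for all i beyond some index i₁. -/
theorem result {I : Type u} [SmallCategory I] [IsCofiltered I] (S : Scheme.{u})
    (D : I ⥤ Scheme.{u}) (t : D ⟶ (Functor.const I).obj S) (c : Limits.Cone D) (hc : Limits.IsLimit c)
    [∀ (i j : I) (a : i ⟶ j), IsAffineHom (D.map a)]
    [∀ i, CompactSpace (D.obj i)] [∀ i, QuasiSeparatedSpace (D.obj i)] (i₀ : I)
    {Y : Scheme.{u}} (h : Y ⟶ c.pt) [IsProper h] [LocallyOfFiniteType (h ≫ c.π.app i₀ ≫ t.app i₀)] :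
    ∃ i₁ : I, ∀ (i : I) (_ : i ⟶ i₁), IsProper (h ≫ c.π.app i) := by
  classical
  -- Step 1: the limit is qcqs
  have haffπ : ∀ i, IsAffineHom (c.π.app i) := fun i => isAffineHom_π_app D c hc i
  have hXc : CompactSpace c.pt := QuasiCompact.compactSpace_of_compactSpace (c.π.app i₀)
  have hXq : QuasiSeparatedSpace c.pt := quasiSeparatedSpace_of_quasiSeparated (c.π.app i₀)
  -- all structure maps `X → S` agree
  have htw : ∀ i, c.π.app i ≫ t.app i = c.π.app i₀ ≫ t.app i₀ := by
    intro i
    have key : ∀ (a b : I) (φ : a ⟶ b), c.π.app a ≫ t.app a = c.π.app b ≫ t.app b := by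
      intro a b φ
      have h1 : D.map φ ≫ t.app b = t.app a :=
        (t.naturality φ).trans (Category.comp_id _)
      rw [← c.w φ, Category.assoc, h1]
    rw [← key _ _ (IsCofiltered.minToLeft i i₀), ← key _ _ (IsCofiltered.minToRight i i₀)]
  -- Step 2: `Y` is closed in a proper finitely presented `X`-scheme `Y'`
  have step2 : ∃ (Y' : Scheme.{u}) (p' : Y' ⟶ c.pt) (ι : Y ⟶ Y'), IsClosedImmersion ι ∧
      IsProper p' ∧ LocallyOfFinitePresentation p' ∧ ι ≫ p' = h := by
    obtain ⟨J, hJ, hJc, E, cE, hcE, e, hEcl, hE⟩ := Groth.Agent.S2079.result h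
    obtain ⟨k₀⟩ := IsCofiltered.nonempty (C := J)
    obtain ⟨hιcl, hp'p, hp'fp⟩ := hE k₀
    have heiso : IsIso e.inv.left := inferInstanceAs (IsIso ((Over.forget c.pt).map e.inv))
    refine ⟨(E.obj k₀).left, (E.obj k₀).hom, e.inv.left ≫ (cE.π.app k₀).left, inferInstance,
      hp'p, hp'fp, ?_⟩
    rw [Category.assoc, Over.w]
    exact Over.w e.inv
  obtain ⟨Y', p', ι, hιc, hp'p, hp'fp, hιw⟩ := step2
  -- Step 3: descend `Y' → X` to a stage
  obtain ⟨i, Yi, pi, g, hpifp, hpiqc, hpiqs, hpb⟩ := Groth.Agent.S0591.result D c hc Y' p'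
  have hYic : CompactSpace Yi := QuasiCompact.compactSpace_of_compactSpace pi
  have hYiq : QuasiSeparatedSpace Yi := quasiSeparatedSpace_of_quasiSeparated pi
  -- Step 4: descend properness
  have hidv : @IsPullback _ _ c.pt (D.obj i) c.pt (D.obj i) (c.π.app i) (𝟙 c.pt) (𝟙 (D.obj i))
      (c.π.app i) := IsPullback.id_vert _
  obtain ⟨j, φ, Yj, Xj, fj, gj, pY, pX, hYj, hXj, hfjp⟩ :=
    Groth.Agent.S2074.result (X := Y') (Y := c.pt) D c hc i pi (𝟙 (D.obj i)) p' (𝟙 c.pt)
      (c.π.app i) g hidv hpb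
  have hgjiso : IsIso gj := hYj.isIso_snd_of_isIso
  obtain ⟨qYj, qXj, -, -, hY', hX'⟩ :=
    Groth.Agent.R2.H87.LimProper.exists_rebase (X := Y') (Y := c.pt) φ hidv hpb hYj hXj
  have hpjp : IsProper (fj ≫ gj) := inferInstance
  have hpbj : IsPullback qXj p' (fj ≫ gj) (c.π.app j) := by
    have := hX'.paste_vert hY'
    rwa [Category.comp_id] at this
  -- name `p_j`
  obtain ⟨pj, hpj⟩ : ∃ pj : Yj ⟶ D.obj j, pj = fj ≫ gj := ⟨_, rfl⟩
  rw [← hpj] at hpjp hpbj
  -- Step 6: `Y'` as a limit of the base changes of `Y_j`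
  let K : Over j ⥤ Over Yj := Over.post (X := j) D ⋙ Over.pullback pj
  let cK : Limits.Cone K := (Over.pullback pj).mapCone (c.overPost j)
  have hpres1 : Limits.PreservesLimitsOfSize.{u, u} (Over.pullback pj) :=
    (Over.mapPullbackAdj pj).rightAdjoint_preservesLimits
  have hcK : Limits.IsLimit cK := Limits.isLimitOfPreserves (Over.pullback pj) (hc.overPost j)
  let sK : ∀ k : Over j, (K.obj k).left ⟶ Yj := fun k => Limits.pullback.snd (D.map k.hom) pj
  let fK : ∀ k : Over j, (K.obj k).left ⟶ D.obj k.left := fun k =>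
    Limits.pullback.fst (D.map k.hom) pj
  have hKpb : ∀ k, IsPullback (fK k) (sK k) (D.map k.hom) pj := fun k =>
    IsPullback.of_hasPullback _ _
  have hsKaff : ∀ k, IsAffineHom (sK k) := fun k =>
    MorphismProperty.of_isPullback (P := @IsAffineHom) (hKpb k) inferInstance
  have hfKp : ∀ k, IsProper (fK k) := fun k =>
    MorphismProperty.of_isPullback (P := @IsProper) (hKpb k).flip hpjp
  have hKmap : ∀ (k l : Over j) (a : k ⟶ l), (K.map a).left ≫ sK l = sK k := fun k l a =>
    Over.w (K.map a)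
  have hKaff : ∀ (k l : Over j) (a : k ⟶ l), IsAffineHom (K.map a).left := fun k l a => by
    have h2 := hsKaff l
    have h3 : IsAffineHom ((K.map a).left ≫ sK l) := by rw [hKmap]; exact hsKaff k
    exact IsAffineHom.of_comp (K.map a).left (sK l)
  have hKc : ∀ k, CompactSpace (K.obj k).left := fun k => by
    have := hfKp k
    exact QuasiCompact.compactSpace_of_compactSpace (fK k)
  -- the limit point
  let sL : cK.pt.left ⟶ Yj := Limits.pullback.snd (c.π.app j) pj
  let fL : cK.pt.left ⟶ c.pt := Limits.pullback.fst (c.π.app j) pj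
  have hLpb : IsPullback fL sL (c.π.app j) pj := IsPullback.of_hasPullback _ _
  let eY : Y' ≅ cK.pt.left := hpbj.flip.isoPullback
  have heY1 : eY.hom ≫ fL = p' := hpbj.flip.isoPullback_hom_fst
  have heY2 : eY.hom ≫ sL = qXj := hpbj.flip.isoPullback_hom_snd
  have hh''c : IsClosedImmersion (ι ≫ eY.hom) := inferInstance
  have hh''ft : LocallyOfFiniteType ((ι ≫ eY.hom) ≫ cK.pt.hom) := by
    change LocallyOfFiniteType ((ι ≫ eY.hom) ≫ sL)
    rw [Category.assoc, heY2]
    have h5 : (ι ≫ qXj) ≫ (pj ≫ t.app j) = h ≫ c.π.app i₀ ≫ t.app i₀ := by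
      rw [Category.assoc, ← Category.assoc qXj, hpbj.w, Category.assoc, htw, ← Category.assoc,
        hιw]
    have h6 : LocallyOfFiniteType ((ι ≫ qXj) ≫ (pj ≫ t.app j)) := by rw [h5]; infer_instance
    exact locallyOfFiniteType_of_comp (ι ≫ qXj) (pj ≫ t.app j)
  obtain ⟨k, hk⟩ := Groth.Agent.S2076.result Yj K cK hcK (ι ≫ eY.hom)
  -- Step 7
  have h7 : (cK.π.app k).left ≫ fK k = fL ≫ c.π.app k.left :=
    Limits.pullback.lift_fst _ _ _
  have h8 : ((ι ≫ eY.hom) ≫ (cK.π.app k).left) ≫ fK k = h ≫ c.π.app k.left := by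
    rw [Category.assoc, h7, Category.assoc, ← Category.assoc eY.hom, heY1, ← Category.assoc, hιw]
  have h9 : IsProper (h ≫ c.π.app k.left) := by
    rw [← h8]
    have := hfKp k
    infer_instance
  refine ⟨k.left, fun i' a => ?_⟩
  have h10 : (h ≫ c.π.app i') ≫ D.map a = h ≫ c.π.app k.left := by rw [Category.assoc, c.w]
  have h11 : IsProper ((h ≫ c.π.app i') ≫ D.map a) := by rw [h10]; exact h9
  exact IsProper.of_comp (h ≫ c.π.app i') (D.map a)

end Groth.Agent.S9202
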