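import Groth.Statements.S9254
import Groth.Agent.R2.H42RelGCIFlat
import Groth.Agent.R2.H42RelGCIReg
import Groth.Agent.R2.H7KosFam
import Groth.Agent.S15821
import Groth.Agent.Lib.Helper13KzLiftB

set_option autoImplicit false
set_option linter.style.haveILetI false
universe u
attribute [local instance] HasDerivedCategory.standard
open CategoryTheory
open Synt

namespace Groth.Agent.S9254

open Groth.Agent.Helper13Kz Groth.Agent.Helper13KzLift in
/-- a list containing a unit is Koszul-regular (its Koszul homology is killed by the unit). -/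
theorem kr_of_isUnit_mem {A : Type u} [CommRing A] (l : List A) (a : A) (ha : a ∈ l)
    (hu : IsUnit a) : LCI.IsKoszulRegularSeq A l := by
  rw [isKoszulRegularSeq_iff]
  intro i _
  refine ⟨fun z w => ?_⟩
  have hz := smul_KH_eq_zero_of_mem (M := A) l a (Ideal.subset_span ha) i z
  have hw := smul_KH_eq_zero_of_mem (M := A) l a (Ideal.subset_span ha) i w
  obtain ⟨b, hb⟩ := hu.exists_left_inv
  calc z = (b * a) • z := by rw [hb, one_smul]
    _ = (b * a) • w := by rw [mul_smul, mul_smul, hz, hw]
    _ = w := by rw [hb, one_smul]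

theorem result (R : Type u) [CommRing R] (n c : ℕ)
    (F : Fin c → MvPolynomial (Fin n) R) (h : Synt.IsRelGCI R n c F) :
    LCI.IsKoszulRegularSeq (MvPolynomial (Fin n) R) (List.ofFn F) := by
  apply Groth.Agent.R2.H7.KosFam.kr_of_flat_family
  intro 𝔪 h𝔪
  haveI : 𝔪.IsPrime := h𝔪.isPrime
  refine ⟨Localization.AtPrime 𝔪, inferInstance,
    algebraMap (MvPolynomial (Fin n) R) (Localization.AtPrime 𝔪), ?_, ?_, ?_⟩
  · exact (RingHom.flat_algebraMap_iff).2 inferInstance
  · rw [Localization.AtPrime.map_eq_maximalIdeal]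
    exact (IsLocalRing.maximalIdeal.isMaximal _).ne_top
  · rw [List.map_ofFn]
    by_cases hq : Ideal.span (Set.range F) ≤ 𝔪
    · have h1 := Groth.Agent.R2.H42.RelGCIReg.isWeaklyRegular_of_regAt 𝔪 F
        (Groth.Agent.R2.H42.RelGCIFlat.regAt_of_isRelGCI R n c F h 𝔪 hq)
      exact (Groth.Agent.S15821.result _ _ h1).1
    · have : ∃ i, F i ∉ 𝔪 := by
        by_contra hcon
        push Not at hcon
        exact hq (Ideal.span_le.2 (by rintro _ ⟨i, rfl⟩; exact hcon i))
      obtain ⟨i, hi⟩ := this
      refine kr_of_isUnit_mem _ (algebraMap _ (Localization.AtPrime 𝔪) (F i)) ?_ ?_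
      · rw [List.mem_ofFn]
        exact ⟨i, rfl⟩
      · exact IsLocalization.map_units (M := 𝔪.primeCompl) _ ⟨F i, hi⟩

end Groth.Agent.S9254
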