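import Groth.Statements.S9271
import Mathlib
import Groth.Agent.R2.H42FibReg
import Groth.Agent.Lib.Helper3ThickSmooth

set_option autoImplicit false
set_option linter.style.haveILetI false
universe u
open CAlg

namespace Groth.Agent.S9271


open TensorProduct

/-- a surjection `g : M → N` onto an `R ⧸ I`-module with kernel `I M` is a base change to `R ⧸ I`. -/
theorem isBaseChange_of_surjective_of_ker {R M N : Type*} [CommRing R] (I : Ideal R)
    [AddCommGroup M] [Module R M] [AddCommGroup N] [Module R N] [Module (R ⧸ I) N]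
    [IsScalarTower R (R ⧸ I) N] (g : M →ₗ[R] N) (hg : Function.Surjective g)
    (hker : LinearMap.ker g = (I • ⊤ : Submodule R M)) : IsBaseChange (R ⧸ I) g := by
  let e1 : ((R ⧸ I) ⊗[R] M) ≃ₗ[R] M ⧸ (I • ⊤ : Submodule R M) :=
    TensorProduct.quotTensorEquivQuotSMul M I
  let e2 : (M ⧸ (I • ⊤ : Submodule R M)) ≃ₗ[R] M ⧸ LinearMap.ker g :=
    Submodule.quotEquivOfEq _ _ hker.symm
  let e3 : (M ⧸ LinearMap.ker g) ≃ₗ[R] N := LinearMap.quotKerEquivOfSurjective g hg
  let e : ((R ⧸ I) ⊗[R] M) ≃ₗ[R ⧸ I] N :=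
    ((e1.trans e2).trans e3).extendScalarsOfSurjective (Ideal.Quotient.mk_surjective (I := I))
  refine IsBaseChange.of_equiv e ?_
  intro x
  change e3 (e2 (e1 (1 ⊗ₜ x))) = g x
  have h1 : e1 ((1 : R ⧸ I) ⊗ₜ[R] x) = Submodule.Quotient.mk x :=
    TensorProduct.quotTensorEquivQuotSMul_mk_one_tmul I x
  rw [h1]
  rfl



/-- Suppose A' → B' is a flat ring map of finite presentation (smooth maps being one example), and let I
be a locally nilpotent ideal of A', with A = A'/I and B = B'/IB'. Let f'_1, ..., f'_r be elements of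
B' whose images f_1, ..., f_r in B form a quasi-regular sequence with B/(f_1, ..., f_r) smooth over
A. Then B'/(f'_1, ..., f'_r) is smooth over A'. -/
theorem result (A' B' : Type u) [CommRing A']
    [CommRing B'] [Algebra A' B'] [Module.Flat A' B'] [Algebra.FinitePresentation A' B']
    (I : Ideal A') (hI : ∀ x ∈ I, IsNilpotent x) (r : ℕ) (f' : Fin r → B')
    (hq : CAlgX.IsQuasiRegular
      (fun i => Ideal.Quotient.mk (Ideal.map (algebraMap A' B') I) (f' i)))
    (hsm : Algebra.Smooth (A' ⧸ I)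
      ((B' ⧸ Ideal.map (algebraMap A' B') I) ⧸
        Ideal.span (Set.range (fun i => Ideal.Quotient.mk (Ideal.map (algebraMap A' B') I) (f' i))))) :
    Algebra.Smooth A' (B' ⧸ Ideal.span (Set.range f')) := by
  set IB : Ideal B' := Ideal.map (algebraMap A' B') I with hIB
  set J : Ideal B' := Ideal.span (Set.range f') with hJ
  set Jb : Ideal (B' ⧸ IB) :=
    Ideal.span (Set.range (fun i => Ideal.Quotient.mk IB (f' i))) with hJb
  have hJb' : Jb = J.map (Ideal.Quotient.mk IB) := by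
    rw [hJb, hJ, Ideal.map_span, ← Set.range_comp]
    rfl
  haveI hflatC : Module.Flat (A' ⧸ I) ((B' ⧸ IB) ⧸ Jb) := by
    haveI := hsm
    infer_instance
  haveI : Module.Flat A' (B' ⧸ J) :=
    Groth.Agent.R2.H42.FibReg.flat_quotient_of_quasiRegular_mod_nilpotent I hI r f' hq hflatC
  haveI : Algebra.FinitePresentation A' (B' ⧸ J) :=
    Algebra.FinitePresentation.quotient (Submodule.fg_span (Set.finite_range f'))
  -- the map `B'/J → (B'/IB)/Jb`
  let φ : (B' ⧸ J) →+* ((B' ⧸ IB) ⧸ Jb) :=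
    Ideal.Quotient.lift J ((Ideal.Quotient.mk Jb).comp (Ideal.Quotient.mk IB)) (by
      intro b hb
      rw [RingHom.comp_apply, Ideal.Quotient.eq_zero_iff_mem, hJb']
      exact Ideal.mem_map_of_mem _ hb)
  letI : Algebra (B' ⧸ J) ((B' ⧸ IB) ⧸ Jb) := φ.toAlgebra
  haveI : IsScalarTower A' (B' ⧸ J) ((B' ⧸ IB) ⧸ Jb) :=
    IsScalarTower.of_algebraMap_eq (fun x => rfl)
  have hφmk : ∀ b : B', algebraMap (B' ⧸ J) ((B' ⧸ IB) ⧸ Jb) (Ideal.Quotient.mk J b) =
      Ideal.Quotient.mk Jb (Ideal.Quotient.mk IB b) := fun b => rfl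
  -- pushout
  haveI : Algebra.IsPushout A' (A' ⧸ I) (B' ⧸ J) ((B' ⧸ IB) ⧸ Jb) := by
    refine ⟨isBaseChange_of_surjective_of_ker I _ ?_ ?_⟩
    · intro y
      obtain ⟨y, rfl⟩ := Ideal.Quotient.mk_surjective y
      obtain ⟨b, rfl⟩ := Ideal.Quotient.mk_surjective y
      exact ⟨Ideal.Quotient.mk J b, rfl⟩
    · ext x
      obtain ⟨b, rfl⟩ := Ideal.Quotient.mk_surjective x
      have hmem : ∀ K K' : Ideal B', Ideal.Quotient.mk K b ∈ K'.map (Ideal.Quotient.mk K) ↔
          b ∈ K' ⊔ K := by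
        intro K K'
        rw [← Ideal.mem_comap, Ideal.comap_map_of_surjective _ Ideal.Quotient.mk_surjective,
          ← RingHom.ker_eq_comap_bot, Ideal.mk_ker]
      rw [LinearMap.mem_ker, Ideal.smul_top_eq_map, Submodule.restrictScalars_mem]
      have h1 : (IsScalarTower.toAlgHom A' (B' ⧸ J) ((B' ⧸ IB) ⧸ Jb)).toLinearMap
          (Ideal.Quotient.mk J b) = Ideal.Quotient.mk Jb (Ideal.Quotient.mk IB b) := rfl
      rw [h1, Ideal.Quotient.eq_zero_iff_mem, hJb', hmem]
      have h2 : Ideal.map (algebraMap A' (B' ⧸ J)) I = IB.map (Ideal.Quotient.mk J) := by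
        rw [hIB, Ideal.map_map]
        rfl
      rw [h2, hmem, sup_comm]
  have hπ : Function.Surjective (algebraMap A' (A' ⧸ I)) := Ideal.Quotient.mk_surjective
  have hnil : ∀ x ∈ RingHom.ker (algebraMap A' (A' ⧸ I)), IsNilpotent x := by
    intro x hx
    apply hI
    rw [RingHom.mem_ker] at hx
    exact Ideal.Quotient.eq_zero_iff_mem.mp hx
  exact Groth.Agent.Lib.Helper3.ThickSmooth.smooth_of_pushout_nil
    (B' := A') (B := A' ⧸ I) (C' := B' ⧸ J) (C := (B' ⧸ IB) ⧸ Jb) hπ hnil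

end Groth.Agent.S9271
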