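import Groth.Statements.S9312
import Mathlib

set_option linter.style.haveILetI false
set_option linter.unusedSectionVars false

set_option autoImplicit false
universe u
open CAlg

namespace Groth.Agent.S9312

open TensorProduct Polynomial

theorem exists_sum_tmul {R₀ M N : Type*} [CommSemiring R₀] [AddCommMonoid M] [AddCommMonoid N]
    [Module R₀ M] [Module R₀ N] (w : M ⊗[R₀] N) :
    ∃ (m : ℕ) (a : Fin m → M) (r : Fin m → N), w = ∑ j, a j ⊗ₜ[R₀] r j := by
  induction w using TensorProduct.induction_on with
  | zero => exact ⟨0, Fin.elim0, Fin.elim0, by simp⟩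
  | tmul x y => exact ⟨1, fun _ => x, fun _ => y, by simp⟩
  | add x y hx hy =>
    obtain ⟨m, a, r, rfl⟩ := hx
    obtain ⟨m', a', r', rfl⟩ := hy
    refine ⟨m + m', Fin.append a a', Fin.append r r', ?_⟩
    rw [Fin.sum_univ_add]
    simp

variable (R G : Type u) [CommRing R] [Group G] [Fintype G] [MulSemiringAction G R]

theorem exists_univ (m : ℕ) (r : Fin m → R) :
    ∃ Φ : Polynomial (MvPolynomial (Fin m) (FixedPoints.subring R G)),
      Φ.map (MvPolynomial.map (algebraMap (FixedPoints.subring R G) R)) =
        ∏ σ : G, (X - C (∑ j, MvPolynomial.X j * MvPolynomial.C (σ • r j))) := by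
  set Ψ : Polynomial (MvPolynomial (Fin m) R) :=
    ∏ σ : G, (X - C (∑ j, MvPolynomial.X j * MvPolynomial.C (σ • r j))) with hΨ
  have hfix : ∀ τ : G, Ψ.map (MvPolynomial.map (MulSemiringAction.toRingHom G R τ)) = Ψ := by
    intro τ
    rw [hΨ, Polynomial.map_prod]
    have hfactor : ∀ σ : G, (X - C (∑ j, MvPolynomial.X j * MvPolynomial.C (σ • r j)) :
        Polynomial (MvPolynomial (Fin m) R)).map
          (MvPolynomial.map (MulSemiringAction.toRingHom G R τ)) =
        X - C (∑ j, MvPolynomial.X j * MvPolynomial.C ((τ * σ) • r j)) := by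
      intro σ
      rw [Polynomial.map_sub, Polynomial.map_X, Polynomial.map_C, map_sum]
      congr 2
      refine Finset.sum_congr rfl fun j _ => ?_
      rw [map_mul, MvPolynomial.map_X, MvPolynomial.map_C, MulSemiringAction.toRingHom_apply,
        mul_smul]
    simp only [hfactor]
    exact Fintype.prod_equiv (Equiv.mulLeft τ) _ _ (fun σ => rfl)
  have hcoeff : ∀ k, Ψ.coeff k ∈ (MvPolynomial.map (algebraMap (FixedPoints.subring R G) R)).range := by
    intro k
    rw [RingHom.mem_range]
    have : Ψ.coeff k ∈ Set.range (MvPolynomial.map (algebraMap (FixedPoints.subring R G) R)) := by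
      rw [MvPolynomial.mem_range_map_iff_coeffs_subset]
      intro x hx
      rw [Finset.mem_coe, MvPolynomial.mem_coeffs_iff] at hx
      obtain ⟨μ, -, rfl⟩ := hx
      have hx : ∀ τ : G, τ • (MvPolynomial.coeff μ (Ψ.coeff k)) = MvPolynomial.coeff μ (Ψ.coeff k) := by
        intro τ
        have h1 := congrArg (fun p => MvPolynomial.coeff μ (p.coeff k)) (hfix τ)
        simp only [Polynomial.coeff_map, MvPolynomial.coeff_map,
          MulSemiringAction.toRingHom_apply] at h1
        exact h1
      exact ⟨⟨_, hx⟩, rfl⟩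
    exact this
  have := (Polynomial.mem_map_range (MvPolynomial.map (algebraMap (FixedPoints.subring R G) R))).mpr hcoeff
  obtain ⟨Φ, hΦ⟩ := this
  exact ⟨Φ, hΦ⟩

theorem eval_univ (A : Type u) [CommRing A] [Algebra (FixedPoints.subring R G) A]
    (m : ℕ) (r : Fin m → R)
    (Φ : Polynomial (MvPolynomial (Fin m) (FixedPoints.subring R G)))
    (hΦ : Φ.map (MvPolynomial.map (algebraMap (FixedPoints.subring R G) R)) =
        ∏ σ : G, (X - C (∑ j, MvPolynomial.X j * MvPolynomial.C (σ • r j))))
    (a : Fin m → A) :
    (Φ.map (MvPolynomial.aeval a : MvPolynomial (Fin m) (FixedPoints.subring R G) →ₐ[_] A).toRingHom).map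
        (algebraMap A (A ⊗[FixedPoints.subring R G] R)) =
      ∏ σ : G, (X - C (∑ j, a j ⊗ₜ[FixedPoints.subring R G] (σ • r j))) := by
  rw [Polynomial.map_map]
  let ev : MvPolynomial (Fin m) R →+* A ⊗[FixedPoints.subring R G] R :=
    MvPolynomial.eval₂Hom
      (Algebra.TensorProduct.includeRight : R →ₐ[FixedPoints.subring R G] A ⊗[FixedPoints.subring R G] R).toRingHom
      (fun j => a j ⊗ₜ 1)
  have hcomp : (algebraMap A (A ⊗[FixedPoints.subring R G] R)).comp
      (MvPolynomial.aeval a : MvPolynomial (Fin m) (FixedPoints.subring R G) →ₐ[_] A).toRingHom =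
      ev.comp (MvPolynomial.map (algebraMap (FixedPoints.subring R G) R)) := by
    apply MvPolynomial.ringHom_ext
    · intro r₀
      change algebraMap A (A ⊗[FixedPoints.subring R G] R) (MvPolynomial.aeval a (MvPolynomial.C r₀)) =
        ev (MvPolynomial.map _ (MvPolynomial.C r₀))
      rw [MvPolynomial.aeval_C, MvPolynomial.map_C, MvPolynomial.eval₂Hom_C,
        ← IsScalarTower.algebraMap_apply]
      exact ((Algebra.TensorProduct.includeRight :
        R →ₐ[FixedPoints.subring R G] A ⊗[FixedPoints.subring R G] R).commutes r₀).symm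
    · intro j
      simp [ev, Algebra.TensorProduct.algebraMap_apply]
  rw [hcomp, ← Polynomial.map_map, hΦ, Polynomial.map_prod]
  refine Finset.prod_congr rfl fun σ _ => ?_
  rw [Polynomial.map_sub, Polynomial.map_X, Polynomial.map_C, map_sum]
  congr 2
  refine Finset.sum_congr rfl fun j _ => ?_
  simp [ev]

theorem monic_univ (m : ℕ) (r : Fin m → R)
    (Φ : Polynomial (MvPolynomial (Fin m) (FixedPoints.subring R G)))
    (hΦ : Φ.map (MvPolynomial.map (algebraMap (FixedPoints.subring R G) R)) =
        ∏ σ : G, (X - C (∑ j, MvPolynomial.X j * MvPolynomial.C (σ • r j)))) : Φ.Monic := by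
  have hinj : Function.Injective (MvPolynomial.map (σ := Fin m)
      (algebraMap (FixedPoints.subring R G) R)) :=
    MvPolynomial.map_injective _ Subtype.val_injective
  apply Polynomial.monic_of_injective hinj
  rw [hΦ]
  exact monic_prod_of_monic _ _ (fun σ _ => monic_X_sub_C _)

theorem map_eq_pow (A : Type u) [CommRing A] [Algebra (FixedPoints.subring R G) A]
    (m : ℕ) (r : Fin m → R) (a : Fin m → A)
    (hb : ∀ σ : G, Algebra.TensorProduct.map (AlgHom.id (FixedPoints.subring R G) A)
        (MulSemiringAction.toAlgHom (FixedPoints.subring R G) R σ)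
          (∑ j, a j ⊗ₜ[FixedPoints.subring R G] r j) = ∑ j, a j ⊗ₜ[FixedPoints.subring R G] r j)
    (Φ : Polynomial (MvPolynomial (Fin m) (FixedPoints.subring R G)))
    (hΦ : Φ.map (MvPolynomial.map (algebraMap (FixedPoints.subring R G) R)) =
        ∏ σ : G, (X - C (∑ j, MvPolynomial.X j * MvPolynomial.C (σ • r j)))) :
    (Φ.map (MvPolynomial.aeval a : MvPolynomial (Fin m) (FixedPoints.subring R G) →ₐ[_] A).toRingHom).map
        (algebraMap A (A ⊗[FixedPoints.subring R G] R)) =
      (X - C (∑ j, a j ⊗ₜ[FixedPoints.subring R G] r j)) ^ Fintype.card G := by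
  rw [eval_univ R G A m r Φ hΦ a]
  have : ∀ σ : G, (∑ j, a j ⊗ₜ[FixedPoints.subring R G] (σ • r j)) =
      ∑ j, a j ⊗ₜ[FixedPoints.subring R G] r j := by
    intro σ
    rw [← hb σ, map_sum]
    refine Finset.sum_congr rfl fun j _ => ?_
    simp
  simp only [this, Finset.prod_const, Finset.card_univ]

theorem map_constantCoeff_univ (m : ℕ) (r : Fin m → R)
    (Φ : Polynomial (MvPolynomial (Fin m) (FixedPoints.subring R G)))
    (hΦ : Φ.map (MvPolynomial.map (algebraMap (FixedPoints.subring R G) R)) =
        ∏ σ : G, (X - C (∑ j, MvPolynomial.X j * MvPolynomial.C (σ • r j)))) :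
    Φ.map (MvPolynomial.constantCoeff : MvPolynomial (Fin m) (FixedPoints.subring R G) →+* _) =
      X ^ Fintype.card G := by
  apply Polynomial.map_injective (algebraMap (FixedPoints.subring R G) R) Subtype.val_injective
  rw [Polynomial.map_map]
  have hc : (algebraMap (FixedPoints.subring R G) R).comp
      (MvPolynomial.constantCoeff : MvPolynomial (Fin m) (FixedPoints.subring R G) →+* _) =
      (MvPolynomial.constantCoeff : MvPolynomial (Fin m) R →+* _).comp
        (MvPolynomial.map (algebraMap (FixedPoints.subring R G) R)) := by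
    ext p
    · simp
    · simp
  rw [hc, ← Polynomial.map_map, hΦ, Polynomial.map_prod]
  have hfac : ∀ σ : G, (X - C (∑ j, MvPolynomial.X j * MvPolynomial.C (σ • r j)) :
      Polynomial (MvPolynomial (Fin m) R)).map
        (MvPolynomial.constantCoeff : MvPolynomial (Fin m) R →+* _) = X := by
    intro σ
    rw [Polynomial.map_sub, Polynomial.map_X, Polynomial.map_C, map_sum]
    simp
  simp only [hfac, Finset.prod_const, Finset.card_univ, Polynomial.map_pow, Polynomial.map_X]

theorem algebraMap_tensor_injective (P : Type u) [CommRing P] [Algebra (FixedPoints.subring R G) P]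
    [Module.Flat (FixedPoints.subring R G) P] :
    Function.Injective (algebraMap P (P ⊗[FixedPoints.subring R G] R)) := by
  have h1 : Function.Injective (LinearMap.lTensor P (Algebra.linearMap (FixedPoints.subring R G) R)) :=
    Module.Flat.lTensor_preserves_injective_linearMap _ Subtype.val_injective
  have h2 : ∀ p : P, algebraMap P (P ⊗[FixedPoints.subring R G] R) p =
      LinearMap.lTensor P (Algebra.linearMap (FixedPoints.subring R G) R)
        ((TensorProduct.rid (FixedPoints.subring R G) P).symm p) := by
    intro p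
    simp [Algebra.TensorProduct.algebraMap_apply]
  intro p p' h
  rw [h2, h2] at h
  exact (TensorProduct.rid (FixedPoints.subring R G) P).symm.injective (h1 h)

theorem map_pow_sub (P : Type u) [CommRing P] [Algebra (FixedPoints.subring R G) P] (x : P) (n : ℕ) :
    Polynomial.map (algebraMap P (P ⊗[FixedPoints.subring R G] R)) ((X - C x) ^ n) =
      (X - C (x ⊗ₜ[FixedPoints.subring R G] (1 : R))) ^ n := by
  simp [Algebra.TensorProduct.algebraMap_apply]

theorem part2 (A : Type u) [CommRing A] [Algebra (FixedPoints.subring R G) A]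
    (P : Type u) [CommRing P] [Algebra (FixedPoints.subring R G) P]
    [Module.Flat (FixedPoints.subring R G) P] (π : P →ₐ[FixedPoints.subring R G] A)
    (hπ : Function.Surjective π) (x : P)
    (hx : algebraMap A (A ⊗[FixedPoints.subring R G] R) (π x) = 0) :
    (X - C (π x)) ^ Fintype.card G = (X : A[X]) ^ Fintype.card G := by
  have ht : (LinearMap.rTensor R π.toLinearMap)
      (x ⊗ₜ[FixedPoints.subring R G] (1 : R)) = 0 := by
    rw [LinearMap.rTensor_tmul]
    have : π.toLinearMap x = π x := rfl
    rw [this, ← hx, Algebra.TensorProduct.algebraMap_apply]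
    rfl
  have hex : Function.Exact (LinearMap.rTensor R (LinearMap.ker π.toLinearMap).subtype)
      (LinearMap.rTensor R π.toLinearMap) :=
    rTensor_exact R (LinearMap.exact_subtype_ker_map _) hπ
  obtain ⟨w, hw⟩ := (hex _).mp ht
  obtain ⟨m, ι, r, rfl⟩ := exists_sum_tmul w
  let a' : Fin m → P := fun j => (ι j : P)
  have hsum : ∑ j, a' j ⊗ₜ[FixedPoints.subring R G] r j =
      x ⊗ₜ[FixedPoints.subring R G] (1 : R) := by
    rw [← hw, map_sum]
    rfl
  obtain ⟨Φ, hΦ⟩ := exists_univ R G m r
  have hinv : ∀ σ : G, Algebra.TensorProduct.map (AlgHom.id (FixedPoints.subring R G) P)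
      (MulSemiringAction.toAlgHom (FixedPoints.subring R G) R σ)
        (∑ j, a' j ⊗ₜ[FixedPoints.subring R G] r j) = ∑ j, a' j ⊗ₜ[FixedPoints.subring R G] r j := by
    intro σ
    rw [hsum]
    simp
  have h1 := map_eq_pow R G P m r a' hinv Φ hΦ
  rw [hsum] at h1
  have h2 := map_pow_sub R G P x (Fintype.card G)
  have hinj := algebraMap_tensor_injective R G P
  have h3 : Φ.map (MvPolynomial.aeval a' : MvPolynomial (Fin m) (FixedPoints.subring R G) →ₐ[_] P).toRingHom =
      (X - C x) ^ Fintype.card G :=
    Polynomial.map_injective _ hinj (h1.trans h2.symm)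
  have h4 := congrArg (Polynomial.map (π : P →+* A)) h3
  rw [Polynomial.map_map] at h4
  have h5 : (π : P →+* A).comp
      (MvPolynomial.aeval a' : MvPolynomial (Fin m) (FixedPoints.subring R G) →ₐ[_] P).toRingHom =
      (algebraMap (FixedPoints.subring R G) A).comp MvPolynomial.constantCoeff := by
    apply MvPolynomial.ringHom_ext
    · intro r₀
      simp
    · intro j
      have : π (a' j) = 0 := (ι j).2
      simpa using this
  rw [h5, ← Polynomial.map_map, map_constantCoeff_univ R G m r Φ hΦ] at h4
  simpa using h4.symm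


/-- Let a finite group G with n elements act on a ring R by ring automorphisms, with invariant ring R^G,
and let A be an algebra over R^G; G acts on A ⊗ R through the factor R. (1) For every G-invariant b
∈ A ⊗ R there is a monic polynomial over A whose image in (A ⊗ R)[T] is (T - b)^n. (2) For every a
in the kernel of A → A ⊗ R, all coefficients of (T - a)^n below degree n vanish, that is (T - a)^n =
T^n in A[T]. -/
theorem result (R G A : Type u) [CommRing R] [Group G] [Fintype G]
    [MulSemiringAction G R] [CommRing A] [Algebra (FixedPoints.subring R G) A] :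
    (∀ b : TensorProduct (FixedPoints.subring R G) A R,
      (∀ σ : G, Algebra.TensorProduct.map (AlgHom.id (FixedPoints.subring R G) A)
        (MulSemiringAction.toAlgHom (FixedPoints.subring R G) R σ) b = b) →
      ∃ P : Polynomial A, P.Monic ∧
        Polynomial.map (algebraMap A (TensorProduct (FixedPoints.subring R G) A R)) P =
          (Polynomial.X - Polynomial.C b) ^ Fintype.card G) ∧
    (∀ a : A, algebraMap A (TensorProduct (FixedPoints.subring R G) A R) a = 0 →
      ∀ i : ℕ, i < Fintype.card G → ((Polynomial.X - Polynomial.C a) ^ Fintype.card G).coeff i = 0) := by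
  constructor
  · intro b hb
    obtain ⟨m, a, r, rfl⟩ := exists_sum_tmul b
    obtain ⟨Φ, hΦ⟩ := exists_univ R G m r
    exact ⟨Φ.map (MvPolynomial.aeval a : MvPolynomial (Fin m) (FixedPoints.subring R G) →ₐ[_] A).toRingHom,
      (monic_univ R G m r Φ hΦ).map _, map_eq_pow R G A m r a hb Φ hΦ⟩
  · intro a ha i hi
    have hπX : ∀ x : A, (MvPolynomial.aeval id : MvPolynomial A (FixedPoints.subring R G) →ₐ[_] A)
        (MvPolynomial.X x) = x := fun x => MvPolynomial.aeval_X id x
    have h6 := part2 R G A (MvPolynomial A (FixedPoints.subring R G)) (MvPolynomial.aeval id)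
      (fun x => ⟨MvPolynomial.X x, hπX x⟩) (MvPolynomial.X a) (by rw [hπX]; exact ha)
    rw [hπX] at h6
    rw [h6, coeff_X_pow, if_neg (ne_of_lt hi)]

end Groth.Agent.S9312
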