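import Groth.Statements.S9313
import Mathlib

set_option linter.style.haveILetI false

set_option autoImplicit false
universe u
open CAlg

namespace Groth.Agent.S9313


variable (A B : Type u) [CommRing A] [CommRing B] [Algebra A B]

/-- conductor-like ideal of `b` in the integral closure. -/
def cond (b : B) : Ideal (integralClosure A B) where
  carrier := {z | IsIntegral A ((z : B) * b)}
  add_mem' := by
    intro x y hx hy
    simp only [Set.mem_ofPred_eq] at *
    rw [Subalgebra.coe_add, add_mul]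
    exact hx.add hy
  zero_mem' := by simp [isIntegral_zero]
  smul_mem' := by
    intro c x hx
    simp only [smul_eq_mul, Set.mem_ofPred_eq, MulMemClass.coe_mul, mul_assoc] at *
    exact c.2.mul hx

/-- the ideal of elements `x` of the integral closure with `B'[1/x] = B[1/x]`. -/
def J : Ideal (integralClosure A B) := ⨅ b : B, (cond A B b).radical

lemma mem_J_iff (x : integralClosure A B) :
    x ∈ J A B ↔ ∀ b : B, ∃ N : ℕ, IsIntegral A ((x : B) ^ N * b) := by
  simp only [J, Ideal.mem_iInf, Ideal.mem_radical_iff]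
  rfl

variable {A B}

lemma weaklyQuasiFiniteAt_of (I : Ideal A) (e : B ⧸ I.map (algebraMap A B))
    (he : IsIdempotentElem e)
    (hfin : Module.Finite (A ⧸ I) ((B ⧸ Ideal.map (algebraMap A B) I) ⧸ Ideal.span {1 - e}))
    (q : Ideal B) [q.IsPrime] (hIq : I.map (algebraMap A B) ≤ q) (b : B)
    (hb : Ideal.Quotient.mk _ b = e) (hbq : b ∉ q) :
    Algebra.WeaklyQuasiFiniteAt A q := by
  rw [Algebra.weaklyQuasiFiniteAt_iff]
  set T := Localization.AtPrime q ⧸ (q.under A).map (algebraMap A (Localization.AtPrime q)) with hT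
  set C₁ := (B ⧸ Ideal.map (algebraMap A B) I) ⧸ Ideal.span {1 - e} with hC₁
  have hQF : Algebra.QuasiFinite A C₁ := Algebra.QuasiFinite.trans A (A ⧸ I) C₁
  -- the map g : B → T
  let g : B →ₐ[A] T := IsScalarTower.toAlgHom A B T
  have hg : ∀ x ∈ I.map (algebraMap A B), g x = 0 := by
    intro x hx
    rw [Ideal.map] at hx
    induction hx using Submodule.span_induction with
    | mem x hx =>
      obtain ⟨a, ha, rfl⟩ := hx
      have haq : a ∈ q.under A := by
        rw [Ideal.under_def, Ideal.mem_comap]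
        exact hIq (Ideal.mem_map_of_mem _ ha)
      have : g (algebraMap A B a) = algebraMap A T a := g.commutes a
      rw [this, IsScalarTower.algebraMap_apply A (Localization.AtPrime q) T,
        Ideal.Quotient.algebraMap_eq, Ideal.Quotient.eq_zero_iff_mem]
      exact Ideal.mem_map_of_mem _ haq
    | zero => simp
    | add x y _ _ hx hy => simp [hx, hy]
    | smul a x _ hx => simp [hx]
  let g₁ : (B ⧸ Ideal.map (algebraMap A B) I) →ₐ[A] T := Ideal.Quotient.liftₐ _ g hg
  have hg₁ : ∀ x : B, g₁ (Ideal.Quotient.mk _ x) = g x := fun x => rfl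
  have hunit : ∀ s : B, s ∉ q → IsUnit (g s) := by
    intro s hs
    have : IsUnit (algebraMap B (Localization.AtPrime q) s) :=
      IsLocalization.map_units (M := q.primeCompl) (Localization.AtPrime q) ⟨s, hs⟩
    exact this.map (algebraMap (Localization.AtPrime q) T)
  have hg₁e : g₁ (1 - e) = 0 := by
    have h1 : g₁ e * g₁ (1 - e) = 0 := by
      rw [← map_mul, mul_sub, mul_one, he.eq, sub_self, map_zero]
    have h2 : IsUnit (g₁ e) := by
      rw [← hb, hg₁]
      exact hunit b hbq
    exact (h2.mul_right_eq_zero).mp h1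
  let f : C₁ →ₐ[A] T := Ideal.Quotient.liftₐ _ g₁ (by
    intro x hx
    obtain ⟨c, rfl⟩ := Ideal.mem_span_singleton'.mp hx
    rw [map_mul, hg₁e, mul_zero])
  have hf : ∀ x : B, f (Ideal.Quotient.mk _ (Ideal.Quotient.mk _ x)) = g x := fun x => rfl
  refine Algebra.QuasiFinite.of_forall_exists_mul_mem_range f fun x => ?_
  obtain ⟨x, rfl⟩ := Ideal.Quotient.mk_surjective x
  obtain ⟨x, ⟨s, hs⟩, rfl⟩ := IsLocalization.exists_mk'_eq q.primeCompl x
  refine ⟨Ideal.Quotient.mk _ (Ideal.Quotient.mk _ s), ?_, Ideal.Quotient.mk _ (Ideal.Quotient.mk _ x), ?_⟩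
  · rw [hf]
    exact hunit s hs
  · rw [hf]
    change f (Ideal.Quotient.mk _ (Ideal.Quotient.mk _ x)) = _
    rw [hf]
    change algebraMap (Localization.AtPrime q) T (algebraMap B _ x) = _
    change _ = Ideal.Quotient.mk _ _ * algebraMap (Localization.AtPrime q) T (algebraMap B _ s)
    rw [Ideal.Quotient.algebraMap_eq, ← map_mul, IsLocalization.mk'_spec]

lemma exists_mem_J [Algebra.FiniteType A B] (I : Ideal A) (e : B ⧸ I.map (algebraMap A B))
    (he : IsIdempotentElem e)
    (hfin : Module.Finite (A ⧸ I) ((B ⧸ Ideal.map (algebraMap A B) I) ⧸ Ideal.span {1 - e})) :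
    ∃ j : integralClosure A B, j ∈ J A B ∧
      Ideal.Quotient.mk (Ideal.span {1 - e}) (Ideal.Quotient.mk (I.map (algebraMap A B)) (j : B)) = 1 := by
  set C₁ := (B ⧸ Ideal.map (algebraMap A B) I) ⧸ Ideal.span {1 - e} with hC₁
  have hψ : ∀ x : B, algebraMap B C₁ x = Ideal.Quotient.mk _ (Ideal.Quotient.mk _ x) := fun x => rfl
  have hφ : ∀ x : integralClosure A B, algebraMap (integralClosure A B) C₁ x
      = Ideal.Quotient.mk _ (Ideal.Quotient.mk _ (x : B)) := fun x => rfl
  have hintA : Algebra.IsIntegral A C₁ := by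
    have h1 : Algebra.IsIntegral (A ⧸ I) C₁ := Algebra.IsIntegral.of_finite _ _
    have h2 : Algebra.IsIntegral A (A ⧸ I) := Algebra.IsIntegral.of_finite _ _
    exact Algebra.IsIntegral.trans (A ⧸ I)
  have hint : Algebra.IsIntegral (integralClosure A B) C₁ := Algebra.IsIntegral.tower_top A
  by_contra hcon
  push Not at hcon
  have hne : J A B ⊔ RingHom.ker (algebraMap (integralClosure A B) C₁) ≠ ⊤ := by
    intro h
    have h1 : (1 : integralClosure A B) ∈ J A B ⊔ RingHom.ker (algebraMap (integralClosure A B) C₁) := by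
      rw [h]; trivial
    obtain ⟨j, hj, k, hk, hjk⟩ := Submodule.mem_sup.mp h1
    apply hcon j hj
    rw [← hφ]
    have : algebraMap (integralClosure A B) C₁ (j + k) = 1 := by rw [hjk, map_one]
    rw [map_add, (RingHom.mem_ker).mp hk, add_zero] at this
    exact this
  obtain ⟨P, hPmax, hP⟩ := Ideal.exists_le_maximal _ hne
  obtain ⟨Q, hQmax, hQ⟩ := Ideal.exists_ideal_over_maximal_of_isIntegral (S := C₁) P
    (le_trans le_sup_right hP)
  have hQprime : Q.IsPrime := hQmax.isPrime
  set q : Ideal B := Q.comap (algebraMap B C₁) with hq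
  have hqprime : q.IsPrime := Ideal.comap_isPrime _ _
  have hIq : I.map (algebraMap A B) ≤ q := by
    intro x hx
    rw [hq, Ideal.mem_comap, hψ, (Ideal.Quotient.eq_zero_iff_mem).mpr hx, map_zero]
    exact Q.zero_mem
  obtain ⟨b, hb⟩ := Ideal.Quotient.mk_surjective e
  have hbq : b ∉ q := by
    intro h
    rw [hq, Ideal.mem_comap, hψ, hb] at h
    have h1 : Ideal.Quotient.mk (Ideal.span {1 - e}) (1 - e) = 0 :=
      (Ideal.Quotient.eq_zero_iff_mem).mpr (Ideal.mem_span_singleton_self _)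
    rw [map_sub, map_one, sub_eq_zero] at h1
    rw [← h1] at h
    exact hQprime.ne_top ((Ideal.eq_top_iff_one _).mpr h)
  have hW := weaklyQuasiFiniteAt_of I e he hfin q hIq b hb hbq
  have hZ := Algebra.ZariskisMainProperty.of_finiteType_of_weaklyQuasiFiniteAt (R := A) q
  obtain ⟨r, hrq, hr, hr2⟩ := Algebra.zariskisMainProperty_iff.mp hZ
  have hrJ : (⟨r, hr⟩ : integralClosure A B) ∈ J A B := (mem_J_iff A B _).mpr hr2
  have h1 : (⟨r, hr⟩ : integralClosure A B) ∈ P := hP (Ideal.mem_sup_left hrJ)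
  rw [← hQ, Ideal.mem_comap, hφ] at h1
  apply hrq
  rw [hq, Ideal.mem_comap, hψ]
  exact h1

lemma exists_pow_mul_mem (I : Ideal A) (g : integralClosure A B) (hg : g ∈ J A B) (x : B)
    (hx : x ∈ I.map (algebraMap A B)) :
    ∃ M : ℕ, ∀ M' ≥ M, ∃ y ∈ I.map (algebraMap A (integralClosure A B)),
      (y : B) = (g : B) ^ M' * x := by
  rw [Ideal.map] at hx
  induction hx using Submodule.span_induction with
  | mem x hx =>
    obtain ⟨a, ha, rfl⟩ := hx
    refine ⟨0, fun M' _ => ⟨g ^ M' * algebraMap A _ a,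
      Ideal.mul_mem_left _ _ (Ideal.mem_map_of_mem _ ha), ?_⟩⟩
    rfl
  | zero => exact ⟨0, fun M' _ => ⟨0, Ideal.zero_mem _, by simp⟩⟩
  | add x y _ _ hx hy =>
    obtain ⟨M1, h1⟩ := hx
    obtain ⟨M2, h2⟩ := hy
    refine ⟨max M1 M2, fun M' hM' => ?_⟩
    obtain ⟨y1, hy1, e1⟩ := h1 M' (le_trans (le_max_left _ _) hM')
    obtain ⟨y2, hy2, e2⟩ := h2 M' (le_trans (le_max_right _ _) hM')
    exact ⟨y1 + y2, Ideal.add_mem _ hy1 hy2, by rw [Subalgebra.coe_add, e1, e2, mul_add]⟩
  | smul b x _ hx =>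
    obtain ⟨M1, h1⟩ := hx
    obtain ⟨N, hN⟩ := (mem_J_iff A B g).mp hg b
    refine ⟨N + M1, fun M' hM' => ?_⟩
    obtain ⟨y1, hy1, e1⟩ := h1 (M' - N) (by omega)
    refine ⟨⟨(g : B) ^ N * b, hN⟩ * y1, Ideal.mul_mem_left _ _ hy1, ?_⟩
    rw [MulMemClass.coe_mul, e1, smul_eq_mul]
    have : M' = N + (M' - N) := by omega
    conv_rhs => rw [this, pow_add]
    ring

lemma bijective_of_mem_J (g : integralClosure A B) (hg : g ∈ J A B) :
    Function.Bijective (algebraMap (Localization.Away g)
        (Localization (Algebra.algebraMapSubmonoid B (Submonoid.powers g)))) := by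
  constructor
  · exact localizationAlgebra_injective _ _ Subtype.val_injective
  · intro z
    obtain ⟨x, ⟨s, hs⟩, rfl⟩ := IsLocalization.exists_mk'_eq
      (Algebra.algebraMapSubmonoid B (Submonoid.powers g)) z
    obtain ⟨t, ⟨n, rfl⟩, rfl⟩ := hs
    obtain ⟨N, hN⟩ := (mem_J_iff A B g).mp hg x
    have hN' : (g : B) ^ N * x ∈ integralClosure A B := hN
    refine ⟨IsLocalization.mk' (Localization.Away g) (⟨(g : B) ^ N * x, hN'⟩ : integralClosure A B)
      (⟨g ^ (N + n), ⟨N + n, rfl⟩⟩ : Submonoid.powers g), ?_⟩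
    rw [localizationAlgebraMap_def, IsLocalization.map_mk']
    apply IsLocalization.mk'_eq_of_eq
    change (g : B) ^ (N + n) * x = (g : B) ^ n * ((g : B) ^ N * x)
    ring

/-- Let A be a ring with an ideal I and A → B a ring map of finite type, and suppose B/IB = C_1 × C_2
(given by an idempotent e of B/IB with C_1 = (B/IB)/(1 - e)) where C_1 is finite over A/I. Writing
B' for the integral closure of A in B, some g ∈ B' has idempotent image in B'/IB' lifting e (so
B'/IB' = C_1' × C_2' compatibly with the decomposition of B/IB), and the map B'_g → B_g is an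
isomorphism (whence C_1' = C_1). -/
theorem result (A B : Type u) [CommRing A] [CommRing B]
    [Algebra A B] [Algebra.FiniteType A B] (I : Ideal A) (e : B ⧸ Ideal.map (algebraMap A B) I)
    (he : IsIdempotentElem e)
    (hfin : Module.Finite (A ⧸ I) ((B ⧸ Ideal.map (algebraMap A B) I) ⧸ Ideal.span {1 - e})) :
    ∃ g : integralClosure A B,
      IsIdempotentElem (Ideal.Quotient.mk (Ideal.map (algebraMap A (integralClosure A B)) I) g) ∧
      Ideal.Quotient.mk (Ideal.map (algebraMap A B) I) (g : B) = e ∧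
      Function.Bijective (algebraMap (Localization.Away g)
        (Localization (Algebra.algebraMapSubmonoid B (Submonoid.powers g)))) := by
  obtain ⟨j, hjJ, hj1⟩ := exists_mem_J I e he hfin
  obtain ⟨b, hb⟩ := Ideal.Quotient.mk_surjective e
  set π := Ideal.Quotient.mk (I.map (algebraMap A B)) with hπ
  have hje : π (j : B) * e = e := by
    have h1 : π (j : B) - 1 ∈ Ideal.span {1 - e} := by
      rw [← Ideal.Quotient.eq_zero_iff_mem, map_sub, hj1, map_one, sub_self]
    obtain ⟨c, hc⟩ := Ideal.mem_span_singleton'.mp h1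
    have h2 : π (j : B) = 1 + c * (1 - e) := by rw [hc]; ring
    rw [h2, add_mul, one_mul, mul_assoc, sub_mul, one_mul, he.eq, sub_self, mul_zero, add_zero]
  obtain ⟨N, hN⟩ := (mem_J_iff A B j).mp hjJ b
  set g₁ : integralClosure A B := j * ⟨(j : B) ^ N * b, hN⟩ with hg₁
  have hg₁J : g₁ ∈ J A B := Ideal.mul_mem_right _ _ hjJ
  have hpow : ∀ k : ℕ, π (j : B) ^ k * e = e := by
    intro k
    induction k with
    | zero => simp
    | succ k ih => rw [pow_succ, mul_assoc, hje, ih]
  have hg₁e : π (g₁ : B) = e := by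
    rw [hg₁, MulMemClass.coe_mul]
    simp only [map_mul, map_pow, hb]
    rw [hpow, hje]
  have hmem : ((g₁ : B) ^ 2 - (g₁ : B)) ∈ I.map (algebraMap A B) := by
    rw [← Ideal.Quotient.eq_zero_iff_mem, map_sub, map_pow, ← hπ, hg₁e, pow_two, he.eq, sub_self]
  obtain ⟨M, hM⟩ := exists_pow_mul_mem I g₁ hg₁J _ hmem
  obtain ⟨y, hy, hyeq⟩ := hM M le_rfl
  set π' := Ideal.Quotient.mk (I.map (algebraMap A (integralClosure A B))) with hπ'
  have hy' : y = g₁ ^ M * (g₁ ^ 2 - g₁) := Subtype.ext (by rw [hyeq]; rfl)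
  have h0 : π' g₁ ^ (M + 2) = π' g₁ ^ (M + 1) := by
    have h1 : π' (g₁ ^ M * (g₁ ^ 2 - g₁)) = 0 := by
      rw [← hy']; exact Ideal.Quotient.eq_zero_iff_mem.mpr hy
    rw [map_mul, map_sub, map_pow, map_pow, mul_sub, sub_eq_zero] at h1
    rw [pow_add, h1, pow_succ]
  have hstab : ∀ n, π' g₁ ^ (M + 1 + n) = π' g₁ ^ (M + 1) := by
    intro n
    induction n with
    | zero => rfl
    | succ n ih =>
      rw [← add_assoc, pow_succ, ih, ← pow_succ, h0]
  refine ⟨g₁ ^ (M + 1), ?_, ?_, ?_⟩
  · rw [IsIdempotentElem, map_pow, ← pow_add]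
    exact hstab (M + 1)
  · rw [SubmonoidClass.coe_pow, map_pow, hg₁e]
    exact he.pow_succ_eq M
  · exact bijective_of_mem_J _ (Ideal.pow_mem_of_mem _ hg₁J _ (Nat.succ_pos _))

end Groth.Agent.S9313
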