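import Groth.Statements.S9325
import Mathlib

set_option autoImplicit false
universe u
open CAlg

namespace Groth.Agent.S9325


section Ring

variable {R Q : Type u} [CommRing R] [CommRing Q] (π : R →+* Q) (hπ : Function.Surjective π)
  {c : ℕ} (g : Fin c → R)

/-- the relation map -/
def relMap : (Fin c → R) →ₗ[R] R := Fintype.linearCombination R g

lemma relMap_apply (a : Fin c → R) : relMap g a = ∑ i, a i * g i := by
  simp [relMap, Fintype.linearCombination_apply]

/-- trivial relations -/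
def triv : Submodule R (Fin c → R) :=
  Submodule.span R {v | ∃ i j : Fin c, v = Pi.single i (g j) - Pi.single j (g i)}

lemma relMap_triv (t : Fin c → R) (ht : t ∈ triv g) : relMap g t = 0 := by
  induction ht using Submodule.span_induction with
  | mem v hv =>
    obtain ⟨i, j, rfl⟩ := hv
    rw [map_sub, relMap_apply, relMap_apply]
    simp [Pi.single_apply, mul_comm]
  | zero => simp
  | add a b _ _ ha hb => rw [map_add, ha, hb, add_zero]
  | smul r a _ ha => rw [map_smul, ha, smul_zero]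

include hπ in
lemma exists_lift_triv (s : Fin c → Q) (hs : s ∈ triv (fun i => π (g i))) :
    ∃ t ∈ triv g, ∀ i, π (t i) = s i := by
  induction hs using Submodule.span_induction with
  | mem v hv =>
    obtain ⟨i, j, rfl⟩ := hv
    refine ⟨Pi.single i (g j) - Pi.single j (g i), Submodule.subset_span ⟨i, j, rfl⟩, ?_⟩
    intro k
    simp only [Pi.sub_apply, Pi.single_apply, map_sub]
    split_ifs <;> simp
  | zero => exact ⟨0, Submodule.zero_mem _, by simp⟩
  | add a b _ _ ha hb =>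
    obtain ⟨ta, hta, ha⟩ := ha
    obtain ⟨tb, htb, hb⟩ := hb
    exact ⟨ta + tb, Submodule.add_mem _ hta htb, fun i => by simp [ha, hb]⟩
  | smul r a _ ha =>
    obtain ⟨ta, hta, ha⟩ := ha
    obtain ⟨r', rfl⟩ := hπ r
    exact ⟨r' • ta, Submodule.smul_mem _ _ hta, fun i => by simp [ha]⟩

include hπ in
/-- `ker π ∩ (g) ⊆ ker π · (g)` when the images of `g` are `H_1`-regular. -/
lemma inf_span_le (h : CAlgX.IsH1Regular (fun i => π (g i))) :
    RingHom.ker π ⊓ Ideal.span (Set.range g) ≤ RingHom.ker π * Ideal.span (Set.range g) := by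
  rintro a ⟨ha1, ha2⟩
  obtain ⟨r, rfl⟩ := Ideal.mem_span_range_iff_exists_fun.mp ha2
  have h0 : ∑ i, π (r i) * π (g i) = 0 := by
    have : π (∑ i, r i * g i) = 0 := ha1
    simpa [map_sum] using this
  have h1 := h (fun i => π (r i)) h0
  obtain ⟨t, ht, hts⟩ := exists_lift_triv π hπ g _ h1
  have h2 : ∑ i, r i * g i = ∑ i, (r i - t i) * g i := by
    have := relMap_triv g t ht
    rw [relMap_apply] at this
    simp only [sub_mul, Finset.sum_sub_distrib, this, sub_zero]
  rw [h2]
  refine Ideal.sum_mem _ fun i _ => Ideal.mul_mem_mul ?_ (Ideal.subset_span ⟨i, rfl⟩)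
  rw [RingHom.mem_ker, map_sub, hts i, sub_self]

lemma sq_le_aux (I G J : Ideal R) (hJ : J = I ⊔ G) : J ^ 2 ≤ I * J ⊔ G * G := by
  have hGJ : G ≤ J := hJ ▸ le_sup_right
  rw [sq, Ideal.mul_le]
  intro r hr s hs
  have hr' : r ∈ I ⊔ G := hJ ▸ hr
  obtain ⟨r1, hr1, r2, hr2, rfl⟩ := Submodule.mem_sup.mp hr'
  have hs' : s ∈ I ⊔ G := hJ ▸ hs
  obtain ⟨s1, hs1, s2, hs2, rfl⟩ := Submodule.mem_sup.mp hs'
  have e : (r1 + r2) * (s1 + s2) = (r1 * (s1 + s2) + s1 * r2) + r2 * s2 := by ring
  rw [e]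
  refine Ideal.add_mem _ (Ideal.mem_sup_left (Ideal.add_mem _ ?_ ?_)) (Ideal.mem_sup_right ?_)
  · exact Ideal.mul_mem_mul hr1 hs
  · exact Ideal.mul_mem_mul hs1 (hGJ hr2)
  · exact Ideal.mul_mem_mul hr2 hs2

lemma inf_sq_le_aux (I G J : Ideal R) (hJ : J = I ⊔ G) (hIG : I ⊓ G ≤ I * G) :
    I ⊓ J ^ 2 ≤ I * J := by
  have hGJ : G ≤ J := hJ ▸ le_sup_right
  intro x hx
  have hx1 : x ∈ I := (Ideal.mem_inf.mp hx).1
  have hx2 : x ∈ J ^ 2 := (Ideal.mem_inf.mp hx).2
  obtain ⟨y, hy, z, hz, hyz⟩ := Submodule.mem_sup.mp (sq_le_aux I G J hJ hx2)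
  have hyI : y ∈ I := Ideal.mul_le_left hy
  have hzI : z ∈ I := by
    have h3 := I.sub_mem hx1 hyI
    rwa [← hyz, add_sub_cancel_left] at h3
  have hzG : z ∈ G := Ideal.mul_le_right hz
  have hzIG : z ∈ I * G := hIG (Ideal.mem_inf.mpr ⟨hzI, hzG⟩)
  rw [← hyz]
  exact Ideal.add_mem _ hy (Ideal.mul_mono_right hGJ hzIG)

include hπ in
lemma inf_sq_le (h : CAlgX.IsH1Regular (fun i => π (g i))) (J : Ideal R)
    (hJ : J = RingHom.ker π ⊔ Ideal.span (Set.range g)) :
    RingHom.ker π ⊓ J ^ 2 ≤ RingHom.ker π * J :=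
  inf_sq_le_aux _ _ J hJ (inf_span_le π hπ g h)

end Ring


section Local

variable {A : Type u} [CommRing A] (I J : Ideal A) (hIJ : I ≤ J)

include hIJ in
/-- key local statement in the localization `A[1/g̃]` -/
lemma key_away (g₀ : A) (c : ℕ) (f : Fin c → Localization.Away (Ideal.Quotient.mk I g₀))
    (hf : CAlgX.IsH1Regular f)
    (hspan : Ideal.span (Set.range f) =
      (J.map (Ideal.Quotient.mk I)).map (algebraMap (A ⧸ I) (Localization.Away (Ideal.Quotient.mk I g₀))))
    (x : A) (hx : x ∈ I ⊓ J ^ 2) :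
    ∃ n : ℕ, g₀ ^ n * x ∈ I * J := by
  classical
  let R := Localization.Away g₀
  let Q := Localization.Away (Ideal.Quotient.mk I g₀)
  let π : R →+* Q := IsLocalization.Away.map R Q (Ideal.Quotient.mk I) g₀
  have hπ : Function.Surjective π := by
    intro q
    obtain ⟨y', ⟨_, n, rfl⟩, rfl⟩ :=
      IsLocalization.exists_mk'_eq (Submonoid.powers (Ideal.Quotient.mk I g₀)) q
    obtain ⟨y, rfl⟩ := Ideal.Quotient.mk_surjective y'
    refine ⟨IsLocalization.mk' R y (⟨g₀ ^ n, n, rfl⟩ : Submonoid.powers g₀), ?_⟩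
    show IsLocalization.map Q (Ideal.Quotient.mk I) _ _ = _
    rw [IsLocalization.map_mk']
    congr 1
  have hker : RingHom.ker π = I.map (algebraMap A R) := by
    have := IsLocalization.ker_map (S := R) Q (M := Submonoid.powers g₀)
      (T := Submonoid.powers (Ideal.Quotient.mk I g₀)) (Ideal.Quotient.mk I) (Submonoid.map_powers _ _)
    rw [Ideal.mk_ker] at this
    exact this
  have hcomp : ∀ a : A, π (algebraMap A R a) = algebraMap (A ⧸ I) Q (Ideal.Quotient.mk I a) := by
    intro a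
    exact IsLocalization.map_eq _ a
  choose g' hg' using fun i => hπ (f i)
  have hreg : CAlgX.IsH1Regular (fun i => π (g' i)) := by
    have : (fun i => π (g' i)) = f := funext hg'
    rw [this]; exact hf
  set J' : Ideal R := J.map (algebraMap A R) with hJ'
  have hmapJ' : J'.map π = Ideal.span (Set.range f) := by
    rw [hspan, hJ', Ideal.map_map, Ideal.map_map]
    congr 1
    ext a
    exact hcomp a
  have hmapG : (Ideal.span (Set.range g')).map π = Ideal.span (Set.range f) := by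
    rw [Ideal.map_span, ← Set.range_comp]
    congr 2
    exact funext hg'
  have hkerJ' : RingHom.ker π ≤ J' := by
    rw [hker]; exact Ideal.map_mono hIJ
  have hJeq : J' = RingHom.ker π ⊔ Ideal.span (Set.range g') := by
    apply le_antisymm
    · intro y hy
      have h1 : π y ∈ (Ideal.span (Set.range g')).map π := by
        rw [hmapG, ← hmapJ']; exact Ideal.mem_map_of_mem _ hy
      obtain ⟨w, hw, hwy⟩ := (Ideal.mem_map_iff_of_surjective π hπ).mp h1
      have h2 : y - w ∈ RingHom.ker π := by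
        rw [RingHom.mem_ker, map_sub, hwy, sub_self]
      have : y = (y - w) + w := by ring
      rw [this]
      exact Ideal.add_mem _ (Ideal.mem_sup_left h2) (Ideal.mem_sup_right hw)
    · refine sup_le hkerJ' ?_
      rw [Ideal.span_le]
      rintro _ ⟨i, rfl⟩
      have h1 : π (g' i) ∈ J'.map π := by
        rw [hmapJ', hg']; exact Ideal.subset_span ⟨i, rfl⟩
      obtain ⟨w, hw, hwy⟩ := (Ideal.mem_map_iff_of_surjective π hπ).mp h1
      have h2 : g' i - w ∈ RingHom.ker π := by
        rw [RingHom.mem_ker, map_sub, hwy, sub_self]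
      have : g' i = (g' i - w) + w := by ring
      rw [SetLike.mem_coe, this]
      exact Ideal.add_mem _ (hkerJ' h2) hw
  have hmain := inf_sq_le π hπ g' hreg J' hJeq
  have hxmem : algebraMap A R x ∈ RingHom.ker π ⊓ J' ^ 2 := by
    refine Ideal.mem_inf.mpr ⟨?_, ?_⟩
    · rw [hker]; exact Ideal.mem_map_of_mem _ (Ideal.mem_inf.mp hx).1
    · rw [hJ', ← Ideal.map_pow]; exact Ideal.mem_map_of_mem _ (Ideal.mem_inf.mp hx).2
  have hx2 : algebraMap A R x ∈ (I * J).map (algebraMap A R) := by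
    rw [Ideal.map_mul, ← hker]
    exact hmain hxmem
  obtain ⟨⟨⟨a, ha⟩, ⟨_, n, rfl⟩⟩, hxa⟩ :=
    (IsLocalization.mem_map_algebraMap_iff (Submonoid.powers g₀) R).mp hx2
  simp only at hxa
  rw [← map_mul] at hxa
  obtain ⟨⟨_, m, rfl⟩, hm⟩ := (IsLocalization.eq_iff_exists (Submonoid.powers g₀) R).mp hxa
  simp only at hm
  refine ⟨m + n, ?_⟩
  have : g₀ ^ (m + n) * x = g₀ ^ m * a := by
    rw [← hm]; ring
  rw [this]
  exact Ideal.mul_mem_left _ _ ha

end Local

/-- Let `A` be a ring and `I ⊆ J` ideals of `A` such that the ideal `J/I` of `A/I` is `H_1`-regular: for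
every prime `𝔮` of `A/I` containing `J/I` there is `g ∉ 𝔮` such that the extension of `J/I` to
`(A/I)_g` is generated by an `H_1`-regular sequence (a finite sequence all of whose linear relations
are combinations of the trivial ones). Then `I ∩ J² = I J`. -/
theorem result {A : Type u} [CommRing A] (I J : Ideal A)
    (hIJ : I ≤ J)
    (h : ∀ (𝔮 : Ideal (A ⧸ I)) [𝔮.IsPrime], J.map (Ideal.Quotient.mk I) ≤ 𝔮 →
      ∃ g : A ⧸ I, g ∉ 𝔮 ∧ ∃ (c : ℕ) (f : Fin c → Localization.Away g),
        CAlgX.IsH1Regular f ∧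
          Ideal.span (Set.range f) =
            (J.map (Ideal.Quotient.mk I)).map (algebraMap (A ⧸ I) (Localization.Away g))) :
    I ⊓ J ^ 2 = I * J := by
  apply le_antisymm
  · intro x hx
    have hxI : x ∈ I := (Ideal.mem_inf.mp hx).1
    -- local statement
    have key : ∀ (P : Ideal A), P.IsPrime → ∃ s : A, s ∉ P ∧ s * x ∈ I * J := by
      intro P hP
      by_cases hJP : J ≤ P
      · have hIP : I ≤ P := hIJ.trans hJP
        have hq : (P.map (Ideal.Quotient.mk I)).IsPrime :=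
          Ideal.map_isPrime_of_surjective Ideal.Quotient.mk_surjective (by rwa [Ideal.mk_ker])
        obtain ⟨g, hg, c, f, hf, hspan⟩ := h (P.map (Ideal.Quotient.mk I)) (Ideal.map_mono hJP)
        obtain ⟨g₀, rfl⟩ := Ideal.Quotient.mk_surjective g
        have hg₀ : g₀ ∉ P := fun hmem => hg (Ideal.mem_map_of_mem _ hmem)
        obtain ⟨n, hn⟩ := key_away I J hIJ g₀ c f hf hspan x hx
        exact ⟨g₀ ^ n, fun hmem => hg₀ (hP.mem_of_pow_mem n hmem), hn⟩
      · obtain ⟨j, hjJ, hjP⟩ := SetLike.not_le_iff_exists.mp hJP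
        exact ⟨j, hjP, by rw [mul_comm j x]; exact Ideal.mul_mem_mul hxI hjJ⟩
    apply Ideal.mem_of_localization_maximal
    intro P hP
    obtain ⟨s, hs, hsx⟩ := key P hP.isPrime
    rw [IsLocalization.mem_map_algebraMap_iff P.primeCompl]
    exact ⟨⟨⟨s * x, hsx⟩, ⟨s, hs⟩⟩, by simp [mul_comm]⟩
  · refine le_inf Ideal.mul_le_left ?_
    rw [sq]
    exact Ideal.mul_mono_left hIJ

end Groth.Agent.S9325
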