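import Groth.Statements.S9395
import Mathlib

set_option autoImplicit false
set_option linter.unusedSectionVars false
universe u
open CAlg

namespace Groth.Agent.S9395


open Polynomial

section

variable (R : Type u) [CommRing R] [IsDomain R]
    (S : Type u) [CommRing S] [IsDomain S] [Algebra (Polynomial R) S]
    [IsLocalization.Away (Polynomial.X : Polynomial R) S]

/-- `R → R[X] → S` -/
noncomputable def φ : R →+* S := (algebraMap R[X] S).comp Polynomial.C

lemma algebraMap_injective : Function.Injective (algebraMap R[X] S) :=
  IsLocalization.injective S (M := Submonoid.powers (X : R[X]))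
    (powers_le_nonZeroDivisors_of_noZeroDivisors X_ne_zero)

lemma φ_injective : Function.Injective (φ R S) :=
  (algebraMap_injective R S).comp Polynomial.C_injective

/-- evaluation at `X = 1` -/
noncomputable def ev₁ : S →+* R :=
  IsLocalization.Away.lift (X : R[X]) (g := Polynomial.evalRingHom (1 : R)) (by simp)

lemma ev₁_φ (r : R) : ev₁ R S (φ R S r) = r := by
  simp [ev₁, φ, IsLocalization.Away.lift_eq]

/-- `R → Frac S` -/
noncomputable def ψ : R →+* FractionRing S := (algebraMap S (FractionRing S)).comp (φ R S)

lemma ψ_injective : Function.Injective (ψ R S) :=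
  (IsFractionRing.injective S (FractionRing S)).comp (φ_injective R S)

/-- `Frac R → Frac S` -/
noncomputable def ι : FractionRing R →+* FractionRing S :=
  IsFractionRing.lift (ψ_injective R S)

lemma ι_algebraMap (r : R) : ι R S (algebraMap R (FractionRing R) r) = ψ R S r :=
  IsFractionRing.lift_algebraMap _ _

lemma isIntegral_ι (x : FractionRing R) (hx : IsIntegral R x) : IsIntegral S (ι R S x) := by
  refine IsIntegral.map_of_comp_eq (φ R S) (ι R S) ?_ hx
  ext r
  simp [ι_algebraMap, ψ]

end


section Main

variable (R : Type u) [CommRing R] [IsDomain R] [IsNoetherianRing R]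
    (S : Type u) [CommRing S] [IsDomain S] [Algebra (Polynomial R) S]
    [IsLocalization.Away (Polynomial.X : Polynomial R) S]

theorem main (h : CAlg.IsN1 S) : CAlg.IsN1 R := by
  classical
  unfold CAlg.IsN1 at h ⊢
  let K := FractionRing R
  let L := FractionRing S
  have hSN : IsNoetherianRing S :=
    IsLocalization.isNoetherianRing (Submonoid.powers (X : R[X])) S inferInstance
  have hS'N : IsNoetherian S (integralClosure S L) := isNoetherian_of_isNoetherianRing_of_finite S _
  have hS'N' : IsNoetherian S (integralClosure S L).toSubmodule := hS'N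
  -- the S-span of the image of the integral closure of R
  let N : Submodule S L := Submodule.span S (ι R S '' (integralClosure R K : Set K))
  have hN_le : N ≤ (integralClosure S L).toSubmodule := by
    rw [Submodule.span_le]
    rintro _ ⟨x, hx, rfl⟩
    exact isIntegral_ι R S x hx
  have hNfg : N.FG := by
    have h1 : (Submodule.comap (integralClosure S L).toSubmodule.subtype N).FG :=
      IsNoetherian.noetherian _
    have h2 := h1.map (integralClosure S L).toSubmodule.subtype
    rwa [Submodule.map_comap_subtype, inf_eq_right.mpr hN_le] at h2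
  obtain ⟨T', hT'sub, hT'span⟩ := (Submodule.fg_span_iff_fg_span_finset_subset _).mp hNfg
  obtain ⟨T, hTsub, rfl⟩ := Finset.subset_set_image_iff.mp hT'sub
  -- every element of N is an S-combination of ι t, t ∈ T
  have hcomb : ∀ y ∈ N, ∃ c : K → S, y = ∑ t ∈ T, algebraMap S L (c t) * ι R S t := by
    intro y hy
    replace hy : y ∈ Submodule.span S (↑(Finset.image (⇑(ι R S)) T) : Set L) := hT'span ▸ hy
    induction hy using Submodule.span_induction with
    | mem y hy =>
      simp only [Finset.coe_image, Set.mem_image, Finset.mem_coe] at hy
      obtain ⟨t₀, ht₀, rfl⟩ := hy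
      refine ⟨fun t => if t = t₀ then 1 else 0, ?_⟩
      simp [Finset.sum_ite_eq', ht₀]
    | zero => exact ⟨fun _ => 0, by simp⟩
    | add a b _ _ ha hb =>
      obtain ⟨ca, rfl⟩ := ha
      obtain ⟨cb, rfl⟩ := hb
      exact ⟨fun t => ca t + cb t, by simp [add_mul, Finset.sum_add_distrib]⟩
    | smul s a _ ha =>
      obtain ⟨ca, rfl⟩ := ha
      refine ⟨fun t => s * ca t, ?_⟩
      rw [Finset.smul_sum]
      refine Finset.sum_congr rfl fun t _ => ?_
      rw [Algebra.smul_def, map_mul, mul_assoc]
  -- conclusion
  have hfin : (integralClosure R K).toSubmodule = Submodule.span R (T : Set K) := by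
    apply le_antisymm
    · intro x hx
      have hxN : ι R S x ∈ N := Submodule.subset_span ⟨x, hx, rfl⟩
      obtain ⟨c, hc⟩ := hcomb _ hxN
      obtain ⟨⟨d, hd⟩, hdint⟩ := IsLocalization.exist_integer_multiples_of_finset
        (nonZeroDivisors R) (insert x T)
      have hd0 : d ≠ 0 := nonZeroDivisors.ne_zero hd
      choose! a ha using hdint
      have hax : algebraMap R K (a x) = algebraMap R K d * x := by
        have := ha x (Finset.mem_insert_self _ _)
        simpa [Algebra.smul_def] using this
      have hat : ∀ t ∈ T, algebraMap R K (a t) = algebraMap R K d * t := by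
        intro t ht
        have := ha t (Finset.mem_insert_of_mem ht)
        simpa [Algebra.smul_def] using this
      -- identity in S
      have h1 : ψ R S (a x) = ∑ t ∈ T, algebraMap S L (c t) * ψ R S (a t) := by
        rw [← ι_algebraMap, hax, map_mul, hc, Finset.mul_sum]
        refine Finset.sum_congr rfl fun t ht => ?_
        rw [← ι_algebraMap R S (a t), hat t ht, map_mul]
        ring
      have h2 : φ R S (a x) = ∑ t ∈ T, c t * φ R S (a t) := by
        apply IsFractionRing.injective S L
        rw [map_sum]
        simp only [map_mul]
        exact h1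
      have h3 : a x = ∑ t ∈ T, ev₁ R S (c t) * a t := by
        have := congrArg (ev₁ R S) h2
        rw [ev₁_φ, map_sum] at this
        simpa [map_mul, ev₁_φ] using this
      have h4 : algebraMap R K d * x = algebraMap R K d * ∑ t ∈ T, ev₁ R S (c t) • t := by
        rw [← hax, h3, map_sum, Finset.mul_sum]
        refine Finset.sum_congr rfl fun t ht => ?_
        rw [map_mul, hat t ht, Algebra.smul_def]
        ring
      have hdK : algebraMap R K d ≠ 0 := by
        simpa using hd0
      have h5 : x = ∑ t ∈ T, ev₁ R S (c t) • t := mul_left_cancel₀ hdK h4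
      rw [h5]
      exact Submodule.sum_mem _ fun t ht => Submodule.smul_mem _ _ (Submodule.subset_span ht)
    · rw [Submodule.span_le]
      exact hTsub
  have : (integralClosure R K).toSubmodule.FG := by
    rw [hfin]; exact Submodule.fg_span (Finset.finite_toSet T)
  exact ⟨(Submodule.fg_top _).mpr this⟩

end Main

/-- For a Noetherian domain R, if the Laurent polynomial ring R[X, 1/X] (the localization of R[X] away
from X) is N-1, then R is N-1. -/
theorem result (R : Type u) [CommRing R] [IsDomain R] [IsNoetherianRing R]
    (S : Type u) [CommRing S] [IsDomain S] [Algebra (Polynomial R) S]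
    [IsLocalization.Away (Polynomial.X : Polynomial R) S] (h : CAlg.IsN1 S) : CAlg.IsN1 R := by
  exact main R S h

end Groth.Agent.S9395
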