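import Groth.Statements.S9430
import Mathlib
import Groth.Agent.Lib.Helper14FTDim

set_option autoImplicit false
universe u
open Synt

namespace Groth.Agent.S9430


open Polynomial

section Pres

variable (k : Type u) [Field k]

/-- `A` has a presentation by `n` variables and `c` relations. -/
def Pres0 (A : Type u) [CommRing A] [Algebra k A] (n c : ℕ) : Prop :=
  ∃ (φ : MvPolynomial (Fin n) k →ₐ[k] A) (r : Fin c → MvPolynomial (Fin n) k),
    Function.Surjective φ ∧ RingHom.ker φ.toRingHom = Ideal.span (Set.range r)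

variable {k}

lemma Pres0.finiteType {A : Type u} [CommRing A] [Algebra k A]
    {n c : ℕ} (h : Pres0 k A n c) : Algebra.FiniteType k A := by
  obtain ⟨φ, r, hs, hk⟩ := h
  exact Algebra.FiniteType.of_surjective φ hs

lemma Pres0.equiv {A B : Type u} [CommRing A] [Algebra k A] [CommRing B] [Algebra k B]
    {n c : ℕ} (h : Pres0 k A n c) (e : A ≃ₐ[k] B) : Pres0 k B n c := by
  obtain ⟨φ, r, hs, hk⟩ := h
  refine ⟨e.toAlgHom.comp φ, r, e.surjective.comp hs, ?_⟩
  rw [← hk]
  ext x
  simp [RingHom.mem_ker]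

lemma Pres0.polynomial {A : Type u} [CommRing A] [Algebra k A]
    {n c : ℕ} (h : Pres0 k A n c) : Pres0 k A[X] (n + 1) c := by
  obtain ⟨φ, r, hs, hk⟩ := h
  let e := MvPolynomial.finSuccEquiv k n
  refine ⟨(Polynomial.mapAlgHom φ).comp e.toAlgHom, fun j => e.symm (C (r j)), ?_, ?_⟩
  · exact (Polynomial.map_surjective _ hs).comp e.surjective
  · ext x
    have h1 : x ∈ RingHom.ker ((Polynomial.mapAlgHom φ).comp e.toAlgHom).toRingHom ↔
        e x ∈ RingHom.ker (Polynomial.mapRingHom φ.toRingHom) := by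
      simp [RingHom.mem_ker]
    rw [h1, Polynomial.ker_mapRingHom, hk, Ideal.map_span]
    have h2 : x ∈ Ideal.span (Set.range fun j => e.symm (C (r j))) ↔
        e x ∈ Ideal.span ((C : MvPolynomial (Fin n) k →+* _) '' Set.range r) := by
      have : Ideal.span ((C : MvPolynomial (Fin n) k →+* _) '' Set.range r) =
          (Ideal.span (Set.range fun j => e.symm (C (r j)))).map e.toRingEquiv.toRingHom := by
        rw [Ideal.map_span]
        congr 1
        ext y
        simp only [Set.mem_image, Set.mem_range, exists_exists_eq_and]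
        constructor
        · rintro ⟨j, rfl⟩
          exact ⟨j, by simp⟩
        · rintro ⟨j, rfl⟩
          exact ⟨j, by simp⟩
      rw [this]
      constructor
      · intro hx
        exact Ideal.mem_map_of_mem _ hx
      · intro hx
        obtain ⟨x', hx', hxx⟩ := (Ideal.mem_map_of_equiv e.toRingEquiv _).mp hx
        have : x' = x := e.injective hxx
        exact this ▸ hx'
    rw [h2]

lemma Pres0.quotient {B : Type u} [CommRing B] [Algebra k B]
    {n c : ℕ} (h : Pres0 k B n c) (p : B) : Pres0 k (B ⧸ Ideal.span {p}) n (c + 1) := by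
  obtain ⟨φ, r, hs, hk⟩ := h
  obtain ⟨p', hp'⟩ := hs p
  refine ⟨(Ideal.Quotient.mkₐ k _).comp φ, Fin.snoc r p', ?_, ?_⟩
  · exact (Ideal.Quotient.mkₐ_surjective k _).comp hs
  · have h1 : RingHom.ker ((Ideal.Quotient.mkₐ k (Ideal.span {p})).comp φ).toRingHom =
        Ideal.comap φ.toRingHom (Ideal.span {p}) := by
      ext x
      simp [RingHom.mem_ker, Ideal.Quotient.eq_zero_iff_mem]
    have h2 : Ideal.span {p} = Ideal.map φ.toRingHom (Ideal.span {p'}) := by
      rw [Ideal.map_span, Set.image_singleton]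
      simp [hp']
    rw [h1, h2, Ideal.comap_map_of_surjective φ.toRingHom hs, ← RingHom.ker_eq_comap_bot, hk,
      ← Ideal.span_union]
    congr 1
    ext y
    simp only [Set.mem_range]
    constructor
    · rintro (rfl | ⟨j, rfl⟩)
      · exact ⟨Fin.last c, by simp⟩
      · exact ⟨j.castSucc, by simp⟩
    · rintro ⟨j, rfl⟩
      refine Fin.lastCases ?_ (fun i => ?_) j
      · left; simp
      · right; exact ⟨i, by simp⟩

lemma Pres0.adjoinRoot {A : Type u} [CommRing A] [Algebra k A]
    {n c : ℕ} (h : Pres0 k A n c) (P : A[X]) : Pres0 k (AdjoinRoot P) (n + 1) (c + 1) :=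
  h.polynomial.quotient P

lemma Pres0.away {A : Type u} [CommRing A] [Algebra k A]
    {n c : ℕ} (h : Pres0 k A n c) (s : A) : Pres0 k (Localization.Away s) (n + 1) (c + 1) :=
  (h.adjoinRoot (C s * X - 1)).equiv ((Localization.awayEquivAdjoin s).symm.restrictScalars k)

end Pres

section Dim

variable {k : Type u} [Field k]

lemma dim_away {A : Type u} [CommRing A] [IsDomain A] [Algebra k A] [Algebra.FiniteType k A]
    (s : A) (hs : s ≠ 0) : ringKrullDim (Localization.Away s) = ringKrullDim A := by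
  obtain ⟨n, -, hn, hmax⟩ := Groth.Agent.Lib.Helper14.FTDim.exists_dim k A
  haveI : Algebra.FiniteType k (Localization.Away s) :=
    Algebra.FiniteType.trans (inferInstance : Algebra.FiniteType k A)
      (IsLocalization.finiteType_of_monoid_fg (Submonoid.powers s) (Localization.Away s))
  haveI : IsDomain (Localization.Away s) :=
    IsLocalization.isDomain_localization (powers_le_nonZeroDivisors_of_noZeroDivisors hs)
  obtain ⟨n', -, hn', hmax'⟩ := Groth.Agent.Lib.Helper14.FTDim.exists_dim k (Localization.Away s)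
  obtain ⟨M, hM⟩ := Ideal.exists_maximal (Localization.Away s)
  haveI : IsJacobsonRing A := isJacobsonRing_of_finiteType (A := k)
  have h0 := (IsLocalization.isMaximal_iff_isMaximal_disjoint (Localization.Away s) s M).mp hM
  have h1 : (M.under A).height = M.height := IsLocalization.height_under (Submonoid.powers s) M
  haveI := h0.1
  rw [hn, hn']
  have h2 := hmax' M
  have h3 := hmax (M.under A)
  rw [← h1, h3] at h2
  have : n' = n := by exact_mod_cast h2.symm
  rw [this]

lemma dim_adjoinRoot {A : Type u} [CommRing A] (P : A[X]) (hP : P.Monic)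
    (hinj : Function.Injective (algebraMap A (AdjoinRoot P))) :
    ringKrullDim (AdjoinRoot P) = ringKrullDim A := by
  haveI : Module.Finite A (AdjoinRoot P) := hP.finite_adjoinRoot
  haveI : Algebra.IsIntegral A (AdjoinRoot P) := Algebra.IsIntegral.of_finite _ _
  exact Groth.Agent.Lib.Helper5.ringKrullDim_eq_of_isIntegral_of_injective A (AdjoinRoot P) hinj

end Dim

section Step

variable {k : Type u} [Field k] {K : Type u} [Field K] [Algebra k K]

theorem step_alg {A : Type u} [CommRing A] [Algebra k A]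
    (j : A →ₐ[k] K) (hj : Function.Injective j)
    {n c : ℕ} (hA : Pres0 k A n c)
    (hdim : ringKrullDim A + (c : WithBot ℕ∞) = (n : WithBot ℕ∞)) (y : K)
    (Q : A[X]) (hQ0 : Q ≠ 0) (hQy : Q.eval₂ j.toRingHom y = 0)
    (hmin : ∀ Q' : A[X], Q' ≠ 0 → Q'.eval₂ j.toRingHom y = 0 → Q.natDegree ≤ Q'.natDegree) :
    ∃ (A' : Type u) (_ : CommRing A') (_ : Algebra k A') (j' : A' →ₐ[k] K),
      Function.Injective j' ∧
      (∃ n' c' : ℕ, Pres0 k A' n' c' ∧
        ringKrullDim A' + (c' : WithBot ℕ∞) = (n' : WithBot ℕ∞)) ∧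
      y ∈ j'.range ∧ j.range ≤ j'.range := by
  haveI : IsDomain A := hj.isDomain j.toRingHom
  haveI : Algebra.FiniteType k A := hA.finiteType
  set s := Q.leadingCoeff with hs_def
  have hs : s ≠ 0 := by rwa [hs_def, Ne, leadingCoeff_eq_zero]
  let As := Localization.Away s
  have hpow : Submonoid.powers s ≤ nonZeroDivisors A :=
    powers_le_nonZeroDivisors_of_noZeroDivisors hs
  haveI : IsDomain As := IsLocalization.isDomain_localization hpow
  have hι : Function.Injective (algebraMap A As) := IsLocalization.injective As hpow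
  have hu : ∀ t : Submonoid.powers s, IsUnit (j t) := by
    intro t
    refine IsUnit.mk0 _ ?_
    intro h0
    have : (t : A) = 0 := hj (by simpa using h0)
    exact (nonZeroDivisors.ne_zero (hpow t.2)) this
  let js : As →ₐ[k] K := IsLocalization.liftAlgHom (M := Submonoid.powers s) (f := j) hu
  have hjs_comp : ∀ a : A, js (algebraMap A As a) = j a := by
    intro a
    simp [js]
  have hjs : Function.Injective js := by
    rw [IsLocalization.coe_liftAlgHom, IsLocalization.lift_injective_iff]
    intro a b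
    constructor
    · intro h
      rw [hι h]
    · intro h
      have : a = b := hj h
      rw [this]
  -- the monic polynomial
  set inv : As := IsLocalization.Away.invSelf s with hinv
  have hinv1 : algebraMap A As s * inv = 1 := IsLocalization.Away.mul_invSelf s
  have hinv0 : inv ≠ 0 := by
    intro h
    rw [h, mul_zero] at hinv1
    exact zero_ne_one hinv1
  set Q1 : As[X] := C inv * Q.map (algebraMap A As) with hQ1
  have hQ1monic : Q1.Monic := by
    apply monic_C_mul_of_mul_leadingCoeff_eq_one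
    rw [leadingCoeff_map_of_injective hι, mul_comm]
    exact hinv1
  have hQ1deg : Q1.natDegree = Q.natDegree := by
    rw [hQ1, natDegree_C_mul hinv0, natDegree_map_eq_of_injective hι]
  have hcomp : js.toRingHom.comp (algebraMap A As) = j.toRingHom := by
    ext a
    exact hjs_comp a
  have hQ1y : Q1.eval₂ js.toRingHom y = 0 := by
    rw [hQ1, eval₂_mul, eval₂_map, hcomp, hQy, mul_zero]
  let A' := AdjoinRoot Q1
  let j' : A' →ₐ[k] K := AdjoinRoot.liftAlgHom Q1 js y hQ1y
  have hj'mk : ∀ R : As[X], j' (AdjoinRoot.mk Q1 R) = R.eval₂ js.toRingHom y := by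
    intro R
    exact AdjoinRoot.lift_mk hQ1y R
  have hj' : Function.Injective j' := by
    rw [injective_iff_map_eq_zero]
    intro x hx
    obtain ⟨R, rfl⟩ := AdjoinRoot.mk_surjective x
    rw [hj'mk] at hx
    rw [AdjoinRoot.mk_eq_zero, ← modByMonic_eq_zero_iff_dvd hQ1monic]
    by_contra hne
    set R2 := R %ₘ Q1 with hR2
    have hR2y : R2.eval₂ js.toRingHom y = 0 := by
      have h1 := modByMonic_add_div R Q1
      have h2 : R2 = R - Q1 * (R /ₘ Q1) := by rw [eq_sub_iff_add_eq]; exact h1
      rw [h2, eval₂_sub, eval₂_mul, hx, hQ1y, zero_mul, sub_zero]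
    have hdeg : R2.natDegree < Q1.natDegree := by
      apply natDegree_modByMonic_lt R hQ1monic
      intro h1
      apply hne
      rw [hR2, h1, modByMonic_one]
    set R0 := IsLocalization.integerNormalization (Submonoid.powers s) R2 with hR0
    have hR0ne : R0 ≠ 0 := by
      rw [hR0, Ne, IsLocalization.integerNormalization_eq_zero_iff hpow]
      exact hne
    have hR0y : R0.eval₂ j.toRingHom y = 0 := by
      rw [← hcomp]
      exact IsLocalization.integerNormalization_eval₂_eq_zero _ _ _ hR2y
    have hR0deg : R0.natDegree ≤ R2.natDegree :=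
      natDegree_le_natDegree (degree_mono
        (IsLocalization.integerNormalization_support (Submonoid.powers s) R2))
    have := hmin R0 hR0ne hR0y
    omega
  have hof : ∀ a : As, j' (AdjoinRoot.of Q1 a) = js a := by
    intro a
    rw [← AdjoinRoot.mk_C, hj'mk, eval₂_C]
    rfl
  have hinjof : Function.Injective (algebraMap As A') := by
    intro a b hab
    apply hjs
    rw [← hof, ← hof]
    exact congrArg j' hab
  refine ⟨A', inferInstance, inferInstance, j', hj', ⟨n + 1 + 1, c + 1 + 1,
    (hA.away s).adjoinRoot Q1, ?_⟩, ?_, ?_⟩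
  · rw [dim_adjoinRoot Q1 hQ1monic hinjof, dim_away (k := k) s hs]
    push_cast
    rw [← add_assoc, ← add_assoc, hdim]
  · refine ⟨AdjoinRoot.root Q1, ?_⟩
    rw [← AdjoinRoot.mk_X]
    change j' (AdjoinRoot.mk Q1 X) = y
    rw [hj'mk, eval₂_X]
  · rintro _ ⟨a, rfl⟩
    refine ⟨AdjoinRoot.of Q1 (algebraMap A As a), ?_⟩
    change j' (AdjoinRoot.of Q1 (algebraMap A As a)) = j a
    rw [hof, hjs_comp]

theorem step_trans {A : Type u} [CommRing A] [Algebra k A]
    (j : A →ₐ[k] K) (hj : Function.Injective j)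
    {n c : ℕ} (hA : Pres0 k A n c)
    (hdim : ringKrullDim A + (c : WithBot ℕ∞) = (n : WithBot ℕ∞)) (y : K)
    (htr : ∀ Q : A[X], Q.eval₂ j.toRingHom y = 0 → Q = 0) :
    ∃ (A' : Type u) (_ : CommRing A') (_ : Algebra k A') (j' : A' →ₐ[k] K),
      Function.Injective j' ∧
      (∃ n' c' : ℕ, Pres0 k A' n' c' ∧
        ringKrullDim A' + (c' : WithBot ℕ∞) = (n' : WithBot ℕ∞)) ∧
      y ∈ j'.range ∧ j.range ≤ j'.range := by
  haveI : Algebra.FiniteType k A := hA.finiteType
  haveI : IsNoetherianRing A := Algebra.FiniteType.isNoetherianRing k A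
  let j' : A[X] →ₐ[k] K := Polynomial.aevalTower j y
  have hj'apply : ∀ Q : A[X], j' Q = Q.eval₂ j.toRingHom y := fun Q => rfl
  refine ⟨A[X], inferInstance, inferInstance, j', ?_, ⟨n + 1, c, hA.polynomial, ?_⟩, ?_, ?_⟩
  · rw [injective_iff_map_eq_zero]
    intro Q hQ
    exact htr Q (by rw [← hj'apply]; exact hQ)
  · rw [Polynomial.ringKrullDim_of_isNoetherianRing]
    push_cast
    rw [add_right_comm, hdim]
  · exact ⟨X, (hj'apply X).trans (eval₂_X _ _)⟩
  · rintro _ ⟨a, rfl⟩
    exact ⟨C a, (hj'apply (C a)).trans (eval₂_C _ _)⟩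

theorem step {A : Type u} [CommRing A] [Algebra k A]
    (j : A →ₐ[k] K) (hj : Function.Injective j)
    {n c : ℕ} (hA : Pres0 k A n c)
    (hdim : ringKrullDim A + (c : WithBot ℕ∞) = (n : WithBot ℕ∞)) (y : K) :
    ∃ (A' : Type u) (_ : CommRing A') (_ : Algebra k A') (j' : A' →ₐ[k] K),
      Function.Injective j' ∧
      (∃ n' c' : ℕ, Pres0 k A' n' c' ∧
        ringKrullDim A' + (c' : WithBot ℕ∞) = (n' : WithBot ℕ∞)) ∧
      y ∈ j'.range ∧ j.range ≤ j'.range := by
  by_cases htr : ∀ Q : A[X], Q.eval₂ j.toRingHom y = 0 → Q = 0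
  · exact step_trans j hj hA hdim y htr
  · push Not at htr
    have hne : {Q : A[X] | Q ≠ 0 ∧ Q.eval₂ j.toRingHom y = 0}.Nonempty := by
      obtain ⟨Q, h1, h2⟩ := htr
      exact ⟨Q, h2, h1⟩
    obtain ⟨Q, hQmem, hQmin⟩ :=
      (InvImage.wf (fun Q : A[X] => Q.natDegree) Nat.lt_wfRel.wf).has_min _ hne
    refine step_alg j hj hA hdim y Q hQmem.1 hQmem.2 ?_
    intro Q' h1 h2
    have := hQmin Q' ⟨h1, h2⟩
    exact not_lt.mp this

theorem main (E : Finset K) :
    ∃ (A : Type u) (_ : CommRing A) (_ : Algebra k A) (j : A →ₐ[k] K),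
      Function.Injective j ∧
      (∃ n c : ℕ, Pres0 k A n c ∧
        ringKrullDim A + (c : WithBot ℕ∞) = (n : WithBot ℕ∞)) ∧
      (↑E : Set K) ⊆ (j.range : Set K) := by
  classical
  induction E using Finset.induction_on with
  | empty =>
    refine ⟨k, inferInstance, inferInstance, Algebra.ofId k K, (algebraMap k K).injective,
      ⟨0, 0, ⟨(MvPolynomial.isEmptyAlgEquiv k (Fin 0)).toAlgHom, Fin.elim0,
        (MvPolynomial.isEmptyAlgEquiv k (Fin 0)).surjective, ?_⟩, ?_⟩, by simp⟩
    · have : Set.range (Fin.elim0 : Fin 0 → MvPolynomial (Fin 0) k) = ∅ := Set.range_eq_empty _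
      rw [this, Ideal.span_empty]
      exact (RingHom.injective_iff_ker_eq_bot _).mp
        (MvPolynomial.isEmptyAlgEquiv k (Fin 0)).injective
    · rw [ringKrullDim_eq_zero_of_field]
      simp
  | insert y E hy ih =>
    obtain ⟨A, _, _, j, hj, ⟨n, c, hA, hdim⟩, hE⟩ := ih
    obtain ⟨A', i1, i2, j', hj', hP, hy', hle⟩ := step j hj hA hdim y
    refine ⟨A', i1, i2, j', hj', hP, ?_⟩
    intro x hx
    rw [Finset.coe_insert] at hx
    rcases hx with rfl | hx
    · exact hy'
    · exact hle (hE hx)

lemma arith (d : WithBot ℕ∞) (c n : ℕ) (h : d + (c : WithBot ℕ∞) = (n : WithBot ℕ∞)) :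
    c ≤ n ∧ d = ((n - c : ℕ) : WithBot ℕ∞) := by
  induction d using WithBot.recBotCoe with
  | bot => simp at h
  | coe d =>
    induction d using ENat.recTopCoe with
    | top =>
      exfalso
      have : ((⊤ : ℕ∞) : WithBot ℕ∞) + (c : WithBot ℕ∞) = ((⊤ : ℕ∞) : WithBot ℕ∞) := by
        rw [show (c : WithBot ℕ∞) = ((c : ℕ∞) : WithBot ℕ∞) from rfl, ← WithBot.coe_add, top_add]
      rw [this] at h
      have h2 : (n : WithBot ℕ∞) = ((n : ℕ∞) : WithBot ℕ∞) := rfl
      rw [h2, WithBot.coe_inj] at h
      exact ENat.top_ne_natCast n h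
    | coe m =>
      have h' : m + c = n := by exact_mod_cast h
      refine ⟨by omega, ?_⟩
      have : m = n - c := by omega
      rw [this]
      rfl

end Step


/-- For a field extension K/k, every finite subset of K lies in a k-subalgebra of K which is a global
complete intersection over k; so K is the directed union of its k-subalgebras that are global
complete intersections over k. -/
theorem result (k : Type u) [Field k] (K : Type u)
    [Field K] [Algebra k K] (E : Finset K) :
    ∃ A : Subalgebra k K, (↑E : Set K) ⊆ (A : Set K) ∧ Synt.IsGlobalCI k A := by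
  obtain ⟨A, _, _, j, hj, ⟨n, c, hA, hdim⟩, hE⟩ := main (k := k) E
  refine ⟨j.range, hE, Or.inr ?_⟩
  let e : A ≃ₐ[k] j.range := AlgEquiv.ofInjective j hj
  have hdim' : ringKrullDim j.range + (c : WithBot ℕ∞) = (n : WithBot ℕ∞) := by
    rw [← ringKrullDim_eq_of_ringEquiv e.toRingEquiv]
    exact hdim
  obtain ⟨hcn, hd⟩ := arith _ c n hdim'
  obtain ⟨φ, r, hs, hk⟩ := hA.equiv e
  exact ⟨n, c, hcn, φ, r, hs, hk, hd⟩

end Groth.Agent.S9430
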