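import Groth.Statements.S9441
import Mathlib
import Groth.Agent.S9366
import Groth.Agent.Lib.Helper3SmDim

set_option linter.style.haveILetI false

set_option autoImplicit false
universe u
open Synt

namespace Groth.Agent.S9441

open TensorProduct Algebra CategoryTheory AlgebraicGeometry

open Algebra in
/-- (⇐): a minor not in `q` makes `S` smooth at `q`. -/
theorem smoothAt_of_minor (R : Type u) [CommRing R] (n c : ℕ)
    (F : Fin c → MvPolynomial (Fin n) R)
    (q : Ideal (Synt.RelGCIRing R n c F)) [q.IsPrime] (emb : Fin c ↪ Fin n)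
    (h : Ideal.Quotient.mk (Ideal.span (Set.range F))
        (Matrix.det (Matrix.of fun j i => MvPolynomial.pderiv (emb i) (F j))) ∉ q) :
    Algebra.IsSmoothAt R q := by
  set S := Synt.RelGCIRing R n c F
  set g : S := Ideal.Quotient.mk (Ideal.span (Set.range F))
        (Matrix.det (Matrix.of fun j i => MvPolynomial.pderiv (emb i) (F j))) with hg
  let Pn : PreSubmersivePresentation R S (Fin n) (Fin c) :=
    PreSubmersivePresentation.naive emb emb.injective
  have hjac : Pn.jacobian = g := by
    rw [PreSubmersivePresentation.jacobian_eq_jacobiMatrix_det, hg]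
    have : Pn.jacobiMatrix = (Matrix.of fun j i => MvPolynomial.pderiv (emb i) (F j)).transpose := by
      ext i j
      rw [PreSubmersivePresentation.jacobiMatrix_naive]
      rfl
    rw [this, Matrix.det_transpose]
    rfl
  let Q : PreSubmersivePresentation S (Localization.Away g) Unit Unit :=
    PreSubmersivePresentation.localizationAway (Localization.Away g) g
  let PQ : SubmersivePresentation R (Localization.Away g) (Unit ⊕ Fin n) (Unit ⊕ Fin c) :=
    { toPreSubmersivePresentation := Q.comp Pn
      jacobian_isUnit := by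
        rw [PreSubmersivePresentation.comp_jacobian_eq_jacobian_smul_jacobian, Algebra.smul_def,
          hjac, PreSubmersivePresentation.localizationAway_jacobian]
        exact (IsLocalization.Away.algebraMap_isUnit g).mul (IsLocalization.Away.algebraMap_isUnit g) }
  haveI : IsStandardSmooth R (Localization.Away g) := PQ.isStandardSmooth
  haveI : Algebra.FinitePresentation R S := Pn.finitePresentation_of_isFinite
  have hsm : Algebra.FormallySmooth R (Localization.Away g) := inferInstance
  have hsub := (Algebra.basicOpen_subset_smoothLocus_iff (R := R) (A := S) (f := g)).mpr hsm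
  exact hsub (show (⟨q, inferInstance⟩ : PrimeSpectrum S) ∈ PrimeSpectrum.basicOpen g from h)

/-- a `c × n` matrix over a field with linearly independent rows has a nonzero maximal minor. -/
theorem exists_minor_ne_zero {K : Type*} [Field K] {n c : ℕ} (v : Fin c → (Fin n → K))
    (hv : LinearIndependent K v) :
    ∃ emb : Fin c ↪ Fin n, Matrix.det (Matrix.of fun j i => v j (emb i)) ≠ 0 := by
  classical
  -- the matrix `A` with rows `v`
  let A : Matrix (Fin c) (Fin n) K := Matrix.of v
  have hrank : A.rank = c := by
    have := (Matrix.rank_eq_finrank_span_row A)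
    rw [this]
    have h2 : Module.finrank K (Submodule.span K (Set.range A.row)) = Fintype.card (Fin c) :=
      finrank_span_eq_card (b := A.row) hv
    rw [h2, Fintype.card_fin]
  -- columns span a space of dimension c inside K^c, so they span everything
  have hcol : Submodule.span K (Set.range A.col) = ⊤ := by
    apply Submodule.eq_top_of_finrank_eq
    rw [← Matrix.rank_eq_finrank_span_cols, hrank, Module.finrank_fin_fun]
  -- extract a basis from the columns
  obtain ⟨b, hb1, hb2, hb3⟩ := exists_linearIndependent K (Set.range A.col)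
  haveI : Finite b := hb3.finite
  haveI : Fintype b := Fintype.ofFinite b
  let B : Module.Basis b K (Fin c → K) := Module.Basis.mk hb3 (by
    rw [Subtype.range_coe_subtype, Set.ofPred_mem_eq, hb2, hcol])
  have hcard : Fintype.card b = c := by
    rw [← Module.finrank_eq_card_basis B, Module.finrank_fin_fun]
  let e : Fin c ≃ b := (Fintype.equivFinOfCardEq hcard).symm
  have hidx : ∀ x : b, ∃ i : Fin n, A.col i = x := fun x => hb1 x.2
  choose idx hidx using hidx
  have hidx_inj : Function.Injective idx := by
    intro x y h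
    apply Subtype.ext
    rw [← hidx x, ← hidx y, h]
  refine ⟨⟨idx ∘ e, hidx_inj.comp e.injective⟩, ?_⟩
  set M : Matrix (Fin c) (Fin c) K := Matrix.of fun j i => v j ((idx ∘ e) i) with hM
  have hMcol : M.col = fun i => ((e i : b) : Fin c → K) := by
    funext i
    rw [← hidx (e i)]
    rfl
  have hli : LinearIndependent K M.col := by
    rw [hMcol]
    exact hb3.comp e e.injective
  have hunit : IsUnit M := Matrix.linearIndependent_cols_iff_isUnit.mp hli
  have := (Matrix.isUnit_iff_isUnit_det M).mp hunit
  exact this.ne_zero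

section Cot

variable (R : Type u) [CommRing R] (n c : ℕ) (F : Fin c → MvPolynomial (Fin n) R)

local notation "SS" => (MvPolynomial (Fin n) R ⧸ Ideal.span (Set.range F))

/-- the naive presentation -/
noncomputable abbrev pres : Algebra.Presentation R (MvPolynomial (Fin n) R ⧸ Ideal.span (Set.range F))
    (Fin n) (Fin c) :=
  Algebra.Presentation.naive (v := F)

/-- the differentials of the relations, in the cotangent space -/
noncomputable def uu (j : Fin c) : (pres R n c F).toExtension.CotangentSpace :=
  (1 : MvPolynomial (Fin n) R ⧸ Ideal.span (Set.range F)) ⊗ₜ[(pres R n c F).toExtension.Ring]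
    KaehlerDifferential.D R (pres R n c F).toExtension.Ring ((pres R n c F).relation j)

theorem uu_repr (j : Fin c) (i : Fin n) :
    (pres R n c F).cotangentSpaceBasis.repr (uu R n c F j) i =
      Ideal.Quotient.mk _ (MvPolynomial.pderiv i (F j)) := by
  rw [uu, Generators.cotangentSpaceBasis_repr_one_tmul]
  have : ∀ p : MvPolynomial (Fin n) R,
      MvPolynomial.aeval (pres R n c F).val p = Ideal.Quotient.mk (Ideal.span (Set.range F)) p := by
    intro p
    rw [← Ideal.Quotient.mkₐ_eq_mk R, MvPolynomial.aeval_unique (Ideal.Quotient.mkₐ R _)]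
    rfl
  exact this _

theorem one_tmul_D_mem (x : (pres R n c F).toExtension.Ring)
    (hx : x ∈ (pres R n c F).toExtension.ker) :
    (1 : MvPolynomial (Fin n) R ⧸ Ideal.span (Set.range F)) ⊗ₜ[(pres R n c F).toExtension.Ring]
      KaehlerDifferential.D R (pres R n c F).toExtension.Ring x ∈
      Submodule.span (MvPolynomial (Fin n) R ⧸ Ideal.span (Set.range F)) (Set.range (uu R n c F)) := by
  have hker : (pres R n c F).toExtension.ker = Ideal.span (Set.range (pres R n c F).relation) :=
    (pres R n c F).span_range_relation_eq_ker.symm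
  rw [hker] at hx
  induction hx using Submodule.span_induction with
  | mem x hx' =>
    obtain ⟨j, rfl⟩ := hx'
    exact Submodule.subset_span ⟨j, rfl⟩
  | zero =>
    rw [map_zero, TensorProduct.tmul_zero]
    exact zero_mem _
  | add x y hx1 hy1 ihx ihy =>
    rw [map_add, TensorProduct.tmul_add]
    exact add_mem ihx ihy
  | smul a x hx1 ihx =>
    have hx0 : algebraMap (pres R n c F).toExtension.Ring
        (MvPolynomial (Fin n) R ⧸ Ideal.span (Set.range F)) x = 0 := by
      have : x ∈ (pres R n c F).toExtension.ker := by rw [hker]; exact hx1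
      exact this
    obtain ⟨a', ha'⟩ : ∃ a' : (pres R n c F).toExtension.Ring, a' = a := ⟨a, rfl⟩
    subst ha'
    change (1 : MvPolynomial (Fin n) R ⧸ Ideal.span (Set.range F)) ⊗ₜ[(pres R n c F).toExtension.Ring]
      KaehlerDifferential.D R (pres R n c F).toExtension.Ring (a' * x) ∈ _
    rw [Derivation.leibniz, TensorProduct.tmul_add, TensorProduct.tmul_smul,
      TensorProduct.tmul_smul]
    refine add_mem ?_ ?_
    · rw [← algebraMap_smul (MvPolynomial (Fin n) R ⧸ Ideal.span (Set.range F)) a']
      exact Submodule.smul_mem _ _ ihx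
    · rw [TensorProduct.smul_tmul', ← algebraMap_smul
        (MvPolynomial (Fin n) R ⧸ Ideal.span (Set.range F)) x, smul_eq_mul, mul_one, hx0,
        TensorProduct.zero_tmul]
      exact zero_mem _

theorem range_cotangentComplex :
    LinearMap.range (pres R n c F).toExtension.cotangentComplex =
      Submodule.span (MvPolynomial (Fin n) R ⧸ Ideal.span (Set.range F)) (Set.range (uu R n c F)) := by
  apply le_antisymm
  · rintro _ ⟨y, rfl⟩
    obtain ⟨x, rfl⟩ := Extension.Cotangent.mk_surjective y
    rw [Extension.cotangentComplex_mk]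
    exact one_tmul_D_mem R n c F x.1 x.2
  · rw [Submodule.span_le]
    rintro _ ⟨j, rfl⟩
    refine ⟨Extension.Cotangent.mk ⟨(pres R n c F).relation j, (pres R n c F).relation_mem_ker j⟩, ?_⟩
    rw [Extension.cotangentComplex_mk]
    rfl

theorem rows_linearIndependent (T : Type u) [Field T]
    [Algebra (MvPolynomial (Fin n) R ⧸ Ideal.span (Set.range F)) T]
    (hrank : Module.finrank T
      (T ⊗[MvPolynomial (Fin n) R ⧸ Ideal.span (Set.range F)]
        Ω[(MvPolynomial (Fin n) R ⧸ Ideal.span (Set.range F))⁄R]) + c = n) :
    LinearIndependent T (fun j : Fin c => fun i : Fin n =>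
      algebraMap (MvPolynomial (Fin n) R ⧸ Ideal.span (Set.range F)) T
        (Ideal.Quotient.mk _ (MvPolynomial.pderiv i (F j)))) := by
  classical
  let E := (pres R n c F).toExtension
  let b := (pres R n c F).cotangentSpaceBasis
  let bT : Module.Basis (Fin n) T (T ⊗[SS] E.CotangentSpace) := b.baseChange T
  let g : T ⊗[SS] E.CotangentSpace →ₗ[T] T ⊗[SS] Ω[SS⁄R] := E.toKaehler.baseChange T
  have hg_surj : Function.Surjective g := by
    have : (g : T ⊗[SS] E.CotangentSpace → T ⊗[SS] Ω[SS⁄R]) = E.toKaehler.lTensor T := rfl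
    rw [this]
    exact LinearMap.lTensor_surjective T E.toKaehler_surjective
  let w : Fin c → T ⊗[SS] E.CotangentSpace := fun j => (1 : T) ⊗ₜ[SS] uu R n c F j
  have hex : Function.Exact E.cotangentComplex E.toKaehler := E.exact_cotangentComplex_toKaehler
  -- key: t ⊗ v ∈ span w for v in the S-span of uu
  have hkey : ∀ v ∈ Submodule.span SS (Set.range (uu R n c F)), ∀ t : T,
      t ⊗ₜ[SS] v ∈ Submodule.span T (Set.range w) := by
    intro v hv
    induction hv using Submodule.span_induction with
    | mem v hv =>
      obtain ⟨j, rfl⟩ := hv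
      intro t
      have : t ⊗ₜ[SS] uu R n c F j = t • w j := by
        simp only [w, TensorProduct.smul_tmul', smul_eq_mul, mul_one]
      rw [this]
      exact Submodule.smul_mem _ _ (Submodule.subset_span ⟨j, rfl⟩)
    | zero => intro t; rw [TensorProduct.tmul_zero]; exact zero_mem _
    | add x y _ _ ihx ihy => intro t; rw [TensorProduct.tmul_add]; exact add_mem (ihx t) (ihy t)
    | smul s x _ ihx =>
      intro t
      rw [← TensorProduct.smul_tmul]
      exact ihx _
  have hrange : ∀ y : T ⊗[SS] E.Cotangent,
      (E.cotangentComplex.lTensor T) y ∈ Submodule.span T (Set.range w) := by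
    intro y
    induction y using TensorProduct.induction_on with
    | zero => rw [map_zero]; exact zero_mem _
    | tmul t z =>
      rw [LinearMap.lTensor_tmul]
      refine hkey _ ?_ t
      rw [← range_cotangentComplex]
      exact ⟨z, rfl⟩
    | add y y' ihy ihy' =>
      rw [map_add]
      exact add_mem ihy ihy'
  have hker : LinearMap.ker g = Submodule.span T (Set.range w) := by
    apply le_antisymm
    · intro x hx
      have hx0 : (E.toKaehler.lTensor T) x = 0 := hx
      have hex2 := lTensor_exact T hex E.toKaehler_surjective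
      obtain ⟨y, rfl⟩ := (hex2 x).mp hx0
      exact hrange y
    · rw [Submodule.span_le]
      rintro _ ⟨j, rfl⟩
      change g ((1 : T) ⊗ₜ[SS] uu R n c F j) = 0
      rw [LinearMap.baseChange_tmul]
      have : E.toKaehler (uu R n c F j) = 0 := by
        apply (hex _).mpr
        have : uu R n c F j ∈ LinearMap.range E.cotangentComplex := by
          rw [range_cotangentComplex]
          exact Submodule.subset_span ⟨j, rfl⟩
        exact this
      rw [this, TensorProduct.tmul_zero]
  haveI : Module.Finite T (T ⊗[SS] E.CotangentSpace) := Module.Finite.of_basis bT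
  have hfin : Module.finrank T (T ⊗[SS] E.CotangentSpace) = n := by
    rw [Module.finrank_eq_card_basis bT, Fintype.card_fin]
  have h1 := LinearMap.finrank_range_add_finrank_ker g
  rw [LinearMap.range_eq_top.mpr hg_surj, finrank_top, hfin, hker] at h1
  have h2 : Module.finrank T (Submodule.span T (Set.range w)) = c := by omega
  have hw : LinearIndependent T w := by
    rw [linearIndependent_iff_card_eq_finrank_span, Fintype.card_fin]
    exact h2.symm
  have hw2 := hw.map' bT.equivFun.toLinearMap (LinearEquiv.ker _)
  have heq : (fun j : Fin c => fun i : Fin n =>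
      algebraMap (MvPolynomial (Fin n) R ⧸ Ideal.span (Set.range F)) T
        (Ideal.Quotient.mk _ (MvPolynomial.pderiv i (F j)))) = ⇑bT.equivFun.toLinearMap ∘ w := by
    funext j
    funext i
    simp only [Function.comp_apply, LinearEquiv.coe_coe, Module.Basis.equivFun_apply, w, bT]
    rw [Module.Basis.baseChange_repr_tmul, uu_repr, Algebra.algebraMap_eq_smul_one]
  rw [heq]
  exact hw2

end Cot

theorem finrank_tensor_kaehler (R S : Type u) [CommRing R] [CommRing S] [Algebra R S] (f : S)
    (Sf : Type u) [CommRing Sf] [Algebra S Sf] [Algebra R Sf] [IsScalarTower R S Sf]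
    [IsLocalization.Away f Sf] (d : ℕ) [Algebra.IsStandardSmoothOfRelativeDimension d R Sf]
    (T : Type u) [Field T] [Algebra Sf T] [Algebra S T] [IsScalarTower S Sf T] :
    Module.finrank T (T ⊗[S] Ω[S⁄R]) = d := by
  haveI : Nontrivial Sf := RingHom.domain_nontrivial (algebraMap Sf T)
  haveI : Algebra.FormallyEtale S Sf := Algebra.FormallyEtale.of_isLocalization (Submonoid.powers f)
  haveI : Algebra.IsStandardSmooth R Sf := Algebra.IsStandardSmoothOfRelativeDimension.isStandardSmooth d
  let e1 : Sf ⊗[S] Ω[S⁄R] ≃ₗ[Sf] Ω[Sf⁄R] := KaehlerDifferential.tensorKaehlerEquivOfFormallyEtale R S Sf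
  let e2 : T ⊗[Sf] (Sf ⊗[S] Ω[S⁄R]) ≃ₗ[T] T ⊗[S] Ω[S⁄R] :=
    TensorProduct.AlgebraTensorModule.cancelBaseChange S Sf T T Ω[S⁄R]
  let e3 : T ⊗[Sf] (Sf ⊗[S] Ω[S⁄R]) ≃ₗ[T] T ⊗[Sf] Ω[Sf⁄R] :=
    TensorProduct.AlgebraTensorModule.congr (LinearEquiv.refl T T) e1
  rw [← e2.finrank_eq, e3.finrank_eq, Module.finrank_baseChange]
  have := Algebra.IsStandardSmoothOfRelativeDimension.rank_kaehlerDifferential (R := R) (S := Sf) d
  exact Module.finrank_eq_of_rank_eq this

theorem relDim_eq (R : Type u) [CommRing R] (n c : ℕ)
    (F : Fin c → MvPolynomial (Fin n) R) (hF : Synt.IsRelGCI R n c F)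
    (f : Synt.RelGCIRing R n c F) (d : ℕ)
    [Nontrivial (Localization.Away f)]
    [Algebra.IsStandardSmoothOfRelativeDimension d R (Localization.Away f)] :
    d = n - c := by
  obtain ⟨z⟩ : Nonempty (PrimeSpectrum (Localization.Away f)) := inferInstance
  have h1 := Groth.Agent.Lib.Helper3.SmDim.fibreDimAt_SpecMap_of_isStandardSmoothOfRelativeDimension
    (CommRingCat.ofHom (algebraMap R (Localization.Away f))) d
    ((RingHom.isStandardSmoothOfRelativeDimension_algebraMap d).mpr inferInstance) z
  have hfac : Spec.map (CommRingCat.ofHom (algebraMap R (Localization.Away f))) =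
      Spec.map (CommRingCat.ofHom (algebraMap (Synt.RelGCIRing R n c F) (Localization.Away f))) ≫
      Spec.map (CommRingCat.ofHom (algebraMap R (Synt.RelGCIRing R n c F))) := by
    rw [← Spec.map_comp, ← CommRingCat.ofHom_comp, ← IsScalarTower.algebraMap_eq]
  rw [hfac, Groth.Agent.Lib.Helper3.FibDimEt.fibreDimAt_comp_of_etale,
    Groth.Agent.S9366.result R n c F hF] at h1
  exact_mod_cast h1.symm

theorem le_of_isRelGCI (R : Type u) [CommRing R] (n c : ℕ)
    (F : Fin c → MvPolynomial (Fin n) R) (hF : Synt.IsRelGCI R n c F)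
    (q : PrimeSpectrum (Synt.RelGCIRing R n c F)) : c ≤ n := by
  let p := PrimeSpectrum.comap (algebraMap R (Synt.RelGCIRing R n c F)) q
  let z := PrimeSpectrum.preimageHomeomorphFiber R (Synt.RelGCIRing R n c F) p ⟨q, rfl⟩
  exact (hF p z.nontrivial).1

/-- (⇒): smooth at `q` gives a minor outside `q`. -/
theorem minor_of_smoothAt (R : Type u) [CommRing R] (n c : ℕ)
    (F : Fin c → MvPolynomial (Fin n) R) (hF : Synt.IsRelGCI R n c F)
    (q : Ideal (Synt.RelGCIRing R n c F)) [q.IsPrime] (hq : Algebra.IsSmoothAt R q) :
    ∃ emb : Fin c ↪ Fin n,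
      Ideal.Quotient.mk (Ideal.span (Set.range F))
        (Matrix.det (Matrix.of fun j i => MvPolynomial.pderiv (emb i) (F j))) ∉ q := by
  classical
  haveI : Algebra.FinitePresentation R (Synt.RelGCIRing R n c F) :=
    (Algebra.Presentation.naive (v := F)).finitePresentation_of_isFinite
  obtain ⟨f, hfq, hss⟩ := Algebra.IsSmoothAt.exists_notMem_isStandardSmooth R q
  obtain ⟨ι, σ, hσ, hι, ⟨P⟩⟩ := hss.out
  haveI : Algebra.IsStandardSmoothOfRelativeDimension P.dimension R (Localization.Away f) :=
    P.isStandardSmoothOfRelativeDimension rfl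
  -- the prime of the localization
  have hdisj : Disjoint (Submonoid.powers f : Set (Synt.RelGCIRing R n c F)) (q : Set _) := by
    rw [Ideal.disjoint_powers_iff_notMem _ (Ideal.IsPrime.isRadical inferInstance)]
    exact hfq
  let q' : Ideal (Localization.Away f) := q.map (algebraMap _ (Localization.Away f))
  haveI hq' : q'.IsPrime :=
    IsLocalization.isPrime_of_isPrime_disjoint (Submonoid.powers f) _ q inferInstance hdisj
  have hcomap : q'.comap (algebraMap (Synt.RelGCIRing R n c F) (Localization.Away f)) = q :=
    IsLocalization.under_map_of_isPrime_disjoint (Submonoid.powers f) _ inferInstance hdisj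
  haveI : Nontrivial (Localization.Away f) := ⟨⟨0, 1, fun h => hq'.ne_top (by
    rw [Ideal.eq_top_iff_one, ← h]; exact zero_mem _)⟩⟩
  let T := q'.ResidueField
  letI algST : Algebra (Synt.RelGCIRing R n c F) T :=
    ((algebraMap (Localization.Away f) T).comp (algebraMap _ (Localization.Away f))).toAlgebra
  haveI : IsScalarTower (Synt.RelGCIRing R n c F) (Localization.Away f) T := by
    refine ⟨fun x y z => ?_⟩
    rw [Algebra.smul_def, Algebra.smul_def, Algebra.smul_def]
    have : x • y = algebraMap _ (Localization.Away f) x * y := Algebra.smul_def x y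
    rw [this, map_mul, mul_assoc]
    rfl
  have hker : ∀ x : Synt.RelGCIRing R n c F, algebraMap _ T x = 0 ↔ x ∈ q := by
    intro x
    change algebraMap (Localization.Away f) T (algebraMap _ (Localization.Away f) x) = 0 ↔ _
    rw [Ideal.algebraMap_residueField_eq_zero, ← hcomap, Ideal.mem_comap]
  have hd : P.dimension = n - c := relDim_eq R n c F hF f P.dimension
  have hcn : c ≤ n := le_of_isRelGCI R n c F hF ⟨q, inferInstance⟩
  have hrank := finrank_tensor_kaehler R (Synt.RelGCIRing R n c F) f (Localization.Away f)
    P.dimension T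
  have hli := rows_linearIndependent R n c F T (by rw [hrank, hd]; omega)
  obtain ⟨emb, hemb⟩ := exists_minor_ne_zero _ hli
  refine ⟨emb, fun hmem => hemb ?_⟩
  rw [← hker] at hmem
  rw [← hmem]
  let φ : MvPolynomial (Fin n) R →+* T :=
    (algebraMap (Synt.RelGCIRing R n c F) T).comp (Ideal.Quotient.mk (Ideal.span (Set.range F)))
  change _ = φ (Matrix.det (Matrix.of fun j i => MvPolynomial.pderiv (emb i) (F j)))
  rw [RingHom.map_det]
  rfl


/-- For a relative global complete intersection S = R[x_1, …, x_n]/(f_1, …, f_c) and a prime q of S, the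
map R → S is smooth at q if and only if some c × c minor of the Jacobian matrix (∂f_j/∂x_i), taken
on c distinct variables, has image outside q. -/
theorem result (R : Type u) [CommRing R] (n c : ℕ)
    (F : Fin c → MvPolynomial (Fin n) R) (hF : Synt.IsRelGCI R n c F)
    (q : Ideal (Synt.RelGCIRing R n c F)) [q.IsPrime] :
    Algebra.IsSmoothAt R q ↔ ∃ I : Fin c ↪ Fin n,
      Ideal.Quotient.mk (Ideal.span (Set.range F))
        (Matrix.det (Matrix.of fun j i => MvPolynomial.pderiv (I i) (F j))) ∉ q := by
  constructor
  · intro hq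
    exact minor_of_smoothAt R n c F hF q hq
  · rintro ⟨emb, h⟩
    exact smoothAt_of_minor R n c F q emb h

end Groth.Agent.S9441
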