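import Groth.Statements.S9513
import Mathlib

set_option linter.style.haveILetI false

set_option autoImplicit false
universe u
open SchMor

namespace Groth.Agent.S9513


open AlgebraicGeometry CategoryTheory TopologicalSpace Opposite

variable (X : Scheme.{u})

/-- the inclusion functor of affine opens. -/
abbrev ι : X.affineOpens ⥤ X.Opens :=
  Monotone.functor (f := fun U : X.affineOpens => (U : X.Opens)) (fun _ _ h => h)

instance : (ι X).Full where
  map_surjective f := ⟨homOfLE (leOfHom f), rfl⟩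

instance : (ι X).Faithful where
  map_injective _ := Subsingleton.elim _ _

lemma ι_isCoverDense : (ι X).IsCoverDense (Opens.grothendieckTopology X) := by
  rw [TopCat.Opens.coverDense_iff_isBasis]
  have : Set.range (ι X).obj = X.affineOpens := by
    ext U
    constructor
    · rintro ⟨V, rfl⟩
      exact V.2
    · intro hU
      exact ⟨⟨U, hU⟩, rfl⟩
  rw [this]
  exact X.isBasis_affineOpens

instance : (ι X).IsCoverDense (Opens.grothendieckTopology X) := ι_isCoverDense X

/-- the induced topology on affine opens -/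
noncomputable abbrev JB : GrothendieckTopology X.affineOpens :=
  (ι X).inducedTopology (Opens.grothendieckTopology X)

lemma mem_JB_iff {U : X.affineOpens} (S : Sieve U) :
    S ∈ JB X U ↔ ∀ x ∈ (U : X.Opens), ∃ (V : X.affineOpens) (h : V ≤ U), S (homOfLE h) ∧ x ∈ (V : X.Opens) := by
  rw [Functor.mem_inducedTopology_iff_of_isCoverDense]
  constructor
  · intro h x hx
    obtain ⟨W, f, ⟨V, g, k, hg, hk⟩, hxW⟩ := h x hx
    exact ⟨V, leOfHom g, by
      have : homOfLE (leOfHom g) = g := Subsingleton.elim _ _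
      rw [this]; exact hg, (leOfHom k) hxW⟩
  · intro h x hx
    obtain ⟨V, hVU, hS, hxV⟩ := h x hx
    exact ⟨(V : X.Opens), (ι X).map (homOfLE hVU), ⟨V, homOfLE hVU, 𝟙 _, hS, by simp⟩, hxV⟩

theorem exists_sheaf_of_isSheaf (F : (X.affineOpens)ᵒᵖ ⥤ Type u)
    (hF : Presheaf.IsSheaf (JB X) F) :
    ∃ G : TopCat.Sheaf (Type u) X.carrier, Nonempty ((ι X).op ⋙ G.1 ≅ F) := by
  let e := (ι X).sheafInducedTopologyEquivOfIsCoverDense (Opens.grothendieckTopology X) (Type u)
  let F' : Sheaf (JB X) (Type u) := ⟨F, hF⟩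
  refine ⟨e.functor.obj F', ⟨?_⟩⟩
  exact ((sheafToPresheaf _ _).mapIso (e.unitIso.app F')).symm

section maps

variable {C : Type*} [Category C] [Quiver.IsThin C] (P : Cᵒᵖ ⥤ Type u)

lemma map_map {A B D : C} (a : A ⟶ B) (b : B ⟶ D) (c : A ⟶ D) (x : P.obj (op D)) :
    P.map a.op (P.map b.op x) = P.map c.op x := by
  rw [← Functor.map_comp_apply, ← op_comp]
  have : a ≫ b = c := Subsingleton.elim _ _
  rw [this]

lemma map_self {A : C} (a : A ⟶ A) (x : P.obj (op A)) : P.map a.op x = x := by
  have : a = 𝟙 A := Subsingleton.elim _ _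
  rw [this, op_id, Functor.map_id_apply]

end maps

theorem forward (F : (X.affineOpens)ᵒᵖ ⥤ Type u) (E : X.affineOpens) (hE : (E : X.Opens) = ⊥)
    (G : TopCat.Sheaf (Type u) X.carrier) (α : (ι X).op ⋙ G.1 ≅ F) :
    ((Nonempty (F.obj (op E)) ∧ Subsingleton (F.obj (op E))) ∧
      ∀ (U V W VW : X.affineOpens) (f g : Γ(X, (U : X.Opens))),
        (V : X.Opens) = X.basicOpen f → (W : X.Opens) = X.basicOpen g →
        (VW : X.Opens) = X.basicOpen (f * g) → (U : X.Opens) = (V : X.Opens) ⊔ (W : X.Opens) →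
        ∀ (hV : V ≤ U) (hW : W ≤ U) (h1 : VW ≤ V) (h2 : VW ≤ W),
        Function.Injective (fun s : F.obj (op U) => (F.map (homOfLE hV).op s, F.map (homOfLE hW).op s)) ∧
        Set.range (fun s : F.obj (op U) => (F.map (homOfLE hV).op s, F.map (homOfLE hW).op s)) =
          {p | F.map (homOfLE h1).op p.1 = F.map (homOfLE h2).op p.2}) := by
  have nat : ∀ {A B : X.affineOpens} (k : A ⟶ B) (x : F.obj (op B)),
      α.inv.app (op A) (F.map k.op x) = G.1.map ((ι X).map k).op (α.inv.app (op B) x) := by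
    intro A B k x
    exact NatTrans.naturality_apply α.inv k.op x
  have ainj : ∀ (A : X.affineOpens), Function.Injective (α.inv.app (op A)) := by
    intro A
    exact ((α.app (op A)).toEquiv.symm).injective
  refine ⟨?_, ?_⟩
  · have hT : Limits.IsTerminal (G.1.obj (op (E : X.Opens))) := G.isTerminalOfEqEmpty hE
    have hu : Unique (G.1.obj (op (E : X.Opens))) := (Limits.Types.isTerminalEquivUnique _) hT
    let e : G.1.obj (op (E : X.Opens)) ≃ F.obj (op E) := (α.app (op E)).toEquiv
    exact ⟨⟨e default⟩, e.symm.subsingleton⟩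
  · intro U V W VW f g hV hW hVW hU hVU hWU h1 h2
    have hpb := IsPullback.of_isLimit (G.isLimitPullbackCone (V : X.Opens) (W : X.Opens))
    rw [Limits.Types.isPullback_iff] at hpb
    obtain ⟨-, hinj, hsurj⟩ := hpb
    have hUle : (U : X.Opens) ≤ (V : X.Opens) ⊔ (W : X.Opens) := hU.le
    have hUge : (V : X.Opens) ⊔ (W : X.Opens) ≤ (U : X.Opens) := hU.ge
    have hVWeq : (VW : X.Opens) = (V : X.Opens) ⊓ (W : X.Opens) := by
      rw [hVW, hV, hW, Scheme.basicOpen_mul]
    constructor
    · intro s s' hss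
      simp only [Prod.mk.injEq] at hss
      apply ainj U
      let σ : G.1.obj (op (U : X.Opens)) := α.inv.app (op U) s
      let σ' : G.1.obj (op (U : X.Opens)) := α.inv.app (op U) s'
      change σ = σ'
      have eV : ∀ t : F.obj (op U), G.1.map (homOfLE le_sup_left : (V : X.Opens) ⟶ (V : X.Opens) ⊔ (W : X.Opens)).op
          (G.1.map (homOfLE hUge).op (α.inv.app (op U) t : G.1.obj (op (U : X.Opens))))
          = α.inv.app (op V) (F.map (homOfLE hVU).op t) := by
        intro t
        rw [nat]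
        exact map_map G.1 _ _ _ _
      have eW : ∀ t : F.obj (op U), G.1.map (homOfLE le_sup_right : (W : X.Opens) ⟶ (V : X.Opens) ⊔ (W : X.Opens)).op
          (G.1.map (homOfLE hUge).op (α.inv.app (op U) t : G.1.obj (op (U : X.Opens))))
          = α.inv.app (op W) (F.map (homOfLE hWU).op t) := by
        intro t
        rw [nat]
        exact map_map G.1 _ _ _ _
      have key : G.1.map (homOfLE hUge).op σ = G.1.map (homOfLE hUge).op σ' := by
        apply hinj
        constructor
        · exact (eV s).trans ((congrArg _ hss.1).trans (eV s').symm)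
        · exact (eW s).trans ((congrArg _ hss.2).trans (eW s').symm)
      have h3 : ∀ τ : G.1.obj (op (U : X.Opens)),
          G.1.map (homOfLE hUle).op (G.1.map (homOfLE hUge).op τ) = τ := by
        intro τ
        rw [map_map G.1 _ _ (𝟙 _), map_self]
      rw [← h3 σ, ← h3 σ', key]
    · ext ⟨p, q⟩
      simp only [Set.mem_range, Prod.mk.injEq, Set.mem_ofPred_eq]
      constructor
      · rintro ⟨s, rfl, rfl⟩
        rw [map_map F _ _ (homOfLE (h1.trans hVU)), map_map F _ _ (homOfLE (h1.trans hVU))]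
      · intro hpq
        let p' : G.1.obj (op (V : X.Opens)) := α.inv.app (op V) p
        let q' : G.1.obj (op (W : X.Opens)) := α.inv.app (op W) q
        have hc : G.1.map (homOfLE inf_le_left : (V : X.Opens) ⊓ (W : X.Opens) ⟶ _).op p'
            = G.1.map (homOfLE inf_le_right : (V : X.Opens) ⊓ (W : X.Opens) ⟶ _).op q' := by
          have e1 := congrArg (α.inv.app (op VW)) hpq
          rw [nat, nat] at e1
          have e2 : G.1.map (homOfLE hVWeq.ge).op (G.1.map ((ι X).map (homOfLE h1)).op p')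
              = G.1.map (homOfLE hVWeq.ge).op (G.1.map ((ι X).map (homOfLE h2)).op q') :=
            congrArg (G.1.map (homOfLE hVWeq.ge).op) e1
          exact (map_map G.1 _ _ _ _).symm.trans (e2.trans (map_map G.1 _ _ _ _))
        obtain ⟨τ, hτ1, hτ2⟩ := hsurj p' q' hc
        have hinvhom : ∀ t : G.1.obj (op (U : X.Opens)),
            (α.inv.app (op U) (α.hom.app (op U) t) : G.1.obj (op (U : X.Opens))) = t := by
          intro t
          exact (α.app (op U)).toEquiv.symm_apply_apply t
        refine ⟨α.hom.app (op U) (G.1.map (homOfLE hUle).op τ), ?_, ?_⟩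
        · apply ainj V
          rw [nat]
          refine (congrArg _ (hinvhom _)).trans ?_
          exact (map_map G.1 _ _ (homOfLE le_sup_left) τ).trans hτ1
        · apply ainj W
          rw [nat]
          refine (congrArg _ (hinvhom _)).trans ?_
          exact (map_map G.1 _ _ (homOfLE le_sup_right) τ).trans hτ2

variable {X}

/-- basic open of an affine open as an affine open. -/
def bo (U : X.affineOpens) (f : Γ(X, (U : X.Opens))) : X.affineOpens :=
  ⟨X.basicOpen f, U.2.basicOpen f⟩

lemma bo_le (U : X.affineOpens) (f : Γ(X, (U : X.Opens))) : bo U f ≤ U := X.basicOpen_le f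

/-- restriction of a section to a smaller affine open. -/
noncomputable def res {U W : X.affineOpens} (h : W ≤ U) (f : Γ(X, (U : X.Opens))) : Γ(X, (W : X.Opens)) :=
  X.presheaf.map (homOfLE h : (W : X.Opens) ⟶ (U : X.Opens)).op f

lemma basicOpen_res {U W : X.affineOpens} (h : W ≤ U) (f : Γ(X, (U : X.Opens))) :
    X.basicOpen (res h f) = (W : X.Opens) ⊓ X.basicOpen f :=
  Scheme.basicOpen_res _ _ _

lemma isUnit_res {U W : X.affineOpens} (h : W ≤ U) (g : Γ(X, (U : X.Opens)))
    (hg : (W : X.Opens) ≤ X.basicOpen g) : IsUnit (res h g) := by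
  have h1 : IsUnit (X.presheaf.map (homOfLE (X.basicOpen_le g)).op g) :=
    RingedSpace.isUnit_res_basicOpen _ g
  have h2 : res h g = X.presheaf.map (homOfLE hg).op (X.presheaf.map (homOfLE (X.basicOpen_le g)).op g) := by
    unfold res
    rw [← CommRingCat.comp_apply, ← X.presheaf.map_comp]
    rfl
  rw [h2]
  exact h1.map _

/-- the sieve generated by the basic opens of a finite family. -/
def stdSieve (U : X.affineOpens) {n : ℕ} (fs : Fin n → Γ(X, (U : X.Opens))) : Sieve U where
  arrows W _ := ∃ i, (W : X.Opens) ≤ X.basicOpen (fs i)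
  downward_closed := by
    rintro W W' f ⟨i, hi⟩ g
    exact ⟨i, le_trans (leOfHom g) hi⟩

lemma stdSieve_le_pullback {U W : X.affineOpens} (h : W ≤ U) {n : ℕ}
    (fs : Fin n → Γ(X, (U : X.Opens))) :
    (stdSieve W (fun i => res h (fs i))).arrows ≤ ((stdSieve U fs).pullback (homOfLE h)).arrows := by
  rintro W' k ⟨i, hi⟩
  refine ⟨i, le_trans hi ?_⟩
  rw [basicOpen_res]
  exact inf_le_right

lemma span_res_eq_top {U W : X.affineOpens} (h : W ≤ U) {n : ℕ}
    (fs a : Fin n → Γ(X, (U : X.Opens))) (hW : (W : X.Opens) ≤ X.basicOpen (∑ i, a i * fs i)) :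
    Ideal.span (Set.range (fun i => res h (fs i))) = ⊤ := by
  have hu := isUnit_res h _ hW
  have : res h (∑ i, a i * fs i) = ∑ i, res h (a i) * res h (fs i) := by
    unfold res
    rw [map_sum]
    simp only [map_mul]
  rw [this] at hu
  refine Ideal.eq_top_of_isUnit_mem _ ?_ hu
  refine Ideal.sum_mem _ fun i _ => Ideal.mul_mem_left _ _ (Ideal.subset_span ⟨i, rfl⟩)

lemma sup_eq_of_add_eq_one (U : X.affineOpens) (f g a : Γ(X, (U : X.Opens))) (h : a * f + g = 1) :
    (U : X.Opens) = X.basicOpen f ⊔ X.basicOpen g := by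
  apply le_antisymm
  · have h1 : X.basicOpen (a * f + g) = U := by rw [h]; exact X.basicOpen_one
    calc (U : X.Opens) = X.basicOpen (a * f + g) := h1.symm
      _ ≤ X.basicOpen (a * f) ⊔ X.basicOpen g := X.basicOpen_add_le _ _
      _ ≤ X.basicOpen f ⊔ X.basicOpen g := by
        rw [Scheme.basicOpen_mul]
        exact sup_le_sup_right inf_le_right _
  · exact sup_le (X.basicOpen_le f) (X.basicOpen_le g)

lemma stdSieve_succ_le_pullback {U W : X.affineOpens} (h : W ≤ U) {n : ℕ}
    (fs : Fin (n + 1) → Γ(X, (U : X.Opens))) :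
    (stdSieve W (fun i : Fin n => res h (fs i.succ))).arrows ≤
      ((stdSieve U fs).pullback (homOfLE h)).arrows := by
  rintro W' k ⟨i, hi⟩
  refine ⟨i.succ, le_trans hi ?_⟩
  rw [basicOpen_res]
  exact inf_le_right

variable (F : (X.affineOpens)ᵒᵖ ⥤ Type u)

/-- hypothesis (b) of the statement. -/
def HypB : Prop :=
  ∀ (U V W VW : X.affineOpens) (f g : Γ(X, (U : X.Opens))),
    (V : X.Opens) = X.basicOpen f → (W : X.Opens) = X.basicOpen g →
    (VW : X.Opens) = X.basicOpen (f * g) → (U : X.Opens) = (V : X.Opens) ⊔ (W : X.Opens) →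
    ∀ (hV : V ≤ U) (hW : W ≤ U) (h1 : VW ≤ V) (h2 : VW ≤ W),
    Function.Injective (fun s : F.obj (op U) => (F.map (homOfLE hV).op s, F.map (homOfLE hW).op s)) ∧
    Set.range (fun s : F.obj (op U) => (F.map (homOfLE hV).op s, F.map (homOfLE hW).op s)) =
      {p | F.map (homOfLE h1).op p.1 = F.map (homOfLE h2).op p.2}

variable {F}

lemma bo_mul_le_left (U : X.affineOpens) (f g : Γ(X, (U : X.Opens))) : bo U (f * g) ≤ bo U f := by
  change X.basicOpen (f * g) ≤ X.basicOpen f
  rw [Scheme.basicOpen_mul]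
  exact inf_le_left

lemma bo_mul_le_right (U : X.affineOpens) (f g : Γ(X, (U : X.Opens))) : bo U (f * g) ≤ bo U g := by
  change X.basicOpen (f * g) ≤ X.basicOpen g
  rw [Scheme.basicOpen_mul]
  exact inf_le_right

lemma bin_inj (hb : HypB F) (U : X.affineOpens) (f g a : Γ(X, (U : X.Opens))) (h : a * f + g = 1)
    (s s' : F.obj (op U))
    (h1 : F.map (homOfLE (bo_le U f)).op s = F.map (homOfLE (bo_le U f)).op s')
    (h2 : F.map (homOfLE (bo_le U g)).op s = F.map (homOfLE (bo_le U g)).op s') : s = s' := by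
  obtain ⟨hinj, -⟩ := hb U (bo U f) (bo U g) (bo U (f * g)) f g rfl rfl rfl
    (sup_eq_of_add_eq_one U f g a h) (bo_le U f) (bo_le U g) (bo_mul_le_left U f g)
    (bo_mul_le_right U f g)
  apply hinj
  simp only [Prod.mk.injEq]
  exact ⟨h1, h2⟩

lemma bin_glue (hb : HypB F) (U : X.affineOpens) (f g a : Γ(X, (U : X.Opens))) (h : a * f + g = 1)
    (p : F.obj (op (bo U f))) (q : F.obj (op (bo U g)))
    (hpq : F.map (homOfLE (bo_mul_le_left U f g)).op p = F.map (homOfLE (bo_mul_le_right U f g)).op q) :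
    ∃ s : F.obj (op U), F.map (homOfLE (bo_le U f)).op s = p ∧ F.map (homOfLE (bo_le U g)).op s = q := by
  obtain ⟨-, hrange⟩ := hb U (bo U f) (bo U g) (bo U (f * g)) f g rfl rfl rfl
    (sup_eq_of_add_eq_one U f g a h) (bo_le U f) (bo_le U g) (bo_mul_le_left U f g)
    (bo_mul_le_right U f g)
  have : (p, q) ∈ {p : F.obj (op (bo U f)) × F.obj (op (bo U g)) |
      F.map (homOfLE (bo_mul_le_left U f g)).op p.1 = F.map (homOfLE (bo_mul_le_right U f g)).op p.2} := hpq
  rw [← hrange] at this
  obtain ⟨s, hs⟩ := this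
  simp only [Prod.mk.injEq] at hs
  exact ⟨s, hs.1, hs.2⟩

theorem isSheafFor_std (E : X.affineOpens) (hE : (E : X.Opens) = ⊥)
    (ha : Nonempty (F.obj (op E)) ∧ Subsingleton (F.obj (op E))) (hb : HypB F) :
    ∀ (n : ℕ) (U : X.affineOpens) (fs : Fin n → Γ(X, (U : X.Opens))),
      Ideal.span (Set.range fs) = ⊤ → Presieve.IsSheafFor F (stdSieve U fs).arrows := by
  intro n
  induction n with
  | zero =>
    intro U fs hspan
    have h1 : (1 : Γ(X, (U : X.Opens))) = 0 := by
      have h2 : Set.range fs = ∅ := Set.range_eq_empty _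
      rw [h2, Ideal.span_empty] at hspan
      have h3 : (1 : Γ(X, (U : X.Opens))) ∈ (⊥ : Ideal Γ(X, (U : X.Opens))) := by
        rw [hspan]; trivial
      exact h3
    have hUbot : (U : X.Opens) = ⊥ := by
      rw [← X.basicOpen_one (U := (U : X.Opens)), h1, X.basicOpen_zero]
    have hUE : U = E := Subtype.ext (hUbot.trans hE.symm)
    subst hUE
    intro x hx
    obtain ⟨⟨t⟩, hsub⟩ := ha
    refine ⟨t, ?_, fun t' _ => Subsingleton.elim _ _⟩
    rintro W k ⟨i, _⟩
    exact i.elim0
  | succ n ih =>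
    intro U fs hspan
    have h1mem : (1 : Γ(X, (U : X.Opens))) ∈ Ideal.span (Set.range fs) := by rw [hspan]; trivial
    obtain ⟨a, ha1⟩ := (Ideal.mem_span_range_iff_exists_fun).mp h1mem
    set f0 := fs 0 with hf0
    set g := ∑ i : Fin n, a i.succ * fs i.succ with hg
    have h01 : a 0 * f0 + g = 1 := by rw [← ha1, Fin.sum_univ_succ]
    have hV0 : bo U f0 ≤ U := bo_le U f0
    have hVg : bo U g ≤ U := bo_le U g
    have ihW : ∀ (W : X.affineOpens) (hW : W ≤ U), (W : X.Opens) ≤ X.basicOpen g →
        Presieve.IsSheafFor F (stdSieve W (fun i : Fin n => res hW (fs i.succ))).arrows := by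
      intro W hW hWg
      exact ih W _ (span_res_eq_top hW (fun i => fs i.succ) (fun i => a i.succ) hWg)
    intro x hx
    have hxs := hx.to_sieveCompatible
    -- elementary description of the family
    let xx : ∀ (W : X.affineOpens) (hWU : W ≤ U) (_ : ∃ i, (W : X.Opens) ≤ X.basicOpen (fs i)),
        F.obj (op W) := fun W hWU hW => x (homOfLE hWU) hW
    have x1 : ∀ (W : X.affineOpens) (k : W ⟶ U) (hk : (stdSieve U fs).arrows k),
        x k hk = xx W (leOfHom k) hk := by
      intro W k hk
      have h3 : ∀ (k' : W ⟶ U) (e : k = k'), x k hk = x k' (e ▸ hk) := by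
        rintro _ rfl
        rfl
      exact h3 _ (Subsingleton.elim _ _)
    have x2 : ∀ (W' W : X.affineOpens) (h' : W' ≤ W) (hWU : W ≤ U)
        (hW : ∃ i, (W : X.Opens) ≤ X.basicOpen (fs i)),
        F.map (homOfLE h').op (xx W hWU hW) =
          xx W' (h'.trans hWU) (hW.imp fun i hi => le_trans h' hi) := by
      intro W' W h' hWU hW
      have := hxs (homOfLE hWU) (homOfLE h') hW
      rw [← this]
      exact x1 W' _ _
    -- restricted families
    let y : ∀ (W : X.affineOpens) (hW : W ≤ U),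
        Presieve.FamilyOfElements F (stdSieve W (fun i : Fin n => res hW (fs i.succ))).arrows :=
      fun W hW => (x.pullback (homOfLE hW)).restrict (stdSieve_succ_le_pullback hW fs)
    have hy : ∀ (W : X.affineOpens) (hW : W ≤ U), (y W hW).Compatible :=
      fun W hW => (hx.pullback (homOfLE hW)).restrict _
    have y1 : ∀ (W : X.affineOpens) (hW : W ≤ U) (W' : X.affineOpens) (k : W' ⟶ W)
        (hk : (stdSieve W (fun i : Fin n => res hW (fs i.succ))).arrows k),
        y W hW k hk = xx W' ((leOfHom k).trans hW) (stdSieve_succ_le_pullback hW fs _ _ hk) := by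
      intro W hW W' k hk
      exact x1 W' _ _
    -- the amalgamation on D(g)
    let t : F.obj (op (bo U g)) := (ihW (bo U g) hVg le_rfl).amalgamate (y _ hVg) (hy _ hVg)
    have ht : ∀ (W' : X.affineOpens) (k : W' ⟶ bo U g)
        (hk : (stdSieve (bo U g) (fun i : Fin n => res hVg (fs i.succ))).arrows k),
        F.map k.op t = xx W' ((leOfHom k).trans hVg) (stdSieve_succ_le_pullback hVg fs _ _ hk) := by
      intro W' k hk
      rw [← y1]
      exact (ihW (bo U g) hVg le_rfl).valid_glue (hy _ hVg) k hk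
    let s0 : F.obj (op (bo U f0)) := xx (bo U f0) hV0 ⟨0, le_rfl⟩
    have claim1 : F.map (homOfLE (bo_mul_le_left U f0 g)).op s0 =
        F.map (homOfLE (bo_mul_le_right U f0 g)).op t := by
      have hle : bo U (f0 * g) ≤ U := bo_le U _
      apply (ihW (bo U (f0 * g)) hle (bo_mul_le_right U f0 g)).isSeparatedFor.ext
      intro W' k hk
      obtain ⟨i, hi⟩ := hk
      have hW'g : (W' : X.Opens) ≤ X.basicOpen (res hVg (fs i.succ)) := by
        rw [basicOpen_res]
        rw [basicOpen_res] at hi
        exact le_inf ((leOfHom k).trans (bo_mul_le_right U f0 g)) (le_trans hi inf_le_right)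
      rw [map_map F k (homOfLE (bo_mul_le_left U f0 g))
          (homOfLE ((leOfHom k).trans (bo_mul_le_left U f0 g))),
        map_map F k (homOfLE (bo_mul_le_right U f0 g))
          (homOfLE ((leOfHom k).trans (bo_mul_le_right U f0 g))),
        ht W' _ ⟨i, hW'g⟩]
      exact x2 W' (bo U f0) _ hV0 ⟨0, le_rfl⟩
    obtain ⟨s, hs0, hst⟩ := bin_glue hb U f0 g (a 0) h01 s0 t claim1
    have hmain : ∀ (W : X.affineOpens) (hWU : W ≤ U) (i : Fin (n + 1))
        (hi : (W : X.Opens) ≤ X.basicOpen (fs i)),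
        F.map (homOfLE hWU).op s = xx W hWU ⟨i, hi⟩ := by
      intro W hWU i hi
      induction i using Fin.cases with
      | zero =>
        have hW0 : W ≤ bo U f0 := hi
        rw [← map_map F (homOfLE hW0) (homOfLE hV0) (homOfLE hWU) s, hs0]
        exact x2 W (bo U f0) hW0 hV0 ⟨0, le_rfl⟩
      | succ j =>
        have hres : res hWU (a 0) * res hWU f0 + res hWU g = 1 := by
          unfold res
          rw [← map_mul, ← map_add, h01, map_one]
        apply bin_inj hb W (res hWU f0) (res hWU g) (res hWU (a 0)) hres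
        · -- on W ⊓ D(f0)
          have hle0 : bo W (res hWU f0) ≤ bo U f0 := by
            change X.basicOpen (res hWU f0) ≤ X.basicOpen f0
            rw [basicOpen_res]
            exact inf_le_right
          rw [map_map F _ (homOfLE hWU) (homOfLE (hle0.trans hV0)) s,
            ← map_map F (homOfLE hle0) (homOfLE hV0) (homOfLE (hle0.trans hV0)) s, hs0,
            x2 _ W (bo_le W _) hWU ⟨j.succ, hi⟩]
          exact x2 _ (bo U f0) hle0 hV0 ⟨0, le_rfl⟩
        · -- on W ⊓ D(g)
          have hleg : bo W (res hWU g) ≤ bo U g := by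
            change X.basicOpen (res hWU g) ≤ X.basicOpen g
            rw [basicOpen_res]
            exact inf_le_right
          have hmem : (stdSieve (bo U g) (fun i : Fin n => res hVg (fs i.succ))).arrows
              (homOfLE hleg) := by
            refine ⟨j, ?_⟩
            rw [basicOpen_res]
            exact le_inf hleg (le_trans (bo_le W _) hi)
          rw [map_map F _ (homOfLE hWU) (homOfLE (hleg.trans hVg)) s,
            ← map_map F (homOfLE hleg) (homOfLE hVg) (homOfLE (hleg.trans hVg)) s, hst,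
            x2 _ W (bo_le W _) hWU ⟨j.succ, hi⟩, ht _ (homOfLE hleg) hmem]
    have hsA : x.IsAmalgamation s := by
      rintro W k ⟨i, hi⟩
      rw [x1 W k ⟨i, hi⟩, ← hmain W (leOfHom k) i hi]
      have hk : k = homOfLE (leOfHom k) := Subsingleton.elim _ _
      rw [← hk]
    refine ⟨s, hsA, ?_⟩
    intro s' hs'
    apply bin_inj hb U f0 g (a 0) h01
    · rw [hs' (homOfLE hV0) ⟨0, le_rfl⟩, hsA (homOfLE hV0) ⟨0, le_rfl⟩]
    · apply (ihW (bo U g) hVg le_rfl).isSeparatedFor.ext
      intro W' k hk
      have hk' := stdSieve_succ_le_pullback hVg fs _ _ hk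
      rw [map_map F k (homOfLE hVg) (k ≫ homOfLE hVg) s',
        map_map F k (homOfLE hVg) (k ≫ homOfLE hVg) s, hs' _ hk', hsA _ hk']

theorem isSheaf_of (E : X.affineOpens) (hE : (E : X.Opens) = ⊥)
    (ha : Nonempty (F.obj (op E)) ∧ Subsingleton (F.obj (op E))) (hb : HypB F) :
    Presheaf.IsSheaf (JB X) F := by
  rw [isSheaf_iff_isSheaf_of_type]
  intro U S hS
  rw [mem_JB_iff] at hS
  let T : Set Γ(X, (U : X.Opens)) :=
    {f | ∃ (V : X.affineOpens) (h : V ≤ U), S (homOfLE h) ∧ X.basicOpen f ≤ (V : X.Opens)}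
  have hT : Ideal.span T = ⊤ := by
    rw [← U.2.self_le_iSup_basicOpen_iff]
    intro x hx
    obtain ⟨V, hVU, hSV, hxV⟩ := hS x hx
    obtain ⟨f, hfV, hxf⟩ := U.2.exists_basicOpen_le ⟨x, hxV⟩ hx
    exact Opens.mem_iSup.mpr ⟨⟨f, V, hVU, hSV, hfV⟩, hxf⟩
  obtain ⟨T', hT'sub, hT'span⟩ := (Ideal.span_eq_top_iff_finite T).mp hT
  let fs : Fin T'.card → Γ(X, (U : X.Opens)) := fun i => ((T'.equivFin.symm i : T') : Γ(X, (U : X.Opens)))
  have hfs : Set.range fs = (T' : Set Γ(X, (U : X.Opens))) := by
    ext s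
    constructor
    · rintro ⟨i, rfl⟩
      exact (T'.equivFin.symm i).2
    · intro hs
      exact ⟨T'.equivFin ⟨s, hs⟩, by simp [fs]⟩
  have hspan : Ideal.span (Set.range fs) = ⊤ := by rw [hfs]; exact hT'span
  have hfsT : ∀ i, fs i ∈ T := fun i => hT'sub (T'.equivFin.symm i).2
  refine Presieve.isSheafFor_subsieve_aux F (S := stdSieve U fs) ?_
    (isSheafFor_std E hE ha hb _ U fs hspan) ?_
  · rintro W k ⟨i, hi⟩
    obtain ⟨V, hVU, hSV, hfV⟩ := hfsT i
    have hWV : W ≤ V := show (W : X.Opens) ≤ (V : X.Opens) from le_trans hi hfV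
    have : k = homOfLE hWV ≫ homOfLE hVU := Subsingleton.elim _ _
    rw [this]
    exact S.downward_closed hSV _
  · intro W k hk
    have hWU : W ≤ U := leOfHom k
    have h1mem : (1 : Γ(X, (U : X.Opens))) ∈ Ideal.span (Set.range fs) := by rw [hspan]; trivial
    obtain ⟨a, ha1⟩ := (Ideal.mem_span_range_iff_exists_fun).mp h1mem
    have hspanW : Ideal.span (Set.range (fun i => res hWU (fs i))) = ⊤ := by
      apply span_res_eq_top hWU fs a
      rw [ha1, X.basicOpen_one]
      exact hWU
    have hsep := (isSheafFor_std E hE ha hb _ W _ hspanW).isSeparatedFor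
    have hk' : k = homOfLE hWU := Subsingleton.elim _ _
    rw [hk']
    intro x t₁ t₂ h₁ h₂
    exact hsep (x.restrict (stdSieve_le_pullback hWU fs)) t₁ t₂
      (Presieve.isAmalgamation_restrict _ x t₁ h₁) (Presieve.isAmalgamation_restrict _ x t₂ h₂)

open AlgebraicGeometry in
open CategoryTheory TopologicalSpace Opposite in
/-- (1) ⇔ (3): Let X be a scheme and B the set of affine opens of X, ordered by inclusion; let F be a
presheaf of sets on B (a functor on Bᵒᵖ) and E ∈ B the empty open. Then F is isomorphic to the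
restriction to B of a sheaf of sets on X if and only if (a) F(∅) is a singleton and (b) for all U ∈
B and sections f, g of O_X over U with U = D(f) ∪ D(g), writing V = D(f), W = D(g) and V ∩ W = D(fg)
(all in B), the map F(U) → F(V) × F(W) is injective with image exactly the pairs (s, t) whose
restrictions to D(fg) agree. (The order relations V, W ≤ U and D(fg) ≤ V, W are supplied as
hypotheses; they follow from the equations.) -/
theorem result (X : Scheme.{u})
    (F : (X.affineOpens)ᵒᵖ ⥤ Type u) (E : X.affineOpens) (hE : (E : X.Opens) = ⊥) :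
    (∃ G : TopCat.Sheaf (Type u) X.carrier,
        Nonempty ((Monotone.functor (f := fun U : X.affineOpens => (U : X.Opens)) (fun _ _ h => h)).op ⋙ G.1 ≅ F)) ↔
    ((Nonempty (F.obj (op E)) ∧ Subsingleton (F.obj (op E))) ∧
      ∀ (U V W VW : X.affineOpens) (f g : Γ(X, (U : X.Opens))),
        (V : X.Opens) = X.basicOpen f → (W : X.Opens) = X.basicOpen g →
        (VW : X.Opens) = X.basicOpen (f * g) → (U : X.Opens) = (V : X.Opens) ⊔ (W : X.Opens) →
        ∀ (hV : V ≤ U) (hW : W ≤ U) (h1 : VW ≤ V) (h2 : VW ≤ W),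
        Function.Injective (fun s : F.obj (op U) => (F.map (homOfLE hV).op s, F.map (homOfLE hW).op s)) ∧
        Set.range (fun s : F.obj (op U) => (F.map (homOfLE hV).op s, F.map (homOfLE hW).op s)) =
          {p | F.map (homOfLE h1).op p.1 = F.map (homOfLE h2).op p.2}) := by
  constructor
  · rintro ⟨G, ⟨α⟩⟩
    exact forward X F E hE G α
  · rintro ⟨ha, hb⟩
    exact exists_sheaf_of_isSheaf X F (isSheaf_of E hE ha hb)

end Groth.Agent.S9513
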