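import Groth.Statements.S9522
import Mathlib
import Groth.Agent.R2.H12Dev5D
import Groth.Agent.S0020

set_option autoImplicit false
universe u
open CategoryTheory CategoryTheory.Limits AlgebraicGeometry
attribute [local instance] HasDerivedCategory.standard
open Coherent

namespace Groth.Agent.S9522

/-- Let X be a Noetherian scheme, Z₀ ⊆ X an irreducible closed subset with generic point ξ, and P an
isomorphism-invariant property of O_X-modules that holds for every zero module and such that (1) for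
every short exact sequence 0 → F₁ → F → F₂ → 0 of coherent modules, P(F₁) and P(F₂) imply P(F); (2)
for coherent F, P(F^⊕r) for some r ≥ 1 implies P(F); (3) P holds for i_*I for every closed immersion
i : Z → X with Z integral, i(Z) a proper subset of Z₀, and every quasi-coherent ideal sheaf I ⊆ O_Z;
(4) there is a coherent module G with support equal to Z₀, whose stalk at ξ is annihilated by the
maximal ideal of O_{X,ξ}, and such that for every quasi-coherent sheaf of ideals J on X with ξ ∉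
V(J) there is a quasi-coherent submodule G' ⊆ J·G whose inclusion into G induces an isomorphism on
stalks at ξ and for which P holds. Then P holds for every coherent O_X-module whose support is
contained in Z₀. (The published statement does not ask that P hold for the zero module, although its
proof uses this for a filtration with no steps; without it the conclusion fails for the zero module
when Z₀ is a closed point: on the spectrum of a field, with P(F) meaning that F is nonzero, every
other hypothesis holds. This row assumes that P holds for every zero module.) -/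
theorem result (X : Scheme.{u}) [IsNoetherian X]
    (Z₀ : Set X) (hZ₀ : IsClosed Z₀) (hirr : IsIrreducible Z₀) (ξ : X) (hξ : ξ ∈ Z₀ ∧ closure {ξ} = Z₀)
    (P : X.Modules → Prop) (hP : ∀ M N : X.Modules, Nonempty (M ≅ N) → P M → P N)
    (h₀ : ∀ M : X.Modules, IsZero M → P M)
    (h₁ : ∀ S : ShortComplex X.Modules, S.ShortExact → Coh.IsCoh S.X₁ → Coh.IsCoh S.X₂ → Coh.IsCoh S.X₃ →
      P S.X₁ → P S.X₃ → P S.X₂)
    (h₂ : ∀ (F : X.Modules) (r : ℕ), Coh.IsCoh F → 1 ≤ r → P (∐ fun _ : Fin r => F) → P F)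
    (h₃ : ∀ (Z : Scheme.{u}) (i : Z ⟶ X), IsClosedImmersion i → IsIntegral Z →
      Set.range ⇑i ⊆ Z₀ → Set.range ⇑i ≠ Z₀ →
      ∀ (I : Z.Modules) (ι : I ⟶ Coh.structureModule Z), Mono ι → Coh.IsQCoh I → P ((Coh.push i).obj I))
    (h₄ : ∃ G : X.Modules, Coh.IsCoh G ∧ CohB1.support G = Z₀ ∧
      (∀ a ∈ IsLocalRing.maximalIdeal (X.presheaf.stalk ξ), ∀ m : ↑(G.presheaf.stalk ξ), a • m = 0) ∧
      ∀ J : X.IdealSheafData, ξ ∉ (J.support : Set X) →
        ∃ (G' : X.Modules) (ι' : G' ⟶ (Dual3.idealMul J).obj G), Mono ι' ∧ Coh.IsQCoh G' ∧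
          IsIso ((TopCat.Presheaf.stalkFunctor _ ξ).map (ι' ≫ Dual3.idealMulι J G).mapPresheaf) ∧ P G')
    (F : X.Modules) (hF : Coh.IsCoh F) (hsupp : CohB1.support F ⊆ Z₀) : P F := by
  classical
  obtain ⟨G, hG, hGsupp, hGm, hGsub⟩ := h₄
  -- the open complement of `Z₀`
  let W₀ : X.Opens := ⟨Z₀ᶜ, hZ₀.isOpen_compl⟩
  have hrange : ∀ (Z : Scheme.{u}) (i : Z ⟶ X) (W : X.Opens), W₀ ≤ W → i ⁻¹ᵁ W = ⊥ → Set.range ⇑i ⊆ Z₀ := by
    rintro Z i W hW hiW _ ⟨z, rfl⟩
    by_contra hz
    have h1 : z ∈ i ⁻¹ᵁ W := hW (show i z ∈ W₀ from hz)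
    rw [hiW] at h1
    exact absurd h1 (by simp)
  have hFv : Groth.Agent.R2.H12.Dev.VanOn F W₀ :=
    Groth.Agent.R2.H12.Dev.vanOn_of_support_disjoint F W₀ fun x hx hxs => hx (hsupp hxs)
  refine Groth.Agent.R2.H12.Dev.devissage_steps P hP h₀ h₁ W₀ ?_ F hF hFv
  intro Z i hi hZ hiW I ι hι hIq hI0
  have hsub : Set.range ⇑i ⊆ Z₀ := hrange Z i W₀ le_rfl hiW
  by_cases hr : Set.range ⇑i = Z₀
  · -- the generic point of `Z` maps to `ξ`
    have hgen : i (genericPoint Z) = ξ := by
      have h1 : IsGenericPoint (i (genericPoint Z)) Z₀ := by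
        rw [isGenericPoint_def, ← Set.image_singleton,
          i.isClosedEmbedding.closure_image_eq, (genericPoint_spec Z).def, Set.image_univ, hr]
      have h2 : IsGenericPoint ξ Z₀ := hξ.2
      exact h1.eq h2
    -- coherent modules supported in `Z₀` and not at `ξ`
    have hsmall : ∀ C : X.Modules, Coh.IsCoh C → Groth.Agent.R2.H12.Dev.VanOn C W₀ →
        i (genericPoint Z) ∉ CohB1.support C → P C := by
      intro C hC hCv hξC
      have hcl : IsClosed (CohB1.support C) := Groth.Agent.S0020.result X C hC.2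
      let W₁ : X.Opens := ⟨(CohB1.support C)ᶜ, hcl.isOpen_compl⟩
      have hCv₁ : Groth.Agent.R2.H12.Dev.VanOn C W₁ :=
        Groth.Agent.R2.H12.Dev.vanOn_of_support_disjoint C W₁ fun x hx hxs => hx hxs
      refine Groth.Agent.R2.H12.Dev.devissage_steps P hP h₀ h₁ (W₀ ⊔ W₁) ?_ C hC (hCv.sup hCv₁)
      intro Z' i' hi' hZ' hiW' I' ι' hι' hIq' _
      have hsub' : Set.range ⇑i' ⊆ Z₀ := hrange Z' i' _ le_sup_left hiW'
      refine h₃ Z' i' hi' hZ' hsub' ?_ I' ι' hι' hIq'
      intro heq
      have h1 : ξ ∈ Set.range ⇑i' := heq ▸ hξ.1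
      obtain ⟨z, hz⟩ := h1
      apply hξC
      rw [hgen, ← hz]
      by_contra hzC
      have h2 : z ∈ i' ⁻¹ᵁ (W₀ ⊔ W₁) := (le_sup_right : W₁ ≤ W₀ ⊔ W₁) (show i' z ∈ W₁ from hzC)
      rw [hiW'] at h2
      exact absurd h2 (by simp)
    have hξG : i (genericPoint Z) ∈ CohB1.support G := by
      rw [hgen, hGsupp]; exact hξ.1
    refine Groth.Agent.R2.H12.Dev.push_ideal_ext_only P h₁ h₂ i W₀ hiW hsmall G hG hξG ?_ ?_ I ι hIq hI0
    · rw [hgen]; exact hGm
    · rw [hgen]
      intro J hJ
      obtain ⟨G', ι', hι', hG'q, hiso, hPG'⟩ := hGsub J hJ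
      have hb := ConcreteCategory.bijective_of_isIso ((TopCat.Presheaf.stalkFunctor Ab ξ).map
        (Scheme.Modules.Hom.mapPresheaf (ι' ≫ Dual3.idealMulι J G)))
      exact ⟨G', ι', hι', hG'q, hb.2, hPG'⟩
  · exact h₃ Z i hi hZ hsub hr I ι hι hIq

end Groth.Agent.S9522
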