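import Groth.Statements.S9567
import Mathlib
import Groth.Agent.Lib.Helper3AppLE

set_option linter.style.haveILetI false

set_option autoImplicit false
universe u
open EtLocal

namespace Groth.Agent.S9567

open CategoryTheory AlgebraicGeometry Polynomial in
theorem ringPart (R B : Type u) [CommRing R] [CommRing B] [Algebra R B]
    [Algebra.IsStandardEtale R B] :
    ∃ (p : R[X]) (_ : p.Monic)
      (θ : Localization.Away (AdjoinRoot.mk p (derivative p)) →ₐ[R] B),
      IsOpenImmersion (Spec.map (CommRingCat.ofHom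
        (θ : Localization.Away (AdjoinRoot.mk p (derivative p)) →+* B))) := by
  obtain ⟨Pr⟩ := Algebra.IsStandardEtale.nonempty_standardEtalePresentation (R := R) (S := B)
  let P : StandardEtalePair R := Pr.P
  let e1 : B ≃ₐ[R] P.Ring := Pr.equivRing
  let e2 : P.Ring ≃ₐ[R] Localization.Away (AdjoinRoot.mk P.f P.g) := P.equivAwayAdjoinRoot
  let Ap := AdjoinRoot P.f
  let L1 := Localization.Away (AdjoinRoot.mk P.f (derivative P.f))
  let L2 := Localization.Away (AdjoinRoot.mk P.f P.g)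
  have hunit : IsUnit ((IsScalarTower.toAlgHom R Ap L2) (AdjoinRoot.mk P.f (derivative P.f))) := by
    obtain ⟨p₁, p₂, n, h⟩ := P.cond
    have h1 : AdjoinRoot.mk P.f (derivative P.f) * AdjoinRoot.mk P.f p₁ =
        (AdjoinRoot.mk P.f P.g) ^ n := by
      rw [← map_mul, ← map_pow, ← h, map_add, map_mul (AdjoinRoot.mk P.f) P.f,
        AdjoinRoot.mk_self, zero_mul, add_zero]
    have h2 : IsUnit (algebraMap Ap L2 ((AdjoinRoot.mk P.f P.g) ^ n)) := by
      rw [map_pow]
      exact (IsLocalization.Away.algebraMap_isUnit _).pow n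
    rw [← h1, map_mul] at h2
    exact isUnit_of_mul_isUnit_left h2
  let θ₀ : L1 →ₐ[R] L2 :=
    IsLocalization.Away.liftAlgHom (AdjoinRoot.mk P.f (derivative P.f)) (f := IsScalarTower.toAlgHom R Ap L2) hunit
  let θ : L1 →ₐ[R] B := (e1.symm.toAlgHom.comp e2.symm.toAlgHom).comp θ₀
  refine ⟨P.f, P.monic_f, θ, ?_⟩
  -- Spec.map θ ≫ Spec.map (algebraMap Ap L1) = Spec.map (e2 ∘ e1)⁻¹ ≫ Spec.map (algebraMap Ap L2)
  let E : L2 ≃+* B := (e2.symm.trans e1.symm).toRingEquiv
  have hcomp : (θ : L1 →+* B).comp (algebraMap Ap L1) = (E : L2 →+* B).comp (algebraMap Ap L2) := by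
    refine RingHom.ext fun a => ?_
    change (e1.symm (e2.symm (θ₀ (algebraMap Ap L1 a)))) = e1.symm (e2.symm (algebraMap Ap L2 a))
    congr 2
    exact IsLocalization.Away.lift_eq _ hunit a
  have h3 : Spec.map (CommRingCat.ofHom (θ : L1 →+* B)) ≫
      Spec.map (CommRingCat.ofHom (algebraMap Ap L1)) =
      Spec.map (CommRingCat.ofHom (E : L2 →+* B)) ≫
      Spec.map (CommRingCat.ofHom (algebraMap Ap L2)) := by
    rw [← Spec.map_comp, ← Spec.map_comp, ← CommRingCat.ofHom_comp, ← CommRingCat.ofHom_comp, hcomp]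
  haveI : IsIso (Spec.map (CommRingCat.ofHom (E : L2 →+* B))) := by
    have : IsIso (CommRingCat.ofHom (E : L2 →+* B)) :=
      (E.toCommRingCatIso).isIso_hom
    infer_instance
  haveI : IsOpenImmersion (Spec.map (CommRingCat.ofHom (θ : L1 →+* B)) ≫
      Spec.map (CommRingCat.ofHom (algebraMap Ap L1))) := by
    rw [h3]; infer_instance
  exact IsOpenImmersion.of_comp _ (Spec.map (CommRingCat.ofHom (algebraMap Ap L1)))

open CategoryTheory AlgebraicGeometry in
theorem mem_basicOpen_iff_notMem_primeIdealOf {X : Scheme.{u}} {U : X.Opens} (hU : IsAffineOpen U)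
    (y : X) (hy : y ∈ U) (r : Γ(X, U)) :
    y ∈ X.basicOpen r ↔ r ∉ (hU.primeIdealOf ⟨y, hy⟩).asIdeal := by
  have h := hU.fromSpec_primeIdealOf ⟨y, hy⟩
  have h2 : (hU.fromSpec.base (hU.primeIdealOf ⟨y, hy⟩) ∈ X.basicOpen r) ↔
      r ∉ (hU.primeIdealOf ⟨y, hy⟩).asIdeal := by
    change hU.primeIdealOf ⟨y, hy⟩ ∈ (hU.fromSpec ⁻¹ᵁ X.basicOpen r) ↔ _
    rw [hU.fromSpec_preimage_basicOpen]
    rfl
  rw [h] at h2
  exact h2


open AlgebraicGeometry CategoryTheory in
/-- Let φ : X ⟶ Y be any morphism of schemes, x a point of X and V an affine open neighbourhood of φ(x),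
with ring R = Γ(Y, V). If φ is étale on some open neighbourhood of x, then there are an affine open
neighbourhood U of x with φ(U) ⊆ V, a monic polynomial p over R and an open immersion j of U into
Spec of (R[t]/(p))[1/p′] (the localization of R[t]/(p) away from the image of the derivative of p)
such that j followed by the projection to Spec R is the morphism U → Spec R induced by φ. -/
theorem result {X Y : Scheme.{u}} (φ : X ⟶ Y) (x : X)
    (V : Y.Opens) (hV : IsAffineOpen V) (hxV : φ.base x ∈ V)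
    (hφ : ∃ W : X.Opens, x ∈ W ∧ Etale (W.ι ≫ φ)) :
    ∃ (U : X.Opens) (hU : IsAffineOpen U) (_ : x ∈ U) (e : U ≤ φ ⁻¹ᵁ V)
      (p : Polynomial Γ(Y, V)) (_ : p.Monic)
      (j : U.toScheme ⟶ Spec (CommRingCat.of (Localization.Away (AdjoinRoot.mk p (Polynomial.derivative p))))),
      IsOpenImmersion j ∧
        j ≫ Spec.map (CommRingCat.ofHom
            (algebraMap Γ(Y, V) (Localization.Away (AdjoinRoot.mk p (Polynomial.derivative p))))) =
          hU.isoSpec.hom ≫ Spec.map (φ.appLE V U e) := by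
  obtain ⟨W, hxW, hW⟩ := hφ
  obtain ⟨U₀, hU₀, hxU₀, hU₀W⟩ :=
    exists_isAffineOpen_mem_and_subset (x := x) (U := W ⊓ φ ⁻¹ᵁ V) ⟨hxW, hxV⟩
  have hU₀W' : U₀ ≤ W := fun y hy => (hU₀W hy).1
  have e₀ : U₀ ≤ φ ⁻¹ᵁ V := fun y hy => (hU₀W hy).2
  have het : Etale (U₀.ι ≫ φ) := by
    rw [← X.homOfLE_ι hU₀W', Category.assoc]
    infer_instance
  have hQ : (φ.appLE V U₀ e₀).hom.Etale :=
    Groth.Agent.Lib.Helper3.AppLE.appLE_of_ι_comp (P := @Etale) φ hV hU₀ e₀ het
  letI algRA : Algebra Γ(Y, V) Γ(X, U₀) := (φ.appLE V U₀ e₀).hom.toAlgebra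
  haveI hEt : Algebra.Etale Γ(Y, V) Γ(X, U₀) := RingHom.etale_algebraMap.mp hQ
  let Q := (hU₀.primeIdealOf ⟨x, hxU₀⟩).asIdeal
  haveI : Q.IsPrime := (hU₀.primeIdealOf ⟨x, hxU₀⟩).isPrime
  haveI : Algebra.IsEtaleAt Γ(Y, V) Q := by
    haveI : Algebra.FormallyEtale Γ(X, U₀) (Localization.AtPrime Q) :=
      Algebra.FormallyEtale.of_isLocalization Q.primeCompl
    exact Algebra.FormallyEtale.comp Γ(Y, V) Γ(X, U₀) (Localization.AtPrime Q)
  obtain ⟨g, hgQ, hg⟩ := Algebra.IsEtaleAt.exists_isStandardEtale (R := Γ(Y, V)) Q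
  have hU : IsAffineOpen (X.basicOpen g) := hU₀.basicOpen g
  have hxU : x ∈ X.basicOpen g := (mem_basicOpen_iff_notMem_primeIdealOf hU₀ x hxU₀ g).mpr hgQ
  have e : X.basicOpen g ≤ φ ⁻¹ᵁ V := (X.basicOpen_le g).trans e₀
  letI algRB : Algebra Γ(Y, V) Γ(X, X.basicOpen g) := (φ.appLE V (X.basicOpen g) e).hom.toAlgebra
  haveI : IsLocalization.Away g Γ(X, X.basicOpen g) := hU₀.isLocalization_basicOpen g
  haveI : IsScalarTower Γ(Y, V) Γ(X, U₀) Γ(X, X.basicOpen g) := by
    refine IsScalarTower.of_algebraMap_eq' ?_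
    change (φ.appLE V (X.basicOpen g) e).hom =
      (X.presheaf.map (homOfLE <| X.basicOpen_le g : _ ⟶ U₀).op).hom.comp (φ.appLE V U₀ e₀).hom
    rw [← CommRingCat.hom_comp, Scheme.Hom.appLE_map]
  let eB : Localization.Away g ≃ₐ[Γ(Y, V)] Γ(X, X.basicOpen g) :=
    (IsLocalization.algEquiv (Submonoid.powers g) (Localization.Away g)
      Γ(X, X.basicOpen g)).restrictScalars Γ(Y, V)
  haveI : Algebra.IsStandardEtale Γ(Y, V) Γ(X, X.basicOpen g) := .of_equiv eB
  obtain ⟨p, hp, θ, hθ⟩ := ringPart Γ(Y, V) Γ(X, X.basicOpen g)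
  refine ⟨X.basicOpen g, hU, hxU, e, p, hp, hU.isoSpec.hom ≫ Spec.map (CommRingCat.ofHom
        (θ : Localization.Away (AdjoinRoot.mk p (Polynomial.derivative p)) →+* Γ(X, X.basicOpen g))),
    inferInstance, ?_⟩
  rw [Category.assoc, ← Spec.map_comp]
  congr 2
  ext r
  exact θ.commutes r

end Groth.Agent.S9567
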