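import Groth.Statements.S9655
import Mathlib

set_option autoImplicit false
set_option linter.unusedSectionVars false
universe u
open CAlg

namespace Groth.Agent.S9655


open IsLocalRing

section

variable {R S : Type u} [CommRing R] [CommRing S] [Algebra R S] [IsLocalRing R] [IsLocalRing S]

/-- the flipped element: `s` itself when its residue lies in `V`, else its inverse. -/
noncomputable def flip (V : ValuationSubring (ResidueField S)) (s : S) : S :=
  open Classical in if residue S s ∈ V then s else Ring.inverse s

lemma isUnit_of_residue_notMem (V : ValuationSubring (ResidueField S)) (s : S)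
    (h : residue S s ∉ V) : IsUnit s := by
  by_contra hs
  have : s ∈ maximalIdeal S := hs
  rw [← residue_eq_zero_iff] at this
  exact h (this ▸ V.zero_mem)

lemma residue_flip_mem (V : ValuationSubring (ResidueField S)) (s : S) :
    residue S (flip V s) ∈ V := by
  unfold flip
  split_ifs with h
  · exact h
  · have hu := isUnit_of_residue_notMem V s h
    have h1 : residue S (Ring.inverse s) = (residue S s)⁻¹ := by
      have h2 : residue S s * residue S (Ring.inverse s) = 1 := by
        rw [← map_mul, Ring.mul_inverse_cancel _ hu, map_one]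
      exact (eq_inv_of_mul_eq_one_right h2)
    rw [h1]
    exact (V.mem_or_inv_mem (residue S s)).resolve_left h

/-- for every `s`, some unit multiple lands in the new subalgebra. -/
lemma flip_spec (V : ValuationSubring (ResidueField S)) (s : S) :
    ∃ u : S, IsUnit u ∧ (u = 1 ∨ u = flip V s) ∧ (s * u = 1 ∨ s * u = flip V s) := by
  unfold flip
  split_ifs with h
  · exact ⟨1, isUnit_one, Or.inl rfl, Or.inr (mul_one s)⟩
  · have hu := isUnit_of_residue_notMem V s h
    exact ⟨Ring.inverse s, (hu.ringInverse), Or.inr rfl, Or.inl (Ring.mul_inverse_cancel _ hu)⟩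

end


section Main

variable {R S : Type u} [CommRing R] [CommRing S] [Algebra R S] [IsLocalRing R] [IsLocalRing S]
  [Algebra.EssFiniteType R S]

theorem main :
    ∃ (n : ℕ) (m : Ideal (MvPolynomial (Fin n) R)) (_ : m.IsMaximal), m.under R = IsLocalRing.maximalIdeal R ∧
      ∃ (φ : Localization.AtPrime m →ₐ[R] S) (T : Submonoid φ.range), IsLocalization T S := by
  classical
  let κ := ResidueField S
  let res : S →+* κ := residue S
  let g : R →+* κ := res.comp (algebraMap R S)
  obtain ⟨V, hV, hloc⟩ := IsLocalRing.exists_factor_valuationRing g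
  let σ : Finset S := Algebra.EssFiniteType.finset R S
  let S₀ : Subalgebra R S := Algebra.EssFiniteType.subalgebra R S
  let σ' : Finset S := σ.image (flip V)
  let S₁ : Subalgebra R S := Algebra.adjoin R (σ' : Set S)
  -- Fact A
  have factA : ∀ x ∈ S₁, res x ∈ V := by
    intro x hx
    induction hx using Algebra.adjoin_induction with
    | mem x hx =>
      simp only [σ', Finset.coe_image, Set.mem_image, Finset.mem_coe] at hx
      obtain ⟨s, _, rfl⟩ := hx
      exact residue_flip_mem V s
    | algebraMap r => exact hV r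
    | add x y _ _ hx hy => rw [map_add]; exact V.add_mem _ _ hx hy
    | mul x y _ _ hx hy => rw [map_mul]; exact V.mul_mem _ _ hx hy
  -- Fact B
  have factB : ∀ a ∈ S₀, ∃ u ∈ S₁, IsUnit u ∧ a * u ∈ S₁ := by
    intro a ha
    induction ha using Algebra.adjoin_induction with
    | mem s hs =>
      have hs' : flip V s ∈ S₁ :=
        Algebra.subset_adjoin (Finset.mem_coe.mpr (Finset.mem_image_of_mem _ hs))
      obtain ⟨u, hu, hu1, hu2⟩ := flip_spec V s
      refine ⟨u, ?_, hu, ?_⟩
      · rcases hu1 with rfl | rfl
        · exact S₁.one_mem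
        · exact hs'
      · rcases hu2 with h | h
        · rw [h]; exact S₁.one_mem
        · rw [h]; exact hs'
    | algebraMap r => exact ⟨1, S₁.one_mem, isUnit_one, by simp⟩
    | add x y _ _ hx hy =>
      obtain ⟨u, hu, huu, hxu⟩ := hx
      obtain ⟨v, hv, hvu, hyv⟩ := hy
      refine ⟨u * v, S₁.mul_mem hu hv, huu.mul hvu, ?_⟩
      have : (x + y) * (u * v) = (x * u) * v + (y * v) * u := by ring
      rw [this]
      exact S₁.add_mem (S₁.mul_mem hxu hv) (S₁.mul_mem hyv hu)
    | mul x y _ _ hx hy =>
      obtain ⟨u, hu, huu, hxu⟩ := hx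
      obtain ⟨v, hv, hvu, hyv⟩ := hy
      refine ⟨u * v, S₁.mul_mem hu hv, huu.mul hvu, ?_⟩
      have : (x * y) * (u * v) = (x * u) * (y * v) := by ring
      rw [this]
      exact S₁.mul_mem hxu hyv
  -- the map to V
  let ρ : S₁ →+* V := (res.comp S₁.val.toRingHom).codRestrict V.toSubring (fun x => factA x x.2)
  let I : Ideal S₁ := Ideal.map (algebraMap R S₁) (maximalIdeal R) ⊔
    Ideal.comap (algebraMap S₁ S) (maximalIdeal S)
  have hI : I ≤ Ideal.comap ρ (maximalIdeal V) := by
    refine sup_le ?_ ?_
    · rw [Ideal.map_le_iff_le_comap]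
      intro r hr
      rw [Ideal.mem_comap, Ideal.mem_comap, mem_maximalIdeal, mem_nonunits_iff]
      intro hu
      have : IsUnit ((g.codRestrict V.toSubring hV) r) := hu
      exact hr (hloc.map_nonunit r this)
    · intro x hx
      rw [Ideal.mem_comap] at hx ⊢
      have h0 : res (x : S) = 0 := (residue_eq_zero_iff _).mpr hx
      have : ρ x = 0 := Subtype.ext h0
      rw [this]; exact Ideal.zero_mem _
  have hItop : I ≠ ⊤ := by
    intro h
    have : (Ideal.comap ρ (maximalIdeal V)) = ⊤ := top_le_iff.mp (h ▸ hI)
    exact (Ideal.comap_isPrime ρ (maximalIdeal V)).ne_top this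
  obtain ⟨M, hMmax, hIM⟩ := Ideal.exists_le_maximal I hItop
  -- enumerate generators
  let n := σ'.card
  let e : Fin n ≃ σ' := σ'.equivFin.symm
  let φ₀ : MvPolynomial (Fin n) R →ₐ[R] S := MvPolynomial.aeval (fun i => ((e i : σ') : S))
  have hrange : φ₀.range = S₁ := by
    rw [← Algebra.adjoin_range_eq_range_aeval]
    congr 1
    ext x
    simp only [Set.mem_range, Finset.mem_coe]
    constructor
    · rintro ⟨i, rfl⟩; exact (e i).2
    · intro hx; exact ⟨e.symm ⟨x, hx⟩, by simp⟩
  let φ₁ : MvPolynomial (Fin n) R →ₐ[R] S₁ :=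
    φ₀.codRestrict S₁ (fun p => hrange ▸ φ₀.mem_range_self p)
  have hφ₁ : Function.Surjective φ₁ := by
    rintro ⟨x, hx⟩
    rw [← hrange] at hx
    obtain ⟨p, rfl⟩ := hx
    exact ⟨p, rfl⟩
  let m : Ideal (MvPolynomial (Fin n) R) := M.comap φ₁
  have hm : m.IsMaximal := Ideal.comap_isMaximal_of_surjective φ₁ hφ₁
  have hunder : m.under R = maximalIdeal R := by
    have hle : maximalIdeal R ≤ m.under R := by
      intro r hr
      rw [Ideal.under_def, Ideal.mem_comap, Ideal.mem_comap]
      apply hIM
      apply Ideal.mem_sup_left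
      have : φ₁ (algebraMap R _ r) = algebraMap R S₁ r := φ₁.commutes r
      rw [this]
      exact Ideal.mem_map_of_mem _ hr
    have hne : m.under R ≠ ⊤ := (Ideal.comap_isPrime _ m).ne_top
    exact ((maximalIdeal.isMaximal R).eq_of_le hne hle).symm
  refine ⟨n, m, hm, hunder, ?_⟩
  -- units
  have hunit : ∀ y : m.primeCompl, IsUnit (φ₀ y) := by
    rintro ⟨y, hy⟩
    by_contra hnu
    apply hy
    show φ₁ y ∈ M
    apply hIM
    apply Ideal.mem_sup_right
    rw [Ideal.mem_comap]
    exact hnu
  let φ : Localization.AtPrime m →ₐ[R] S :=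
    IsLocalization.liftAlgHom (M := m.primeCompl) (f := φ₀) hunit
  have hS₁φ : ∀ x ∈ S₁, x ∈ φ.range := by
    intro x hx
    rw [← hrange] at hx
    obtain ⟨p, rfl⟩ := hx
    exact ⟨algebraMap _ _ p, by simp [φ]⟩
  let T : Submonoid φ.range := (IsUnit.submonoid S).comap (algebraMap φ.range S)
  refine ⟨φ, T, ?_⟩
  exact
    { map_units := fun y => y.2
      surj := by
        intro z
        obtain ⟨⟨⟨a, ha⟩, ⟨⟨b, hb⟩, hbu⟩⟩, hz⟩ :=
          IsLocalization.surj (Algebra.EssFiniteType.submonoid R S) z
        have hbu' : IsUnit b := hbu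
        have hz' : z * b = a := hz
        obtain ⟨ua, hua, huau, haua⟩ := factB a ha
        obtain ⟨ub, hub, hubu, hbub⟩ := factB b hb
        refine ⟨⟨⟨a * ua * ub, hS₁φ _ (S₁.mul_mem haua hub)⟩,
          ⟨⟨b * ub * ua, hS₁φ _ (S₁.mul_mem hbub hua)⟩, ?_⟩⟩, ?_⟩
        · show IsUnit (b * ub * ua)
          exact (hbu'.mul hubu).mul huau
        · show z * (b * ub * ua) = a * ua * ub
          rw [← hz']; ring
      exists_of_eq := by
        intro x y hxy
        exact ⟨1, by rw [Subtype.ext hxy]⟩ }

end Main

/-- Let R and S be local rings and R → S a ring map, not necessarily local, that is essentially of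
finite type. Then for some n there is a maximal ideal m of the polynomial ring R[x_1, …, x_n] lying
over the maximal ideal of R, together with an R-algebra map φ : R[x_1, …, x_n]_m → S making S a
localization of the image of φ; thus S arises from R[x_1, …, x_n]_m by passing to a quotient and
then localizing. -/
theorem result {R S : Type u} [CommRing R] [CommRing S] [Algebra R S] [IsLocalRing R] [IsLocalRing S] [Algebra.EssFiniteType R S] :
    ∃ (n : ℕ) (m : Ideal (MvPolynomial (Fin n) R)) (_ : m.IsMaximal), m.under R = IsLocalRing.maximalIdeal R ∧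
      ∃ (φ : Localization.AtPrime m →ₐ[R] S) (T : Submonoid φ.range), IsLocalization T S := by
  exact main

end Groth.Agent.S9655
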