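import Groth.Statements.S9659
import Mathlib

set_option linter.style.haveILetI false

set_option autoImplicit false
universe u
open CAlg

namespace Groth.Agent.S9659


open DirectSum

variable {R S : Type u} [CommRing R] [CommRing S] [Algebra R S] (𝒜 : ℤ → Submodule R S) [GradedAlgebra 𝒜]

/-- the inverse of a homogeneous unit is homogeneous. -/
lemma inv_mem (u : Sˣ) (d : ℤ) (hu : (u : S) ∈ 𝒜 d) : ((u⁻¹ : Sˣ) : S) ∈ 𝒜 (-d) := by
  classical
  have h1 : (decompose 𝒜 ((u : S) * ((u⁻¹ : Sˣ) : S)) (d + (-d)) : S)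
      = (u : S) * decompose 𝒜 ((u⁻¹ : Sˣ) : S) (-d) :=
    coe_decompose_mul_add_of_left_mem 𝒜 hu
  have h2 : (decompose 𝒜 ((u : S) * ((u⁻¹ : Sˣ) : S)) (d + (-d)) : S) = 1 := by
    rw [Units.mul_inv, add_neg_cancel]
    exact decompose_of_mem_same 𝒜 (SetLike.GradedOne.one_mem)
  have h3 : ((u⁻¹ : Sˣ) : S) = (decompose 𝒜 ((u⁻¹ : Sˣ) : S) (-d) : S) := by
    have : (u : S) * (decompose 𝒜 ((u⁻¹ : Sˣ) : S) (-d) : S) = 1 := by rw [← h1, h2]
    calc ((u⁻¹ : Sˣ) : S) = ((u⁻¹ : Sˣ) : S) * ((u : S) * (decompose 𝒜 ((u⁻¹ : Sˣ) : S) (-d) : S)) := by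
          rw [this, mul_one]
      _ = _ := by rw [← mul_assoc, Units.inv_mul, one_mul]
  rw [h3]
  exact SetLike.coe_mem _

lemma zpow_mem (u : Sˣ) (d : ℤ) (hu : (u : S) ∈ 𝒜 d) (k : ℤ) : ((u ^ k : Sˣ) : S) ∈ 𝒜 (k * d) := by
  obtain ⟨n, rfl | rfl⟩ := Int.eq_nat_or_neg k
  · rw [zpow_natCast, Units.val_pow_eq_pow_val]
    have := SetLike.pow_mem_graded n hu
    simpa using this
  · rw [zpow_neg, zpow_natCast, ← inv_pow, Units.val_pow_eq_pow_val]
    have := SetLike.pow_mem_graded n (inv_mem 𝒜 u d hu)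
    simpa using this

/-- θ(a) = a^n * u^(-i), for a of degree i, where n = d. -/
lemma theta_mem (u : Sˣ) (n : ℕ) (hu : (u : S) ∈ 𝒜 (n : ℤ)) (i : ℤ) (a : S) (ha : a ∈ 𝒜 i) :
    a ^ n * ((u ^ (-i) : Sˣ) : S) ∈ 𝒜 0 := by
  have h1 := SetLike.pow_mem_graded n ha
  have h2 := zpow_mem 𝒜 u n hu (-i)
  have h3 := SetLike.mul_mem_graded h1 h2
  have : n • i + -i * (n : ℤ) = 0 := by simp; ring
  rwa [this] at h3

lemma mem_iff_theta_mem (u : Sˣ) (n : ℕ) (hn : 0 < n) (i : ℤ) (a : S)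
    (P : Ideal S) (hP : P.IsRadical) :
    a ∈ P ↔ a ^ n * ((u ^ (-i) : Sˣ) : S) ∈ P := by
  constructor
  · intro h
    exact Ideal.mul_mem_right _ _ (Ideal.pow_mem_of_mem _ h n hn)
  · intro h
    have : a ^ n ∈ P := by
      have := Ideal.mul_mem_right ((u ^ (i) : Sˣ) : S) _ h
      rwa [mul_assoc, ← Units.val_mul, ← zpow_add, neg_add_cancel, zpow_zero, Units.val_one,
        mul_one] at this
    exact hP ⟨n, this⟩

lemma ideal_le_of_homogeneous (I J : Ideal S) (hI : I.IsHomogeneous 𝒜)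
    (h : ∀ i, ∀ a ∈ 𝒜 i, a ∈ I → a ∈ J) : I ≤ J := by
  classical
  intro r hr
  rw [← DirectSum.sum_support_decompose 𝒜 r]
  refine Ideal.sum_mem _ fun i _ => ?_
  exact h i _ (SetLike.coe_mem _) (hI i hr)

/-- degree zero part of `p₀ S` is `p₀`. -/
lemma mem_of_mem_map (p₀ : Ideal (SetLike.GradeZero.subring 𝒜)) (y : S) (hy : y ∈ 𝒜 0)
    (h : y ∈ p₀.map (SetLike.GradeZero.subring 𝒜).subtype) :
    (⟨y, hy⟩ : SetLike.GradeZero.subring 𝒜) ∈ p₀ := by
  classical
  have key : ∀ s ∈ p₀.map (SetLike.GradeZero.subring 𝒜).subtype, ∀ r : S,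
      (⟨(decompose 𝒜 (r * s) 0 : S), SetLike.coe_mem _⟩ : SetLike.GradeZero.subring 𝒜) ∈ p₀ := by
    intro s hs
    rw [Ideal.map] at hs
    induction hs using Submodule.span_induction with
    | mem x hx =>
      obtain ⟨a, ha, rfl⟩ := hx
      intro r
      have : (decompose 𝒜 (r * (SetLike.GradeZero.subring 𝒜).subtype a) 0 : S)
          = (decompose 𝒜 r 0 : S) * (a : S) :=
        coe_decompose_mul_of_right_mem_zero 𝒜 a.2
      have h2 : (⟨(decompose 𝒜 (r * (SetLike.GradeZero.subring 𝒜).subtype a) 0 : S),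
          SetLike.coe_mem _⟩ : SetLike.GradeZero.subring 𝒜)
          = (⟨(decompose 𝒜 r 0 : S), SetLike.coe_mem _⟩ : SetLike.GradeZero.subring 𝒜) * a :=
        Subtype.ext this
      rw [h2]
      exact Ideal.mul_mem_left _ _ ha
    | zero =>
      intro r
      have : (⟨(decompose 𝒜 (r * 0) 0 : S), SetLike.coe_mem _⟩ : SetLike.GradeZero.subring 𝒜) = 0 := by
        apply Subtype.ext
        simp
      rw [this]
      exact Ideal.zero_mem _
    | add x y _ _ hx hy =>
      intro r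
      have : (⟨(decompose 𝒜 (r * (x + y)) 0 : S), SetLike.coe_mem _⟩ : SetLike.GradeZero.subring 𝒜)
        = (⟨(decompose 𝒜 (r * x) 0 : S), SetLike.coe_mem _⟩ : SetLike.GradeZero.subring 𝒜)
          + (⟨(decompose 𝒜 (r * y) 0 : S), SetLike.coe_mem _⟩ : SetLike.GradeZero.subring 𝒜) := by
        apply Subtype.ext
        change (decompose 𝒜 (r * (x + y)) 0 : S) = (decompose 𝒜 (r * x) 0 : S) + (decompose 𝒜 (r * y) 0 : S)
        rw [mul_add, decompose_add, DirectSum.add_apply, Submodule.coe_add]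
      rw [this]
      exact Ideal.add_mem _ (hx r) (hy r)
    | smul a x _ hx =>
      intro r
      have := hx (r * a)
      rwa [mul_assoc] at this
  have := key y h 1
  have h2 : (⟨(decompose 𝒜 (1 * y) 0 : S), SetLike.coe_mem _⟩ : SetLike.GradeZero.subring 𝒜)
      = ⟨y, hy⟩ := by
    apply Subtype.ext
    simp only [one_mul]
    exact decompose_of_mem_same 𝒜 hy
  rwa [h2] at this

/-- Let S be a ℤ-graded ring which contains an invertible homogeneous element of positive degree. Then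
the set of homogeneous prime ideals of S, with the topology induced from Spec(S), maps
homeomorphically onto Spec(S₀) by p ↦ p ∩ S₀. -/
theorem result {R S : Type u} [CommRing R] [CommRing S] [Algebra R S] (𝒜 : ℤ → Submodule R S) [GradedAlgebra 𝒜]
    (f : S) (d : ℤ) (hd : 0 < d) (hf : f ∈ 𝒜 d) (hu : IsUnit f) :
    IsHomeomorph (fun p : {p : PrimeSpectrum S // p.asIdeal.IsHomogeneous 𝒜} => PrimeSpectrum.comap (SetLike.GradeZero.subring 𝒜).subtype p.1) := by
  classical
  obtain ⟨u, rfl⟩ := hu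
  obtain ⟨n, rfl⟩ := Int.eq_ofNat_of_zero_le hd.le
  have hn : 0 < n := by exact_mod_cast hd
  set S₀ := SetLike.GradeZero.subring 𝒜 with hS₀
  -- θ
  let θ : ∀ (i : ℤ) (a : S), a ∈ 𝒜 i → S₀ := fun i a ha =>
    ⟨a ^ n * ((u ^ (-i) : Sˣ) : S), theta_mem 𝒜 u n hf i a ha⟩
  have keyA : ∀ (p : PrimeSpectrum S) (i : ℤ) (a : S) (ha : a ∈ 𝒜 i),
      a ∈ p.asIdeal ↔ θ i a ha ∈ (PrimeSpectrum.comap S₀.subtype p).asIdeal := by
    intro p i a ha
    rw [PrimeSpectrum.comap_asIdeal, Ideal.mem_comap]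
    exact mem_iff_theta_mem u n hn i a p.asIdeal p.2.isRadical
  -- surjectivity
  have hsurj : Function.Surjective (fun p : {p : PrimeSpectrum S // p.asIdeal.IsHomogeneous 𝒜} =>
      PrimeSpectrum.comap S₀.subtype p.1) := by
    intro q
    set P : Ideal S := (q.asIdeal.map S₀.subtype).radical with hP
    have hPrad : P.IsRadical := Ideal.radical_isRadical _
    have hPhom : P.IsHomogeneous 𝒜 := by
      refine Ideal.IsHomogeneous.radical ?_
      rw [Ideal.map]
      refine Ideal.homogeneous_span 𝒜 _ ?_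
      rintro _ ⟨a, _, rfl⟩
      exact ⟨0, a.2⟩
    have hc : ∀ y : S₀, (y : S) ∈ P ↔ y ∈ q.asIdeal := by
      intro y
      constructor
      · rintro ⟨m, hm⟩
        have h1 : ((y ^ m : S₀) : S) ∈ q.asIdeal.map S₀.subtype := by
          simpa using hm
        have h2 := mem_of_mem_map 𝒜 q.asIdeal _ (y ^ m : S₀).2 h1
        exact q.2.mem_of_pow_mem m h2
      · intro hy
        exact Ideal.le_radical (Ideal.mem_map_of_mem S₀.subtype hy)
    have hPtop : P ≠ ⊤ := by
      intro h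
      have h1 : ((1 : S₀) : S) ∈ P := by rw [h]; trivial
      exact q.2.ne_top ((Ideal.eq_top_iff_one _).mpr ((hc 1).mp h1))
    have hPprime : P.IsPrime := by
      refine hPhom.isPrime_of_homogeneous_mem_or_mem hPtop ?_
      rintro x y ⟨i, hx⟩ ⟨j, hy⟩ hxy
      have h1 := (mem_iff_theta_mem u n hn (i + j) (x * y) P hPrad).mp hxy
      have h2 : (x * y) ^ n * ((u ^ (-(i + j)) : Sˣ) : S)
          = ((θ i x hx * θ j y hy : S₀) : S) := by
        simp only [θ, Subring.coe_mul]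
        rw [neg_add, zpow_add, Units.val_mul, mul_pow]
        ring
      rw [h2, hc] at h1
      rcases q.2.mem_or_mem h1 with h3 | h3
      · left
        exact (mem_iff_theta_mem u n hn i x P hPrad).mpr ((hc _).mpr h3)
      · right
        exact (mem_iff_theta_mem u n hn j y P hPrad).mpr ((hc _).mpr h3)
    refine ⟨⟨⟨P, hPprime⟩, hPhom⟩, ?_⟩
    apply PrimeSpectrum.ext
    ext y
    simp only [PrimeSpectrum.comap_asIdeal, Ideal.mem_comap]
    exact hc y
  refine ⟨?_, ?_, ?_, hsurj⟩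
  · exact (PrimeSpectrum.continuous_comap _).comp continuous_subtype_val
  · -- open map
    have hB := (PrimeSpectrum.isTopologicalBasis_basic_opens (R := S)).isInducing
      (Topology.IsInducing.subtypeVal (t := {p : PrimeSpectrum S | p.asIdeal.IsHomogeneous 𝒜}))
    rw [hB.isOpenMap_iff]
    rintro _ ⟨_, ⟨g, rfl⟩, rfl⟩
    have : (fun p : {p : PrimeSpectrum S // p.asIdeal.IsHomogeneous 𝒜} =>
        PrimeSpectrum.comap S₀.subtype p.1) '' (Subtype.val ⁻¹' (PrimeSpectrum.basicOpen g : Set (PrimeSpectrum S)))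
        = ⋃ i : ℤ, (PrimeSpectrum.basicOpen (θ i (decompose 𝒜 g i : S) (SetLike.coe_mem _)) : Set (PrimeSpectrum S₀)) := by
      ext q
      simp only [Set.mem_image, Set.mem_preimage, SetLike.mem_coe, PrimeSpectrum.mem_basicOpen,
        Set.mem_iUnion]
      constructor
      · rintro ⟨p, hp, rfl⟩
        have : ∃ i, (decompose 𝒜 g i : S) ∉ p.1.asIdeal := by
          by_contra hcon
          push Not at hcon
          apply hp
          rw [← DirectSum.sum_support_decompose 𝒜 g]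
          exact Ideal.sum_mem _ fun i _ => hcon i
        obtain ⟨i, hi⟩ := this
        exact ⟨i, fun h => hi ((keyA p.1 i _ (SetLike.coe_mem _)).mpr h)⟩
      · rintro ⟨i, hi⟩
        obtain ⟨p, rfl⟩ := hsurj q
        refine ⟨p, ?_, rfl⟩
        intro hg
        exact hi ((keyA p.1 i _ (SetLike.coe_mem _)).mp (p.2 i hg))
    change IsOpen ((fun p : {p : PrimeSpectrum S // p.asIdeal.IsHomogeneous 𝒜} =>
        PrimeSpectrum.comap S₀.subtype p.1) '' (Subtype.val ⁻¹' (PrimeSpectrum.basicOpen g : Set (PrimeSpectrum S))))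
    rw [this]
    exact isOpen_iUnion fun i => (PrimeSpectrum.basicOpen _).isOpen
  · -- injective
    intro p q hpq
    apply Subtype.ext
    apply PrimeSpectrum.ext
    have hle : ∀ p q : {p : PrimeSpectrum S // p.asIdeal.IsHomogeneous 𝒜},
        PrimeSpectrum.comap S₀.subtype p.1 = PrimeSpectrum.comap S₀.subtype q.1 →
        p.1.asIdeal ≤ q.1.asIdeal := by
      intro p q hpq
      refine ideal_le_of_homogeneous 𝒜 _ _ p.2 fun i a ha hap => ?_
      rw [keyA q.1 i a ha, ← hpq, ← keyA p.1 i a ha]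
      exact hap
    exact le_antisymm (hle p q hpq) (hle q p hpq.symm)

end Groth.Agent.S9659
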