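import Groth.Statements.S9661
import Groth.Agent.S8171
import Groth.Agent.Lib.Helper13GradedQuot
import Groth.Agent.Lib.Helper4HilbFunB
import Groth.Agent.Lib.Helper4HilbFunC
import Groth.Agent.Lib.Helper4HilbFunD

set_option linter.style.haveILetI false

set_option autoImplicit false
universe u
attribute [local instance] MvPolynomial.gradedAlgebra
open CAlg

namespace Groth.Agent.S9661


open Groth.Agent.Lib.Helper4.HilbFun MvPolynomial Groth.Agent.Helper13GradedQuot

/-- dimension bound for a quotient of the polynomial ring by a nonzero ideal. -/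
lemma dim_quot_le {k : Type u} [Field k] (n : ℕ) (J : Ideal (MvPolynomial (Fin (n + 1)) k))
    (hJ : J ≠ ⊥) : ringKrullDim (MvPolynomial (Fin (n + 1)) k ⧸ J) ≤ (n : WithBot ℕ∞) := by
  obtain ⟨F, hFJ, hF0⟩ := Submodule.exists_mem_ne_zero_of_ne_bot hJ
  have h1 := ringKrullDim_succ_le_of_surjective (Ideal.Quotient.mk J) Ideal.Quotient.mk_surjective
    (r := F) (mem_nonZeroDivisors_of_ne_zero hF0) (Ideal.Quotient.eq_zero_iff_mem.mpr hFJ)
  rw [MvPolynomial.ringKrullDim_of_isNoetherianRing, ringKrullDim_eq_zero_of_field, zero_add,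
    Nat.card_eq_fintype_card, Fintype.card_fin] at h1
  generalize ringKrullDim (MvPolynomial (Fin (n + 1)) k ⧸ J) = a at h1
  induction a using WithBot.recBotCoe with
  | bot => exact bot_le
  | coe a =>
    have h2 : ((a + 1 : ℕ∞) : WithBot ℕ∞) ≤ (((n : ℕ∞) + 1 : ℕ∞) : WithBot ℕ∞) := by
      exact_mod_cast h1
    have h2' : a + 1 ≤ (n : ℕ∞) + 1 := WithBot.coe_le_coe.mp h2
    have h3 : a ≤ (n : ℕ∞) := (ENat.add_le_add_iff_right (by simp)).mp h2'
    exact_mod_cast WithBot.coe_le_coe.mpr h3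

/-- the Hilbert function of a homogeneous quotient is eventually a combination of binomials. -/
lemma hilb_eventually {k : Type u} [Field k] (d : ℕ)
    (J : Ideal (MvPolynomial (Fin d) k)) (hJ : J.IsHomogeneous (homogeneousSubmodule (Fin d) k)) :
    ∃ c : Fin d → ℤ, ∃ N : ℕ, ∀ i : ℕ, N ≤ i →
      (hilb J i : ℤ) = ∑ j : Fin d, c j * ((i + (j : ℕ)).choose (j : ℕ) : ℤ) := by
  classical
  letI : DirectSum.Decomposition (qgr (homogeneousSubmodule (Fin d) k) J) :=
    (isInternal_qgr (homogeneousSubmodule (Fin d) k) J hJ).chooseDecomposition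
  haveI : SetLike.GradedSMul (homogeneousSubmodule (Fin d) k)
      (qgr (homogeneousSubmodule (Fin d) k) J) :=
    ⟨by
      rintro i j r y hr ⟨a, ha, rfl⟩
      exact ⟨r * a, SetLike.GradedMul.mul_mem hr ha, rfl⟩⟩
  obtain ⟨c, N, hc⟩ := Groth.Agent.S8171.result (A₀ := k) d (MvPolynomial (Fin d) k ⧸ J)
    (qgr (homogeneousSubmodule (Fin d) k) J)
  refine ⟨c, N, fun i hi => ?_⟩
  obtain ⟨ℓ, hℓ1, hℓ2⟩ := hc i hi
  have hfin : Module.Finite k ↥(qgr (homogeneousSubmodule (Fin d) k) J i) := by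
    unfold qgr
    infer_instance
  rw [Module.length_eq_finrank] at hℓ1
  have : hilb J i = ℓ := by
    have h1 : (hilb J i : ℕ∞) = (ℓ : ℕ∞) := hℓ1
    exact_mod_cast h1
  rw [this, hℓ2]

/-- Let k be a field, d ≥ 1, and I a nonzero homogeneous ideal of the standard-graded polynomial ring
k[X_1, …, X_d]; put M = k[X_1, …, X_d]/I. Then the function n ↦ dim_k M_n (equal to dim_k of the
degree-n part of the polynomial ring minus dim_k of the degree-n part of I) coincides for all large
n with a polynomial of degree < d - 1, the zero polynomial if d = 1. -/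
theorem result {k : Type u} [Field k] (d : ℕ) (hd : 0 < d)
    (I : HomogeneousIdeal (MvPolynomial.homogeneousSubmodule (Fin d) k)) (hI : I ≠ ⊥) :
    ∃ P : Polynomial ℚ, P.degree < ((d - 1 : ℕ) : WithBot ℕ) ∧ ∃ N : ℕ, ∀ n : ℕ, N ≤ n →
      ((Module.finrank k ↥(MvPolynomial.homogeneousSubmodule (Fin d) k n) : ℚ) -
        (Module.finrank k ↥(I.toIdeal.restrictScalars k ⊓ MvPolynomial.homogeneousSubmodule (Fin d) k n) : ℚ)) = P.eval (n : ℚ) := by
  obtain ⟨n, rfl⟩ : ∃ n, d = n + 1 := ⟨d - 1, by omega⟩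
  set J := I.toIdeal with hJdef
  have hJhom : J.IsHomogeneous (homogeneousSubmodule (Fin (n + 1)) k) := I.isHomogeneous
  have hJ0 : J ≠ ⊥ := by
    intro h
    apply hI
    apply HomogeneousIdeal.toIdeal_injective
    rw [← hJdef, h]
    rfl
  have hLHS : ∀ m : ℕ, ((Module.finrank k ↥(homogeneousSubmodule (Fin (n + 1)) k m) : ℚ) -
      (Module.finrank k ↥(J.restrictScalars k ⊓ homogeneousSubmodule (Fin (n + 1)) k m) : ℚ))
      = (hilb J m : ℚ) := by
    intro m
    rw [finrank_eq_hilb_add J m]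
    push_cast
    ring
  have hdim := dim_quot_le n J hJ0
  cases n with
  | zero =>
    obtain ⟨N, hN⟩ := hilb_eq_zero_of_dim_le_zero k 0 J hJhom (by exact_mod_cast hdim)
    refine ⟨0, by simp, N, fun m hm => ?_⟩
    rw [hLHS m, hN m hm]
    simp
  | succ e =>
    obtain ⟨c, N, hc⟩ := hilb_eventually (e + 1 + 1) J hJhom
    obtain ⟨C, hC⟩ := exists_hilb_le k (e + 1) e J hJhom (by exact_mod_cast hdim)
    set Q : Polynomial ℚ := ∑ j : Fin (e + 1 + 1), Polynomial.C (c j : ℚ) * P0 (j : ℕ) with hQ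
    have hQeval : ∀ m : ℕ, N ≤ m → Q.eval (m : ℚ) = (hilb J m : ℚ) := by
      intro m hm
      have h1 := hc m hm
      have h2 : (hilb J m : ℚ) = ∑ j : Fin (e + 1 + 1), (c j : ℚ) * (((m + (j : ℕ)).choose (j : ℕ) : ℕ) : ℚ) := by
        have := congrArg (fun z : ℤ => (z : ℚ)) h1
        simpa using this
      rw [h2, hQ, Polynomial.eval_finsetSum]
      refine Finset.sum_congr rfl fun j _ => ?_
      rw [Polynomial.eval_mul, Polynomial.eval_C, P0_eval, add_comm (j : ℕ) m,
        Nat.choose_symm_add]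
    have hdeg : Q.natDegree ≤ e := by
      refine natDegree_le_of_abs_eval_le Q e (C : ℚ) N fun m hm => ?_
      rw [hQeval m hm, abs_of_nonneg (by positivity)]
      have := hC m
      exact_mod_cast this
    refine ⟨Q, ?_, N, fun m hm => ?_⟩
    · calc Q.degree ≤ (Q.natDegree : WithBot ℕ) := Polynomial.degree_le_natDegree
        _ ≤ (e : WithBot ℕ) := by exact_mod_cast hdeg
        _ < ((e + 1 + 1 - 1 : ℕ) : WithBot ℕ) := by
          have : e < e + 1 + 1 - 1 := by omega
          exact_mod_cast this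
    · rw [hLHS m, hQeval m hm]

end Groth.Agent.S9661
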