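import Groth.Statements.S9662
import Groth.Agent.R2.H42K0Hilb

set_option linter.style.haveILetI false

set_option autoImplicit false
universe u
open CategoryTheory
open CAlg

namespace Groth.Agent.S9662


open Groth.Agent.R2.H42.K0Hilb DirectSum

lemma adjoin_eq_top {A S : Type u} [CommRing A] [CommRing S] [Algebra A S]
    (𝒜 : ℕ → Submodule A S) [GradedAlgebra 𝒜]
    (h0 : ∀ s ∈ 𝒜 0, s ∈ Set.range (algebraMap A S))
    (T : Finset S) (hT1 : (T : Set S) ⊆ (𝒜 1 : Set S))
    (hT2 : (HomogeneousIdeal.irrelevant 𝒜).toIdeal = Ideal.span (T : Set S)) :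
    Algebra.adjoin A (T : Set S) = ⊤ := by
  classical
  have key : ∀ n, ∀ s ∈ 𝒜 n, s ∈ Algebra.adjoin A (T : Set S) := by
    intro n
    induction n with
    | zero =>
      intro s hs
      obtain ⟨a, rfl⟩ := h0 s hs
      exact Subalgebra.algebraMap_mem _ a
    | succ n ih =>
      intro s hs
      have hs' : s ∈ (HomogeneousIdeal.irrelevant 𝒜).toIdeal := by
        change s ∈ HomogeneousIdeal.irrelevant 𝒜
        rw [HomogeneousIdeal.mem_irrelevant_iff]
        exact DirectSum.decompose_of_mem_ne 𝒜 hs (Nat.succ_ne_zero n)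
      rw [hT2] at hs'
      obtain ⟨c, -, hc⟩ := Submodule.mem_span_finset.mp hs'
      have : s = ∑ t ∈ T, (decompose 𝒜 (c t) n : S) * t := by
        calc s = (decompose 𝒜 s (n + 1) : S) := (decompose_of_mem_same 𝒜 hs).symm
          _ = (decompose 𝒜 (∑ t ∈ T, c t • t) (n + 1) : S) := by rw [hc]
          _ = ∑ t ∈ T, (decompose 𝒜 (c t * t) (n + 1) : S) := by
            rw [decompose_sum, DFinsupp.finsetSum_apply, AddSubmonoidClass.coe_finsetSum]
            rfl
          _ = ∑ t ∈ T, (decompose 𝒜 (c t) n : S) * t :=
            Finset.sum_congr rfl fun t ht => coe_decompose_mul_add_of_right_mem 𝒜 (hT1 ht)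
      rw [this]
      exact Subalgebra.sum_mem _ fun t ht =>
        Subalgebra.mul_mem _ (ih _ (SetLike.coe_mem _)) (Algebra.subset_adjoin ht)
  rw [eq_top_iff]
  intro s _
  rw [← DirectSum.sum_support_decompose 𝒜 s]
  exact Subalgebra.sum_mem _ fun n _ => key n _ (SetLike.coe_mem _)

/-- Let S be a Noetherian ℕ-graded ring, presented as a graded algebra over a ring A mapping onto S₀,
whose irrelevant ideal S₊ is generated as an ideal by the degree-1 part S₁, and let M be a finitely
generated graded S-module, graded in nonnegative degrees. (The published statement allows modules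
graded in all integer degrees; this row takes modules graded in degrees ≥ 0, which loses nothing for
large n.) Write K'₀(A) for the Grothendieck group of finite A-modules (the free abelian group on the
finite A-modules modulo the relations given by short exact sequences) and [M_n] for the class of the
finite A-module M_n. Then n ↦ [M_n] is a numerical polynomial: there are a_0, …, a_{r-1} in K'₀(A)
with [M_n] = Σ_i C(n, i) · a_i for all large n. (When A → S₀ is bijective K'₀(A) is K'₀(S₀), the
group of the published statement; in general the classes are taken after restricting scalars along A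
→ S₀.) -/
theorem result {A S : Type u} [CommRing A] [CommRing S] [Algebra A S] [IsNoetherianRing S] (𝒜 : ℕ → Submodule A S) [GradedAlgebra 𝒜]
    (h0 : ∀ s ∈ 𝒜 0, s ∈ Set.range (algebraMap A S))
    (h1 : (HomogeneousIdeal.irrelevant 𝒜).toIdeal = Ideal.span (𝒜 1 : Set S))
    (M : Type u) [AddCommGroup M] [Module A M] [Module S M] [IsScalarTower A S M] [Module.Finite S M] (ℳ : ℕ → Submodule A M) [DirectSum.Decomposition ℳ] [SetLike.GradedSMul 𝒜 ℳ] :
    ∃ (r : ℕ) (a : Fin r → KZero.K0sub (fun X : ModuleCat.{u} A => Module.Finite A X)) (N : ℕ), ∀ n : ℕ, N ≤ n →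
      KZero.clSub (fun X : ModuleCat.{u} A => Module.Finite A X) (ModuleCat.of A ↥(ℳ n)) = ∑ i : Fin r, ((n.choose (i : ℕ) : ℕ) : ℤ) • a i := by
  classical
  have hfg : (Ideal.span (𝒜 1 : Set S)).FG := IsNoetherian.noetherian _
  obtain ⟨T, hT1, hT2⟩ := (Submodule.fg_span_iff_fg_span_finset_subset _).mp hfg
  have hT2' : (HomogeneousIdeal.irrelevant 𝒜).toIdeal = Ideal.span (T : Set S) := h1.trans hT2
  have hadj := adjoin_eq_top 𝒜 h0 T hT1 hT2'
  let x : Fin T.card → S := fun i => ((T.equivFin.symm i : T) : S)
  have hx : Set.range x = (T : Set S) := by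
    ext s
    constructor
    · rintro ⟨i, rfl⟩
      exact (T.equivFin.symm i).2
    · intro hs
      exact ⟨T.equivFin ⟨s, hs⟩, by simp [x]⟩
  have hgen : Algebra.adjoin A (Set.range x) = ⊤ := by rw [hx]; exact hadj
  have hx1 : ∀ i, x i ∈ 𝒜 1 := fun i => hT1 (T.equivFin.symm i).2
  have hGr : GrHyp' A S x M ℳ T.card :=
    { smul_mem := by
        intro i n v hv
        have := SetLike.GradedSMul.smul_mem (hx1 i) hv
        rwa [vadd_eq_add, add_comm] at this
      indep := (DirectSum.Decomposition.isInternal ℳ).submodule_iSupIndep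
      top := (DirectSum.Decomposition.isInternal ℳ).submodule_iSup_eq_top
      kill := by
        intro i hi
        exact absurd i.2 (by omega) }
  obtain ⟨-, c, N, hc⟩ := main hgen T.card le_rfl M ℳ hGr
  refine ⟨T.card, fun i => c i, N, fun n hn => ?_⟩
  have := hc n hn
  rw [Finset.sum_range] at this
  exact this

end Groth.Agent.S9662
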