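import Groth.Statements.S9692
import Groth.Agent.S1616
import Groth.Agent.S9693

set_option autoImplicit false
universe u
open CategoryTheory CategoryTheory.Limits AlgebraicGeometry
open Mor

namespace Groth.Agent.S9692

/-- A composition of H-projective morphisms (closed immersions into a projective space P^n over the
target, followed by the projection) is H-projective. -/
theorem result {X Y Z : Scheme.{u}} (f : X ⟶ Y) (g : Y ⟶ Z)
    (hf : RelProj.IsHProjective f) (hg : RelProj.IsHProjective g) :
    RelProj.IsHProjective (f ≫ g) := by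
  obtain ⟨n, i, hi, hif⟩ := hf
  obtain ⟨m, j, hj, hjg⟩ := hg
  obtain ⟨q, hq⟩ := Groth.Agent.S9693.projSpaceOver_isPullback n g
  obtain ⟨σ, hσ, hσb⟩ := Groth.Agent.S1616.result Z n m
  have hcond : q ≫ CohB1.ProjSpaceOver.toBase n Z =
      (CohB1.ProjSpaceOver.toBase n Y ≫ j) ≫ CohB1.ProjSpaceOver.toBase m Z := by
    rw [hq.w, Category.assoc, hjg]
  let c : CohB1.ProjSpaceOver n Y ⟶
      pullback (CohB1.ProjSpaceOver.toBase n Z) (CohB1.ProjSpaceOver.toBase m Z) :=
    pullback.lift q (CohB1.ProjSpaceOver.toBase n Y ≫ j) hcond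
  have hc1 : c ≫ pullback.fst _ _ = q := pullback.lift_fst _ _ _
  have hc2 : c ≫ pullback.snd _ _ = CohB1.ProjSpaceOver.toBase n Y ≫ j := pullback.lift_snd _ _ _
  have hbig : IsPullback (c ≫ pullback.fst _ _) (CohB1.ProjSpaceOver.toBase n Y)
      (CohB1.ProjSpaceOver.toBase n Z) (j ≫ CohB1.ProjSpaceOver.toBase m Z) := by
    rw [hc1, hjg]; exact hq
  have hleft : IsPullback c (CohB1.ProjSpaceOver.toBase n Y)
      (pullback.snd (CohB1.ProjSpaceOver.toBase n Z) (CohB1.ProjSpaceOver.toBase m Z)) j :=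
    IsPullback.of_right hbig hc2 (IsPullback.of_hasPullback _ _)
  have hcc : IsClosedImmersion c :=
    MorphismProperty.of_isPullback (P := @IsClosedImmersion) hleft.flip hj
  refine ⟨n * m + n + m, i ≫ c ≫ σ, inferInstance, ?_⟩
  rw [Category.assoc, Category.assoc, hσb, ← Category.assoc c, hc1, hq.w, ← Category.assoc, hif]

end Groth.Agent.S9692
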