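import Groth.Statements.S9695
import Groth.Agent.R2.H91AmpleEmbS2
import Groth.Agent.R2.LeadRelProjR2
import Groth.Agent.S4380
import Groth.Agent.S4381
import Groth.Agent.S4387
import Groth.Agent.S4417
import Groth.Agent.S9705
import Groth.Agent.Lib.Helper23Restr

set_option autoImplicit false
universe u
open CategoryTheory CategoryTheory.Limits AlgebraicGeometry
open Mor

namespace Groth.Agent.S9695

/-- Suppose f : X ⟶ S is a morphism of finite type and L is an invertible O_X-module. Then L is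
f-relatively ample exactly when S can be covered by open subsets V with the following property: for
every such V there is an integer d ≥ 1 for which the tensor power L^{⊗d}, restricted to f⁻¹(V), is
isomorphic to the pullback of O(1) under some V-immersion of f⁻¹(V) into a projective space P^n_V. -/
theorem result {X S : Scheme.{u}} (f : X ⟶ S)
    [LocallyOfFiniteType f] [QuasiCompact f] (L : X.Modules) (hLinv : PicF.IsInvertible L) :
    RelAmple.IsRelAmple f L ↔
      ∃ (ι : Type u) (V : ι → S.Opens), (⨆ j, V j) = ⊤ ∧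
        ∀ j, ∃ d : ℕ, 0 < d ∧
          RelAmple.IsRelVeryAmplePn (f ∣_ V j) ((CohB1.tensorPow L d).restrict (f ⁻¹ᵁ V j).ι) := by
  constructor
  · intro hL
    refine ⟨S.affineOpens, fun j => j.1, iSup_affineOpens_eq_top S, fun j => ?_⟩
    haveI : IsAffine ((j.1 : S.Opens) : Scheme.{u}) := j.2
    have h1 := (Groth.Agent.S4380.result f L (fun j : S.affineOpens => j.1)
      (iSup_affineOpens_eq_top S)).mp hL j
    have h2 : CohB1.IsAmple (L.restrict (f ⁻¹ᵁ j.1).ι) :=
      (Groth.Agent.S4381.result (f ∣_ j.1) _).mp h1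
    obtain ⟨n₀, hn₀⟩ := Groth.Agent.R2.H91.AmpleEmb.exists_embedding_eventually_over
      (f ∣_ j.1) (L.restrict (f ⁻¹ᵁ j.1).ι) h2
    obtain ⟨N, i, hi, hif, ⟨e⟩⟩ := hn₀ (n₀ + 1) (Nat.le_succ n₀)
    obtain ⟨a⟩ := Groth.Agent.Lib.Helper23.SecTw.nonempty_restrict_tensorPow_iso L hLinv
      (f ⁻¹ᵁ j.1) (n₀ + 1)
    exact ⟨n₀ + 1, Nat.succ_pos n₀, N, i, hi, hif, ⟨a ≪≫ e.symm⟩⟩
  · rintro ⟨ι, V, hV, h⟩
    refine (Groth.Agent.S4380.result f L V hV).mpr (fun j => ?_)
    obtain ⟨d, hd, n, i, hi, hif, ⟨e⟩⟩ := h j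
    have hLr : PicF.IsInvertible (L.restrict (f ⁻¹ᵁ V j).ι) :=
      Groth.Agent.Lib.Helper23.SecTw.isInvertible_restrict L hLinv _
    obtain ⟨a⟩ := Groth.Agent.Lib.Helper23.SecTw.nonempty_restrict_tensorPow_iso L hLinv
      (f ⁻¹ᵁ V j) d
    haveI : IsProper (CohB1.ProjSpaceOver.toBase n ((V j : S.Opens) : Scheme.{u})) :=
      Groth.Agent.S9705.isProper_toBase n _
    have hif' : i ≫ CohB1.ProjSpaceOver.toBase n ((V j : S.Opens) : Scheme.{u}) = f ∣_ V j := hif
    haveI : QuasiCompact (i ≫ CohB1.ProjSpaceOver.toBase n ((V j : S.Opens) : Scheme.{u})) := by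
      rw [hif']; infer_instance
    have hqc : QuasiCompact i :=
      QuasiCompact.of_comp i (CohB1.ProjSpaceOver.toBase n ((V j : S.Opens) : Scheme.{u}))
    have h1 := Groth.Agent.R2.Lead.RelProjR2.r2 n i hi hqc
    rw [hif'] at h1
    have h2 : RelAmple.IsRelAmple (f ∣_ V j) (CohB1.tensorPow (L.restrict (f ⁻¹ᵁ V j).ι) d) :=
      Groth.Agent.S4417.isRelAmple_of_iso _ (e.symm ≪≫ a) h1
    exact (Groth.Agent.S4387.result (f ∣_ V j) _ hLr d hd).mpr h2

end Groth.Agent.S9695
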