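import Groth.Statements.S9703
import Mathlib
import Groth.Agent.S6886

set_option linter.style.haveILetI false

set_option autoImplicit false
universe u
open CategoryTheory CategoryTheory.Limits AlgebraicGeometry
open Mor

namespace Groth.Agent.S9703

open Polynomial TensorProduct

theorem tower {A : Type u} [CommRing A] : ∀ (n : ℕ) (P : Fin n → A[X]) (_ : ∀ i, (P i).Monic),
    ∃ (C : Type u) (_ : CommRing C) (_ : Algebra A C) (x : Fin n → C),
      Module.Finite A C ∧ Module.Free A C ∧ (∀ k, aeval (x k) (P k) = 0) ∧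
      Algebra.adjoin A (Set.range x) = ⊤ ∧
      ∀ (D : Type u) [CommRing D] [Algebra A D] (y : Fin n → D), (∀ k, aeval (y k) (P k) = 0) →
        ∃ φ : C →ₐ[A] D, ∀ k, φ (x k) = y k := by
  intro n
  induction n with
  | zero =>
    intro P hP
    refine ⟨A, inferInstance, inferInstance, Fin.elim0, inferInstance, inferInstance,
      fun k => k.elim0, ?_, ?_⟩
    · exact Subsingleton.elim _ _
    · intro D _ _ y hy
      exact ⟨Algebra.ofId A D, fun k => k.elim0⟩
  | succ n ih =>
    intro P hP
    obtain ⟨C, instC, instAC, x, hfin, hfree, hx, hadj, huniv⟩ :=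
      ih (fun i => P i.castSucc) (fun i => hP _)
    let Q : C[X] := (P (Fin.last n)).map (algebraMap A C)
    have hQ : Q.Monic := (hP _).map _
    refine ⟨AdjoinRoot Q, inferInstance, inferInstance,
      Fin.snoc (fun i => AdjoinRoot.of Q (x i)) (AdjoinRoot.root Q), ?_, ?_, ?_, ?_, ?_⟩
    · haveI : Module.Finite C (AdjoinRoot Q) := hQ.finite_adjoinRoot
      exact Module.Finite.trans C _
    · haveI : Module.Free C (AdjoinRoot Q) := hQ.free_adjoinRoot
      exact Module.Free.trans (R := A) (S := C) (M := AdjoinRoot Q)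
    · intro k
      refine Fin.lastCases ?_ (fun i => ?_) k
      · rw [Fin.snoc_last]
        have : aeval (AdjoinRoot.root Q) Q = 0 := AdjoinRoot.aeval_eq Q ▸ AdjoinRoot.mk_self
        rwa [aeval_map_algebraMap] at this
      · rw [Fin.snoc_castSucc]
        have := congrArg (AdjoinRoot.of Q) (hx i)
        rw [map_zero] at this
        rw [← this]
        change aeval ((algebraMap C (AdjoinRoot Q)) (x i)) _ = _
        rw [aeval_algebraMap_apply]
        rfl
    · set xs : Fin (n + 1) → AdjoinRoot Q :=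
        Fin.snoc (fun i => AdjoinRoot.of Q (x i)) (AdjoinRoot.root Q) with hxs
      have hroot : AdjoinRoot.root Q ∈ Algebra.adjoin A (Set.range xs) :=
        Algebra.subset_adjoin ⟨Fin.last n, by rw [hxs, Fin.snoc_last]⟩
      have hof : ∀ c : C, AdjoinRoot.of Q c ∈ Algebra.adjoin A (Set.range xs) := by
        intro c
        have hc : c ∈ Algebra.adjoin A (Set.range x) := by rw [hadj]; trivial
        induction hc using Algebra.adjoin_induction with
        | mem c hc =>
          obtain ⟨i, rfl⟩ := hc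
          exact Algebra.subset_adjoin ⟨i.castSucc, by rw [hxs, Fin.snoc_castSucc]⟩
        | algebraMap a =>
          have : AdjoinRoot.of Q (algebraMap A C a) = algebraMap A (AdjoinRoot Q) a := rfl
          rw [this]
          exact Subalgebra.algebraMap_mem _ a
        | add c d _ _ hc hd => rw [map_add]; exact add_mem hc hd
        | mul c d _ _ hc hd => rw [map_mul]; exact mul_mem hc hd
      rw [eq_top_iff]
      rintro z -
      induction z using AdjoinRoot.induction_on with
      | ih p =>
        induction p using Polynomial.induction_on' with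
        | add p q hp hq => rw [map_add]; exact add_mem hp hq
        | monomial m c =>
          rw [← Polynomial.C_mul_X_pow_eq_monomial, map_mul, map_pow, AdjoinRoot.mk_C,
            AdjoinRoot.mk_X]
          exact mul_mem (hof c) (pow_mem hroot m)
    · intro D _ _ y hy
      obtain ⟨φ0, hφ0⟩ := huniv D (fun i => y i.castSucc) (fun i => hy _)
      have h0 : Q.eval₂ (φ0 : C →+* D) (y (Fin.last n)) = 0 := by
        have := hy (Fin.last n)
        rw [Polynomial.eval₂_map]
        have h1 : ((φ0 : C →+* D).comp (algebraMap A C)) = algebraMap A D := by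
          ext a; simp
        rw [h1]
        exact this
      refine ⟨AdjoinRoot.liftAlgHom Q φ0 (y (Fin.last n)) h0, fun k => ?_⟩
      refine Fin.lastCases ?_ (fun i => ?_) k
      · rw [Fin.snoc_last, AdjoinRoot.liftAlgHom_root]
      · rw [Fin.snoc_castSucc, AdjoinRoot.liftAlgHom_of, hφ0]

theorem ringLevel (R S : Type u) [CommRing R] [CommRing S] [Algebra R S] [Module.Finite R S] :
    ∃ (R' : Type u) (_ : CommRing R') (_ : Algebra R R') (C : Type u) (_ : CommRing C)
      (_ : Algebra R' C) (ψ : C →ₐ[R'] R' ⊗[R] S) (m : ℕ) (ρ : Fin m → (C →ₐ[R'] R')),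
      Module.Finite R R' ∧ Module.Free R R' ∧ Function.Injective (algebraMap R R') ∧
      Module.Finite R' C ∧ Module.Free R' C ∧ Function.Surjective ψ ∧
      ∀ q : Ideal C, q.IsPrime → ∃ j, RingHom.ker (ρ j) ≤ q := by
  classical
  obtain ⟨R', _, _, hfin, hfree, hinj, n, d, α, φ, hφs, hφ⟩ := Groth.Agent.S6886.result R S
  let P : Fin n → R'[X] := fun i => ∏ j : Fin (d i), (X - C (α i j))
  have hP : ∀ i, (P i).Monic := fun i => monic_prod_of_monic _ _ (fun j _ => monic_X_sub_C _)
  obtain ⟨C', _, _, x, hCfin, hCfree, hx, hadj, huniv⟩ := tower n P hP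
  -- evaluate P i
  have hPeval : ∀ (D : Type u) [CommRing D] [Algebra R' D] (i : Fin n) (y : D),
      aeval y (P i) = ∏ j : Fin (d i), (y - algebraMap R' D (α i j)) := by
    intro D _ _ i y
    simp only [P, map_prod, map_sub, aeval_X, aeval_C]
  -- the map to the tensor product
  have hy : ∀ k, aeval (φ (MvPolynomial.X k)) (P k) = 0 := by
    intro k
    rw [hPeval]
    have := hφ k
    rw [map_prod] at this
    simpa [map_sub, MvPolynomial.algebraMap_eq] using this
  obtain ⟨ψ, hψ⟩ := huniv (R' ⊗[R] S) (fun k => φ (MvPolynomial.X k)) hy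
  have hφψ : φ = ψ.comp (MvPolynomial.aeval x) := by
    apply MvPolynomial.algHom_ext
    intro k
    simp [hψ]
  have hψs : Function.Surjective ψ := by
    intro t
    obtain ⟨p, rfl⟩ := hφs t
    exact ⟨MvPolynomial.aeval x p, by rw [hφψ]; rfl⟩
  -- the sections
  let K := (i : Fin n) → Fin (d i)
  have hρ : ∀ κ : K, ∃ ρ : C' →ₐ[R'] R', ∀ k, ρ (x k) = α k (κ k) := by
    intro κ
    refine huniv R' (fun k => α k (κ k)) (fun k => ?_)
    rw [hPeval]
    exact Finset.prod_eq_zero (Finset.mem_univ (κ k)) (by simp)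
  choose ρ hρx using hρ
  let e : K ≃ Fin (Fintype.card K) := Fintype.equivFin K
  refine ⟨R', inferInstance, inferInstance, C', inferInstance, inferInstance, ψ,
    Fintype.card K, fun j => ρ (e.symm j), hfin, hfree, hinj, hCfin, hCfree, hψs, ?_⟩
  intro q hq
  have hk : ∀ k, ∃ j : Fin (d k), x k - algebraMap R' C' (α k j) ∈ q := by
    intro k
    have h0 : ∏ j : Fin (d k), (x k - algebraMap R' C' (α k j)) ∈ q := by
      rw [← hPeval, hx]; exact zero_mem _
    obtain ⟨j, -, hj⟩ := (Ideal.IsPrime.prod_mem_iff).mp h0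
    exact ⟨j, hj⟩
  choose κ hκ using hk
  refine ⟨e κ, ?_⟩
  simp only [Equiv.symm_apply_apply]
  have key : ∀ c : C', c - algebraMap R' C' (ρ κ c) ∈ q := by
    intro c
    have hc : c ∈ Algebra.adjoin R' (Set.range x) := by rw [hadj]; trivial
    induction hc using Algebra.adjoin_induction with
    | mem c hc =>
      obtain ⟨k, rfl⟩ := hc
      rw [hρx]; exact hκ k
    | algebraMap a => rw [AlgHom.commutes, Algebra.algebraMap_self_apply, sub_self]; exact zero_mem _
    | add c c' _ _ hc hc' =>
      rw [map_add, map_add]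
      have : c + c' - (algebraMap R' C' (ρ κ c) + algebraMap R' C' (ρ κ c')) =
        (c - algebraMap R' C' (ρ κ c)) + (c' - algebraMap R' C' (ρ κ c')) := by ring
      rw [this]; exact add_mem hc hc'
    | mul c c' _ _ hc hc' =>
      rw [map_mul, map_mul]
      have : c * c' - (algebraMap R' C' (ρ κ c) * algebraMap R' C' (ρ κ c')) =
        c * (c' - algebraMap R' C' (ρ κ c')) + (c - algebraMap R' C' (ρ κ c)) *
          algebraMap R' C' (ρ κ c') := by ring
      rw [this]
      exact add_mem (Ideal.mul_mem_left _ _ hc') (Ideal.mul_mem_right _ _ hc)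
  intro c hc
  have := key c
  rw [RingHom.mem_ker] at hc
  have hc' : ρ κ c = 0 := hc
  rwa [hc', map_zero, sub_zero] at this

theorem isFinLocFree_SpecMap (A B : Type u) [CommRing A] [CommRing B] [Algebra A B]
    [Module.Finite A B] [Module.Free A B] :
    Mor2.IsFinLocFree (Spec.map (CommRingCat.ofHom (algebraMap A B))) := by
  refine ⟨(IsFinite.SpecMap_iff _).mpr ?_, Flat.SpecMap_iff.mpr ?_,
    (LocallyOfFinitePresentation.SpecMap_iff _).mpr ?_⟩
  · exact RingHom.finite_algebraMap.mpr inferInstance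
  · exact RingHom.flat_algebraMap_iff.mpr inferInstance
  · haveI : Module.FinitePresentation A B := Module.finitePresentation_of_projective A B
    exact RingHom.finitePresentation_algebraMap.mpr inferInstance

theorem isFinLocFree_comp_iso {X Y Z : Scheme.{u}} (g : X ⟶ Y) (e : Y ⟶ Z) [IsIso e]
    (hg : Mor2.IsFinLocFree g) : Mor2.IsFinLocFree (g ≫ e) := by
  obtain ⟨h1, h2, h3⟩ := hg
  exact ⟨inferInstance, inferInstance, inferInstance⟩


/-- Let f : Y ⟶ X be finite with X affine. Then there exist a surjective finite locally free b : X' ⟶ X,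
a finite locally free c : Z' ⟶ X' and a closed immersion i of Y' = X' ×_X Y into Z' over X' such
that Z' is, as a set, the union of finitely many closed subschemes each mapping isomorphically onto
X'. (The published statement also records that Y' ⟶ Y is surjective finite locally free, which
follows by base change; this row omits it.) -/
theorem result {X Y : Scheme.{u}} [IsAffine X] (f : Y ⟶ X)
    [IsFinite f] :
    ∃ (X' : Scheme.{u}) (b : X' ⟶ X) (Z' : Scheme.{u}) (c : Z' ⟶ X') (i : pullback f b ⟶ Z'),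
      Mor2.IsFinLocFree b ∧ Surjective b ∧ Mor2.IsFinLocFree c ∧ IsClosedImmersion i ∧
      i ≫ c = pullback.snd f b ∧
      ∃ (m : ℕ) (Zj : Fin m → Scheme.{u}) (ιj : ∀ j, Zj j ⟶ Z'),
        (∀ j, IsClosedImmersion (ιj j)) ∧ (∀ j, IsIso (ιj j ≫ c)) ∧
        (⋃ j, Set.range (ιj j).base) = Set.univ := by
  haveI : IsAffine Y := isAffine_of_isAffineHom f
  have hfin : (f.appTop).hom.Finite :=
    ((HasAffineProperty.iff_of_isAffine (P := @IsFinite)).mp ‹IsFinite f›).2
  algebraize [(f.appTop).hom]
  obtain ⟨R', _, _, C, _, _, ψ, m, ρ, hR'fin, hR'free, hinj, hCfin, hCfree, hψ, hcover⟩ :=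
    ringLevel Γ(X, ⊤) Γ(Y, ⊤)
  let b : Spec (.of R') ⟶ X :=
    Spec.map (CommRingCat.ofHom (algebraMap Γ(X, ⊤) R')) ≫ X.isoSpec.inv
  let c : Spec (.of C) ⟶ Spec (.of R') := Spec.map (CommRingCat.ofHom (algebraMap R' C))
  let ψ' : C →+* (Γ(Y, ⊤) ⊗[Γ(X, ⊤)] R') :=
    ((Algebra.TensorProduct.comm Γ(X, ⊤) R' Γ(Y, ⊤)) : R' ⊗[Γ(X, ⊤)] Γ(Y, ⊤) →+* _).comp
      (ψ : C →+* _)
  have hψ' : Function.Surjective ψ' := by
    intro t
    obtain ⟨s, hs⟩ := (Algebra.TensorProduct.comm Γ(X, ⊤) R' Γ(Y, ⊤)).surjective t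
    obtain ⟨c, rfl⟩ := hψ s
    exact ⟨c, hs⟩
  have hψ'c : CommRingCat.ofHom (algebraMap R' C) ≫ CommRingCat.ofHom ψ' =
      CommRingCat.ofHom (RingHomClass.toRingHom
        (Algebra.TensorProduct.includeRight : R' →ₐ[Γ(X, ⊤)] Γ(Y, ⊤) ⊗[Γ(X, ⊤)] R')) := by
    ext r
    simp [ψ', Algebra.TensorProduct.algebraMap_apply]
  have eq₁ : f ≫ X.isoSpec.hom =
      Y.isoSpec.hom ≫ Spec.map (CommRingCat.ofHom (algebraMap Γ(X, ⊤) Γ(Y, ⊤))) :=
    (Scheme.isoSpec_hom_naturality f).symm
  have eq₂ : b ≫ X.isoSpec.hom =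
      𝟙 _ ≫ Spec.map (CommRingCat.ofHom (algebraMap Γ(X, ⊤) R')) := by
    simp [b]
  let i : pullback f b ⟶ Spec (.of C) :=
    pullback.map f b _ _ Y.isoSpec.hom (𝟙 _) X.isoSpec.hom eq₁ eq₂ ≫
      (pullbackSpecIso Γ(X, ⊤) Γ(Y, ⊤) R').hom ≫ Spec.map (CommRingCat.ofHom ψ')
  refine ⟨Spec (.of R'), b, Spec (.of C), c, i, ?_, ?_, ?_, ?_, ?_, ?_⟩
  · exact isFinLocFree_comp_iso _ _ (isFinLocFree_SpecMap _ _)
  · haveI : Surjective (Spec.map (CommRingCat.ofHom (algebraMap Γ(X, ⊤) R'))) := by
      constructor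
      haveI : FaithfulSMul Γ(X, ⊤) R' := (faithfulSMul_iff_algebraMap_injective _ _).mpr hinj
      exact Algebra.IsIntegral.comap_surjective Γ(X, ⊤) R'
    infer_instance
  · exact isFinLocFree_SpecMap _ _
  · haveI : IsClosedImmersion (Spec.map (CommRingCat.ofHom ψ')) :=
      IsClosedImmersion.spec_of_surjective _ hψ'
    infer_instance
  · simp only [i, c, Category.assoc, ← Spec.map_comp, hψ'c]
    rw [pullbackSpecIso_hom_snd]
    simp only [pullback.map, Category.comp_id]
    exact pullback.lift_snd _ _ _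
  · refine ⟨m, fun _ => Spec (.of R'), fun j => Spec.map (CommRingCat.ofHom (ρ j : C →+* R')),
      fun j => ?_, fun j => ?_, ?_⟩
    · refine IsClosedImmersion.spec_of_surjective _ (fun r => ⟨algebraMap R' C r, ?_⟩)
      simp
    · have : CommRingCat.ofHom (algebraMap R' C) ≫ CommRingCat.ofHom (ρ j : C →+* R') = 𝟙 _ := by
        ext r
        simp
      simp only [c, ← Spec.map_comp, this]
      rw [Spec.map_id]
      infer_instance
    · rw [Set.eq_univ_iff_forall]
      intro z
      rw [Set.mem_iUnion]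
      obtain ⟨j, hj⟩ := hcover z.asIdeal z.isPrime
      refine ⟨j, ?_⟩
      have hs : Function.Surjective (ρ j : C →+* R') := fun r => ⟨algebraMap R' C r, by simp⟩
      have := range_comap_of_surjective _ (ρ j : C →+* R') hs
      change z ∈ Set.range (PrimeSpectrum.comap (ρ j : C →+* R'))
      rw [this]
      exact (PrimeSpectrum.mem_zeroLocus (z : PrimeSpectrum C) _).mpr hj

end Groth.Agent.S9703
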