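import Mathlib
import Groth.Statements.S9752
import Groth.Agent.R2.H45ElemCount
import Groth.Agent.S9237
import Groth.Agent.S0506
import Groth.Agent.S0509
import Groth.Agent.R2.H93HenselEtaleSch
import Groth.Agent.R2.H93MinPrimes

set_option autoImplicit false
set_option linter.style.haveILetI false
universe u
open Brnch

namespace Groth.Agent.S9752

open AlgebraicGeometry CategoryTheory Limits in
/-- For a point x of a scheme X, the branch count of X at x (in ℕ∞) is the least upper bound, taken over
all elementary étale neighbourhoods (U, u) → (X, x) (g : U ⟶ X étale with g u = x and trivial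
residue field extension), of how many irreducible components of U contain u. -/
theorem result (X : Scheme.{u}) (x : X) :
    Brnch.numBranchesAt X x = ⨆ (U : Scheme.{u}) (g : U ⟶ X) (u : U) (_ : Hens2.IsEtaleNbhd g u x),
      {Z : Set ↑U | Z ∈ irreducibleComponents ↑U ∧ u ∈ Z}.encard := by
  classical
  obtain ⟨R, _, _, _, _, hR⟩ := Groth.Agent.S0506.result (X.presheaf.stalk x)
  have h1 : Brnch.numBranchesAt X x = (minimalPrimes R).encard :=
    (Groth.Agent.S9237.result (X.presheaf.stalk x) R).symm
  rw [h1]
  apply le_antisymm
  · rw [← ENat.forall_natCast_le_iff_le]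
    intro m hm
    obtain ⟨V, j, v, hj, hle⟩ := Groth.Agent.R2.H45.ElemCount.exists_elem_le_encard x R m hm
    rw [← Groth.Agent.R2.H93.MinPrimes.encard_irreducibleComponents_through V v] at hle
    exact hle.trans (le_iSup_of_le V (le_iSup_of_le j (le_iSup_of_le v
      (le_iSup_of_le hj le_rfl))))
  · refine iSup_le fun V => iSup_le fun j => iSup_le fun v => iSup_le fun h => ?_
    obtain ⟨hj, hjv, hres⟩ := h
    subst hjv
    rw [Groth.Agent.R2.H93.MinPrimes.encard_irreducibleComponents_through V v]
    obtain ⟨f', hf', hloc, hH⟩ :=
      Groth.Agent.R2.H93.HenselEtale.isHenselization_extend_stalkMap j v hres R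
    letI : Algebra ↥(V.presheaf.stalk v) R := f'.toAlgebra
    haveI := hloc
    haveI := hH
    haveI : Module.FaithfullyFlat ↥(V.presheaf.stalk v) R := Groth.Agent.S0509.result _ R
    exact Groth.Agent.R2.H93.MinPrimes.encard_minimalPrimes_le_of_faithfullyFlat _ R

end Groth.Agent.S9752
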