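import Mathlib
import Groth.Statements.S9753
import Groth.Agent.R2.H45ShMinCount
import Groth.Agent.S9238
import Groth.Agent.R2.H93MinPrimes

set_option autoImplicit false
set_option linter.style.haveILetI false
universe u
open Brnch

namespace Groth.Agent.S9753

open AlgebraicGeometry CategoryTheory Limits in
/-- Let X be a scheme and x ∈ X. Over all étale neighbourhoods (U, u) of (X, x) (g : U ⟶ X étale with g
u = x), take the count (in ℕ∞) of irreducible components of U containing u; the supremum of these
counts is the geometric branch number of X at x. -/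
theorem result (X : Scheme.{u}) (x : X) :
    Brnch.numGeomBranchesAt X x = ⨆ (U : Scheme.{u}) (g : U ⟶ X) (u : U) (_ : Etale g ∧ g u = x),
      {Z : Set ↑U | Z ∈ irreducibleComponents ↑U ∧ u ∈ Z}.encard := by
  obtain ⟨Ash, _, _, _, _, hAsh⟩ :=
    Groth.Agent.Lib.Helper3.Branch.exists_isStrictHenselization (X.presheaf.stalk x)
  have h1 : Brnch.numGeomBranchesAt X x = (minimalPrimes Ash).encard :=
    (Groth.Agent.S9238.result (X.presheaf.stalk x) Ash).symm
  rw [h1]
  apply le_antisymm
  · rw [← ENat.forall_natCast_le_iff_le]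
    intro m hm
    obtain ⟨V, j, v, hj, hjv, hle⟩ :=
      Groth.Agent.R2.H45.ShMinCount.exists_etale_le_encard_sh x Ash m hm
    rw [← Groth.Agent.R2.H93.MinPrimes.encard_irreducibleComponents_through V v] at hle
    exact hle.trans (le_iSup_of_le V (le_iSup_of_le j (le_iSup_of_le v
      (le_iSup_of_le ⟨hj, hjv⟩ le_rfl))))
  · refine iSup_le fun V => iSup_le fun j => iSup_le fun v => iSup_le fun h => ?_
    obtain ⟨hj, hjv⟩ := h
    subst hjv
    rw [Groth.Agent.R2.H93.MinPrimes.encard_irreducibleComponents_through V v]
    exact Groth.Agent.R2.H45.ShMinCount.encard_minimalPrimes_stalk_le_sh j v Ash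

end Groth.Agent.S9753
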