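import Mathlib
import Groth.Statements.S9754
import Groth.Agent.R2.H45FibBranch2

set_option autoImplicit false
set_option linter.style.haveILetI false
universe u
open Brnch

namespace Groth.Agent.S9754

open AlgebraicGeometry CategoryTheory Limits in
/-- For a morphism f : X ⟶ S and a point x of X over s = f x, the geometric branch count of the fibre
X_s at x equals the supremum, over étale neighbourhoods (U, u) of (X, x), of how many irreducible
components of U_s (the fibre of U ⟶ X ⟶ S over s) contain the point of U_s lying over u. -/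
theorem result {X S : Scheme.{u}} (f : X ⟶ S) (x : X) :
    Brnch.numGeomBranchesAt (f.fiber (f x)) (f.asFiber x) = ⨆ (U : Scheme.{u}) (g : U ⟶ X) (u : U) (_ : Etale g ∧ g u = x),
      {Z : Set ↑((g ≫ f).fiber (f x)) | Z ∈ irreducibleComponents ↑((g ≫ f).fiber (f x)) ∧
        ∃ u' ∈ Z, (g ≫ f).fiberι (f x) u' = u}.encard := by
  open Groth.Agent.R2.H45.FibBranch in
  obtain ⟨Ash, _, _, _, _, hAsh⟩ :=
    Groth.Agent.Lib.Helper3.Branch.exists_isStrictHenselization (X.presheaf.stalk x)
  rw [numGeomBranchesAt_fiber_eq f x Ash]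
  apply le_antisymm
  · rw [← ENat.forall_natCast_le_iff_le]
    intro m hm
    obtain ⟨U, g, u, hg, hgu, hle⟩ := exists_etale_le_encard_fib_sh f x Ash m hm
    subst hgu
    rw [← encard_irreducibleComponents_fiber_through (g ≫ f) u (f (g u)) rfl] at hle
    exact hle.trans (le_iSup_of_le U (le_iSup_of_le g (le_iSup_of_le u
      (le_iSup_of_le ⟨hg, rfl⟩ le_rfl))))
  · refine iSup_le fun U => iSup_le fun g => iSup_le fun u => iSup_le fun h => ?_
    obtain ⟨hg, hgu⟩ := h
    subst hgu
    rw [encard_irreducibleComponents_fiber_through (g ≫ f) u (f (g u)) rfl]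
    exact encard_fib_le_sh g f u Ash

end Groth.Agent.S9754
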