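import Mathlib
import Groth.Statements.S9782
import Groth.Agent.S9753
import Groth.Agent.Lib.Helper4BranchCount
import Groth.Agent.R2.H93MinPrimes
import Groth.Agent.R2.H93ElemNbhd4

set_option autoImplicit false
set_option linter.style.haveILetI false
universe u
open Brnch

namespace Groth.Agent.S9782

open AlgebraicGeometry CategoryTheory Limits in
/-- The local ring of X at x is geometrically unibranch exactly when, for each étale morphism g : U ⟶ X
and each point u over x, the point u lies on a single irreducible component of U. -/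
theorem result (X : Scheme.{u}) (x : X) :
    CAlg2.IsGeomUnibranch ↑(X.presheaf.stalk x) ↔ ∀ (U : Scheme.{u}) (g : U ⟶ X) (u : U), Etale g → g u = x →
      {Z : Set ↑U | Z ∈ irreducibleComponents ↑U ∧ u ∈ Z}.encard = 1 := by
  rw [← Groth.Agent.Lib.Helper4.Unibranch.numGeomBranches_eq_one_iff]
  have h0 : Brnch.numGeomBranches ↑(X.presheaf.stalk x) = Brnch.numGeomBranchesAt X x := rfl
  rw [h0, Groth.Agent.S9753.result X x]
  have hone : ∀ (U : Scheme.{u}) (u : U),
      1 ≤ {Z : Set ↑U | Z ∈ irreducibleComponents ↑U ∧ u ∈ Z}.encard := by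
    intro U u
    rw [Groth.Agent.R2.H93.MinPrimes.encard_irreducibleComponents_through U u]
    exact Groth.Agent.R2.H93.ElemNbhd.one_le_encard_minimalPrimes _
  constructor
  · intro h U g u hg hgu
    apply le_antisymm _ (hone U u)
    rw [← h]
    exact le_iSup_of_le U (le_iSup_of_le g (le_iSup_of_le u (le_iSup_of_le ⟨hg, hgu⟩ le_rfl)))
  · intro h
    apply le_antisymm
    · refine iSup_le fun U => iSup_le fun g => iSup_le fun u => iSup_le fun hh => ?_
      exact (h U g u hh.1 hh.2).le
    · refine le_trans (hone X x) ?_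
      exact le_iSup_of_le X (le_iSup_of_le (𝟙 X) (le_iSup_of_le x
        (le_iSup_of_le ⟨inferInstance, rfl⟩ le_rfl)))

end Groth.Agent.S9782
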