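import Groth.Statements.S9808
import Groth.Agent.R2.H43StalkGen
import Groth.Agent.Lib.Helper28CMFib1

set_option autoImplicit false
universe u
open CategoryTheory AlgebraicGeometry TopologicalSpace
open Props

namespace Groth.Agent.S9808

/-- A locally Noetherian scheme is Cohen-Macaulay (all local rings Cohen-Macaulay) as soon as its local
rings at closed points are Cohen-Macaulay, and conversely. -/
theorem result (X : Scheme.{u}) [IsLocallyNoetherian X] :
    (∀ x : X, LocCoh.IsCohenMacaulayLocalRing (X.presheaf.stalk x)) ↔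
      ∀ x : X, IsClosed ({x} : Set X) → LocCoh.IsCohenMacaulayLocalRing (X.presheaf.stalk x) := by
  refine ⟨fun h x _ => h x, fun h x => ?_⟩
  obtain ⟨x₀, hx, hcl⟩ := Groth.Agent.R2.H43.StalkGen.exists_specializes_isClosed X x
  obtain ⟨p, hp, ⟨e⟩⟩ := Groth.Agent.R2.H43.StalkGen.exists_ringEquiv_localization_atPrime X hx
  haveI := h x₀ hcl
  have h1 : LocCoh.IsCohenMacaulayRing (X.presheaf.stalk x₀) :=
    Groth.Agent.Lib.Helper28.CMFib.isCohenMacaulayRing_of_isCohenMacaulayLocalRing _
  haveI h2 : LocCoh.IsCohenMacaulayLocalRing (Localization.AtPrime p) :=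
    h1.isCohenMacaulayLocalRing_localization p
  exact Groth.Agent.Lib.Helper28.isCohenMacaulayLocalRing_of_ringEquiv e

end Groth.Agent.S9808
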