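import Mathlib
import Groth.Statements.S9809
import Groth.Agent.R2.H45PuncConn
import Groth.Agent.Lib.Helper14IrrComp
import Groth.Agent.Lib.Helper3EtGUSch
import Groth.Agent.R2.H93HenselChart
import Groth.Agent.Lib.Helper3GeomUnibranch

set_option autoImplicit false
set_option linter.style.haveILetI false
universe u
open CategoryTheory AlgebraicGeometry TopologicalSpace
open Props

namespace Groth.Agent.S9809

/-- A Noetherian scheme is geometrically unibranch (all local rings geometrically unibranch) if and only
if at every point which is not the generic point of an irreducible component, the punctured spectrum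
of a strict henselization of the local ring is connected. -/
theorem result
    (X : Scheme.{u}) [IsNoetherian X] :
    (∀ x : X, CAlg2.IsGeomUnibranch (X.presheaf.stalk x)) ↔
      ∀ (x : X), closure ({x} : Set X) ∉ irreducibleComponents X →
        ∀ (Ash : Type u) [CommRing Ash] [IsLocalRing Ash] [Algebra (X.presheaf.stalk x) Ash]
          [IsLocalHom (algebraMap (X.presheaf.stalk x) Ash)]
          [Hensel.IsStrictHenselization (X.presheaf.stalk x) Ash],
          ConnectedSpace ↥({IsLocalRing.closedPoint Ash}ᶜ : Set (PrimeSpectrum Ash)) := by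
  classical
  constructor
  · intro hGU x hx Ash _ _ _ _ _
    have hU : CAlgX.HasUniqueMinimalPrime Ash := Groth.Agent.S2135.result.mp (hGU x)
    apply Groth.Agent.R2.H45.PuncConn.connectedSpace_punctured_of_unique Ash hU
    rw [Groth.Agent.Lib.Helper14.closure_mem_irreducibleComponents_iff] at hx
    have hex : ∃ y : X, y ⤳ x ∧ y ≠ x := by
      by_contra hcon
      apply hx
      intro y hy
      by_contra hne
      exact hcon ⟨y, hy, hne⟩
    obtain ⟨y, hyx, hne⟩ := hex
    obtain ⟨z, hz⟩ := Groth.Agent.Lib.Helper14.exists_fromSpecStalk_eq X x y hyx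
    haveI : Module.FaithfullyFlat ↥(X.presheaf.stalk x) Ash :=
      Groth.Agent.Lib.Helper3.HzP.sh_faithfullyFlat _ _
    obtain ⟨Q, hQ⟩ := PrimeSpectrum.comap_surjective_of_faithfullyFlat
      (A := ↥(X.presheaf.stalk x)) (B := Ash) z
    refine ⟨Q, fun hQc => hne ?_⟩
    rw [← hz, ← hQ, hQc]
    have h1 : PrimeSpectrum.comap (algebraMap ↥(X.presheaf.stalk x) Ash)
        (IsLocalRing.closedPoint Ash) = IsLocalRing.closedPoint ↥(X.presheaf.stalk x) :=
      IsLocalRing.comap_closedPoint _
    rw [h1]
    exact Scheme.fromSpecStalk_closedPoint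
  · intro H x
    obtain ⟨W, hW, hxW, -⟩ := exists_isAffineOpen_mem_and_subset (x := x) (U := ⊤) trivial
    haveI : IsNoetherianRing Γ(X, W) := IsLocallyNoetherian.component_noetherian ⟨W, hW⟩
    apply Groth.Agent.Lib.Helper3.EtGUSch.isGeomUnibranch_stalk_of_localization hW x hxW
    apply Groth.Agent.R2.H45.PuncConn.gu_of_punctured_connected Γ(X, W)
    intro p _ hpmin S _ _ _ _ hS
    let P : PrimeSpectrum Γ(X, W) := ⟨p, inferInstance⟩
    have hy : hW.fromSpec P ∈ W := Groth.Agent.R2.H93.HenselChart.fromSpec_mem hW P
    have hP : hW.primeIdealOf ⟨hW.fromSpec P, hy⟩ = P :=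
      Groth.Agent.R2.H93.HenselChart.primeIdealOf_fromSpec hW P hy
    -- `y` is not a generic point
    have hgen : closure ({hW.fromSpec P} : Set X) ∉ irreducibleComponents X := by
      rw [Groth.Agent.Lib.Helper14.closure_mem_irreducibleComponents_iff]
      intro hall
      obtain ⟨p', hp', hp'le⟩ := Ideal.exists_minimalPrimes_le (I := (⊥ : Ideal Γ(X, W)))
        (J := p) bot_le
      haveI : p'.IsPrime := hp'.1.1
      let P' : PrimeSpectrum Γ(X, W) := ⟨p', inferInstance⟩
      have hsp : P' ⤳ P := (PrimeSpectrum.le_iff_specializes P' P).mp hp'le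
      have hsp' : hW.fromSpec P' ⤳ hW.fromSpec P := hsp.map hW.fromSpec.continuous
      have heq := hall _ hsp'
      have hPP : P' = P := hW.fromSpec.isOpenEmbedding.injective heq
      apply hpmin
      have : p' = p := congrArg PrimeSpectrum.asIdeal hPP
      rw [← this]
      exact hp'
    -- transport `S` to the stalk
    letI algst := X.presheaf.algebra_section_stalk ⟨hW.fromSpec P, hy⟩
    haveI hloc0 := hW.isLocalization_stalk ⟨hW.fromSpec P, hy⟩
    haveI hloc : IsLocalization.AtPrime ↥(X.presheaf.stalk (hW.fromSpec P)) p := by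
      have key : ∀ (q : PrimeSpectrum Γ(X, W)), q = P →
          IsLocalization.AtPrime ↥(X.presheaf.stalk (hW.fromSpec P)) q.asIdeal →
          IsLocalization.AtPrime ↥(X.presheaf.stalk (hW.fromSpec P)) P.asIdeal := by
        rintro q rfl h
        exact h
      exact key _ hP hloc0
    let e : Localization.AtPrime p ≃ₐ[Γ(X, W)] ↥(X.presheaf.stalk (hW.fromSpec P)) :=
      IsLocalization.algEquiv p.primeCompl _ _
    letI algS : Algebra ↥(X.presheaf.stalk (hW.fromSpec P)) S :=
      ((algebraMap (Localization.AtPrime p) S).comp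
        e.symm.toRingEquiv.toRingHom).toAlgebra
    haveI : IsLocalHom (algebraMap ↥(X.presheaf.stalk (hW.fromSpec P)) S) := by
      haveI : IsLocalHom e.symm.toRingEquiv.toRingHom :=
        ⟨fun a ha => by
          have := ha.map e.toRingEquiv.toRingHom
          simpa using this⟩
      exact RingHom.isLocalHom_comp _ _
    haveI : Hensel.IsStrictHenselization ↥(X.presheaf.stalk (hW.fromSpec P)) S :=
      Groth.Agent.Lib.Helper3.GeomUnibranch.isStrictHenselization_of_ringEquiv
        (R := Localization.AtPrime p) e.toRingEquiv (fun r => by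
          show algebraMap (Localization.AtPrime p) S (e.symm.toRingEquiv (e.toRingEquiv r)) = _
          simp)
    exact H (hW.fromSpec P) hgen S

end Groth.Agent.S9809
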