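import Groth.Statements.S9823
import Groth.Agent.R2.H32BlowSep

set_option autoImplicit false
universe u
open CategoryTheory CategoryTheory.Limits AlgebraicGeometry TopologicalSpace Opposite
open Props

namespace Groth.Agent.S9823

/-- In a quasi-compact quasi-separated scheme, an open subset is quasi-compact exactly when its
complement is the support of some quasi-coherent ideal sheaf of finite type. -/
theorem result (X : Scheme.{u}) [CompactSpace X] [QuasiSeparatedSpace X]
    (U : X.Opens) :
    IsCompact (U : Set X) ↔
      ∃ I : X.IdealSheafData, (∀ V : X.affineOpens, (I.ideal V).FG) ∧ (I.support : Set X) = (U : Set X)ᶜ := by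
  classical
  constructor
  · intro hU
    obtain ⟨J, hJ, hsupp⟩ := Groth.Agent.R2.H32.BlowSep.exists_ft_support_eq U hU
    exact ⟨J, hJ, hsupp⟩
  · rintro ⟨I, hI, hsupp⟩
    obtain ⟨s, hsfin, hs⟩ := (isCompact_and_isOpen_iff_finite_and_eq_biUnion_affineOpens
      (X := X) (U := Set.univ)).mp ⟨isCompact_univ, isOpen_univ⟩
    -- on each affine open, `U` is a finite union of basic opens
    have key : ∀ V : X.affineOpens, IsCompact ((U : Set X) ∩ (V.1 : Set X)) := by
      intro V
      obtain ⟨t, ht⟩ := hI V
      have heq : (U : Set X) ∩ (V.1 : Set X) = ⋃ f ∈ (t : Set Γ(X, V.1)), (X.basicOpen f : Set X) := by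
        ext x
        simp only [Set.mem_inter_iff, Set.mem_iUnion, exists_prop]
        constructor
        · rintro ⟨hxU, hxV⟩
          have h1 : x ∉ (I.support : Set X) := by
            rw [hsupp]; exact fun h => h hxU
          have h2 : x ∉ X.zeroLocus (U := V.1) (I.ideal V) := fun h =>
            h1 ((Scheme.IdealSheafData.mem_support_iff_of_mem (I := I) (U := V) hxV).mpr h)
          rw [← ht, Scheme.zeroLocus_span, Scheme.mem_zeroLocus_iff] at h2
          push Not at h2
          exact h2
        · rintro ⟨f, hf, hxf⟩
          have hxV : x ∈ V.1 := X.basicOpen_le f hxf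
          refine ⟨?_, hxV⟩
          by_contra hxU
          have h1 : x ∈ (I.support : Set X) := by rw [hsupp]; exact hxU
          have h2 := (Scheme.IdealSheafData.mem_support_iff_of_mem (I := I) (U := V) hxV).mp h1
          rw [← ht, Scheme.zeroLocus_span, Scheme.mem_zeroLocus_iff] at h2
          exact h2 f hf hxf
      rw [heq]
      exact t.finite_toSet.isCompact_biUnion fun f _ => (V.2.basicOpen f).isCompact
    have hU' : (U : Set X) = ⋃ V ∈ s, ((U : Set X) ∩ (V.1 : Set X)) := by
      rw [← Set.inter_iUnion₂, ← hs, Set.inter_univ]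
    rw [hU']
    exact hsfin.isCompact_biUnion fun V _ => key V

end Groth.Agent.S9823
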