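import Groth.Statements.S9860
-- import your own Groth.Agent.* helpers here
import Mathlib

set_option autoImplicit false
open CategoryTheory CategoryTheory.Limits AlgebraicGeometry Opposite
universe u
open Desc

namespace Groth.Agent.S9860

/-- Consider morphisms of schemes f i : X i ⟶ X indexed by i. Suppose that, whenever Y is an affine
scheme and g : Y ⟶ X is a morphism, the sieve on Y obtained by pulling back along g (generated by
the base changes X i ×_X Y ⟶ Y) is effective epimorphic. Then the pulled-back sieve along every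
morphism Y ⟶ X of schemes is effective epimorphic; in other words, within schemes the family forms a
universal effective epimorphism. -/
theorem result {ι : Type u} {X : Scheme.{u}} {Xi : ι → Scheme.{u}} (f : ∀ i, Xi i ⟶ X)
    (h : ∀ (Y : Scheme.{u}) (g : Y ⟶ X), IsAffine Y → ((Sieve.ofArrows Xi f).pullback g).EffectiveEpimorphic)
    {Y : Scheme.{u}} (g : Y ⟶ X) : ((Sieve.ofArrows Xi f).pullback g).EffectiveEpimorphic := by
  set R := Sieve.ofArrows Xi f with hRdef
  rw [Sieve.EffectiveEpimorphic.iff_forall_isSheafFor_yoneda]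
  intro W
  have haff : ∀ (A : Scheme.{u}) (a : A ⟶ X), IsAffine A →
      (R.pullback a).arrows.IsSheafFor (yoneda.obj W) := fun A a hA =>
    (Sieve.EffectiveEpimorphic.iff_forall_isSheafFor_yoneda _).1 (h A a hA) W
  intro x hx
  have hsh : ∀ (A : Scheme.{u}) (a : A ⟶ Y), IsAffine A →
      ((R.pullback g).pullback a).arrows.IsSheafFor (yoneda.obj W) := by
    intro A a hA
    rw [← Sieve.pullback_comp]
    exact haff A (a ≫ g) hA
  have hxcongr : ∀ {T : Scheme.{u}} (f₁ f₂ : T ⟶ Y) (h₁ : (R.pullback g).arrows f₁)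
      (h₂ : (R.pullback g).arrows f₂), f₁ = f₂ → x f₁ h₁ = x f₂ h₂ := by
    intro T f₁ f₂ h₁ h₂ e
    subst e
    rfl
  let ψ : ∀ (A : Scheme.{u}) (a : A ⟶ Y) (_ : IsAffine A), A ⟶ W := fun A a hA =>
    (hsh A a hA).amalgamate (x.pullback a) (hx.pullback a)
  have hψ : ∀ (A : Scheme.{u}) (a : A ⟶ Y) (hA : IsAffine A) {T : Scheme.{u}} (k : T ⟶ A)
      (hk : (R.pullback g).arrows (k ≫ a)), k ≫ ψ A a hA = x (k ≫ a) hk := fun A a hA T k hk =>
    (hsh A a hA).valid_glue (hx.pullback a) k hk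
  have hψuniq : ∀ (A : Scheme.{u}) (a : A ⟶ Y) (hA : IsAffine A) (t : A ⟶ W),
      (∀ {T : Scheme.{u}} (k : T ⟶ A) (hk : (R.pullback g).arrows (k ≫ a)), k ≫ t = x (k ≫ a) hk) →
      t = ψ A a hA := by
    intro A a hA t ht
    refine (hsh A a hA).isSeparatedFor.ext ?_
    intro T k hk
    change k ≫ t = k ≫ ψ A a hA
    rw [ht k hk, hψ A a hA k hk]
  have hψcongr : ∀ (A : Scheme.{u}) (a a' : A ⟶ Y) (hA : IsAffine A), a = a' →
      ψ A a hA = ψ A a' hA := by
    intro A a a' hA e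
    subst e
    rfl
  have hnat : ∀ (A A' : Scheme.{u}) (a : A ⟶ Y) (hA : IsAffine A) (hA' : IsAffine A')
      (k : A' ⟶ A), k ≫ ψ A a hA = ψ A' (k ≫ a) hA' := by
    intro A A' a hA hA' k
    refine hψuniq A' (k ≫ a) hA' _ (fun {T} k' hk' => ?_)
    have hk'' : (R.pullback g).arrows ((k' ≫ k) ≫ a) := by
      rw [Category.assoc]; exact hk'
    rw [← Category.assoc, hψ A a hA (k' ≫ k) hk'']
    exact hxcongr _ _ _ _ (Category.assoc _ _ _)
  let 𝒰 := Y.affineCover
  let Ψ : Y ⟶ W := 𝒰.glueMorphisms (fun i => ψ (𝒰.X i) (𝒰.f i) inferInstance) (by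
    intro i j
    refine Scheme.Cover.hom_ext (pullback (𝒰.f i) (𝒰.f j)).affineCover _ _ (fun l => ?_)
    have hl : IsAffine ((pullback (𝒰.f i) (𝒰.f j)).affineCover.X l) := inferInstance
    have e1 := hnat _ _ (𝒰.f i) inferInstance hl
      ((pullback (𝒰.f i) (𝒰.f j)).affineCover.f l ≫ pullback.fst _ _)
    have e2 := hnat _ _ (𝒰.f j) inferInstance hl
      ((pullback (𝒰.f i) (𝒰.f j)).affineCover.f l ≫ pullback.snd _ _)
    rw [← Category.assoc, ← Category.assoc, e1, e2]
    refine hψcongr _ _ _ hl ?_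
    rw [Category.assoc, Category.assoc, pullback.condition])
  have hΨ : ∀ i, 𝒰.f i ≫ Ψ = ψ (𝒰.X i) (𝒰.f i) inferInstance := fun i =>
    Scheme.Cover.ι_glueMorphisms _ _ _ i
  refine ⟨Ψ, ?_, ?_⟩
  · intro T k hk
    change k ≫ Ψ = x k hk
    refine Scheme.Cover.hom_ext (𝒰.pullback₁ k) _ _ (fun i => ?_)
    refine Scheme.Cover.hom_ext (pullback k (𝒰.f i)).affineCover _ _ (fun l => ?_)
    change (pullback k (𝒰.f i)).affineCover.f l ≫ pullback.fst k (𝒰.f i) ≫ k ≫ Ψ =
      (pullback k (𝒰.f i)).affineCover.f l ≫ pullback.fst k (𝒰.f i) ≫ x k hk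
    set c := (pullback k (𝒰.f i)).affineCover.f l with hc
    have hmem : (R.pullback g).arrows ((c ≫ pullback.snd k (𝒰.f i)) ≫ 𝒰.f i) := by
      rw [Category.assoc, ← pullback.condition, ← Category.assoc]
      exact (R.pullback g).downward_closed hk _
    have e1 : c ≫ pullback.fst k (𝒰.f i) ≫ k ≫ Ψ =
        (c ≫ pullback.snd k (𝒰.f i)) ≫ ψ (𝒰.X i) (𝒰.f i) inferInstance := by
      rw [← hΨ i, pullback.condition_assoc, Category.assoc]
    rw [e1, hψ (𝒰.X i) (𝒰.f i) inferInstance _ hmem]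
    have e2 : (c ≫ pullback.snd k (𝒰.f i)) ≫ 𝒰.f i = (c ≫ pullback.fst k (𝒰.f i)) ≫ k := by
      rw [Category.assoc, Category.assoc, pullback.condition]
    rw [hxcongr _ _ hmem ((R.pullback g).downward_closed hk _) e2, ← Category.assoc]
    exact (Presieve.FamilyOfElements.comp_of_compatible _ hx hk _).symm ▸ rfl
  · intro Ψ' hΨ'
    refine Scheme.Cover.hom_ext 𝒰 _ _ (fun i => ?_)
    rw [hΨ i]
    refine hψuniq (𝒰.X i) (𝒰.f i) inferInstance _ (fun {T} k hk => ?_)
    rw [← Category.assoc]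
    exact hΨ' (k ≫ 𝒰.f i) hk

end Groth.Agent.S9860
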