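import Groth.Statements.S9873
import Groth.Agent.R2.H59EtQuot
import Groth.Agent.R2.H59AffDesc

set_option autoImplicit false
universe u
open CategoryTheory CategoryTheory.Limits AlgebraicGeometry
open AlgSp

namespace Groth.Agent.S9873

/-- A sheaf receiving a representable étale surjective map from a scheme is an algebraic
space. -/
theorem isAlgSpace_of_chart {S : Scheme.{u}} {F : AlgSp.Sp S} {U : Over S}
    (q : (AlgSp.yon S).obj U ⟶ F) (hqe : AlgSp.RepWith @Etale q)
    (hqs : AlgSp.RepWith @Surjective q) : AlgSp.IsAlgSpace F := by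
  haveI := Groth.Agent.R2.H59.AffDesc.isLocallySurjective_of_repWith_etale_surjective q hqe hqs
  obtain ⟨R, s, fst, sq⟩ := hqe.1 q
  obtain ⟨t, rfl⟩ := (AlgSp.yon S).map_surjective fst
  have hs : Etale s.left := hqe.2 q _ s sq
  have ht : Etale t.left := hqe.2 q _ t sq.flip
  exact (Groth.Agent.R2.H59.EtQuot.isAlgSpace_of_kernelPair s t q sq hs ht).1

/-- Let `X` be an algebraic space over `S`, `F` an fppf sheaf of sets over `S`, and `f : X ⟶ F` a map of
sheaves which is representable by schemes, etale and surjective (in the representable sense). Then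
`F` is an algebraic space over `S`; in particular an fppf sheaf receiving a representable etale
surjective map from a scheme is an algebraic space. -/
theorem result (S : Scheme.{u}) (X : AlgSp.Space S) (F : AlgSp.Sp S)
    (f : X.obj ⟶ F) (he : AlgSp.RepWith @Etale f) (hs : AlgSp.RepWith @Surjective f) :
    AlgSp.IsAlgSpace F := by
  obtain ⟨U, p, hpe, hps⟩ := X.property.atlas
  exact isAlgSpace_of_chart (p ≫ f) ((AlgSp.RepWith @Etale).comp_mem p f hpe he)
    ((AlgSp.RepWith @Surjective).comp_mem p f hps hs)

end Groth.Agent.S9873
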