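import Groth.Statements.S9893
import Groth.Agent.R2.H43Slice

set_option autoImplicit false
universe u
open CategoryTheory CategoryTheory.Limits AlgebraicGeometry
open AlgSp

namespace Groth.Agent.S9893

open Groth.Agent.S9900 Groth.Agent.S9874 Groth.Agent.R2.H43.OverBC Groth.Agent.R2.H43.Slice

/-- Let `g : S ⟶ S'` be a morphism of schemes and `F'` an fppf sheaf of sets on schemes over `S'`. Then
the restriction of `F'` to schemes over `S` (a scheme over `S` being viewed over `S'` through `g`)
is an algebraic space over `S` if and only if `h_S × F'` is an algebraic space over `S'`, where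
`h_S` is the sheaf represented by `S` as a scheme over `S'`. -/
theorem result {S S' : Scheme.{u}} (g : S ⟶ S') (F' : AlgSp.Sp S') :
    AlgSp.IsAlgSpace ((Scheme.fppfTopology.overMapPullback (Type (u + 1)) g).obj F') ↔
      AlgSp.IsAlgSpace ((AlgSp.yon S').obj (Over.mk g) ⨯ F') := by
  constructor
  · intro hΦ
    refine ⟨representable_diag_of_isEqLocus
      (fun {T'} a' b' => exists_isEqLocus_prod hΦ.diag a' b'), ?_⟩
    obtain ⟨U, p, hpe, hps⟩ := hΦ.atlas
    exact ⟨(Over.map g).obj U, γ p, (repWith_γ_iff _ p).2 hpe, (repWith_γ_iff _ p).2 hps⟩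
  · intro hH
    refine ⟨representable_diag_of_isEqLocus (fun {T} a b => ?_), ?_⟩
    · obtain ⟨E', e', he'⟩ := exists_isEqLocus hH.diag (γ a) (γ b)
      exact ⟨_, _, isEqLocus_of_γ a b e' he'⟩
    · obtain ⟨U', p', hpe, hps⟩ := hH.atlas
      obtain ⟨U, i, p, hp⟩ := exists_γ p'
      have : IsIso ((AlgSp.yon S').map i.hom) := Functor.map_isIso _ _
      refine ⟨U, p, (repWith_γ_iff _ p).1 ?_, (repWith_γ_iff _ p).1 ?_⟩
      · rw [hp]
        exact MorphismProperty.RespectsIso.precomp _ _ _ hpe
      · rw [hp]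
        exact MorphismProperty.RespectsIso.precomp _ _ _ hps

end Groth.Agent.S9893
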