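import Groth.Statements.S9935
import Groth.Agent.R2.H83SchClosure

set_option autoImplicit false
universe u
open CategoryTheory CategoryTheory.Limits AlgebraicGeometry
open AlgSp

namespace Groth.Agent.S9935

/-- A quasi-compact immersion of algebraic spaces factors as an open immersion followed by a closed
immersion. -/
theorem result {S : Scheme.{u}} {Z X : AlgSp.Space S}
    (i : Z ⟶ X) (hi : AlgSp.RepWith @IsImmersion i.hom) (hq : AlgSp.IsQuasiCompactMor i.hom) :
    ∃ (Zbar : AlgSp.Space S) (j : Z ⟶ Zbar) (c : Zbar ⟶ X), j ≫ c = i ∧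
      AlgSp.RepWith @IsOpenImmersion j.hom ∧ AlgSp.RepWith @IsClosedImmersion c.hom := by
  obtain ⟨U, p, hpe, hps⟩ := X.property.atlas
  have hqc := Groth.Agent.S9912.repWith_quasiCompact_of_isQuasiCompactMor i.hom hi.rep hq
  have hinv := Groth.Agent.R2.H83.SchClosure.invariant_chartIdeal hi.rep hqc hpe (p := p)
  obtain ⟨j, hj⟩ := Groth.Agent.R2.H83.SchClosure.exists_factor hi.rep (i := i.hom) (p := p)
  refine ⟨⟨Groth.Agent.R2.H48.ClosedSub.obj p
      (Groth.Agent.R2.H83.SchClosure.chartIdeal i.hom hi.rep p),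
    Groth.Agent.R2.H48.ClosedSub.isAlgSpace_obj X.property hinv hpe hps⟩,
    ObjectProperty.homMk j, ObjectProperty.homMk (Groth.Agent.R2.H48.ClosedSub.incl p _),
    ?_, ?_, ?_⟩
  · apply ObjectProperty.hom_ext
    exact hj
  · exact Groth.Agent.R2.H83.SchClosure.repWith_isOpenImmersion_factor hi.rep hi hqc hpe hps j hj
  · exact Groth.Agent.R2.H48.ClosedSub.repWith_incl hinv hpe hps

end Groth.Agent.S9935
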