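import Groth.Statements.S9945
import Mathlib
import Groth.Agent.S10185
import Groth.Agent.S9908
import Groth.Agent.S9884
import Groth.Agent.S9885
import Groth.Agent.R2.H44FppfLocal

set_option autoImplicit false
set_option linter.style.haveILetI false
universe u
open CategoryTheory CategoryTheory.Limits AlgebraicGeometry
open AlgSp

namespace Groth.Agent.S9945

lemma lqf_of_etale {X Y : Scheme.{u}} (f : X ⟶ Y) [Etale f] : LocallyQuasiFinite f := by
  constructor
  intro U hU V hV e
  have h1 : (f.appLE U V e).hom.FiniteType :=
    HasRingHomProperty.appLE (P := @LocallyOfFiniteType) f inferInstance ⟨U, hU⟩ ⟨V, hV⟩ e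
  have h2 : (f.appLE U V e).hom.FormallyUnramified :=
    HasRingHomProperty.appLE (P := @FormallyUnramified) f inferInstance ⟨U, hU⟩ ⟨V, hV⟩ e
  algebraize [(f.appLE U V e).hom]
  rw [← RingHom.algebraMap_toAlgebra (f.appLE U V e).hom, RingHom.quasiFinite_algebraMap]
  infer_instance

/-- a quasi-compact scheme etale over the spectrum of an Artinian ring is affine. -/
lemma isAffine_of_etale_artinian {V : Scheme.{u}} [CompactSpace V] (A : Type u) [CommRing A]
    [IsArtinianRing A] (f : V ⟶ Spec (CommRingCat.of A)) [Etale f] : IsAffine V := by
  haveI : LocallyQuasiFinite f := lqf_of_etale f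
  haveI : DiscreteTopology (Spec (CommRingCat.of A)) :=
    inferInstanceAs (DiscreteTopology (PrimeSpectrum A))
  haveI : DiscreteTopology V := by
    rw [discreteTopology_iff_isOpen_singleton]
    intro v
    have h1 : _root_.IsDiscrete (f ⁻¹' {f v}) := f.isDiscrete_preimage_singleton (f v)
    have h2 : IsOpen (f ⁻¹' {f v}) := (isOpen_discrete {f v}).preimage f.continuous
    rw [isDiscrete_iff_discreteTopology] at h1
    have h3 : IsOpen ({⟨v, rfl⟩} : Set (f ⁻¹' {f v})) := isOpen_discrete _
    have := h2.isOpenMap_subtype_val _ h3
    simpa using this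
  haveI : Finite V := finite_of_compact_of_discrete
  infer_instance

/-- Over a base scheme with quasi-separated underlying space, every morphism from the spectrum of an
Artinian ring to an algebraic space quasi-separated over S is affine. (The published statement
assumes X quasi-separated in the absolute sense over any base; this row assumes the base
quasi-separated and X quasi-separated over it, which on such bases is the same condition.) -/
theorem result {S : Scheme.{u}} [QuasiSeparatedSpace ↥S] (X : AlgSp.Space S)
    (hX : AlgSp.IsQuasiSeparatedSp X.obj) (A : Type u) [CommRing A] [IsArtinianRing A]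
    (str : Spec (CommRingCat.of A) ⟶ S) (a : (AlgSp.yon S).obj (Over.mk str) ⟶ X.obj) :
    AlgSp.IsAffineMor a := by
  have ha : AlgSp.Representable a := X.property.representable_from_yon a
  obtain ⟨U, p, hpe, hps⟩ := X.property.atlas
  have h1 : AlgSp.RepWith @Flat p := ⟨hpe.1, fun U V g fst snd sq => by
    haveI : Etale snd.left := hpe.2 g fst snd sq
    exact (inferInstance : Flat snd.left)⟩
  have h2 : AlgSp.RepWith @LocallyOfFinitePresentation p := ⟨hpe.1, fun U V g fst snd sq => by
    haveI : Etale snd.left := hpe.2 g fst snd sq
    exact (inferInstance : LocallyOfFinitePresentation snd.left)⟩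
  haveI : Sheaf.IsLocallySurjective p := Groth.Agent.S9885.result S _ _ p h1 h2 hps
  -- the base change of `a` along the atlas
  obtain ⟨V, w, pr, sq⟩ := ha p
  obtain ⟨pr₀, rfl⟩ := (AlgSp.yon S).map_surjective pr
  haveI : Etale pr₀.left := hpe.2 a _ pr₀ sq.flip
  -- `w` is affine
  have hw : IsAffineHom w.left := by
    rw [IsZariskiLocalAtTarget.iff_of_openCover (P := @IsAffineHom) U.left.affineCover]
    intro i
    have hpb : IsPullback (pullback.snd w.left (U.left.affineCover.f i))
        (pullback.fst w.left (U.left.affineCover.f i)) (U.left.affineCover.f i) w.left :=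
      (IsPullback.of_hasPullback _ _).flip
    have sq' := Groth.Agent.S9908.isPullback_yon_of_isPullback sq _ _ _ hpb
    rw [← Functor.map_comp] at sq'
    haveI : CompactSpace ↥(Over.mk str).left := by
      show CompactSpace ↥(Spec (CommRingCat.of A)); infer_instance
    haveI : CompactSpace ↥(Over.mk (U.left.affineCover.f i ≫ U.hom)).left := by
      show CompactSpace ↥(U.left.affineCover.X i); infer_instance
    have hc := Groth.Agent.S10185.result X hX _ _ _ a _ _ _ sq'
    haveI : CompactSpace ↥(pullback w.left (U.left.affineCover.f i)) := hc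
    haveI : Etale (pullback.fst w.left (U.left.affineCover.f i) ≫ pr₀.left) := inferInstance
    have hAff : IsAffine (pullback w.left (U.left.affineCover.f i)) :=
      isAffine_of_etale_artinian A (pullback.fst w.left (U.left.affineCover.f i) ≫ pr₀.left)
    haveI : IsAffine ((Precoverage.ZeroHypercover.pullback₁ w.left U.left.affineCover).X i) := hAff
    haveI : IsAffine (U.left.affineCover.X i) := inferInstance
    exact isAffineHom_of_isAffine _
  have hrep : AlgSp.RepWith @IsAffineHom a := by
    haveI := Groth.Agent.R2.H44.FppfLocal.isAffineHom.{u}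
    refine Groth.Agent.S9884.repWith_of_locallySurjective a ha p _ _ sq @IsAffineHom ?_
    exact (AlgSp.repWith_yon_map_iff _ w).2 hw
  intro Z hZ g
  obtain ⟨W, i, fst, sqW⟩ := ha g
  refine ⟨W, i, fst, sqW, ?_⟩
  haveI : IsAffineHom i.left := hrep.2 g fst i sqW
  haveI : IsAffine Z.left := hZ
  exact isAffine_of_isAffineHom i.left

end Groth.Agent.S9945
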