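-- Statement S9955 (AlgSp.locP_lqf_iff_discrete_fibres).
-- (=>) base change to the field point is locally quasi-finite, an atlas of the fibre is a discrete scheme, and
-- the atlas is open and surjective on points.  (<=) for a chart h : U -> V and v in V, the scheme W' = U x_Y
-- Spec k(v) is etale over the fibre P = X x_Y Spec k(v); closedness of points of W' is constant along the
-- classes of W' -> |P| (both projections of W' x_P W' are etale, and closedness of points passes through
-- locally quasi-finite morphisms of Jacobson schemes in both directions); every class is open (|P| discrete)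
-- and contains a closed point (Jacobson), so every point of W' lies in an open set of closed points, which is
-- discrete (Artinian affine opens).  The scheme-theoretic fibre of h over v injects into W', hence is discrete.
import Groth.Statements.S9955
import Mathlib
import Groth.Agent.S10175
import Groth.Agent.S10176
import Groth.Agent.S9906
import Groth.Agent.S9874
import Groth.Agent.Lib.Helper12LocPCases

set_option autoImplicit false
set_option linter.style.haveILetI false
universe u
open CategoryTheory CategoryTheory.Limits AlgebraicGeometry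
open AlgSp

namespace Groth.Agent.S9955

section Sch

lemma lqf_of_etale {X Y : Scheme.{u}} (f : X ⟶ Y) [Etale f] : LocallyQuasiFinite f := by
  constructor
  intro U hU V hV e
  have h1 : (f.appLE U V e).hom.FiniteType :=
    HasRingHomProperty.appLE (P := @LocallyOfFiniteType) f inferInstance ⟨U, hU⟩ ⟨V, hV⟩ e
  have h2 : (f.appLE U V e).hom.FormallyUnramified :=
    HasRingHomProperty.appLE (P := @FormallyUnramified) f inferInstance ⟨U, hU⟩ ⟨V, hV⟩ e
  algebraize [(f.appLE U V e).hom]
  rw [← RingHom.algebraMap_toAlgebra (f.appLE U V e).hom, RingHom.quasiFinite_algebraMap]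
  infer_instance

/-- a point of a closed discrete subset is a closed point. -/
lemma isClosed_singleton_of_isDiscrete {α : Type*} [TopologicalSpace α] {D : Set α}
    (hD : IsClosed D) (hd : _root_.IsDiscrete D) {r : α} (hr : r ∈ D) : IsClosed ({r} : Set α) := by
  haveI := isDiscrete_iff_discreteTopology.mp hd
  have h1 : IsClosed ({⟨r, hr⟩} : Set D) := isClosed_discrete _
  have h2 := hD.isClosedMap_subtype_val _ h1
  simpa using h2

/-- along a locally quasi-finite morphism locally of finite type to a Jacobson scheme, a point is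
closed iff its image is. -/
lemma isClosed_singleton_iff_of_lqf {R W : Scheme.{u}} (t : R ⟶ W) [LocallyQuasiFinite t]
    [LocallyOfFiniteType t] [JacobsonSpace W] (r : R) :
    IsClosed ({r} : Set R) ↔ IsClosed ({t r} : Set W) := by
  constructor
  · intro h
    exact t.closePoints_subset_preimage_closedPoints h
  · intro h
    exact isClosed_singleton_of_isDiscrete (h.preimage t.continuous)
      (t.isDiscrete_preimage_singleton (t r)) rfl

/-- an open set of closed points in a locally Noetherian scheme is discrete. -/
lemma isOpen_singleton_of_open_closedPoints {W : Scheme.{u}} [IsLocallyNoetherian W] (N : Set W)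
    (hN : IsOpen N) (hc : ∀ x ∈ N, IsClosed ({x} : Set W)) {w : W} (hw : w ∈ N) :
    IsOpen ({w} : Set W) := by
  obtain ⟨_, ⟨(A : W.Opens), hA, rfl⟩, hwA, hAN⟩ :=
    W.isBasis_affineOpens.exists_subset_of_mem_open hw hN
  haveI : IsNoetherianRing Γ(W, A) := IsLocallyNoetherian.component_noetherian ⟨A, hA⟩
  have hrange : Set.range hA.fromSpec = A := hA.range_fromSpec
  have hmax : ∀ I : Ideal Γ(W, A), I.IsPrime → I.IsMaximal := fun I hI => by
    let z : Spec Γ(W, A) := ⟨I, hI⟩
    have hz : hA.fromSpec z ∈ N := hAN (hrange ▸ Set.mem_range_self z)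
    have h1 := (hc _ hz).preimage hA.fromSpec.continuous
    have h2 : hA.fromSpec ⁻¹' {hA.fromSpec z} = {z} := by
      ext y
      simp only [Set.mem_preimage, Set.mem_singleton_iff]
      exact hA.fromSpec.isOpenEmbedding.injective.eq_iff
    rw [h2] at h1
    exact (PrimeSpectrum.isClosed_singleton_iff_isMaximal z).1 h1
  haveI : Ring.KrullDimLE 0 Γ(W, A) := Ring.krullDimLE_zero_iff.mpr hmax
  haveI : IsArtinianRing Γ(W, A) := isArtinianRing_iff_isNoetherianRing_krullDimLE_zero.mpr
    ⟨inferInstance, inferInstance⟩
  haveI : DiscreteTopology (Spec Γ(W, A)) := inferInstanceAs (DiscreteTopology (PrimeSpectrum _))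
  obtain ⟨z₀, rfl⟩ : w ∈ Set.range hA.fromSpec := hrange ▸ hwA
  have h2 := hA.fromSpec.isOpenEmbedding.isOpenMap _ (isOpen_discrete ({z₀} : Set (Spec Γ(W, A))))
  rwa [Set.image_singleton] at h2

end Sch

variable {S : Scheme.{u}}

/-- every point of `h_U` comes from a point of `U`. -/
lemma exists_ofScheme (U : Over S) (p : Points ((yon S).obj U)) :
    ∃ u : U.left, Points.ofScheme U u = p :=
  ⟨Points.toScheme U p, Points.ofScheme_toScheme U p⟩

/-- a point of a scheme chart over a pair of points. -/
lemma exists_point_chart {F : Sp S} {A B C : Over S} {f : (yon S).obj A ⟶ F}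
    {g : (yon S).obj B ⟶ F} {p : C ⟶ A} {q : C ⟶ B}
    (sq : IsPullback ((yon S).map p) ((yon S).map q) f g) (a : A.left) (b : B.left)
    (hab : Points.ofPt f a = Points.ofPt g b) : ∃ c : C.left, p.left c = a ∧ q.left c = b := by
  obtain ⟨z, hz1, hz2⟩ := Groth.Agent.S10175.exists_point_of_isPullback sq
    (Points.ofScheme A a) (Points.ofScheme B b)
    (by rw [← Points.ofPt_eq_map_ofScheme, ← Points.ofPt_eq_map_ofScheme, hab])
  obtain ⟨c, rfl⟩ := exists_ofScheme C z
  refine ⟨c, ?_, ?_⟩
  · have := congrArg (Points.toScheme A) hz1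
    rwa [← Points.ofPt_eq_map_ofScheme, Points.toScheme_ofPt, Points.toScheme_ofScheme] at this
  · have := congrArg (Points.toScheme B) hz2
    rwa [← Points.ofPt_eq_map_ofScheme, Points.toScheme_ofPt, Points.toScheme_ofScheme] at this

/-- a Jacobson locally Noetherian scheme with a representable étale map to a sheaf with discrete
space of points is discrete. -/
lemma discrete_of_etale_chart {P : Sp S} [DiscreteTopology (Points P)] {W : Over S}
    (q : (yon S).obj W ⟶ P) (hq : RepWith @Etale q) [JacobsonSpace W.left]
    [IsLocallyNoetherian W.left] : DiscreteTopology W.left := by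
  obtain ⟨R, t, s', sq⟩ := hq.1 q
  obtain ⟨s, rfl⟩ := (yon S).map_surjective s'
  haveI : Etale t.left := hq.2 _ _ t sq
  haveI : Etale s.left := hq.2 _ _ s sq.flip
  haveI := lqf_of_etale t.left
  haveI := lqf_of_etale s.left
  rw [discreteTopology_iff_isOpen_singleton]
  intro w
  have hN : IsOpen (Points.ofPt q ⁻¹' {Points.ofPt q w}) :=
    (isOpen_discrete _).preimage (Points.continuous_ofPt q)
  obtain ⟨w', hw'N, hw'c⟩ := nonempty_inter_closedPoints
    (Z := Points.ofPt q ⁻¹' {Points.ofPt q w}) ⟨w, rfl⟩ hN.isLocallyClosed
  refine isOpen_singleton_of_open_closedPoints _ hN (fun x hx => ?_) (rfl : w ∈ _)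
  obtain ⟨r, hr1, hr2⟩ := exists_point_chart sq x w' (hx.trans hw'N.symm)
  rw [← hr1, ← isClosed_singleton_iff_of_lqf s.left r, isClosed_singleton_iff_of_lqf t.left r, hr2]
  exact hw'c

open Groth.Agent.Lib.Helper12.LocPCases in
/-- A morphism locally of finite type is locally quasi-finite if and only if all its fibres over
field-valued points have discrete spaces of points. -/
theorem result {S : Scheme.{u}} {X Y : AlgSp.Space S} (f : X ⟶ Y)
    (hf : AlgSp.LocP @LocallyOfFiniteType f.hom) :
    AlgSp.LocP ((@LocallyQuasiFinite : MorphismProperty Scheme.{u}) ⊓ @LocallyOfFiniteType) f.hom ↔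
      ∀ (k : Type u) [Field k] (str : Spec (CommRingCat.of k) ⟶ S) (y : (AlgSp.yon S).obj (Over.mk str) ⟶ Y.obj)
        (P : AlgSp.Sp S) (fst : P ⟶ X.obj) (snd : P ⟶ (AlgSp.yon S).obj (Over.mk str)),
        IsPullback fst snd f.hom y → DiscreteTopology (AlgSp.Points P) := by
  constructor
  · intro hlqf k _ str y P fst snd sq
    have hP : IsAlgSpace P := Groth.Agent.S9874.isAlgSpace_of_isPullback Y.property.diag X.property
      (IsAlgSpace.yon_obj _) sq
    have hsnd : LocP ((@LocallyQuasiFinite : MorphismProperty Scheme.{u}) ⊓ @LocallyOfFiniteType)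
        snd := good_lqf.locP_baseChange X.property Y.property (IsAlgSpace.yon_obj _) sq hlqf
    obtain ⟨W, aP, hae, has⟩ := hP.atlas
    obtain ⟨w₀, hw₀⟩ := (yon S).map_surjective (aP ≫ snd)
    have h1 := hsnd aP (𝟙 _) w₀ hae (repWith_id _ _) (by rw [hw₀, Category.comp_id])
    haveI : LocallyQuasiFinite w₀.left := h1.1
    haveI : DiscreteTopology W.left := by
      have hd := w₀.left.isDiscrete_preimage_singleton (IsLocalRing.closedPoint k)
      refine isDiscrete_univ_iff.mp (hd.mono fun z _ => ?_)
      exact Subsingleton.elim (α := PrimeSpectrum k) _ _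
    rw [discreteTopology_iff_isOpen_singleton]
    intro p
    obtain ⟨pw, hpw⟩ := Groth.Agent.S9906.surjective_map_of_repWith aP has p
    obtain ⟨w, rfl⟩ := exists_ofScheme W pw
    rw [← Points.ofPt_eq_map_ofScheme] at hpw
    have := Groth.Agent.S10176.isOpenMap_ofPt aP hae {w} (isOpen_discrete _)
    rwa [Set.image_singleton, hpw] at this
  · intro H U V a b h ha hb hcomm
    haveI hlft : LocallyOfFiniteType h.left := hf a b h ha hb hcomm
    refine ⟨?_, hlft⟩
    rw [locallyQuasiFinite_iff_isDiscrete_preimage_singleton]
    intro v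
    -- the residue field point of `v`
    let K : Over S := Over.mk (V.left.fromSpecResidueField v ≫ V.hom)
    let iv : K ⟶ V := Over.homMk (V.left.fromSpecResidueField v) rfl
    obtain ⟨y, hy⟩ : ∃ y : (yon S).obj K ⟶ Y.obj, y = (yon S).map iv ≫ b := ⟨_, rfl⟩
    haveI hdisc : DiscreteTopology (Points (pullback f.hom y)) :=
      H (V.left.residueField v) (V.left.fromSpecResidueField v ≫ V.hom) y (pullback f.hom y)
        (pullback.fst _ _) (pullback.snd _ _) (IsPullback.of_hasPullback _ _)
    -- the scheme `U ×_Y K` and its étale map to the fibre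
    obtain ⟨W', w2, w1', sqW⟩ :=
      Functor.relativelyRepresentable.of_diag Y.property.diag (a ≫ f.hom) y
    obtain ⟨w1, rfl⟩ := (yon S).map_surjective w1'
    have hw : ((yon S).map w1 ≫ a) ≫ f.hom = (yon S).map w2 ≫ y := by
      rw [Category.assoc]; exact sqW.w
    obtain ⟨q, hq⟩ : ∃ q : (yon S).obj W' ⟶ pullback f.hom y,
        q = pullback.lift _ _ hw := ⟨_, rfl⟩
    have hq1 : q ≫ pullback.fst f.hom y = (yon S).map w1 ≫ a := by rw [hq, pullback.lift_fst]
    have hq2 : q ≫ pullback.snd f.hom y = (yon S).map w2 := by rw [hq, pullback.lift_snd]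
    have left : IsPullback q ((yon S).map w1) (pullback.fst f.hom y) a := by
      refine IsPullback.of_right ?_ hq1 (IsPullback.of_hasPullback f.hom y).flip
      rw [hq2]
      exact sqW.flip
    have hqe : RepWith @Etale q :=
      MorphismProperty.of_isPullback (P := RepWith @Etale) left.flip ha
    have hsnd : LocP @LocallyOfFiniteType (pullback.snd f.hom y) :=
      good_lft.locP_baseChange X.property Y.property (IsAlgSpace.yon_obj K)
        (IsPullback.of_hasPullback f.hom y) hf
    haveI : LocallyOfFiniteType w2.left :=
      hsnd q (𝟙 _) w2 hqe (repWith_id _ K) (by rw [hq2, Category.comp_id])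
    haveI : JacobsonSpace K.left :=
      inferInstanceAs (JacobsonSpace (Spec (V.left.residueField v)))
    haveI : IsLocallyNoetherian K.left :=
      inferInstanceAs (IsLocallyNoetherian (Spec (V.left.residueField v)))
    haveI : JacobsonSpace W'.left := LocallyOfFiniteType.jacobsonSpace w2.left
    haveI : IsLocallyNoetherian W'.left := LocallyOfFiniteType.isLocallyNoetherian w2.left
    haveI : DiscreteTopology W'.left := discrete_of_etale_chart q hqe
    -- the scheme-theoretic fibre of `h` over `v` maps injectively to `W'`
    let T : Over S := Over.mk (h.left.fiberι v ≫ U.hom)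
    let t1 : T ⟶ U := Over.homMk (h.left.fiberι v) rfl
    let t2 : T ⟶ K := Over.homMk (h.left.fiberToSpecResidueField v) (by
      change h.left.fiberToSpecResidueField v ≫ V.left.fromSpecResidueField v ≫ V.hom =
        h.left.fiberι v ≫ U.hom
      rw [← Scheme.Hom.fiber_fac_assoc, Over.w h])
    have e12 : t1 ≫ h = t2 ≫ iv := by
      apply Over.OverMorphism.ext
      change h.left.fiberι v ≫ h.left =
        h.left.fiberToSpecResidueField v ≫ V.left.fromSpecResidueField v
      exact Scheme.Hom.fiber_fac h.left v
    have hT : (yon S).map t1 ≫ a ≫ f.hom = (yon S).map t2 ≫ y := by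
      rw [hcomm, hy, ← Category.assoc, ← Category.assoc, ← Functor.map_comp, ← Functor.map_comp,
        e12]
    obtain ⟨φ, hφ⟩ := (yon S).map_surjective (sqW.lift _ _ hT)
    have hφ1 : φ ≫ w1 = t1 := by
      apply (yon S).map_injective
      rw [Functor.map_comp, hφ, sqW.lift_fst]
    have hinj : Function.Injective φ.left := by
      intro x x' hxx
      apply (h.left.fiberι v).isEmbedding.injective
      have e : (h.left.fiberι v) = φ.left ≫ w1.left := by
        rw [← Over.comp_left, hφ1]; rfl
      rw [e, Scheme.Hom.comp_apply, Scheme.Hom.comp_apply, hxx]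
    haveI : DiscreteTopology (h.left.fiber v) :=
      DiscreteTopology.of_continuous_injective φ.left.continuous hinj
    haveI : DiscreteTopology (h.left ⁻¹' {v}) :=
      (h.left.fiberHomeo v).symm.isEmbedding.discreteTopology
    exact isDiscrete_iff_discreteTopology.mpr inferInstance

end Groth.Agent.S9955
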