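import Groth.Statements.S9974
import Groth.Agent.R2.H95QcChartEx
import Groth.Agent.S9874

set_option autoImplicit false
universe u
open CategoryTheory CategoryTheory.Limits AlgebraicGeometry
open AlgSp

set_option backward.isDefEq.respectTransparency false
set_option linter.style.haveILetI false

namespace Groth.Agent.S9974

open Groth.Agent.R2.H48.ClosedSub Groth.Agent.R2.H48.SchImage Groth.Agent.R2.H95.SpEpi
  Groth.Agent.R2.H95.QcCh

/-- flat base change of the scheme theoretic image of a quasi-compact morphism (sheaf level). -/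
theorem isSchImage_flat_base_change {S : Scheme.{u}} {X Y V Z VX ZX : AlgSp.Sp S}
    (hX : AlgSp.IsAlgSpace X) (hY : AlgSp.IsAlgSpace Y) (hZ : AlgSp.IsAlgSpace Z)
    (f : X ⟶ Y) (hf : AlgSp.LocP @Flat f) (g : V ⟶ Y) (hg : AlgSp.IsQuasiCompactMor g)
    (i : Z ⟶ Y) (hi : AlgSp.IsSchImage g i) (g₁ : VX ⟶ V) (gX : VX ⟶ X)
    (sqV : IsPullback g₁ gX g f) (i₁ : ZX ⟶ Z) (iX : ZX ⟶ X) (sqZ : IsPullback i₁ iX i f) :
    AlgSp.IsSchImage gX iX := by
  obtain ⟨c⟩ := exists_qcChart hY g hg
  obtain ⟨z, sqz⟩ := c.exists_isPullback_of_isSchImage hY i hZ hi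
  refine ⟨MorphismProperty.of_isPullback (P := AlgSp.RepWith @IsClosedImmersion) sqZ hi.1, ?_, ?_⟩
  · obtain ⟨g', hg'⟩ := hi.2.1
    refine ⟨sqZ.lift (g₁ ≫ g') gX (by rw [Category.assoc, hg', sqV.w]), sqZ.lift_snd _ _ _⟩
  · intro Z' i' hZ' hi' hf''
    obtain ⟨f'', hf''⟩ := hf''
    haveI : Mono i' := Groth.Agent.S9928.mono_of_repWith @IsClosedImmersion (fun X Y g hg => by
      haveI : IsClosedImmersion g := hg
      infer_instance) i' hi'
    -- an atlas of `X ×_Y U`
    have hX₀ : AlgSp.IsAlgSpace (pullback f c.p) :=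
      Groth.Agent.S9874.isAlgSpace_of_isPullback hY.diag hX (AlgSp.IsAlgSpace.yon_obj c.U)
        (IsPullback.of_hasPullback f c.p)
    obtain ⟨T, e, hee, hes⟩ := hX₀.atlas
    have hfst_e : AlgSp.RepWith @Etale (pullback.fst f c.p) :=
      MorphismProperty.of_isPullback (P := AlgSp.RepWith @Etale)
        (IsPullback.of_hasPullback f c.p).flip c.hpe
    have hfst_s : AlgSp.RepWith @Surjective (pullback.fst f c.p) :=
      MorphismProperty.of_isPullback (P := AlgSp.RepWith @Surjective)
        (IsPullback.of_hasPullback f c.p).flip c.hps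
    let cT : (AlgSp.yon S).obj T ⟶ X := e ≫ pullback.fst f c.p
    have hcTe : AlgSp.RepWith @Etale cT := by
      have := AlgSp.repWith_isMultiplicative (S := S) @Etale
      exact (AlgSp.RepWith @Etale).comp_mem _ _ hee hfst_e
    have hcTs : AlgSp.RepWith @Surjective cT := by
      have := AlgSp.repWith_isMultiplicative (S := S) @Surjective
      exact (AlgSp.RepWith @Surjective).comp_mem _ _ hes hfst_s
    let t : T ⟶ c.U := (AlgSp.yon S).preimage (e ≫ pullback.snd f c.p)
    have ht : (AlgSp.yon S).map t = e ≫ pullback.snd f c.p := (AlgSp.yon S).map_preimage _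
    have hcT : cT ≫ f = (AlgSp.yon S).map t ≫ c.p := by
      rw [ht, Category.assoc, Category.assoc, pullback.condition]
    haveI hflat : Flat t.left := hf cT c.p t hcTe c.hpe hcT
    -- the ideal of `Z'` on the chart `T`
    obtain ⟨J', hJ'⟩ := exists_cutsOut cT hi'
    -- flat base change
    haveI := c.qc
    have sqW := IsPullback.of_hasPullback c.h t
    have FBC : (pullback.snd c.h t).left.ker = c.ideal.comap t.left :=
      Groth.Agent.R2.H83.SchImgBC.ker_eq_comap_of_isPullback (sqW.map (Over.forget S))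
    have hJ'le : J' ≤ c.ideal.comap t.left := by
      rw [← FBC, hJ' (pullback c.h t) (pullback.snd c.h t)]
      have hw : ((AlgSp.yon S).map (pullback.fst c.h t) ≫ c.a) ≫ g =
          ((AlgSp.yon S).map (pullback.snd c.h t) ≫ cT) ≫ f := by
        rw [Category.assoc, c.comm, ← Functor.map_comp_assoc, pullback.condition,
          Functor.map_comp, Category.assoc, Category.assoc, hcT]
      refine ⟨sqV.lift _ _ hw ≫ f'', ?_⟩
      rw [Category.assoc, hf'', sqV.lift_snd]
    -- `Z_X` factors through the closed subspace cut out by `J'`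
    obtain ⟨k₁, hk₁⟩ : ∃ k₁ : ZX ⟶ obj cT J', k₁ ≫ incl cT J' = iX := by
      refine exists_lift cT iX (fun T₁ x T₂ c' b hcb => ?_)
      refine hJ'le.trans ?_
      rw [← Scheme.IdealSheafData.le_map_iff_comap_le, ← Scheme.Hom.ker_comp]
      have hw : ((AlgSp.yon S).map c' ≫ x ≫ i₁) ≫ i = (AlgSp.yon S).map (b ≫ t) ≫ c.p := by
        rw [Category.assoc, Category.assoc, sqZ.w, Functor.map_comp, Category.assoc, ← hcT,
          ← Category.assoc ((AlgSp.yon S).map b), ← hcb, Category.assoc, Category.assoc]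
      exact (le_ker_iff_fac_yon c.ideal (b ≫ t)).2 ⟨sqz.lift _ _ hw, sqz.lift_snd _ _ _⟩
    obtain ⟨k₂, hk₂⟩ := exists_factor_of_le hJ'.invariant hcTe hcTs hJ' le_rfl
    exact ⟨k₁ ≫ k₂, by rw [Category.assoc, hk₂, hk₁]⟩

/-- For a flat morphism of algebraic spaces, the scheme theoretic image of a quasi-compact morphism
pulls back to the scheme theoretic image of the pulled-back morphism. -/
theorem result {S : Scheme.{u}} {X Y V Z VX ZX : AlgSp.Space S} (f : X ⟶ Y)
    (hf : AlgSp.LocP @Flat f.hom) (g : V ⟶ Y) (hg : AlgSp.IsQuasiCompactMor g.hom) (i : Z ⟶ Y)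
    (hZ : AlgSp.IsSchImage g.hom i.hom) (g₁ : VX ⟶ V) (gX : VX ⟶ X) (sqV : IsPullback g₁.hom gX.hom g.hom f.hom)
    (i₁ : ZX ⟶ Z) (iX : ZX ⟶ X) (sqZ : IsPullback i₁.hom iX.hom i.hom f.hom) :
    AlgSp.IsSchImage gX.hom iX.hom := by
  exact isSchImage_flat_base_change X.property Y.property Z.property f.hom hf g.hom hg i.hom hZ
    g₁.hom gX.hom sqV i₁.hom iX.hom sqZ

end Groth.Agent.S9974
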