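import Groth.Statements.S9967
import Groth.Agent.S9974
import Groth.Agent.S9912
import Groth.Agent.Lib.Helper12SrcLocal

set_option autoImplicit false
universe u
open CategoryTheory CategoryTheory.Limits AlgebraicGeometry
open AlgSp

set_option backward.isDefEq.respectTransparency false
set_option linter.style.haveILetI false

namespace Groth.Agent.S9967

variable {S : Scheme.{u}}

/-- weakening the property in `RepWith`. -/
lemma repWith_mono {P Q : MorphismProperty Scheme.{u}} (hPQ : ∀ {A B : Scheme.{u}} (m : A ⟶ B), P m → Q m)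
    {F G : AlgSp.Sp S} {f : F ⟶ G} (h : AlgSp.RepWith P f) : AlgSp.RepWith Q f :=
  ⟨h.1, fun _ _ g fst snd sq => hPQ _ (h.2 g fst snd sq)⟩

/-- a section of a separated morphism, viewed as a map into the base change, is a closed immersion:
for `s ≫ f = j`, the induced `V ⟶ X ×_Y V` is a base change of the diagonal of `f`. -/
lemma repWith_isClosedImmersion_lift {X Y V : AlgSp.Sp S} (f : X ⟶ Y) (j : V ⟶ Y)
    (hf : AlgSp.IsSeparatedMor f) (s : V ⟶ X) (hs : s ≫ f = j) :
    AlgSp.RepWith @IsClosedImmersion
      (pullback.lift s (𝟙 V) (by rw [hs, Category.id_comp]) : V ⟶ pullback f j) := by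
  set sV : V ⟶ pullback f j := pullback.lift s (𝟙 V) (by rw [hs, Category.id_comp]) with hsV
  have h1 : sV ≫ pullback.fst f j = s := pullback.lift_fst _ _ _
  have h2 : sV ≫ pullback.snd f j = 𝟙 V := pullback.lift_snd _ _ _
  have hw : (pullback.snd f j ≫ s) ≫ f = pullback.fst f j ≫ f := by
    rw [Category.assoc, hs, pullback.condition]
  let m : pullback f j ⟶ pullback f f := pullback.lift (pullback.snd f j ≫ s) (pullback.fst f j) hw
  have hm1 : m ≫ pullback.fst f f = pullback.snd f j ≫ s := pullback.lift_fst _ _ _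
  have hm2 : m ≫ pullback.snd f f = pullback.fst f j := pullback.lift_snd _ _ _
  have sq : IsPullback sV s m (pullback.diagonal f) := by
    refine Groth.Agent.Lib.Helper9.isPullback_of_exists_unique ?_ ?_ ?_
    · apply pullback.hom_ext
      · rw [Category.assoc, hm1, ← Category.assoc, h2, Category.id_comp, Category.assoc,
          pullback.diagonal_fst, Category.comp_id]
      · rw [Category.assoc, hm2, h1, Category.assoc, pullback.diagonal_snd, Category.comp_id]
    · intro T a b hab
      have e1 : a ≫ pullback.snd f j ≫ s = b := by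
        have := congrArg (· ≫ pullback.fst f f) hab
        simpa [hm1] using this
      have e2 : a ≫ pullback.fst f j = b := by
        have := congrArg (· ≫ pullback.snd f f) hab
        simpa [hm2] using this
      refine ⟨a ≫ pullback.snd f j, ?_, ?_⟩
      · apply pullback.hom_ext
        · rw [Category.assoc, h1, Category.assoc, e1, e2]
        · rw [Category.assoc, h2, Category.comp_id]
      · rw [Category.assoc, e1]
    · intro T l l' hl _
      have := congrArg (· ≫ pullback.snd f j) hl
      simpa [h2] using this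
  exact MorphismProperty.of_isPullback (P := AlgSp.RepWith @IsClosedImmersion) sq.flip hf

/-- sheaf level form of the statement. -/
theorem isIso_snd {X Y V Y' : AlgSp.Sp S} (hX : AlgSp.IsAlgSpace X) (hY : AlgSp.IsAlgSpace Y)
    (hV : AlgSp.IsAlgSpace V) (hY' : AlgSp.IsAlgSpace Y') (f : X ⟶ Y) (j : V ⟶ Y)
    (hj : AlgSp.RepWith @IsOpenImmersion j) (hjq : AlgSp.IsQuasiCompactMor j)
    (hf : AlgSp.IsSeparatedMor f) (s : V ⟶ X) (hs : s ≫ f = j) (c : Y' ⟶ X)
    (hc : AlgSp.IsSchImage s c) {P : AlgSp.Sp S} (fst : P ⟶ Y') (snd : P ⟶ V)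
    (sq : IsPullback fst snd (c ≫ f) j) : IsIso snd := by
  set sV : V ⟶ pullback f j := pullback.lift s (𝟙 V) (by rw [hs, Category.id_comp]) with hsV
  have h1 : sV ≫ pullback.fst f j = s := pullback.lift_fst _ _ _
  have h2 : sV ≫ pullback.snd f j = 𝟙 V := pullback.lift_snd _ _ _
  have hsVc : AlgSp.RepWith @IsClosedImmersion sV := repWith_isClosedImmersion_lift f j hf s hs
  have sqX : IsPullback (pullback.fst f j) (pullback.snd f j) f j := IsPullback.of_hasPullback f j
  have hXV : AlgSp.IsAlgSpace (pullback f j) :=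
    Groth.Agent.S9874.isAlgSpace_of_isPullback hY.diag hX hV sqX
  -- the open immersion `X_V ⟶ X`
  have hπo : AlgSp.RepWith @IsOpenImmersion (pullback.fst f j) :=
    MorphismProperty.of_isPullback (P := AlgSp.RepWith @IsOpenImmersion) sqX.flip hj
  have hπe : AlgSp.RepWith @Etale (pullback.fst f j) :=
    repWith_mono (fun m hm => by haveI : IsOpenImmersion m := hm; infer_instance) hπo
  haveI : Mono (pullback.fst f j) := Groth.Agent.S9928.mono_of_repWith @IsOpenImmersion
    (fun X Y g hg => by
      haveI : IsOpenImmersion g := hg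
      infer_instance) _ hπo
  have hπflat : AlgSp.LocP @Flat (pullback.fst f j) := by
    have hEt : AlgSp.IsEtaleMor (pullback.fst f j) := fun U φ hφ => by
      have := AlgSp.repWith_isMultiplicative (S := S) @Etale
      exact (AlgSp.RepWith @Etale).comp_mem _ _ hφ hπe
    have hbe := Groth.Agent.Lib.Helper12.SrcLocal.locP_etale_of_isEtaleMor _ hEt
    intro U V' a b' h ha hb' hcomm
    have : Etale h.left := hbe a b' h ha hb' hcomm
    infer_instance
  -- `s` is quasi-compact
  have hjqc : AlgSp.RepWith @QuasiCompact j :=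
    Groth.Agent.S9912.repWith_quasiCompact_of_isQuasiCompactMor j hj.1 hjq
  have hπqc : AlgSp.RepWith @QuasiCompact (pullback.fst f j) :=
    MorphismProperty.of_isPullback (P := AlgSp.RepWith @QuasiCompact) sqX.flip hjqc
  have hsVqc : AlgSp.RepWith @QuasiCompact sV :=
    repWith_mono (fun m hm => by haveI : IsClosedImmersion m := hm; infer_instance) hsVc
  have hsqc : AlgSp.IsQuasiCompactMor s := by
    refine Groth.Agent.S9912.isQuasiCompactMor_of_repWith hV hX.diag s ?_
    rw [← h1]
    have := AlgSp.repWith_isMultiplicative (S := S) @QuasiCompact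
    exact (AlgSp.RepWith @QuasiCompact).comp_mem _ _ hsVqc hπqc
  -- the two pullback squares for the base change along `X_V ⟶ X`
  have sqV : IsPullback (𝟙 V) sV s (pullback.fst f j) := by
    refine Groth.Agent.Lib.Helper9.isPullback_of_exists_unique (by rw [Category.id_comp, h1]) ?_ ?_
    · intro T a b hab
      refine ⟨a, Category.comp_id _, ?_⟩
      rw [← cancel_mono (pullback.fst f j), Category.assoc, h1, hab]
    · intro T l l' hl _
      simpa using hl
  have hw : (fst ≫ c) ≫ f = snd ≫ j := by rw [Category.assoc]; exact sq.w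
  let iX : P ⟶ pullback f j := pullback.lift (fst ≫ c) snd hw
  have hiX1 : iX ≫ pullback.fst f j = fst ≫ c := pullback.lift_fst _ _ _
  have hiX2 : iX ≫ pullback.snd f j = snd := pullback.lift_snd _ _ _
  have sqZ : IsPullback fst iX c (pullback.fst f j) := by
    have big : IsPullback (iX ≫ pullback.snd f j) fst j (c ≫ f) := by
      rw [hiX2]; exact sq.flip
    exact (IsPullback.of_right big hiX1 sqX.flip).flip
  have hI : AlgSp.IsSchImage sV iX :=
    Groth.Agent.S9974.isSchImage_flat_base_change hXV hX hY' (pullback.fst f j) hπflat s hsqc c hc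
      (𝟙 V) sV sqV fst iX sqZ
  -- compare with the closed immersion `sV` itself
  obtain ⟨k, hk⟩ := hI.2.2 sV hV hsVc ⟨𝟙 V, Category.id_comp _⟩
  obtain ⟨φ, hφ⟩ := hI.2.1
  haveI : Mono iX := Groth.Agent.S9928.mono_of_repWith @IsClosedImmersion (fun X Y g hg => by
    haveI : IsClosedImmersion g := hg
    infer_instance) iX hI.1
  have hksnd : k = snd := by
    calc k = k ≫ sV ≫ pullback.snd f j := by rw [h2, Category.comp_id]
      _ = snd := by rw [← Category.assoc, hk, hiX2]
  subst hksnd
  refine ⟨φ, ?_, ?_⟩
  · rw [← cancel_mono iX, Category.assoc, hφ, hk, Category.id_comp]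
  · calc φ ≫ k = φ ≫ iX ≫ pullback.snd f j := by rw [hiX2]
      _ = 𝟙 V := by rw [← Category.assoc, hφ, h2]

/-- For a separated f : X -> Y and a section s of f over a quasi-compact open V of Y, the scheme
theoretic image of s maps isomorphically to Y over V. -/
theorem result {S : Scheme.{u}} {X Y V Y' : AlgSp.Space S} (f : X ⟶ Y) (j : V ⟶ Y)
    (hj : AlgSp.RepWith @IsOpenImmersion j.hom) (hjq : AlgSp.IsQuasiCompactMor j.hom) (hf : AlgSp.IsSeparatedMor f.hom)
    (s : V ⟶ X) (hs : s ≫ f = j) (c : Y' ⟶ X) (hc : AlgSp.IsSchImage s.hom c.hom)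
    {P : AlgSp.Sp S} (fst : P ⟶ Y'.obj) (snd : P ⟶ V.obj) (sq : IsPullback fst snd (c ≫ f).hom j.hom) :
    IsIso snd := by
  have hs' : s.hom ≫ f.hom = j.hom := by rw [← hs]; rfl
  exact isIso_snd X.property Y.property V.property Y'.property f.hom j.hom hj hjq hf s.hom hs' c.hom hc
    fst snd sq

end Groth.Agent.S9967
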