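import Groth.Statements.S9969
import Groth.Agent.R2.H95SchImageSp
import Groth.Agent.R2.H47SpColim
import Groth.Agent.S9928
import Groth.Agent.S9912
import Groth.Agent.Lib.Helper12SchDense
import Groth.Agent.Lib.Helper12SchDenseExt

set_option autoImplicit false
universe u
open CategoryTheory CategoryTheory.Limits AlgebraicGeometry
open AlgSp

namespace Groth.Agent.S9969

namespace Aux

open Groth.Agent.R2.H48.ClosedSub Groth.Agent.R2.H95.SchImageSp Groth.Agent.R2.H95.SchDenseSp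

variable {S : Scheme.{u}}

/-- a closed subsheaf of `X` through which a schematically dense open subsheaf factors is all of `X`. -/
theorem isIso_of_isSchDense_factor {U X Z' : AlgSp.Sp S} (j : U ⟶ X) (hd : AlgSp.IsSchDense j)
    (i' : Z' ⟶ X) (hi' : AlgSp.RepWith @IsClosedImmersion i') (f'' : U ⟶ Z') (hf'' : f'' ≫ i' = j) :
    IsIso i' := by
  obtain ⟨_, V₁, φ₁, W₁, fst₁, hφ₁e, hφ₁s, sq₁, hW₁⟩ := hd
  have : Mono i' := Groth.Agent.S9928.mono_of_repWith @IsClosedImmersion (fun X Y g hg => by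
    have : IsClosedImmersion g := hg
    infer_instance) i' hi'
  -- the chart factors through `i'`
  obtain ⟨E, e, fstE, sqE⟩ := hi'.1 φ₁
  have hce : IsClosedImmersion e.left := hi'.2 _ _ e sqE
  have hlw : (fst₁ ≫ f'') ≫ i' = (AlgSp.yon S).map (opnι V₁ W₁) ≫ φ₁ := by
    rw [Category.assoc, hf'', sq₁.w]
  obtain ⟨l, hl'⟩ := (AlgSp.yon S).map_surjective (sqE.lift _ _ hlw)
  have hl : l ≫ e = opnι V₁ W₁ := (AlgSp.yon S).map_injective (by
    rw [Functor.map_comp, hl']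
    exact sqE.lift_snd _ _ _)
  have hiso : IsIso e.left :=
    Groth.Agent.Lib.Helper12.SchDense.isIso_of_isSchematicallyDense_factors e.left W₁ hW₁ l.left
      (congrArg Over.Hom.left hl)
  have : IsIso ((Over.forget S).map e) := hiso
  have : IsIso e := isIso_of_reflects_iso e (Over.forget S)
  have hφ : φ₁ = ((AlgSp.yon S).map (inv e) ≫ fstE) ≫ i' := by
    rw [Category.assoc, sqE.w, ← Category.assoc, ← Functor.map_comp, IsIso.inv_hom_id,
      (AlgSp.yon S).map_id, Category.id_comp]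
  have : Epi φ₁ := Groth.Agent.R2.H47.SpColim.epi_of_etale_surj φ₁ hφ₁e hφ₁s
  have : Epi i' := by
    have : Epi (((AlgSp.yon S).map (inv e) ≫ fstE) ≫ i') := by rw [← hφ]; infer_instance
    exact epi_of_epi ((AlgSp.yon S).map (inv e) ≫ fstE) i'
  exact isIso_of_mono_of_epi i'

end Aux

/-- For a quasi-compact open subspace, scheme theoretic density is equivalent to the scheme theoretic
closure being everything. -/
theorem result {S : Scheme.{u}} {U X : AlgSp.Space S} (j : U ⟶ X)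
    (hj : AlgSp.RepWith @IsOpenImmersion j.hom) (hq : AlgSp.IsQuasiCompactMor j.hom) :
    AlgSp.IsSchDense j.hom ↔ AlgSp.IsSchImage j.hom (𝟙 X.obj) := by
  constructor
  · intro hd
    refine ⟨(AlgSp.RepWith @IsClosedImmersion).id_mem X.obj, ⟨j.hom, Category.comp_id _⟩, ?_⟩
    rintro Z' i' - hi' ⟨f'', hf''⟩
    have := Aux.isIso_of_isSchDense_factor j.hom hd i' hi' f'' hf''
    exact ⟨inv i', IsIso.inv_hom_id i'⟩
  · rintro ⟨-, -, hmin⟩
    obtain ⟨V₁, φ₁, hφ₁e, hφ₁s⟩ := X.property.atlas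
    obtain ⟨W₁, fst₁, sq₁, -⟩ := Groth.Agent.R2.H48.OpenCompl.exists_open_chart hj φ₁
    have hqc : AlgSp.RepWith @QuasiCompact j.hom := (Groth.Agent.S9912.result j hj.1).mpr hq
    have hW₁qc : QuasiCompact W₁.ι := hqc.2 φ₁ fst₁ _ sq₁
    have : QuasiCompact (Groth.Agent.R2.H95.SchDenseSp.opnι V₁ W₁).left := hW₁qc
    have hinv := Groth.Agent.R2.H95.SchImageSp.invariant_ker j.hom hj.1 φ₁ hφ₁e
      (Groth.Agent.R2.H95.SchDenseSp.opnι V₁ W₁) fst₁ sq₁
    obtain ⟨g', hg'⟩ := Groth.Agent.R2.H95.SchImageSp.exists_factor_ker j.hom φ₁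
      (Groth.Agent.R2.H95.SchDenseSp.opnι V₁ W₁) fst₁ sq₁
    obtain ⟨k, hk⟩ := hmin (Groth.Agent.R2.H48.ClosedSub.incl φ₁ _)
      (Groth.Agent.R2.H48.ClosedSub.isAlgSpace_obj X.property hinv hφ₁e hφ₁s)
      (Groth.Agent.R2.H48.ClosedSub.repWith_incl hinv hφ₁e hφ₁s) ⟨g', hg'⟩
    have hbot := Groth.Agent.R2.H95.SchImageSp.eq_bot_of_factor_id φ₁ _ k hk
    have hdom : IsSchemeTheoreticallyDominant W₁.ι := ⟨hbot⟩
    exact ⟨hj, V₁, φ₁, W₁, fst₁, hφ₁e, hφ₁s, sq₁,
      (Groth.Agent.Lib.Helper12.SchDense.isSchematicallyDense_iff W₁).2 hdom⟩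

end Groth.Agent.S9969
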