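import Groth.Statements.S9970
import Groth.Agent.R2.H95SchDenseSp
import Groth.Agent.R2.H48OpenCompl

set_option autoImplicit false
universe u
open CategoryTheory CategoryTheory.Limits AlgebraicGeometry
open AlgSp

namespace Groth.Agent.S9970

/-- The intersection of two scheme theoretically dense open subspaces is scheme theoretically dense. -/
theorem result {S : Scheme.{u}} {U V X P : AlgSp.Space S} (jU : U ⟶ X) (jV : V ⟶ X)
    (hU : AlgSp.IsSchDense jU.hom) (hV : AlgSp.IsSchDense jV.hom) (fst : P ⟶ U) (snd : P ⟶ V)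
    (sq : IsPullback fst.hom snd.hom jU.hom jV.hom) : AlgSp.IsSchDense (fst ≫ jU).hom := by
  obtain ⟨hjU, V₁, φ₁, WU, fstU, hφ₁e, hφ₁s, sqU, hWU⟩ := hU
  obtain ⟨hjV, V₂, φ₂, WV₂, fstV₂, hφ₂e, hφ₂s, sqV₂, hWV₂⟩ := hV
  obtain ⟨WV, fstV, sqV, -⟩ := Groth.Agent.R2.H48.OpenCompl.exists_open_chart hjV φ₁
  have hWV : CInt.IsSchematicallyDense WV :=
    Groth.Agent.R2.H95.SchDenseSp.isSchematicallyDense_chart jV.hom φ₂ hφ₂e hφ₂s WV₂ fstV₂ sqV₂
      hWV₂ φ₁ hφ₁e WV fstV sqV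
  obtain ⟨fst₀, sq₀⟩ := Groth.Agent.R2.H95.SchDenseSp.exists_isPullback_inf jU.hom jV.hom
    fst.hom snd.hom sq φ₁ WU WV fstU sqU fstV sqV
  refine ⟨?_, V₁, φ₁, WU ⊓ WV, fst₀, hφ₁e, hφ₁s, sq₀,
    Groth.Agent.R2.H95.SchDenseSp.isSchematicallyDense_inf WU WV hWU hWV⟩
  exact (AlgSp.RepWith @IsOpenImmersion).comp_mem _ _
    (MorphismProperty.of_isPullback sq.flip hjV) hjU

end Groth.Agent.S9970
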