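import Groth.Statements.S9971
import Groth.Agent.R2.H95KerChart
import Groth.Agent.R2.H95SchDenseSp
import Groth.Agent.Lib.Helper12SchDense
import Groth.Agent.S9912

set_option autoImplicit false
universe u
open CategoryTheory CategoryTheory.Limits AlgebraicGeometry
open AlgSp

set_option backward.isDefEq.respectTransparency false
set_option linter.style.haveILetI false

namespace Groth.Agent.S9971

open Groth.Agent.R2.H48.ClosedSub Groth.Agent.R2.H48.SchImage Groth.Agent.R2.H95.SpEpi
  Groth.Agent.R2.H95.KerCh Groth.Agent.R2.H95.SchDenseSp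

/-- a dense open of a reduced scheme is scheme theoretically dense. -/
lemma isSchematicallyDense_of_dense_of_isReduced {X : Scheme.{u}} [IsReduced X] (W : X.Opens)
    (hW : Dense (W : Set X)) : CInt.IsSchematicallyDense W := by
  intro V
  rw [injective_iff_map_eq_zero]
  intro s hs
  apply eq_zero_of_basicOpen_eq_bot
  have h1 : X.basicOpen (X.presheaf.map (homOfLE (inf_le_left : V ⊓ W ≤ V)).op s) = ⊥ := by
    rw [hs]; simp
  rw [Scheme.basicOpen_res] at h1
  by_contra hne
  have hne' : (X.basicOpen s : Set X).Nonempty := by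
    rw [Set.nonempty_iff_ne_empty]
    intro h0
    exact hne (TopologicalSpace.Opens.ext h0)
  obtain ⟨x, hxs, hxW⟩ := hW.inter_open_nonempty _ (X.basicOpen s).2 hne'
  have hxV : x ∈ V := X.basicOpen_le s hxs
  have : x ∈ ((V ⊓ W) ⊓ X.basicOpen s : X.Opens) := ⟨⟨hxV, hxW⟩, hxs⟩
  rw [h1] at this
  exact this

/-- scheme theoretic density of the range of the open immersion into the scheme theoretic image. -/
lemma isSchematicallyDense_opensRange_toImage {Z X : Scheme.{u}} (h : Z ⟶ X) [IsImmersion h]
    (hyp : QuasiCompact h ∨ IsReduced Z) (hI : IsOpenImmersion h.toImage)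
    (hd : DenseRange h.toImage.base) :
    CInt.IsSchematicallyDense (@Scheme.Hom.opensRange _ _ h.toImage hI) := by
  rcases hyp with hqc | hred
  · have := Groth.Agent.Lib.Helper10.SchDense.isSchemeTheoreticallyDominant_toImage h
    have e : h.toImage.opensRange.ι = h.toImage.isoOpensRange.inv ≫ h.toImage :=
      (Scheme.Hom.isoOpensRange_inv_comp _).symm
    have h1 : IsSchemeTheoreticallyDominant h.toImage.opensRange.ι := by
      rw [e]; infer_instance
    haveI h2 : QuasiCompact h.toImage.opensRange.ι := by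
      rw [e]; infer_instance
    exact (Groth.Agent.Lib.Helper12.SchDense.isSchematicallyDense_iff _).2 h1
  · have hker := Groth.Agent.Lib.Helper10.RedInd.ker_eq_vanishingIdeal_of_isReduced h
    haveI hredI : IsReduced h.image := by
      change IsReduced h.ker.subscheme
      rw [hker]
      exact Groth.Agent.Lib.Helper10.RedInd.isReduced_subscheme_vanishingIdeal _
    refine isSchematicallyDense_of_dense_of_isReduced _ ?_
    rw [Scheme.Hom.coe_opensRange]
    exact hd

variable {S : Scheme.{u}}

/-- sheaf level form of the statement. -/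
theorem immersion_into_schImage {Z X Zbar : AlgSp.Sp S} (hX : AlgSp.IsAlgSpace X)
    (hZbar : AlgSp.IsAlgSpace Zbar) (h : Z ⟶ X) (hh : AlgSp.RepWith @IsImmersion h)
    (hq : AlgSp.IsQuasiCompactMor h ∨ AlgSp.IsReducedSp Z) (c : Zbar ⟶ X)
    (hc : AlgSp.IsSchImage h c) (h' : Z ⟶ Zbar) (fac : h' ≫ c = h) :
    AlgSp.RepWith @IsOpenImmersion h' ∧ AlgSp.IsSchDense h' ∧
      Dense (Set.range (AlgSp.Points.map h')) := by
  have hi : AlgSp.Representable h := hh.1
  obtain ⟨U, p, hpe, hps⟩ := hX.atlas
  have sq₀ := hi.isPullback p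
  haveI himm : IsImmersion (hi.snd p).left := hh.property p _ _ sq₀
  have ha₀e : AlgSp.RepWith @Etale (hi.fst p) :=
    MorphismProperty.of_isPullback (P := AlgSp.RepWith @Etale) sq₀.flip hpe
  -- quasi-compact or reduced on the chart
  have hyp : QuasiCompact (hi.snd p).left ∨ IsReduced (hi.pullback p).left := by
    rcases hq with hq | hred
    · have hqc := Groth.Agent.S9912.repWith_quasiCompact_of_isQuasiCompactMor h hi hq
      exact Or.inl (hqc.property p _ _ sq₀)
    · exact Or.inr (Groth.Agent.R2.H44.LimRed.isReduced_of_etale_chart hred (hi.fst p) ha₀e)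
  -- the kernel chart
  have hepi : Epi (pullback.lift (hi.fst p) ((AlgSp.yon S).map (hi.snd p)) sq₀.w :
      (AlgSp.yon S).obj (hi.pullback p) ⟶ pullback h p) := by
    have : pullback.lift (hi.fst p) ((AlgSp.yon S).map (hi.snd p)) sq₀.w = sq₀.isoPullback.hom := by
      apply pullback.hom_ext <;> simp
    rw [this]
    infer_instance
  let k : KerChart h :=
    { U := U
      p := p
      W := hi.pullback p
      a := hi.fst p
      h := hi.snd p
      hpe := hpe
      hps := hps
      comm := sq₀.w
      epi := hepi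
      fbc := fun t ht => by
        haveI : Etale t.left := ht
        rcases hyp with hqc | hred
        · exact Groth.Agent.R2.H83.SchImgBC.ker_eq_comap_of_isPullback
            ((IsPullback.of_hasPullback (hi.snd p) t).map (Over.forget S))
        · exact ker_eq_comap_of_isPullback_of_isReduced
            ((IsPullback.of_hasPullback (hi.snd p) t).map (Over.forget S)) }
  have hinv : Invariant p k.ideal := k.invariant
  obtain ⟨e, he⟩ := k.exists_iso_of_isSchImage hX c hZbar hc
  haveI : Mono (incl p k.ideal) := inferInstance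
  set j : Z ⟶ obj p k.ideal := h' ≫ e.hom with hjdef
  have hj : j ≫ incl p k.ideal = h := by rw [hjdef, Category.assoc, he, fac]
  obtain ⟨zU, hzU⟩ := exists_chart hinv
  have sqC := isPullback_chart hzU
  have hzUe : AlgSp.RepWith @Etale zU :=
    MorphismProperty.of_isPullback (P := AlgSp.RepWith @Etale) sqC.flip hpe
  have hzUs : AlgSp.RepWith @Surjective zU :=
    MorphismProperty.of_isPullback (P := AlgSp.RepWith @Surjective) sqC.flip hps
  haveI := isLocallySurjective_of_chart hzUe hzUs
  -- the scheme level statement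
  obtain ⟨hI, -, hdr⟩ := Groth.Agent.Lib.Helper10.SchDense.s9385 (hi.snd p).left hyp
  have hti : (hi.snd p).left.toImage ≫ k.ideal.subschemeι = (hi.snd p).left :=
    (hi.snd p).left.toImage_imageι
  have hm₀ : (hi.snd p).left.toImage ≫ (ZU k.ideal).hom = (hi.pullback p).hom := by
    change (hi.snd p).left.toImage ≫ (k.ideal.subschemeι ≫ U.hom) = _
    rw [← Category.assoc, hti, Over.w (hi.snd p)]
  let m₀ : hi.pullback p ⟶ ZU k.ideal := Over.homMk (hi.snd p).left.toImage hm₀
  have hm₀ι : m₀ ≫ ιU k.ideal = hi.snd p := by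
    ext
    exact hti
  haveI hm₀o : IsOpenImmersion m₀.left := hI
  have hcomm : (AlgSp.yon S).map m₀ ≫ zU = hi.fst p ≫ j := by
    rw [← cancel_mono (incl p k.ideal), Category.assoc, hzU, ← Functor.map_comp_assoc,
      hm₀ι, Category.assoc, hj]
    exact sq₀.w.symm
  have sqL : IsPullback ((AlgSp.yon S).map m₀) (hi.fst p) zU j := by
    refine IsPullback.of_right (h₁₂ := (AlgSp.yon S).map (ιU k.ideal))
      (h₂₂ := incl p k.ideal) (v₁₃ := p) ?_ hcomm sqC.flip
    rw [← Functor.map_comp, hm₀ι, hj]
    exact sq₀.flip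
  -- (i) open immersion
  have hjo : AlgSp.RepWith @IsOpenImmersion j :=
    Groth.Agent.R2.H59.OpenDesc.repWith_isOpenImmersion_of_locallySurjective j zU (hi.fst p)
      ((AlgSp.yon S).map m₀) sqL.flip
      ((AlgSp.repWith_yon_map_iff @IsOpenImmersion m₀).2 inferInstance)
  have hh'j : h' = j ≫ e.inv := by rw [hjdef, Category.assoc, e.hom_inv_id, Category.comp_id]
  have hh'o : AlgSp.RepWith @IsOpenImmersion h' := by
    rw [hh'j]
    exact MorphismProperty.RespectsIso.postcomp _ _ _ hjo
  -- the chart of `Zbar`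
  let φ : (AlgSp.yon S).obj (ZU k.ideal) ⟶ Zbar := zU ≫ e.inv
  have hφe : AlgSp.RepWith @Etale φ := MorphismProperty.RespectsIso.postcomp _ _ _ hzUe
  have hφs : AlgSp.RepWith @Surjective φ := MorphismProperty.RespectsIso.postcomp _ _ _ hzUs
  have hφcomm : (AlgSp.yon S).map m₀ ≫ φ = hi.fst p ≫ h' := by
    rw [hh'j]
    change (AlgSp.yon S).map m₀ ≫ zU ≫ e.inv = _
    rw [← Category.assoc, hcomm, Category.assoc]
  refine ⟨hh'o, ⟨hh'o, ZU k.ideal, φ, m₀.left.opensRange, ?_⟩, ?_⟩
  · -- (ii) scheme theoretic density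
    let W : (ZU k.ideal).left.Opens := m₀.left.opensRange
    have hθ : m₀.left.isoOpensRange.inv ≫ (hi.pullback p).hom = (opn (ZU k.ideal) W).hom := by
      change _ = W.ι ≫ (ZU k.ideal).hom
      rw [← Over.w m₀, ← Category.assoc, Scheme.Hom.isoOpensRange_inv_comp]
    let θinv : opn (ZU k.ideal) W ⟶ hi.pullback p := Over.homMk m₀.left.isoOpensRange.inv hθ
    have hθm : θinv ≫ m₀ = opnι (ZU k.ideal) W := by
      ext
      exact Scheme.Hom.isoOpensRange_inv_comp _
    haveI : IsIso θinv := by
      haveI : IsIso ((Over.forget S).map θinv) :=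
        inferInstanceAs (IsIso m₀.left.isoOpensRange.inv)
      exact isIso_of_reflects_iso θinv (Over.forget S)
    refine ⟨(AlgSp.yon S).map θinv ≫ hi.fst p, hφe, hφs, ?_, ?_⟩
    · have sq1 : IsPullback (hi.fst p) ((AlgSp.yon S).map m₀) h' φ :=
        IsPullback.of_iso sqL.flip (Iso.refl _) (Iso.refl _) (Iso.refl _) e.symm
          (by simp) (by simp) (by simp [hh'j]) (by simp [φ])
      have sq2 : IsPullback ((AlgSp.yon S).map θinv ≫ hi.fst p)
          ((AlgSp.yon S).map (θinv ≫ m₀)) h' φ := by
        rw [Functor.map_comp]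
        exact IsPullback.of_iso sq1 (asIso ((AlgSp.yon S).map θinv)).symm (Iso.refl _) (Iso.refl _)
          (Iso.refl _) (by simp) (by simp) (by simp) (by simp)
      rw [hθm] at sq2
      exact sq2
    · exact isSchematicallyDense_opensRange_toImage (hi.snd p).left hyp hI hdr
  · -- (iii) topological density
    have hsurj : Function.Surjective (AlgSp.Points.ofPt φ) :=
      Groth.Agent.S10177.surjective_ofPt φ hφs
    have hcont : Continuous (AlgSp.Points.ofPt φ) := AlgSp.Points.continuous_ofPt φ
    have hdr' : DenseRange (fun w : (hi.pullback p).left => m₀.left w) := hdr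
    have hd2 : DenseRange (AlgSp.Points.ofPt φ ∘ fun w : (hi.pullback p).left => m₀.left w) :=
      hsurj.denseRange.comp hdr' hcont
    refine hd2.mono ?_
    rintro _ ⟨w, rfl⟩
    refine ⟨AlgSp.Points.ofPt (hi.fst p) w, ?_⟩
    rw [AlgSp.Points.map_ofPt, ← hφcomm]
    exact Groth.Agent.S10176.ofPt_map_comp m₀ φ w

/-- A quasi-compact (or reduced-source) immersion is a scheme theoretically dense, topologically dense
open immersion into its scheme theoretic image. -/
theorem result {S : Scheme.{u}} {Z X Zbar : AlgSp.Space S} (h : Z ⟶ X)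
    (hh : AlgSp.RepWith @IsImmersion h.hom) (hq : AlgSp.IsQuasiCompactMor h.hom ∨ AlgSp.IsReducedSp Z.obj)
    (c : Zbar ⟶ X) (hc : AlgSp.IsSchImage h.hom c.hom) (h' : Z ⟶ Zbar) (fac : h' ≫ c = h) :
    AlgSp.RepWith @IsOpenImmersion h'.hom ∧ AlgSp.IsSchDense h'.hom ∧
      Dense (Set.range (AlgSp.Points.map h'.hom)) := by
  have fac' : h'.hom ≫ c.hom = h.hom := by rw [← fac]; rfl
  exact immersion_into_schImage X.property Zbar.property h.hom hh hq c.hom hc h'.hom fac'

end Groth.Agent.S9971
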