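import Groth.Statements.S9978
import Mathlib
import Groth.Agent.S9833
import Groth.Agent.S0566
import Groth.Agent.S10262

set_option autoImplicit false
universe u
open CategoryTheory CategoryTheory.Limits AlgebraicGeometry
open AlgSp

namespace Groth.Agent.S9978

/-- A scheme locally of finite type over a scheme all of whose affine opens have Nagata coordinate
rings has the same property. -/
theorem nagata_of_locallyOfFiniteType {U V : Scheme.{u}} (ψ : U ⟶ V) [LocallyOfFiniteType ψ]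
    (hV : ∀ W : V.Opens, IsAffineOpen W → CAlg.IsNagata ↑Γ(V, W)) :
    ∀ W : U.Opens, IsAffineOpen W → CAlg.IsNagata ↑Γ(U, W) := by
  have key : ∀ x : U, ∃ (Ux : U.Opens) (Vx : V.Opens) (_ : IsAffineOpen Ux) (_ : IsAffineOpen Vx)
      (_ : Ux ≤ ψ ⁻¹ᵁ Vx), x ∈ Ux := by
    intro x
    obtain ⟨Vx, hVx, hxV, -⟩ := exists_isAffineOpen_mem_and_subset (X := V) (U := ⊤) (x := ψ x)
      (by simp)
    obtain ⟨Ux, hUx, hxU, hle⟩ := exists_isAffineOpen_mem_and_subset (X := U) (U := ψ ⁻¹ᵁ Vx)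
      (x := x) hxV
    exact ⟨Ux, Vx, hUx, hVx, hle, hxU⟩
  choose Ux Vx hUx hVx hle hx using key
  intro W hW
  refine Groth.Agent.S9833.result U Ux ?_ hUx ?_ W hW
  · rw [eq_top_iff]
    intro x _
    exact TopologicalSpace.Opens.mem_iSup.mpr ⟨x, hx x⟩
  · intro x
    have hft : (ψ.appLE (Vx x) (Ux x) (hle x)).hom.FiniteType :=
      LocallyOfFiniteType.finiteType_appLE ψ (hVx x) (hUx x) (hle x)
    letI := (ψ.appLE (Vx x) (Ux x) (hle x)).hom.toAlgebra
    haveI : Algebra.FiniteType ↑Γ(V, Vx x) ↑Γ(U, Ux x) := hft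
    exact Groth.Agent.S0566.result ↑Γ(V, Vx x) (hV _ (hVx x)) ↑Γ(U, Ux x)

/-- An algebraic space locally of finite type over a Nagata algebraic space is Nagata. -/
theorem result {S : Scheme.{u}} {X Y : AlgSp.Space S} (f : X ⟶ Y)
    (hf : AlgSp.LocP @LocallyOfFiniteType f.hom)
    (hY : AlgSp.EtaleLocally (fun U => ∀ V : U.Opens, IsAffineOpen V → CAlg.IsNagata ↑Γ(U, V)) Y.obj) :
    AlgSp.EtaleLocally (fun U => ∀ V : U.Opens, IsAffineOpen V → CAlg.IsNagata ↑Γ(U, V)) X.obj := by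
  obtain ⟨V, q, hq, hqs, hV⟩ := hY
  obtain ⟨U0, p0, hp0, hp0s⟩ := X.property.atlas
  obtain ⟨U, u1, ψ', sq⟩ := hq.1 (p0 ≫ f.hom)
  obtain ⟨ψ, rfl⟩ := (AlgSp.yon S).map_surjective ψ'
  haveI : Etale u1.left := hq.2 _ _ u1 sq
  haveI : Surjective u1.left := hqs.2 _ _ u1 sq
  have ha : AlgSp.RepWith @Etale ((AlgSp.yon S).map u1 ≫ p0) :=
    (AlgSp.RepWith @Etale).comp_mem _ _ ((AlgSp.repWith_yon_map_iff _ _).2 inferInstance) hp0
  have has : AlgSp.RepWith @Surjective ((AlgSp.yon S).map u1 ≫ p0) :=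
    (AlgSp.RepWith @Surjective).comp_mem _ _ ((AlgSp.repWith_yon_map_iff _ _).2 inferInstance) hp0s
  have hw : ((AlgSp.yon S).map u1 ≫ p0) ≫ f.hom = (AlgSp.yon S).map ψ ≫ q := by
    rw [Category.assoc, sq.w]
  haveI : LocallyOfFiniteType ψ.left := hf _ _ ψ ha hq hw
  exact ⟨U, _, ha, has, nagata_of_locallyOfFiniteType ψ.left hV⟩

end Groth.Agent.S9978
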