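import Groth.Statements.S9979
import Groth.Agent.R2.H43ValSpec
import Groth.Agent.R2.H95QcChartEx
import Groth.Agent.S9906

set_option autoImplicit false
universe u
open CategoryTheory CategoryTheory.Limits AlgebraicGeometry
open AlgSp

set_option backward.isDefEq.respectTransparency false
set_option linter.style.haveILetI false

namespace Groth.Agent.S9979

open Groth.Agent.R2.H48.ClosedSub Groth.Agent.R2.H95.SpEpi Groth.Agent.R2.H95.QcCh

/-- Every point of the scheme theoretic image of a quasi-compact morphism is reached by a valuation ring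
whose generic point lifts to the source. -/
theorem result {S : Scheme.{u}} {X Y Z : AlgSp.Space S} (f : X ⟶ Y) (i : Z ⟶ Y)
    (hq : AlgSp.IsQuasiCompactMor f.hom) (hZ : AlgSp.IsSchImage f.hom i.hom) (z : AlgSp.Points Z.obj) :
    ∃ (A : Type u) (_ : CommRing A) (_ : IsDomain A) (_ : ValuationRing A) (str : Spec (CommRingCat.of A) ⟶ S)
      (a : (AlgSp.yon S).obj (Over.mk str) ⟶ Z.obj)
      (x : (AlgSp.yon S).obj (Over.mk (Spec.map (CommRingCat.ofHom (algebraMap A (FractionRing A))) ≫ str)) ⟶ X.obj),
      AlgSp.Points.ofPt a (IsLocalRing.closedPoint A) = z ∧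
      x ≫ f.hom = (AlgSp.yon S).map (Over.homMk (Spec.map (CommRingCat.ofHom (algebraMap A (FractionRing A)))) rfl) ≫
        a ≫ i.hom := by
  obtain ⟨c⟩ := exists_qcChart Y.property f.hom hq
  obtain ⟨zU, sq⟩ := c.exists_isPullback_of_isSchImage Y.property i.hom Z.property hZ
  have hzs : AlgSp.RepWith @Surjective zU :=
    MorphismProperty.of_isPullback (P := AlgSp.RepWith @Surjective) sq.flip c.hps
  obtain ⟨pt, hpt⟩ := Groth.Agent.S9906.surjective_map_of_repWith zU hzs z
  obtain ⟨u', rfl⟩ := (AlgSp.Points.schemeEquiv (ZU c.ideal)).surjective pt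
  -- the point of the chart
  haveI := c.qc
  have hu : (ιU c.ideal).left u' ∈ closure (Set.range c.h.left) := by
    rw [← Scheme.Hom.support_ker c.h.left]
    have hr : Set.range (ιU c.ideal).left = (c.ideal.support : Set c.U.left) :=
      c.ideal.range_subschemeι
    change _ ∈ (c.ideal.support : Set c.U.left)
    rw [← hr]
    exact ⟨u', rfl⟩
  obtain ⟨A, iA, iD, iV, gA, gK, h1, h2, h3⟩ :=
    Groth.Agent.R2.H43.ValSpec.exists_valuationRing_of_mem_closure_range c.h.left _ hu
  let b : Over.mk (gA ≫ c.U.hom) ⟶ c.U := Over.homMk gA rfl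
  obtain ⟨b', hb'⟩ := (le_ker_iff_fac c.ideal b).1 h3
  -- the point over the fraction field
  let m : Over.mk (Spec.map (CommRingCat.ofHom (algebraMap A (FractionRing A))) ≫ gA ≫ c.U.hom) ⟶
      c.W := Over.homMk gK (by
    change gK ≫ c.W.hom = _
    rw [← Over.w c.h, ← Category.assoc, h2, Category.assoc]
    rfl)
  refine ⟨A, iA, iD, iV, gA ≫ c.U.hom, (AlgSp.yon S).map b' ≫ zU, (AlgSp.yon S).map m ≫ c.a, ?_, ?_⟩
  · rw [Groth.Agent.S10176.ofPt_map_comp, ← hpt, AlgSp.Points.ofPt_eq_map_ofScheme zU]
    congr 1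
    change AlgSp.Points.ofScheme _ _ = AlgSp.Points.ofScheme _ _
    congr 1
    have hinj : Function.Injective (ιU c.ideal).left :=
      (ιU c.ideal).left.isEmbedding.injective
    apply hinj
    rw [← Scheme.Hom.comp_apply]
    have : b'.left ≫ (ιU c.ideal).left = gA := congrArg (fun k => k.left) hb'
    rw [this]
    exact h1
  · rw [Category.assoc, c.comm, Category.assoc, sq.w, ← Functor.map_comp_assoc,
      ← Functor.map_comp_assoc, ← Functor.map_comp_assoc]
    congr 2
    rw [Category.assoc, hb']
    ext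
    exact h2

end Groth.Agent.S9979
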