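import Groth.Statements.S9980
import Groth.Agent.R2.H83Residual
import Groth.Agent.Lib.Helper12FTPoint2
import Groth.Agent.S9950
import Groth.Agent.S9985
import Groth.Agent.S9948

set_option autoImplicit false
universe u
open CategoryTheory CategoryTheory.Limits AlgebraicGeometry
open AlgSp

set_option backward.isDefEq.respectTransparency.types false
set_option linter.style.haveILetI false

namespace Groth.Agent.S9980

open Groth.Agent.R2.H83.Residual Groth.Agent.Lib.Helper12.FTPoint

variable {S : Scheme.{u}}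

/-- the residual space at the image of a point of an étale chart (helper83's construction with the
chart and the point under control). -/
theorem exists_residualSpace_of_chart {X : AlgSp.Sp S} {U : Over S} (p : (AlgSp.yon S).obj U ⟶ X)
    (hp : AlgSp.RepWith @Etale p) (u : U.left) :
    ∃ (Z : AlgSp.Sp S) (_ : AlgSp.IsAlgSpace Z) (i : Z ⟶ X) (q : (AlgSp.yon S).obj (kPt u) ⟶ Z),
      Mono i ∧ AlgSp.RepWith @Etale q ∧ AlgSp.RepWith @Surjective q ∧ q ≫ i = ξ p u := by
  obtain ⟨R, t, s, hpb, hs⟩ := exists_kernelPair p u hp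
  have ht : Etale t.left := etale_of_kernelPair p u hp s t hpb.flip
  set ξ₀ := ξ p u with hξ₀
  let Z : AlgSp.Sp S := Sheaf.image ξ₀
  let π : (AlgSp.yon S).obj (kPt u) ⟶ Z := Sheaf.toImage ξ₀
  let ι : Z ⟶ X := Sheaf.imageι ξ₀
  have hπι : π ≫ ι = ξ₀ := Sheaf.toImage_ι ξ₀
  haveI : Mono ι := inferInstanceAs (Mono (Sheaf.imageι ξ₀))
  haveI : Sheaf.IsLocallySurjective π := inferInstanceAs (Sheaf.IsLocallySurjective (Sheaf.toImage ξ₀))
  have hk : IsPullback ((AlgSp.yon S).map t) ((AlgSp.yon S).map s) π π := by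
    apply isPullback_of_comp_mono ι
    rw [hπι]
    exact hpb
  obtain ⟨hZ, hπe, hπs⟩ := Groth.Agent.R2.H59.EtQuot.isAlgSpace_of_kernelPair s t π hk hs ht
  exact ⟨Z, hZ, ι, π, inferInstance, hπe, hπs, hπι⟩

/-- the condition `P = @LocallyOfFiniteType ∨ ...` of the `LocP` lemmas. -/
private lemma hPlft : (@LocallyOfFiniteType = @LocallyOfFiniteType ∨
    @LocallyOfFiniteType = @LocallyOfFinitePresentation ∨ @LocallyOfFiniteType = @Flat ∨
    @LocallyOfFiniteType = @Smooth ∨ @LocallyOfFiniteType = @Etale ∨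
    (∀ ⦃A B : Scheme.{u}⦄ (g : A ⟶ B),
      @LocallyOfFiniteType A B g ↔ (LocallyQuasiFinite g ∧ LocallyOfFiniteType g)) ∨
    (∀ ⦃A B : Scheme.{u}⦄ (g : A ⟶ B),
      @LocallyOfFiniteType A B g ↔ (LocallyOfFiniteType g ∧ FormallyUnramified g))) := Or.inl rfl

/-- a representable étale map of algebraic spaces is locally of finite type. -/
lemma locP_lft_of_repWith_etale {X Y : AlgSp.Space S} (f : X ⟶ Y) (hf : AlgSp.RepWith @Etale f.hom) :
    AlgSp.LocP @LocallyOfFiniteType f.hom := by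
  have h1 : AlgSp.RepWith @LocallyOfFiniteType f.hom := ⟨hf.1, fun T W g pr w sq => by
    haveI : Etale w.left := hf.2 g pr w sq
    exact (inferInstance : LocallyOfFiniteType w.left)⟩
  exact (Groth.Agent.S9948.result @LocallyOfFiniteType hPlft f hf.1).2 h1

/-- Characterizations of finite type points via one-point algebraic spaces locally of finite type over X
and via monomorphisms from quotients of spectra of fields. -/
theorem result {S : Scheme.{u}} (X : AlgSp.Space S) (x : AlgSp.Points X.obj) :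
    ((∃ (k : Type u) (_ : Field k) (str : Spec (CommRingCat.of k) ⟶ S) (ξ : (AlgSp.yon S).obj (Over.mk str) ⟶ X.obj),
        AlgSp.LocP @LocallyOfFiniteType ξ ∧ AlgSp.Points.ofPt ξ (IsLocalRing.closedPoint k) = x) ↔
      ∃ (Z : AlgSp.Space S) (f : Z ⟶ X), Nonempty (Unique (AlgSp.Points Z.obj)) ∧
        AlgSp.LocP @LocallyOfFiniteType f.hom ∧ Set.range (AlgSp.Points.map f.hom) = {x}) ∧
    ((∃ (k : Type u) (_ : Field k) (str : Spec (CommRingCat.of k) ⟶ S) (ξ : (AlgSp.yon S).obj (Over.mk str) ⟶ X.obj),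
        AlgSp.LocP @LocallyOfFiniteType ξ ∧ AlgSp.Points.ofPt ξ (IsLocalRing.closedPoint k) = x) ↔
      ∃ (Z : AlgSp.Space S) (f : Z ⟶ X) (k : Type u) (_ : Field k) (str : Spec (CommRingCat.of k) ⟶ S)
        (z : (AlgSp.yon S).obj (Over.mk str) ⟶ Z.obj), AlgSp.RepWith @Etale z ∧ AlgSp.RepWith @Surjective z ∧
        AlgSp.LocP @LocallyOfFiniteType f.hom ∧ Mono f.hom ∧
        AlgSp.Points.ofPt (z ≫ f.hom) (IsLocalRing.closedPoint k) = x) := by
  refine ⟨⟨?_, ?_⟩, ⟨?_, ?_⟩⟩
  · -- a finite type point is a one-point space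
    rintro ⟨k, _, str, ξ, hξ, rfl⟩
    let Z : AlgSp.Space S := ⟨(AlgSp.yon S).obj (Over.mk str), AlgSp.IsAlgSpace.yon_obj _⟩
    let f : Z ⟶ X := ObjectProperty.homMk ξ
    haveI : Unique ↥(Over.mk str).left := inferInstanceAs (Unique (PrimeSpectrum k))
    refine ⟨Z, f, ⟨(AlgSp.Points.schemeEquiv (Over.mk str)).symm.unique⟩, hξ, ?_⟩
    ext y
    simp only [Set.mem_range, Set.mem_singleton_iff]
    constructor
    · rintro ⟨z, rfl⟩
      obtain ⟨w, rfl⟩ := (AlgSp.Points.schemeEquiv (Over.mk str)).surjective z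
      rw [AlgSp.Points.ofPt_eq_map_ofScheme,
        Subsingleton.elim (IsLocalRing.closedPoint k : ↥(Over.mk str).left) w]
      rfl
    · rintro rfl
      exact ⟨_, (AlgSp.Points.ofPt_eq_map_ofScheme ξ _).symm⟩
  · -- a one-point space has a finite type point
    rintro ⟨Z, f, ⟨hu⟩, hf, hr⟩
    obtain ⟨z, -, k, _, str, ξ, hξ, hz⟩ := exists_isFT_mem Z.property Set.univ
      isOpen_univ.isLocallyClosed ⟨hu.default, trivial⟩
    refine ⟨k, inferInstance, str, ξ ≫ f.hom, ?_, ?_⟩
    · let T : AlgSp.Space S := ⟨(AlgSp.yon S).obj (Over.mk str), AlgSp.IsAlgSpace.yon_obj _⟩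
      exact Groth.Agent.S9985.result @LocallyOfFiniteType hPlft
        (ObjectProperty.homMk ξ : T ⟶ Z) f hξ hf
    · have : AlgSp.Points.ofPt (ξ ≫ f.hom) (IsLocalRing.closedPoint k) ∈
          Set.range (AlgSp.Points.map f.hom) := ⟨AlgSp.Points.ofPt ξ _, rfl⟩
      rw [hr] at this
      exact this
  · -- the residual space of a finite type point
    intro hx
    obtain ⟨U, φ, u, hφ, hu, rfl⟩ := exists_isClosed_of_isFT X.property x hx
    obtain ⟨Z₀, hZ₀, i, q, hi, hqe, hqs, hqi⟩ := exists_residualSpace_of_chart φ hφ u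
    let Z : AlgSp.Space S := ⟨Z₀, hZ₀⟩
    let f : Z ⟶ X := ObjectProperty.homMk i
    haveI : IsClosedImmersion (U.left.fromSpecResidueField u) :=
      isClosed_singleton_iff_isClosedImmersion.mp hu
    have hm : LocallyOfFiniteType (ιPt u).left := by
      change LocallyOfFiniteType (U.left.fromSpecResidueField u)
      infer_instance
    have hξ : AlgSp.LocP @LocallyOfFiniteType (ξ φ u) :=
      Groth.Agent.S9947.locP_of_chart @LocallyOfFiniteType lft_hEt
        (fun e k _ _ h => lft_hsrc e k h) (fun u k hk h => lft_hcancel u k hk h) X.property _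
        (𝟙 _) φ (ιPt u) (AlgSp.repWith_id _ _) (AlgSp.repWith_id _ _) hφ (Category.id_comp _) hm
    have hf : AlgSp.LocP @LocallyOfFiniteType f.hom :=
      Groth.Agent.S9950.result f (kPt u) q hqe hqs (by rw [show f.hom = i from rfl, hqi]; exact hξ)
    refine ⟨Z, f, ↥(U.left.residueField u), inferInstance,
      U.left.fromSpecResidueField u ≫ U.hom, q, hqe, hqs, hf, hi, ?_⟩
    rw [show q ≫ f.hom = ξ φ u from hqi, Groth.Agent.S10509.ofPt_yon_map_comp]
    congr 1
    exact Scheme.fromSpecResidueField_apply _ _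
  · -- conversely
    rintro ⟨Z, f, k, _, str, z, hze, hzs, hf, hmono, rfl⟩
    let T : AlgSp.Space S := ⟨(AlgSp.yon S).obj (Over.mk str), AlgSp.IsAlgSpace.yon_obj _⟩
    refine ⟨k, inferInstance, str, z ≫ f.hom, ?_, rfl⟩
    exact Groth.Agent.S9985.result @LocallyOfFiniteType hPlft
      (ObjectProperty.homMk z : T ⟶ Z) f
      (locP_lft_of_repWith_etale (ObjectProperty.homMk z : T ⟶ Z) hze) hf

end Groth.Agent.S9980
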