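import Groth.Statements.S9986
import Groth.Agent.R2.H95SchDenseSp
import Groth.Agent.R2.H48OpenCompl
import Groth.Agent.Lib.Helper12SchDense

set_option autoImplicit false
universe u
open CategoryTheory CategoryTheory.Limits AlgebraicGeometry
open AlgSp

namespace Groth.Agent.S9986

namespace Aux

open Groth.Agent.R2.H95.SchDenseSp Opposite

variable {S : Scheme.{u}}

/-- Normal form of a pullback of `j` along a chart whose projection is an open immersion. -/
theorem isPullback_opensRange {F G : AlgSp.Sp S} (j : G ⟶ F) {V P : Over S}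
    (φ : (AlgSp.yon S).obj V ⟶ F) (p : P ⟶ V) [IsOpenImmersion p.left]
    (fstP : (AlgSp.yon S).obj P ⟶ G) (sq : IsPullback fstP ((AlgSp.yon S).map p) j φ) :
    ∃ fst' : (AlgSp.yon S).obj (opn V p.left.opensRange) ⟶ G,
      IsPullback fst' ((AlgSp.yon S).map (opnι V p.left.opensRange)) j φ := by
  let W : V.left.Opens := p.left.opensRange
  let e₀ : P.left ≅ W.toScheme := IsOpenImmersion.isoOfRangeEq p.left W.ι (by simp [W])
  have he₀ : e₀.hom ≫ W.ι = p.left := IsOpenImmersion.isoOfRangeEq_hom_fac _ _ _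
  let e : P ⟶ opn V W := Over.homMk e₀.hom (by
    show e₀.hom ≫ W.ι ≫ V.hom = P.hom
    rw [← Category.assoc, he₀]
    exact Over.w p)
  have : IsIso ((Over.forget S).map e) := inferInstanceAs (IsIso e₀.hom)
  have : IsIso e := isIso_of_reflects_iso e (Over.forget S)
  have he : e ≫ opnι V W = p := by
    ext
    exact he₀
  refine ⟨(AlgSp.yon S).map (inv e) ≫ fstP, ?_⟩
  have hι : (AlgSp.yon S).map (opnι V W) = (AlgSp.yon S).map (inv e) ≫ (AlgSp.yon S).map p := by
    rw [← Functor.map_comp, ← he, IsIso.inv_hom_id_assoc]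
  rw [hι]
  exact IsPullback.of_iso sq ((AlgSp.yon S).mapIso (asIso e)) (Iso.refl _) (Iso.refl _) (Iso.refl _)
    (by simp) (by simp) (by simp) (by simp)

theorem injective_res_congr {X : Scheme.{u}} {A A' B B' : X.Opens} (hA : A = A') (hB : B = B')
    (h : B ≤ A) (h' : B' ≤ A') :
    Function.Injective (X.presheaf.map (homOfLE h).op).hom ↔
      Function.Injective (X.presheaf.map (homOfLE h').op).hom := by
  subst hA hB
  rfl

theorem appLE_bijective {X Y : Scheme.{u}} (f : X ⟶ Y) [IsOpenImmersion f] (O : Y.Opens)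
    (hO : O ≤ f.opensRange) (W : X.Opens) (e : W = f ⁻¹ᵁ O) :
    Function.Bijective (f.appLE O W e.le) := by
  subst e
  rw [Scheme.Hom.appLE_eq_app]
  have := f.isIso_app O hO
  exact ConcreteCategory.bijective_of_isIso (f.app O)

/-- For an open immersion, injectivity of `appTop` is injectivity of restriction to the range. -/
theorem injective_appTop_iff {P V : Scheme.{u}} (ι : P ⟶ V) [IsOpenImmersion ι] :
    Function.Injective ι.appTop.hom ↔
      Function.Injective (V.presheaf.map (homOfLE (le_top : ι.opensRange ≤ ⊤)).op).hom := by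
  have he : (⊤ : P.Opens) = ι ⁻¹ᵁ ι.opensRange := by
    ext x
    simp
  have hbij := appLE_bijective ι ι.opensRange le_rfl ⊤ he
  have hcomp : V.presheaf.map (homOfLE (le_top : ι.opensRange ≤ ⊤)).op ≫
      ι.appLE ι.opensRange ⊤ he.le = ι.appTop := by
    rw [Scheme.Hom.map_appLE]
    exact (Scheme.Hom.app_eq_appLE ι).symm
  rw [← hcomp, CommRingCat.hom_comp, RingHom.coe_comp]
  constructor
  · intro h
    exact Function.Injective.of_comp h
  · intro h
    exact hbij.1.comp h

/-- The component of `O_X ⟶ f_* O_{X'}` at `E = (V ⟶ X)` is pullback of functions along the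
projection `V ×_X X' ⟶ V`. -/
theorem injective_bcRingHom_app_iff {X' X : AlgSp.Sp S} {f : X' ⟶ X} (hf : AlgSp.Representable f)
    (E : AlgSp.EtOver X) :
    Function.Injective ((AlgSp.bcRingHom hf).hom.app (op E)).hom ↔
      Function.Injective ((hf.snd E.obj.hom).left.appTop).hom := by
  have key : ∀ s : ((AlgSp.OEtRing X).obj.obj (op E)),
      ((AlgSp.bcRingHom hf).hom.app (op E)).hom s =
        ULift.up (((hf.snd E.obj.hom).left.appTop).hom s.down) := fun s => rfl
  constructor
  · intro h a b hab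
    have := @h (ULift.up a) (ULift.up b)
      ((key _).trans ((congrArg ULift.up hab).trans (key _).symm))
    exact congrArg ULift.down this
  · intro h s t hst
    have h2 := (key s).symm.trans (hst.trans (key t))
    have := h (congrArg ULift.down h2)
    exact ULift.ext _ _ this

theorem injective_app_of_isSchDense {U X : AlgSp.Sp S} (j : U ⟶ X)
    (hj : AlgSp.RepWith @IsOpenImmersion j) (h : AlgSp.IsSchDense j) (E : AlgSp.EtOver X) :
    Function.Injective ((AlgSp.bcRingHom hj.1).hom.app (op E)).hom := by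
  obtain ⟨_, V₁, φ₁, W₁, fst₁, hφ₁e, hφ₁s, sq₁, hW₁⟩ := h
  rw [injective_bcRingHom_app_iff]
  have sqE := hj.1.isPullback E.obj.hom
  have hp : IsOpenImmersion (hj.1.snd E.obj.hom).left := hj.2 _ _ _ sqE
  obtain ⟨fst', sq'⟩ := isPullback_opensRange j E.obj.hom (hj.1.snd E.obj.hom) _ sqE
  have hd : CInt.IsSchematicallyDense (hj.1.snd E.obj.hom).left.opensRange :=
    isSchematicallyDense_chart j φ₁ hφ₁e hφ₁s W₁ fst₁ sq₁ hW₁ E.obj.hom E.property _ fst' sq'
  rw [injective_appTop_iff]
  have h1 := hd ⊤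
  exact (injective_res_congr rfl (top_inf_eq _) inf_le_left le_top).1 h1

theorem mono_of_isSchDense {U X : AlgSp.Sp S} (j : U ⟶ X)
    (hj : AlgSp.RepWith @IsOpenImmersion j) (h : AlgSp.IsSchDense j) :
    Mono (AlgSp.bcRingHom hj.1) := by
  have : ∀ E, Mono ((AlgSp.bcRingHom hj.1).hom.app E) := fun E =>
    ConcreteCategory.mono_of_injective _ (injective_app_of_isSchDense j hj h E.unop)
  have : Mono (AlgSp.bcRingHom hj.1).hom := NatTrans.mono_of_mono_app _
  exact Sheaf.Hom.mono_of_presheaf_mono _ _ _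

theorem injective_app_of_mono {U X : AlgSp.Sp S} (j : U ⟶ X)
    (hj : AlgSp.RepWith @IsOpenImmersion j) [Mono (AlgSp.bcRingHom hj.1)] (E : AlgSp.EtOver X) :
    Function.Injective ((AlgSp.bcRingHom hj.1).hom.app (op E)).hom := by
  have h1 : Mono ((sheafToPresheaf _ _).map (AlgSp.bcRingHom hj.1)) := inferInstance
  have h2 : Mono (((evaluation _ _).obj (op E)).map
      ((sheafToPresheaf _ _).map (AlgSp.bcRingHom hj.1))) := inferInstance
  exact ConcreteCategory.injective_of_mono_of_preservesPullback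
    ((AlgSp.bcRingHom hj.1).hom.app (op E))

theorem injective_res_toScheme {X : Scheme.{u}} (V : X.Opens) (O : V.toScheme.Opens)
    (h : V.ι ''ᵁ O ≤ V) :
    Function.Injective (V.toScheme.presheaf.map (homOfLE (le_top : O ≤ ⊤)).op).hom ↔
      Function.Injective (X.presheaf.map (homOfLE h).op).hom := by
  have h1 : V.ι ''ᵁ O ≤ V.ι ''ᵁ ⊤ := by
    rw [Scheme.Opens.ι_image_top]; exact h
  have := injective_res_congr (X := X) (A := V.ι ''ᵁ ⊤) (A' := V) (B := V.ι ''ᵁ O)
    (B' := V.ι ''ᵁ O) (Scheme.Opens.ι_image_top V) rfl h1 h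
  rw [← this]
  rfl

theorem injective_res_toScheme' {X : Scheme.{u}} (V : X.Opens) (O O' : V.toScheme.Opens)
    (hO : O' = O) (h : V.ι ''ᵁ O ≤ V) :
    Function.Injective (V.toScheme.presheaf.map (homOfLE (le_top : O' ≤ ⊤)).op).hom ↔
      Function.Injective (X.presheaf.map (homOfLE h).op).hom := by
  subst hO
  exact injective_res_toScheme V O' h

theorem isSchematicallyDense_of_injective {U X : AlgSp.Sp S} (j : U ⟶ X)
    (hj : AlgSp.RepWith @IsOpenImmersion j)
    (hinj : ∀ E : AlgSp.EtOver X,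
      Function.Injective ((AlgSp.bcRingHom hj.1).hom.app (op E)).hom)
    {V₁ : Over S} (φ₁ : (AlgSp.yon S).obj V₁ ⟶ X) (hφ₁e : AlgSp.RepWith @Etale φ₁)
    (W₁ : V₁.left.Opens) (fst₁ : (AlgSp.yon S).obj (opn V₁ W₁) ⟶ U)
    (sq₁ : IsPullback fst₁ ((AlgSp.yon S).map (opnι V₁ W₁)) j φ₁) :
    CInt.IsSchematicallyDense W₁ := by
  intro V'
  have hι : AlgSp.RepWith @Etale ((AlgSp.yon S).map (opnι V₁ V')) :=
    (AlgSp.repWith_yon_map_iff @Etale (opnι V₁ V')).2 (inferInstanceAs (Etale V'.ι))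
  have := AlgSp.repWith_isMultiplicative (S := S) @Etale
  have hE : AlgSp.RepWith @Etale ((AlgSp.yon S).map (opnι V₁ V') ≫ φ₁) :=
    (AlgSp.RepWith @Etale).comp_mem _ _ hι hφ₁e
  let E' : AlgSp.EtOver X := AlgSp.EtOver.mk _ hE
  have h1 := hinj E'
  rw [injective_bcRingHom_app_iff] at h1
  have sqE := hj.1.isPullback E'.obj.hom
  have hp : IsOpenImmersion (hj.1.snd E'.obj.hom).left := hj.2 _ _ _ sqE
  obtain ⟨fst', sq'⟩ := isPullback_opensRange j E'.obj.hom (hj.1.snd E'.obj.hom) _ sqE
  rw [injective_appTop_iff] at h1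
  have heq : (hj.1.snd E'.obj.hom).left.opensRange = V'.ι ⁻¹ᵁ W₁ := by
    have := preimage_eq_of_isPullback j φ₁ E'.obj.hom (opnι V₁ V') (𝟙 _)
      ((congrArg (· ≫ E'.obj.hom) ((AlgSp.yon S).map_id _)).trans (Category.id_comp _)).symm
      W₁ fst₁ sq₁ _ fst' sq'
    exact this.symm
  have hle : V'.ι ''ᵁ (V'.ι ⁻¹ᵁ W₁) ≤ V' := by
    rw [Groth.Agent.Lib.Helper12.SchDense.image_preimage_ι]
    exact inf_le_right
  have h2 := (injective_res_toScheme' V' (V'.ι ⁻¹ᵁ W₁) _ heq hle).1 h1
  have h3 := (injective_res_congr (X := V₁.left) rfl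
    ((Groth.Agent.Lib.Helper12.SchDense.image_preimage_ι V' W₁).trans (inf_comm _ _))
    hle inf_le_left).1 h2
  exact h3

end Aux

/-- For an open immersion j : U -> X of algebraic spaces, U is scheme theoretically dense in X exactly
when the comparison map from O_X to j_* O_U on the small etale site of X is a monomorphism of
sheaves of rings. -/
theorem result {S : Scheme.{u}} {U X : AlgSp.Space S} (j : U ⟶ X)
    (hj : AlgSp.RepWith @IsOpenImmersion j.hom) :
    AlgSp.IsSchDense j.hom ↔ Mono (AlgSp.bcRingHom hj.1) := by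
  constructor
  · exact Aux.mono_of_isSchDense j.hom hj
  · intro hm
    obtain ⟨V₁, φ₁, hφ₁e, hφ₁s⟩ := X.property.atlas
    obtain ⟨W₁, fst₁, sq₁, -⟩ := Groth.Agent.R2.H48.OpenCompl.exists_open_chart hj φ₁
    exact ⟨hj, V₁, φ₁, W₁, fst₁, hφ₁e, hφ₁s, sq₁,
      Aux.isSchematicallyDense_of_injective j.hom hj
        (fun E => Aux.injective_app_of_mono j.hom hj E) φ₁ hφ₁e W₁ fst₁ sq₁⟩

end Groth.Agent.S9986
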