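import Groth.Statements.S9987
-- import your own Groth.Agent.* helpers here
import Groth.Agent.R2.H48ModEt

set_option autoImplicit false
set_option linter.style.haveILetI false
universe u
open CategoryTheory CategoryTheory.Limits AlgebraicGeometry
open AlgSp

namespace Groth.Agent.S9987

set_option backward.isDefEq.respectTransparency false

open Groth.Agent.R2.H48.ModEt Opposite

/-- For a closed immersion i : Z ⟶ X of algebraic spaces over S (representable, every base change to a
scheme a closed immersion), the comparison map O_X ⟶ i_* O_Z of sheaves of rings on the small etale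
site of X is locally surjective. (The published statement also asserts that i_* O_Z is a
quasi-coherent O_X-module and that the kernel of O_X ⟶ i_* O_Z is a quasi-coherent sheaf of ideals;
those two assertions are the closed-immersion cases of the general facts that direct images along
quasi-compact quasi-separated morphisms preserve quasi-coherence and that the kernel ideal of a
quasi-compact morphism is quasi-coherent, a closed immersion being quasi-compact and separated, and
only the surjectivity is stated here.) -/
theorem result {S : Scheme.{u}} {Z X : AlgSp.Space S} (i : Z ⟶ X)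
    (hi : AlgSp.RepWith @IsClosedImmersion i.hom) :
    Presheaf.IsLocallySurjective (AlgSp.etTop X.obj) (AlgSp.bcRingHom hi.1).hom := by
  refine ⟨fun {E} s => ?_⟩
  refine (AlgSp.etTop X.obj).superset_covering ?_ (affine_cover_mem E)
  rw [Sieve.ofArrows, Sieve.generate_le_iff]
  rintro _ _ ⟨W⟩
  haveI : IsAffine (openSub E W.1).obj.left.left := W.2
  haveI : IsClosedImmersion (hi.1.snd (openSub E W.1).obj.hom).left :=
    hi.2 _ _ _ (hi.1.isPullback _)
  obtain ⟨-, hsurj⟩ := IsClosedImmersion.isAffine_surjective_of_isAffine
    (hi.1.snd (openSub E W.1).obj.hom).left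
  change ∃ t, _ = _
  generalize (ConcreteCategory.hom
    ((((EtOver.bc hi.1).sheafPushforwardContinuous RingCat (etTop X.obj) (etTop Z.obj)).obj
      (OEtRing Z.obj)).obj.map (openSubι E W.1).op)) s = s'
  have hs' : ∃ b : Γ((hi.1.pullback (openSub E W.1).obj.hom).left, ⊤), s' = ULift.up b := ⟨s'.down, rfl⟩
  obtain ⟨b, rfl⟩ := hs'
  obtain ⟨a, ha⟩ := hsurj b
  refine ⟨ULift.up a, ?_⟩
  exact congrArg ULift.up ha

end Groth.Agent.S9987
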