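-- Statement S9995 (AlgSp.finite_setOf_quasiFiniteAt_over_point).
-- Proof: fix an atlas of Y, an affine open neighbourhood V0 of a point over y; the base change of X to V0 is a
-- quasi-compact algebraic space, so it has an etale chart by a quasi-compact scheme U, and h : U -> V0 is of
-- finite type.  The quasi-finite points of h in the fibre over the point form a finite set (discrete and
-- quasi-compact, the fibre being Noetherian).  Any point x over y that is quasi-finite in SOME chart diagram is
-- the image of such a point: compare the two charts on U x_X U' and V0 x_Y V', using that quasi-finiteness at a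
-- point passes through etale maps and descends along flat maps on the source (faithfully flat descent of
-- `Algebra.QuasiFinite`).
import Groth.Statements.S9995
import Mathlib
import Groth.Agent.S10175
import Groth.Agent.S10176
import Groth.Agent.S9906
import Groth.Agent.S9874

set_option autoImplicit false
set_option linter.style.haveILetI false
universe u
open CategoryTheory CategoryTheory.Limits AlgebraicGeometry TensorProduct
open AlgSp

namespace Groth.Agent.S9995

section Ring
variable {A B C : Type*} [CommRing A] [CommRing B] [CommRing C]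
  [Algebra A B] [Algebra B C] [Algebra A C] [IsScalarTower A B C]

/-- quasi-finiteness descends along a faithfully flat extension of the target. -/
lemma quasiFinite_of_faithfullyFlat [Module.FaithfullyFlat B C] [Algebra.QuasiFinite A C] :
    Algebra.QuasiFinite A B := by
  refine ⟨fun P _ => ?_⟩
  let κ := P.ResidueField
  let φ : κ ⊗[A] B →ₗ[κ] κ ⊗[A] C := (IsScalarTower.toAlgHom A B C).toLinearMap.baseChange κ
  have hφ : Function.Injective φ := by
    have h1 := Module.FaithfullyFlat.tensorProduct_mk_injective (A := B) (B := C) (B ⊗[A] κ)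
    let e := TensorProduct.AlgebraTensorModule.cancelBaseChange A B C C κ
    have h2 : Function.Injective (fun m : B ⊗[A] κ => e (TensorProduct.mk B C (B ⊗[A] κ) 1 m)) :=
      e.injective.comp h1
    have h3 : ∀ m : B ⊗[A] κ, e (TensorProduct.mk B C (B ⊗[A] κ) 1 m) =
        (IsScalarTower.toAlgHom A B C).toLinearMap.rTensor κ m := by
      intro m
      induction m using TensorProduct.induction_on with
      | zero => simp
      | tmul b k => simp [e, Algebra.smul_def]
      | add x y hx hy => simp only [map_add, hx, hy]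
    have h4 : Function.Injective ((IsScalarTower.toAlgHom A B C).toLinearMap.rTensor κ) := by
      intro x y hxy
      apply h2
      simp only [h3, hxy]
    intro x y hxy
    have : (TensorProduct.comm A κ B) x = (TensorProduct.comm A κ B) y := by
      apply h4
      have hc : ∀ z : κ ⊗[A] B, (IsScalarTower.toAlgHom A B C).toLinearMap.rTensor κ
          (TensorProduct.comm A κ B z) = TensorProduct.comm A κ C (φ z) := by
        intro z
        induction z using TensorProduct.induction_on with
        | zero => simp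
        | tmul k b => simp [φ]
        | add x y hx hy => simp only [map_add, hx, hy]
      rw [hc, hc, hxy]
    exact (TensorProduct.comm A κ B).injective this
  have : Module.Finite κ (κ ⊗[A] C) := Algebra.QuasiFinite.finite_fiber P
  exact Module.Finite.of_injective φ hφ

lemma _root_.RingHom.QuasiFinite.of_comp_of_faithfullyFlat {A B C : Type*} [CommRing A] [CommRing B]
    [CommRing C] {f : A →+* B} {g : B →+* C} (h : (g.comp f).QuasiFinite) (hg : g.FaithfullyFlat) :
    f.QuasiFinite := by
  algebraize [f, g, g.comp f]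
  exact quasiFinite_of_faithfullyFlat (A := A) (B := B) (C := C)
end Ring

section Sch

lemma lqf_of_etale {X Y : Scheme.{u}} (f : X ⟶ Y) [Etale f] : LocallyQuasiFinite f := by
  constructor
  intro U hU V hV e
  have h1 : (f.appLE U V e).hom.FiniteType :=
    HasRingHomProperty.appLE (P := @LocallyOfFiniteType) f inferInstance ⟨U, hU⟩ ⟨V, hV⟩ e
  have h2 : (f.appLE U V e).hom.FormallyUnramified :=
    HasRingHomProperty.appLE (P := @FormallyUnramified) f inferInstance ⟨U, hU⟩ ⟨V, hV⟩ e
  algebraize [(f.appLE U V e).hom]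
  rw [← RingHom.algebraMap_toAlgebra (f.appLE U V e).hom, RingHom.quasiFinite_algebraMap]
  infer_instance

/-- quasi-finiteness at a point descends along a flat morphism on the source. -/
lemma quasiFiniteAt_of_comp_flat {W U V : Scheme.{u}} (e : W ⟶ U) (h : U ⟶ V) [Flat e] (x : W)
    (hx : (e ≫ h).QuasiFiniteAt x) : h.QuasiFiniteAt (e x) := by
  simp only [Scheme.Hom.QuasiFiniteAt, Scheme.Hom.stalkMap_comp] at hx ⊢
  refine RingHom.QuasiFinite.of_comp_of_faithfullyFlat (g := (e.stalkMap x).hom) hx ?_
  algebraize [(e.stalkMap x).hom]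
  have : Module.FaithfullyFlat (U.presheaf.stalk (e x)) (W.presheaf.stalk x) :=
    @Module.FaithfullyFlat.of_flat_of_isLocalHom _ _ _ _ _ _ _
      (Flat.stalkMap e x) (e.toLRSHom.prop x)
  exact ‹RingHom.FaithfullyFlat _›

/-- precomposing with a locally quasi-finite morphism preserves quasi-finiteness at a point. -/
lemma quasiFiniteAt_comp_of_lqf {W U V : Scheme.{u}} (e : W ⟶ U) (h : U ⟶ V) [LocallyQuasiFinite e]
    (x : W) (hx : h.QuasiFiniteAt (e x)) : (e ≫ h).QuasiFiniteAt x := by
  have h1 := e.quasiFiniteAt x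
  simp only [Scheme.Hom.QuasiFiniteAt, Scheme.Hom.stalkMap_comp] at hx h1 ⊢
  exact RingHom.QuasiFinite.comp h1 hx

/-- for a morphism of finite type, only finitely many points of a fibre are quasi-finite points. -/
lemma finite_quasiFiniteAt_fibre {U V : Scheme.{u}} (h : U ⟶ V) [LocallyOfFiniteType h]
    [QuasiCompact h] (v : V) : {u : U | h u = v ∧ h.QuasiFiniteAt u}.Finite := by
  haveI : LocallyOfFiniteType (h.fiberToSpecResidueField v) :=
    MorphismProperty.pullback_snd _ _ inferInstance
  haveI : IsLocallyNoetherian (h.fiber v) :=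
    LocallyOfFiniteType.isLocallyNoetherian (h.fiberToSpecResidueField v)
  haveI : IsNoetherian (h.fiber v) := {}
  have hN : TopologicalSpace.NoetherianSpace (h ⁻¹' {v}) :=
    (TopologicalSpace.noetherianSpace_iff_of_homeomorph (h.fiberHomeo v)).mp inferInstance
  have hc : IsCompact {u : U | h u = v ∧ h.QuasiFiniteAt u} :=
    (TopologicalSpace.noetherianSpace_set_iff (h ⁻¹' {v})).mp hN _ (fun u hu => hu.1)
  let Ω := h.quasiFiniteLocus
  have hd : _root_.IsDiscrete ((Ω.ι ≫ h) ⁻¹' {v}) := (Ω.ι ≫ h).isDiscrete_preimage_singleton v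
  have hd' : _root_.IsDiscrete (Ω.ι '' ((Ω.ι ≫ h) ⁻¹' {v})) :=
    hd.image Ω.ι.isEmbedding.isInducing
  refine hc.finite (hd'.mono ?_)
  rintro u ⟨hu1, hu2⟩
  exact ⟨⟨u, hu2⟩, by simpa using hu1, rfl⟩

end Sch

variable {S : Scheme.{u}}

/-- every point of `h_U` comes from a point of `U`. -/
lemma exists_ofScheme (U : Over S) (p : Points ((yon S).obj U)) :
    ∃ u : U.left, Points.ofScheme U u = p :=
  ⟨Points.toScheme U p, Points.ofScheme_toScheme U p⟩

/-- a point of a scheme chart over a pair of points. -/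
lemma exists_point_chart {F : Sp S} {A B C : Over S} {f : (yon S).obj A ⟶ F}
    {g : (yon S).obj B ⟶ F} {p : C ⟶ A} {q : C ⟶ B}
    (sq : IsPullback ((yon S).map p) ((yon S).map q) f g) (a : A.left) (b : B.left)
    (hab : Points.ofPt f a = Points.ofPt g b) : ∃ c : C.left, p.left c = a ∧ q.left c = b := by
  obtain ⟨z, hz1, hz2⟩ := Groth.Agent.S10175.exists_point_of_isPullback sq
    (Points.ofScheme A a) (Points.ofScheme B b)
    (by rw [← Points.ofPt_eq_map_ofScheme, ← Points.ofPt_eq_map_ofScheme, hab])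
  obtain ⟨c, rfl⟩ := exists_ofScheme C z
  refine ⟨c, ?_, ?_⟩
  · have := congrArg (Points.toScheme A) hz1
    rwa [← Points.ofPt_eq_map_ofScheme, Points.toScheme_ofPt, Points.toScheme_ofScheme] at this
  · have := congrArg (Points.toScheme B) hz2
    rwa [← Points.ofPt_eq_map_ofScheme, Points.toScheme_ofPt, Points.toScheme_ofScheme] at this

/-- For a morphism f : X ⟶ Y of algebraic spaces of finite type and a point y of |Y|, the set of points
of |X| over y where f is quasi-finite is finite (in the neighbourhood sense, through some chart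
diagram). -/
theorem result {S : Scheme.{u}} {X Y : AlgSp.Space S} (f : X ⟶ Y)
    (hf : AlgSp.IsFiniteTypeMor f.hom) (y : AlgSp.Points Y.obj) :
    {x : AlgSp.Points X.obj | AlgSp.Points.map f.hom x = y ∧
      AlgSp.HasAtMor (fun U _ h u => ∃ W : U.Opens, u ∈ W ∧ LocallyQuasiFinite (W.ι ≫ h) ∧
        LocallyOfFiniteType (W.ι ≫ h)) f.hom x}.Finite := by
  obtain ⟨hlft, hqc⟩ := hf
  -- an atlas of `Y` and a point over `y`
  obtain ⟨V, b, hbe, hbs⟩ := Y.property.atlas
  obtain ⟨q, hq⟩ := Groth.Agent.S9906.surjective_map_of_repWith b hbs y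
  obtain ⟨v, rfl⟩ := exists_ofScheme V q
  rw [← Points.ofPt_eq_map_ofScheme] at hq
  -- an affine open neighbourhood of `v`
  obtain ⟨_, ⟨(V₀ : V.left.Opens), hV₀, rfl⟩, hvV₀, -⟩ := V.left.isBasis_affineOpens.exists_subset_of_mem_open
    (Set.mem_univ v) isOpen_univ
  let V0 : Over S := Over.mk (V₀.ι ≫ V.hom)
  let j : V0 ⟶ V := Over.homMk V₀.ι rfl
  let v₀ : V0.left := ⟨v, hvV₀⟩
  haveI : IsAffine V0.left := hV₀
  have hjv : j.left v₀ = v := rfl
  let b₀ : (yon S).obj V0 ⟶ Y.obj := (yon S).map j ≫ b
  have hb₀ : RepWith @Etale b₀ :=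
    (RepWith @Etale).comp_mem _ _
      ((repWith_yon_map_iff _ _).2 (inferInstanceAs (Etale V₀.ι))) hbe
  have hyv₀ : Points.ofPt b₀ v₀ = y := by
    rw [Groth.Agent.S10176.ofPt_map_comp, hjv, hq]
  -- the base change of `X` to `V0` is a quasi-compact algebraic space
  have hqcV0 : IsQuasiCompactSp ((yon S).obj V0) :=
    ⟨V0, 𝟙 _, repWith_id _ V0, repWith_id _ V0,
      (inferInstance : CompactSpace V0.left)⟩
  have hZqc : IsQuasiCompactSp (pullback f.hom b₀) :=
    hqc (IsAlgSpace.yon_obj V0) hqcV0 b₀ (pullback.fst f.hom b₀) (pullback.snd f.hom b₀)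
      (IsPullback.of_hasPullback f.hom b₀)
  obtain ⟨U, a', ha'e, ha's, hUc⟩ := hZqc
  haveI : CompactSpace U.left := hUc
  have hfst : RepWith @Etale (pullback.fst f.hom b₀) :=
    MorphismProperty.of_isPullback (P := RepWith @Etale)
      (IsPullback.of_hasPullback f.hom b₀).flip hb₀
  obtain ⟨a, ha_def⟩ : ∃ a : (yon S).obj U ⟶ X.obj, a = a' ≫ pullback.fst f.hom b₀ := ⟨_, rfl⟩
  have ha : RepWith @Etale a := ha_def ▸ (RepWith @Etale).comp_mem _ _ ha'e hfst
  obtain ⟨h, hh⟩ := (yon S).map_surjective (a' ≫ pullback.snd f.hom b₀)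
  have hcomm : a ≫ f.hom = (yon S).map h ≫ b₀ := by
    rw [ha_def, hh, Category.assoc, Category.assoc, pullback.condition]
  haveI : LocallyOfFiniteType h.left := hlft a b₀ h ha hb₀ hcomm
  haveI : QuasiCompact h.left :=
    (HasAffineProperty.iff_of_isAffine (P := @QuasiCompact) (f := h.left)).mpr
      (inferInstance : CompactSpace U.left)
  -- the finite set of quasi-finite points over `v₀`
  have hfin := finite_quasiFiniteAt_fibre h.left v₀
  refine (hfin.image (Points.ofPt a)).subset ?_
  rintro x ⟨hx, U', V', a₁, b₁, h₁, u', ha₁, hb₁, hcomm₁, hu', W, hu'W, hW1, hW2⟩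
  -- a point `u` of `U` over `x` and `v₀`
  obtain ⟨p, hp1, hp2⟩ := Groth.Agent.S10175.exists_point_of_isPullback
    (IsPullback.of_hasPullback f.hom b₀) x (Points.ofScheme V0 v₀)
    (by rw [← Points.ofPt_eq_map_ofScheme, hyv₀, hx])
  obtain ⟨pu, hpu⟩ := Groth.Agent.S9906.surjective_map_of_repWith a' ha's p
  obtain ⟨u, rfl⟩ := exists_ofScheme U pu
  rw [← Points.ofPt_eq_map_ofScheme] at hpu
  have hux : Points.ofPt a u = x := by
    rw [ha_def, ← Points.map_ofPt, hpu, hp1]
  have huv : h.left u = v₀ := by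
    have h2 : Points.ofPt ((yon S).map h) u = Points.ofScheme V0 v₀ := by
      rw [hh, ← Points.map_ofPt, hpu, hp2]
    have := congrArg (Points.toScheme V0) h2
    rwa [Points.toScheme_ofPt, Points.toScheme_ofScheme] at this
  refine ⟨u, ⟨huv, ?_⟩, hux⟩
  -- compare the two charts on `U ×_X U'` and `V0 ×_Y V'`
  obtain ⟨U'', e₁, e', sqU⟩ := ha.1 a₁
  obtain ⟨e, rfl⟩ := (yon S).map_surjective e'
  haveI : Etale e₁.left := ha.2 _ _ e₁ sqU
  haveI : Etale e.left := ha₁.2 _ _ e sqU.flip
  obtain ⟨u'', hu''1, hu''2⟩ := exists_point_chart sqU u u' (by rw [hux, hu'])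
  obtain ⟨V'', p₁, p', sqV⟩ := hb₀.1 b₁
  obtain ⟨p₀, rfl⟩ := (yon S).map_surjective p'
  haveI : Etale p₁.left := hb₀.2 _ _ p₁ sqV
  haveI : Etale p₀.left := hb₁.2 _ _ p₀ sqV.flip
  have hw : (yon S).map (e ≫ h) ≫ b₀ = (yon S).map (e₁ ≫ h₁) ≫ b₁ := by
    rw [Functor.map_comp, Functor.map_comp, Category.assoc, Category.assoc, ← hcomm, ← hcomm₁,
      ← Category.assoc, ← Category.assoc, sqU.w]
  obtain ⟨h'', hh''⟩ := (yon S).map_surjective (sqV.lift _ _ hw)
  have hh''1 : h'' ≫ p₀ = e ≫ h := by
    apply (yon S).map_injective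
    rw [Functor.map_comp, hh'', sqV.lift_fst]
  have hh''2 : h'' ≫ p₁ = e₁ ≫ h₁ := by
    apply (yon S).map_injective
    rw [Functor.map_comp, hh'', sqV.lift_snd]
  have hl1 : h''.left ≫ p₀.left = e.left ≫ h.left := by
    rw [← Over.comp_left, ← Over.comp_left, hh''1]
  have hl2 : h''.left ≫ p₁.left = e₁.left ≫ h₁.left := by
    rw [← Over.comp_left, ← Over.comp_left, hh''2]
  haveI := lqf_of_etale e₁.left
  haveI := lqf_of_etale p₁.left
  haveI := lqf_of_etale p₀.left
  -- quasi-finiteness of `h₁` at `u'`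
  have q1 : h₁.left.QuasiFiniteAt u' := by
    haveI := hW1
    have := (W.ι ≫ h₁.left).quasiFiniteAt ⟨u', hu'W⟩
    rwa [Scheme.Hom.quasiFiniteAt_comp_iff_of_isOpenImmersion] at this
  have q2 : (e₁.left ≫ h₁.left).QuasiFiniteAt u'' :=
    quasiFiniteAt_comp_of_lqf e₁.left h₁.left u'' (by rw [hu''2]; exact q1)
  rw [← hl2, Scheme.Hom.quasiFiniteAt_comp_iff] at q2
  have q3 : (h''.left ≫ p₀.left).QuasiFiniteAt u'' := by
    rw [Scheme.Hom.quasiFiniteAt_comp_iff]; exact q2
  rw [hl1] at q3
  have q4 := quasiFiniteAt_of_comp_flat e.left h.left u'' q3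
  rwa [hu''1] at q4

end Groth.Agent.S9995
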