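import Groth.Statements.S9997
-- import your own Groth.Agent.* helpers here
import Groth.Agent.R2.H43CutOut
import Groth.Agent.S9961

set_option autoImplicit false
universe u
open CategoryTheory CategoryTheory.Limits AlgebraicGeometry Opposite
open AlgSp

namespace Groth.Agent.S9997

set_option backward.isDefEq.respectTransparency false in
/-- A closed immersion i : Z ⟶ X of algebraic spaces is (locally) of finite presentation if and only if
its sheaf of ideals is of finite type; finite type is rendered chart by chart, as finite generation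
of the kernel ideal Ker(Γ(U, O_U) → Γ(Z ×_X U, O)) for every affine etale chart U of X (for a
quasi-coherent sheaf of ideals the two readings agree by descent of finite generation along etale
coverings). -/
theorem result {S : Scheme.{u}} {Z X : AlgSp.Space S} (i : Z ⟶ X)
    (hi : AlgSp.RepWith @IsClosedImmersion i.hom) :
    AlgSp.LocP @LocallyOfFinitePresentation i.hom ↔
      ∀ (E : AlgSp.EtOver X.obj) (hE : IsAffine E.obj.left.left), ((AlgSp.idealOfRep hi.1).ideal E hE).FG := by
  constructor
  · intro hloc E hE
    haveI := hE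
    have ha : AlgSp.RepWith @Etale (hi.1.fst E.obj.hom) :=
      MorphismProperty.of_isPullback (hi.1.isPullback E.obj.hom).flip E.property
    haveI : LocallyOfFinitePresentation (hi.1.snd E.obj.hom).left :=
      hloc (hi.1.fst E.obj.hom) E.obj.hom (hi.1.snd E.obj.hom) ha E.property (hi.1.w _)
    haveI : IsClosedImmersion (hi.1.snd E.obj.hom).left := hi.2 _ _ _ (hi.1.isPullback E.obj.hom)
    exact Groth.Agent.R2.H43.CutOut.fg_of_lfp (hi.1.snd E.obj.hom).left
  · intro hfg U V a b h ha hb hcomm
    obtain ⟨XV, ι, b'', σ, sq, hσ, hσe⟩ :=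
      Groth.Agent.S9961.exists_factor_of_representable i.hom hi.1 a b h ha hb hcomm
    haveI := hσe
    suffices hι : LocallyOfFinitePresentation ι.left by
      have e1 : h.left = σ.left ≫ ι.left := by rw [← Over.comp_left, hσ]
      rw [e1]
      exact (inferInstance : LocallyOfFinitePresentation (σ.left ≫ ι.left))
    let 𝒱 := V.left.affineCover
    refine IsZariskiLocalAtTarget.of_openCover (P := @LocallyOfFinitePresentation) 𝒱 (fun k => ?_)
    let O : Over S := Over.mk (𝒱.f k ≫ V.hom)
    let j : O ⟶ V := Over.homMk (𝒱.f k) rfl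
    have hje : AlgSp.RepWith @Etale ((AlgSp.yon S).map j ≫ b) :=
      (AlgSp.RepWith @Etale).comp_mem _ _
        ((AlgSp.repWith_yon_map_iff _ _).2 (inferInstance : Etale (𝒱.f k))) hb
    let E : AlgSp.EtOver X.obj := AlgSp.EtOver.mk ((AlgSp.yon S).map j ≫ b) hje
    haveI hE : IsAffine E.obj.left.left := (inferInstance : IsAffine (𝒱.X k))
    haveI : IsClosedImmersion (hi.1.snd E.obj.hom).left := hi.2 _ _ _ (hi.1.isPullback E.obj.hom)
    haveI hc : LocallyOfFinitePresentation (hi.1.snd E.obj.hom).left :=
      Groth.Agent.R2.H43.CutOut.lfp_of_fg _ (hfg E hE)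
    -- the comparison map to `XV`
    have hw : hi.1.fst E.obj.hom ≫ i.hom = (AlgSp.yon S).map (hi.1.snd E.obj.hom ≫ j) ≫ b := by
      rw [hi.1.w, Functor.map_comp, Category.assoc]
      rfl
    obtain ⟨m, hm⟩ := (AlgSp.yon S).map_surjective (sq.lift _ _ hw)
    have hm1 : (AlgSp.yon S).map m ≫ b'' = hi.1.fst E.obj.hom := by rw [hm, sq.lift_fst]
    have hm2 : m ≫ ι = hi.1.snd E.obj.hom ≫ j := by
      apply (AlgSp.yon S).map_injective
      rw [Functor.map_comp, hm, sq.lift_snd]
    have hbig : IsPullback ((AlgSp.yon S).map m ≫ b'') ((AlgSp.yon S).map (hi.1.snd E.obj.hom))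
        i.hom ((AlgSp.yon S).map j ≫ b) := by
      rw [hm1]
      exact hi.1.isPullback E.obj.hom
    have hleft : IsPullback ((AlgSp.yon S).map m) ((AlgSp.yon S).map (hi.1.snd E.obj.hom))
        ((AlgSp.yon S).map ι) ((AlgSp.yon S).map j) :=
      IsPullback.of_right hbig (by rw [← Functor.map_comp, ← Functor.map_comp, hm2]) sq
    have hsch : IsPullback m.left (hi.1.snd E.obj.hom).left ι.left (𝒱.f k) :=
      (IsPullback.of_map (AlgSp.yon S) hm2 hleft).map (Over.forget S)
    rw [← hsch.isoPullback_hom_snd] at hc
    exact (MorphismProperty.cancel_left_of_respectsIso @LocallyOfFinitePresentation _ _).1 hc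

end Groth.Agent.S9997
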